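import Groth.Agent.AlgSpLib.Descent
import Groth.Agent.Et18.Descent
import Mathlib.AlgebraicGeometry.Limits

/-!
Properties of morphisms of schemes which descend along fpqc maps and are Zariski local on the target
are local on the target for the fppf precoverage.
-/

universe u

open CategoryTheory CategoryTheory.Limits AlgebraicGeometry Opposite

namespace Groth.Agent.AlgSpLib

set_option backward.isDefEq.respectTransparency.types false

/-- the morphisms along which fppf descent holds -/
abbrev FPPF : MorphismProperty Scheme.{u} := @Surjective ⊓ @Flat ⊓ @LocallyOfFinitePresentation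

theorem isLocalAtTarget_fppf (P : MorphismProperty Scheme.{u}) [P.IsStableUnderBaseChange]
    [IsZariskiLocalAtTarget P] [P.DescendsAlong FPPF.{u}] :
    P.IsLocalAtTarget Scheme.fppfPrecoverage := by
  have : P.RespectsIso := inferInstance
  have : Precoverage.Small.{u} Scheme.fppfPrecoverage.{u} :=
    inferInstanceAs (Precoverage.Small.{u} (Scheme.precoverage (@Flat ⊓ @LocallyOfFinitePresentation)))
  refine MorphismProperty.IsLocalAtTarget.mk_of_small.{u} (fun 𝒰 hf i => P.pullback_snd _ _ hf) ?_
  intro X Y f 𝒰 h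
  obtain ⟨hsurj, hprop⟩ :=
    (Scheme.presieve₀_mem_precoverage_iff (P := @Flat ⊓ @LocallyOfFinitePresentation) 𝒰.toPreZeroHypercover).1 𝒰.mem₀
  let q : (∐ 𝒰.X) ⟶ Y := Sigma.desc 𝒰.f
  have hq : FPPF q := by
    refine ⟨⟨⟨fun y => ?_⟩, ?_⟩, ?_⟩
    · obtain ⟨i, x, hx⟩ := hsurj y
      refine ⟨Sigma.ι 𝒰.X i x, ?_⟩
      rw [← Scheme.Hom.comp_apply, Sigma.ι_desc]
      exact hx
    · exact IsZariskiLocalAtSource.sigmaDesc (fun i => (hprop i).1)
    · exact IsZariskiLocalAtSource.sigmaDesc (fun i => (hprop i).2)
  refine MorphismProperty.of_pullback_snd_of_descendsAlong (Q := FPPF.{u}) hq ?_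
  refine IsZariskiLocalAtTarget.of_openCover (sigmaOpenCover 𝒰.X) fun i => ?_
  have sq := (IsPullback.of_hasPullback (pullback.snd f q) ((sigmaOpenCover 𝒰.X).f i)).paste_horiz
    (IsPullback.of_hasPullback f q)
  have sq' : IsPullback (pullback.fst (pullback.snd f q) ((sigmaOpenCover 𝒰.X).f i) ≫ pullback.fst f q)
      (pullback.snd (pullback.snd f q) ((sigmaOpenCover 𝒰.X).f i)) f (𝒰.f i) := by
    have : (sigmaOpenCover 𝒰.X).f i ≫ q = 𝒰.f i := Sigma.ι_desc _ _
    rwa [this] at sq
  change P (pullback.snd (pullback.snd f q) ((sigmaOpenCover 𝒰.X).f i))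
  rw [show pullback.snd (pullback.snd f q) ((sigmaOpenCover 𝒰.X).f i) =
    sq'.isoPullback.hom ≫ pullback.snd f (𝒰.f i) from sq'.isoPullback_hom_snd.symm]
  exact (P.cancel_left_of_respectsIso _ _).2 (h i)

instance isLocalAtTarget_lft : MorphismProperty.IsLocalAtTarget @LocallyOfFiniteType.{u}
    Scheme.fppfPrecoverage :=
  isLocalAtTarget_fppf _

theorem flat_codescendsAlong :
    RingHom.CodescendsAlong RingHom.Flat RingHom.FaithfullyFlat := by
  refine .mk _ RingHom.Flat.respectsIso fun R A B _ _ _ _ _ h h' ↦ ?_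
  rw [RingHom.flat_algebraMap_iff] at h' ⊢
  rw [RingHom.faithfullyFlat_algebraMap_iff] at h
  exact Module.Flat.of_flat_tensorProduct R B A

theorem descends_flat : MorphismProperty.DescendsAlong @Flat Et18.FPQC.{u} :=
  HasRingHomProperty.descendsAlong_flat flat_codescendsAlong

instance isLocalAtTarget_flat : MorphismProperty.IsLocalAtTarget @Flat.{u} Scheme.fppfPrecoverage :=
  haveI := descends_flat.{u}
  isLocalAtTarget_fppf _

instance descendsAlong_lqfFt :
    MorphismProperty.DescendsAlong (@LocallyQuasiFinite ⊓ @LocallyOfFiniteType : MorphismProperty Scheme.{u})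
      FPPF.{u} :=
  haveI := Et18.descends_locallyQuasiFinite.{u}
  inferInstance

instance isLocalAtTarget_lqfFt :
    MorphismProperty.IsLocalAtTarget (@LocallyQuasiFinite ⊓ @LocallyOfFiniteType : MorphismProperty Scheme.{u})
      Scheme.fppfPrecoverage :=
  haveI : IsZariskiLocalAtTarget
    (@LocallyQuasiFinite ⊓ @LocallyOfFiniteType : MorphismProperty Scheme.{u}) := inferInstance
  isLocalAtTarget_fppf _

instance isLocalAtTarget_lfp :
    MorphismProperty.IsLocalAtTarget @LocallyOfFinitePresentation.{u} Scheme.fppfPrecoverage :=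
  isLocalAtTarget_fppf _

instance isLocalAtTarget_smooth :
    MorphismProperty.IsLocalAtTarget @Smooth.{u} Scheme.fppfPrecoverage :=
  isLocalAtTarget_fppf _

instance isLocalAtTarget_etale :
    MorphismProperty.IsLocalAtTarget @Etale.{u} Scheme.fppfPrecoverage :=
  isLocalAtTarget_fppf _

instance isLocalAtTarget_formallyUnramified :
    MorphismProperty.IsLocalAtTarget @FormallyUnramified.{u} Scheme.fppfPrecoverage :=
  isLocalAtTarget_fppf _

instance isLocalAtTarget_surjective :
    MorphismProperty.IsLocalAtTarget @Surjective.{u} Scheme.fppfPrecoverage :=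
  isLocalAtTarget_fppf _

instance isLocalAtTarget_universallyOpen :
    MorphismProperty.IsLocalAtTarget @UniversallyOpen.{u} Scheme.fppfPrecoverage :=
  isLocalAtTarget_fppf _

instance isLocalAtTarget_universallyClosed :
    MorphismProperty.IsLocalAtTarget @UniversallyClosed.{u} Scheme.fppfPrecoverage :=
  isLocalAtTarget_fppf _

instance isLocalAtTarget_universallyInjective :
    MorphismProperty.IsLocalAtTarget @UniversallyInjective.{u} Scheme.fppfPrecoverage :=
  isLocalAtTarget_fppf _

instance isLocalAtTarget_isOpenImmersion :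
    MorphismProperty.IsLocalAtTarget @IsOpenImmersion.{u} Scheme.fppfPrecoverage :=
  isLocalAtTarget_fppf _

instance isLocalAtTarget_isomorphisms :
    MorphismProperty.IsLocalAtTarget (MorphismProperty.isomorphisms Scheme.{u})
      Scheme.fppfPrecoverage :=
  isLocalAtTarget_fppf _

instance isLocalAtTarget_quasiCompact :
    MorphismProperty.IsLocalAtTarget @QuasiCompact.{u} Scheme.fppfPrecoverage :=
  haveI := Et18.descends_quasiCompact.{u}
  isLocalAtTarget_fppf _

instance isLocalAtTarget_quasiSeparated :
    MorphismProperty.IsLocalAtTarget @QuasiSeparated.{u} Scheme.fppfPrecoverage :=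
  haveI := Et18.descends_quasiSeparated.{u}
  isLocalAtTarget_fppf _

instance isLocalAtTarget_isAffineHom :
    MorphismProperty.IsLocalAtTarget @IsAffineHom.{u} Scheme.fppfPrecoverage :=
  haveI := Et18.descends_isAffineHom.{u}
  isLocalAtTarget_fppf _

instance isLocalAtTarget_isIntegralHom :
    MorphismProperty.IsLocalAtTarget @IsIntegralHom.{u} Scheme.fppfPrecoverage :=
  haveI := Et18.descends_isIntegralHom.{u}
  isLocalAtTarget_fppf _

instance isLocalAtTarget_monomorphisms :
    MorphismProperty.IsLocalAtTarget (MorphismProperty.monomorphisms Scheme.{u})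
      Scheme.fppfPrecoverage :=
  haveI := Et18.descends_monomorphisms.{u}
  isLocalAtTarget_fppf _

instance isLocalAtTarget_isFinite :
    MorphismProperty.IsLocalAtTarget @IsFinite.{u} Scheme.fppfPrecoverage :=
  haveI := Et18.descends_isFinite.{u}
  isLocalAtTarget_fppf _

instance isLocalAtTarget_isClosedImmersion :
    MorphismProperty.IsLocalAtTarget @IsClosedImmersion.{u} Scheme.fppfPrecoverage :=
  haveI := Et18.descends_isClosedImmersion.{u}
  isLocalAtTarget_fppf _

instance isLocalAtTarget_isSeparated :
    MorphismProperty.IsLocalAtTarget @IsSeparated.{u} Scheme.fppfPrecoverage :=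
  haveI := Et18.descends_isSeparated.{u}
  isLocalAtTarget_fppf _

instance isLocalAtTarget_isProper :
    MorphismProperty.IsLocalAtTarget @IsProper.{u} Scheme.fppfPrecoverage :=
  haveI := Et18.descends_isProper.{u}
  isLocalAtTarget_fppf _

end Groth.Agent.AlgSpLib
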