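import Groth.Agent.AlgSpLib.SourceRing
import Mathlib.RingTheory.Etale.StandardEtale
import Mathlib.RingTheory.Unramified.LocalStructure
import Mathlib.RingTheory.Smooth.Locus

/-!
Descent of finite presentation and smoothness of `R → A` along etale faithfully flat maps `A → B`.
-/

universe u

open TensorProduct

namespace Groth.Agent.AlgSpLib

theorem exists_standard_cover {A B : Type u} [CommRing A] [CommRing B] [Algebra A B]
    [Algebra.Etale A B] :
    ∃ s : Finset B, Ideal.span (s : Set B) = ⊤ ∧
      ∀ b ∈ s, Algebra.IsStandardEtale A (Localization.Away b) := by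
  have h : Ideal.span {b : B | Algebra.IsStandardEtale A (Localization.Away b)} = ⊤ := by
    by_contra hne
    obtain ⟨m, hm, hle⟩ := Ideal.exists_le_maximal _ hne
    have : Algebra.IsEtaleAt A m :=
      Set.eq_univ_iff_forall.1
        (Algebra.etaleLocus_eq_univ_iff.mpr (inferInstance : Algebra.FormallyEtale A B))
        (⟨m, hm.isPrime⟩ : PrimeSpectrum B)
    obtain ⟨f, hf, hstd⟩ := Algebra.IsEtaleAt.exists_isStandardEtale (R := A) m
    exact hf (hle (Ideal.subset_span hstd))
  obtain ⟨s, hs, hs'⟩ := (Ideal.span_eq_top_iff_finite _).1 h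
  exact ⟨s, hs', fun b hb => hs hb⟩

/-- standard etale algebras lift along surjections -/
theorem exists_lift_standardEtale {P A T : Type u} [CommRing P] [CommRing A] [CommRing T]
    [Algebra P A] [Algebra A T] [Algebra P T] [IsScalarTower P A T] [Algebra.IsStandardEtale A T]
    (hs : Function.Surjective (algebraMap P A)) :
    ∃ (pr : StandardEtalePair P) (σ : pr.Ring →ₐ[P] T), Function.Surjective σ ∧
      RingHom.ker σ = (RingHom.ker (algebraMap P A)).map (algebraMap P pr.Ring) := by
  obtain ⟨pres⟩ := Algebra.IsStandardEtale.nonempty_standardEtalePresentation (R := A) (S := T)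
  obtain ⟨f, hf, -, hfm⟩ := Polynomial.lifts_and_natDegree_eq_and_monic
    ((Polynomial.lifts_iff_coeff_lifts _).2 fun n => hs _) pres.monic_f (f := algebraMap P A)
  obtain ⟨g, hg⟩ := Polynomial.map_surjective _ hs pres.g
  let pr : StandardEtalePair P :=
    ⟨f, hfm, g * Polynomial.derivative f, g, 0, 1, by ring⟩
  have hmap : pr.HasMap pres.x := by
    refine ⟨?_, ?_⟩
    · show Polynomial.aeval pres.x f = 0
      rw [← Polynomial.aeval_map_algebraMap A, hf]
      exact pres.hasMap.1
    · show IsUnit (Polynomial.aeval pres.x (g * Polynomial.derivative f))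
      rw [← Polynomial.aeval_map_algebraMap A, Polynomial.map_mul, ← Polynomial.derivative_map, hf,
        hg, map_mul]
      exact pres.hasMap.2.mul pres.hasMap.isUnit_derivative_f
  refine ⟨pr, pr.lift pres.x hmap, ?_⟩
  let σ := pr.lift pres.x hmap
  let I := RingHom.ker (algebraMap P A)
  let IQ := I.map (algebraMap P pr.Ring)
  have hle : IQ ≤ RingHom.ker σ := Ideal.map_le_iff_le_comap.2 fun x hx => by
    have h : algebraMap P A x = 0 := hx
    simp [σ, IsScalarTower.algebraMap_apply P A T, h]
  let ι : A →+* pr.Ring ⧸ IQ := RingHom.liftOfSurjective (algebraMap P A) hs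
    ⟨(Ideal.Quotient.mk IQ).comp (algebraMap P pr.Ring), fun x hx =>
      Ideal.Quotient.eq_zero_iff_mem.2 (Ideal.mem_map_of_mem _ hx)⟩
  letI := ι.toAlgebra
  have : IsScalarTower P A (pr.Ring ⧸ IQ) := .of_algebraMap_eq fun x => by
    show _ = ι (algebraMap P A x)
    exact (RingHom.liftOfRightInverse_comp_apply (algebraMap P A) _
      (Function.rightInverse_surjInv hs)
      ⟨(Ideal.Quotient.mk IQ).comp (algebraMap P pr.Ring), fun y hy =>
        Ideal.Quotient.eq_zero_iff_mem.2 (Ideal.mem_map_of_mem _ hy)⟩ x).symm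
  have hmap' : pres.P.HasMap (Ideal.Quotient.mk IQ pr.X) := by
    have h := pr.hasMap_X.map (Ideal.Quotient.mkₐ P IQ)
    refine ⟨?_, ?_⟩
    · rw [show pres.P.f = f.map (algebraMap P A) from hf.symm, Polynomial.aeval_map_algebraMap]
      exact h.1
    · rw [show pres.P.g = g.map (algebraMap P A) from hg.symm, Polynomial.aeval_map_algebraMap]
      have h2 : IsUnit (Polynomial.aeval (Ideal.Quotient.mk IQ pr.X)
          (g * Polynomial.derivative f)) := h.2
      rw [map_mul] at h2
      exact (IsUnit.mul_iff.1 h2).1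
  let ρ : T →ₐ[A] pr.Ring ⧸ IQ := (pres.P.lift _ hmap').comp pres.equivRing.toAlgHom
  have hρx : ρ pres.x = Ideal.Quotient.mk IQ pr.X := by simp [ρ]
  have hcomp : (ρ.restrictScalars P).comp σ = Ideal.Quotient.mkₐ P IQ := by
    apply StandardEtalePair.hom_ext
    simp [σ, hρx]
  let σb : pr.Ring ⧸ IQ →+* T := Ideal.Quotient.lift IQ σ.toRingHom fun x hx => hle hx
  let σA : pr.Ring ⧸ IQ →ₐ[A] T :=
    { σb with
      commutes' := fun a => by
        obtain ⟨x, rfl⟩ := hs a
        rw [← IsScalarTower.algebraMap_apply P A, ← IsScalarTower.algebraMap_apply P A T]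
        exact σ.commutes x }
  have hid : σA.comp ρ = AlgHom.id A T := by
    apply pres.hom_ext
    simp only [AlgHom.comp_apply, hρx, AlgHom.id_apply]
    exact pr.lift_X _ hmap
  refine ⟨fun t => ?_, le_antisymm (fun x hx => ?_) hle⟩
  · obtain ⟨q, hq⟩ := Ideal.Quotient.mk_surjective (ρ t)
    refine ⟨q, ?_⟩
    have := AlgHom.congr_fun hid t
    rw [AlgHom.comp_apply, ← hq] at this
    exact this
  · have := AlgHom.congr_fun hcomp x
    rw [AlgHom.comp_apply, show σ x = 0 from hx, map_zero] at this
    exact Ideal.Quotient.eq_zero_iff_mem.1 this.symm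

/-- an element killed by a flat base change has annihilator generating the unit ideal -/
theorem map_ker_toSpanSingleton_eq_top {A B M : Type u} [CommRing A] [CommRing B] [Algebra A B]
    [Module.Flat A B] [AddCommGroup M] [Module A M] (m : M)
    (h : m ⊗ₜ[A] (1 : B) = 0) :
    Ideal.map (algebraMap A B) (LinearMap.ker (LinearMap.toSpanSingleton A M m)) = ⊤ := by
  let f := LinearMap.toSpanSingleton A M m
  let I : Ideal A := LinearMap.ker f
  have hinj : Function.Injective (LinearMap.rTensor B (I.liftQ f le_rfl)) :=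
    Module.Flat.rTensor_preserves_injective_linearMap _
      (LinearMap.ker_eq_bot.1 (Submodule.ker_liftQ_eq_bot _ _ _ le_rfl))
  have h1 : (Submodule.Quotient.mk (1 : A) : A ⧸ I) ⊗ₜ[A] (1 : B) = 0 := by
    apply hinj
    rw [LinearMap.rTensor_tmul, Submodule.liftQ_apply, map_zero]
    simpa [f] using h
  have h2 := congrArg (TensorProduct.quotTensorEquivQuotSMul B I) h1
  rw [map_zero, Ideal.Quotient.mk_eq_mk, TensorProduct.quotTensorEquivQuotSMul_mk_tmul,
    one_smul, Submodule.Quotient.mk_eq_zero, Ideal.smul_top_eq_map] at h2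
  exact (Ideal.eq_top_iff_one _).2 h2

theorem finitePresentation_of_comp {R A B : Type u} [CommRing R] [CommRing A] [CommRing B]
    (φ : R →+* A) (ψ : A →+* B) (he : ψ.Etale) (hψ : ψ.FaithfullyFlat)
    (h : (ψ.comp φ).FinitePresentation) : φ.FinitePresentation := by
  classical
  have hft := finiteType_of_comp φ ψ he hψ (RingHom.FiniteType.of_finitePresentation h)
  algebraize [φ, ψ, ψ.comp φ]
  obtain ⟨n, π, hπ⟩ := Algebra.FiniteType.iff_quotient_mvPolynomial''.1
    (inferInstance : Algebra.FiniteType R A)
  letI := π.toRingHom.toAlgebra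
  have : IsScalarTower R (MvPolynomial (Fin n) R) A := .of_algebraMap_eq fun r => (π.commutes r).symm
  let I : Ideal (MvPolynomial (Fin n) R) := RingHom.ker (algebraMap (MvPolynomial (Fin n) R) A)
  letI : Algebra (MvPolynomial (Fin n) R) B := ((algebraMap A B).comp π.toRingHom).toAlgebra
  have : IsScalarTower (MvPolynomial (Fin n) R) A B := .of_algebraMap_eq' rfl
  have hTower : ∀ b : B, IsScalarTower (MvPolynomial (Fin n) R) A (Localization.Away b) := fun b =>
    .of_algebraMap_eq fun x => by
      rw [IsScalarTower.algebraMap_apply (MvPolynomial (Fin n) R) B (Localization.Away b),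
        IsScalarTower.algebraMap_apply A B (Localization.Away b),
        IsScalarTower.algebraMap_apply (MvPolynomial (Fin n) R) A B]
  have : IsScalarTower R (MvPolynomial (Fin n) R) B := .of_algebraMap_eq fun r => by
    rw [IsScalarTower.algebraMap_apply (MvPolynomial (Fin n) R) A B,
      ← IsScalarTower.algebraMap_apply R _ A, ← IsScalarTower.algebraMap_apply R A B]
  obtain ⟨s, hs, hstd⟩ := exists_standard_cover (A := A) (B := B)
  have hlift : ∀ b : s, ∃ (pr : StandardEtalePair (MvPolynomial (Fin n) R))
      (σ : pr.Ring →ₐ[MvPolynomial (Fin n) R] Localization.Away (b : B)), Function.Surjective σ ∧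
      RingHom.ker σ = I.map (algebraMap _ pr.Ring) := fun b =>
    haveI := hstd b b.2
    haveI := hTower b
    exists_lift_standardEtale hπ
  choose pr σ hσ hker using hlift
  have hfg : ∀ b : s, (I.map (algebraMap _ (pr b).Ring)).FG := by
    intro b
    letI : Algebra R (pr b).Ring :=
      ((algebraMap (MvPolynomial (Fin n) R) (pr b).Ring).comp (algebraMap R _)).toAlgebra
    have : IsScalarTower R (MvPolynomial (Fin n) R) (pr b).Ring := .of_algebraMap_eq' rfl
    have : Algebra.FinitePresentation R (pr b).Ring :=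
      Algebra.FinitePresentation.trans R (MvPolynomial (Fin n) R) _
    have : Algebra.FinitePresentation B (Localization.Away (b : B)) :=
      IsLocalization.Away.finitePresentation (b : B)
    have : Algebra.FinitePresentation R (Localization.Away (b : B)) :=
      Algebra.FinitePresentation.trans R B _
    rw [← hker b]
    exact Algebra.FinitePresentation.ker_fG_of_surjective ((σ b).restrictScalars R) (hσ b)
  have hfin : ∀ b : s, ∃ t : Finset (MvPolynomial (Fin n) R), (t : Set (MvPolynomial (Fin n) R)) ⊆ (I : Set (MvPolynomial (Fin n) R)) ∧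
      I.map (algebraMap _ (pr b).Ring) =
        (Ideal.span (t : Set (MvPolynomial (Fin n) R))).map (algebraMap _ (pr b).Ring) := by
    intro b
    have h1 : (Ideal.span (algebraMap (MvPolynomial (Fin n) R) (pr b).Ring '' (I : Set (MvPolynomial (Fin n) R)))).FG := hfg b
    obtain ⟨t, ht, hspan⟩ :=
      (Submodule.fg_span_iff_fg_span_finset_subset _).1 h1
    obtain ⟨t', ht', rfl⟩ := Finset.subset_set_image_iff.1 ht
    refine ⟨t', ht', ?_⟩
    rw [Ideal.map_span, ← Finset.coe_image]
    exact hspan
  choose t htI ht using hfin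
  -- an element of `I` which is one off the image of the charts
  let Q := fun b : s => (pr b).Ring
  let U : Set (PrimeSpectrum (MvPolynomial (Fin n) R)) :=
    ⋃ b : s, Set.range (PrimeSpectrum.comap (algebraMap _ (Q b)))
  have hU : IsOpen U := isOpen_iUnion fun b =>
    (PrimeSpectrum.isOpenMap_comap_of_hasGoingDown_of_finitePresentation
      (R := MvPolynomial (Fin n) R) (S := Q b)).isOpen_range
  obtain ⟨J, hJ⟩ := (PrimeSpectrum.isClosed_iff_zeroLocus_ideal _).1 hU.isClosed_compl
  have hIJ : I ⊔ J = ⊤ := by
    by_contra hne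
    obtain ⟨m, hm, hle⟩ := Ideal.exists_le_maximal _ hne
    have hnotU : (⟨m, hm.isPrime⟩ : PrimeSpectrum (MvPolynomial (Fin n) R)) ∈ Uᶜ := by
      rw [hJ]; exact le_trans le_sup_right hle
    apply hnotU
    obtain ⟨q, hq⟩ : (⟨m, hm.isPrime⟩ : PrimeSpectrum (MvPolynomial (Fin n) R)) ∈
        Set.range (PrimeSpectrum.comap (algebraMap (MvPolynomial (Fin n) R) A)) := by
      rw [range_comap_of_surjective _ (algebraMap (MvPolynomial (Fin n) R) A) hπ]
      exact le_trans le_sup_left hle
    obtain ⟨r, hr⟩ := PrimeSpectrum.comap_surjective_of_faithfullyFlat (A := A) (B := B) q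
    obtain ⟨b, hb, hbr⟩ : ∃ b ∈ s, b ∉ r.asIdeal := by
      by_contra! hall
      exact r.isPrime.ne_top (top_le_iff.1 (hs ▸ Ideal.span_le.2 hall))
    obtain ⟨r', hr'⟩ : r ∈ Set.range (PrimeSpectrum.comap (algebraMap B (Localization.Away b))) := by
      rw [PrimeSpectrum.localization_away_comap_range _ b]
      exact hbr
    refine Set.mem_iUnion.2 ⟨⟨b, hb⟩, PrimeSpectrum.comap (σ ⟨b, hb⟩).toRingHom r', ?_⟩
    rw [← PrimeSpectrum.comap_comp_apply]
    erw [AlgHom.comp_algebraMap]
    rw [IsScalarTower.algebraMap_eq (MvPolynomial (Fin n) R) A (Localization.Away b),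
      IsScalarTower.algebraMap_eq A B (Localization.Away b), PrimeSpectrum.comap_comp_apply,
      PrimeSpectrum.comap_comp_apply, hr', hr, hq]
  obtain ⟨a, haI, j, hj, haj⟩ := Submodule.mem_sup.1 ((Ideal.eq_top_iff_one _).1 hIJ)
  let t₀ : Finset (MvPolynomial (Fin n) R) := insert a (Finset.univ.biUnion t)
  let I₀ := Ideal.span (t₀ : Set (MvPolynomial (Fin n) R))
  have hle : I₀ ≤ I := by
    refine Ideal.span_le.2 fun x hx => ?_
    simp only [t₀, Finset.coe_insert, Finset.coe_biUnion, Set.mem_insert_iff, Set.mem_iUnion] at hx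
    rcases hx with rfl | ⟨b, -, hb⟩
    · exact haI
    · exact htI b hb
  have hI : I = I₀ := by
    refine le_antisymm (fun x hx => ?_) hle
    let ann : Ideal (MvPolynomial (Fin n) R) := LinearMap.ker (LinearMap.toSpanSingleton (MvPolynomial (Fin n) R)
      (MvPolynomial (Fin n) R ⧸ I₀) (Ideal.Quotient.mk I₀ x))
    have hann : ann = ⊤ := by
      by_contra hne
      obtain ⟨m, hm, hmle⟩ := Ideal.exists_le_maximal _ hne
      have hI₀ : I₀ ≤ m := fun y hy => hmle (by
        simp only [ann, LinearMap.mem_ker, LinearMap.toSpanSingleton_apply,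
          ← Ideal.Quotient.mk_eq_mk, ← Submodule.Quotient.mk_smul, Submodule.Quotient.mk_eq_zero]
        exact I₀.mul_mem_right x hy)
      have hja : j ∉ m := fun hjm => hm.ne_top ((Ideal.eq_top_iff_one _).2 (haj ▸
        m.add_mem (hI₀ (Ideal.subset_span (Finset.mem_insert_self _ _))) hjm))
      have hin : (⟨m, hm.isPrime⟩ : PrimeSpectrum (MvPolynomial (Fin n) R)) ∈ U := by
        by_contra hnU
        rw [← Set.mem_compl_iff, hJ] at hnU
        exact hja (hnU hj)
      obtain ⟨b, q, hq⟩ := Set.mem_iUnion.1 hin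
      have hzero : (Ideal.Quotient.mk I₀ x) ⊗ₜ[MvPolynomial (Fin n) R] (1 : Q b) = 0 := by
        apply (TensorProduct.quotTensorEquivQuotSMul (Q b) I₀).injective
        rw [map_zero, TensorProduct.quotTensorEquivQuotSMul_mk_tmul, Submodule.Quotient.mk_eq_zero,
          Ideal.smul_top_eq_map, Submodule.restrictScalars_mem, Algebra.smul_def, mul_one]
        have h3 : algebraMap _ (Q b) x ∈ I.map (algebraMap _ (Q b)) := Ideal.mem_map_of_mem _ hx
        rw [ht b] at h3
        refine Ideal.map_mono (Ideal.span_mono ?_) h3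
        intro y hy
        exact Finset.mem_insert_of_mem (Finset.mem_biUnion.2 ⟨b, Finset.mem_univ _, hy⟩)
      have htop := map_ker_toSpanSingleton_eq_top (B := Q b) _ hzero
      have : ann.map (algebraMap _ (Q b)) ≤ q.asIdeal := Ideal.map_le_iff_le_comap.2
        (le_trans hmle (le_of_eq (congrArg PrimeSpectrum.asIdeal hq).symm))
      exact q.isPrime.ne_top (top_le_iff.1 (htop ▸ this))
    have h1 : (1 : MvPolynomial (Fin n) R) ∈ ann := hann ▸ Submodule.mem_top
    simp only [ann, LinearMap.mem_ker, LinearMap.toSpanSingleton_apply, one_smul] at h1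
    exact Ideal.Quotient.eq_zero_iff_mem.1 h1
  exact Algebra.FinitePresentation.of_surjective (f := π) hπ ⟨t₀, hI.symm⟩

theorem smooth_of_comp {R A B : Type u} [CommRing R] [CommRing A] [CommRing B]
    (φ : R →+* A) (ψ : A →+* B) (he : ψ.Etale) (hψ : ψ.FaithfullyFlat)
    (h : (ψ.comp φ).Smooth) : φ.Smooth := by
  have hfp := finitePresentation_of_comp φ ψ he hψ h.finitePresentation
  algebraize [φ, ψ, ψ.comp φ]
  refine ⟨?_, inferInstance⟩
  rw [Algebra.formallySmooth_iff]
  constructor
  · have hflat : Module.Flat B (B ⊗[A] Ω[A⁄R]) :=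
      .of_linearEquiv (KaehlerDifferential.tensorKaehlerEquivOfFormallyEtale R A B)
    have : Module.Flat A Ω[A⁄R] := Module.Flat.of_flat_tensorProduct _ _ B
    exact Module.Flat.projective_of_finitePresentation
  obtain ⟨n, π, hπ⟩ := Algebra.FiniteType.iff_quotient_mvPolynomial''.1
    (inferInstance : Algebra.FiniteType R A)
  let P : Algebra.Extension.{u} R A := .ofSurjective π hπ
  have : Algebra.FormallySmooth R P.Ring :=
    inferInstanceAs (Algebra.FormallySmooth R (MvPolynomial (Fin n) R))
  letI := π.toRingHom.toAlgebra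
  have : IsScalarTower R (MvPolynomial (Fin n) R) A := .of_algebraMap_eq fun r => (π.commutes r).symm
  letI : Algebra (MvPolynomial (Fin n) R) B := ((algebraMap A B).comp π.toRingHom).toAlgebra
  have : IsScalarTower (MvPolynomial (Fin n) R) A B := .of_algebraMap_eq' rfl
  have hTower : ∀ b : B, IsScalarTower (MvPolynomial (Fin n) R) A (Localization.Away b) := fun b =>
    .of_algebraMap_eq fun x => by
      rw [IsScalarTower.algebraMap_apply (MvPolynomial (Fin n) R) B (Localization.Away b),
        IsScalarTower.algebraMap_apply A B (Localization.Away b),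
        IsScalarTower.algebraMap_apply (MvPolynomial (Fin n) R) A B]
  have : IsScalarTower R (MvPolynomial (Fin n) R) B := .of_algebraMap_eq fun r => by
    rw [IsScalarTower.algebraMap_apply (MvPolynomial (Fin n) R) A B,
      ← IsScalarTower.algebraMap_apply R _ A, ← IsScalarTower.algebraMap_apply R A B]
  obtain ⟨s, hs, hstd⟩ := exists_standard_cover (A := A) (B := B)
  have hT : ∀ b : B, b ∈ s → Subsingleton (Localization.Away b ⊗[A] Algebra.H1Cotangent R A) := by
    intro b hb
    have := hstd b hb
    have := hTower b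
    have : Algebra.FormallySmooth R (Localization.Away b) :=
      haveI : Algebra.FormallySmooth B (Localization.Away b) := .of_isLocalization (.powers b)
      .comp R B _
    obtain ⟨pr, σ, hσ, hker⟩ := exists_lift_standardEtale (P := MvPolynomial (Fin n) R)
      (A := A) (T := Localization.Away b) hπ
    letI : Algebra R pr.Ring :=
      ((algebraMap (MvPolynomial (Fin n) R) pr.Ring).comp (algebraMap R _)).toAlgebra
    have : IsScalarTower R (MvPolynomial (Fin n) R) pr.Ring := .of_algebraMap_eq' rfl
    let Q : Algebra.Extension.{u} R (Localization.Away b) := .ofSurjective (σ.restrictScalars R) hσ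
    have : Algebra.FormallySmooth R Q.Ring :=
      (Algebra.FormallySmooth.comp R (MvPolynomial (Fin n) R) pr.Ring :)
    let f : P.Hom Q :=
      { toRingHom := algebraMap (MvPolynomial (Fin n) R) pr.Ring
        toRingHom_algebraMap := fun r => rfl
        algebraMap_toRingHom := fun x => (σ.commutes x).trans
          (IsScalarTower.algebraMap_apply (MvPolynomial (Fin n) R) A (Localization.Away b) x) }
    letI : Algebra P.Ring Q.Ring :=
      (inferInstance : Algebra (MvPolynomial (Fin n) R) pr.Ring)
    have hbij : Function.Bijective ((f.mapKer rfl).liftBaseChange Q.Ring) := by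
      have hflat : Module.Flat P.Ring Q.Ring :=
        (inferInstance : Module.Flat (MvPolynomial (Fin n) R) pr.Ring)
      refine ⟨?_, ?_⟩
      · refine Function.Injective.of_comp (f := fun x : Q.ker => (x : Q.Ring)) ?_
        have e : (fun x : Q.ker => (x : Q.Ring)) ∘ ((f.mapKer rfl).liftBaseChange Q.Ring) =
            (TensorProduct.rid P.Ring Q.Ring) ∘ (LinearMap.lTensor Q.Ring P.ker.subtype) := by
          funext x
          induction x with
          | zero => simp
          | add x y hx hy =>
            simp only [Function.comp_apply] at hx hy ⊢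
            simp only [map_add, Submodule.coe_add, hx, hy]
          | tmul q i =>
            simp only [Function.comp_apply, LinearMap.liftBaseChange_tmul, LinearMap.lTensor_tmul,
              TensorProduct.rid_tmul, Submodule.coe_smul, smul_eq_mul, Submodule.coe_subtype,
              Algebra.smul_def]
            rw [mul_comm]
            rfl
        rw [e]
        exact (TensorProduct.rid _ _).injective.comp
          (Module.Flat.lTensor_preserves_injective_linearMap _ Subtype.val_injective)
      · rintro ⟨x, hx⟩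
        have hx' : x ∈ Ideal.map (algebraMap P.Ring Q.Ring) P.ker := hker.le hx
        suffices ∃ y, (((f.mapKer rfl).liftBaseChange Q.Ring) y : Q.Ring) = x by
          obtain ⟨y, hy⟩ := this
          exact ⟨y, Subtype.ext hy⟩
        refine Submodule.span_induction ?_ ⟨0, by simp⟩ ?_ ?_ hx'
        · rintro _ ⟨i, hi, rfl⟩
          exact ⟨1 ⊗ₜ ⟨i, hi⟩, by simp; rfl⟩
        · rintro x y _ _ ⟨a, ha⟩ ⟨c, hc⟩
          exact ⟨a + c, by simp [ha, hc]⟩
        · rintro r x _ ⟨a, ha⟩
          exact ⟨r • a, by simp [ha]⟩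
    have hfe : f.toRingHom.FormallyEtale :=
      RingHom.formallyEtale_algebraMap.2
        (inferInstance : Algebra.FormallyEtale (MvPolynomial (Fin n) R) pr.Ring)
    have e := Algebra.Extension.tensorH1CotangentOfFormallyEtale f rfl hfe hbij
    have : Subsingleton Q.H1Cotangent := Q.equivH1CotangentOfFormallySmooth.toEquiv.subsingleton
    have : Subsingleton (Localization.Away b ⊗[A] P.H1Cotangent) := e.toEquiv.subsingleton
    exact (LinearEquiv.lTensor (Localization.Away b)
      P.equivH1CotangentOfFormallySmooth.symm).toEquiv.subsingleton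
  refine ⟨fun x y => ?_⟩
  rw [← sub_eq_zero]
  generalize x - y = m
  let I : Ideal A := LinearMap.ker (LinearMap.toSpanSingleton A (Algebra.H1Cotangent R A) m)
  have hB : I.map (algebraMap A B) = ⊤ := by
    by_contra hne
    obtain ⟨q, hq, hle⟩ := Ideal.exists_le_maximal _ hne
    obtain ⟨b, hb, hbq⟩ : ∃ b ∈ s, b ∉ q := by
      by_contra! hall
      exact hq.ne_top (top_le_iff.1 (hs ▸ Ideal.span_le.2 hall))
    have := hstd b hb
    have := hT b hb
    have htop := map_ker_toSpanSingleton_eq_top (B := Localization.Away b) m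
      ((TensorProduct.comm A _ _).injective (Subsingleton.elim _ _))
    obtain ⟨r, hr⟩ : (⟨q, hq.isPrime⟩ : PrimeSpectrum B) ∈
        Set.range (PrimeSpectrum.comap (algebraMap B (Localization.Away b))) := by
      rw [PrimeSpectrum.localization_away_comap_range _ b]
      exact hbq
    rw [IsScalarTower.algebraMap_eq A B (Localization.Away b), ← Ideal.map_map] at htop
    have : (I.map (algebraMap A B)).map (algebraMap B (Localization.Away b)) ≤ r.asIdeal :=
      Ideal.map_le_iff_le_comap.2 (le_trans hle (le_of_eq (congrArg PrimeSpectrum.asIdeal hr).symm))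
    exact r.isPrime.ne_top (top_le_iff.1 (htop ▸ this))
  have h1 : I = ⊤ := by
    rw [← Ideal.comap_map_eq_self_of_faithfullyFlat (B := B) I, hB, Ideal.comap_top]
  simpa [I] using (h1 ▸ Submodule.mem_top : (1 : A) ∈ I)

theorem etale_of_comp {R A B : Type u} [CommRing R] [CommRing A] [CommRing B]
    (φ : R →+* A) (ψ : A →+* B) (he : ψ.Etale) (hψ : ψ.FaithfullyFlat)
    (h : (ψ.comp φ).Etale) : φ.Etale := by
  rw [RingHom.etale_iff_formallyUnramified_and_smooth] at h ⊢
  exact ⟨formallyUnramified_of_comp φ ψ he hψ h.1, smooth_of_comp φ ψ he hψ h.2⟩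

end Groth.Agent.AlgSpLib
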