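import Groth.Agent.EGA43.FlatDescent.Main
import Groth.Agent.AlgSpLib.SourceRingEtale
import Mathlib.RingTheory.Extension.Presentation.Core
import Mathlib.RingTheory.RingHom.FinitePresentation
import Mathlib.RingTheory.Spectrum.Prime.Chevalley

/-!
Finite type and finite presentation descend along faithfully flat finitely presented maps on the
source.
-/

universe u

open TensorProduct

set_option autoImplicit false

noncomputable section

namespace Groth.Agent.AlgSpLib.FppfRing

attribute [local instance] Algebra.TensorProduct.rightAlgebra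

/-- A flat finitely presented algebra comes from a flat finitely presented algebra over a ring of
finite type over `ℤ`. -/
theorem exists_flat_model (A B : Type u) [CommRing A] [CommRing B] [Algebra A B]
    [Algebra.FinitePresentation A B] [Module.Flat A B] :
    ∃ (C : Type u) (_ : CommRing C) (_ : Algebra C A) (B₀ : Type u) (_ : CommRing B₀)
      (_ : Algebra C B₀), Algebra.FiniteType ℤ C ∧ Algebra.FinitePresentation C B₀ ∧
      Module.Flat C B₀ ∧ Nonempty (A ⊗[C] B₀ ≃ₐ[A] B) := by
  let P := Algebra.Presentation.ofFinitePresentation A B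
  let B₁ := P.ModelOfHasCoeffs P.Core
  let e : A ⊗[P.Core] B₁ ≃ₐ[A] B := P.tensorModelOfHasCoeffsEquiv P.Core
  have : IsNoetherianRing P.Core := Algebra.FiniteType.isNoetherianRing ℤ P.Core
  have : Module.Flat A (A ⊗[P.Core] B₁) := Module.Flat.of_linearEquiv e.toLinearEquiv
  obtain ⟨C, hC, hCflat⟩ :=
    Groth.Agent.EGA43.FlatDescent.exists_stage_flat (R := P.Core) B₁ (M := B₁) (A := A)
  have : Algebra.FiniteType P.Core C := C.fg_iff_finiteType.1 hC
  refine ⟨C, inferInstance, inferInstance, C ⊗[P.Core] B₁, inferInstance, inferInstance, ?_,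
    inferInstance, hCflat, ⟨(Algebra.TensorProduct.cancelBaseChange P.Core C A A B₁).trans e⟩⟩
  exact Algebra.FiniteType.trans (S := P.Core) inferInstance inferInstance

/-- A module element killed by a flat base change `B₀` is zero if the image of `Spec B₀` covers the
image of the support. -/
theorem eq_zero_of_tmul_eq_zero {A₀ A₁ B₀ M : Type u} [CommRing A₀] [CommRing A₁] [Algebra A₀ A₁]
    [CommRing B₀] [Algebra A₀ B₀] [Module.Flat A₀ B₀] [AddCommGroup M] [Module A₀ M] [Module A₁ M]
    [IsScalarTower A₀ A₁ M] (m : M)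
    (h : ∀ p : Ideal A₁, p.IsMaximal → LinearMap.ker (LinearMap.toSpanSingleton A₁ M m) ≤ p →
      ∃ q : PrimeSpectrum B₀, q.asIdeal.comap (algebraMap A₀ B₀) = p.comap (algebraMap A₀ A₁))
    (h0 : m ⊗ₜ[A₀] (1 : B₀) = 0) : m = 0 := by
  suffices (1 : A₁) ∈ LinearMap.ker (LinearMap.toSpanSingleton A₁ M m) by simpa using this
  rw [← Ideal.eq_top_iff_one]
  by_contra hne
  obtain ⟨p, hp, hle⟩ := Ideal.exists_le_maximal _ hne
  obtain ⟨q, hq⟩ := h p hp hle
  have htop := map_ker_toSpanSingleton_eq_top (B := B₀) m h0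
  refine q.isPrime.ne_top (top_le_iff.1 (htop ▸ Ideal.map_le_iff_le_comap.2 ?_))
  rw [hq]
  intro x hx
  refine hle ?_
  simpa [algebraMap_smul] using hx

/-- If `A₀ → A` becomes surjective after the flat base change `B₀`, which is faithfully flat over
`A`, then `A` is generated over `A₀` by finitely many elements `g` with `Σ gᵢ jᵢ = 1`. -/
theorem finiteType_of_model {R A B A₀ B₀ : Type u} [CommRing R] [CommRing A] [CommRing B]
    [CommRing A₀] [CommRing B₀] [Algebra R A] [Algebra A B] [Algebra R B] [IsScalarTower R A B]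
    [Algebra R A₀] [Algebra A₀ A] [IsScalarTower R A₀ A] [Algebra.FiniteType R A₀]
    [Algebra A₀ B₀] [Algebra.FinitePresentation A₀ B₀] [Module.Flat A₀ B₀]
    [Module.FaithfullyFlat A B] [Algebra.FiniteType R B] (e : A ⊗[A₀] B₀ ≃ₐ[A] B) :
    Algebra.FiniteType R A := by
  classical
  obtain ⟨s, hs⟩ := (inferInstance : Algebra.FiniteType R B).out
  choose! S hS using fun b : B => TensorProduct.exists_finset (e.symm b)
  have hopen : IsOpen (Set.range (PrimeSpectrum.comap (algebraMap A₀ B₀))) :=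
    (PrimeSpectrum.isOpenMap_comap_of_hasGoingDown_of_finitePresentation (R := A₀) (S := B₀)).isOpen_range
  obtain ⟨J, hJ⟩ := (PrimeSpectrum.isClosed_iff_zeroLocus_ideal _).1 hopen.isClosed_compl
  have hJA : J.map (algebraMap A₀ A) = ⊤ := by
    by_contra hne
    obtain ⟨m, hm, hle⟩ := Ideal.exists_le_maximal _ hne
    obtain ⟨q, hq⟩ := PrimeSpectrum.comap_surjective_of_faithfullyFlat (A := A) (B := B)
      ⟨m, hm.isPrime⟩
    let j : B₀ →+* B := e.toRingEquiv.toRingHom.comp
      (Algebra.TensorProduct.includeRight (R := A₀) (A := A) (B := B₀)).toRingHom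
    have hc : j.comp (algebraMap A₀ B₀) = (algebraMap A B).comp (algebraMap A₀ A) := by
      ext x
      simp only [j, RingHom.comp_apply, AlgHom.toRingHom_eq_coe, RingHom.coe_coe,
        Algebra.TensorProduct.includeRight_apply]
      rw [← e.commutes]
      simp [Algebra.TensorProduct.algebraMap_apply, Algebra.algebraMap_eq_smul_one,
        TensorProduct.smul_tmul, Algebra.TensorProduct.one_def]
    have hin : PrimeSpectrum.comap (algebraMap A₀ A) ⟨m, hm.isPrime⟩ ∈
        Set.range (PrimeSpectrum.comap (algebraMap A₀ B₀)) := by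
      refine ⟨PrimeSpectrum.comap j q, ?_⟩
      rw [← PrimeSpectrum.comap_comp_apply, hc, PrimeSpectrum.comap_comp_apply, hq]
    have hmem : PrimeSpectrum.comap (algebraMap A₀ A) ⟨m, hm.isPrime⟩ ∈
        PrimeSpectrum.zeroLocus (J : Set A₀) := Ideal.map_le_iff_le_comap.1 hle
    rw [← hJ] at hmem
    exact hmem hin
  have h1 : (1 : A) ∈ Submodule.span A ((algebraMap A₀ A) '' (J : Set A₀)) :=
    (Ideal.eq_top_iff_one _).1 hJA
  obtain ⟨n, a, g, hg⟩ := Submodule.mem_span_set'.1 h1
  let T : Finset A := (s.biUnion fun b => (S b).image Prod.fst) ∪ Finset.univ.image a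
  let A₁ : Subalgebra A₀ A := Algebra.adjoin A₀ (T : Set A)
  let θ : A₁ ⊗[A₀] B₀ →ₐ[A₀] A ⊗[A₀] B₀ := Algebra.TensorProduct.map A₁.val (AlgHom.id A₀ B₀)
  have hθ : Function.Surjective θ := by
    let φ₁ : A₁ ⊗[A₀] B₀ →ₐ[R] B :=
      (e.restrictScalars R).toAlgHom.comp (θ.restrictScalars R)
    have hφ₁ : φ₁.range = ⊤ := by
      rw [eq_top_iff, ← hs, Algebra.adjoin_le_iff]
      intro b hb
      have hbe : e.symm b ∈ θ.range := by
        rw [hS b]
        refine Subalgebra.sum_mem _ fun i hi => ?_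
        have hi1 : i.1 ∈ A₁ := Algebra.subset_adjoin (Finset.mem_union_left _
          (Finset.mem_biUnion.2 ⟨b, hb, Finset.mem_image_of_mem _ hi⟩))
        exact ⟨⟨i.1, hi1⟩ ⊗ₜ i.2, rfl⟩
      obtain ⟨x, hx⟩ := hbe
      exact ⟨x, e.symm.injective (by simpa [φ₁] using hx)⟩
    intro y
    obtain ⟨x, hx⟩ := (φ₁.range_eq_top).1 hφ₁ (e y)
    exact ⟨x, e.injective hx⟩
  let N : Submodule A₁ A := LinearMap.range (Algebra.linearMap A₁ A)
  let π : A →ₗ[A₀] A ⧸ N := N.mkQ.restrictScalars A₀
  have hM : ∀ y : (A ⧸ N) ⊗[A₀] B₀, y = 0 := by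
    intro y
    obtain ⟨x, rfl⟩ := LinearMap.rTensor_surjective B₀
      (show Function.Surjective π from N.mkQ_surjective) y
    obtain ⟨z, rfl⟩ := hθ x
    induction z with
    | zero => simp
    | add u v hu hv => simp only [map_add, hu, hv, add_zero]
    | tmul u v =>
      have : π (u : A) = 0 := (Submodule.Quotient.mk_eq_zero N).2 ⟨u, rfl⟩
      change π (u : A) ⊗ₜ[A₀] v = 0
      rw [this, TensorProduct.zero_tmul]
  have hN : ∀ m : A ⧸ N, m = 0 := by
    intro m
    refine eq_zero_of_tmul_eq_zero (A₁ := A₁) (B₀ := B₀) m (fun p hp hle => ?_) (hM _)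
    by_contra! hno
    have hpJ : J ≤ p.comap (algebraMap A₀ A₁) := by
      have : (⟨p.comap (algebraMap A₀ A₁), Ideal.IsPrime.comap _⟩ : PrimeSpectrum A₀) ∈
          (Set.range (PrimeSpectrum.comap (algebraMap A₀ B₀)))ᶜ := by
        rintro ⟨q, hq⟩
        exact hno q (congrArg PrimeSpectrum.asIdeal hq)
      rw [hJ] at this
      exact this
    have h2 : ∀ i, ∃ j ∈ J, algebraMap A₀ A j = (g i : A) := fun i => (g i).2
    choose j hj hjg using h2
    refine hp.ne_top ((Ideal.eq_top_iff_one _).2 ?_)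
    have hval : (1 : A₁) = ∑ i, (⟨a i, Algebra.subset_adjoin (Finset.mem_union_right _
        (Finset.mem_image_of_mem _ (Finset.mem_univ i)))⟩ : A₁) * algebraMap A₀ A₁ (j i) := by
      apply Subtype.ext
      simp only [AddSubmonoidClass.coe_finsetSum, MulMemClass.coe_mul, OneMemClass.coe_one,
        Subalgebra.coe_algebraMap, hjg]
      simpa [smul_eq_mul] using hg.symm
    rw [hval]
    exact Ideal.sum_mem _ fun i _ => Ideal.mul_mem_left _ _ (hpJ (hj i))
  have hA₁ : A₁ = ⊤ := by
    rw [eq_top_iff]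
    intro x _
    obtain ⟨y, hy⟩ := (Submodule.Quotient.mk_eq_zero N).1 (hN (N.mkQ x))
    rw [← hy]
    exact y.2
  have : Algebra.FiniteType A₀ A := ⟨⟨T, hA₁⟩⟩
  exact Algebra.FiniteType.trans (S := A₀) ‹_› ‹_›

/-- Finite type descends along faithfully flat finitely presented ring maps. -/
theorem finiteType {R A B : Type u} [CommRing R] [CommRing A] [CommRing B] [Algebra R A]
    [Algebra A B] [Algebra R B] [IsScalarTower R A B] [Algebra.FiniteType R B]
    [Module.FaithfullyFlat A B] [Algebra.FinitePresentation A B] : Algebra.FiniteType R A := by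
  obtain ⟨C, _, _, B₀, _, _, hC, _, _, ⟨e⟩⟩ := exists_flat_model A B
  let φ : R ⊗[ℤ] C →ₐ[R] A := Algebra.TensorProduct.lift (Algebra.ofId R A)
    (Algebra.ofId C A |>.restrictScalars ℤ) (fun _ _ => Commute.all _ _)
  letI : Algebra (R ⊗[ℤ] C) A := φ.toRingHom.toAlgebra
  have : IsScalarTower R (R ⊗[ℤ] C) A := .of_algebraMap_eq fun r => (φ.commutes r).symm
  have : IsScalarTower C (R ⊗[ℤ] C) A := .of_algebraMap_eq fun c => by
    rw [RingHom.algebraMap_toAlgebra]
    simp [φ, RingHom.algebraMap_toAlgebra]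
  exact finiteType_of_model (A₀ := R ⊗[ℤ] C) (B₀ := (R ⊗[ℤ] C) ⊗[C] B₀)
    ((Algebra.TensorProduct.cancelBaseChange C (R ⊗[ℤ] C) A A B₀).trans e)

/-- If a surjection becomes one with finitely generated kernel after a flat finitely presented base
change which is faithfully flat over the target, its kernel is finitely generated. -/
theorem ker_fg_of_flat {A₁ A B₁ B : Type u} [CommRing A₁] [CommRing A] [CommRing B₁] [CommRing B]
    [Algebra A₁ A] [Algebra A B] [Module.FaithfullyFlat A B] [Algebra A₁ B₁]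
    [Algebra.FinitePresentation A₁ B₁] [Module.Flat A₁ B₁] (e : A ⊗[A₁] B₁ ≃ₐ[A] B)
    (hs : Function.Surjective (algebraMap A₁ A))
    (hfg : (RingHom.ker (Algebra.TensorProduct.includeRight : B₁ →ₐ[A₁] A ⊗[A₁] B₁)).FG) :
    (RingHom.ker (algebraMap A₁ A)).FG := by
  classical
  let K : Ideal A₁ := RingHom.ker (algebraMap A₁ A)
  let ι : B₁ →ₐ[A₁] A ⊗[A₁] B₁ := Algebra.TensorProduct.includeRight
  have hker : RingHom.ker ι = K.map (algebraMap A₁ B₁) := by
    ext x
    have hx : ι x = TensorProduct.map (Algebra.linearMap A₁ A) LinearMap.id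
        ((1 : A₁) ⊗ₜ[A₁] x) := by simp [ι]
    rw [RingHom.mem_ker, ← Submodule.restrictScalars_mem A₁, ← Ideal.smul_top_eq_map]
    have hsurj : Function.Surjective (Algebra.linearMap A₁ A) := hs
    have hexact := rTensor_exact B₁ (LinearMap.exact_subtype_ker_map (Algebra.linearMap A₁ A)) hsurj
    constructor
    · intro h
      obtain ⟨y, hy⟩ := (hexact _).1 (by simpa [ι] using h : LinearMap.rTensor B₁
        (Algebra.linearMap A₁ A) ((1 : A₁) ⊗ₜ[A₁] x) = 0)
      have hx' := congrArg (TensorProduct.lid A₁ B₁) hy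
      rw [TensorProduct.lid_tmul, one_smul] at hx'
      rw [← hx']
      clear hy hx' hx
      induction y with
      | zero => simp
      | add a b ha hb => simpa only [map_add] using Submodule.add_mem _ ha hb
      | tmul a b =>
        simp only [LinearMap.rTensor_tmul, TensorProduct.lid_tmul, Submodule.coe_subtype]
        exact Submodule.smul_mem_smul a.2 Submodule.mem_top
    · intro h
      refine Submodule.smul_induction_on h (fun k hk b _ => ?_) fun a b ha hb => by
        rw [map_add, ha, hb, add_zero]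
      rw [map_smul, Algebra.smul_def, Algebra.TensorProduct.algebraMap_apply]
      rw [RingHom.mem_ker.1 hk, TensorProduct.zero_tmul, zero_mul]
  have hfg' : (Ideal.span (algebraMap A₁ B₁ '' (K : Set A₁))).FG := by
    have e2 : RingHom.ker ι = Ideal.span (algebraMap A₁ B₁ '' (K : Set A₁)) := hker
    rw [← e2]; exact hfg
  obtain ⟨t, ht, hspan⟩ := (Submodule.fg_span_iff_fg_span_finset_subset _).1 hfg'
  obtain ⟨t', ht', rfl⟩ := Finset.subset_set_image_iff.1 ht
  -- the open image of `Spec B₁`
  have hopen : IsOpen (Set.range (PrimeSpectrum.comap (algebraMap A₁ B₁))) :=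
    (PrimeSpectrum.isOpenMap_comap_of_hasGoingDown_of_finitePresentation (R := A₁) (S := B₁)).isOpen_range
  obtain ⟨J, hJ⟩ := (PrimeSpectrum.isClosed_iff_zeroLocus_ideal _).1 hopen.isClosed_compl
  have hKJ : K ⊔ J = ⊤ := by
    by_contra hne
    obtain ⟨m, hm, hle⟩ := Ideal.exists_le_maximal _ hne
    have hnot : (⟨m, hm.isPrime⟩ : PrimeSpectrum A₁) ∈
        (Set.range (PrimeSpectrum.comap (algebraMap A₁ B₁)))ᶜ := by
      rw [hJ]; exact le_trans le_sup_right hle
    apply hnot
    obtain ⟨q, hq⟩ : (⟨m, hm.isPrime⟩ : PrimeSpectrum A₁) ∈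
        Set.range (PrimeSpectrum.comap (algebraMap A₁ A)) := by
      rw [range_comap_of_surjective _ (algebraMap A₁ A) hs]
      exact le_trans le_sup_left hle
    obtain ⟨r, hr⟩ := PrimeSpectrum.comap_surjective_of_faithfullyFlat (A := A) (B := B) q
    refine ⟨PrimeSpectrum.comap (e.toRingEquiv.toRingHom.comp ι.toRingHom) r, ?_⟩
    rw [← PrimeSpectrum.comap_comp_apply, RingHom.comp_assoc]
    have : (ι : B₁ →+* A ⊗[A₁] B₁).comp (algebraMap A₁ B₁) =
        (algebraMap A (A ⊗[A₁] B₁)).comp (algebraMap A₁ A) := by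
      rw [AlgHom.comp_algebraMap, IsScalarTower.algebraMap_eq A₁ A (A ⊗[A₁] B₁)]
    erw [this]
    rw [← RingHom.comp_assoc]
    have he : e.toRingEquiv.toRingHom.comp (algebraMap A (A ⊗[A₁] B₁)) = algebraMap A B :=
      RingHom.ext e.commutes
    erw [he]
    rw [PrimeSpectrum.comap_comp_apply, hr, hq]
  obtain ⟨a, haK, j, hj, haj⟩ := Submodule.mem_sup.1 ((Ideal.eq_top_iff_one _).1 hKJ)
  refine ⟨insert a t', le_antisymm (Ideal.span_le.2 fun x hx => ?_) fun x hx => ?_⟩
  · rcases Finset.mem_insert.1 hx with rfl | hx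
    · exact haK
    · exact ht' hx
  let K₀ : Ideal A₁ := Ideal.span ((insert a t' : Finset A₁) : Set A₁)
  change x ∈ K₀
  rw [← Ideal.Quotient.eq_zero_iff_mem]
  refine eq_zero_of_tmul_eq_zero (A₀ := A₁) (A₁ := A₁) (B₀ := B₁) _ (fun p hp hle => ?_) ?_
  · have hK₀ : K₀ ≤ p := fun y hy => hle (by
      simp only [LinearMap.mem_ker, LinearMap.toSpanSingleton_apply,
        ← Ideal.Quotient.mk_eq_mk, ← Submodule.Quotient.mk_smul, Submodule.Quotient.mk_eq_zero]
      exact K₀.mul_mem_right x hy)
    have hja : j ∉ p := fun hjp => hp.ne_top ((Ideal.eq_top_iff_one _).2 (haj ▸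
      p.add_mem (hK₀ (Ideal.subset_span (Finset.mem_insert_self _ _))) hjp))
    have hin : (⟨p, hp.isPrime⟩ : PrimeSpectrum A₁) ∈
        Set.range (PrimeSpectrum.comap (algebraMap A₁ B₁)) := by
      by_contra hn
      rw [← Set.mem_compl_iff, hJ] at hn
      exact hja (hn hj)
    obtain ⟨q, hq⟩ := hin
    exact ⟨q, congrArg PrimeSpectrum.asIdeal hq⟩
  · apply (TensorProduct.quotTensorEquivQuotSMul B₁ K₀).injective
    rw [map_zero, TensorProduct.quotTensorEquivQuotSMul_mk_tmul, Submodule.Quotient.mk_eq_zero,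
      Ideal.smul_top_eq_map, Submodule.restrictScalars_mem, Algebra.smul_def, mul_one, Ideal.map_span]
    have h3 : algebraMap A₁ B₁ x ∈ Ideal.span (algebraMap A₁ B₁ '' (K : Set A₁)) :=
      Ideal.subset_span (Set.mem_image_of_mem _ hx)
    rw [show Ideal.span (algebraMap A₁ B₁ '' (K : Set A₁)) = _ from hspan] at h3
    refine Ideal.span_mono ?_ h3
    intro y hy
    obtain ⟨z, hz, rfl⟩ := Finset.mem_image.1 hy
    exact Set.mem_image_of_mem _ (Finset.mem_insert_of_mem hz)

/-- A surjection `A₁ → A` from a finitely presented algebra has finitely generated kernel if `B` is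
finitely presented and comes from a flat finitely presented `A₁`-algebra. -/
theorem finitePresentation_of_model {R A B A₁ B₁ : Type u} [CommRing R] [CommRing A] [CommRing B]
    [CommRing A₁] [CommRing B₁] [Algebra R A] [Algebra A B] [Algebra R B] [IsScalarTower R A B]
    [Algebra R A₁] [Algebra A₁ A] [IsScalarTower R A₁ A] [Algebra.FinitePresentation R A₁]
    [Algebra A₁ B₁] [Algebra.FinitePresentation A₁ B₁] [Module.Flat A₁ B₁]
    [Module.FaithfullyFlat A B] [Algebra.FinitePresentation R B] (e : A ⊗[A₁] B₁ ≃ₐ[A] B)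
    (hs : Function.Surjective (algebraMap A₁ A)) : Algebra.FinitePresentation R A := by
  let _ : Algebra R B₁ := ((algebraMap A₁ B₁).comp (algebraMap R A₁)).toAlgebra
  have : IsScalarTower R A₁ B₁ := .of_algebraMap_eq' rfl
  have : Algebra.FinitePresentation R B₁ := Algebra.FinitePresentation.trans R A₁ B₁
  let f : B₁ →ₐ[R] B :=
    { toRingHom := e.toRingEquiv.toRingHom.comp
        (Algebra.TensorProduct.includeRight : B₁ →ₐ[A₁] A ⊗[A₁] B₁).toRingHom
      commutes' := fun r => by
        have h1 : (Algebra.TensorProduct.includeRight : B₁ →ₐ[A₁] A ⊗[A₁] B₁) (algebraMap R B₁ r) =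
            algebraMap A (A ⊗[A₁] B₁) (algebraMap R A r) := by
          rw [IsScalarTower.algebraMap_apply R A₁ B₁, AlgHom.commutes,
            IsScalarTower.algebraMap_apply A₁ A (A ⊗[A₁] B₁), ← IsScalarTower.algebraMap_apply R A₁ A]
        exact (congrArg e h1).trans ((e.commutes _).trans (IsScalarTower.algebraMap_apply R A B r).symm) }
  have hf : Function.Surjective f :=
    e.surjective.comp (Algebra.TensorProduct.includeRight_surjective B₁ hs)
  have hfg := Algebra.FinitePresentation.ker_fG_of_surjective f hf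
  have hK : (RingHom.ker (algebraMap A₁ A)).FG := ker_fg_of_flat e hs (by
    convert hfg using 1
    ext x
    exact ⟨fun h => (congrArg e h).trans (map_zero e), fun h => e.injective (h.trans (map_zero e).symm)⟩)
  exact Algebra.FinitePresentation.of_surjective (f := IsScalarTower.toAlgHom R A₁ A) hs hK

/-- Finite presentation descends along faithfully flat finitely presented ring maps. -/
theorem finitePresentation {R A B : Type u} [CommRing R] [CommRing A] [CommRing B] [Algebra R A]
    [Algebra A B] [Algebra R B] [IsScalarTower R A B] [Algebra.FinitePresentation R B]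
    [Module.FaithfullyFlat A B] [Algebra.FinitePresentation A B] :
    Algebra.FinitePresentation R A := by
  classical
  have hft : Algebra.FiniteType R A := finiteType (B := B)
  obtain ⟨n, π, hπ⟩ := Algebra.FiniteType.iff_quotient_mvPolynomial''.1 hft
  obtain ⟨C, _, _, B₀, _, _, hC, _, _, ⟨e⟩⟩ := exists_flat_model A B
  obtain ⟨k, σ, hσ, G, hG⟩ := (Algebra.FinitePresentation.of_finiteType.1 hC).out
  choose lft hlft using fun i => hπ (algebraMap C A (σ (MvPolynomial.X i)))
  let ev : MvPolynomial (Fin k) ℤ →ₐ[ℤ] MvPolynomial (Fin n) R := MvPolynomial.aeval lft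
  have hev : ∀ p, π (ev p) = algebraMap C A (σ p) := fun p => by
    have : (π.restrictScalars ℤ).comp ev = ((Algebra.ofId C A).restrictScalars ℤ).comp σ :=
      MvPolynomial.algHom_ext fun i => by simp [ev, hlft]
    exact AlgHom.congr_fun this p
  let I₁ : Ideal (MvPolynomial (Fin n) R) := Ideal.span ((G.image ev : Finset _) : Set _)
  have hI₁ : I₁ ≤ RingHom.ker π := by
    rw [Ideal.span_le, Finset.coe_image]
    rintro _ ⟨p, hp, rfl⟩
    have : σ p = 0 := (hG ▸ Ideal.subset_span hp : p ∈ RingHom.ker σ.toRingHom)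
    simp [hev, this]
  let π₁ : (MvPolynomial (Fin n) R ⧸ I₁) →ₐ[R] A := Ideal.Quotient.liftₐ I₁ π hI₁
  have hπ₁ : Function.Surjective π₁ := fun y => by
    obtain ⟨x, rfl⟩ := hπ y
    exact ⟨Ideal.Quotient.mk I₁ x, by simp [π₁]⟩
  let c : C →ₐ[ℤ] MvPolynomial (Fin n) R ⧸ I₁ :=
    AlgHom.liftOfSurjective σ hσ ((Ideal.Quotient.mkₐ ℤ I₁).comp ev) (by
      rw [← hG, Ideal.span_le]
      intro p hp
      exact Ideal.Quotient.eq_zero_iff_mem.2
        (Ideal.subset_span (Finset.mem_image_of_mem ev hp)))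
  letI : Algebra (MvPolynomial (Fin n) R ⧸ I₁) A := π₁.toRingHom.toAlgebra
  letI : Algebra C (MvPolynomial (Fin n) R ⧸ I₁) := c.toRingHom.toAlgebra
  have : IsScalarTower R (MvPolynomial (Fin n) R ⧸ I₁) A :=
    .of_algebraMap_eq fun r => (π₁.commutes r).symm
  have : IsScalarTower C (MvPolynomial (Fin n) R ⧸ I₁) A := .of_algebraMap_eq fun x => by
    obtain ⟨p, rfl⟩ := hσ x
    change algebraMap C A (σ p) = π₁ (c (σ p))
    rw [← hev]
    simp [c, π₁]
  have : Algebra.FinitePresentation R (MvPolynomial (Fin n) R ⧸ I₁) :=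
    .quotient (Submodule.fg_span (Finset.finite_toSet _))
  exact finitePresentation_of_model (A₁ := MvPolynomial (Fin n) R ⧸ I₁)
    (B₁ := (MvPolynomial (Fin n) R ⧸ I₁) ⊗[C] B₀)
    ((Algebra.TensorProduct.cancelBaseChange C (MvPolynomial (Fin n) R ⧸ I₁) A A B₀).trans e) hπ₁

end Groth.Agent.AlgSpLib.FppfRing
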