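import Groth.Agent.AlgSpLib.SmoothRegular
import Groth.Agent.AlgSpLib.FppfRing
import Groth.Agent.CAlgH3.RegularHom
import Mathlib.RingTheory.Smooth.Fiber
import Mathlib.RingTheory.RegularLocalRing.Polynomial
import Mathlib.RingTheory.Kaehler.TensorProduct
import Mathlib.RingTheory.Kaehler.Polynomial
import Mathlib.RingTheory.Extension.Cotangent.BaseChange
import Mathlib.RingTheory.Etale.Kaehler
import Mathlib.RingTheory.Flat.FaithfullyFlat.Descent
import Mathlib.RingTheory.Jacobson.Ring
import Mathlib.RingTheory.SurjectiveOnStalks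
import Mathlib.FieldTheory.IsAlgClosed.AlgebraicClosure

/-!
Smoothness descends along faithfully flat finitely presented maps on the source.
-/

universe u

open IsLocalRing TensorProduct KaehlerDifferential

set_option autoImplicit false

noncomputable section

namespace Groth.Agent.AlgSpLib.SmoothField

/-- Over an algebraically closed field a finite type algebra is smooth at a closed point exactly if
it is regular there. -/
theorem isSmoothAt_iff_regular (K A : Type u) [Field K] [IsAlgClosed K] [CommRing A] [Algebra K A]
    [Algebra.FiniteType K A] (q : Ideal A) [q.IsMaximal] :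
    Algebra.IsSmoothAt K q ↔ IsRegularLocalRing (Localization.AtPrime q) := by
  obtain ⟨n, π, hπ⟩ := Algebra.FiniteType.iff_quotient_mvPolynomial''.1
    (inferInstance : Algebra.FiniteType K A)
  let p : Ideal (MvPolynomial (Fin n) K) := q.comap π.toRingHom
  have hp : p.IsMaximal := Ideal.comap_isMaximal_of_surjective _ hπ
  let P := Localization.AtPrime p
  have : Algebra.FormallyEtale (MvPolynomial (Fin n) K) P := .of_isLocalization p.primeCompl
  have : Algebra.FormallySmooth K P := .comp K (MvPolynomial (Fin n) K) P
  let eΩ := KaehlerDifferential.tensorKaehlerEquivOfFormallyEtale K (MvPolynomial (Fin n) K) P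
  have : Module.Finite (MvPolynomial (Fin n) K) Ω[MvPolynomial (Fin n) K⁄K] := inferInstance
  have : Module.Free P Ω[P⁄K] := .of_equiv eΩ
  have : Module.Finite P Ω[P⁄K] := .equiv eΩ
  have : IsRegularLocalRing P := IsRegularRing.isRegularLocalRing_localization _
  have hK : Function.Bijective (algebraMap K (ResidueField P)) := by
    letI := Ideal.Quotient.field p
    have : Module.Finite K (MvPolynomial (Fin n) K ⧸ p) :=
      finite_of_finite_type_of_isJacobsonRing K _
    have h1 : Function.Bijective (algebraMap K (MvPolynomial (Fin n) K ⧸ p)) :=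
      IsAlgClosed.algebraMap_bijective_of_isIntegral
    have h2 : Function.Bijective (algebraMap (MvPolynomial (Fin n) K ⧸ p) p.ResidueField) :=
      p.bijective_algebraMap_quotient_residueField
    have h3 : algebraMap K p.ResidueField =
        (algebraMap (MvPolynomial (Fin n) K ⧸ p) p.ResidueField).comp
          (algebraMap K (MvPolynomial (Fin n) K ⧸ p)) := by
      rw [← IsScalarTower.algebraMap_eq]
    change Function.Bijective (algebraMap K p.ResidueField)
    rw [h3]
    exact h2.comp h1
  let f₀ : P →+* Localization.AtPrime q := Localization.localRingHom p q π.toRingHom rfl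
  let f : P →ₐ[K] Localization.AtPrime q :=
    { f₀ with
      commutes' := fun r => by
        change f₀ (algebraMap K P r) = _
        rw [IsScalarTower.algebraMap_apply K (MvPolynomial (Fin n) K) P,
          Localization.localRingHom_to_map, IsScalarTower.algebraMap_apply K A (Localization.AtPrime q)]
        exact congrArg _ (π.commutes r) }
  have hf : Function.Surjective f := RingHom.surjectiveOnStalks_of_surjective hπ q inferInstance
  let e := Ideal.quotientKerAlgEquivOfSurjective hf
  have hI : RingHom.ker f ≠ ⊤ := RingHom.ker_ne_top _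
  constructor
  · intro h
    have h' : Algebra.FormallySmooth K (P ⧸ RingHom.ker f) := .of_equiv e.symm
    have := SmoothRegular.isRegularLocalRing_quotient (RingHom.ker f) hI
      ((SmoothRegular.formallySmooth_quotient_iff hK _ hI).1 h')
    exact IsRegularLocalRing.of_ringEquiv (R := P ⧸ RingHom.ker f) e.toRingEquiv
  · intro h
    have : IsRegularLocalRing (P ⧸ RingHom.ker f) := IsRegularLocalRing.of_ringEquiv e.symm.toRingEquiv
    have : Algebra.FormallySmooth K (P ⧸ RingHom.ker f) :=
      (SmoothRegular.formallySmooth_quotient_iff hK _ hI).2 fun x hx hx2 =>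
        SmoothRegular.mem_mul_of_regular_quotient _ hx hx2
    exact Algebra.FormallySmooth.of_equiv (A := P ⧸ RingHom.ker f) e

attribute [local instance] Algebra.TensorProduct.rightAlgebra

/-- Smoothness descends along an extension of the base field. -/
theorem formallySmooth_of_baseChange (k K A : Type u) [Field k] [Field K] [Algebra k K] [CommRing A]
    [Algebra k A] [Algebra.FiniteType k A] (h : Algebra.FormallySmooth K (K ⊗[k] A)) :
    Algebra.FormallySmooth k A := by
  have : Algebra.FiniteType K (K ⊗[k] A) := Algebra.FiniteType.baseChange (A := A) K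
  have : IsNoetherianRing A := Algebra.FiniteType.isNoetherianRing k A
  rw [Algebra.formallySmooth_iff] at h ⊢
  have := h.1
  have := h.2
  constructor
  · have : Module.Flat (K ⊗[k] A) ((K ⊗[k] A) ⊗[A] Ω[A⁄k]) :=
      .of_linearEquiv (KaehlerDifferential.tensorKaehlerEquiv k K A (K ⊗[k] A))
    have : Module.FaithfullyFlat A (K ⊗[k] A) :=
      Module.FaithfullyFlat.of_linearEquiv A (A ⊗[k] K)
        (LinearEquiv.symm { (Algebra.TensorProduct.comm k A K).toLinearEquiv with
          map_smul' := fun a x => by
            change Algebra.TensorProduct.comm k A K (a • x) =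
              a • Algebra.TensorProduct.comm k A K x
            rw [Algebra.smul_def, map_mul, Algebra.smul_def]
            simp [RingHom.algebraMap_toAlgebra] })
    have : Module.Flat A Ω[A⁄k] := Module.Flat.of_flat_tensorProduct _ _ (K ⊗[k] A)
    have : Module.FinitePresentation A Ω[A⁄k] := Module.finitePresentation_of_finite A _
    exact Module.Flat.projective_of_finitePresentation
  · have : Subsingleton (K ⊗[k] Algebra.H1Cotangent k A) :=
      (Algebra.tensorH1CotangentOfFlat k A K).toEquiv.subsingleton
    exact Module.FaithfullyFlat.lTensor_reflects_triviality k K _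

/-- A faithfully flat map stays faithfully flat after base change. -/
theorem faithfullyFlat_map (R T A B : Type u) [CommRing R] [CommRing T] [Algebra R T] [CommRing A]
    [Algebra R A] [CommRing B] [Algebra R B] [Algebra A B] [IsScalarTower R A B]
    [Module.FaithfullyFlat A B] :
    (Algebra.TensorProduct.map (AlgHom.id T T) (IsScalarTower.toAlgHom R A B)).toRingHom.FaithfullyFlat
      ∧ (Algebra.FinitePresentation A B →
        (Algebra.TensorProduct.map (AlgHom.id T T) (IsScalarTower.toAlgHom R A B)).toRingHom.FinitePresentation) := by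
  let g := Algebra.TensorProduct.map (AlgHom.id T T) (IsScalarTower.toAlgHom R A B)
  letI : Algebra (T ⊗[R] A) (T ⊗[R] B) := g.toRingHom.toAlgebra
  have : IsScalarTower T (T ⊗[R] A) (T ⊗[R] B) := .of_algebraMap_eq fun t => (g.commutes t).symm
  have : IsScalarTower R (T ⊗[R] A) (T ⊗[R] B) :=
    .of_algebraMap_eq fun t => ((g.restrictScalars R).commutes t).symm
  letI : Algebra A (T ⊗[R] B) := ((algebraMap B (T ⊗[R] B)).comp (algebraMap A B)).toAlgebra
  have : IsScalarTower A B (T ⊗[R] B) := .of_algebraMap_eq' rfl
  have : IsScalarTower A (T ⊗[R] A) (T ⊗[R] B) := .of_algebraMap_eq fun a => by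
    simp [RingHom.algebraMap_toAlgebra, g]
  have : Algebra.IsPushout A (T ⊗[R] A) B (T ⊗[R] B) := by
    have h1 : Algebra.IsPushout R T A (T ⊗[R] A) := inferInstance
    have h2 : Algebra.IsPushout R T B (T ⊗[R] B) := inferInstance
    exact ((Algebra.IsPushout.comp_iff R A T (S' := T ⊗[R] A) (T := B) (T' := T ⊗[R] B)).1 h2.symm).symm
  let e := Algebra.IsPushout.equiv A (T ⊗[R] A) B (T ⊗[R] B)
  refine ⟨?_, fun hfp => ?_⟩
  · exact Module.FaithfullyFlat.of_linearEquiv (T ⊗[R] A) ((T ⊗[R] A) ⊗[A] B) e.symm.toLinearEquiv
  · exact Algebra.FinitePresentation.equiv e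

/-- Smoothness descends along faithfully flat finitely presented maps, over a field. -/
theorem smooth_of_field (k A B : Type u) [Field k] [CommRing A] [CommRing B] [Algebra k A]
    [Algebra A B] [Algebra k B] [IsScalarTower k A B] [Module.FaithfullyFlat A B]
    [Algebra.FinitePresentation A B] [Algebra.Smooth k B] : Algebra.FormallySmooth k A := by
  have : Algebra.FiniteType k A := FppfRing.finiteType (B := B)
  let K := AlgebraicClosure k
  refine formallySmooth_of_baseChange k K A ?_
  let g := Algebra.TensorProduct.map (AlgHom.id K K) (IsScalarTower.toAlgHom k A B)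
  letI : Algebra (K ⊗[k] A) (K ⊗[k] B) := g.toRingHom.toAlgebra
  have hff : Module.FaithfullyFlat (K ⊗[k] A) (K ⊗[k] B) := (faithfullyFlat_map k K A B).1
  have : Algebra.FiniteType K (K ⊗[k] A) := Algebra.FiniteType.baseChange (A := A) K
  have : Algebra.FiniteType K (K ⊗[k] B) := Algebra.FiniteType.baseChange (A := B) K
  have : Algebra.FinitePresentation K (K ⊗[k] A) := Algebra.FinitePresentation.of_finiteType.1 ‹_›
  have hsm : Algebra.Smooth K (K ⊗[k] B) := inferInstance
  have : IsNoetherianRing (K ⊗[k] A) := Algebra.FiniteType.isNoetherianRing K _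
  suffices Algebra.Smooth K (K ⊗[k] A) from inferInstance
  refine ⟨Algebra.smoothLocus_eq_univ_iff.mp (Set.eq_univ_iff_forall.mpr fun x => ?_), ‹_›⟩
  obtain ⟨m, hm, hxm⟩ := Ideal.exists_le_maximal x.asIdeal x.isPrime.ne_top
  suffices hmem : (⟨m, hm.isPrime⟩ : PrimeSpectrum (K ⊗[k] A)) ∈ Algebra.smoothLocus K (K ⊗[k] A) from
    ((PrimeSpectrum.le_iff_specializes x ⟨m, hm.isPrime⟩).1 hxm).mem_open
      Algebra.isOpen_smoothLocus hmem
  show Algebra.IsSmoothAt K m
  rw [isSmoothAt_iff_regular]
  obtain ⟨r, hr⟩ := PrimeSpectrum.comap_surjective_of_faithfullyFlat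
    (A := K ⊗[k] A) (B := K ⊗[k] B) ⟨m, hm.isPrime⟩
  obtain ⟨r', hr', hrr'⟩ := Ideal.exists_le_maximal r.asIdeal r.isPrime.ne_top
  have hcomap : r'.comap (algebraMap (K ⊗[k] A) (K ⊗[k] B)) = m :=
    (hm.eq_of_le (Ideal.IsPrime.comap _).ne_top
      ((congrArg PrimeSpectrum.asIdeal hr).ge.trans (Ideal.comap_mono hrr'))).symm
  have : r'.LiesOver m := ⟨hcomap.symm⟩
  have hregB : IsRegularLocalRing (Localization.AtPrime r') :=
    (isSmoothAt_iff_regular K (K ⊗[k] B) r').1 inferInstance
  letI := Localization.AtPrime.algebraOfLiesOver m r'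
  have : IsLocalHom (algebraMap (Localization.AtPrime m) (Localization.AtPrime r')) :=
    Localization.isLocalHom_localRingHom _ _ _ _
  exact CAlgH3.isRegularLocalRing_of_flat (Localization.AtPrime r')

/-- Smoothness descends along faithfully flat finitely presented maps. -/
theorem smooth {R A B : Type u} [CommRing R] [CommRing A] [CommRing B] [Algebra R A]
    [Algebra A B] [Algebra R B] [IsScalarTower R A B] [Algebra.Smooth R B]
    [Module.FaithfullyFlat A B] [Algebra.FinitePresentation A B] : Algebra.Smooth R A := by
  have : Algebra.FinitePresentation R A := FppfRing.finitePresentation (B := B)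
  have : Module.Flat R A := by
    have h : (algebraMap A B).comp (algebraMap R A) = algebraMap R B :=
      (IsScalarTower.algebraMap_eq R A B).symm
    rw [← RingHom.flat_algebraMap_iff]
    refine Groth.Agent.AlgSpLib.flat_of_comp (algebraMap R A) (algebraMap A B) ?_ ?_
    · exact (RingHom.faithfullyFlat_algebraMap_iff).2 ‹_›
    · rw [h, RingHom.flat_algebraMap_iff]
      infer_instance
  refine Algebra.Smooth.of_formallySmooth_fiber fun p hp => ?_
  let T := p.ResidueField
  let g := Algebra.TensorProduct.map (AlgHom.id T T) (IsScalarTower.toAlgHom R A B)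
  letI : Algebra (T ⊗[R] A) (T ⊗[R] B) := g.toRingHom.toAlgebra
  have : IsScalarTower T (T ⊗[R] A) (T ⊗[R] B) := .of_algebraMap_eq fun t => (g.commutes t).symm
  have : Module.FaithfullyFlat (T ⊗[R] A) (T ⊗[R] B) := (faithfullyFlat_map R T A B).1
  have : Algebra.FinitePresentation (T ⊗[R] A) (T ⊗[R] B) := (faithfullyFlat_map R T A B).2 ‹_›
  exact smooth_of_field T (T ⊗[R] A) (T ⊗[R] B)

end Groth.Agent.AlgSpLib.SmoothField
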