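import Groth.Agent.AlgSpLib.Basic
import Mathlib.AlgebraicGeometry.Morphisms.Etale
import Mathlib.AlgebraicGeometry.Limits
import Mathlib.RingTheory.RingHom.FaithfullyFlat

/-!
Descent of a property of morphisms of schemes along etale surjections of the source, reduced to rings.
-/

universe u

open CategoryTheory CategoryTheory.Limits AlgebraicGeometry

namespace Groth.Agent.AlgSpLib

set_option backward.isDefEq.respectTransparency.types false

variable {P : MorphismProperty Scheme.{u}}
  {Q : ∀ {R A : Type u} [CommRing R] [CommRing A], (R →+* A) → Prop}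

theorem descend_source_affine [HasRingHomProperty P Q]
    (H : ∀ {R A B : Type u} [CommRing R] [CommRing A] [CommRing B] (φ : R →+* A) (ψ : A →+* B),
      ψ.Etale → ψ.FaithfullyFlat → Q (ψ.comp φ) → Q φ)
    {X' X Y : Scheme.{u}} [IsAffine X] [IsAffine Y] (g : X' ⟶ X) (f : X ⟶ Y) [Etale g]
    [Surjective g] (h : P (g ≫ f)) : P f := by
  obtain ⟨V : X'.Opens, hV, e⟩ := g.isOpenMap.exists_opens_image_eq_of_prespectralSpace
    g.continuous (by simp) isOpen_univ isCompact_univ
  have : CompactSpace V := isCompact_iff_compactSpace.mp hV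
  let 𝒰 := V.toScheme.affineCover.finiteSubcover
  have : ∀ i, IsAffine (𝒰.X i) := fun i => by dsimp [𝒰]; infer_instance
  let T := ∐ 𝒰.X
  let π : T ⟶ X := Sigma.desc (fun i => 𝒰.f i ≫ V.ι ≫ g)
  have hπ : Etale π := IsZariskiLocalAtSource.sigmaDesc (fun i => inferInstance)
  have hπs : Surjective π := by
    refine ⟨fun x => ?_⟩
    obtain ⟨y, hy, hxy⟩ := e.ge (Set.mem_univ x)
    obtain ⟨i, z, hz⟩ := 𝒰.exists_eq ⟨y, hy⟩
    refine ⟨Sigma.ι 𝒰.X i z, ?_⟩
    have e2 : Sigma.ι 𝒰.X i ≫ π = 𝒰.f i ≫ V.ι ≫ g := Sigma.ι_desc _ _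
    rw [← Scheme.Hom.comp_apply, e2, Scheme.Hom.comp_apply, Scheme.Hom.comp_apply, hz]
    exact hxy
  have hcomp : P (π ≫ f) := by
    have e : π ≫ f = Sigma.desc (fun i => 𝒰.f i ≫ V.ι ≫ g ≫ f) :=
      Sigma.hom_ext _ _ (fun i => by simp [π])
    rw [e]
    exact IsZariskiLocalAtSource.sigmaDesc fun i =>
      IsZariskiLocalAtSource.comp (IsZariskiLocalAtSource.comp h V.ι) (𝒰.f i)
  rw [HasRingHomProperty.iff_of_isAffine (P := P)] at hcomp ⊢
  rw [Scheme.Hom.comp_appTop] at hcomp
  refine H _ π.appTop.hom ((HasRingHomProperty.iff_of_isAffine (P := @Etale)).1 hπ) ?_ hcomp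
  rw [RingHom.FaithfullyFlat.iff_flat_and_comap_surjective]
  refine ⟨(HasRingHomProperty.iff_of_isAffine (P := @Flat) (f := π)).1 inferInstance, ?_⟩
  have : Surjective (Spec.map π.appTop) :=
    (MorphismProperty.arrow_mk_iso_iff @Surjective (arrowIsoSpecΓOfIsAffine π)).1 hπs
  exact (Spec.map π.appTop).surjective

theorem descend_source [HasRingHomProperty P Q] [P.IsStableUnderBaseChange]
    (H : ∀ {R A B : Type u} [CommRing R] [CommRing A] [CommRing B] (φ : R →+* A) (ψ : A →+* B),
      ψ.Etale → ψ.FaithfullyFlat → Q (ψ.comp φ) → Q φ)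
    ⦃X' X Y : Scheme.{u}⦄ (g : X' ⟶ X) (f : X ⟶ Y) (hg : Etale g) (hs : Surjective g)
    (h : P (g ≫ f)) : P f := by
  refine IsZariskiLocalAtTarget.of_openCover Y.affineCover fun i => ?_
  change P (pullback.snd f (Y.affineCover.f i))
  let c := pullback.fst f (Y.affineCover.f i)
  let g₁ := pullback.snd g c
  have hg₁ : Etale g₁ := MorphismProperty.pullback_snd (P := @Etale) g c hg
  have hs₁ : Surjective g₁ := MorphismProperty.pullback_snd (P := @Surjective) g c hs
  have h₁ : P (g₁ ≫ pullback.snd f (Y.affineCover.f i)) :=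
    P.of_isPullback ((IsPullback.of_hasPullback g c).paste_vert
      (IsPullback.of_hasPullback f (Y.affineCover.f i))) h
  let 𝒲 := (pullback f (Y.affineCover.f i)).affineCover
  refine (IsZariskiLocalAtSource.iff_of_openCover (P := P) 𝒲).2 fun j => ?_
  let g₂ := pullback.snd g₁ (𝒲.f j)
  have : Etale g₂ := MorphismProperty.pullback_snd (P := @Etale) g₁ _ hg₁
  have : Surjective g₂ := MorphismProperty.pullback_snd (P := @Surjective) g₁ _ hs₁
  refine descend_source_affine H g₂ _ ?_
  rw [← Category.assoc, ← pullback.condition, Category.assoc]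
  exact IsZariskiLocalAtSource.comp h₁ _

end Groth.Agent.AlgSpLib
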