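import Groth.Agent.AlgSpLib.FppfLocal
import Groth.Prelude.Def_AlgSp3
import Mathlib.AlgebraicGeometry.Morphisms.QuasiFinite
import Mathlib.RingTheory.Unramified.LocalStructure

/-!
Monomorphisms and diagonals of sheaves, properties of the diagonal of an algebraic space.
-/

universe u

open CategoryTheory CategoryTheory.Limits AlgebraicGeometry Opposite
open AlgSp

namespace Groth.Agent.AlgSpLib

attribute [local simp] pullback.lift_fst pullback.lift_snd pullback.lift_fst_assoc
  pullback.lift_snd_assoc prod.lift_fst prod.lift_snd prod.lift_fst_assoc prod.lift_snd_assoc pullback.map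

section Cat

variable {C : Type*} [Category C]

theorem isPullback_diag_prod_map [HasBinaryProducts C] {U V X W : C} {f : U ⟶ X} {g : V ⟶ X}
    {fst : W ⟶ U} {snd : W ⟶ V} (sq : IsPullback fst snd f g) :
    IsPullback (fst ≫ f) (prod.lift fst snd) (Limits.diag X) (prod.map f g) := by
  refine ⟨⟨?_⟩, ⟨PullbackCone.IsLimit.mk _ (fun s => sq.lift (s.snd ≫ prod.fst) (s.snd ≫ prod.snd) ?_)
    (fun s => ?_) (fun s => ?_) ?_⟩⟩
  · apply Limits.prod.hom_ext
    · simp [prod.lift_fst, prod.lift_snd]
    · simp [prod.lift_fst, prod.lift_snd, sq.w]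
  · have h1 := congrArg (· ≫ prod.fst) s.condition
    have h2 := congrArg (· ≫ prod.snd) s.condition
    simp [prod.lift_fst, prod.lift_snd] at h1 h2
    simp [← h1, ← h2]
  · have h1 := congrArg (· ≫ prod.fst) s.condition
    simp [prod.lift_fst, prod.lift_snd] at h1
    simp [h1]
  · apply Limits.prod.hom_ext <;> simp [prod.lift_fst, prod.lift_snd]
  · intro s m _ h2
    apply sq.hom_ext
    · simp [← h2, prod.lift_fst]
    · simp [← h2, prod.lift_snd]

theorem mono_lift_fst_snd [HasPullbacks C] [HasBinaryProducts C] {X Y Z : C} (f : X ⟶ Z)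
    (g : Y ⟶ Z) : Mono (prod.lift (pullback.fst f g) (pullback.snd f g)) :=
  ⟨fun a b h => pullback.hom_ext
    (by simpa [prod.lift_fst] using congrArg (· ≫ prod.fst) h)
    (by simpa [prod.lift_snd] using congrArg (· ≫ prod.snd) h)⟩

theorem diagonal_comp_lift [HasPullbacks C] [HasBinaryProducts C] {X Z : C} (f : X ⟶ Z) :
    pullback.diagonal f ≫ prod.lift (pullback.fst f f) (pullback.snd f f) = Limits.diag X := by
  apply Limits.prod.hom_ext <;> simp [prod.lift_fst, prod.lift_snd]

/-- a section is a base change of the diagonal -/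
theorem isPullback_section [HasPullbacks C] {X T : C} (f : X ⟶ T) (s : T ⟶ X) (hs : s ≫ f = 𝟙 T) :
    IsPullback s s (pullback.diagonal f)
      (pullback.lift (f ≫ s) (𝟙 X) (by rw [Category.assoc, hs]; simp)) := by
  refine ⟨⟨?_⟩, ⟨PullbackCone.IsLimit.mk _ (fun c => c.snd ≫ f) (fun c => ?_) (fun c => ?_) ?_⟩⟩
  · apply pullback.hom_ext <;> simp [reassoc_of% hs]
  · have h1 := congrArg (· ≫ pullback.fst f f) c.condition
    simp at h1
    simp [h1]
  · have h1 := congrArg (· ≫ pullback.fst f f) c.condition
    have h2 := congrArg (· ≫ pullback.snd f f) c.condition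
    simp at h1 h2
    rw [h2] at h1
    simpa using h1.symm
  · intro c m _ h2
    simp [← h2, hs]

/-- diagonals commute with base change -/
theorem isPullback_diagonal_map [HasPullbacks C] {X Y U V : C} {f : X ⟶ Y} {g : U ⟶ Y}
    {fst : V ⟶ X} {snd : V ⟶ U} (sq : IsPullback fst snd f g) :
    IsPullback fst (pullback.diagonal snd) (pullback.diagonal f)
      (pullback.map snd snd f f fst fst g sq.w.symm sq.w.symm) := by
  refine ⟨⟨?_⟩, ⟨PullbackCone.IsLimit.mk _ (fun c => c.snd ≫ pullback.fst snd snd)
    (fun c => ?_) (fun c => ?_) ?_⟩⟩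
  · apply pullback.hom_ext <;> simp
  · have h1 := congrArg (· ≫ pullback.fst f f) c.condition
    simp at h1
    simp [h1]
  · have h1 := congrArg (· ≫ pullback.fst f f) c.condition
    have h2 := congrArg (· ≫ pullback.snd f f) c.condition
    simp at h1 h2
    apply pullback.hom_ext
    · simp
    · simp only [Category.assoc, pullback.diagonal_snd, Category.comp_id]
      apply sq.hom_ext
      · simp [← h1, ← h2]
      · simp [pullback.condition]
  · intro c m _ h2
    rw [← h2]
    simp

end Cat

set_option backward.isDefEq.respectTransparency.types false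

variable {S : Scheme.{u}} {F G H : Sp S}

theorem ringHom_quasiFinite_of_etale {R A : Type u} [CommRing R] [CommRing A] (φ : R →+* A)
    (h : φ.Etale) : φ.QuasiFinite := by
  algebraize [φ]
  exact (inferInstance : Algebra.QuasiFinite R A)

theorem locallyQuasiFinite_of_etale {X Y : Scheme.{u}} (f : X ⟶ Y) [Etale f] :
    LocallyQuasiFinite f := by
  rw [HasRingHomProperty.eq_affineLocally @LocallyQuasiFinite, affineLocally_iff_forall_isAffineOpen]
  intros
  exact ringHom_quasiFinite_of_etale _ (f.etale_appLE ‹_› ‹_› _)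

theorem hom_ext_of_yon {f g : F ⟶ G}
    (h : ∀ ⦃T : Over S⦄ (x : (yon S).obj T ⟶ F), x ≫ f = x ≫ g) : f = g := by
  apply Sheaf.hom_ext
  ext ⟨T⟩ x
  have := congrArg (J S).uliftYonedaEquiv (h ((J S).uliftYonedaEquiv.symm x))
  simpa [GrothendieckTopology.uliftYonedaEquiv_comp] using this

theorem mono_of_repWith {P : MorphismProperty Scheme.{u}}
    (hP : P ≤ MorphismProperty.monomorphisms Scheme.{u}) {f : F ⟶ G} (hf : RepWith P f) : Mono f := by
  refine ⟨fun {W} a b h => hom_ext_of_yon fun T x => ?_⟩
  have hx : (x ≫ a) ≫ f = (x ≫ b) ≫ f := by rw [Category.assoc, Category.assoc, h]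
  have sq := hf.1.isPullback ((x ≫ a) ≫ f)
  have : Mono (hf.1.snd ((x ≫ a) ≫ f)).left := hP _ (hf.property_snd _)
  have : Mono (hf.1.snd ((x ≫ a) ≫ f)) :=
    (Over.forget S).mono_of_mono_map (f := hf.1.snd ((x ≫ a) ≫ f)) this
  have e1 : hf.1.lift (x ≫ a) (𝟙 T) (by simp) = hf.1.lift (g := (x ≫ a) ≫ f) (x ≫ b) (𝟙 T)
      (by simp [hx]) := by
    rw [← cancel_mono (hf.1.snd ((x ≫ a) ≫ f))]
    simp
  have := congrArg (fun l => (yon S).map l ≫ hf.1.fst ((x ≫ a) ≫ f)) e1
  simpa using this

theorem repWith_monomorphisms_of_mono {f : F ⟶ G} [Mono f] (hf : Representable f) :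
    RepWith (MorphismProperty.monomorphisms Scheme.{u}) f := by
  refine ⟨hf, fun U V g fst snd sq => ?_⟩
  have : Mono ((yon S).map snd) :=
    MorphismProperty.of_isPullback (P := MorphismProperty.monomorphisms (Sp S)) sq ‹Mono f›
  have : Mono snd := (yon S).mono_of_mono_map this
  exact (inferInstance : Mono ((Over.forget S).map snd))

theorem repWith_isSeparated_of_mono {f : F ⟶ G} [Mono f] (hf : Representable f) :
    RepWith @IsSeparated f :=
  RepWith.mono (fun _ _ g (hg : Mono g) => (inferInstance : IsSeparated g))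
    (repWith_monomorphisms_of_mono hf)

/-- A property of the diagonal of an algebraic space is checked on monomorphisms into
`U ×_S V` with etale first projection. -/
theorem repWith_diag_of {X : Sp S} (hX : IsAlgSpace X) (P : MorphismProperty Scheme.{u})
    [P.IsStableUnderBaseChange] [P.IsLocalAtTarget Scheme.fppfPrecoverage]
    (hP : ∀ ⦃A B C : Scheme.{u}⦄ (j : A ⟶ B) (q : B ⟶ C), Mono j → Etale (j ≫ q) → P j) :
    RepWith P (Limits.diag X) := by
  obtain ⟨U, p, hpe, hps⟩ := hX.atlas
  have hp := hX.representable_from_yon p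
  have sq := hp.isPullback' p
  have hl : Sheaf.IsLocallySurjective (prod.map p p) :=
    isLocallySurjective_of_etale (repWith_prod_map hpe hpe) (repWith_prod_map hps hps)
  have sqd := isPullback_diag_prod_map sq
  refine repWith_of_isLocallySurjective hX.diag (prod.map p p) sqd P ?_
  let j : hp.pullback p ⟶ U ⨯ U := prod.lift (hp.fst' p) (hp.snd p)
  have e : prod.lift ((yon S).map (hp.fst' p)) ((yon S).map (hp.snd p)) =
      (yon S).map j ≫ prodComparison (yon S) U U := by
    apply Limits.prod.hom_ext <;> simp [j, prod.lift_fst, prod.lift_snd, ← Functor.map_comp]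
  rw [e]
  refine (MorphismProperty.cancel_right_of_respectsIso (RepWith P) _ _).2 ?_
  refine (repWith_yon_map_iff P j).2 (hP j.left (prod.fst : U ⨯ U ⟶ U).left ?_ ?_)
  · have : Mono (Limits.diag X) :=
      ⟨fun a b h => by simpa [prod.lift_fst] using congrArg (· ≫ prod.fst) h⟩
    have : Mono (prod.lift ((yon S).map (hp.fst' p)) ((yon S).map (hp.snd p))) :=
      MorphismProperty.of_isPullback (P := MorphismProperty.monomorphisms (Sp S)) sqd ‹Mono _›
    rw [e] at this
    have : Mono ((yon S).map j) := mono_of_mono _ (prodComparison (yon S) U U)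
    have : Mono j := (yon S).mono_of_mono_map this
    exact (inferInstance : Mono ((Over.forget S).map j))
  · rw [← Over.comp_left]
    have : j ≫ prod.fst = hp.fst' p := prod.lift_fst _ _
    rw [this]
    exact hpe.property p _ _ sq.flip

theorem repWith_diag_lft {X : Sp S} (hX : IsAlgSpace X) :
    RepWith @LocallyOfFiniteType (Limits.diag X) :=
  repWith_diag_of hX _ fun _ _ _ j q _ _ => locallyOfFiniteType_of_comp j q

theorem repWith_diag_lqf {X : Sp S} (hX : IsAlgSpace X) :
    RepWith (@LocallyQuasiFinite ⊓ @LocallyOfFiniteType) (Limits.diag X) :=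
  repWith_diag_of hX _ fun _ _ _ j q _ _ => by
    have : LocallyOfFiniteType j := locallyOfFiniteType_of_comp j q
    have h1 : Etale (j ≫ q) := ‹_›
    have h2 := locallyQuasiFinite_of_etale (j ≫ q)
    exact ⟨LocallyQuasiFinite.of_comp j q, this⟩

theorem representable_diagonal (hF : IsAlgSpace F) (f : F ⟶ G) :
    Representable (pullback.diagonal f) := by
  have := mono_lift_fst_snd f f
  refine representable_of_comp_mono _ (prod.lift (pullback.fst f f) (pullback.snd f f)) ?_
  rw [diagonal_comp_lift]
  exact hF.diag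

theorem repWith_diagonal {P : MorphismProperty Scheme.{u}} (f : F ⟶ G)
    (h : RepWith P (Limits.diag F)) : RepWith P (pullback.diagonal f) := by
  have := mono_lift_fst_snd f f
  refine repWith_of_comp_mono _ (prod.lift (pullback.fst f f) (pullback.snd f f)) ?_
  rw [diagonal_comp_lift]
  exact h

/-- the properties the diagonal always has, transported -/
theorem diag_package (hH : IsAlgSpace H) (d : F ⟶ G)
    (key : ∀ (P : MorphismProperty Scheme.{u}), RepWith P (Limits.diag H) → RepWith P d) :
    Representable d ∧ RepWith @LocallyOfFiniteType d ∧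
      RepWith (@LocallyQuasiFinite ⊓ @LocallyOfFiniteType) d ∧ RepWith @IsSeparated d ∧
      RepWith (MorphismProperty.monomorphisms Scheme.{u}) d := by
  have hlqf := key _ (repWith_diag_lqf hH)
  have : Mono (Limits.diag H) :=
    ⟨fun a b h => by simpa [prod.lift_fst] using congrArg (· ≫ prod.fst) h⟩
  exact ⟨hlqf.1, key _ (repWith_diag_lft hH), hlqf,
    key _ (repWith_isSeparated_of_mono hH.diag), key _ (repWith_monomorphisms_of_mono hH.diag)⟩

/-- for a representable morphism, properties of the diagonal in sheaves and in schemes agree -/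
theorem repWith_diagonal_iff {P : MorphismProperty Scheme.{u}} [P.IsStableUnderBaseChange]
    {f : F ⟶ G} (hf : Representable f) :
    RepWith P (pullback.diagonal f) ↔ RepWith P.diagonal f := by
  constructor
  · intro h
    refine ⟨hf, fun U V g fst snd sq => ?_⟩
    have h' : RepWith P (pullback.diagonal ((yon S).map snd)) :=
      RepWith.baseChange (isPullback_diagonal_map sq) h
    exact (repWith_diagonal_yon_map_iff P snd).1 h'
  · intro h
    refine MorphismProperty.relative.of_exists fun T g => ?_
    let y := g ≫ pullback.fst f f ≫ f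
    have sq := h.1.isPullback y
    have sqd := isPullback_diagonal_map sq
    let sn := (yon S).map (h.1.snd y)
    have hsn : RepWith P (pullback.diagonal sn) :=
      (repWith_diagonal_yon_map_iff P _).2 (h.property_snd y)
    let a := sq.lift (g ≫ pullback.fst f f) (𝟙 _) (by simp [y])
    let b := sq.lift (g ≫ pullback.snd f f) (𝟙 _) (by simp [y, pullback.condition])
    let g' : (yon S).obj T ⟶ pullback sn sn := pullback.lift a b (by simp [a, b, sn])
    have hg : g' ≫ pullback.map sn sn f f (h.1.fst y) (h.1.fst y) y sq.w.symm sq.w.symm = g := by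
      apply pullback.hom_ext <;> simp [g', a, b]
    refine ⟨hsn.1.pullback g', hsn.1.fst g' ≫ h.1.fst y, hsn.1.snd g', ?_, hsn.property_snd g'⟩
    rw [← hg]
    exact (hsn.1.isPullback g').paste_horiz sqd

end Groth.Agent.AlgSpLib
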