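import Groth.Agent.AlgSpLib.FppfSource
import Groth.Agent.AlgSpLib.SmoothField
import Groth.Agent.AlgSpLib.Diag
import Groth.Agent.SmoothLib.QuasiFinite
import Mathlib.AlgebraicGeometry.Morphisms.Smooth

/-!
Smoothness and etaleness of morphisms of schemes descend along fppf coverings of the source.
-/

universe u

open CategoryTheory CategoryTheory.Limits AlgebraicGeometry

namespace Groth.Agent.AlgSpLib

set_option backward.isDefEq.respectTransparency.types false

theorem smooth_of_comp_fppf_ring {R A B : Type u} [CommRing R] [CommRing A] [CommRing B]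
    (φ : R →+* A) (ψ : A →+* B) (hp : ψ.FinitePresentation) (hψ : ψ.FaithfullyFlat)
    (h : (ψ.comp φ).Smooth) : φ.Smooth := by
  algebraize [φ, ψ, ψ.comp φ]
  exact SmoothField.smooth (B := B)

theorem smooth_of_comp_fppf {X' X Y : Scheme.{u}} (g : X' ⟶ X) (f : X ⟶ Y) [Flat g]
    [LocallyOfFinitePresentation g] [Surjective g] (h : Smooth (g ≫ f)) : Smooth f :=
  descend_source_fppf (P := @Smooth)
    (fun φ ψ hp hψ h => smooth_of_comp_fppf_ring φ ψ hp hψ h) g f ‹_› ‹_› ‹_› h

theorem etale_of_comp_fppf_ring {R A B : Type u} [CommRing R] [CommRing A] [CommRing B]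
    (φ : R →+* A) (ψ : A →+* B) (hp : ψ.FinitePresentation) (hψ : ψ.FaithfullyFlat)
    (h : (ψ.comp φ).Etale) : φ.Etale := by
  have hs := smooth_of_comp_fppf_ring φ ψ hp hψ
    ((RingHom.etale_iff_formallyUnramified_and_smooth _).1 h).2
  have hq := quasiFinite_of_comp φ ψ hψ (ringHom_quasiFinite_of_etale _ h)
  algebraize [φ]
  exact SmoothLib.etale_of_smooth_of_quasiFinite R A

theorem etale_of_comp_fppf {X' X Y : Scheme.{u}} (g : X' ⟶ X) (f : X ⟶ Y) [Flat g]
    [LocallyOfFinitePresentation g] [Surjective g] (h : Etale (g ≫ f)) : Etale f :=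
  descend_source_fppf (P := @Etale)
    (fun φ ψ hp hψ h => etale_of_comp_fppf_ring φ ψ hp hψ h) g f ‹_› ‹_› ‹_› h

end Groth.Agent.AlgSpLib
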