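import Groth.Agent.AlgSpLib.FlatAt
import Groth.Prelude.Def_Flat
import Groth.Prelude.Def_AlgSpDec
import Mathlib.Topology.KrullDimension
import Mathlib.AlgebraicGeometry.Morphisms.UniversallyOpen
import Mathlib.AlgebraicGeometry.Morphisms.QuasiFinite

/-!
The local dimension of the fibres of a morphism is unchanged by etale squares, hence independent of charts.
-/

universe u

open CategoryTheory CategoryTheory.Limits AlgebraicGeometry Topology
open AlgSp

noncomputable section

namespace Groth.Agent.AlgSpLib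

set_option backward.isDefEq.respectTransparency.types false

section Top

variable {A B : Type u} [TopologicalSpace A] [TopologicalSpace B] [QuasiSober A] [QuasiSober B] [T0Space A]
  [T0Space B]

omit [TopologicalSpace B] [QuasiSober B] [T0Space B] in
theorem topologicalKrullDim_eq_points :
    topologicalKrullDim A = (@Order.krullDim A (specializationOrder A).toPreorder) :=
  letI := specializationOrder A
  Order.krullDim_eq_of_orderIso irreducibleSetEquivPoints

theorem topologicalKrullDim_le_of_strict {p : A → B} (hp : Continuous p)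
    (hinj : ∀ a a', a ⤳ a' → p a = p a' → a = a') : topologicalKrullDim A ≤ topologicalKrullDim B := by
  rw [topologicalKrullDim_eq_points, topologicalKrullDim_eq_points]
  letI := specializationOrder A
  letI := specializationOrder B
  refine Order.krullDim_le_of_strictMono p fun a a' h => lt_of_le_of_ne (h.le.map hp) fun e => ?_
  exact h.ne (hinj a' a h.le e.symm).symm

theorem topologicalKrullDim_le_of_generalizing {p : A → B} (hgen : GeneralizingMap p)
    (hsurj : Function.Surjective p) : topologicalKrullDim B ≤ topologicalKrullDim A := by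
  rw [topologicalKrullDim_eq_points, topologicalKrullDim_eq_points]
  letI := specializationOrder A
  letI := specializationOrder B
  have lift : ∀ s : LTSeries B, ∀ a, p a = s.head → ∃ t : LTSeries A, t.head = a ∧ t.length = s.length := by
    intro s
    induction s using RelSeries.inductionOn with
    | singleton b => exact fun a _ => ⟨RelSeries.singleton _ a, rfl, rfl⟩
    | cons s b hb ih =>
      intro a ha
      rw [RelSeries.head_cons] at ha
      obtain ⟨a', h1, h2⟩ := hgen (show s.head ⤳ p a from ha ▸ (le_of_lt hb))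
      obtain ⟨t, ht1, ht2⟩ := ih a' h2
      refine ⟨t.cons a (lt_of_le_of_ne (show a ≤ t.head from ht1 ▸ h1) fun e => ?_), RelSeries.head_cons _ _ _, by simp [ht2]⟩
      exact (show b < s.head from hb).ne (by rw [← ha, e, ht1, h2])
  refine iSup_le fun s => ?_
  obtain ⟨a, ha⟩ := hsurj s.head
  obtain ⟨t, -, ht⟩ := lift s a ha
  exact le_iSup_of_le t (by rw [ht])

theorem localDim_eq_of_map {p : A → B} (hp : Continuous p) (ho : IsOpenMap p) (hgen : GeneralizingMap p)
    (hinj : ∀ a a', a ⤳ a' → p a = p a' → a = a') (a : A) :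
    FlatMor.localDim A a = FlatMor.localDim B (p a) := by
  apply le_antisymm
  · refine le_iInf fun V => ?_
    let W : TopologicalSpace.Opens A := ⟨p ⁻¹' (V.1 : Set B), V.1.2.preimage hp⟩
    refine iInf_le_of_le ⟨W, V.2⟩ ?_
    have := W.isOpenEmbedding'.quasiSober
    have := V.1.isOpenEmbedding'.quasiSober
    refine topologicalKrullDim_le_of_strict (p := Set.MapsTo.restrict p _ _ (fun x hx => hx))
      (hp.restrict _) fun x x' h e => Subtype.ext (hinj _ _ (h.map continuous_subtype_val) congr(($e).1))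
  · refine le_iInf fun W => ?_
    let V : TopologicalSpace.Opens B := ⟨p '' (W.1 : Set A), ho _ W.1.2⟩
    refine iInf_le_of_le ⟨V, ⟨a, W.2, rfl⟩⟩ ?_
    have := W.1.isOpenEmbedding'.quasiSober
    have := V.isOpenEmbedding'.quasiSober
    refine topologicalKrullDim_le_of_generalizing
      (p := Set.MapsTo.restrict p _ _ (fun x hx => ⟨x, hx, rfl⟩)) (fun x y h => ?_) fun y => ?_
    · obtain ⟨x', h1, h2⟩ := hgen (h.map continuous_subtype_val)
      have hm : x' ∈ (W.1 : Set A) := h1.mem_open W.1.2 x.2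
      exact ⟨⟨x', hm⟩, (subtype_specializes_iff _ _).2 h1, Subtype.ext h2⟩
    · obtain ⟨y, x, hx, rfl⟩ := y
      exact ⟨⟨x, hx⟩, rfl⟩

end Top

theorem quasiSober_fibre {U V : Scheme.{u}} (h : U ⟶ V) (v : V) : QuasiSober (h ⁻¹' {v} : Set U) :=
  (h.fiberHomeo v).symm.isClosedEmbedding.quasiSober

theorem fibreDimAt_eq_subspace {U V : Scheme.{u}} (h : U ⟶ V) (u : U) :
    FlatMor.fibreDimAt h u = FlatMor.localDim (h ⁻¹' {h u} : Set U) ⟨u, rfl⟩ := by
  have := quasiSober_fibre h (h u)
  have H := localDim_eq_of_map (h.fiberHomeo (h u)).continuous (h.fiberHomeo (h u)).isOpenMap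
    (h.fiberHomeo (h u)).isOpenEmbedding.generalizingMap
    (fun a a' _ e => (h.fiberHomeo (h u)).injective e) (h.asFiber u)
  rwa [show h.fiberHomeo (h u) (h.asFiber u) = ⟨u, rfl⟩ from (h.fiberHomeo (h u)).apply_symm_apply _] at H

/-- the general form -/
theorem fibreDimAt_eq_of_square {U V U' V' : Scheme.{u}} {h : U ⟶ V} {h' : U' ⟶ V'} (e₁ : U' ⟶ U)
    (e₂ : V' ⟶ V) (w : e₁ ≫ h = h' ≫ e₂) (ho : IsOpenMap e₁) (hgen : GeneralizingMap e₁)
    (hinj : ∀ a a', a ⤳ a' → e₁ a = e₁ a' → a = a')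
    (hN : ∀ v', ∃ N : Set V', IsOpen N ∧ v' ∈ N ∧ ∀ n ∈ N, e₂ n = e₂ v' → n = v') (u' : U') :
    FlatMor.fibreDimAt h (e₁ u') = FlatMor.fibreDimAt h' u' := by
  have hw : ∀ a, h (e₁ a) = e₂ (h' a) := fun a => by
    rw [← Scheme.Hom.comp_apply, w, Scheme.Hom.comp_apply]
  rw [fibreDimAt_eq_subspace, fibreDimAt_eq_subspace]
  have := quasiSober_fibre h (h (e₁ u'))
  have := quasiSober_fibre h' (h' u')
  obtain ⟨N, hN1, hN2, hN3⟩ := hN (h' u')
  let p : (h' ⁻¹' {h' u'} : Set U') → (h ⁻¹' {h (e₁ u')} : Set U) := fun a => ⟨e₁ a.1, by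
    show h (e₁ a.1) = h (e₁ u')
    rw [hw, hw, show h' a.1 = h' u' from a.2]⟩
  refine (localDim_eq_of_map (p := p) ((e₁.continuous.comp continuous_subtype_val).subtype_mk _) ?_ ?_ ?_
    ⟨u', rfl⟩).symm
  · rintro _ ⟨O, hO, rfl⟩
    refine ⟨e₁ '' (O ∩ h' ⁻¹' N), ho _ (hO.inter (hN1.preimage h'.continuous)), Set.ext fun y => ⟨?_, ?_⟩⟩
    · rintro ⟨a, ⟨haO, haN⟩, he⟩
      have ha : h' a = h' u' := hN3 _ haN (by
        rw [← hw, ← hw, he]
        exact y.2)
      exact ⟨⟨a, ha⟩, haO, Subtype.ext he⟩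
    · rintro ⟨a, ha, rfl⟩
      exact ⟨a.1, ⟨ha, by rw [Set.mem_preimage, show h' a.1 = h' u' from a.2]; exact hN2⟩, rfl⟩
  · intro a y hy
    obtain ⟨a', h1, h2⟩ := hgen (hy.map continuous_subtype_val)
    have hm : h' a' = h' u' := hN3 _ ((h1.map h'.continuous).mem_open hN1
      (by rw [show h' a.1 = h' u' from a.2]; exact hN2)) (by
      rw [← hw, ← hw, h2]
      exact y.2)
    exact ⟨⟨a', hm⟩, (subtype_specializes_iff _ _).2 h1, Subtype.ext h2⟩
  · exact fun a a' hs e => Subtype.ext (hinj _ _ (hs.map continuous_subtype_val) congr(($e).1))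

theorem eq_of_specializes_of_etale {U U' : Scheme.{u}} (e : U' ⟶ U) [Etale e] {a a' : U'} (hs : a ⤳ a')
    (he : e a = e a') : a = a' :=
  haveI := locallyQuasiFinite_of_etale e
  (e.isDiscrete_preimage_singleton (e a')).eq_of_specializes hs he rfl

theorem fibreDimAt_eq_of_etale_square {U V U' V' : Scheme.{u}} {h : U ⟶ V} {h' : U' ⟶ V'} (e₁ : U' ⟶ U)
    (e₂ : V' ⟶ V) [Etale e₁] [Etale e₂] (w : e₁ ≫ h = h' ≫ e₂) (u' : U') :
    FlatMor.fibreDimAt h (e₁ u') = FlatMor.fibreDimAt h' u' := by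
  refine fibreDimAt_eq_of_square e₁ e₂ w e₁.isOpenMap (Flat.generalizingMap e₁)
    (fun a a' hs he => eq_of_specializes_of_etale e₁ hs he) (fun v' => ?_) u'
  have := locallyQuasiFinite_of_etale e₂
  obtain ⟨N, hN, hN2⟩ := isDiscrete_iff_forall_exists_isOpen.1 (e₂.isDiscrete_preimage_singleton (e₂ v')) v' rfl
  exact ⟨N, hN, (Set.mem_singleton v' |> hN2.ge).1, fun n hn he => hN2.le ⟨hn, he⟩⟩

variable {S : Scheme.{u}} {X Y : Sp S}

theorem hasAtMor_fibreDim_iff (hX : IsAlgSpace X) (hY : IsAlgSpace Y) (f : X ⟶ Y) {U V : Over S}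
    (a : (yon S).obj U ⟶ X) (b : (yon S).obj V ⟶ Y) (h : U ⟶ V) (ha : RepWith @Etale a)
    (hb : RepWith @Etale b) (w : a ≫ f = (yon S).map h ≫ b) (u : ↥U.left) (d : WithBot ℕ∞) :
    HasAtMor (fun _ _ h u => FlatMor.fibreDimAt h u = d) f (Points.ofPt a u) ↔
      FlatMor.fibreDimAt h.left u = d := by
  refine ⟨fun H => ?_, fun H => ⟨U, V, a, b, h, u, ha, hb, w, rfl, H⟩⟩
  obtain ⟨U', V', a', b', h', u', ha', hb', w', e, H⟩ := H
  have hra := hX.representable_from_yon a
  have hrb := hY.representable_from_yon b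
  have sqP := hra.isPullback' a'
  have sqQ := hrb.isPullback' b'
  obtain ⟨p, hp1, hp2⟩ := (ofPt_eq_ofPt_iff sqP u u').1 e.symm
  let k : hra.pullback a' ⟶ hrb.pullback b' := hrb.lift' (hra.fst' a' ≫ h) (hra.snd a' ≫ h') (by
    rw [Functor.map_comp, Functor.map_comp, Category.assoc, Category.assoc, ← w, ← w', ← Category.assoc,
      sqP.w, Category.assoc])
  have k1 : k ≫ hrb.fst' b' = hra.fst' a' ≫ h := Functor.relativelyRepresentable.lift'_fst _ _ _ _
  have k2 : k ≫ hrb.snd b' = hra.snd a' ≫ h' := Functor.relativelyRepresentable.lift'_snd _ _ _ _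
  have : Etale (hra.fst' a').left := ha'.property _ _ _ sqP.flip
  have : Etale (hra.snd a').left := ha.property_snd a'
  have : Etale (hrb.fst' b').left := hb'.property _ _ _ sqQ.flip
  have : Etale (hrb.snd b').left := hb.property_snd b'
  have s1 := fibreDimAt_eq_of_etale_square (hra.fst' a').left (hrb.fst' b').left
    (show (hra.fst' a').left ≫ h.left = k.left ≫ (hrb.fst' b').left from congrArg (fun t => t.left) k1.symm) p
  have s2 := fibreDimAt_eq_of_etale_square (hra.snd a').left (hrb.snd b').left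
    (show (hra.snd a').left ≫ h'.left = k.left ≫ (hrb.snd b').left from congrArg (fun t => t.left) k2.symm) p
  rw [hp1] at s1
  rw [hp2] at s2
  rw [s1, ← s2]
  exact H

end Groth.Agent.AlgSpLib
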