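import Groth.Agent.AlgSpLib.LocP
import Groth.Agent.AlgSpLib.SourceReduce
import Groth.Agent.AlgSpLib.SourceRingEtale
import Mathlib.AlgebraicGeometry.Morphisms.Smooth
import Mathlib.AlgebraicGeometry.Morphisms.FormallyUnramified
import Mathlib.AlgebraicGeometry.Morphisms.FinitePresentation

/-!
The standard properties of morphisms of schemes are etale local on the source-and-target.
-/

universe u

open CategoryTheory CategoryTheory.Limits AlgebraicGeometry

namespace Groth.Agent.AlgSpLib

set_option backward.isDefEq.respectTransparency.types false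

theorem etLocal_lft : EtLocal @LocallyOfFiniteType.{u} where
  bc := inferInstance
  comp := inferInstance
  of_etale := etale_le_lft
  localTarget := inferInstance
  descend := descend_source fun φ ψ he hf h => finiteType_of_comp φ ψ he hf h

theorem etLocal_lfp : EtLocal @LocallyOfFinitePresentation.{u} where
  bc := inferInstance
  comp := inferInstance
  of_etale := etale_le_lfp
  localTarget := inferInstance
  descend := descend_source fun φ ψ he hf h => finitePresentation_of_comp φ ψ he hf h

theorem etLocal_flat : EtLocal @Flat.{u} where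
  bc := inferInstance
  comp := inferInstance
  of_etale := etale_le_flat
  localTarget := inferInstance
  descend := descend_source fun φ ψ _ hf h => flat_of_comp φ ψ hf h

theorem etLocal_smooth : EtLocal @Smooth.{u} where
  bc := inferInstance
  comp := inferInstance
  of_etale := fun _ _ f (_ : Etale f) => (inferInstance : Smooth f)
  localTarget := inferInstance
  descend := descend_source fun φ ψ he hf h => smooth_of_comp φ ψ he hf h

theorem etLocal_etale : EtLocal @Etale.{u} where
  bc := inferInstance
  comp := inferInstance
  of_etale := le_refl _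
  localTarget := inferInstance
  descend := descend_source fun φ ψ he hf h => etale_of_comp φ ψ he hf h

theorem descend_formallyUnramified ⦃X' X Y : Scheme.{u}⦄ (g : X' ⟶ X) (f : X ⟶ Y) (hg : Etale g)
    (hs : Surjective g) (h : FormallyUnramified (g ≫ f)) : FormallyUnramified f :=
  descend_source (P := @FormallyUnramified)
    (fun φ ψ he hf h => formallyUnramified_of_comp φ ψ he hf h) g f hg hs h

theorem etLocal_unramified :
    EtLocal (@LocallyOfFiniteType ⊓ @FormallyUnramified : MorphismProperty Scheme.{u}) where
  bc := inferInstance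
  comp := ⟨fun {_ _ _} f g hf hg => ⟨MorphismProperty.comp_mem _ f g hf.1 hg.1,
    MorphismProperty.comp_mem _ f g hf.2 hg.2⟩⟩
  of_etale := fun _ _ f (_ : Etale f) =>
    ⟨(inferInstance : LocallyOfFiniteType f), (inferInstance : FormallyUnramified f)⟩
  localTarget := inferInstance
  descend := fun _ _ _ g f hg hs h =>
    ⟨etLocal_lft.descend g f hg hs h.1, descend_formallyUnramified g f hg hs h.2⟩

theorem etLocal_lqf :
    EtLocal (@LocallyQuasiFinite ⊓ @LocallyOfFiniteType : MorphismProperty Scheme.{u}) where
  bc := inferInstance
  comp := ⟨fun {_ _ _} f g hf hg => ⟨MorphismProperty.comp_mem _ f g hf.1 hg.1,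
    MorphismProperty.comp_mem _ f g hf.2 hg.2⟩⟩
  of_etale := fun _ _ f (_ : Etale f) =>
    ⟨locallyQuasiFinite_of_etale f, (inferInstance : LocallyOfFiniteType f)⟩
  localTarget := inferInstance
  descend := fun _ _ _ g f hg hs h =>
    ⟨descend_source (P := @LocallyQuasiFinite) (fun φ ψ _ hf h => quasiFinite_of_comp φ ψ hf h)
      g f hg hs h.1, etLocal_lft.descend g f hg hs h.2⟩

/-- the seven standard properties -/
theorem etLocal_of_mem {P : MorphismProperty Scheme.{u}}
    (hP : P = @LocallyOfFiniteType ∨ P = @LocallyOfFinitePresentation ∨ P = @Flat ∨ P = @Smooth ∨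
      P = @Etale ∨
      (∀ ⦃A B : Scheme.{u}⦄ (g : A ⟶ B), P g ↔ (LocallyQuasiFinite g ∧ LocallyOfFiniteType g)) ∨
      (∀ ⦃A B : Scheme.{u}⦄ (g : A ⟶ B), P g ↔ (LocallyOfFiniteType g ∧ FormallyUnramified g))) :
    EtLocal P := by
  rcases hP with rfl | rfl | rfl | rfl | rfl | h | h
  · exact etLocal_lft
  · exact etLocal_lfp
  · exact etLocal_flat
  · exact etLocal_smooth
  · exact etLocal_etale
  · have : P = (@LocallyQuasiFinite ⊓ @LocallyOfFiniteType : MorphismProperty Scheme.{u}) := by
      ext A B g; exact h g
    exact this ▸ etLocal_lqf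
  · have : P = (@LocallyOfFiniteType ⊓ @FormallyUnramified : MorphismProperty Scheme.{u}) := by
      ext A B g; exact h g
    exact this ▸ etLocal_unramified

end Groth.Agent.AlgSpLib
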