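import Mathlib.RingTheory.Etale.Kaehler
import Mathlib.RingTheory.Etale.Descent
import Mathlib.RingTheory.Finiteness.Descent
import Mathlib.RingTheory.Flat.FaithfullyFlat.Algebra
import Mathlib.RingTheory.Flat.FaithfullyFlat.Descent
import Mathlib.RingTheory.QuasiFinite.Basic
import Mathlib.RingTheory.RingHom.QuasiFinite
import Mathlib.RingTheory.RingHom.Etale
import Mathlib.RingTheory.RingHom.Unramified
import Mathlib.RingTheory.RingHom.FaithfullyFlat
import Mathlib.RingTheory.RingHom.Flat
import Mathlib.RingTheory.Smooth.NoetherianDescent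
import Mathlib.RingTheory.Spectrum.Prime.Chevalley

/-!
Descent of properties of ring maps `R → A` along faithfully flat (etale) maps `A → B`.
-/

universe u

open TensorProduct

namespace Groth.Agent.AlgSpLib

variable {R A B : Type u} [CommRing R] [CommRing A] [CommRing B]

theorem mk_one_rTensor_injective [Algebra R A] [Algebra A B] [Algebra R B] [IsScalarTower R A B]
    [Module.FaithfullyFlat A B] (N : Type u) [AddCommGroup N] [Module R N] :
    Function.Injective (LinearMap.rTensor N (IsScalarTower.toAlgHom R A B).toLinearMap) := by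
  let e := AlgebraTensorModule.cancelBaseChange R A A B N
  have h : ∀ x : A ⊗[R] N, e ((1 : B) ⊗ₜ[A] x) =
      LinearMap.rTensor N (IsScalarTower.toAlgHom R A B).toLinearMap x := by
    intro x
    induction x with
    | zero => simp
    | add x y hx hy => simp only [tmul_add, map_add, hx, hy]
    | tmul a n => simp [e, Algebra.algebraMap_eq_smul_one]
  intro x y hxy
  refine Module.FaithfullyFlat.tensorProduct_mk_injective (A ⊗[R] N) (A := A) (B := B) ?_
  exact e.injective (by simpa [h] using hxy)

theorem flat_of_comp (φ : R →+* A) (ψ : A →+* B) (hψ : ψ.FaithfullyFlat)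
    (h : (ψ.comp φ).Flat) : φ.Flat := by
  algebraize [φ, ψ, ψ.comp φ]
  have : Module.Flat R B := h
  rw [← RingHom.algebraMap_toAlgebra φ, RingHom.flat_algebraMap_iff]
  rw [Module.Flat.iff_lTensor_preserves_injective_linearMap]
  intro N' N _ _ _ _ f hf x y hxy
  refine mk_one_rTensor_injective (R := R) (A := A) (B := B) N' ?_
  refine Module.Flat.lTensor_preserves_injective_linearMap f hf ?_
  rw [← LinearMap.comp_apply, ← LinearMap.comp_apply, LinearMap.lTensor_comp_rTensor,
    ← LinearMap.rTensor_comp_lTensor, LinearMap.comp_apply, LinearMap.comp_apply, hxy]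

theorem formallyUnramified_of_comp (φ : R →+* A) (ψ : A →+* B) (he : ψ.Etale)
    (hψ : ψ.FaithfullyFlat) (h : (ψ.comp φ).FormallyUnramified) : φ.FormallyUnramified := by
  algebraize [φ, ψ, ψ.comp φ]
  have : Subsingleton (B ⊗[A] Ω[A⁄R]) :=
    (KaehlerDifferential.tensorKaehlerEquivOfFormallyEtale R A B).subsingleton
  exact ⟨Module.FaithfullyFlat.lTensor_reflects_triviality A B _⟩

theorem quasiFinite_of_comp (φ : R →+* A) (ψ : A →+* B)
    (hψ : ψ.FaithfullyFlat) (h : (ψ.comp φ).QuasiFinite) : φ.QuasiFinite := by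
  algebraize [φ, ψ, ψ.comp φ]
  refine ⟨fun p _ => ?_⟩
  have hi : Function.Injective (LinearMap.lTensor p.ResidueField
      (IsScalarTower.toAlgHom R A B).toLinearMap) := by
    intro x y hxy
    apply (TensorProduct.comm R p.ResidueField A).injective
    apply mk_one_rTensor_injective (R := R) (A := A) (B := B) p.ResidueField
    have key : ∀ z : p.ResidueField ⊗[R] A,
        LinearMap.rTensor p.ResidueField (IsScalarTower.toAlgHom R A B).toLinearMap
          (TensorProduct.comm R p.ResidueField A z) =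
        TensorProduct.comm R p.ResidueField B
          (LinearMap.lTensor p.ResidueField (IsScalarTower.toAlgHom R A B).toLinearMap z) := by
      intro z
      induction z with
      | zero => simp
      | add a b ha hb => simp only [map_add, ha, hb]
      | tmul a b => simp
    rw [key, key, hxy]
  let l : p.ResidueField ⊗[R] A →ₗ[p.ResidueField] p.ResidueField ⊗[R] B :=
    LinearMap.baseChange p.ResidueField (IsScalarTower.toAlgHom R A B).toLinearMap
  have : Module.Finite p.ResidueField (p.ResidueField ⊗[R] B) :=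
    Algebra.QuasiFinite.finite_fiber p
  exact Module.Finite.of_injective l hi

theorem finiteType_of_comp (φ : R →+* A) (ψ : A →+* B) (he : ψ.Etale) (hψ : ψ.FaithfullyFlat)
    (h : (ψ.comp φ).FiniteType) : φ.FiniteType := by
  classical
  algebraize [φ, ψ, ψ.comp φ]
  obtain ⟨A₀, B₀, _, _, hA₀, _, ⟨e⟩⟩ := Algebra.Etale.exists_subalgebra_fg R A B
  obtain ⟨s, hs⟩ := (inferInstance : Algebra.FiniteType R B).out
  choose! S hS using fun b : B => TensorProduct.exists_finset (e b)
  -- the open image of `Spec B₀`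
  have hopen : IsOpen (Set.range (PrimeSpectrum.comap (algebraMap A₀ B₀))) :=
    (PrimeSpectrum.isOpenMap_comap_of_hasGoingDown_of_finitePresentation (R := A₀) (S := B₀)).isOpen_range
  obtain ⟨J, hJ⟩ := (PrimeSpectrum.isClosed_iff_zeroLocus_ideal _).1 hopen.isClosed_compl
  have hJA : J.map (algebraMap A₀ A) = ⊤ := by
    by_contra hne
    obtain ⟨m, hm, hle⟩ := Ideal.exists_le_maximal _ hne
    obtain ⟨q, hq⟩ := PrimeSpectrum.comap_surjective_of_faithfullyFlat (A := A) (B := B)
      ⟨m, hm.isPrime⟩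
    let j : B₀ →+* B := e.symm.toRingEquiv.toRingHom.comp
      (Algebra.TensorProduct.includeRight (R := A₀) (A := A) (B := B₀)).toRingHom
    have hc : j.comp (algebraMap A₀ B₀) = (algebraMap A B).comp (algebraMap A₀ A) := by
      ext x
      simp only [j, RingHom.comp_apply, AlgHom.toRingHom_eq_coe, RingHom.coe_coe,
        Algebra.TensorProduct.includeRight_apply]
      rw [← e.symm.commutes]
      simp [Algebra.TensorProduct.algebraMap_apply, Algebra.algebraMap_eq_smul_one,
        TensorProduct.smul_tmul, Algebra.TensorProduct.one_def]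
      rfl
    have hin : PrimeSpectrum.comap (algebraMap A₀ A) ⟨m, hm.isPrime⟩ ∈
        Set.range (PrimeSpectrum.comap (algebraMap A₀ B₀)) := by
      refine ⟨PrimeSpectrum.comap j q, ?_⟩
      rw [← PrimeSpectrum.comap_comp_apply, hc, PrimeSpectrum.comap_comp_apply, hq]
    have hmem : PrimeSpectrum.comap (algebraMap A₀ A) ⟨m, hm.isPrime⟩ ∈
        PrimeSpectrum.zeroLocus (J : Set A₀) := Ideal.map_le_iff_le_comap.1 hle
    rw [← hJ] at hmem
    exact hmem hin
  have h1 : (1 : A) ∈ Submodule.span A ((algebraMap A₀ A) '' (J : Set A₀)) :=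
    (Ideal.eq_top_iff_one _).1 hJA
  obtain ⟨n, a, g, hg⟩ := Submodule.mem_span_set'.1 h1
  let T : Finset A := (s.biUnion fun b => (S b).image Prod.fst) ∪ Finset.univ.image a
  let A₁ : Subalgebra A₀ A := Algebra.adjoin A₀ (T : Set A)
  -- `B` comes from `A₁`
  let θ : A₁ ⊗[A₀] B₀ →ₐ[A₀] A ⊗[A₀] B₀ := Algebra.TensorProduct.map A₁.val (AlgHom.id A₀ B₀)
  have hθ : Function.Surjective θ := by
    let φ₁ : A₁ ⊗[A₀] B₀ →ₐ[R] B :=
      (e.symm.restrictScalars R).toAlgHom.comp (θ.restrictScalars R)
    have hφ₁ : φ₁.range = ⊤ := by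
      rw [eq_top_iff, ← hs, Algebra.adjoin_le_iff]
      intro b hb
      have hbe : e b ∈ θ.range := by
        rw [hS b]
        refine Subalgebra.sum_mem _ fun i hi => ?_
        have hi1 : i.1 ∈ A₁ := Algebra.subset_adjoin (Finset.mem_union_left _
          (Finset.mem_biUnion.2 ⟨b, hb, Finset.mem_image_of_mem _ hi⟩))
        exact ⟨⟨i.1, hi1⟩ ⊗ₜ i.2, rfl⟩
      obtain ⟨x, hx⟩ := hbe
      exact ⟨x, by simp only [φ₁, AlgHom.comp_apply]; exact e.injective (by simpa using hx)⟩
    intro y
    obtain ⟨x, hx⟩ := (φ₁.range_eq_top).1 hφ₁ (e.symm y)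
    exact ⟨x, e.symm.injective hx⟩
  let N : Submodule A₁ A := LinearMap.range (Algebra.linearMap A₁ A)
  let π : A →ₗ[A₀] A ⧸ N := N.mkQ.restrictScalars A₀
  have hM : ∀ y : (A ⧸ N) ⊗[A₀] B₀, y = 0 := by
    intro y
    obtain ⟨x, rfl⟩ := LinearMap.rTensor_surjective B₀
      (show Function.Surjective π from N.mkQ_surjective) y
    obtain ⟨z, rfl⟩ := hθ x
    induction z with
    | zero => simp
    | add u v hu hv => simp only [map_add, hu, hv, add_zero]
    | tmul u v =>
      have : π (u : A) = 0 := (Submodule.Quotient.mk_eq_zero N).2 ⟨u, rfl⟩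
      change π (u : A) ⊗ₜ[A₀] v = 0
      rw [this, TensorProduct.zero_tmul]
  have hN : ∀ m : A ⧸ N, m = 0 := by
    intro m
    let f : A₀ →ₗ[A₀] A ⧸ N := LinearMap.toSpanSingleton A₀ (A ⧸ N) m
    let I : Ideal A₀ := LinearMap.ker f
    have hinj : Function.Injective (LinearMap.rTensor B₀ (I.liftQ f le_rfl)) :=
      Module.Flat.rTensor_preserves_injective_linearMap _
        (LinearMap.ker_eq_bot.1 (Submodule.ker_liftQ_eq_bot _ _ _ le_rfl))
    have hsub : Subsingleton ((A₀ ⧸ I) ⊗[A₀] B₀) := ⟨fun x y => hinj ((hM _).trans (hM _).symm)⟩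
    have hsub' : Subsingleton (B₀ ⧸ (I • ⊤ : Submodule A₀ B₀)) :=
      (TensorProduct.quotTensorEquivQuotSMul B₀ I).symm.toEquiv.subsingleton
    have hIB : I.map (algebraMap A₀ B₀) = ⊤ := by
      have := Submodule.Quotient.subsingleton_iff.1 hsub'
      rw [Ideal.smul_top_eq_map] at this
      exact (Submodule.restrictScalars_eq_top_iff _ _ _).1 this
    have hJI : J ≤ I.radical := by
      rw [Ideal.radical_eq_sInf]
      refine le_sInf fun p hp => ?_
      have := hp.2
      have hp' : (⟨p, hp.2⟩ : PrimeSpectrum A₀) ∉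
          Set.range (PrimeSpectrum.comap (algebraMap A₀ B₀)) := by
        rintro ⟨q, hq⟩
        have : I.map (algebraMap A₀ B₀) ≤ q.asIdeal := Ideal.map_le_iff_le_comap.2
          (le_trans hp.1 (le_of_eq (congrArg PrimeSpectrum.asIdeal hq).symm))
        exact q.isPrime.ne_top (top_le_iff.1 (hIB ▸ this))
      rw [← Set.mem_compl_iff, hJ] at hp'
      exact hp'
    have hJ1 : J.map (algebraMap A₀ A₁) = ⊤ := by
      rw [Ideal.eq_top_iff_one]
      have h2 : ∀ i, ∃ j ∈ J, algebraMap A₀ A j = (g i : A) := fun i => (g i).2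
      choose j hj hjg using h2
      have hval : (1 : A₁) = ∑ i, (⟨a i, Algebra.subset_adjoin (Finset.mem_union_right _
          (Finset.mem_image_of_mem _ (Finset.mem_univ i)))⟩ : A₁) * algebraMap A₀ A₁ (j i) := by
        apply Subtype.ext
        simp only [AddSubmonoidClass.coe_finsetSum, MulMemClass.coe_mul, OneMemClass.coe_one,
          Subalgebra.coe_algebraMap, hjg]
        simpa [smul_eq_mul] using hg.symm
      rw [hval]
      exact Ideal.sum_mem _ fun i _ => Ideal.mul_mem_left _ _ (Ideal.mem_map_of_mem _ (hj i))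
    have htop : I.map (algebraMap A₀ A₁) = ⊤ := by
      rw [← Ideal.radical_eq_top, ← top_le_iff]
      exact le_trans (le_trans hJ1.ge (Ideal.map_mono hJI)) (Ideal.map_radical_le _)
    have hann : I.map (algebraMap A₀ A₁) ≤ LinearMap.ker (LinearMap.toSpanSingleton A₁ (A ⧸ N) m) := by
      rw [Ideal.map_le_iff_le_comap]
      intro x hx
      have : x • m = 0 := hx
      simpa [algebraMap_smul] using this
    have := hann (htop ▸ Submodule.mem_top (x := (1 : A₁)))
    simpa using this
  have hA₁ : A₁ = ⊤ := by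
    rw [eq_top_iff]
    intro x _
    obtain ⟨y, hy⟩ := (Submodule.Quotient.mk_eq_zero N).1 (hN (N.mkQ x))
    rw [← hy]
    exact y.2
  have : Algebra.FiniteType A₀ A := ⟨⟨T, hA₁⟩⟩
  have : Algebra.FiniteType R A₀ := (Subalgebra.fg_iff_finiteType A₀).1 hA₀
  exact Algebra.FiniteType.trans (S := A₀) ‹_› ‹_›

end Groth.Agent.AlgSpLib
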