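import Groth.Agent.AlgSpLib.FpqcBaseAffine
import Groth.Prelude.Def_AlgSpMor5

/-!
Finite, integral, finite locally free and quasi-affine morphisms are fpqc local on the base;
recognising affine morphisms on etale covers.
-/

universe u

open CategoryTheory CategoryTheory.Limits AlgebraicGeometry
open AlgSp

noncomputable section

namespace Groth.Agent.AlgSpLib

set_option backward.isDefEq.respectTransparency.types false

variable {S : Scheme.{u}}

theorem isIntegralMor_iff_repWith {F G : Sp S} (f : F ⟶ G) :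
    IsIntegralMor f ↔ RepWith @IsIntegralHom f := by
  refine ⟨fun h => repWith_of_affine @IsIntegralHom fun Z hZ g => ?_, fun h Z hZ g => ?_⟩
  · obtain ⟨W, w, fst, sq, -, hW⟩ := h hZ g
    exact ⟨W, w, fst, sq, hW⟩
  · obtain ⟨W, w, fst, sq, hW⟩ := exists_yon_of_repWith h g
    have : IsIntegralHom w.left := hW
    exact ⟨W, w, fst, sq, isAffine_of_isAffineHom w.left, hW⟩

theorem isFiniteMor_iff_repWith {F G : Sp S} (f : F ⟶ G) :
    IsFiniteMor f ↔ RepWith @IsFinite f := by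
  refine ⟨fun h => repWith_of_affine @IsFinite fun Z hZ g => ?_, fun h Z hZ g => ?_⟩
  · obtain ⟨W, w, fst, sq, -, hW⟩ := h hZ g
    exact ⟨W, w, fst, sq, hW⟩
  · obtain ⟨W, w, fst, sq, hW⟩ := exists_yon_of_repWith h g
    have : IsFinite w.left := hW
    exact ⟨W, w, fst, sq, isAffine_of_isAffineHom w.left, hW⟩

theorem isLocalOnBase_fpqc_integral : IsLocalOnBase (IsFpqcCover (S := S)) IsIntegralMor :=
  haveI := Et18.descends_isIntegralHom.{u}
  isLocalOnBase_congr (fun _ _ _ _ f => isIntegralMor_iff_repWith f)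
    (isLocalOnBase_fpqc_repWith @IsIntegralHom fun _ _ g (h : IsIntegralHom g) => h.toIsAffineHom)

theorem isLocalOnBase_fpqc_finite : IsLocalOnBase (IsFpqcCover (S := S)) IsFiniteMor :=
  haveI := Et18.descends_isFinite.{u}
  isLocalOnBase_congr (fun _ _ _ _ f => isFiniteMor_iff_repWith f)
    (isLocalOnBase_fpqc_repWith @IsFinite fun _ _ g (h : IsFinite g) => h.toIsAffineHom)

theorem isLocalOnBase_fpqc_closedImmersion :
    IsLocalOnBase (IsFpqcCover (S := S)) (RepWith @IsClosedImmersion) :=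
  haveI := Et18.descends_isClosedImmersion.{u}
  isLocalOnBase_fpqc_repWith @IsClosedImmersion
    fun _ _ g (h : IsClosedImmersion g) => (inferInstance : IsAffineHom g)

theorem finLocFree_eq :
    (finLocFree.{u}) = (@IsFinite ⊓ (@Flat ⊓ @LocallyOfFinitePresentation) : MorphismProperty Scheme.{u}) := by
  ext X Y f
  exact Iff.rfl

theorem isLocalOnBase_fpqc_finLocFree : IsLocalOnBase (IsFpqcCover (S := S)) IsFinLocFreeMor := by
  show IsLocalOnBase IsFpqcCover (RepWith finLocFree)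
  rw [finLocFree_eq]
  haveI := Et18.descends_isFinite.{u}
  haveI := descends_flat.{u}
  exact isLocalOnBase_fpqc_repWith _
    fun _ _ g h => (show IsFinite g from h.1).toIsAffineHom

theorem isQuasiAffineMor_of_isPullback {X Y X' Y' : Sp S} {f : X ⟶ Y} {g : Y' ⟶ Y} {fst : X' ⟶ X}
    {snd : X' ⟶ Y'} (sq : IsPullback fst snd f g) (hf : IsQuasiAffineMor f) : IsQuasiAffineMor snd := by
  intro Z hZ t
  obtain ⟨W, w, p, h, hW⟩ := hf hZ (t ≫ g)
  exact ⟨W, w, sq.lift p ((yon S).map w ≫ t) (by rw [Category.assoc]; exact h.w), IsPullback.of_right'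
    h sq, hW⟩

theorem representable_of_isQuasiAffineMor {X Y : Sp S} {f : X ⟶ Y} (hf : IsQuasiAffineMor f) :
    Representable f :=
  representable_of_affine f fun Z hZ g => by
    obtain ⟨W, w, p, h, -⟩ := hf hZ g
    exact ⟨W, w, p, h⟩

theorem isLocalOnBase_fpqc_quasiAffine :
    IsLocalOnBase (IsFpqcCover (S := S)) IsQuasiAffineMor := by
  refine isLocalOnBase_fpqc_of_affine _
    (fun _ _ _ _ _ _ _ _ _ _ _ _ sq h => isQuasiAffineMor_of_isPullback sq h)
    (fun X Y hX hY f h Z hZ g => ?_) (fun Z m V c hZ hV hc hs X f Q a b hX hQ sq hb T hT t => ?_)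
  · have sq := IsPullback.of_hasPullback f g
    obtain ⟨W, w, fst, sqW, hw⟩ := h Z hZ g _ _ _
      (isAlgSpace_of_isPullback hY.diag hX (IsAlgSpace.yon_obj Z) sq) sq hZ (𝟙 _)
    exact ⟨W, w, fst ≫ pullback.fst f g, by simpa using sqW.paste_horiz sq, hw⟩
  have sqP := IsPullback.of_hasPullback f t
  obtain ⟨W, π, r, R, u, s, v, hW, hπ, hπs, sqR, sqv⟩ := exists_pieces c hZ hV hc hs sq hT sqP
  choose W' w' p' hp hW' using fun j => isQuasiAffineMor_of_isPullback (sqv j) (hb j) (hW j) (𝟙 _)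
  have sqj : ∀ j, IsPullback (p' j ≫ u j) ((yon S).map (w' j)) (pullback.snd f t)
      ((yon S).map (π j)) := fun j => by
    simpa using (hp j).paste_horiz (sqR j)
  obtain ⟨A, i, fst, hA, sqA⟩ := exists_quasiAffine_of_fpqc_family π hT hW hπ hπs
    (isAlgSpace_of_isPullback (IsAlgSpace.yon_obj Z).diag hX (IsAlgSpace.yon_obj T) sqP) hW' sqj
  exact ⟨A, i, fst ≫ pullback.fst f t, by simpa using sqA.paste_horiz sqP, hA⟩

theorem isFpqcCover_of_etale {X : Sp S} (hX : IsAlgSpace X) {ι : Type u} (V : ι → Over S)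
    (p : ∀ i, (yon S).obj (V i) ⟶ X) (he : ∀ i, RepWith @Etale (p i))
    (hs : ∀ x : Points X, ∃ i, x ∈ Set.range (Points.map (p i))) :
    IsFpqcCover (fun i => (yon S).obj (V i)) p :=
  isFpqcCover_of_isFppfCover hX (fun i => IsAlgSpace.yon_obj _)
    ⟨fun i => ⟨locP_of_repWith etLocal_flat (IsAlgSpace.yon_obj _) (RepWith.mono etale_le_flat (he i)),
      locP_of_repWith etLocal_lfp (IsAlgSpace.yon_obj _) (RepWith.mono etale_le_lfp (he i))⟩, hs⟩

theorem iff_of_etale_cover {P : MorphismProperty (Sp S)}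
    (hP : IsLocalOnBase (IsFpqcCover (S := S)) P) {X Y : Sp S} (hX : IsAlgSpace X) (hY : IsAlgSpace Y)
    (f : X ⟶ Y) {V : Over S} (p : (yon S).obj V ⟶ Y) (hp : RepWith @Etale p)
    (hps : RepWith @Surjective p) {Q : Sp S} {fst : Q ⟶ X} {snd : Q ⟶ (yon S).obj V}
    (sq : IsPullback fst snd f p) : P f ↔ P snd :=
  (hP (fun _ : PUnit.{u + 1} => (yon S).obj V) (fun _ => p) hY (fun _ => IsAlgSpace.yon_obj _)
    (isFpqcCover_of_etale hY _ _ (fun _ => hp)
      fun x => ⟨⟨⟩, surjective_map_of_repWith hps x⟩)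
    f hX (fun _ => Q) (fun _ => snd) (fun _ => fst)
    (fun _ => isAlgSpace_of_isPullback hY.diag hX (IsAlgSpace.yon_obj _) sq) (fun _ => sq)).trans
    ⟨fun h => h ⟨⟩, fun h _ => h⟩

theorem isAffineMor_of_affine_charts {X Y : Sp S} (hX : IsAlgSpace X) (hY : IsAlgSpace Y) (f : X ⟶ Y)
    (h : ∀ (V : Over S), IsAffine V.left → ∀ (b : (yon S).obj V ⟶ Y), RepWith @Etale b →
      ∀ (P : Sp S) (fst : P ⟶ X) (snd : P ⟶ (yon S).obj V), IsPullback fst snd f b →
      ∃ (W : Over S), IsAffine W.left ∧ Nonempty ((yon S).obj W ≅ P)) : IsAffineMor f := by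
  obtain ⟨U, p, he, hs⟩ := hY.atlas
  let V : U.left.affineOpens → Over S := fun O => restrictOver U O.1
  let b : ∀ O, (yon S).obj (V O) ⟶ Y := fun O => (yon S).map (restrictOverι U O.1) ≫ p
  have hb : ∀ O, RepWith @Etale (b O) := fun O => RepWith.comp
    ((repWith_yon_map_iff _ _).2 (inferInstanceAs (Etale O.1.ι))) he
  have sq := fun O => IsPullback.of_hasPullback f (b O)
  refine (isAffineMor_iff_isLocal (fun O => (yon S).obj (V O)) b hY (fun O => IsAlgSpace.yon_obj _)
    (isFpqcCover_of_etale hY V b hb fun y => ?_) f hX _ _ _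
    (fun O => isAlgSpace_of_isPullback hY.diag hX (IsAlgSpace.yon_obj _) (sq O)) sq).2 fun O => ?_
  · obtain ⟨x, rfl⟩ := surjective_ofPt p hs y
    obtain ⟨O, hO, -⟩ := exists_affine_mem (O := ⊤) (x := x) trivial
    refine ⟨O, Points.schemeHomeo _ ⟨x, hO⟩, ?_⟩
    show Points.map (b O) (Points.ofScheme (V O) ⟨x, hO⟩) = _
    rw [← Points.ofPt_eq_map_ofScheme]
    exact ofPt_map _ _ _
  · obtain ⟨W, hW, ⟨e⟩⟩ := h (V O) O.2 (b O) (hb O) _ _ _ (sq O)
    have : IsAffine (V O).left := O.2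
    obtain ⟨w, hw⟩ := (yon S).map_surjective (e.hom ≫ pullback.snd f (b O))
    rw [isAffineMor_iff_repWith]
    refine ((MorphismProperty.cancel_left_of_respectsIso (RepWith @IsAffineHom) e.hom _)).1 ?_
    rw [← hw]
    exact (repWith_yon_map_iff _ w).2 (isAffineHom_of_isAffine _)

end Groth.Agent.AlgSpLib
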