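import Groth.Agent.AlgSpLib.PointsTop
import Mathlib.AlgebraicGeometry.Noetherian
import Mathlib.Topology.NoetherianSpace

/-!
Compactness and noetherianity of the space of points.
-/

universe u

open CategoryTheory CategoryTheory.Limits AlgebraicGeometry Opposite Topology TopologicalSpace
open AlgSp

noncomputable section

namespace Groth.Agent.AlgSpLib

set_option backward.isDefEq.respectTransparency.types false

variable {S : Scheme.{u}} {F : Sp S}

/-- refine a chart to a disjoint union of opens of it -/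
theorem exists_sigma_chart {U : Over S} (p : (yon S).obj U ⟶ F) (he : RepWith @Etale p)
    {ι : Type u} (O : ι → U.left.Opens)
    (hO : ∀ x : Points F, ∃ i, ∃ v ∈ O i, Points.ofPt p v = x) :
    ∃ p' : (yon S).obj (Over.mk (Sigma.desc (fun i => (O i).ι) ≫ U.hom)) ⟶ F,
      RepWith @Etale p' ∧ RepWith @Surjective p' := by
  let U' : Over S := Over.mk (Sigma.desc (fun i => (O i).ι) ≫ U.hom)
  let π : U' ⟶ U := Over.homMk (Sigma.desc fun i => (O i).ι)
  have : Etale π.left := IsZariskiLocalAtSource.sigmaDesc (P := @Etale) fun i => inferInstance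
  have he' : RepWith @Etale ((yon S).map π ≫ p) :=
    RepWith.comp ((repWith_yon_map_iff _ π).2 this) he
  refine ⟨(yon S).map π ≫ p, he', repWith_surjective_of_surjective_ofPt _ he'.1 fun x => ?_⟩
  obtain ⟨i, v, hv, rfl⟩ := hO x
  refine ⟨Sigma.ι (fun i => (O i).toScheme) i ⟨v, hv⟩, ?_⟩
  rw [ofPt_map]
  congr 1
  show ((Sigma.ι (fun i => (O i).toScheme) i) ≫ Sigma.desc fun i => (O i).ι) ⟨v, hv⟩ = v
  rw [Sigma.ι_desc]
  rfl

theorem compactSpace_points_of_isQuasiCompactSp (h : IsQuasiCompactSp F) :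
    CompactSpace (Points F) := by
  obtain ⟨U, p, -, hs, hU⟩ := h
  exact ⟨(surjective_ofPt p hs).range_eq ▸ isCompact_range (Points.continuous_ofPt p)⟩

theorem exists_affine_chart (hF : IsAlgSpace F) [CompactSpace (Points F)] :
    ∃ (U : Over S) (p : (yon S).obj U ⟶ F),
      IsAffine U.left ∧ RepWith @Etale p ∧ RepWith @Surjective p := by
  obtain ⟨U, p, he, hs⟩ := hF.atlas
  obtain ⟨σ, hσ⟩ := isCompact_univ.elim_finite_subcover
    (fun i : U.left.affineOpens => Points.ofPt p '' (i.1 : Set U.left))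
    (fun i => isOpenMap_ofPt p he _ i.1.2) (fun x _ => by
      obtain ⟨u, rfl⟩ := surjective_ofPt p hs x
      obtain ⟨_, ⟨V, hV, rfl⟩, hu, -⟩ :=
        U.left.isBasis_affineOpens.exists_subset_of_mem_open (Set.mem_univ u) isOpen_univ
      exact Set.mem_iUnion.2 ⟨⟨V, hV⟩, u, hu, rfl⟩)
  obtain ⟨p', h1, h2⟩ := exists_sigma_chart p he (fun i : σ => i.1.1) fun x => by
    obtain ⟨i, hi, v, hv, rfl⟩ := Set.mem_iUnion₂.1 (hσ (Set.mem_univ x))
    exact ⟨⟨i, hi⟩, v, hv, rfl⟩
  have : ∀ i : σ, IsAffine i.1.1.toScheme := fun i => i.1.2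
  exact ⟨_, p', (inferInstance : IsAffine (∐ fun i : σ => i.1.1.toScheme)), h1, h2⟩

theorem isQuasiCompactSp_iff_compactSpace (hF : IsAlgSpace F) :
    IsQuasiCompactSp F ↔ CompactSpace (Points F) := by
  refine ⟨compactSpace_points_of_isQuasiCompactSp, fun h => ?_⟩
  obtain ⟨U, p, hU, he, hs⟩ := exists_affine_chart hF
  exact ⟨U, p, he, hs, inferInstance⟩

theorem exists_etale_surjective_sigma_affine (hF : IsAlgSpace F) :
    ∃ (ι : Type u) (V : ι → Scheme.{u}) (_ : ∀ i, IsAffine (V i)) (q : (∐ V) ⟶ S)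
      (p : (yon S).obj (Over.mk q) ⟶ F),
      RepWith @Etale p ∧ RepWith @Surjective p ∧
        ∀ i, ∃ W : S.Opens, IsAffineOpen W ∧ ∀ v : ↥(V i), (Sigma.ι V i ≫ q) v ∈ W := by
  obtain ⟨U, p, he, hs⟩ := hF.atlas
  let ι := {O : U.left.affineOpens // ∃ W : S.Opens, IsAffineOpen W ∧ O.1 ≤ U.hom ⁻¹ᵁ W}
  obtain ⟨p', h1, h2⟩ := exists_sigma_chart p he (fun i : ι => i.1.1) fun x => by
    obtain ⟨u, rfl⟩ := surjective_ofPt p hs x
    obtain ⟨_, ⟨W, hW, rfl⟩, hu, -⟩ :=
      S.isBasis_affineOpens.exists_subset_of_mem_open (Set.mem_univ (U.hom u)) isOpen_univ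
    obtain ⟨_, ⟨V, hV, rfl⟩, hu', hle⟩ :=
      U.left.isBasis_affineOpens.exists_subset_of_mem_open (show u ∈ U.hom ⁻¹ᵁ W from hu)
        (U.hom ⁻¹ᵁ W).2
    exact ⟨⟨⟨V, hV⟩, W, hW, hle⟩, u, hu', rfl⟩
  refine ⟨ι, fun i => i.1.1.toScheme, fun i => i.1.2, _, p', h1, h2, fun i => ?_⟩
  obtain ⟨W, hW, hle⟩ := i.2
  exact ⟨W, hW, fun v => by rw [Sigma.ι_desc_assoc]; exact hle v.2⟩

theorem eq_univ_of_range_inj_subset {ι : Type u} {X : ι → Sp S} (c : Cofan X) (hc : IsColimit c)
    (W : Set (Points c.pt)) (hW : ∀ i, Set.range (Points.map (c.inj i)) ⊆ W) : W = Set.univ := by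
  have hl : ∀ i, ∃ l : X i ⟶ openSubspace c.pt W, l ≫ openSubspaceι c.pt W = c.inj i := fun i => by
    suffices hle : Subfunctor.range (c.inj i).hom ≤ openSubfunctor c.pt W from
      ⟨⟨Subfunctor.lift (c.inj i).hom hle⟩, Sheaf.hom_ext (Subfunctor.lift_ι _ hle)⟩
    rintro T _ ⟨s, rfl⟩ t
    have e : (GrothendieckTopology.uliftYonedaEquiv.{u + 1} (J := J S) (F := c.pt) (X := T.unop)).symm
          ((c.inj i).hom.app T s) =
        (GrothendieckTopology.uliftYonedaEquiv.{u + 1} (J := J S) (F := X i) (X := T.unop)).symm s ≫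
          c.inj i := by
      apply (GrothendieckTopology.uliftYonedaEquiv.{u + 1} (J := J S)).injective
      rw [GrothendieckTopology.uliftYonedaEquiv_comp, Equiv.apply_symm_apply,
        Equiv.apply_symm_apply]
    rw [e, ← Points.map_ofPt]
    exact hW i ⟨_, rfl⟩
  choose l hl using hl
  have e : Cofan.IsColimit.desc hc l ≫ openSubspaceι c.pt W = 𝟙 _ :=
    Cofan.IsColimit.hom_ext hc _ _ fun i => by
      rw [Cofan.IsColimit.fac_assoc, hl, Category.comp_id]
  refine Set.eq_univ_of_forall fun x => ?_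
  rw [← range_openSubspaceι c.pt W]
  exact ⟨Points.map (Cofan.IsColimit.desc hc l) x, by rw [← Points.map_comp, e, Points.map_id]⟩

theorem compactSpace_points_of_cofan {ι : Type u} [Finite ι] {X : ι → Sp S} (c : Cofan X)
    (hc : IsColimit c) (h : ∀ i, CompactSpace (Points (X i))) : CompactSpace (Points c.pt) := by
  refine ⟨?_⟩
  rw [← eq_univ_of_range_inj_subset c hc (⋃ i, Set.range (Points.map (c.inj i)))
    (fun i => Set.subset_iUnion (fun i => Set.range (Points.map (c.inj i))) i)]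
  exact isCompact_iUnion fun i => isCompact_range (Points.continuous_map _)

theorem exists_isOpen_isCompact_nhd (hF : IsAlgSpace F) {x : Points F} {W : Set (Points F)}
    (hW : IsOpen W) (hx : x ∈ W) :
    ∃ V : Set (Points F), IsOpen V ∧ IsCompact V ∧ x ∈ V ∧ V ⊆ W := by
  obtain ⟨U, p, he, hs⟩ := hF.atlas
  obtain ⟨u, rfl⟩ := surjective_ofPt p hs x
  obtain ⟨_, ⟨O, hO, rfl⟩, hu, hOW⟩ := U.left.isBasis_affineOpens.exists_subset_of_mem_open
    (show u ∈ Points.ofPt p ⁻¹' W from hx) (hW.preimage (Points.continuous_ofPt p))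
  exact ⟨Points.ofPt p '' O, isOpenMap_ofPt p he _ O.2,
    hO.isCompact.image (Points.continuous_ofPt p), ⟨u, hu, rfl⟩, Set.image_subset_iff.2 hOW⟩

theorem exists_noetherianSpace_nhd (hn : IsLocNoethSp F) (x : Points F) :
    ∃ W : Set (Points F), IsOpen W ∧ x ∈ W ∧ NoetherianSpace ↥W := by
  obtain ⟨U, p, he, hs, hU⟩ := hn
  have : IsLocallyNoetherian U.left := hU
  obtain ⟨u, rfl⟩ := surjective_ofPt p hs x
  obtain ⟨_, ⟨O, hO, rfl⟩, hu, -⟩ :=
    U.left.isBasis_affineOpens.exists_subset_of_mem_open (Set.mem_univ u) isOpen_univ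
  have : IsNoetherianRing Γ(U.left, O) :=
    IsLocallyNoetherian.component_noetherian ⟨O, hO⟩
  have : NoetherianSpace ↥(O : Set U.left) := noetherianSpace_of_isAffineOpen O hO
  refine ⟨Points.ofPt p '' O, isOpenMap_ofPt p he _ O.2, ⟨u, hu, rfl⟩, ?_⟩
  rw [Set.image_eq_range]
  exact NoetherianSpace.range (fun v : ↥(O : Set U.left) => Points.ofPt p v)
    ((Points.continuous_ofPt p).comp continuous_subtype_val)

theorem noetherianSpace_points [CompactSpace (Points F)] (hn : IsLocNoethSp F) :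
    NoetherianSpace (Points F) := by
  choose W hW hx hN using exists_noetherianSpace_nhd hn
  obtain ⟨σ, hσ⟩ := isCompact_univ.elim_finite_subcover W hW
    (fun x _ => Set.mem_iUnion.2 ⟨x, hx x⟩)
  have := hN
  have h := NoetherianSpace.iUnion (fun i : σ => W i)
  rw [← noetherian_univ_iff]
  exact NoetherianSpace.of_subset (W := ⋃ i : σ, W i) fun x hx' => by
    obtain ⟨i, hi, hxi⟩ := Set.mem_iUnion₂.1 (hσ hx')
    exact Set.mem_iUnion.2 ⟨⟨i, hi⟩, hxi⟩

theorem locallyFinite_irreducibleComponents {α : Type*} [TopologicalSpace α]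
    (h : ∀ x : α, ∃ W : Set α, IsOpen W ∧ x ∈ W ∧ NoetherianSpace ↥W) (T : Set α) :
    LocallyFinite (fun Z : ↥(irreducibleComponents ↥T) => ((↑) : ↥T → α) '' (Z : Set ↥T)) := by
  intro x
  obtain ⟨W, hW, hxW, hN⟩ := h x
  refine ⟨W, hW.mem_nhds hxW, ?_⟩
  let V : Set ↥T := Subtype.val ⁻¹' W
  have hV : IsOpen V := hW.preimage continuous_subtype_val
  have h0 : IsInducing ((Subtype.val : ↥T → α) ∘ (Subtype.val : ↥V → ↥T)) :=
    IsInducing.subtypeVal.comp IsInducing.subtypeVal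
  let j : ↥V → ↥W := fun v => ⟨v.1.1, v.2⟩
  have : NoetherianSpace ↥V := (IsInducing.of_comp (f := j)
    ((continuous_subtype_val.comp continuous_subtype_val).subtype_mk _) continuous_subtype_val
    h0).noetherianSpace
  have : Finite ↥(irreducibleComponents ↥V) := NoetherianSpace.finite_irreducibleComponents.to_subtype
  let M : Set ↥(irreducibleComponents ↥T) := {Z | ((Z : Set ↥T) ∩ V).Nonempty}
  have hM : M.Finite := by
    have key : ∀ Z : M, ((Subtype.val : ↥V → ↥T) ⁻¹' (Z.1 : Set ↥T)) ∈ irreducibleComponents ↥V :=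
      fun Z => preimage_mem_irreducibleComponents Z.1.2 hV.isOpenEmbedding_subtypeVal
        (by rw [Subtype.range_coe]; exact Z.2)
    have : Finite M := Finite.of_injective (fun Z : M => (⟨_, key Z⟩ : ↥(irreducibleComponents ↥V)))
      fun Z Z' e => by
        have hcl : ∀ Z : M, closure ((Z.1 : Set ↥T) ∩ V) = (Z.1 : Set ↥T) := fun Z =>
          (closure_minimal Set.inter_subset_left
            (isClosed_of_mem_irreducibleComponents _ Z.1.2)).antisymm
            (subset_closure_inter_of_isPreirreducible_of_isOpen Z.1.2.1.2 hV Z.2)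
        have e' := congrArg (fun s => (Subtype.val : ↥V → ↥T) '' s.1) e
        simp only [Set.image_preimage_eq_inter_range, Subtype.range_coe] at e'
        exact Subtype.ext (Subtype.ext (by rw [← hcl Z, ← hcl Z', e']))
    exact Set.toFinite M
  refine hM.subset ?_
  rintro Z ⟨_, ⟨z, hz, rfl⟩, hzW⟩
  exact ⟨z, hz, hzW⟩

end Groth.Agent.AlgSpLib
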