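import Groth.Agent.AlgSpLib.MorTop
import Groth.Agent.AlgSpLib.PointsCompact
import Groth.Prelude.Def_AlgSp4

/-!
Quasi-compact morphisms of sheaves.
-/

universe u

open CategoryTheory CategoryTheory.Limits AlgebraicGeometry Topology
open AlgSp

noncomputable section

namespace Groth.Agent.AlgSpLib

set_option backward.isDefEq.respectTransparency.types false

variable {S : Scheme.{u}} {F G H : Sp S}

/-- the compactness form of quasi-compactness for morphisms -/
theorem isQuasiCompactMor_of_affine (hF : IsAlgSpace F) (hG : IsAlgSpace G) {f : F ⟶ G}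
    (h : ∀ (Z : Over S), IsAffine Z.left → ∀ (g : (yon S).obj Z ⟶ G) (P : Sp S) (fst : P ⟶ F)
      (snd : P ⟶ (yon S).obj Z), IsPullback fst snd f g → CompactSpace (Points P)) :
    IsQuasiCompactMor f := by
  intro Z Z' hZ hZq g fst snd sq
  refine (isQuasiCompactSp_iff_compactSpace (isAlgSpace_of_isPullback hG.diag hF hZ sq)).2 ?_
  have := compactSpace_points_of_isQuasiCompactSp hZq
  obtain ⟨U, p, hU, -, hps⟩ := exists_affine_chart hZ
  have sqU := IsPullback.of_hasPullback snd p
  have := h U hU _ _ _ _ (sqU.paste_horiz sq)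
  exact ⟨(surjective_map_of_isPullback sqU.flip (surjective_map_of_repWith hps)).range_eq ▸
    isCompact_range (Points.continuous_map _)⟩

theorem compactSpace_of_isQuasiCompactMor {f : F ⟶ G} (hf : IsQuasiCompactMor f) {Z : Over S}
    [CompactSpace ↥Z.left] {g : (yon S).obj Z ⟶ G} {P : Sp S} {fst : P ⟶ F}
    {snd : P ⟶ (yon S).obj Z} (sq : IsPullback fst snd f g) : CompactSpace (Points P) :=
  compactSpace_points_of_isQuasiCompactSp (hf (IsAlgSpace.yon_obj Z)
    ⟨Z, 𝟙 _, repWith_id _ Z, repWith_id _ Z, inferInstance⟩ g fst snd sq)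

theorem isQuasiCompactMor_iff_affine (hF : IsAlgSpace F) (hG : IsAlgSpace G) (f : F ⟶ G) :
    IsQuasiCompactMor f ↔
      ∀ (Z : Over S), IsAffine Z.left → ∀ (g : (yon S).obj Z ⟶ G) (P : Sp S) (fst : P ⟶ F)
        (snd : P ⟶ (yon S).obj Z), IsPullback fst snd f g → IsQuasiCompactSp P := by
  refine ⟨fun h Z _ g P fst snd sq => ?_, fun h => isQuasiCompactMor_of_affine hF hG
    fun Z hZ g P fst snd sq => compactSpace_points_of_isQuasiCompactSp (h Z hZ g P fst snd sq)⟩
  exact (isQuasiCompactSp_iff_compactSpace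
    (isAlgSpace_of_isPullback hG.diag hF (IsAlgSpace.yon_obj Z) sq)).2
      (compactSpace_of_isQuasiCompactMor h sq)

theorem repWith_quasiCompact_iff (hF : IsAlgSpace F) (hG : IsAlgSpace G) {f : F ⟶ G}
    (hf : Representable f) : RepWith @QuasiCompact f ↔ IsQuasiCompactMor f := by
  constructor
  · intro h
    refine isQuasiCompactMor_of_affine hF hG fun Z _ g P fst snd sq => ?_
    obtain ⟨e, -⟩ := exists_scheme_model hf sq
    have : QuasiCompact (hf.snd g).left := h.property_snd g
    have : CompactSpace ↥(hf.pullback g).left := QuasiCompact.compactSpace_of_compactSpace (hf.snd g).left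
    exact e.compactSpace
  · intro h
    refine MorphismProperty.relative.of_exists fun T g => ?_
    refine ⟨_, _, hf.snd g, hf.isPullback g,
      IsZariskiLocalAtTarget.of_iSup_eq_top (P := @QuasiCompact) (fun W : T.left.affineOpens => W.1)
        (iSup_affineOpens_eq_top _) fun W => ?_⟩
    have : IsAffine W.1.toScheme := W.2
    have : CompactSpace ↥W.1.toScheme := inferInstance
    refine HasAffineProperty.iff_of_isAffine.mpr ?_
    let T' : Over S := Over.mk (W.1.ι ≫ T.hom)
    let u : T' ⟶ T := Over.homMk W.1.ι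
    let Q' : Over S := Over.mk (((hf.snd g).left ⁻¹ᵁ W.1).ι ≫ (hf.pullback g).hom)
    let pr : Q' ⟶ hf.pullback g := Over.homMk ((hf.snd g).left ⁻¹ᵁ W.1).ι
    let q' : Q' ⟶ T' := Over.homMk ((hf.snd g).left ∣_ W.1) (by
      show ((hf.snd g).left ∣_ W.1) ≫ W.1.ι ≫ T.hom = _
      rw [morphismRestrict_ι_assoc, Over.w (hf.snd g)]; rfl)
    have : CompactSpace ↥T'.left := (inferInstance : CompactSpace ↥W.1.toScheme)
    have sqO : IsPullback pr q' (hf.snd g) u := by
      refine IsPullback.of_map (Over.forget S) ?_ (isPullback_morphismRestrict _ W.1).flip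
      exact Over.OverMorphism.ext (morphismRestrict_ι _ W.1).symm
    have := compactSpace_of_isQuasiCompactMor h ((sqO.map (yon S)).paste_horiz (hf.isPullback g))
    exact (Points.schemeHomeo Q').symm.compactSpace

theorem isQuasiCompactMor_of_isPullback (hF : IsAlgSpace F) (hG : IsAlgSpace G) {X' Y' : Sp S}
    (hY' : IsAlgSpace Y') {f : F ⟶ G} {g : Y' ⟶ G} {fst : X' ⟶ F} {f' : X' ⟶ Y'}
    (sq : IsPullback fst f' f g) (hf : IsQuasiCompactMor f) : IsQuasiCompactMor f' :=
  fun _ _ hZ hZq g' fst' snd' sq' => hf hZ hZq _ _ _ (sq'.paste_horiz sq)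

theorem isQuasiCompactMor_comp (hF : IsAlgSpace F) (hG : IsAlgSpace G) (hH : IsAlgSpace H)
    {f : F ⟶ G} {g : G ⟶ H} (hf : IsQuasiCompactMor f) (hg : IsQuasiCompactMor g) :
    IsQuasiCompactMor (f ≫ g) := by
  intro Z Z' hZ hZq z fst snd sq
  have sqg := IsPullback.of_hasPullback g z
  let l := sqg.lift (fst ≫ f) snd (by rw [Category.assoc]; exact sq.w)
  have sq' : IsPullback fst l f (pullback.fst g z) :=
    IsPullback.of_bot (v₂₁ := pullback.snd g z) (by rw [sqg.lift_snd]; exact sq)
      (sqg.lift_fst _ _ _).symm sqg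
  exact hf (isAlgSpace_of_isPullback hH.diag hG hZ sqg) (hg hZ hZq z _ _ sqg) _ _ _ sq'

theorem isQuasiCompactMor_of_surjective (hG : IsAlgSpace G) (hH : IsAlgSpace H)
    {f : F ⟶ G} {q : G ⟶ H} (hf : IsSurjectiveMor f) (hp : IsQuasiCompactMor (f ≫ q)) :
    IsQuasiCompactMor q := by
  refine isQuasiCompactMor_of_affine hG hH fun Z _ g P fst snd sq => ?_
  have sq1 := IsPullback.of_hasPullback f fst
  have := compactSpace_of_isQuasiCompactMor hp (sq1.paste_vert sq)
  exact ⟨(surjective_map_of_isPullback sq1 hf).range_eq ▸ isCompact_range (Points.continuous_map _)⟩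

theorem isCompact_preimage_of_isQuasiCompactMor (hG : IsAlgSpace G) {f : F ⟶ G}
    (hf : IsQuasiCompactMor f) {V : Set (Points G)} (hV : IsOpen V) (hVc : IsCompact V) :
    IsCompact (Points.map f ⁻¹' V) := by
  let W := openSubspace G V
  let j : W ⟶ G := openSubspaceι G V
  have hW : IsAlgSpace W := isAlgSpace_openSubspace hG hV
  have hj := (isEmbedding_map_of_immersion hG (RepWith.mono
    (fun _ _ g (_ : IsOpenImmersion g) => (inferInstance : IsImmersion g))
    (repWith_openSubspaceι G hV))).1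
  have : CompactSpace (Points W) := by
    refine ⟨hj.isInducing.isCompact_iff.2 ?_⟩
    rw [Set.image_univ, range_openSubspaceι]
    exact hVc
  have sq := IsPullback.of_hasPullback f j
  have := compactSpace_points_of_isQuasiCompactSp
    (hf hW ((isQuasiCompactSp_iff_compactSpace hW).2 this) j _ _ sq)
  have e : Set.range (Points.map (pullback.fst f j)) = Points.map f ⁻¹' V := by
    ext x
    constructor
    · rintro ⟨z, rfl⟩
      rw [Set.mem_preimage, ← Points.map_comp, sq.w, Points.map_comp]
      exact (range_openSubspaceι G V).le ⟨_, rfl⟩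
    · intro hx
      obtain ⟨w, hw⟩ := (range_openSubspaceι G V).ge hx
      obtain ⟨z, hz, -⟩ := exists_point_of_isPullback sq hw.symm
      exact ⟨z, hz⟩
  exact e ▸ isCompact_range (Points.continuous_map _)

theorem isQuasiCompactMor_of_univOpen_cover (hF : IsAlgSpace F) (hG : IsAlgSpace G) {Y' X' : Sp S}
    (hY' : IsAlgSpace Y') {f : F ⟶ G} {g : Y' ⟶ G} {fst : X' ⟶ F} {f' : X' ⟶ Y'}
    (sq : IsPullback fst f' f g) (hg : IsUnivOpenMor g) (hgs : IsSurjectiveMor g)
    (hf' : IsQuasiCompactMor f') : IsQuasiCompactMor f := by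
  refine isQuasiCompactMor_of_affine hF hG fun Z _ z P pfst psnd sqP => ?_
  have sqZ := IsPullback.of_hasPullback g z
  let K := pullback g z
  let π : K ⟶ (yon S).obj Z := pullback.snd g z
  have hK : IsAlgSpace K := isAlgSpace_of_isPullback hG.diag hY' (IsAlgSpace.yon_obj Z) sqZ
  have hπs : Function.Surjective (Points.map π) := surjective_map_of_isPullback sqZ hgs
  have hπo : IsOpenMap (Points.map π) := hg (IsAlgSpace.yon_obj Z) z _ _ sqZ
  have : CompactSpace (Points ((yon S).obj Z)) := (Points.schemeHomeo Z).compactSpace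
  have hcov : ∀ x : Points ((yon S).obj Z), ∃ O : Set (Points K), IsOpen O ∧ IsCompact O ∧
      x ∈ Points.map π '' O := fun x => by
    obtain ⟨k, rfl⟩ := hπs x
    obtain ⟨O, hO, hOc, hk, -⟩ := exists_isOpen_isCompact_nhd hK isOpen_univ (Set.mem_univ k)
    exact ⟨O, hO, hOc, k, hk, rfl⟩
  choose O hO hOc hxO using hcov
  obtain ⟨σ, hσ⟩ := isCompact_univ.elim_finite_subcover (fun x => Points.map π '' O x)
    (fun x => hπo _ (hO x)) (fun x _ => Set.mem_iUnion.2 ⟨x, hxO x⟩)
  -- the base change of `f` to `K`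
  have sq1 := IsPullback.of_hasPullback psnd π
  have big : IsPullback (pullback.fst psnd π ≫ pfst) (pullback.snd psnd π) f
      (pullback.fst g z ≫ g) := by
    rw [sqZ.w]; exact sq1.paste_horiz sqP
  have hK' : IsQuasiCompactMor (pullback.snd psnd π) :=
    fun _ _ hW hWq w fst' snd' sq' => hf' hW hWq _ _ _ (sq'.paste_horiz (IsPullback.of_right' big sq))
  refine ⟨?_⟩
  have hc : IsCompact (Points.map (pullback.snd psnd π) ⁻¹' (⋃ x ∈ σ, O x)) :=
    isCompact_preimage_of_isQuasiCompactMor hK hK' (isOpen_biUnion fun x _ => hO x)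
      (σ.finite_toSet.isCompact_biUnion fun x _ => hOc x)
  have := hc.image (Points.continuous_map (pullback.fst psnd π))
  suffices e : Points.map (pullback.fst psnd π) ''
      (Points.map (pullback.snd psnd π) ⁻¹' (⋃ x ∈ σ, O x)) = Set.univ by rwa [e] at this
  refine Set.eq_univ_of_forall fun y => ?_
  obtain ⟨x, hx, k, hk, he⟩ := Set.mem_iUnion₂.1 (hσ (Set.mem_univ (Points.map psnd y)))
  obtain ⟨z', hz1, hz2⟩ := exists_point_of_isPullback sq1 he.symm
  exact ⟨z', by rw [Set.mem_preimage, hz2]; exact Set.mem_biUnion hx hk, hz1⟩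

theorem isQuasiCompactMor_cancel (hF : IsAlgSpace F) (hG : IsAlgSpace G) (hH : IsAlgSpace H)
    {f : F ⟶ G} {g : G ⟶ H} (hgf : IsQuasiCompactMor (f ≫ g)) (hg : IsQuasiSeparatedMor g) :
    IsQuasiCompactMor f := by
  -- graph followed by the projection
  have sq2 := IsPullback.of_hasPullback (f ≫ g) g
  let K := pullback (f ≫ g) g
  have hK : IsAlgSpace K := isAlgSpace_of_isPullback hH.diag hF hG sq2
  let γ : F ⟶ K := pullback.lift (𝟙 F) f (by simp)
  have sqγ : IsPullback f γ (pullback.diagonal g)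
      (pullback.lift (pullback.fst (f ≫ g) g ≫ f) (pullback.snd (f ≫ g) g)
        (by rw [Category.assoc]; exact sq2.w)) := by
    refine ⟨⟨?_⟩, ⟨PullbackCone.IsLimit.mk _ (fun c => c.snd ≫ pullback.fst (f ≫ g) g)
      (fun c => ?_) (fun c => ?_) ?_⟩⟩
    · apply pullback.hom_ext <;> simp [γ, pullback.lift_fst, pullback.lift_snd, pullback.lift_fst_assoc]
    · have h1 := congrArg (· ≫ pullback.fst g g) c.condition
      simp [pullback.lift_fst] at h1
      simpa using h1.symm
    · have h1 := congrArg (· ≫ pullback.fst g g) c.condition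
      have h2 := congrArg (· ≫ pullback.snd g g) c.condition
      simp [pullback.lift_fst, pullback.lift_snd] at h1 h2
      apply pullback.hom_ext
      · simp [γ, pullback.lift_fst]
      · simp [γ, pullback.lift_snd, ← h1, ← h2]
    · intro c m _ h2
      rw [← h2]
      simp [γ, pullback.lift_fst]
  have h1 : IsQuasiCompactMor γ :=
    (repWith_quasiCompact_iff hF hK (RepWith.baseChange sqγ hg).1).1 (RepWith.baseChange sqγ hg)
  have h2 : IsQuasiCompactMor (pullback.snd (f ≫ g) g) :=
    isQuasiCompactMor_of_isPullback hF hH hG sq2 hgf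
  have := isQuasiCompactMor_comp hF hK hG h1 h2
  simpa [γ, pullback.lift_snd] using this

end Groth.Agent.AlgSpLib
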