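import Groth.Agent.AlgSpLib.MorMore
import Groth.Prelude.Def_AlgSpDec
import Groth.Prelude.Def_AlgSpSub

/-!
Monomorphisms to fields, graphs, decent morphisms, closed subspaces of reduced spaces.
-/

universe u

open CategoryTheory CategoryTheory.Limits AlgebraicGeometry Topology
open AlgSp

noncomputable section

namespace Groth.Agent.AlgSpLib

set_option backward.isDefEq.respectTransparency.types false

variable {S : Scheme.{u}} {F G H : Sp S}

theorem ptOfHom_toHom (p : FieldPt F) : ptOfHom p.toHom = Points.mk p := by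
  rw [ptOfHom, FieldPt.uliftYonedaEquiv_toHom]; rfl

/-- an algebraic space with a point and a monomorphism to the spectrum of a field is that spectrum -/
theorem isIso_of_mono_to_field' {k : Type u} [Field k] {str : Spec (CommRingCat.of k) ⟶ S}
    (hF : IsAlgSpace F) (f : F ⟶ (yon S).obj (Over.mk str)) [Mono f] (x : Points F) : IsIso f := by
  obtain ⟨K, _, sK, t, rfl⟩ := exists_ptOfHom x
  obtain ⟨c, hc⟩ := (yon S).map_surjective (t ≫ f)
  have sq := IsPullback.of_hasPullback f ((yon S).map c)
  have hsnd : IsIso (pullback.snd f ((yon S).map c)) := by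
    have : IsSplitEpi (pullback.snd f ((yon S).map c)) :=
      ⟨⟨{ section_ := pullback.lift t (𝟙 _) (by rw [Category.id_comp, hc])
          id := pullback.lift_snd _ _ _ }⟩⟩
    exact isIso_of_mono_of_isSplitEpi _
  have : IsAffine (Over.mk str).left := inferInstanceAs (IsAffine (Spec (CommRingCat.of k)))
  have : IsAffine (Over.mk sK).left := inferInstanceAs (IsAffine (Spec (CommRingCat.of K)))
  have : Flat c.left := by
    obtain ⟨φ, hφ⟩ := Spec.map_surjective c.left
    exact hφ ▸ flat_of_field φ
  have : Surjective c.left :=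
    ⟨fun z => ⟨IsLocalRing.closedPoint K,
      Subsingleton.elim (α := ↥(Spec (CommRingCat.of k))) _ _⟩⟩
  exact isIso_of_fpqc c hF sq hsnd

/-- the closed immersion of a closed subspace containing all points of a reduced space is an isomorphism -/
theorem isIso_of_closedImmersion_of_surjective {f : F ⟶ G} (hG : IsReducedSp G)
    (hf : RepWith @IsClosedImmersion f) (hs : Function.Surjective (Points.map f)) : IsIso f := by
  obtain ⟨U, p, hpe, hps, hU⟩ := hG
  have : _root_.AlgebraicGeometry.IsReduced U.left := hU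
  have sq := hf.1.isPullback p
  have h1 : IsClosedImmersion (hf.1.snd p).left := hf.property_snd p
  have h2 : Surjective (hf.1.snd p).left :=
    (surjective_map_yon_map_iff _).1 (surjective_map_of_isPullback sq hs)
  have : IsIso (hf.1.snd p).left := isIso_of_isClosedImmersion_of_surjective _
  have : IsIso (hf.1.snd p) := by
    have : IsIso ((Over.forget S).map (hf.1.snd p)) := ‹_›
    exact isIso_of_reflects_iso _ (Over.forget S)
  have hp : Sheaf.IsLocallySurjective p := isLocallySurjective_of_etale hpe hps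
  have : Epi p := Sheaf.epi_of_isLocallySurjective p
  have hcomp : ((yon S).map (inv (hf.1.snd p)) ≫ hf.1.fst p) ≫ f = p := by
    rw [Category.assoc, sq.w, ← Functor.map_comp_assoc, IsIso.inv_hom_id]
    erw [(yon S).map_id, Category.id_comp]
  have : Epi (((yon S).map (inv (hf.1.snd p)) ≫ hf.1.fst p) ≫ f) := by rw [hcomp]; infer_instance
  have : Epi f := epi_of_epi ((yon S).map (inv (hf.1.snd p)) ≫ hf.1.fst p) f
  have hmono : RepWith (MorphismProperty.monomorphisms Scheme.{u}) f :=
    RepWith.mono (fun _ _ g (_ : IsClosedImmersion g) => (inferInstance : Mono g)) hf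
  have : Mono f := mono_of_repWith le_rfl hmono
  exact isIso_of_mono_of_epi f

theorem isPullback_graph {C : Type*} [Category C] [HasPullbacks C] {X Y Z : C} (a : X ⟶ Y)
    (b : Y ⟶ Z) :
    IsPullback a (pullback.lift (𝟙 X) a (Category.id_comp _)) (pullback.diagonal b)
      (pullback.map (a ≫ b) b b b a (𝟙 Y) (𝟙 Z) (by simp) (by simp)) := by
  have e1 : pullback.map (a ≫ b) b b b a (𝟙 Y) (𝟙 Z) (by simp) (by simp) ≫ pullback.fst b b =
      pullback.fst _ _ ≫ a := pullback.lift_fst _ _ _
  have e2 : pullback.map (a ≫ b) b b b a (𝟙 Y) (𝟙 Z) (by simp) (by simp) ≫ pullback.snd b b =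
      pullback.snd _ _ := (pullback.lift_snd _ _ _).trans (Category.comp_id _)
  have e3 : pullback.lift (𝟙 X) a (Category.id_comp _) ≫ pullback.fst (a ≫ b) b = 𝟙 X :=
    pullback.lift_fst _ _ _
  have e4 : pullback.lift (𝟙 X) a (Category.id_comp _) ≫ pullback.snd (a ≫ b) b = a :=
    pullback.lift_snd _ _ _
  refine IsPullback.flip ⟨⟨?_⟩, ⟨PullbackCone.IsLimit.mk _ (fun s => s.fst ≫ pullback.fst _ _)
    (fun s => ?_) (fun s => ?_) (fun s m hm1 hm2 => ?_)⟩⟩
  · apply pullback.hom_ext
    · rw [Category.assoc, e1, reassoc_of% e3, Category.assoc, pullback.diagonal_fst, Category.comp_id]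
    · rw [Category.assoc, e2, e4, Category.assoc, pullback.diagonal_snd, Category.comp_id]
  · have h := congrArg (· ≫ pullback.fst b b) s.condition
    have h' := congrArg (· ≫ pullback.snd b b) s.condition
    simp only [Category.assoc, e1, e2, pullback.diagonal_fst, pullback.diagonal_snd,
      Category.comp_id] at h h'
    apply pullback.hom_ext
    · exact (Category.assoc _ _ _).trans ((congrArg _ e3).trans (Category.comp_id _))
    · exact (Category.assoc _ _ _).trans ((congrArg _ e4).trans
        ((Category.assoc _ _ _).trans (h.trans h'.symm)))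
  · have h := congrArg (· ≫ pullback.fst b b) s.condition
    simp only [Category.assoc, e1, pullback.diagonal_fst, Category.comp_id] at h
    exact (Category.assoc _ _ _).trans h
  · rw [← hm1]
    exact ((Category.assoc _ _ _).trans ((congrArg _ e3).trans (Category.comp_id _))).symm

/-- graph cancellation: a property of all relative diagonals passes to the first factor -/
theorem repWith_of_comp (P : MorphismProperty Scheme.{u}) [P.IsStableUnderBaseChange]
    [P.IsStableUnderComposition] {a : F ⟶ G} {b : G ⟶ H} (hab : RepWith P (a ≫ b))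
    (hd : RepWith P (pullback.diagonal b)) : RepWith P a := by
  let Γ : F ⟶ pullback (a ≫ b) b := pullback.lift (𝟙 F) a (Category.id_comp _)
  have h1 : RepWith P (pullback.snd (a ≫ b) b) :=
    RepWith.baseChange (IsPullback.of_hasPullback _ _) hab
  have sq : IsPullback a Γ (pullback.diagonal b) (pullback.map (a ≫ b) b b b a (𝟙 G) (𝟙 H)
      (by simp) (by simp)) :=
    isPullback_graph a b
  have h2 : RepWith P Γ := RepWith.baseChange sq hd
  have h3 : RepWith P (Γ ≫ pullback.snd (a ≫ b) b) := RepWith.comp h2 h1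
  rwa [pullback.lift_snd] at h3

theorem isDecent_of_isPullback_aux {F' : Sp S} (q : F' ⟶ F) [Mono q] (hq : RepWith @QuasiCompact q)
    (z : Points F')
    (h : ∃ p : FieldPt F', Points.mk p = z ∧ Mono p.toHom ∧ RepWith @QuasiCompact p.toHom) :
    ∃ p : FieldPt F, Points.mk p = Points.map q z ∧ Mono p.toHom ∧ RepWith @QuasiCompact p.toHom := by
  obtain ⟨p, rfl, hm, hp⟩ := h
  refine ⟨p.map q, (Points.map_mk _ _).symm, ?_, ?_⟩
  · rw [FieldPt.toHom_map]; exact @mono_comp _ _ _ _ _ _ hm _ inferInstance
  · rw [FieldPt.toHom_map]; exact RepWith.comp hp hq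

theorem exists_decent_pt_yon (T : Over S) (x : Points ((yon S).obj T)) :
    ∃ p : FieldPt ((yon S).obj T), Points.mk p = x ∧ Mono p.toHom ∧ RepWith @QuasiCompact p.toHom := by
  obtain ⟨t, rfl⟩ := (Points.schemeHomeo T).surjective x
  refine ⟨FieldPt.ofPt (𝟙 _) t, ?_, ?_, ?_⟩
  · show Points.ofPt (𝟙 _) t = _
    rw [Points.ofPt_eq_map_ofScheme, Points.map_id]
    rfl
  · rw [FieldPt.toHom_ofPt, Category.comp_id]
    have : Mono (Over.homMk (T.left.fromSpecResidueField t) rfl :
        Over.mk (T.left.fromSpecResidueField t ≫ T.hom) ⟶ T).left :=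
      inferInstanceAs (Mono (T.left.fromSpecResidueField t))
    have := (Over.forget S).mono_of_mono_map (f := (Over.homMk (T.left.fromSpecResidueField t) rfl :
        Over.mk (T.left.fromSpecResidueField t ≫ T.hom) ⟶ T)) this
    exact @Functor.map_mono _ _ _ _ (yon S) _ _ _ _ this
  · rw [FieldPt.toHom_ofPt, Category.comp_id, repWith_yon_map_iff]
    exact (inferInstance : QuasiCompact (T.left.fromSpecResidueField t))

/-- the key descent of decency -/
theorem isDecent_of_fibres (f : F ⟶ G) (hG : IsDecent G)
    (h : ∀ ⦃T : Over S⦄ ⦃F' : Sp S⦄ (g : (yon S).obj T ⟶ G) (fst : F' ⟶ F)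
      (snd : F' ⟶ (yon S).obj T), Mono g → IsPullback fst snd f g → IsDecent F') : IsDecent F := by
  intro x
  obtain ⟨q, hq, hm, hqc⟩ := hG (Points.map f x)
  have sq := IsPullback.of_hasPullback f q.toHom
  rw [← ptOfHom_toHom] at hq
  have hy : Points.map f x = Points.map q.toHom (ptOfHom (𝟙 _)) := by
    rw [map_ptOfHom, Category.id_comp, hq]
  obtain ⟨z, rfl, -⟩ := exists_point_of_isPullback sq hy
  have : Mono (pullback.fst f q.toHom) := by
    have := hm
    infer_instance
  exact isDecent_of_isPullback_aux _ (RepWith.baseChange sq.flip hqc) z (h _ _ _ hm sq z)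

theorem isDecentMor_of_isDecent (hG : IsAlgSpace G) (f : F ⟶ G) (hF : IsDecent F) :
    IsDecentMor f := by
  intro T F' g fst snd sq x
  obtain ⟨q, hq, hm, hqc⟩ := hF (Points.map fst x)
  have sqW := IsPullback.of_hasPullback fst q.toHom
  have hy : Points.map fst x = Points.map q.toHom (ptOfHom (𝟙 _)) := by
    rw [map_ptOfHom, Category.id_comp, ← ptOfHom_toHom] at *
    exact hq.symm
  obtain ⟨w, rfl, -⟩ := exists_point_of_isPullback sqW hy
  have : Mono (pullback.fst fst q.toHom) := by
    have := hm
    infer_instance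
  have sqT := sqW.flip.paste_vert sq
  obtain ⟨W, e, -⟩ := exists_scheme_pullback (IsAlgSpace.representable_from_yon hG g) sqT.flip
  have hW : IsDecent (pullback fst q.toHom) :=
    IsDecent.of_iso (fun y => exists_decent_pt_yon W y) e
  exact isDecent_of_isPullback_aux _ (RepWith.baseChange sqW.flip hqc) w (hW w)

theorem isDecent_of_isDecentMor (f : F ⟶ G) (hf : IsDecentMor f) (hG : IsDecent G) : IsDecent F :=
  isDecent_of_fibres f hG fun _ _ g fst snd _ sq => hf g fst snd sq

theorem isDecentMor_comp {f : F ⟶ G} {g : G ⟶ H} (hf : IsDecentMor f) (hg : IsDecentMor g) :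
    IsDecentMor (f ≫ g) := by
  intro T F' t fst snd sq
  have sq2 := IsPullback.of_hasPullback g t
  let l : F' ⟶ pullback g t := sq2.lift (fst ≫ f) snd (by rw [Category.assoc, sq.w])
  have hl : l ≫ pullback.snd g t = snd := sq2.lift_snd _ _ _
  have sq1 : IsPullback fst l f (pullback.fst g t) :=
    IsPullback.of_bot (by rw [hl]; exact sq) (sq2.lift_fst _ _ _).symm sq2
  exact isDecent_of_fibres l (hg t _ _ sq2) fun T' F'' t' fst' snd' _ sq' =>
    hf (t' ≫ pullback.fst g t) (fst' ≫ fst) snd' (sq'.paste_horiz sq1)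

end Groth.Agent.AlgSpLib
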