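import Groth.Agent.Stk19.AlgSt.Over
import Groth.Agent.AlgSpLib.MorMore2

/-!
Formal properties of maps of presheaves representable by algebraic spaces.
-/

universe u

open CategoryTheory CategoryTheory.Limits AlgebraicGeometry Opposite
open AlgSp

noncomputable section

namespace Groth.Agent.AlgSpLib

set_option backward.isDefEq.respectTransparency.types false

section cat

variable {C : Type*} [Category C] {F G H U : C}

/-- a base change of the relative diagonal is the equaliser of two sections -/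
theorem isPullback_of_diagonal [HasPullbacks C] {a : F ⟶ G} (ξ : U ⟶ pullback a a) {FU : C}
    {f₁ : FU ⟶ F} {f₂ : FU ⟶ U} (sqU : IsPullback f₁ f₂ a (ξ ≫ pullback.fst a a ≫ a))
    {sx sy : U ⟶ FU} (hx : sx ≫ f₁ = ξ ≫ pullback.fst a a) (hx' : sx ≫ f₂ = 𝟙 U)
    (hy : sy ≫ f₁ = ξ ≫ pullback.snd a a) (hy' : sy ≫ f₂ = 𝟙 U) {P : C} {p : P ⟶ F} {q : P ⟶ U}
    (sq : IsPullback p q (pullback.diagonal a) ξ) : IsPullback q q sx sy := by
  have e1 : p = q ≫ ξ ≫ pullback.fst a a := by
    rw [← sq.w_assoc, pullback.diagonal_fst, Category.comp_id]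
  have e2 : p = q ≫ ξ ≫ pullback.snd a a := by
    rw [← sq.w_assoc, pullback.diagonal_snd, Category.comp_id]
  have key : ∀ s : PullbackCone sx sy, s.fst = s.snd := fun s => by
    have h := congrArg (· ≫ f₂) s.condition
    simp only [Category.assoc, hx', hy', Category.comp_id] at h
    exact h
  have cond : ∀ s : PullbackCone sx sy,
      (s.fst ≫ ξ ≫ pullback.fst a a) ≫ pullback.diagonal a = s.fst ≫ ξ := fun s => by
    have h := congrArg (· ≫ f₁) s.condition
    simp only [Category.assoc, hx, hy] at h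
    rw [← key s] at h
    apply pullback.hom_ext
    · rw [Category.assoc, pullback.diagonal_fst, Category.comp_id, Category.assoc]
    · rw [Category.assoc, pullback.diagonal_snd, Category.comp_id, Category.assoc, h]
  refine ⟨⟨?_⟩, ⟨PullbackCone.IsLimit.mk _ (fun s => sq.lift _ s.fst (cond s))
    (fun s => sq.lift_snd _ _ _) (fun s => ?_) (fun s m hm _ => ?_)⟩⟩
  · apply sqU.hom_ext
    · rw [Category.assoc, Category.assoc, hx, hy, ← e1, ← e2]
    · rw [Category.assoc, Category.assoc, hx', hy']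
  · exact (sq.lift_snd _ _ _).trans (key s)
  · apply sq.hom_ext
    · rw [sq.lift_fst, e1, ← Category.assoc, hm]
    · rw [sq.lift_snd, hm]

/-- the fibre product of two maps is the base change of the diagonal along their product -/
theorem isPullback_diag_of_isPullback [HasBinaryProducts C] {T P : C} {ξ : T ⟶ F} {η : U ⟶ F}
    {fst : P ⟶ T} {snd : P ⟶ U} (sq : IsPullback fst snd ξ η) :
    IsPullback (fst ≫ ξ) (prod.lift fst snd) (Limits.diag F) (prod.map ξ η) := by
  have cond : ∀ s : PullbackCone (Limits.diag F) (prod.map ξ η),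
      (s.snd ≫ prod.fst) ≫ ξ = (s.snd ≫ prod.snd) ≫ η ∧ (s.snd ≫ prod.fst) ≫ ξ = s.fst := fun s => by
    have h := congrArg (· ≫ prod.fst) s.condition
    have h' := congrArg (· ≫ prod.snd) s.condition
    simp only [Category.assoc, prod.lift_fst, prod.lift_snd, Category.comp_id,
      prod.map_fst, prod.map_snd] at h h'
    exact ⟨by rw [Category.assoc, Category.assoc, ← h, ← h'], by rw [Category.assoc, ← h]⟩
  refine ⟨⟨?_⟩, ⟨PullbackCone.IsLimit.mk _ (fun s => sq.lift _ _ (cond s).1) (fun s => ?_)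
    (fun s => ?_) (fun s m _ hm => ?_)⟩⟩
  · apply Limits.prod.hom_ext
    · simp [prod.lift_fst]
    · simp [prod.lift_snd, sq.w]
  · rw [← Category.assoc, sq.lift_fst]; exact (cond s).2
  · apply Limits.prod.hom_ext
    · rw [Category.assoc, prod.lift_fst, sq.lift_fst]
    · rw [Category.assoc, prod.lift_snd, sq.lift_snd]
  · apply sq.hom_ext
    · rw [sq.lift_fst, ← hm, Category.assoc, prod.lift_fst]
    · rw [sq.lift_snd, ← hm, Category.assoc, prod.lift_snd]

/-- a base change of the absolute diagonal as an iterated fibre product -/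
theorem isPullback_diag_of_pullback [HasBinaryProducts C] {ξ : U ⟶ F ⨯ F} {P Q : C}
    {q₁ q₂ : Q ⟶ U} (sqQ : IsPullback q₁ q₂ (ξ ≫ prod.fst) (ξ ≫ prod.snd)) {p : P ⟶ F} {q : P ⟶ U}
    (sq : IsPullback p q (Limits.diag F) ξ) {r : P ⟶ Q} (hr₁ : r ≫ q₁ = q) (hr₂ : r ≫ q₂ = q) :
    IsPullback r q (prod.lift q₁ q₂) (Limits.diag U) := by
  have key : ∀ s : PullbackCone (prod.lift q₁ q₂) (Limits.diag U),
      s.fst ≫ q₁ = s.snd ∧ s.fst ≫ q₂ = s.snd := fun s => by
    have h := congrArg (· ≫ prod.fst) s.condition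
    have h' := congrArg (· ≫ prod.snd) s.condition
    simp only [Category.assoc, prod.lift_fst, prod.lift_snd, Category.comp_id] at h h'
    exact ⟨h, h'⟩
  have cond : ∀ s : PullbackCone (prod.lift q₁ q₂) (Limits.diag U),
      (s.snd ≫ ξ ≫ prod.fst) ≫ Limits.diag F = s.snd ≫ ξ := fun s => by
    have h := congrArg (s.fst ≫ ·) sqQ.w
    rw [← Category.assoc, (key s).1, ← Category.assoc s.fst, (key s).2] at h
    apply Limits.prod.hom_ext
    · simp [prod.lift_fst]
    · simpa [prod.lift_snd] using h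
  refine ⟨⟨?_⟩, ⟨PullbackCone.IsLimit.mk _ (fun s => sq.lift _ _ (cond s)) (fun s => ?_)
    (fun s => sq.lift_snd _ _ _) (fun s m _ hm => ?_)⟩⟩
  · apply Limits.prod.hom_ext
    · simp [prod.lift_fst, hr₁]
    · simp [prod.lift_snd, hr₂]
  · apply sqQ.hom_ext
    · rw [Category.assoc, hr₁, sq.lift_snd, (key s).1]
    · rw [Category.assoc, hr₂, sq.lift_snd, (key s).2]
  · apply sq.hom_ext
    · rw [sq.lift_fst]
      have h := congrArg (· ≫ prod.fst) sq.w
      simp only [Category.assoc, prod.lift_fst, Category.comp_id] at h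
      rw [h, ← Category.assoc, hm]
    · rw [sq.lift_snd, hm]

end cat

variable {S : Scheme.{u}} {F G H : PSp S}

/-- a fibre product of presheaves which are algebraic spaces is an algebraic space -/
theorem isAlgSpaceP_of_isPullback {X Y Z P : PSp S} (hX : IsAlgSpaceP X) (hY : IsAlgSpaceP Y)
    (hZ : IsAlgSpaceP Z) {fst : P ⟶ X} {snd : P ⟶ Y} {f : X ⟶ Z} {g : Y ⟶ Z}
    (sq : IsPullback fst snd f g) : IsAlgSpaceP P := by
  obtain ⟨hXs, hX⟩ := hX
  obtain ⟨hYs, hY⟩ := hY
  obtain ⟨hZs, hZ⟩ := hZ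
  let f' : (⟨X, hXs⟩ : Sp S) ⟶ ⟨Z, hZs⟩ := ObjectProperty.homMk f
  let g' : (⟨Y, hYs⟩ : Sp S) ⟶ ⟨Z, hZs⟩ := ObjectProperty.homMk g
  have sq' := IsPullback.map (sheafToPresheaf (J S) (Type (u + 1))) (IsPullback.of_hasPullback f' g')
  exact ((isAlgSpaceP_obj_iff (pullback f' g')).2
    (isAlgSpace_of_isPullback hZ.diag hX hY (IsPullback.of_hasPullback f' g'))).of_iso
    (sq'.isoIsPullback _ _ sq)

theorem isAlgSpaceP_pyon (U : Over S) : IsAlgSpaceP ((pyon S).obj U) :=
  (isAlgSpaceP_obj_iff _).2 (IsAlgSpace.yon_obj U)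

theorem repBySp_of_relativelyRepresentable {a : F ⟶ G} (ha : (pyon S).relativelyRepresentable a) :
    RepBySp a := fun U ξ F' fst snd sq =>
  (isAlgSpaceP_pyon (ha.pullback ξ)).of_iso ((ha.isPullback ξ).isoIsPullback _ _ sq)

theorem repBySp_of_exists {a : F ⟶ G}
    (h : ∀ ⦃U : Over S⦄ (ξ : (pyon S).obj U ⟶ G), IsAlgSpaceP (pullback a ξ)) : RepBySp a :=
  fun _ ξ _ _ _ sq => (h ξ).of_iso ((IsPullback.of_hasPullback a ξ).isoIsPullback _ _ sq)

theorem repBySp_of_isPullback {F' G' : PSp S} {fst : F' ⟶ F} {a' : F' ⟶ G'} {a : F ⟶ G} {g : G' ⟶ G}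
    (sq : IsPullback fst a' a g) (ha : RepBySp a) : RepBySp a' :=
  fun _ ξ _ f' s' sq' => ha (ξ ≫ g) (f' ≫ fst) s' (sq'.paste_horiz sq)

/-- the fibre product of an algebraic space with a map representable by algebraic spaces -/
theorem isAlgSpaceP_of_isPullback_repBySp {X P : PSp S} (hX : IsAlgSpaceP X) {a : F ⟶ G}
    (ha : RepBySp a) {fst : P ⟶ F} {snd : P ⟶ X} {ξ : X ⟶ G} (sq : IsPullback fst snd a ξ) :
    IsAlgSpaceP P :=
  Stk19.isAlgSpaceP_of_repBySp snd (repBySp_of_isPullback sq ha) hX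

theorem repBySp_comp {a : F ⟶ G} {b : G ⟶ H} (ha : RepBySp a) (hb : RepBySp b) :
    RepBySp (a ≫ b) := fun U ξ F' fst snd sq => by
  have sqG := IsPullback.of_hasPullback b ξ
  let l : F' ⟶ pullback b ξ := sqG.lift (fst ≫ a) snd (by rw [Category.assoc, sq.w])
  have sq' : IsPullback fst l a (pullback.fst b ξ) :=
    IsPullback.of_bot (by rw [sqG.lift_snd]; exact sq) (sqG.lift_fst _ _ _).symm sqG
  exact isAlgSpaceP_of_isPullback_repBySp (hb ξ _ _ sqG) ha sq'

theorem repBySp_prod_map {F₁ G₁ F₂ G₂ : PSp S} {a₁ : F₁ ⟶ G₁} {a₂ : F₂ ⟶ G₂} (h₁ : RepBySp a₁)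
    (h₂ : RepBySp a₂) : RepBySp (prod.map a₁ a₂) := by
  rw [show prod.map a₁ a₂ = prod.map a₁ (𝟙 F₂) ≫ prod.map (𝟙 G₁) a₂ by
    rw [prod.map_map, Category.comp_id, Category.id_comp]]
  exact repBySp_comp (repBySp_of_isPullback (isPullback_prod_map_id a₁) h₁)
    (repBySp_of_isPullback (isPullback_prod_id_map a₂) h₂)

theorem repBySp_diagonal {a : F ⟶ G} (ha : RepBySp a) : RepBySp (pullback.diagonal a) :=
  fun U ξ P p q sq => by
    have sqU := IsPullback.of_hasPullback a (ξ ≫ pullback.fst a a ≫ a)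
    let sx := sqU.lift (ξ ≫ pullback.fst a a) (𝟙 _) (by simp)
    let sy := sqU.lift (ξ ≫ pullback.snd a a) (𝟙 _)
      (by rw [Category.id_comp, Category.assoc, ← pullback.condition])
    exact isAlgSpaceP_of_isPullback (isAlgSpaceP_pyon U) (isAlgSpaceP_pyon U) (ha _ _ _ sqU)
      (isPullback_of_diagonal ξ sqU (sx := sx) (sy := sy) (sqU.lift_fst _ _ _) (sqU.lift_snd _ _ _)
        (sqU.lift_fst _ _ _) (sqU.lift_snd _ _ _) sq)

theorem relativelyRepresentable_diagonal {a : F ⟶ G} (ha : (pyon S).relativelyRepresentable a) :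
    (pyon S).relativelyRepresentable (pullback.diagonal a) := fun U ξ => by
  have sqU := ha.isPullback (ξ ≫ pullback.fst a a ≫ a)
  let sx := sqU.lift (ξ ≫ pullback.fst a a) (𝟙 _) (by simp)
  let sy := sqU.lift (ξ ≫ pullback.snd a a) (𝟙 _)
    (by rw [Category.id_comp, Category.assoc, ← pullback.condition])
  obtain ⟨x, hx⟩ := (pyon S).map_surjective sx
  obtain ⟨y, hy⟩ := (pyon S).map_surjective sy
  have sq := IsPullback.of_hasPullback (pullback.diagonal a) ξ
  have sq' := isPullback_of_diagonal ξ sqU (sx := sx) (sy := sy) (sqU.lift_fst _ _ _)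
    (sqU.lift_snd _ _ _) (sqU.lift_fst _ _ _) (sqU.lift_snd _ _ _) sq
  rw [← hx, ← hy] at sq'
  have sqV := IsPullback.map (pyon S) (IsPullback.of_hasPullback x y)
  let e := sqV.isoIsPullback _ _ sq'
  refine ⟨pullback x y, pullback.fst x y, e.hom ≫ pullback.fst _ _, ?_⟩
  exact sq.of_iso e.symm (Iso.refl _) (Iso.refl _) (Iso.refl _) (by simp)
    (by simp [e, IsPullback.isoIsPullback_inv_fst]) (by simp) (by simp)

theorem repBySp_of_comp {a : F ⟶ G} {b : G ⟶ H} (hd : RepBySp (pullback.diagonal b))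
    (hab : RepBySp (a ≫ b)) : RepBySp a := by
  have h1 : RepBySp (pullback.snd (a ≫ b) b) :=
    repBySp_of_isPullback (IsPullback.of_hasPullback _ _) hab
  have h2 := repBySp_comp (repBySp_of_isPullback (isPullback_graph a b) hd) h1
  rwa [pullback.lift_snd] at h2

theorem repBySp_diag_iff :
    RepBySp (Limits.diag F) ↔ ∀ (T : Over S) (ξ : (pyon S).obj T ⟶ F), RepBySp ξ := by
  constructor
  · intro h T ξ U η P fst snd sq
    let e := PreservesLimitPair.iso (pyon S) T U
    exact isAlgSpaceP_of_isPullback_repBySp ((isAlgSpaceP_pyon _).of_iso e) h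
      (isPullback_diag_of_isPullback sq)
  · intro h U ξ P p q sq
    have sqQ := IsPullback.of_hasPullback (ξ ≫ prod.fst) (ξ ≫ prod.snd)
    have hQ := h U (ξ ≫ prod.fst) (ξ ≫ prod.snd) _ _ sqQ
    let r : P ⟶ pullback (ξ ≫ prod.fst) (ξ ≫ prod.snd) := sqQ.lift q q (by
      rw [← sq.w_assoc, ← sq.w_assoc, prod.lift_fst, prod.lift_snd])
    exact isAlgSpaceP_of_isPullback hQ (isAlgSpaceP_pyon U)
      ((isAlgSpaceP_pyon _).of_iso (PreservesLimitPair.iso (pyon S) U U))
      (isPullback_diag_of_pullback sqQ sq (r := r) (sqQ.lift_fst _ _ _) (sqQ.lift_snd _ _ _))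

end Groth.Agent.AlgSpLib
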