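import Groth.Agent.AlgSpLib.OpenCoverScheme
import Groth.Agent.AlgSpLib.FpqcBaseAffine2
import Groth.Agent.AlgSpLib.PointsCompact
import Groth.Agent.AlgSpLib.MorQC
import Groth.Agent.AlgSpLib.RepBySpLemmas
import Mathlib.AlgebraicGeometry.ZariskisMainTheorem

/-!
Separated locally quasi-finite descent: algebraic spaces which become such schemes after an etale covering of an
affine base are schemes; sheaves with a representable etale surjection from an algebraic space are algebraic spaces.
-/

universe u

open CategoryTheory CategoryTheory.Limits AlgebraicGeometry Opposite Topology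
open AlgSp

noncomputable section

namespace Groth.Agent.AlgSpLib

set_option backward.isDefEq.respectTransparency.types false

variable {S : Scheme.{u}} {X F : Sp S}

theorem isQuasiAffine_of_lqf {W V : Scheme.{u}} (w : W ⟶ V) [IsAffine V] [CompactSpace ↥W]
    [LocallyQuasiFinite w] [LocallyOfFiniteType w] [IsSeparated w] : W.IsQuasiAffine := by
  have : QuasiCompact w := (quasiCompact_iff_compactSpace w).2 ‹_›
  have : IsAffine w.normalization := isAffine_of_isAffineHom w.fromNormalization
  exact Scheme.IsQuasiAffine.of_isImmersion w.toNormalization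

theorem lqf_of_mono_lft {W V : Scheme.{u}} (w : W ⟶ V) [Mono w] [LocallyOfFiniteType w] :
    LocallyQuasiFinite w :=
  locallyQuasiFinite_iff_isDiscrete_preimage_singleton.mpr fun x =>
    (Set.subsingleton_singleton.preimage w.injective).isDiscrete

/-- effective fppf descent for separated locally quasi-finite morphisms, for algebraic spaces -/
theorem exists_iso_yon_of_descent (hX : IsAlgSpace X) {Z V W : Over S} [IsAffine Z.left]
    [IsAffine V.left] (c : V ⟶ Z) [Flat c.left] [Surjective c.left] {f : X ⟶ (yon S).obj Z}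
    (w : W ⟶ V) [IsSeparated w.left] [LocallyQuasiFinite w.left] [LocallyOfFiniteType w.left]
    {πX : (yon S).obj W ⟶ X} (sq : IsPullback πX ((yon S).map w) f ((yon S).map c)) :
    ∃ G : Over S, Nonempty ((yon S).obj G ≅ X) := by
  have hpiece : ∀ x : Points X, ∃ (A : Over S) (j : (yon S).obj A ⟶ X),
      RepWith @IsOpenImmersion j ∧ x ∈ Set.range (Points.map j) := by
    intro x
    obtain ⟨O, hOo, hOc, hxO, -⟩ := exists_isOpen_isCompact_nhd hX isOpen_univ (Set.mem_univ x)
    let jO := openSubspaceι X O
    have hjO := repWith_openSubspaceι X hOo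
    have hOa := isAlgSpace_openSubspace hX hOo
    have : CompactSpace (Points (openSubspace X O)) := by
      have hemb := (isEmbedding_map_of_immersion hX (RepWith.mono (fun _ _ g (_ : IsOpenImmersion g) =>
        (inferInstance : IsImmersion g)) hjO)).1
      rw [← isCompact_univ_iff, hemb.isCompact_iff, Set.image_univ, range_openSubspaceι]
      exact hOc
    have sqO := hjO.1.isPullback πX
    let WO := hjO.1.pullback πX
    let v : WO ⟶ W := hjO.1.snd πX
    have : IsOpenImmersion v.left := hjO.property_snd πX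
    have sq' : IsPullback (hjO.1.fst πX) ((yon S).map (v ≫ w)) (jO ≫ f) ((yon S).map c) := by
      rw [Functor.map_comp]
      exact sqO.paste_vert sq
    have : CompactSpace ↥WO.left := by
      have hc : RepWith @QuasiCompact ((yon S).map c) :=
        (repWith_yon_map_iff _ c).2 (inferInstance : QuasiCompact c.left)
      have h := (repWith_quasiCompact_iff (IsAlgSpace.yon_obj V) (IsAlgSpace.yon_obj Z) hc.1).1 hc
      have hq : IsQuasiCompactSp ((yon S).obj WO) :=
        h hOa ((isQuasiCompactSp_iff_compactSpace hOa).2 ‹_›) (jO ≫ f) ((yon S).map (v ≫ w))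
          (hjO.1.fst πX) sq'.flip
      have := compactSpace_points_of_isQuasiCompactSp hq
      exact (Points.schemeHomeo WO).symm.compactSpace
    have : IsSeparated (v ≫ w).left := inferInstanceAs (IsSeparated (v.left ≫ w.left))
    have : LocallyOfFiniteType (v ≫ w).left := inferInstanceAs (LocallyOfFiniteType (v.left ≫ w.left))
    have : LocallyQuasiFinite (v ≫ w).left :=
      MorphismProperty.comp_mem @LocallyQuasiFinite v.left w.left inferInstance ‹_›
    obtain ⟨A, i, fst, -, sqA⟩ := exists_quasiAffine_of_fpqc_family (fun _ : Fin 1 => c) ‹_› (fun _ => ‹_›)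
      (fun _ => ‹_›) (fun z => ⟨0, c.left.surjective z⟩) hOa (fun _ => isQuasiAffine_of_lqf (v ≫ w).left)
      (fun _ => sq')
    have : IsIso fst := sqA.isIso_fst_of_isIso
    refine ⟨A, fst ≫ jO, RepWith.comp (repWith_of_isIso _ fst) hjO, ?_⟩
    obtain ⟨o, rfl⟩ := (range_openSubspaceι X O).symm.subset hxO
    refine ⟨Points.map (inv fst) o, ?_⟩
    rw [Points.map_comp, ← Points.map_comp (inv fst), IsIso.inv_hom_id, Points.map_id]
  obtain ⟨U, p, hpe, hps⟩ := hX.atlas
  choose A j hj hxj using fun u : ↥U.left => hpiece (Points.ofPt p u)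
  refine exists_iso_yon_of_openCover j hj fun x => ?_
  obtain ⟨u, rfl⟩ := surjective_ofPt p hps x
  exact ⟨u, hxj u⟩

/-- finitely many affine opens of an etale covering suffice over an affine -/
theorem exists_affine_etale_refinement {T T' : Over S} (u : T' ⟶ T) [IsAffine T.left] [Etale u.left]
    [Surjective u.left] :
    ∃ (V : Over S) (a : V ⟶ T'), IsAffine V.left ∧ Etale (a ≫ u).left ∧ Surjective (a ≫ u).left := by
  have h0 : ∀ x : ↥T'.left, ∃ U : T'.left.affineOpens, IsAffineOpen U.1 ∧ x ∈ U.1 := fun x => by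
    obtain ⟨U, h, -⟩ := exists_affine_mem (X := T'.left) (x := x) (O := ⊤) trivial
    exact ⟨U, U.2, h⟩
  choose O hO hx using h0
  have hopen : ∀ x, IsOpen (u.left '' ((O x).1 : Set ↥T'.left)) := fun x =>
    u.left.isOpenMap _ (O x).1.isOpen
  obtain ⟨σ, hσ⟩ := isCompact_univ.elim_finite_subcover _ hopen fun t _ => by
    obtain ⟨x, rfl⟩ := u.left.surjective t
    exact Set.mem_iUnion.2 ⟨x, x, hx x, rfl⟩
  let W : σ → Over S := fun i => restrictOver T' (O i.1).1
  have : ∀ i : σ, IsAffine (W i).left := fun i => hO i.1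
  let a : sigmaOver W ⟶ T' :=
    Over.homMk (Sigma.desc fun i : σ => ((O i.1).1).ι) (Sigma.hom_ext _ _ fun i => by simp [sigmaOver, W, restrictOver])
  refine ⟨sigmaOver W, a, inferInstanceAs (IsAffine (∐ fun i : σ => (W i).left)), ?_, ⟨fun t => ?_⟩⟩
  · have : Etale a.left := IsZariskiLocalAtSource.sigmaDesc fun i => (inferInstance : Etale ((O i.1).1).ι)
    exact inferInstanceAs (Etale (a.left ≫ u.left))
  · obtain ⟨x, hxσ, y, hy, rfl⟩ := Set.mem_iUnion₂.1 (hσ (Set.mem_univ t))
    refine ⟨(sigmaOverι W ⟨x, hxσ⟩).left ⟨y, hy⟩, ?_⟩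
    have e : (sigmaOverι W ⟨x, hxσ⟩).left ≫ a.left = (O x).1.ι := Sigma.ι_desc _ _
    show u.left (((sigmaOverι W ⟨x, hxσ⟩).left ≫ a.left) ⟨y, hy⟩) = u.left y
    rw [e]
    rfl

/-- the diagonal of a sheaf with a representable etale surjection from an algebraic space -/
theorem representable_diag_of_etale_surjective (hX : IsAlgSpace X) (f : X ⟶ F) (he : RepWith @Etale f)
    (hs : RepWith @Surjective f) : Representable (Limits.diag F) := by
  refine representable_of_affine _ fun T hT ξ => ?_
  -- the equalizer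
  have sqE := IsPullback.of_hasPullback (Limits.diag F) ξ
  have hdm : Mono (Limits.diag F) :=
    ⟨fun a b h => by simpa [prod.lift_fst] using congrArg (· ≫ prod.fst) h⟩
  have : Mono (pullback.snd (Limits.diag F) ξ) := inferInstance
  -- a lift of the first component over an affine etale covering
  have sqf := he.1.isPullback (ξ ≫ prod.fst)
  have : Etale (he.1.snd (ξ ≫ prod.fst)).left := he.property_snd _
  have : Surjective (he.1.snd (ξ ≫ prod.fst)).left := hs.2 _ _ _ sqf
  obtain ⟨V, j, hV, hce, hcs⟩ := exists_affine_etale_refinement (he.1.snd (ξ ≫ prod.fst))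
  let c := j ≫ he.1.snd (ξ ≫ prod.fst)
  let x : (yon S).obj V ⟶ X := (yon S).map j ≫ he.1.fst (ξ ≫ prod.fst)
  let ξV := (yon S).map c ≫ ξ
  have hx : x ≫ f = ξV ≫ prod.fst := by
    simp only [x, ξV, c, Category.assoc, sqf.w, Functor.map_comp]
  -- the two-fold fibre product
  have sqb := he.1.isPullback (ξV ≫ prod.snd)
  let Pb := he.1.pullback (ξV ≫ prod.snd)
  let pf := he.1.fst (ξV ≫ prod.snd)
  have hXrep := hX.representable_from_yon pf
  have sqQ := hXrep.isPullback x
  let Q := hXrep.pullback x
  let qb : Q ⟶ Pb := hXrep.fst' x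
  let qv : Q ⟶ V := hXrep.snd x
  have sqQ' : IsPullback ((yon S).map qb) ((yon S).map qv) pf x := hXrep.isPullback' x
  have sqQF : IsPullback ((yon S).map qv) ((yon S).map (qb ≫ he.1.snd (ξV ≫ prod.snd)))
      (ξV ≫ prod.fst) (ξV ≫ prod.snd) := by
    rw [← hx, Functor.map_comp]
    exact sqQ'.flip.paste_vert sqb
  have sqq := isPullback_diag_of_isPullback (C := Sp S) sqQ'.flip
  have h1 : RepWith @LocallyOfFiniteType (prod.lift ((yon S).map qv) ((yon S).map qb)) :=
    RepWith.baseChange sqq (repWith_diag_lft hX)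
  have h2 : RepWith @LocallyOfFiniteType
      (prod.lift ((yon S).map qv) ((yon S).map (qb ≫ he.1.snd (ξV ≫ prod.snd)))) := by
    have : Etale (he.1.snd (ξV ≫ prod.snd)).left := he.property_snd _
    have e : prod.lift ((yon S).map qv) ((yon S).map (qb ≫ he.1.snd (ξV ≫ prod.snd))) =
        prod.lift ((yon S).map qv) ((yon S).map qb) ≫
          prod.map (𝟙 _) ((yon S).map (he.1.snd (ξV ≫ prod.snd))) := by
      rw [prod.lift_map, Category.comp_id, Functor.map_comp]
    rw [e]
    exact RepWith.comp h1 (repWith_prod_map (repWith_id _ V)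
      ((repWith_yon_map_iff _ _).2 (inferInstance : LocallyOfFiniteType (he.1.snd (ξV ≫ prod.snd)).left)))
  -- the equalizer over the covering
  have sqEV := IsPullback.of_hasPullback (Limits.diag F) ξV
  let r := sqQF.lift (pullback.snd (Limits.diag F) ξV) (pullback.snd (Limits.diag F) ξV) (by
    rw [← pullback.condition_assoc, ← pullback.condition_assoc, prod.lift_fst, prod.lift_snd])
  have sqr := isPullback_diag_of_pullback sqQF sqEV (r := r) (sqQF.lift_fst _ _ _) (sqQF.lift_snd _ _ _)
  have h3 : RepWith @LocallyOfFiniteType (pullback.snd (Limits.diag F) ξV) := RepWith.baseChange sqr.flip.flip h2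
  have sq3 := h3.1.isPullback (𝟙 _)
  let W := h3.1.pullback (𝟙 ((yon S).obj V))
  let w : W ⟶ V := h3.1.snd (𝟙 ((yon S).obj V))
  have : IsIso (h3.1.fst (𝟙 ((yon S).obj V))) := sq3.isIso_fst_of_isIso
  have : LocallyOfFiniteType w.left := h3.property_snd _
  have : Mono (pullback.snd (Limits.diag F) ξV) := inferInstance
  have : Mono w.left := (repWith_monomorphisms_of_mono h3.1).2 _ _ _ sq3
  have : LocallyQuasiFinite w.left := lqf_of_mono_lft w.left
  let k : pullback (Limits.diag F) ξV ⟶ pullback (Limits.diag F) ξ :=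
    pullback.lift (pullback.fst _ _) (pullback.snd _ _ ≫ (yon S).map c)
      (by rw [Category.assoc, pullback.condition])
  have hk : k ≫ pullback.snd (Limits.diag F) ξ = pullback.snd _ _ ≫ (yon S).map c := pullback.lift_snd _ _ _
  have sqk : IsPullback k (pullback.snd (Limits.diag F) ξV) (pullback.snd (Limits.diag F) ξ) ((yon S).map c) :=
    IsPullback.of_right (h₁₂ := pullback.fst _ _) (by rw [pullback.lift_fst]; exact sqEV) hk sqE
  have sqW : IsPullback (h3.1.fst (𝟙 _) ≫ k) ((yon S).map w) (pullback.snd (Limits.diag F) ξ) ((yon S).map c) := by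
    simpa using sq3.paste_horiz sqk
  have hE : IsAlgSpace (pullback (Limits.diag F) ξ) := by
    refine ⟨representable_diag_of_mono (pullback.snd (Limits.diag F) ξ) (IsAlgSpace.yon_obj T).diag, W,
      h3.1.fst (𝟙 _) ≫ k, ?_, ?_⟩
    · exact RepWith.baseChange sqW.flip ((repWith_yon_map_iff _ c).2 hce)
    · exact RepWith.baseChange sqW.flip ((repWith_yon_map_iff _ c).2 hcs)
  have : Flat c.left := by
    have : Etale c.left := hce
    infer_instance
  obtain ⟨G, ⟨e⟩⟩ := exists_iso_yon_of_descent hE c w sqW
  obtain ⟨g, hg⟩ := (yon S).map_surjective (e.hom ≫ pullback.snd (Limits.diag F) ξ)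
  refine ⟨G, g, e.hom ≫ pullback.fst _ _, ?_⟩
  exact sqE.of_iso e.symm (Iso.refl _) (Iso.refl _) (Iso.refl _) (by simp) (by simp [hg]) (by simp) (by simp)

/-- a sheaf with a representable etale surjection from an algebraic space is an algebraic space -/
theorem isAlgSpace_of_etale_surjective (hX : IsAlgSpace X) (f : X ⟶ F) (he : RepWith @Etale f)
    (hs : RepWith @Surjective f) : IsAlgSpace F := by
  refine ⟨representable_diag_of_etale_surjective hX f he hs, ?_⟩
  obtain ⟨U, p, hpe, hps⟩ := hX.atlas
  exact ⟨U, p ≫ f, RepWith.comp hpe he, RepWith.comp hps hs⟩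

end Groth.Agent.AlgSpLib
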