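import Groth.Agent.HenselLib.EtaleReduced
import Groth.Agent.CAlgH3.RegularHom
import Groth.Agent.HenselLib.HullProps
import Mathlib.AlgebraicGeometry.Morphisms.Etale
import Mathlib.AlgebraicGeometry.Morphisms.Smooth
import Mathlib.RingTheory.RingHom.StandardSmooth
import Mathlib.RingTheory.MvPolynomial.Basic
import Mathlib.AlgebraicGeometry.Properties
import Mathlib.AlgebraicGeometry.Noetherian
import Mathlib.RingTheory.Unramified.LocalRing
import Mathlib.RingTheory.Ideal.KrullsHeightTheorem
import Mathlib.RingTheory.RingHom.Etale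
import Mathlib.RingTheory.LocalProperties.Reduced

/-!
Reducedness and regularity ascend along etale morphisms and descend along flat surjections.
-/

universe u

open CategoryTheory CategoryTheory.Limits AlgebraicGeometry IsLocalRing

namespace Groth.Agent.AlgSpLib

set_option backward.isDefEq.respectTransparency.types false

theorem isRegularLocalRing_of_unramified_flat (R S : Type u) [CommRing R] [CommRing S]
    [IsRegularLocalRing R] [IsLocalRing S] [IsNoetherianRing S] [Algebra R S]
    [IsLocalHom (algebraMap R S)] [Module.Flat R S]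
    (hm : (maximalIdeal R).map (algebraMap R S) = maximalIdeal S) : IsRegularLocalRing S := by
  refine IsRegularLocalRing.of_spanFinrank_maximalIdeal_le _ ?_
  rw [HenselLib.spanFinrank_maximalIdeal_of_flat S hm, ‹IsRegularLocalRing R›.spanFinrank_maximalIdeal,
    ← IsLocalRing.maximalIdeal_height_eq_ringKrullDim, ← IsLocalRing.maximalIdeal_height_eq_ringKrullDim]
  have h5 : (maximalIdeal S).comap (algebraMap R S) = maximalIdeal R :=
    ((local_hom_TFAE (algebraMap R S)).out 0 4).mp ‹_›
  have : (maximalIdeal S).LiesOver (maximalIdeal R) := ⟨h5.symm⟩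
  rw [Ideal.height_eq_height_add_of_liesOver_of_hasGoingDown (maximalIdeal R) (P := maximalIdeal S)]
  exact WithBot.coe_le_coe.2 le_self_add

theorem regular_atPrime_of_etale (R A : Type u) [CommRing R] [CommRing A] [Algebra R A]
    [Algebra.Etale R A] [IsNoetherianRing A] (q : Ideal A) [q.IsPrime]
    (h : IsRegularLocalRing (Localization.AtPrime (q.under R))) :
    IsRegularLocalRing (Localization.AtPrime q) := by
  let p := q.under R
  letI := Localization.AtPrime.algebraOfLiesOver p q
  have : IsLocalHom (algebraMap (Localization.AtPrime p) (Localization.AtPrime q)) :=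
    Localization.isLocalHom_localRingHom _ _ _ _
  have : Algebra.EssFiniteType R (Localization.AtPrime q) :=
    Algebra.EssFiniteType.comp R A (Localization.AtPrime q)
  have : Algebra.EssFiniteType (Localization.AtPrime p) (Localization.AtPrime q) :=
    Algebra.EssFiniteType.of_comp R _ _
  have : Algebra.FormallyUnramified R (Localization.AtPrime q) := by
    have : Algebra.FormallyUnramified A (Localization.AtPrime q) := .of_isLocalization q.primeCompl
    exact .comp R A _
  have : Algebra.FormallyUnramified (Localization.AtPrime p) (Localization.AtPrime q) :=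
    .of_restrictScalars R _ _
  exact isRegularLocalRing_of_unramified_flat (Localization.AtPrime p) (Localization.AtPrime q)
    Algebra.FormallyUnramified.map_maximalIdeal

theorem isReduced_of_etale' {A B : Scheme.{u}} (c : A ⟶ B) [Etale c] [IsReduced B] :
    IsReduced A := by
  have : ∀ x : A, _root_.IsReduced (A.presheaf.stalk x) := fun x => by
    obtain ⟨W, hW, hxW, -⟩ := exists_isAffineOpen_mem_and_subset (x := c x) (U := ⊤) trivial
    obtain ⟨V, hV, hxV, e⟩ := exists_isAffineOpen_mem_and_subset (x := x) (U := c ⁻¹ᵁ W) hxW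
    letI := (c.appLE W V e).hom.toAlgebra
    have hE : Algebra.Etale Γ(B, W) Γ(A, V) :=
      HasRingHomProperty.appLE @Etale c inferInstance ⟨W, hW⟩ ⟨V, hV⟩ e
    have : _root_.IsReduced Γ(A, V) := HenselLib.isReduced_of_etale Γ(B, W) Γ(A, V)
    letI := TopCat.Presheaf.algebra_section_stalk A.presheaf ⟨x, hxV⟩
    have := hV.isLocalization_stalk ⟨x, hxV⟩
    exact isReduced_localizationPreserves (hV.primeIdealOf ⟨x, hxV⟩).asIdeal.primeCompl (A.presheaf.stalk x) inferInstance
  exact isReduced_of_isReduced_stalk A

theorem isReduced_of_smooth' {A B : Scheme.{u}} (c : A ⟶ B) [Smooth c] [IsReduced B] :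
    IsReduced A := by
  have : ∀ x : A, _root_.IsReduced (A.presheaf.stalk x) := fun x => by
    obtain ⟨W, hW, V, hV, hxV, e, hstd⟩ := Smooth.exists_isStandardSmooth c x
    obtain ⟨n, g, -, hg⟩ := hstd.exists_etale_mvPolynomial
    letI := g.toAlgebra
    have : Algebra.Etale (MvPolynomial (Fin n) Γ(B, W)) Γ(A, V) := hg
    have : _root_.IsReduced Γ(A, V) :=
      HenselLib.isReduced_of_etale (MvPolynomial (Fin n) Γ(B, W)) Γ(A, V)
    letI := TopCat.Presheaf.algebra_section_stalk A.presheaf ⟨x, hxV⟩
    have := hV.isLocalization_stalk ⟨x, hxV⟩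
    exact isReduced_localizationPreserves (hV.primeIdealOf ⟨x, hxV⟩).asIdeal.primeCompl
      (A.presheaf.stalk x) inferInstance
  exact isReduced_of_isReduced_stalk A

theorem isReduced_of_flat_surjective {A B : Scheme.{u}} (c : A ⟶ B) [Flat c] [Surjective c]
    [IsReduced A] : IsReduced B := by
  have : ∀ y : B, _root_.IsReduced (B.presheaf.stalk y) := fun y => by
    obtain ⟨x, rfl⟩ := c.surjective y
    letI := (c.stalkMap x).hom.toAlgebra
    have : Module.Flat (B.presheaf.stalk (c x)) (A.presheaf.stalk x) := Flat.stalkMap c x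
    have : IsLocalHom (algebraMap (B.presheaf.stalk (c x)) (A.presheaf.stalk x)) :=
      inferInstanceAs (IsLocalHom (c.stalkMap x).hom)
    have : Module.FaithfullyFlat (B.presheaf.stalk (c x)) (A.presheaf.stalk x) :=
      Module.FaithfullyFlat.of_flat_of_isLocalHom
    exact isReduced_of_injective (algebraMap (B.presheaf.stalk (c x)) (A.presheaf.stalk x))
      (FaithfulSMul.algebraMap_injective _ _)
  exact isReduced_of_isReduced_stalk B

theorem regular_stalks_of_etale {A B : Scheme.{u}} (c : A ⟶ B) [Etale c] [IsLocallyNoetherian B]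
    (h : ∀ y : B, IsRegularLocalRing (B.presheaf.stalk y)) (x : A) :
    IsRegularLocalRing (A.presheaf.stalk x) := by
  have := LocallyOfFiniteType.isLocallyNoetherian c
  obtain ⟨W, hW, hxW, -⟩ := exists_isAffineOpen_mem_and_subset (x := c x) (U := ⊤) trivial
  obtain ⟨V, hV, hxV, e⟩ := exists_isAffineOpen_mem_and_subset (x := x) (U := c ⁻¹ᵁ W) hxW
  letI := (c.appLE W V e).hom.toAlgebra
  have hE : Algebra.Etale Γ(B, W) Γ(A, V) :=
    HasRingHomProperty.appLE @Etale c inferInstance ⟨W, hW⟩ ⟨V, hV⟩ e
  have : IsNoetherianRing Γ(A, V) := IsLocallyNoetherian.component_noetherian ⟨V, hV⟩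
  letI := TopCat.Presheaf.algebra_section_stalk A.presheaf ⟨x, hxV⟩
  have := hV.isLocalization_stalk ⟨x, hxV⟩
  let q := (hV.primeIdealOf ⟨x, hxV⟩).asIdeal
  suffices IsRegularLocalRing (Localization.AtPrime q) from
    IsRegularLocalRing.of_ringEquiv
      (IsLocalization.algEquiv q.primeCompl (Localization.AtPrime q) (A.presheaf.stalk x)).toRingEquiv
  refine regular_atPrime_of_etale Γ(B, W) Γ(A, V) q ?_
  let p := q.under Γ(B, W)
  let y : B := hW.fromSpec ⟨p, inferInstance⟩
  have hy : y ∈ W := by
    have : y ∈ Set.range hW.fromSpec := ⟨_, rfl⟩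
    rwa [hW.range_fromSpec] at this
  letI := TopCat.Presheaf.algebra_section_stalk B.presheaf ⟨y, hy⟩
  have := hW.isLocalization_stalk ⟨y, hy⟩
  have hp : hW.primeIdealOf ⟨y, hy⟩ = ⟨p, inferInstance⟩ :=
    hW.fromSpec.isOpenEmbedding.injective (hW.fromSpec_primeIdealOf ⟨y, hy⟩)
  have : IsLocalization.AtPrime (B.presheaf.stalk y) p := by
    have hpc : p.primeCompl = (hW.primeIdealOf ⟨y, hy⟩).asIdeal.primeCompl := by
      ext z
      simp [Ideal.primeCompl, hp]
    show IsLocalization p.primeCompl _
    rw [hpc]
    infer_instance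
  have := h y
  exact IsRegularLocalRing.of_ringEquiv
    (IsLocalization.algEquiv p.primeCompl (B.presheaf.stalk y) (Localization.AtPrime p)).toRingEquiv

theorem regular_stalks_of_flat_surjective {A B : Scheme.{u}} (c : A ⟶ B) [Flat c] [Surjective c]
    [IsLocallyNoetherian B] (h : ∀ x : A, IsRegularLocalRing (A.presheaf.stalk x)) (y : B) :
    IsRegularLocalRing (B.presheaf.stalk y) := by
  obtain ⟨x, rfl⟩ := c.surjective y
  letI := (c.stalkMap x).hom.toAlgebra
  have : Module.Flat (B.presheaf.stalk (c x)) (A.presheaf.stalk x) := Flat.stalkMap c x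
  have : IsLocalHom (algebraMap (B.presheaf.stalk (c x)) (A.presheaf.stalk x)) :=
    inferInstanceAs (IsLocalHom (c.stalkMap x).hom)
  have := h x
  exact CAlgH3.isRegularLocalRing_of_flat (A.presheaf.stalk x)

end Groth.Agent.AlgSpLib
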