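import Groth.Agent.AlgSpLib.EtLocalInst

/-!
Further formal properties of `LocP`.
-/

universe u

open CategoryTheory CategoryTheory.Limits AlgebraicGeometry
open AlgSp

namespace Groth.Agent.AlgSpLib

set_option backward.isDefEq.respectTransparency.types false

variable {S : Scheme.{u}} {X Y Z : Sp S}

theorem locP_mono {P Q : MorphismProperty Scheme.{u}} (h : P ≤ Q) {f : X ⟶ Y} (hf : LocP P f) :
    LocP Q f := fun _ _ a b l ha hb w => h _ (hf a b l ha hb w)

theorem locP_inf {P Q : MorphismProperty Scheme.{u}} {f : X ⟶ Y} :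
    LocP (P ⊓ Q) f ↔ LocP P f ∧ LocP Q f :=
  ⟨fun h => ⟨locP_mono inf_le_left h, locP_mono inf_le_right h⟩,
    fun h _ _ a b l ha hb w => ⟨h.1 a b l ha hb w, h.2 a b l ha hb w⟩⟩

theorem locP_of_comp' {P Q : MorphismProperty Scheme.{u}} (hP : EtLocal P)
    (hX : IsAlgSpace X) (hY : IsAlgSpace Y) (hZ : IsAlgSpace Z)
    (hc : ∀ ⦃A B C : Scheme.{u}⦄ (a : A ⟶ B) (b : B ⟶ C), P (a ≫ b) → Q b → P a)
    {f : X ⟶ Y} {g : Y ⟶ Z} (h : LocP P (f ≫ g)) (hg : LocP Q g) : LocP P f := by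
  obtain ⟨W, c, hce, hcs⟩ := hZ.atlas
  obtain ⟨V, b, k, hbe, hbs, wk⟩ := exists_chart_over hY hZ g c hce hcs
  obtain ⟨U, a, l, hae, has, wl⟩ := exists_chart_over hX hY f b hbe hbs
  refine locP_of_chart_square hP hX a hae has b hbe l (hc l.left k.left ?_ (hg b c k hbe hce wk)) wl
  rw [← Over.comp_left]
  exact h a c (l ≫ k) hae hce (by rw [← Category.assoc, wl, Category.assoc, wk, Functor.map_comp,
    Category.assoc])

theorem locP_top (f : X ⟶ Y) : LocP ⊤ f := fun _ _ _ _ _ _ _ _ => trivial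

theorem locP_of_source_cover {P : MorphismProperty Scheme.{u}} (hP : EtLocal P) (hX : IsAlgSpace X)
    (hY : IsAlgSpace Y) {f : X ⟶ Y} {U : Over S} (a : (yon S).obj U ⟶ X) (hae : RepWith @Etale a)
    (has : RepWith @Surjective a) (h : LocP P (a ≫ f)) : LocP P f := by
  refine locP_of_atlas hP hX a hae has ?_
  have e := repWith_comp_of_locP hP hY h (𝟙 _) (repWith_id _ U)
  rwa [Category.id_comp] at e

theorem locP_of_target_cover {P : MorphismProperty Scheme.{u}} (hP : EtLocal P) (hX : IsAlgSpace X)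
    (hY : IsAlgSpace Y) {f : X ⟶ Y} {V : Over S} (b : (yon S).obj V ⟶ Y)
    (hbe : RepWith @Etale b) (hbs : RepWith @Surjective b) {P' : Sp S} {fst : P' ⟶ X}
    {snd : P' ⟶ (yon S).obj V} (sq : IsPullback fst snd f b) (h : LocP P snd) : LocP P f := by
  have := hP.comp
  have := hP.bc
  have hP' : IsAlgSpace P' := isAlgSpace_of_isPullback hY.diag hX (IsAlgSpace.yon_obj V) sq
  obtain ⟨U, a, hae, has⟩ := hP'.atlas
  refine locP_of_atlas hP hX (a ≫ fst) (RepWith.comp hae (RepWith.baseChange sq.flip hbe))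
    (RepWith.comp has (RepWith.baseChange sq.flip hbs)) ?_
  rw [Category.assoc, sq.w, ← Category.assoc]
  exact RepWith.comp (repWith_comp_of_locP hP (IsAlgSpace.yon_obj V) h a hae)
    (RepWith.mono hP.of_etale hbe)

theorem locP_lfp_of_lft_of_locNoeth (hX : IsAlgSpace X) (hY : IsAlgSpace Y)
    (hn : IsLocNoethSp Y) {f : X ⟶ Y} (hf : LocP @LocallyOfFiniteType f) :
    LocP @LocallyOfFinitePresentation f := by
  obtain ⟨V, b, hbe, hbs, hV⟩ := hn
  obtain ⟨U, a, h, hae, has, w⟩ := exists_chart_over hX hY f b hbe hbs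
  have : LocallyOfFiniteType h.left := hf a b h hae hbe w
  have : IsLocallyNoetherian V.left := hV
  exact locP_of_chart_square etLocal_lfp hX a hae has b hbe h inferInstance w

theorem locP_etale_of_lfp_flat_unramified {f : X ⟶ Y}
    (h1 : LocP @LocallyOfFinitePresentation f) (h2 : LocP @Flat f)
    (h3 : LocP @FormallyUnramified f) : LocP @Etale f := fun _ _ a b l ha hb w =>
  Etale.iff_flat_and_formallyUnramified.2
    ⟨h2 a b l ha hb w, h3 a b l ha hb w, h1 a b l ha hb w⟩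

end Groth.Agent.AlgSpLib
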