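import Groth.Agent.AlgSpLib.LqfPiece
import Groth.Agent.AlgSpLib.LocPMore

/-!
A quasi-compact algebraic space which is separated and locally quasi-finite over an affine scheme is a scheme.
-/

universe u

open CategoryTheory CategoryTheory.Limits AlgebraicGeometry Opposite Topology
open AlgSp

noncomputable section

namespace Groth.Agent.AlgSpLib

set_option backward.isDefEq.respectTransparency.types false

variable {S : Scheme.{u}}

theorem quasiFiniteLft_chart {X : Sp S} {T U : Over S} {f : X ⟶ (yon S).obj T}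
    (hqf : LocP (@LocallyQuasiFinite ⊓ @LocallyOfFiniteType) f) {p : (yon S).obj U ⟶ X}
    (hp : RepWith @Etale p) {u : U ⟶ T} (hu : (yon S).map u = p ≫ f) :
    LocallyQuasiFinite u.left ∧ LocallyOfFiniteType u.left :=
  hqf p (𝟙 _) u hp (repWith_id _ T) (by rw [Category.comp_id]; exact hu.symm)

theorem exists_iso_yon_of_lqf_separated_affine {X : Sp S} (hX : IsAlgSpace X) [CompactSpace (Points X)]
    {T : Over S} [IsAffine T.left] (f : X ⟶ (yon S).obj T) (hsep : IsSeparatedMor f)
    (hqf : LocP (@LocallyQuasiFinite ⊓ @LocallyOfFiniteType) f) :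
    ∃ G : Over S, Nonempty ((yon S).obj G ≅ X) := by
  obtain ⟨U, p, hU, hpe, hps⟩ := exists_affine_chart hX
  obtain ⟨u, hu⟩ := (yon S).map_surjective (p ≫ f)
  obtain ⟨hu1, hu2⟩ := quasiFiniteLft_chart hqf hpe hu
  have hr := hpe.1
  have sqR0 := hr.isPullback' p
  let R := hr.pullback p
  let π₁ : R ⟶ U := hr.fst' p
  let π₂ : R ⟶ U := hr.snd p
  have hπ : π₁ ≫ u = π₂ ≫ u := (yon S).map_injective (by
    rw [Functor.map_comp, Functor.map_comp, hu, ← Category.assoc, sqR0.w, Category.assoc])
  have hπ' : π₁.left ≫ u.left = π₂.left ≫ u.left := congrArg (fun k => k.left) hπ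
  have := isClosedImmersion_lift_of_separated hsep sqR0 hu hu hπ'
  have : IsAffine R.left := isAffine_of_isAffineHom (pullback.lift π₁.left π₂.left hπ')
  -- the ring of functions
  let E : Subring Γ(U.left, ⊤) := π₁.left.appTop.hom.eqLocus π₂.left.appTop.hom
  let i : CommRingCat.of E ⟶ Γ(U.left, ⊤) := CommRingCat.ofHom E.subtype
  let j : Γ(T.left, ⊤) ⟶ CommRingCat.of E := CommRingCat.ofHom (u.left.appTop.hom.codRestrict E
    fun x => by
      have e := congrArg (fun ψ : R ⟶ T => ψ.left.appTop.hom x) hπ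
      simp only [Over.comp_left, Scheme.Hom.comp_appTop] at e
      exact e)
  have hji : j ≫ i = u.left.appTop := rfl
  let al : Spec (CommRingCat.of E) ⟶ T.left := Spec.map j ≫ T.left.isoSpec.inv
  let A : Over S := Over.mk (al ≫ T.hom)
  let a : A ⟶ T := Over.homMk al
  let ql : U.left ⟶ Spec (CommRingCat.of E) := U.left.toSpecΓ ≫ Spec.map i
  have hqu : ql ≫ al = u.left := by
    simp [ql, al, ← Spec.map_comp_assoc, hji, ← Scheme.toSpecΓ_naturality_assoc]
  let q : U ⟶ A := Over.homMk ql (by
    show ql ≫ al ≫ T.hom = _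
    rw [← Category.assoc, hqu, Over.w u])
  have hqa : q ≫ a = u := Over.OverMorphism.ext hqu
  have hqi : ql.appTop = (Scheme.ΓSpecIso _).hom ≫ i := by
    simp [ql, Scheme.toSpecΓ_appTop]
  have hqst : π₁ ≫ q = π₂ ≫ q := Over.OverMorphism.ext (by
    show π₁.left ≫ ql = π₂.left ≫ ql
    simp only [ql, Scheme.toSpecΓ_naturality_assoc, ← Spec.map_comp]
    rw [show i ≫ π₁.left.appTop = i ≫ π₂.left.appTop from CommRingCat.hom_ext (RingHom.ext fun x => x.2)])
  have : IsAffine A.left := inferInstanceAs (IsAffine (Spec (CommRingCat.of E)))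
  have := isLocallySurjective_of_etale hpe hps
  have : Epi p := Sheaf.epi_of_isLocallySurjective p
  have : IsRegularEpiCategory (Sp S) :=
    inferInstanceAs (IsRegularEpiCategory (Sheaf (J S) (Type (u + 1))))
  have : IsRegularEpi p := IsRegularEpiCategory.regularEpiOfEpi p
  let g : X ⟶ (yon S).obj A := EffectiveEpi.desc p ((yon S).map q) fun {Z} g₁ g₂ h => by
    obtain ⟨l, rfl, rfl⟩ := sqR0.exists_lift g₁ g₂ h
    rw [Category.assoc, Category.assoc, ← Functor.map_comp, ← Functor.map_comp, hqst]
  have hg : p ≫ g = (yon S).map q := EffectiveEpi.fac _ _ _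
  have hgf : g ≫ (yon S).map a = f := by
    rw [← cancel_epi p, ← Category.assoc, hg, ← Functor.map_comp, hqa, hu]
  -- the pieces
  have hpiece : ∀ u₀ : ↥U.left, ∃ (A₀ : Over S) (j₀ : (yon S).obj A₀ ⟶ X),
      RepWith @IsOpenImmersion j₀ ∧ Points.ofPt p u₀ ∈ Set.range (Points.map j₀) := by
    intro u₀
    have : IsSeparated u.left := inferInstance
    obtain ⟨T'l, cl, V₀, v₀, hT', hcl, hVfin, hv₀⟩ := exists_affine_etale_finite_part u.left u₀
    let T' : Over S := Over.mk (cl ≫ T.hom)
    let c : T' ⟶ T := Over.homMk cl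
    have : IsAffine T'.left := hT'
    have : Etale c.left := hcl
    -- base changes
    let A' : Over S := Over.mk (pullback.fst a.left c.left ≫ A.hom)
    let πA : A' ⟶ A := Over.homMk (pullback.fst a.left c.left)
    let a' : A' ⟶ T' := Over.homMk (pullback.snd a.left c.left) (by
      show _ = pullback.fst a.left c.left ≫ A.hom
      rw [← Over.w c, ← Over.w a, pullback.condition_assoc])
    have sqA : IsPullback πA a' a c :=
      IsPullback.of_map (Over.forget S) (Over.OverMorphism.ext pullback.condition)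
        (IsPullback.of_hasPullback a.left c.left)
    have : IsAffine A'.left := inferInstanceAs (IsAffine (pullback a.left c.left))
    have : Etale πA.left := inferInstanceAs (Etale (pullback.fst a.left c.left))
    let U' : Over S := Over.mk (pullback.fst u.left c.left ≫ U.hom)
    let πU : U' ⟶ U := Over.homMk (pullback.fst u.left c.left)
    let vU : U' ⟶ T' := Over.homMk (pullback.snd u.left c.left) (by
      show _ = pullback.fst u.left c.left ≫ U.hom
      rw [← Over.w c, ← Over.w u, pullback.condition_assoc])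
    have sqU : IsPullback πU vU u c :=
      IsPullback.of_map (Over.forget S) (Over.OverMorphism.ext pullback.condition)
        (IsPullback.of_hasPullback u.left c.left)
    have : IsAffine U'.left := inferInstanceAs (IsAffine (pullback u.left c.left))
    let q' : U' ⟶ A' := sqA.lift (πU ≫ q) vU (by rw [Category.assoc, hqa, sqU.w])
    have hq'₁ : q' ≫ πA = πU ≫ q := sqA.lift_fst _ _ _
    have hq'₂ : q' ≫ a' = vU := sqA.lift_snd _ _ _
    have sqUA : IsPullback πU q' q πA :=
      IsPullback.of_bot (by rw [hq'₂, hqa]; exact sqU) hq'₁.symm sqA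
    let R' : Over S := Over.mk (pullback.fst (π₁ ≫ u).left c.left ≫ R.hom)
    let πR : R' ⟶ R := Over.homMk (pullback.fst (π₁ ≫ u).left c.left)
    let vR : R' ⟶ T' := Over.homMk (pullback.snd (π₁ ≫ u).left c.left) (by
      show _ = pullback.fst (π₁ ≫ u).left c.left ≫ R.hom
      rw [← Over.w c, ← Over.w (π₁ ≫ u), pullback.condition_assoc])
    have sqR : IsPullback πR vR (π₁ ≫ u) c :=
      IsPullback.of_map (Over.forget S) (Over.OverMorphism.ext pullback.condition)
        (IsPullback.of_hasPullback (π₁ ≫ u).left c.left)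
    have : IsAffine R'.left := inferInstanceAs (IsAffine (pullback (π₁ ≫ u).left c.left))
    let s' : R' ⟶ U' := sqU.lift (πR ≫ π₁) vR (by rw [Category.assoc]; exact sqR.w)
    let t' : R' ⟶ U' := sqU.lift (πR ≫ π₂) vR (by rw [Category.assoc, ← hπ]; exact sqR.w)
    have hs₁ : s' ≫ vU = vR := sqU.lift_snd _ _ _
    have hs₂ : s' ≫ πU = πR ≫ π₁ := sqU.lift_fst _ _ _
    have ht₁ : t' ≫ vU = vR := sqU.lift_snd _ _ _
    have ht₂ : t' ≫ πU = πR ≫ π₂ := sqU.lift_fst _ _ _
    -- the space over the affine base
    have sqX := IsPullback.of_hasPullback g ((yon S).map πA)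
    let fX := pullback.fst g ((yon S).map πA)
    let g' := pullback.snd g ((yon S).map πA)
    let φ : (yon S).obj U' ⟶ pullback g ((yon S).map πA) :=
      pullback.lift ((yon S).map πU ≫ p) ((yon S).map q') (by
        rw [Category.assoc, hg, ← Functor.map_comp, ← Functor.map_comp, hq'₁])
    have hφ₁ : φ ≫ fX = (yon S).map πU ≫ p := pullback.lift_fst _ _ _
    have hφ₂ : φ ≫ g' = (yon S).map q' := pullback.lift_snd _ _ _
    have sqφ : IsPullback ((yon S).map πU) φ p fX := by
      refine IsPullback.of_bot ?_ hφ₁.symm sqX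
      rw [hφ₂, hg]
      exact sqUA.map (yon S)
    have hφe : RepWith @Etale φ := RepWith.baseChange sqφ hpe
    have hφr := hφe.1
    have hfX : fX ≫ f = (g' ≫ (yon S).map a') ≫ (yon S).map c := by
      rw [← hgf, ← Category.assoc, sqX.w, Category.assoc, Category.assoc, ← Functor.map_comp,
        ← Functor.map_comp, sqA.w]
    have hsep' : IsSeparatedMor (g' ≫ (yon S).map a') :=
      isSeparatedMor_of_isPullback (fst := fX) (g := (yon S).map c) (f := f) (by
        rw [← hgf]
        exact (sqX.paste_vert (sqA.map (yon S)))) hsep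
    have hφvU : (yon S).map vU = φ ≫ g' ≫ (yon S).map a' := by
      rw [← Category.assoc, hφ₂, ← Functor.map_comp, hq'₂]
    -- the finite part and its saturation
    let Vv : Over S := Over.mk (V₀.ι ≫ U'.hom)
    let ιV : Vv ⟶ U' := Over.homMk V₀.ι
    have hfinV : IsFinite (ιV ≫ vU).left := hVfin
    have : IsAffine Vv.left := isAffine_of_isAffineHom (ιV ≫ vU).left
    let φV : (yon S).obj Vv ⟶ pullback g ((yon S).map πA) := (yon S).map ιV ≫ φ
    have hιV : RepWith @Etale ((yon S).map ιV) :=
      (repWith_yon_map_iff _ ιV).2 (inferInstanceAs (Etale V₀.ι))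
    have hφVe : RepWith @Etale φV := RepWith.comp hιV hφe
    have hφVf : (yon S).map (ιV ≫ vU) = φV ≫ g' ≫ (yon S).map a' := by
      rw [Functor.map_comp, hφvU, Category.assoc]
    -- saturation
    let Ws : Set (Points (pullback g ((yon S).map πA))) := Set.range (Points.ofPt φV)
    let Sat : Set ↥U'.left := Points.ofPt φ ⁻¹' Ws
    have hWs : IsOpen Ws := (isOpenMap_ofPt φV hφVe).isOpen_range
    have hSat : IsClopen Sat := by
      refine ⟨?_, hWs.preimage (Points.continuous_ofPt φ)⟩
      have sqP := hφVe.1.isPullback' φ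
      let r₁ := hφVe.1.fst' φ
      let r₂ := hφVe.1.snd φ
      have hw : r₁.left ≫ (ιV ≫ vU).left = r₂.left ≫ vU.left := by
        rw [← Over.comp_left, ← Over.comp_left]
        refine congrArg (fun k : hφVe.1.pullback φ ⟶ T' => k.left) ((yon S).map_injective ?_)
        rw [Functor.map_comp, hφVf, Functor.map_comp, hφvU, ← Category.assoc, sqP.w, Category.assoc]
      have := isClosedImmersion_lift_of_separated hsep' sqP hφVf hφvU hw
      have : IsFinite (pullback.snd (ιV ≫ vU).left vU.left) :=
        MorphismProperty.pullback_snd _ _ hfinV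
      have e : Sat = Set.range r₂.left := by
        ext x
        constructor
        · rintro ⟨v, hv⟩
          obtain ⟨r, -, hr2⟩ := (ofPt_eq_ofPt_iff sqP v x).1 hv
          exact ⟨r, hr2⟩
        · rintro ⟨r, rfl⟩
          exact ⟨r₁.left r, (ofPt_eq_ofPt_iff sqP _ _).2 ⟨r, rfl, rfl⟩⟩
      rw [e, ← pullback.lift_snd r₁.left r₂.left hw]
      exact (Scheme.Hom.isClosedMap _).isClosed_range
    obtain ⟨e₀, he₀, hbo⟩ := exists_idempotent_basicOpen_eq hSat
    have hφst : (yon S).map s' ≫ φ = (yon S).map t' ≫ φ := by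
      refine sqX.hom_ext ?_ ?_
      · rw [Category.assoc, Category.assoc, hφ₁, ← Category.assoc, ← Category.assoc, ← Functor.map_comp,
          ← Functor.map_comp, hs₂, ht₂, Functor.map_comp, Functor.map_comp, Category.assoc, Category.assoc,
          sqR0.w]
      · rw [Category.assoc, Category.assoc, hφ₂, ← Functor.map_comp, ← Functor.map_comp]
        refine congrArg _ (sqA.hom_ext ?_ ?_)
        · rw [Category.assoc, Category.assoc, hq'₁, ← Category.assoc, ← Category.assoc, hs₂, ht₂,
            Category.assoc, Category.assoc, hqst]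
        · rw [Category.assoc, Category.assoc, hq'₂, hs₁, ht₁]
    have hpre : s'.left ⁻¹' Sat = t'.left ⁻¹' Sat := by
      ext r
      show Points.ofPt φ (s'.left r) ∈ Ws ↔ Points.ofPt φ (t'.left r) ∈ Ws
      rw [← ofPt_map, ← ofPt_map, hφst]
    have hbR : R'.left.basicOpen (s'.left.appTop e₀) = R'.left.basicOpen (t'.left.appTop e₀) := by
      rw [← Scheme.preimage_basicOpen_top, ← Scheme.preimage_basicOpen_top]
      refine SetLike.ext' ?_
      show s'.left ⁻¹' (U'.left.basicOpen e₀ : Set ↥U'.left) = t'.left ⁻¹' (U'.left.basicOpen e₀ : Set ↥U'.left)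
      rw [hbo, hpre]
    have hinv₀ : s'.left.appTop e₀ = t'.left.appTop e₀ :=
      idempotent_eq_of_basicOpen_eq (by rw [← map_mul, he₀]) (by rw [← map_mul, he₀]) hbR
    obtain ⟨hinj, heq⟩ : Function.Injective q'.left.appTop ∧
        ∀ m, s'.left.appTop m = t'.left.appTop m → ∃ x : Γ(A'.left, ⊤), q'.left.appTop x = m :=
      appTop_equalizer_baseChange c.left a.left q.left π₁.left π₂.left
      (congrArg Over.Hom.left hqst) (sqA.map (Over.forget S))
      (πU := πU.left) (vU := vU.left) (by rw [← Over.comp_left, hqa]; exact sqU.map (Over.forget S))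
      (πR := πR.left) (vR := vR.left) (by
        rw [← Over.comp_left, ← Over.comp_left, Category.assoc, hqa]; exact sqR.map (Over.forget S))
      q'.left s'.left t'.left (congrArg Over.Hom.left hq'₂) (congrArg Over.Hom.left hq'₁)
      (congrArg Over.Hom.left hs₁) (congrArg Over.Hom.left hs₂)
      (congrArg Over.Hom.left ht₁) (congrArg Over.Hom.left ht₂)
      (by
        intro x y e
        rw [show q.left.appTop = _ from hqi] at e
        exact (Scheme.ΓSpecIso _).commRingCatIsoToRingEquiv.injective (Subtype.ext e))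
      (fun m hm => by
        refine ⟨(Scheme.ΓSpecIso _).inv (⟨m, hm⟩ : E), ?_⟩
        rw [show q.left.appTop = _ from hqi]
        simp [i])
    obtain ⟨e, hee₀⟩ := heq e₀ hinv₀
    have hee : e * e = e := hinj (by rw [map_mul, hee₀, he₀])
    let O : A'.left.Opens := A'.left.basicOpen e
    have hO : q'.left ⁻¹' (O : Set ↥A'.left) = Sat := by
      rw [← hbo, ← hee₀, ← Scheme.preimage_basicOpen_top]
      rfl
    -- the part of the space over it
    let Wx := Points.map g' ⁻¹' (Points.ofScheme A' '' (O : Set ↥A'.left))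
    obtain ⟨l, sqW, hWx⟩ := exists_isPullback_openSubspace g' O
    let jW := openSubspaceι (pullback g ((yon S).map πA)) Wx
    have hg'φ : ∀ x, Points.ofPt φ x ∈ Wx ↔ x ∈ Sat := fun x => by
      show Points.map g' (Points.ofPt φ x) ∈ (Points.ofScheme A' '' (O : Set ↥A'.left) : Set _) ↔ _
      rw [Points.map_ofPt, hφ₂, Points.ofPt_eq_map_ofScheme, map_yon_map_ofScheme, ← hO]
      exact (Points.schemeEquiv A').injective.mem_set_image
    have hφs : Function.Surjective (Points.ofPt φ) :=
      surjective_ofPt φ (RepWith.baseChange sqφ hps)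
    have hWeq : Wx = Ws := by
      ext z
      obtain ⟨x, rfl⟩ := hφs z
      exact hg'φ x
    obtain ⟨pV, hpV⟩ := (exists_lift_openSubspace_iff Wx φV).2 fun v => by rw [hWeq]; exact ⟨v, rfl⟩
    have sqV : IsPullback (𝟙 _) pV φV jW :=
      isPullback_of_yon (by rw [Category.id_comp]; exact hpV.symm) fun Z x y h =>
        ⟨x, ⟨Category.comp_id _, (cancel_mono jW).1 (by rw [Category.assoc, hpV]; exact h)⟩,
          fun m hm => (Category.comp_id m).symm.trans hm.1⟩
    have hpVe : RepWith @Etale pV := RepWith.baseChange sqV hφVe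
    have hpVs : RepWith @Surjective pV := by
      refine repWith_surjective_of_surjective_map hpVe.1 fun z => ?_
      obtain ⟨v, hv⟩ : Points.map jW z ∈ Ws := hWeq ▸ (range_openSubspaceι _ Wx).subset ⟨z, rfl⟩
      refine ⟨Points.ofScheme Vv v, injective_map_of_mono jW ?_⟩
      rw [← Points.map_comp, hpV, ← Points.ofPt_eq_map_ofScheme, hv]
    have := isLocallySurjective_of_etale hpVe hpVs
    have : Epi pV := Sheaf.epi_of_isLocallySurjective pV
    have sqK0 := hφVe.1.isPullback' φV
    let k₁ := hφVe.1.fst' φV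
    let k₂ := hφVe.1.snd φV
    have sqK : IsPullback ((yon S).map k₁) ((yon S).map k₂) pV pV := by
      refine isPullback_of_yon ((cancel_mono jW).1 (by rw [Category.assoc, Category.assoc, hpV, sqK0.w]))
        fun Z x y h => ?_
      have h' : x ≫ φV = y ≫ φV := by rw [← hpV, ← Category.assoc, h, Category.assoc]
      exact ⟨sqK0.lift x y h', ⟨sqK0.lift_fst _ _ _, sqK0.lift_snd _ _ _⟩,
        fun m hm => sqK0.hom_ext (hm.1.trans (sqK0.lift_fst _ _ _).symm) (hm.2.trans (sqK0.lift_snd _ _ _).symm)⟩
    have hkw : k₁.left ≫ (ιV ≫ vU).left = k₂.left ≫ (ιV ≫ vU).left := by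
      rw [← Over.comp_left, ← Over.comp_left]
      refine congrArg (fun k : hφVe.1.pullback φV ⟶ T' => k.left) ((yon S).map_injective ?_)
      rw [(yon S).map_comp k₁ (ιV ≫ vU), (yon S).map_comp k₂ (ιV ≫ vU), hφVf, ← Category.assoc, sqK0.w,
        Category.assoc]
    have hKcl := isClosedImmersion_lift_of_separated hsep' sqK0 hφVf hφVf hkw
    have : IsFinite (pullback.fst (ιV ≫ vU).left (ιV ≫ vU).left) :=
      MorphismProperty.pullback_fst _ _ hfinV
    have : IsFinite k₁.left := by
      rw [← pullback.lift_fst k₁.left k₂.left hkw]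
      infer_instance
    have : IsAffine (hφVe.1.pullback φV).left :=
      isAffine_of_isAffineHom (pullback.lift k₁.left k₂.left hkw)
    have : Etale k₂.left := hφVe.property_snd φV
    have : Etale k₁.left := hφVe.property _ _ _ sqK0.flip
    have hgen := closure_range_appTop_eq_top k₁.left k₂.left hkw
    rw [Set.union_comm] at hgen
    obtain ⟨C, hC, ⟨iC⟩⟩ := exists_affine_quot (jW ≫ g') pV sqK hgen
    -- the comparison of the quotient with the open subscheme
    let jO : Over.mk (O.ι ≫ A'.hom) ⟶ A' := Over.homMk O.ι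
    obtain ⟨wO, hwO⟩ := (yon S).map_surjective (iC.hom ≫ l)
    let SatO : U'.left.Opens := U'.left.basicOpen e₀
    let Sv : Over S := Over.mk (SatO.ι ≫ U'.hom)
    let ιS : Sv ⟶ U' := Over.homMk SatO.ι
    obtain ⟨mS, hmS⟩ := (exists_lift_openSubspace_iff Wx ((yon S).map ιS ≫ φ)).2 fun x => by
      rw [ofPt_map, hg'φ, ← hbo]
      exact x.2
    obtain ⟨m, hm⟩ := (yon S).map_surjective (mS ≫ iC.inv)
    have hmeq : m ≫ wO ≫ jO = ιS ≫ q' := (yon S).map_injective (by
      rw [Functor.map_comp, Functor.map_comp, hm, hwO, Category.assoc, Category.assoc,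
        Iso.inv_hom_id_assoc]
      show mS ≫ l ≫ (yon S).map jO = _
      rw [← sqW.w, ← Category.assoc, hmS, Category.assoc, hφ₂, Functor.map_comp])
    have hmeq' : m.left ≫ wO.left ≫ O.ι = SatO.ι ≫ q'.left := congrArg (fun k => k.left) hmeq
    have sqm : IsPullback ((yon S).map ιS) mS φ jW := by
      refine isPullback_of_yon hmS.symm fun Z x y h => ?_
      obtain ⟨x, rfl⟩ := (yon S).map_surjective x
      have hx : ∀ z : ↥Z.left, x.left z ∈ SatO := fun z => by
        have h' := congrArg (fun k => Points.ofPt k z) h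
        rw [ofPt_map] at h'
        show x.left z ∈ (U'.left.basicOpen e₀ : Set ↥U'.left)
        rw [hbo, ← hg'φ, h', ← Points.map_ofPt]
        exact (range_openSubspaceι _ Wx).subset ⟨_, rfl⟩
      have hxr : Set.range x.left ⊆ Set.range SatO.ι := by
        rw [Scheme.Opens.range_ι]
        rintro _ ⟨z, rfl⟩
        exact hx z
      let x' : Z ⟶ Sv := Over.homMk (IsOpenImmersion.lift SatO.ι x.left hxr) (by
        show _ ≫ SatO.ι ≫ U'.hom = _
        rw [IsOpenImmersion.lift_fac_assoc, Over.w x])
      have hx' : x' ≫ ιS = x := Over.OverMorphism.ext (IsOpenImmersion.lift_fac _ _ _)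
      refine ⟨(yon S).map x', ⟨by rw [← Functor.map_comp, hx'], (cancel_mono jW).1 (by
        rw [Category.assoc, hmS, ← Category.assoc, ← Functor.map_comp, hx', h])⟩, fun m' hm' => ?_⟩
      obtain ⟨m', rfl⟩ := (yon S).map_surjective m'
      refine congrArg _ (Over.OverMorphism.ext ((cancel_mono SatO.ι).1 ?_))
      have := congrArg (fun k : Z ⟶ U' => k.left) ((yon S).map_injective ((Functor.map_comp _ _ _).trans hm'.1))
      exact this.trans (congrArg (fun k : Z ⟶ U' => k.left) hx').symm
    have hme : RepWith @Etale mS := RepWith.baseChange sqm hφe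
    have hms : RepWith @Surjective mS := RepWith.baseChange sqm (RepWith.baseChange sqφ hps)
    have hmE : RepWith @Etale ((yon S).map m) := by
      rw [hm]; exact RepWith.comp hme (repWith_of_isIso _ iC.inv)
    have hmS' : RepWith @Surjective ((yon S).map m) := by
      rw [hm]; exact RepWith.comp hms (repWith_of_isIso _ iC.inv)
    have : Etale m.left := (repWith_yon_map_iff _ m).1 hmE
    have : Surjective m.left := (repWith_yon_map_iff _ m).1 hmS'
    have : IsAffine (Over.mk (O.ι ≫ A'.hom)).left := (isAffineOpen_top A'.left).basicOpen e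
    obtain ⟨hAsur, hAker⟩ := appTop_ι_basicOpen (X := A'.left) e hee
    obtain ⟨hUsur, hUker⟩ := appTop_ι_basicOpen e₀ he₀
    have key : ∀ z : Γ(A'.left, ⊤), m.left.appTop (wO.left.appTop (O.ι.appTop z)) =
        SatO.ι.appTop (q'.left.appTop z) := fun z => by
      have := congrArg (fun k => k.appTop.hom z) hmeq'
      simp only [Scheme.Hom.comp_appTop] at this
      exact this
    have hwb : Function.Bijective wO.left.appTop := by
      refine ⟨(injective_iff_map_eq_zero wO.left.appTop.hom).2 fun y hy => ?_, fun h => ?_⟩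
      · obtain ⟨z, rfl⟩ := hAsur y
        refine (hAker z).2 (hinj ?_)
        rw [map_mul, hee₀, map_zero]
        refine (hUker _).1 ?_
        rw [← key, show wO.left.appTop (O.ι.appTop z) = 0 from hy, map_zero]
      · obtain ⟨x, hx⟩ := hUsur (m.left.appTop h)
        have hR : s'.left.appTop (e₀ * x) = t'.left.appTop (e₀ * x) := by
          rw [map_mul, map_mul, ← hinv₀, ← sub_eq_zero, ← mul_sub]
          have hid : s'.left.appTop e₀ * s'.left.appTop e₀ = s'.left.appTop e₀ := by rw [← map_mul, he₀]
          refine ((appTop_ι_basicOpen (s'.left.appTop e₀) hid).2 _).1 ?_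
          rw [map_sub, sub_eq_zero]
          let RO : R'.left.Opens := R'.left.basicOpen (s'.left.appTop e₀)
          let Ro : Over S := Over.mk (RO.ι ≫ R'.hom)
          let ιR : Ro ⟶ R' := Over.homMk RO.ι
          have hsr : Set.range (ιR ≫ s').left ⊆ Set.range SatO.ι := by
            rw [Scheme.Opens.range_ι]
            rintro _ ⟨z, rfl⟩
            have hz : z.1 ∈ R'.left.basicOpen (s'.left.appTop e₀) := z.2
            rw [← Scheme.preimage_basicOpen_top] at hz
            exact hz
          have htr : Set.range (ιR ≫ t').left ⊆ Set.range SatO.ι := by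
            rw [Scheme.Opens.range_ι]
            rintro _ ⟨z, rfl⟩
            have hz : z.1 ∈ R'.left.basicOpen (s'.left.appTop e₀) := z.2
            rw [hbR, ← Scheme.preimage_basicOpen_top] at hz
            exact hz
          let s₀ : Ro ⟶ Sv := Over.homMk (IsOpenImmersion.lift SatO.ι _ hsr) (by
            show _ ≫ SatO.ι ≫ U'.hom = _
            rw [IsOpenImmersion.lift_fac_assoc]
            exact Over.w (ιR ≫ s'))
          let t₀ : Ro ⟶ Sv := Over.homMk (IsOpenImmersion.lift SatO.ι _ htr) (by
            show _ ≫ SatO.ι ≫ U'.hom = _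
            rw [IsOpenImmersion.lift_fac_assoc]
            exact Over.w (ιR ≫ t'))
          have hs₀ : s₀ ≫ ιS = ιR ≫ s' := Over.OverMorphism.ext (IsOpenImmersion.lift_fac _ _ _)
          have ht₀ : t₀ ≫ ιS = ιR ≫ t' := Over.OverMorphism.ext (IsOpenImmersion.lift_fac _ _ _)
          have e1 : s₀ ≫ m = t₀ ≫ m := (yon S).map_injective (by
            rw [Functor.map_comp, Functor.map_comp, hm, ← Category.assoc, ← Category.assoc]
            congr 1
            rw [← cancel_mono jW, Category.assoc, Category.assoc, hmS, ← Category.assoc, ← Category.assoc,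
              ← Functor.map_comp, ← Functor.map_comp, hs₀, ht₀, Functor.map_comp, Functor.map_comp,
              Category.assoc, Category.assoc, hφst])
          have e2 := congrArg (fun k : Ro ⟶ C => k.left.appTop.hom h) e1
          simp only [Over.comp_left, Scheme.Hom.comp_appTop] at e2
          have e3 : ∀ (r : Ro ⟶ Sv) (σ : R' ⟶ U'), r ≫ ιS = ιR ≫ σ →
              RO.ι.appTop (σ.left.appTop x) = r.left.appTop (m.left.appTop h) := fun r σ hσ => by
            rw [← hx]
            have := congrArg (fun k : Ro ⟶ U' => k.left.appTop.hom x) hσ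
            simp only [Over.comp_left, Scheme.Hom.comp_appTop] at this
            exact this.symm
          show RO.ι.appTop (s'.left.appTop x) = RO.ι.appTop (t'.left.appTop x)
          rw [e3 _ _ hs₀, e3 _ _ ht₀]
          exact e2
        obtain ⟨z, hz⟩ := heq (e₀ * x) hR
        refine ⟨O.ι.appTop z, appTop_injective_of_flat_surjective m.left ?_⟩
        have h1 : SatO.ι.appTop e₀ = 1 := by
          have : SatO.ι.appTop (e₀ - 1) = 0 := (hUker _).2 (by rw [mul_sub, he₀, mul_one, sub_self])
          rwa [map_sub, map_one, sub_eq_zero] at this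
        rw [key, hz, map_mul, h1, one_mul, hx]
    have : IsIso wO.left.appTop := (ConcreteCategory.isIso_iff_bijective _).2 hwb
    have : IsIso wO.left := Et18.isIso_of_isIso_appTop wO.left
    have : IsIso wO := by
      have : IsIso ((Over.forget S).map wO) := ‹IsIso wO.left›
      exact isIso_of_reflects_iso _ (Over.forget S)
    have hl : IsIso l := by
      have : l = iC.inv ≫ (yon S).map wO := by rw [hwO, Iso.inv_hom_id_assoc]
      rw [this]
      infer_instance
    -- descent to the image
    let k : (Over.mk (O.ι ≫ A'.hom)).left ⟶ A.left := O.ι ≫ πA.left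
    have hket : Etale k := inferInstanceAs (Etale (O.ι ≫ πA.left))
    let O₀ : A.left.Opens := ⟨Set.range k, k.isOpenMap.isOpen_range⟩
    let A₀ : Over S := Over.mk (O₀.ι ≫ A.hom)
    let j₀ : A₀ ⟶ A := Over.homMk O₀.ι
    have hk : Set.range k ⊆ Set.range O₀.ι := by rw [Scheme.Opens.range_ι]; rfl
    let b : Over.mk (O.ι ≫ A'.hom) ⟶ A₀ := Over.homMk (IsOpenImmersion.lift O₀.ι k hk) (by
      show _ ≫ O₀.ι ≫ A.hom = _
      rw [IsOpenImmersion.lift_fac_assoc]
      exact (Category.assoc _ _ _).trans (congrArg _ (Over.w πA)))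
    have hb : b ≫ j₀ = jO ≫ πA := Over.OverMorphism.ext (IsOpenImmersion.lift_fac _ _ _)
    have hbk : b.left ≫ O₀.ι = k := IsOpenImmersion.lift_fac _ _ _
    have hbe : Etale b.left := MorphismProperty.of_postcomp (W := @Etale) (W' := @Etale) b.left O₀.ι
      inferInstance (by rw [hbk]; exact hket)
    have hbs : Surjective b.left := ⟨fun z => by
      obtain ⟨y, hy⟩ : z.1 ∈ Set.range k := z.2
      refine ⟨y, O₀.ι.isOpenEmbedding.injective ?_⟩
      rw [← Scheme.Hom.comp_apply, hbk]
      exact hy⟩
    have sq0 := IsPullback.of_hasPullback g ((yon S).map j₀)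
    let h₀ := pullback.snd g ((yon S).map j₀)
    have sqAll := sqW.paste_horiz sqX
    rw [← Functor.map_comp, show (Over.homMk O.ι : Over.mk (O.ι ≫ A'.hom) ⟶ A') = jO from rfl, ← hb,
      Functor.map_comp] at sqAll
    have sqb := IsPullback.of_right
      (h₁₁ := sq0.lift (jW ≫ fX) (l ≫ (yon S).map b) (by rw [Category.assoc l]; exact sqAll.w))
      (v₁₂ := h₀) (h₂₁ := (yon S).map b) (by rw [sq0.lift_fst]; exact sqAll) (sq0.lift_snd _ _ _) sq0
    have hbfl : Flat b.left := inferInstance
    have hblfp : LocallyOfFinitePresentation b.left := inferInstance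
    have : IsIso h₀ := isIso_of_fppf_baseChange sqb ((repWith_yon_map_iff _ b).2 hbfl)
      ((repWith_yon_map_iff _ b).2 hblfp) ((repWith_yon_map_iff _ b).2 hbs)
    have hj₀ : RepWith @IsOpenImmersion ((yon S).map j₀) :=
      (repWith_yon_map_iff _ j₀).2 (inferInstanceAs (IsOpenImmersion O₀.ι))
    refine ⟨A₀, inv h₀ ≫ pullback.fst g ((yon S).map j₀),
      RepWith.comp (repWith_of_isIso _ (inv h₀)) (RepWith.baseChange sq0.flip hj₀), ?_⟩
    have hq₀ : q.left u₀ ∈ O₀ := by
      have hvS : v₀.1 ∈ Sat := ⟨v₀, by rw [ofPt_map]; rfl⟩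
      have hvO : q'.left v₀.1 ∈ O := by
        rw [← hO] at hvS; exact hvS
      refine ⟨⟨_, hvO⟩, ?_⟩
      show πA.left (q'.left v₀.1) = q.left u₀
      rw [← Scheme.Hom.comp_apply, ← Over.comp_left, hq'₁, Over.comp_left, Scheme.Hom.comp_apply]
      exact congrArg _ hv₀
    obtain ⟨z, hz, -⟩ := exists_point_of_isPullback sq0
      (x := Points.ofPt p u₀) (y := Points.ofScheme A₀ ⟨q.left u₀, hq₀⟩) (by
        rw [Points.map_ofPt, hg, Points.ofPt_eq_map_ofScheme, map_yon_map_ofScheme, map_yon_map_ofScheme]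
        rfl)
    refine ⟨Points.map h₀ z, ?_⟩
    rw [Points.map_comp, ← Points.map_comp h₀ (inv h₀), IsIso.hom_inv_id, Points.map_id]
    exact hz
  choose A₀ j₀ hj₀ hmem using hpiece
  refine exists_iso_yon_of_openCover j₀ hj₀ fun x => ?_
  obtain ⟨u₀, rfl⟩ := surjective_ofPt p hps x
  exact ⟨u₀, hmem u₀⟩

end Groth.Agent.AlgSpLib

namespace Groth.Agent.AlgSpLib

variable {S : Scheme.{u}}

/-- a separated locally quasi-finite algebraic space over a scheme is a scheme -/
theorem exists_iso_yon_of_lqf_separated {X : Sp S} (hX : IsAlgSpace X) {T : Over S}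
    (f : X ⟶ (yon S).obj T) (hsep : IsSeparatedMor f)
    (hqf : LocP (@LocallyQuasiFinite ⊓ @LocallyOfFiniteType) f) :
    ∃ G : Over S, Nonempty ((yon S).obj G ≅ X) := by
  have hpiece : ∀ x : Points X, ∃ (A : Over S) (j : (yon S).obj A ⟶ X),
      RepWith @IsOpenImmersion j ∧ x ∈ Set.range (Points.map j) := by
    intro x
    obtain ⟨t, ht⟩ := (Points.schemeEquiv T).surjective (Points.map f x)
    obtain ⟨O, hO, htO, -⟩ := exists_isAffineOpen_mem_and_subset (U := ⊤) (x := t) trivial
    let TO : Over S := Over.mk (O.ι ≫ T.hom)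
    let ι : TO ⟶ T := Over.homMk O.ι
    have : IsAffine TO.left := hO
    have hι : RepWith @IsOpenImmersion ((yon S).map ι) :=
      (repWith_yon_map_iff _ ι).2 (inferInstanceAs (IsOpenImmersion O.ι))
    have hιm : Mono ((yon S).map ι) :=
      mono_of_repWith (fun _ _ k (_ : IsOpenImmersion k) => (inferInstance : Mono k)) hι
    have hιr : ∀ z, z ∈ Set.range (Points.map ((yon S).map ι)) ↔ z ∈ Points.ofScheme T '' (O : Set ↥T.left) := by
      intro z
      constructor
      · rintro ⟨y, rfl⟩
        obtain ⟨y, rfl⟩ := (Points.schemeEquiv _).surjective y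
        exact ⟨O.ι y, y.2, (map_yon_map_ofScheme ι y).symm⟩
      · rintro ⟨a, ha, rfl⟩
        exact ⟨Points.ofScheme _ ⟨a, ha⟩, map_yon_map_ofScheme ι ⟨a, ha⟩⟩
    let W₀ : Set (Points X) := Points.map f ⁻¹' (Points.ofScheme T '' (O : Set ↥T.left))
    have hW₀ : IsOpen W₀ := ((Points.schemeHomeo T).isOpenMap _ O.isOpen).preimage (Points.continuous_map f)
    obtain ⟨W, hWo, hWc, hxW, hWW⟩ :=
      exists_isOpen_isCompact_nhd hX hW₀ (show x ∈ W₀ from ⟨t, htO, ht⟩)
    let j := openSubspaceι X W
    have hj := repWith_openSubspaceι X hWo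
    have hWa := isAlgSpace_openSubspace hX hWo
    have : CompactSpace (Points (openSubspace X W)) := by
      have hemb := (isEmbedding_map_of_immersion hX (RepWith.mono (fun _ _ g (_ : IsOpenImmersion g) =>
        (inferInstance : IsImmersion g)) hj)).1
      rw [← isCompact_univ_iff, hemb.isCompact_iff, Set.image_univ, range_openSubspaceι]
      exact hWc
    obtain ⟨f', hf'⟩ := (exists_lift_iff_range_subset hι (j ≫ f)).2 (by
      rintro _ ⟨z, rfl⟩
      rw [hιr, Points.map_comp]
      exact hWW ((range_openSubspaceι X W).subset ⟨z, rfl⟩))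
    have hsep' : IsSeparatedMor f' :=
      isSeparatedMor_of_isPullback (fst := 𝟙 _) (g := (yon S).map ι) (f := j ≫ f)
        (isPullback_of_yon (by rw [Category.id_comp, hf']) fun Z a b h =>
          ⟨a, ⟨Category.comp_id _, (cancel_mono ((yon S).map ι)).1 (by rw [Category.assoc, hf']; exact h)⟩,
            fun m hm => (Category.comp_id m).symm.trans hm.1⟩)
        (isSeparatedMor_comp (isSeparatedMor_of_mono j) hsep)
    have hqf' : LocP (@LocallyQuasiFinite ⊓ @LocallyOfFiniteType) f' := fun U V a b h ha hb e =>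
      hqf (a ≫ j) (b ≫ (yon S).map ι) h
        (RepWith.comp ha (RepWith.mono (fun _ _ g (_ : IsOpenImmersion g) => (inferInstance : Etale g)) hj))
        (RepWith.comp hb (RepWith.mono (fun _ _ g (_ : IsOpenImmersion g) => (inferInstance : Etale g)) hι))
        (by rw [Category.assoc, ← hf', ← Category.assoc, e, Category.assoc])
    obtain ⟨G, ⟨e⟩⟩ := exists_iso_yon_of_lqf_separated_affine hWa f' hsep' hqf'
    obtain ⟨o, ho⟩ := (range_openSubspaceι X W).symm.subset hxW
    refine ⟨G, e.hom ≫ j, RepWith.comp (repWith_of_isIso _ e.hom) hj, Points.map e.inv o, ?_⟩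
    rw [Points.map_comp, ← Points.map_comp e.inv, Iso.inv_hom_id, Points.map_id, ho]
  obtain ⟨U, p, hpe, hps⟩ := hX.atlas
  choose A j hj hxj using fun u : ↥U.left => hpiece (Points.ofPt p u)
  refine exists_iso_yon_of_openCover j hj fun x => ?_
  obtain ⟨u, rfl⟩ := surjective_ofPt p hps x
  exact ⟨u, hxj u⟩

/-- separated locally quasi-finite morphisms of algebraic spaces are representable -/
theorem representable_of_lqf_separated' {X Y : Sp S} (hX : IsAlgSpace X) (hY : IsAlgSpace Y) (f : X ⟶ Y)
    (hsep : IsSeparatedMor f) (hqf : LocP (@LocallyQuasiFinite ⊓ @LocallyOfFiniteType) f) :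
    Representable f := by
  refine representable_of_affine f fun T hT t => ?_
  have sq := IsPullback.of_hasPullback f t
  have hP := isAlgSpace_of_isPullback hY.diag hX (IsAlgSpace.yon_obj T) sq
  obtain ⟨G, ⟨e⟩⟩ := exists_iso_yon_of_lqf_separated hP (pullback.snd f t)
    (isSeparatedMor_of_isPullback sq hsep) (locP_of_isPullback etLocal_lqf hX hY hP sq hqf)
  obtain ⟨w, hw⟩ := (yon S).map_surjective (e.hom ≫ pullback.snd f t)
  exact ⟨G, w, e.hom ≫ pullback.fst f t,
    sq.of_iso e.symm (Iso.refl _) (Iso.refl _) (Iso.refl _) (by simp) (by simp [hw]) (by simp) (by simp)⟩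

end Groth.Agent.AlgSpLib
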