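import Groth.Agent.AlgSpLib.Pres
import Groth.Prelude.Def_AlgSp4

/-!
Universal topological properties of morphisms of sheaves, tested on schemes.
-/

universe u

open CategoryTheory CategoryTheory.Limits AlgebraicGeometry Topology TopologicalSpace
open AlgSp

noncomputable section

namespace Groth.Agent.AlgSpLib

set_option backward.isDefEq.respectTransparency.types false

variable {S : Scheme.{u}} {F G H : Sp S}

/-- points of isomorphic sheaves -/
def pointsHomeo (e : F ≅ G) : Points F ≃ₜ Points G where
  toFun := Points.map e.hom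
  invFun := Points.map e.inv
  left_inv x := by rw [← Points.map_comp, e.hom_inv_id, Points.map_id]
  right_inv x := by rw [← Points.map_comp, e.inv_hom_id, Points.map_id]
  continuous_toFun := Points.continuous_map _
  continuous_invFun := Points.continuous_map _

theorem schemeHomeo_preimage {T : Over S} (g : (yon S).obj T ⟶ F) (A : Set (Points F)) :
    Points.ofPt g ⁻¹' A = Points.schemeHomeo T ⁻¹' (Points.map g ⁻¹' A) := by
  ext t
  rw [Set.mem_preimage, Points.ofPt_eq_map_ofScheme]
  rfl

theorem isOpen_of_forall_affine {A : Set (Points F)}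
    (h : ∀ (T : Over S), IsAffine T.left → ∀ g : (yon S).obj T ⟶ F,
      IsOpen (Points.map g ⁻¹' A)) : IsOpen A := by
  refine Points.isOpen_iff.2 fun T g => ?_
  refine (IsOpenCover.isOpen_iff_coe_preimage
    (U := fun W : T.left.affineOpens => W.1) (IsOpenCover.mk (iSup_affineOpens_eq_top _))).2 fun W => ?_
  let u : Over.mk (W.1.ι ≫ T.hom) ⟶ T := Over.homMk W.1.ι
  have h1 := (h (Over.mk (W.1.ι ≫ T.hom)) W.2 ((yon S).map u ≫ g)).preimage
    (Points.schemeHomeo _).continuous
  rw [← schemeHomeo_preimage] at h1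
  have e : Points.ofPt ((yon S).map u ≫ g) ⁻¹' A =
      (Subtype.val : ↥W.1 → ↥T.left) ⁻¹' (Points.ofPt g ⁻¹' A) := by
    ext t
    show Points.ofPt ((yon S).map u ≫ g) t ∈ A ↔ _
    rw [ofPt_map]
    rfl
  rw [e] at h1
  exact h1

theorem isClosed_of_forall_affine {A : Set (Points F)}
    (h : ∀ (T : Over S), IsAffine T.left → ∀ g : (yon S).obj T ⟶ F,
      IsClosed (Points.map g ⁻¹' A)) : IsClosed A :=
  ⟨isOpen_of_forall_affine fun T hT g => by
    rw [Set.preimage_compl]; exact (h T hT g).isOpen_compl⟩

theorem preimage_map_image {P : Sp S} {fst : P ⟶ F} {snd : P ⟶ G} {f : F ⟶ H} {g : G ⟶ H}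
    (sq : IsPullback fst snd f g) (W : Set (Points F)) :
    Points.map g ⁻¹' (Points.map f '' W) = Points.map snd '' (Points.map fst ⁻¹' W) := by
  ext y
  constructor
  · rintro ⟨x, hx, e⟩
    obtain ⟨z, rfl, rfl⟩ := exists_point_of_isPullback sq e
    exact ⟨z, hx, rfl⟩
  · rintro ⟨z, hz, rfl⟩
    exact ⟨_, hz, by rw [← Points.map_comp, sq.w, Points.map_comp]⟩

theorem isUnivOpenMor_of_affine {f : F ⟶ G}
    (h : ∀ (Z : Over S), IsAffine Z.left → ∀ (g : (yon S).obj Z ⟶ G) (P : Sp S) (fst : P ⟶ F)
      (snd : P ⟶ (yon S).obj Z), IsPullback fst snd f g → IsOpenMap (Points.map snd)) :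
    IsUnivOpenMor f := fun Z Z' _ g fst snd sq W hW => isOpen_of_forall_affine fun T hT t => by
  have sqT := IsPullback.of_hasPullback snd t
  rw [preimage_map_image sqT]
  exact h T hT _ _ _ _ (sqT.paste_horiz sq) _ (hW.preimage (Points.continuous_map _))

theorem isUnivClosedMor_of_affine {f : F ⟶ G}
    (h : ∀ (Z : Over S), IsAffine Z.left → ∀ (g : (yon S).obj Z ⟶ G) (P : Sp S) (fst : P ⟶ F)
      (snd : P ⟶ (yon S).obj Z), IsPullback fst snd f g → IsClosedMap (Points.map snd)) :
    IsUnivClosedMor f := fun Z Z' _ g fst snd sq W hW => isClosed_of_forall_affine fun T hT t => by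
  have sqT := IsPullback.of_hasPullback snd t
  rw [preimage_map_image sqT]
  exact h T hT _ _ _ _ (sqT.paste_horiz sq) _ (hW.preimage (Points.continuous_map _))

theorem isUnivInjectiveMor_of_affine {f : F ⟶ G}
    (h : ∀ (Z : Over S), IsAffine Z.left → ∀ (g : (yon S).obj Z ⟶ G) (P : Sp S) (fst : P ⟶ F)
      (snd : P ⟶ (yon S).obj Z), IsPullback fst snd f g → Function.Injective (Points.map snd)) :
    IsUnivInjectiveMor f := fun Z Z' _ g fst snd sq x y e => by
  obtain ⟨K, _, str, b, hb⟩ := exists_ptOfHom (Points.map snd x)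
  have hb' : Points.map b (ptOfHom (𝟙 _)) = Points.map snd x := by
    rw [map_ptOfHom, Category.id_comp, hb]
  have sqT := IsPullback.of_hasPullback snd b
  obtain ⟨x', rfl, hx⟩ := exists_point_of_isPullback sqT hb'.symm
  obtain ⟨y', rfl, hy⟩ := exists_point_of_isPullback sqT (e.symm.trans hb'.symm)
  rw [h _ (inferInstanceAs (IsAffine (Spec _))) _ _ _ _ (sqT.paste_horiz sq) (hx.trans hy.symm)]

theorem isUnivSubmersiveMor_of_affine {f : F ⟶ G}
    (h : ∀ (Z : Over S), IsAffine Z.left → ∀ (g : (yon S).obj Z ⟶ G) (P : Sp S) (fst : P ⟶ F)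
      (snd : P ⟶ (yon S).obj Z), IsPullback fst snd f g → IsQuotientMap (Points.map snd)) :
    IsUnivSubmersiveMor f := fun Z Z' _ g fst snd sq => by
  refine (isQuotientMap_iff _).2 ⟨isCoinducing_iff.2 fun A => ⟨fun hA => isOpen_of_forall_affine fun T hT t => ?_,
    fun hA => hA.preimage (Points.continuous_map _)⟩, fun z => ?_⟩
  rotate_left
  · obtain ⟨K, _, str, b, rfl⟩ := exists_ptOfHom z
    have sqT := IsPullback.of_hasPullback snd b
    obtain ⟨w, hw⟩ := (h _ (inferInstanceAs (IsAffine (Spec _))) _ _ _ _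
      (sqT.paste_horiz sq)).surjective (ptOfHom (𝟙 _))
    refine ⟨Points.map (pullback.fst snd b) w, ?_⟩
    rw [← Points.map_comp, sqT.w, Points.map_comp, hw, map_ptOfHom, Category.id_comp]
  · have sqT := IsPullback.of_hasPullback snd t
    refine (h T hT _ _ _ _ (sqT.paste_horiz sq)).isOpen_preimage.1 ?_
    rw [← Set.preimage_comp, show Points.map t ∘ Points.map (pullback.snd snd t) =
      Points.map snd ∘ Points.map (pullback.fst snd t) by
        funext w
        simp only [Function.comp_apply, ← Points.map_comp, sqT.w]]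
    exact hA.preimage (Points.continuous_map _)

theorem isUnivHomeoMor_of {f : F ⟶ G} (ho : IsUnivOpenMor f) (hi : IsUnivInjectiveMor f)
    (hs : IsUnivSubmersiveMor f) : IsUnivHomeoMor f := fun _ _ hZ g fst snd sq =>
  ⟨Points.continuous_map _, ho hZ g fst snd sq,
    ⟨hi hZ g fst snd sq, (hs hZ g fst snd sq).surjective⟩⟩

/-- the base change of a representable morphism to a scheme, on points -/
theorem exists_scheme_model {f : F ⟶ G} (hf : Representable f) {T : Over S}
    {g : (yon S).obj T ⟶ G} {P : Sp S} {fst : P ⟶ F} {snd : P ⟶ (yon S).obj T}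
    (sq : IsPullback fst snd f g) :
    ∃ e : ↥(hf.pullback g).left ≃ₜ Points P,
      Points.map snd = Points.schemeHomeo T ∘ (hf.snd g).left ∘ e.symm := by
  let i := IsPullback.isoIsPullback _ _ (hf.isPullback g) sq
  refine ⟨(Points.schemeHomeo _).trans (pointsHomeo i), ?_⟩
  funext x
  obtain ⟨v, rfl⟩ := ((Points.schemeHomeo _).trans (pointsHomeo i)).surjective x
  simp only [Function.comp_apply, Homeomorph.symm_apply_apply]
  show Points.map snd (Points.map i.hom (Points.schemeHomeo _ v)) = _
  rw [← Points.map_comp, IsPullback.isoIsPullback_hom_snd, Points.map_yon_map_apply]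

/-- conversely, a scheme base change is modelled by points -/
theorem universally_of_points {Q : ∀ {α β : Type u} [TopologicalSpace α] [TopologicalSpace β],
      (α → β) → Prop} {f : F ⟶ G} (hf : Representable f)
    (h : ∀ {T W : Over S} (k : W ⟶ T) (g : (yon S).obj T ⟶ G) (fst : (yon S).obj W ⟶ F),
      IsPullback fst ((yon S).map k) f g → Q k.left) :
    RepWith (MorphismProperty.universally (topologically @Q)) f := by
  refine ⟨hf, fun U V g fst snd sq X' Y' i₁ i₂ f' hp => ?_⟩
  let T : Over S := Over.mk (i₂ ≫ U.hom)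
  let W : Over S := Over.mk (i₁ ≫ V.hom)
  let j : T ⟶ U := Over.homMk i₂
  let i : W ⟶ V := Over.homMk i₁
  let k : W ⟶ T := Over.homMk f' (by
    show f' ≫ i₂ ≫ U.hom = i₁ ≫ V.hom
    have hw : f' ≫ i₂ = i₁ ≫ snd.left := hp.w
    exact (Category.assoc f' i₂ U.hom).symm.trans ((congrArg (· ≫ U.hom) hw).trans
      ((Category.assoc i₁ snd.left U.hom).trans (congrArg (i₁ ≫ ·) (Over.w snd)))))
  have sqO : IsPullback i k snd j := by
    refine IsPullback.of_map (Over.forget S) ?_ hp.flip
    exact Over.OverMorphism.ext hp.flip.w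
  exact h k _ _ ((sqO.map (yon S)).paste_horiz sq)

theorem map_eq_of_yon {W T : Over S} (k : W ⟶ T) :
    ⇑k.left =
      (Points.schemeHomeo T).symm ∘ Points.map ((yon S).map k) ∘ Points.schemeHomeo W := by
  funext t
  simp [Function.comp_apply, Points.map_yon_map_apply]

theorem repWith_universallyOpen_iff {f : F ⟶ G} (hf : Representable f) :
    RepWith @UniversallyOpen f ↔ IsUnivOpenMor f := by
  constructor
  · intro h
    refine isUnivOpenMor_of_affine fun Z _ g P fst snd sq => ?_
    obtain ⟨e, he⟩ := exists_scheme_model hf sq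
    have : UniversallyOpen (hf.snd g).left := h.property_snd g
    rw [he]
    exact (Points.schemeHomeo Z).isOpenMap.comp ((hf.snd g).left.isOpenMap.comp e.symm.isOpenMap)
  · intro h
    refine RepWith.mono UniversallyOpen.eq.ge (universally_of_points hf fun {T W} k g fst sq => ?_)
    rw [map_eq_of_yon]
    exact (Points.schemeHomeo T).symm.isOpenMap.comp
      ((h (IsAlgSpace.yon_obj T) g fst _ sq).comp (Points.schemeHomeo W).isOpenMap)

theorem repWith_universallyClosed_iff {f : F ⟶ G} (hf : Representable f) :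
    RepWith @UniversallyClosed f ↔ IsUnivClosedMor f := by
  constructor
  · intro h
    refine isUnivClosedMor_of_affine fun Z _ g P fst snd sq => ?_
    obtain ⟨e, he⟩ := exists_scheme_model hf sq
    have : UniversallyClosed (hf.snd g).left := h.property_snd g
    rw [he]
    exact (Points.schemeHomeo Z).isClosedMap.comp
      ((hf.snd g).left.isClosedMap.comp e.symm.isClosedMap)
  · intro h
    refine RepWith.mono universallyClosed_eq.ge (universally_of_points hf fun {T W} k g fst sq => ?_)
    rw [map_eq_of_yon]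
    exact (Points.schemeHomeo T).symm.isClosedMap.comp
      ((h (IsAlgSpace.yon_obj T) g fst _ sq).comp (Points.schemeHomeo W).isClosedMap)

theorem repWith_univSubmersive_iff {f : F ⟶ G} (hf : Representable f) :
    RepWith (MorphismProperty.universally
      (topologically fun k => IsQuotientMap k)) f ↔ IsUnivSubmersiveMor f := by
  constructor
  · intro h
    refine isUnivSubmersiveMor_of_affine fun Z _ g P fst snd sq => ?_
    obtain ⟨e, he⟩ := exists_scheme_model hf sq
    have h1 : IsQuotientMap (hf.snd g).left := h.property_snd g _ _ _ IsPullback.of_id_snd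
    rw [he]
    exact (Points.schemeHomeo Z).isQuotientMap.comp (h1.comp e.symm.isQuotientMap)
  · intro h
    refine universally_of_points hf fun {T W} k g fst sq => ?_
    rw [map_eq_of_yon]
    exact (Points.schemeHomeo T).symm.isQuotientMap.comp
      ((h (IsAlgSpace.yon_obj T) g fst _ sq).comp (Points.schemeHomeo W).isQuotientMap)

theorem repWith_univHomeo_iff {f : F ⟶ G} (hf : Representable f) :
    RepWith (MorphismProperty.universally
      (topologically fun k => IsHomeomorph k)) f ↔ IsUnivHomeoMor f := by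
  constructor
  · intro h
    have key : ∀ (Z : Over S) (g : (yon S).obj Z ⟶ G) (P : Sp S) (fst : P ⟶ F)
        (snd : P ⟶ (yon S).obj Z), IsPullback fst snd f g → IsHomeomorph (Points.map snd) :=
      fun Z g P fst snd sq => by
        obtain ⟨e, he⟩ := exists_scheme_model hf sq
        have h1 : IsHomeomorph (hf.snd g).left := h.property_snd g _ _ _ IsPullback.of_id_snd
        rw [he]
        exact (Points.schemeHomeo Z).isHomeomorph.comp (h1.comp e.symm.isHomeomorph)
    exact isUnivHomeoMor_of
      (isUnivOpenMor_of_affine fun Z _ g P fst snd sq => (key Z g P fst snd sq).isOpenMap)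
      (isUnivInjectiveMor_of_affine fun Z _ g P fst snd sq => (key Z g P fst snd sq).bijective.1)
      (isUnivSubmersiveMor_of_affine fun Z _ g P fst snd sq => (key Z g P fst snd sq).isQuotientMap)
  · intro h
    refine universally_of_points hf fun {T W} k g fst sq => ?_
    rw [map_eq_of_yon]
    exact (Points.schemeHomeo T).symm.isHomeomorph.comp
      ((h (IsAlgSpace.yon_obj T) g fst _ sq).comp (Points.schemeHomeo W).isHomeomorph)

theorem isUnivOpenMor_of_cover {f : F ⟶ G} (hF : IsAlgSpace F) (hG : IsAlgSpace G) {V : Over S}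
    (p : (yon S).obj V ⟶ G) (hp : RepWith @Etale p) (hps : RepWith @Surjective p) {P : Sp S}
    {fst : P ⟶ F} {snd : P ⟶ (yon S).obj V} (sq : IsPullback fst snd f p)
    (h : IsUnivOpenMor snd) : IsUnivOpenMor f := by
  intro Z Z' hZ g fst' snd' sq' W hW
  have hZ' : IsAlgSpace Z' := isAlgSpace_of_isPullback hG.diag hF hZ sq'
  have hr := hG.representable_from_yon p
  have sqZ := IsPullback.of_hasPullback p g
  obtain ⟨U, a, hae, has⟩ := hZ.atlas
  let K := pullback p g
  have hKe : RepWith @Etale (pullback.snd p g) := RepWith.baseChange sqZ hp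
  have hKs : RepWith @Surjective (pullback.snd p g) := RepWith.baseChange sqZ hps
  have hK : IsAlgSpace K := isAlgSpace_of_isPullback hG.diag (IsAlgSpace.yon_obj V) hZ sqZ
  obtain ⟨UK, b, hbe, hbs⟩ := hK.atlas
  have hq : IsQuotientMap (Points.map (pullback.snd p g)) := by
    have h1 := (isOpenQuotientMap_ofPt (b ≫ pullback.snd p g) (RepWith.comp hbe hKe)
      (RepWith.comp hbs hKs)).isQuotientMap
    have e : Points.ofPt (b ≫ pullback.snd p g) = Points.map (pullback.snd p g) ∘ Points.ofPt b :=
      funext fun t => (Points.map_ofPt b _ t).symm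
    rw [e] at h1
    exact IsQuotientMap.of_comp (Points.continuous_ofPt b) (Points.continuous_map _) h1
  refine hq.isOpen_preimage.1 ?_
  have sq1 := IsPullback.of_hasPullback snd' (pullback.snd p g)
  rw [preimage_map_image sq1]
  have big : IsPullback (pullback.fst snd' (pullback.snd p g) ≫ fst') (pullback.snd snd' _) f
      (pullback.fst p g ≫ p) := by
    rw [sqZ.w]; exact sq1.paste_horiz sq'
  exact h hK _ _ _ (IsPullback.of_right' big sq) _ (hW.preimage (Points.continuous_map _))

theorem isUnivClosedMor_of_cover {f : F ⟶ G} (hF : IsAlgSpace F) (hG : IsAlgSpace G) {V : Over S}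
    (p : (yon S).obj V ⟶ G) (hp : RepWith @Etale p) (hps : RepWith @Surjective p) {P : Sp S}
    {fst : P ⟶ F} {snd : P ⟶ (yon S).obj V} (sq : IsPullback fst snd f p)
    (h : IsUnivClosedMor snd) : IsUnivClosedMor f := by
  intro Z Z' hZ g fst' snd' sq' W hW
  have hZ' : IsAlgSpace Z' := isAlgSpace_of_isPullback hG.diag hF hZ sq'
  have sqZ := IsPullback.of_hasPullback p g
  have hK : IsAlgSpace (pullback p g) :=
    isAlgSpace_of_isPullback hG.diag (IsAlgSpace.yon_obj V) hZ sqZ
  obtain ⟨UK, b, hbe, hbs⟩ := hK.atlas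
  have hq : IsQuotientMap (Points.map (pullback.snd p g)) := by
    have h1 := (isOpenQuotientMap_ofPt (b ≫ pullback.snd p g)
      (RepWith.comp hbe (RepWith.baseChange sqZ hp))
      (RepWith.comp hbs (RepWith.baseChange sqZ hps))).isQuotientMap
    have e : Points.ofPt (b ≫ pullback.snd p g) = Points.map (pullback.snd p g) ∘ Points.ofPt b :=
      funext fun t => (Points.map_ofPt b _ t).symm
    rw [e] at h1
    exact IsQuotientMap.of_comp (Points.continuous_ofPt b) (Points.continuous_map _) h1
  refine hq.isClosed_preimage.1 ?_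
  have sq1 := IsPullback.of_hasPullback snd' (pullback.snd p g)
  rw [preimage_map_image sq1]
  have big : IsPullback (pullback.fst snd' (pullback.snd p g) ≫ fst') (pullback.snd snd' _) f
      (pullback.fst p g ≫ p) := by
    rw [sqZ.w]; exact sq1.paste_horiz sq'
  exact h hK _ _ _ (IsPullback.of_right' big sq) _ (hW.preimage (Points.continuous_map _))

theorem isUnivInjectiveMor_of_surjective {f : F ⟶ G} {Z : Sp S} (g : Z ⟶ G)
    (hg : IsSurjectiveMor g) (hGd : Representable (Limits.diag G)) (hZ : IsAlgSpace Z) {P : Sp S}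
    {fst : P ⟶ F} {snd : P ⟶ Z} (sq : IsPullback fst snd f g) (h : IsUnivInjectiveMor snd) :
    IsUnivInjectiveMor f := by
  intro W W' hW w fst' snd' sq' x y e
  have sqW := IsPullback.of_hasPullback g w
  have hK : IsAlgSpace (pullback g w) := isAlgSpace_of_isPullback hGd hZ hW sqW
  obtain ⟨k, hk⟩ := surjective_map_of_isPullback sqW hg (Points.map snd' x)
  have sq1 := IsPullback.of_hasPullback snd' (pullback.snd g w)
  obtain ⟨x', rfl, hx⟩ := exists_point_of_isPullback sq1 hk.symm
  obtain ⟨y', rfl, hy⟩ := exists_point_of_isPullback sq1 (e.symm.trans hk.symm)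
  have big : IsPullback (pullback.fst snd' (pullback.snd g w) ≫ fst') (pullback.snd snd' _) f
      (pullback.fst g w ≫ g) := by
    rw [sqW.w]; exact sq1.paste_horiz sq'
  rw [h hK _ _ _ (IsPullback.of_right' big sq) (hx.trans hy.symm)]

theorem isOpenMap_map_of_isEtaleMor (hF : IsAlgSpace F) {f : F ⟶ G} (hf : IsEtaleMor f) :
    IsOpenMap (Points.map f) := by
  obtain ⟨U, a, hae, has⟩ := hF.atlas
  intro W hW
  rw [← Set.image_preimage_eq W (surjective_ofPt a has), ← Set.image_comp,
    show Points.map f ∘ Points.ofPt a = Points.ofPt (a ≫ f) from funext (Points.map_ofPt a f)]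
  exact isOpenMap_ofPt _ (hf a hae) _ (hW.preimage (Points.continuous_ofPt a))

theorem isUnivOpenMor_of_isEtaleMor (hF : IsAlgSpace F) (hG : IsAlgSpace G) {f : F ⟶ G}
    (hf : IsEtaleMor f) : IsUnivOpenMor f := fun Z Z' hZ g fst snd sq =>
  have hZ' : IsAlgSpace Z' := isAlgSpace_of_isPullback hG.diag hF hZ sq
  isOpenMap_map_of_isEtaleMor hZ' ((isEtaleMor_iff_locP etLocal_etale hZ' hZ snd).2
    (locP_of_isPullback etLocal_etale hF hG hZ' sq ((isEtaleMor_iff_locP etLocal_etale hF hG f).1 hf)))

theorem isUnivOpenMor_of_flat_lfp (hF : IsAlgSpace F) (hG : IsAlgSpace G) {f : F ⟶ G}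
    (hfl : LocP @Flat f) (hfp : LocP @LocallyOfFinitePresentation f) : IsUnivOpenMor f := by
  intro Z Z' hZ g fst snd sq W hW
  have hZ' : IsAlgSpace Z' := isAlgSpace_of_isPullback hG.diag hF hZ sq
  obtain ⟨V, b, hbe, hbs⟩ := hZ.atlas
  obtain ⟨U, a, l, hae, has, w⟩ := exists_chart_over hZ' hZ snd b hbe hbs
  have : Flat l.left := locP_of_isPullback etLocal_flat hF hG hZ' sq hfl a b l hae hbe w
  have : LocallyOfFinitePresentation l.left :=
    locP_of_isPullback etLocal_lfp hF hG hZ' sq hfp a b l hae hbe w
  rw [← Set.image_preimage_eq W (surjective_ofPt a has), ← Set.image_comp,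
    show Points.map snd ∘ Points.ofPt a = Points.ofPt b ∘ l.left from funext fun t => by
      rw [Function.comp_apply, Points.map_ofPt, w, ofPt_map, Function.comp_apply]]
  exact ((isOpenMap_ofPt b hbe).comp l.left.isOpenMap) _ (hW.preimage (Points.continuous_ofPt a))

theorem mono_of_cover {f : F ⟶ G} {V : Over S} (p : (yon S).obj V ⟶ G) (hp : RepWith @Etale p)
    (hps : RepWith @Surjective p) {P : Sp S} {fst : P ⟶ F} {snd : P ⟶ (yon S).obj V}
    (sq : IsPullback fst snd f p) [Mono snd] : Mono f := by
  refine ⟨fun {W} a b e => hom_ext_of_yon fun T x => ?_⟩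
  have sqT := hp.1.isPullback' ((x ≫ a) ≫ f)
  let q := (yon S).map (hp.1.snd ((x ≫ a) ≫ f))
  have := isLocallySurjective_of_etale (RepWith.baseChange sqT hp) (RepWith.baseChange sqT hps)
  have : Epi q := (inferInstance : Epi q)
  obtain ⟨la, hla, hla'⟩ := sq.exists_lift (q ≫ x ≫ a) ((yon S).map (hp.1.fst' ((x ≫ a) ≫ f)))
    ((Category.assoc q (x ≫ a) f).trans sqT.w.symm)
  obtain ⟨lb, hlb, hlb'⟩ := sq.exists_lift (q ≫ x ≫ b) ((yon S).map (hp.1.fst' ((x ≫ a) ≫ f)))
    (((Category.assoc q (x ≫ b) f).trans (congrArg (q ≫ ·)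
      ((Category.assoc x b f).trans ((congrArg (x ≫ ·) e.symm).trans (Category.assoc x a f).symm)))).trans
      sqT.w.symm)
  have : la = lb := (cancel_mono snd).1 (hla'.trans hlb'.symm)
  exact (cancel_epi q).1 (by rw [← hla, ← hlb, this])

theorem repWith_universallyInjective_iff {f : F ⟶ G} (hf : Representable f) :
    RepWith @UniversallyInjective f ↔
      ∀ (K : Type u) [Field K] (str : Spec (CommRingCat.of K) ⟶ S),
        Function.Injective (fun a : (yon S).obj (Over.mk str) ⟶ F => a ≫ f) := by
  constructor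
  · intro h K _ str a b e
    change a ≫ f = b ≫ f at e
    have sq := hf.isPullback (a ≫ f)
    let la := hf.lift (g := a ≫ f) a (𝟙 _) (by simp)
    let lb := hf.lift (g := a ≫ f) b (𝟙 _) (by simp [e])
    have hu : UniversallyInjective (hf.snd (a ≫ f)).left := h.property_snd (a ≫ f)
    have e1 : la ≫ hf.snd (a ≫ f) = lb ≫ hf.snd (a ≫ f) := by simp [la, lb]
    have ti : UniversallyInjective (hf.snd (a ≫ f)).left ↔ ∀ (K : Type u) [Field K],
        Function.Injective (fun g : Spec (CommRingCat.of K) ⟶ _ => g ≫ (hf.snd (a ≫ f)).left) :=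
      (tfae_universallyInjective _).out 0 1
    have e2 : la = lb := Over.OverMorphism.ext (ti.1 hu K (congrArg (fun k => k.left) e1))
    have := congrArg (fun l => (yon S).map l ≫ hf.fst (a ≫ f)) e2
    simpa [la, lb] using this
  · intro h
    refine ⟨hf, fun U V g fst snd sq => ?_⟩
    have ti : UniversallyInjective snd.left ↔ ∀ (K : Type u) [Field K],
        Function.Injective (fun g : Spec (CommRingCat.of K) ⟶ _ => g ≫ snd.left) :=
      (tfae_universallyInjective _).out 0 1
    refine ti.2 fun K _ a b e => ?_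
    change a ≫ snd.left = b ≫ snd.left at e
    let A : Over.mk (a ≫ V.hom) ⟶ V := Over.homMk a
    let B : Over.mk (a ≫ V.hom) ⟶ V := Over.homMk b (by
      show b ≫ V.hom = a ≫ V.hom
      rw [← Over.w snd, reassoc_of% e])
    have hsnd : A ≫ snd = B ≫ snd := Over.OverMorphism.ext e
    have hfst : (yon S).map A ≫ fst = (yon S).map B ≫ fst :=
      h K (a ≫ V.hom) (show ((yon S).map A ≫ fst) ≫ f = ((yon S).map B ≫ fst) ≫ f by
        rw [Category.assoc, Category.assoc, sq.w, ← Functor.map_comp_assoc, hsnd,
          Functor.map_comp_assoc])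
    have : A = B := (yon S).map_injective (sq.hom_ext hfst
      (by rw [← Functor.map_comp, ← Functor.map_comp, hsnd]))
    exact congrArg (fun k => k.left) this

theorem isUnivOpenMor_to_field (hF : IsAlgSpace F) {k : Type u} [Field k]
    {str : Spec (CommRingCat.of k) ⟶ S} (p : F ⟶ (yon S).obj (Over.mk str)) : IsUnivOpenMor p := by
  obtain ⟨U, a, hae, has⟩ := hF.atlas
  obtain ⟨l, hl⟩ := (yon S).map_surjective (a ≫ p)
  have : UniversallyOpen l.left := by
    have : IsIntegral (Over.mk str).left := (inferInstance : IsIntegral (Spec (CommRingCat.of k)))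
    have : Subsingleton ↥(Over.mk str).left :=
      (inferInstance : Subsingleton ↥(Spec (CommRingCat.of k)))
    infer_instance
  have ho : IsUnivOpenMor ((yon S).map l) :=
    (repWith_universallyOpen_iff (representable_yon_map l)).1 ((repWith_yon_map_iff _ l).2 this)
  intro Z Z' hZ g fst snd sq W hW
  have sqA := IsPullback.of_hasPullback a fst
  have big : IsPullback (pullback.fst a fst) (pullback.snd a fst ≫ snd) ((yon S).map l) g := by
    rw [hl]; exact sqA.paste_vert sq
  have hsur : Function.Surjective (Points.map (pullback.snd a fst)) :=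
    surjective_map_of_isPullback sqA (surjective_map_of_repWith has)
  rw [← Set.image_preimage_eq W hsur, ← Set.image_comp,
    show Points.map snd ∘ Points.map (pullback.snd a fst) = Points.map (pullback.snd a fst ≫ snd)
      from funext fun x => (Points.map_comp _ _ x).symm]
  exact ho hZ g _ _ big _ (hW.preimage (Points.continuous_map _))

end Groth.Agent.AlgSpLib
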