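import Groth.Agent.AlgSpLib.SheafCoprod

/-!
Binary coproducts, representable coproducts and the largest open subspace which is a scheme.
-/

universe u

open CategoryTheory CategoryTheory.Limits AlgebraicGeometry Opposite Topology
open AlgSp

noncomputable section

namespace Groth.Agent.AlgSpLib

set_option backward.isDefEq.respectTransparency.types false

variable {S : Scheme.{u}} {F G : Sp S}

theorem repWith_inl (c : BinaryCofan F G) (hc : IsColimit c) :
    RepWith (@IsOpenImmersion ⊓ @IsClosedImmersion) c.inl := by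
  let Fi : ULift.{u} WalkingPair → Sp S := fun b => (pair F G).obj ⟨b.down⟩
  let c' : Cofan Fi := Cofan.mk c.pt fun b => c.ι.app ⟨b.down⟩
  have hc' : IsColimit c' := Cofan.IsColimit.mk _
    (fun s => hc.desc (BinaryCofan.mk (s.inj ⟨WalkingPair.left⟩) (s.inj ⟨WalkingPair.right⟩)))
    (fun s j => by
      obtain ⟨_ | _⟩ := j <;> exact hc.fac _ _)
    (fun s m hm => hc.hom_ext fun j => by
      obtain ⟨_ | _⟩ := j
      · exact (hm ⟨WalkingPair.left⟩).trans
          (hc.fac (BinaryCofan.mk (s.inj ⟨WalkingPair.left⟩) (s.inj ⟨WalkingPair.right⟩)) ⟨WalkingPair.left⟩).symm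
      · exact (hm ⟨WalkingPair.right⟩).trans
          (hc.fac (BinaryCofan.mk (s.inj ⟨WalkingPair.left⟩) (s.inj ⟨WalkingPair.right⟩)) ⟨WalkingPair.right⟩).symm)
  exact repWith_inj hc' ⟨WalkingPair.left⟩

theorem range_isOpen (hG : IsAlgSpace G) {j : F ⟶ G} (hj : RepWith @IsOpenImmersion j) :
    IsOpen (Set.range (Points.map j)) := by
  obtain ⟨U, a, hae, has⟩ := hG.atlas
  rw [← (isOpenQuotientMap_ofPt a hae has).isQuotientMap.isOpen_preimage]
  have sq := hj.1.isPullback a
  have : IsOpenImmersion (hj.1.snd a).left := hj.property_snd a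
  have e : Points.ofPt a ⁻¹' Set.range (Points.map j) = Set.range (hj.1.snd a).left := by
    ext t
    constructor
    · rintro ⟨y, hy⟩
      rw [Points.ofPt_eq_map_ofScheme] at hy
      obtain ⟨z, -, hz⟩ := exists_point_of_isPullback sq hy
      obtain ⟨p, rfl⟩ := (Points.schemeHomeo _).surjective z
      refine ⟨p, (Points.schemeHomeo U).injective ?_⟩
      show Points.ofScheme U _ = Points.ofScheme U t
      rw [← map_yon_map_ofScheme]
      exact hz
    · rintro ⟨p, rfl⟩
      refine ⟨Points.ofPt (hj.1.fst a) p, ?_⟩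
      rw [Points.map_ofPt, hj.1.w a, ofPt_map]
  rw [e]
  exact (hj.1.snd a).left.isOpenEmbedding.isOpen_range

theorem isRepresentable_of_iso_yon {Y : Over S} (e : (yon S).obj Y ≅ F) : F.obj.IsRepresentable := by
  let R : (((yon S).obj Y).obj).RepresentableBy Y :=
    { homEquiv := Equiv.ulift.symm
      homEquiv_comp := fun f g => rfl }
  exact (R.ofIso ((sheafToPresheaf (J S) (Type (u + 1))).mapIso e)).isRepresentable

theorem exists_iso_yon_of_isRepresentable (h : F.obj.IsRepresentable) :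
    ∃ Y : Over S, Nonempty ((yon S).obj Y ≅ F) := by
  obtain ⟨Y, ⟨r⟩⟩ := h.has_representation
  exact ⟨Y, ⟨(fullyFaithfulSheafToPresheaf (J S) _).preimageIso
    (X := (yon S).obj Y) (Y := F)
    (NatIso.ofComponents (fun T => (Equiv.ulift.trans r.homEquiv).toIso) fun {T T'} f => by
      ext x
      exact r.homEquiv_comp f.unop x.down)⟩⟩

theorem exists_largest_scheme_open (hF : IsAlgSpace F) :
    ∃ (W : Set (Points F)), IsOpen W ∧ (openSubspace F W).obj.IsRepresentable ∧
      ∀ (G : Sp S) (j : G ⟶ F), RepWith @IsOpenImmersion j → G.obj.IsRepresentable →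
        Set.range (Points.map j) ⊆ W := by
  let W : Set (Points F) :=
    {x | ∃ (V : Over S) (j : (yon S).obj V ⟶ F), RepWith @IsOpenImmersion j ∧ x ∈ Set.range (Points.map j)}
  have hW : IsOpen W := isOpen_iff_forall_mem_open.2 fun x ⟨V, j, hj, hx⟩ =>
    ⟨_, fun y hy => ⟨V, j, hj, hy⟩, range_isOpen hF hj, hx⟩
  obtain ⟨U, a, hae, has⟩ := hF.atlas
  let ι := {u : ↥U.left // Points.ofPt a u ∈ W}
  choose V j hj hxj using fun i : ι => i.2
  have hl : ∀ i, ∃ l, l ≫ openSubspaceι F W = j i := fun i =>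
    (exists_lift_openSubspace_iff W (j i)).2 fun t => ⟨V i, j i, hj i, Points.ofScheme (V i) t,
      (Points.ofPt_eq_map_ofScheme _ _).symm⟩
  choose l hl using hl
  have hlo : ∀ i, RepWith @IsOpenImmersion (l i) := fun i =>
    repWith_of_comp_mono _ (openSubspaceι F W) (by rw [hl]; exact hj i)
  obtain ⟨Y, ⟨e⟩⟩ := exists_iso_yon_of_openCover l hlo fun y => by
    have hy : Points.map (openSubspaceι F W) y ∈ W := (range_openSubspaceι F W).subset ⟨y, rfl⟩
    obtain ⟨u, hu⟩ := surjective_ofPt a has (Points.map (openSubspaceι F W) y)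
    obtain ⟨p, hp⟩ := hxj ⟨u, hu ▸ hy⟩
    refine ⟨⟨u, hu ▸ hy⟩, p, injective_map_of_mono (openSubspaceι F W) ?_⟩
    rw [← Points.map_comp, hl, hp, hu]
  refine ⟨W, hW, isRepresentable_of_iso_yon e, fun G j hj hG x hx => ?_⟩
  obtain ⟨Y, ⟨e⟩⟩ := exists_iso_yon_of_isRepresentable hG
  refine ⟨Y, e.hom ≫ j, RepWith.comp (repWith_of_isIso _ e.hom) hj, ?_⟩
  obtain ⟨y, rfl⟩ := hx
  exact ⟨Points.map e.inv y, by rw [← Points.map_comp, e.inv_hom_id_assoc]⟩

theorem exists_decomposition_of_iso_yon {U : Over S} {ι : Type u} {Fi : ι → Sp S} {c : Cofan Fi}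
    (hc : IsColimit c) (e : c.pt ≅ (yon S).obj U) :
    ∃ (V : ι → Over S) (g : ∀ i, V i ⟶ U) (ei : ∀ i, (yon S).obj (V i) ≅ Fi i),
      (∀ i, IsOpenImmersion (g i).left ∧ IsClosedImmersion (g i).left) ∧
      (∀ i, (ei i).hom ≫ c.inj i ≫ e.hom = (yon S).map (g i)) ∧
      Nonempty (IsColimit (Cofan.mk U.left (fun i => (g i).left))) := by
  have hr := repWith_inj hc
  have sq := fun i => (hr i).1.isPullback e.inv
  have hfst : ∀ i, IsIso ((hr i).1.fst e.inv) := fun i => (sq i).isIso_fst_of_isIso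
  have hg : ∀ i, IsOpenImmersion ((hr i).1.snd e.inv).left ∧ IsClosedImmersion ((hr i).1.snd e.inv).left :=
    fun i => (hr i).property_snd e.inv
  have hw : ∀ i, (hr i).1.fst e.inv ≫ c.inj i ≫ e.hom = (yon S).map ((hr i).1.snd e.inv) := fun i => by
    rw [reassoc_of% (sq i).w, e.inv_hom_id, Category.comp_id]
  refine ⟨_, fun i => (hr i).1.snd e.inv, fun i => asIso ((hr i).1.fst e.inv), hg, hw, ?_⟩
  have := fun i => (hg i).1
  have key : ∀ i (p : ↥((hr i).1.pullback e.inv).left),
      Points.map e.inv (Points.ofScheme U (((hr i).1.snd e.inv).left p)) ∈ Set.range (Points.map (c.inj i)) :=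
    fun i p => ⟨Points.map ((hr i).1.fst e.inv) (Points.ofScheme _ p), by
      rw [← Points.map_comp, (sq i).w, Points.map_comp, map_yon_map_ofScheme]⟩
  refine nonempty_isColimit_cofanMk_of _ (eq_top_iff.2 fun t _ => ?_) fun i j hij => ?_
  · obtain ⟨i, y, hy⟩ := exists_point_inj hc (Points.map e.inv (Points.ofScheme U t))
    obtain ⟨z, -, hz⟩ := exists_point_of_isPullback (sq i) hy
    obtain ⟨p, rfl⟩ := (Points.schemeHomeo _).surjective z
    refine TopologicalSpace.Opens.mem_iSup.2 ⟨i, p, (Points.schemeHomeo U).injective ?_⟩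
    show Points.ofScheme U _ = Points.ofScheme U t
    rw [← map_yon_map_ofScheme]
    exact hz
  · rw [Function.onFun, ← TopologicalSpace.Opens.coe_disjoint]
    refine Set.disjoint_left.2 ?_
    rintro _ ⟨p, rfl⟩ ⟨q, hq⟩
    refine Set.disjoint_left.1 (range_inj_disjoint hc hij) (key i p) ?_
    rw [← hq]
    exact key j q

theorem isFinite_sigmaDesc {T : Scheme.{u}} : ∀ {n : ℕ} {W : Fin n → Scheme.{u}} (k : ∀ i, W i ⟶ T),
    (∀ i, IsFinite (k i)) → IsFinite (Sigma.desc k) := by
  intro n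
  induction n with
  | zero =>
    intro W k _
    have : IsEmpty ↥(∐ W : Scheme.{u}) := ⟨fun x => by
      obtain ⟨i, -, -⟩ := (sigmaOpenCover W).exists_eq x
      exact i.elim0⟩
    infer_instance
  | succ n ih =>
    intro W k hk
    let W' : Fin n → Scheme.{u} := fun j => W j.succ
    have : IsFinite (k 0) := hk 0
    have : IsFinite (Sigma.desc fun j => k (Fin.succ j)) := ih (W := W') _ fun j => hk _
    let g : W 0 ⨿ (∐ W') ⟶ ∐ W := coprod.desc (Sigma.ι W 0) (Sigma.desc fun j => Sigma.ι W (Fin.succ j))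
    let h : (∐ W : Scheme.{u}) ⟶ W 0 ⨿ (∐ W') :=
      Sigma.desc (Fin.cases (motive := fun i => W i ⟶ W 0 ⨿ (∐ W')) coprod.inl
        fun j => Sigma.ι W' j ≫ coprod.inr)
    have hhg : h ≫ g = 𝟙 _ := by
      refine Sigma.hom_ext _ _ fun i => ?_
      rw [← Category.assoc, Sigma.ι_desc, Category.comp_id]
      refine Fin.cases ?_ (fun j => ?_) i
      · exact coprod.inl_desc _ _
      · show (Sigma.ι W' j ≫ coprod.inr) ≫ g = _
        rw [Category.assoc, coprod.inr_desc, Sigma.ι_desc]
    have hgh : g ≫ h = 𝟙 _ := by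
      apply coprod.hom_ext
      · rw [coprod.inl_desc_assoc, Sigma.ι_desc, Category.comp_id]
        rfl
      · rw [coprod.inr_desc_assoc, Category.comp_id]
        refine Sigma.hom_ext _ _ fun j => ?_
        rw [← Category.assoc, Sigma.ι_desc, Sigma.ι_desc]
        rfl
    have : IsIso h := ⟨g, hhg, hgh⟩
    have e : Sigma.desc k = h ≫ coprod.desc (k 0) (Sigma.desc fun j => k (Fin.succ j)) := by
      refine Sigma.hom_ext _ _ fun i => ?_
      rw [Sigma.ι_desc, ← Category.assoc, Sigma.ι_desc]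
      refine Fin.cases ?_ (fun j => ?_) i
      · exact (coprod.inl_desc _ _).symm
      · show _ = (Sigma.ι W' j ≫ coprod.inr) ≫ _
        rw [Category.assoc, coprod.inr_desc, Sigma.ι_desc]
    rw [e]
    infer_instance

theorem repWith_isFinite_of_cofan {n : ℕ} {Fi : ULift.{u} (Fin n) → Sp S} {c : Cofan Fi}
    (hc : IsColimit c) (d : c.pt ⟶ F) (h : ∀ i, RepWith @IsFinite (c.inj i ≫ d)) : RepWith @IsFinite d := by
  have hd := repWith_of_open_cover @LocallyOfFiniteType _ (repWith_open_inj hc) (exists_point_inj hc) d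
    fun i => RepWith.mono (fun _ _ g (_ : IsFinite g) => (inferInstance : LocallyOfFiniteType g)) (h i)
  refine ⟨hd.1, fun U V g fst snd sq => ?_⟩
  have hpi := fun i => (repWith_inj hc i).1.isPullback fst
  let W : ULift.{u} (Fin n) → Over S := fun i => (repWith_inj hc i).1.pullback fst
  let k : ∀ i, W i ⟶ V := fun i => (repWith_inj hc i).1.snd fst
  have hk : ∀ i, IsOpenImmersion (k i).left := fun i => ((repWith_inj hc i).property_snd fst).1
  have hfin : ∀ i, IsFinite (k i ≫ snd).left := fun i =>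
    (h i).2 g ((repWith_inj hc i).1.fst fst) (k i ≫ snd)
      (by rw [Functor.map_comp]; exact (hpi i).paste_vert sq)
  obtain ⟨hcol⟩ : Nonempty (IsColimit (Cofan.mk V.left fun i : Fin n => (k ⟨i⟩).left)) := by
    have := fun i : Fin n => hk ⟨i⟩
    refine nonempty_isColimit_cofanMk_of _ (eq_top_iff.2 fun t _ => ?_) fun i j hij => ?_
    · obtain ⟨i, y, hy⟩ := exists_point_inj hc (Points.map fst (Points.ofScheme V t))
      obtain ⟨z, -, hz⟩ := exists_point_of_isPullback (hpi i) hy
      obtain ⟨p, rfl⟩ := (Points.schemeHomeo _).surjective z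
      refine TopologicalSpace.Opens.mem_iSup.2 ⟨i.down, p, (Points.schemeHomeo V).injective ?_⟩
      show Points.ofScheme V _ = Points.ofScheme V t
      rw [← map_yon_map_ofScheme]
      exact hz
    · rw [Function.onFun, ← TopologicalSpace.Opens.coe_disjoint]
      refine Set.disjoint_left.2 ?_
      rintro _ ⟨p, rfl⟩ ⟨q, hq⟩
      have key : ∀ i (p : ↥(W i).left), Points.map fst (Points.ofScheme V ((k i).left p)) ∈
          Set.range (Points.map (c.inj i)) := fun i p =>
        ⟨Points.map ((repWith_inj hc i).1.fst fst) (Points.ofScheme _ p), by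
          rw [← Points.map_comp, (hpi i).w, Points.map_comp, map_yon_map_ofScheme]⟩
      refine Set.disjoint_left.1 (range_inj_disjoint hc (i := ⟨i⟩) (j := ⟨j⟩)
        fun e => hij (congrArg ULift.down e)) (key ⟨i⟩ p) ?_
      rw [← hq]
      exact key ⟨j⟩ q
  have : IsFinite (Sigma.desc fun i : Fin n => (k ⟨i⟩ ≫ snd).left) := isFinite_sigmaDesc _ fun i => hfin ⟨i⟩
  let e := (coproductIsCoproduct fun i : Fin n => (W ⟨i⟩).left).coconePointUniqueUpToIso hcol
  have he : e.hom ≫ snd.left = Sigma.desc fun i : Fin n => (k ⟨i⟩ ≫ snd).left := by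
    refine Sigma.hom_ext _ _ fun i => ?_
    rw [Sigma.ι_desc, ← Category.assoc]
    have := (coproductIsCoproduct fun i : Fin n => (W ⟨i⟩).left).comp_coconePointUniqueUpToIso_hom hcol ⟨i⟩
    exact congrArg (· ≫ snd.left) this
  have : IsFinite (e.hom ≫ snd.left) := by rw [he]; infer_instance
  exact (MorphismProperty.cancel_left_of_respectsIso @IsFinite e.hom snd.left).1 this

end Groth.Agent.AlgSpLib
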