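import Groth.Agent.Stk19.AlgSt.UnramDiag
import Groth.Agent.AlgSpLib.LqfScheme
import Groth.Agent.AlgSpLib.MorTop
import Groth.Agent.AlgSpLib.MorMore2
import Groth.Agent.AlgSpLib.SheafCoprod2

/-!
An algebraic space etale over a field is a scheme.
-/

universe u

open CategoryTheory CategoryTheory.Limits AlgebraicGeometry Opposite
open AlgSp

noncomputable section

namespace Groth.Agent.AlgSpLib

set_option backward.isDefEq.respectTransparency.types false

variable {S : Scheme.{u}}

theorem discreteTopology_points_of_etale_field {k : Type u} [Field k]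
    {str : Spec (CommRingCat.of k) ⟶ S} {P : Sp S} (hP : IsAlgSpace P)
    (g : P ⟶ (yon S).obj (Over.mk str)) (hg : IsEtaleMor g) : DiscreteTopology (Points P) := by
  obtain ⟨U, a, hae, has⟩ := hP.atlas
  obtain ⟨c, hc⟩ := (yon S).map_surjective (a ≫ g)
  have : Etale c.left := (repWith_yon_map_iff (P := @Etale) c).1 (hc ▸ hg a hae)
  have := locallyQuasiFinite_of_etale c.left
  have hd : DiscreteTopology ↥U.left := by
    have hsub : Subsingleton ↥(Over.mk str).left :=
      inferInstanceAs (Subsingleton ↥(Spec (CommRingCat.of k)))
    refine discreteTopology_iff_isOpen_singleton.2 fun w => ?_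
    have h := c.left.isDiscrete_preimage_singleton (c.left w)
    have e : c.left ⁻¹' {c.left w} = Set.univ := Set.eq_univ_of_forall fun v => Subsingleton.elim _ _
    rw [e] at h
    have := isDiscrete_univ_iff.1 h
    exact isOpen_discrete _
  refine discreteTopology_iff_isOpen_singleton.2 fun x => ?_
  rw [← Set.image_preimage_eq {x} (surjective_ofPt a has)]
  exact isOpenMap_ofPt a hae _ (isOpen_discrete _)

theorem repWith_closedImmersion_of_openImmersion {A B : Sp S} {d : A ⟶ B}
    (hd : RepWith @IsOpenImmersion d) (hcl : IsClosed (Set.range (Points.map d))) :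
    RepWith @IsClosedImmersion d := by
  refine ⟨hd.1, fun T W g fst snd sq => ?_⟩
  have h1 : IsOpenImmersion snd.left := hd.2 g fst snd sq
  have h2 : IsPreimmersion snd.left := inferInstance
  refine @IsClosedImmersion.of_isPreimmersion _ _ _ h2 ?_
  have e : Set.range snd.left = Points.ofPt g ⁻¹' Set.range (Points.map d) := by
    ext t
    constructor
    · rintro ⟨w, rfl⟩
      refine ⟨Points.ofPt fst w, ?_⟩
      rw [Points.map_ofPt, sq.w, ofPt_map]
    · rintro ⟨a, ha⟩
      rw [Points.ofPt_eq_map_ofScheme] at ha
      obtain ⟨w, -, hw⟩ := exists_point_of_isPullback sq ha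
      rw [← Points.ofScheme_toScheme W w, ← Points.ofPt_eq_map_ofScheme,
        ← Category.comp_id ((yon S).map snd)] at hw
      erw [ofPt_map] at hw
      exact ⟨Points.toScheme W w, (Points.toScheme_ofScheme T _).symm.trans
        ((congrArg (Points.toScheme T) hw).trans (Points.toScheme_ofScheme T t))⟩
  exact e ▸ hcl.preimage (Points.continuous_ofPt g)

theorem exists_iso_yon_of_etale_field {X : AlgSp.Space S} {k : Type u} [Field k]
    {str : Spec (CommRingCat.of k) ⟶ S} (f : X.obj ⟶ (yon S).obj (Over.mk str)) (hf : IsEtaleMor f) :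
    ∃ G : Over S, Nonempty ((yon S).obj G ≅ X.obj) := by
  have hT := IsAlgSpace.yon_obj (S := S) (Over.mk str)
  have hl := (isEtaleMor_iff_locP etLocal_etale X.property hT f).1 hf
  have hd : RepWith @IsOpenImmersion (pullback.diagonal f) :=
    Stk19.diag_of_locP_unram_aux X.property f (locP_mono (fun _ _ g (_ : Etale g) =>
      ⟨(inferInstance : LocallyOfFiniteType g), (inferInstance : FormallyUnramified g)⟩) hl)
  have sq := IsPullback.of_hasPullback f f
  have hP := isAlgSpace_of_isPullback hT.diag X.property X.property sq
  have : DiscreteTopology (Points (pullback f f)) := by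
    refine discreteTopology_points_of_etale_field hP (pullback.fst f f ≫ f) ?_
    exact (isEtaleMor_iff_locP etLocal_etale hP hT _).2 (locP_comp etLocal_etale hP X.property hT
      (locP_of_isPullback etLocal_etale X.property hT hP sq.flip hl) hl)
  exact exists_iso_yon_of_lqf_separated X.property f
    (repWith_closedImmersion_of_openImmersion hd (isClosed_discrete _))
    (locP_mono (fun _ _ g (hg : Etale g) =>
      ⟨locallyQuasiFinite_of_etale g, (inferInstance : LocallyOfFiniteType g)⟩) hl)

end Groth.Agent.AlgSpLib
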