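import Groth.Agent.AlgSpLib.Points

/-!
Properties of morphisms of algebraic spaces checked on etale charts.
-/

universe u

open CategoryTheory CategoryTheory.Limits AlgebraicGeometry Opposite
open AlgSp

namespace Groth.Agent.AlgSpLib

set_option backward.isDefEq.respectTransparency.types false

/-- a property of morphisms of schemes which is etale local on the source-and-target -/
structure EtLocal (P : MorphismProperty Scheme.{u}) : Prop where
  bc : P.IsStableUnderBaseChange
  comp : P.IsStableUnderComposition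
  of_etale : @Etale ≤ P
  localTarget : P.IsLocalAtTarget Scheme.fppfPrecoverage
  descend : ∀ ⦃X' X Y : Scheme.{u}⦄ (g : X' ⟶ X) (f : X ⟶ Y), Etale g → Surjective g → P (g ≫ f) → P f

variable {S : Scheme.{u}} {X Y Z : Sp S} {P : MorphismProperty Scheme.{u}}

/-- a chart of the source above a given chart of the target -/
theorem exists_chart_over (hX : IsAlgSpace X) (hY : IsAlgSpace Y) (f : X ⟶ Y) {V : Over S}
    (b : (yon S).obj V ⟶ Y) (hbe : RepWith @Etale b) (hbs : RepWith @Surjective b) :
    ∃ (U : Over S) (a : (yon S).obj U ⟶ X) (h : U ⟶ V),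
      RepWith @Etale a ∧ RepWith @Surjective a ∧ a ≫ f = (yon S).map h ≫ b := by
  obtain ⟨U₀, p₀, he, hs⟩ := hX.atlas
  have hb := hY.representable_from_yon b
  have sq := hb.isPullback (p₀ ≫ f)
  refine ⟨hb.pullback (p₀ ≫ f), (yon S).map (hb.snd (p₀ ≫ f)) ≫ p₀, hb.fst' (p₀ ≫ f),
    RepWith.comp (RepWith.baseChange sq hbe) he, RepWith.comp (RepWith.baseChange sq hbs) hs, ?_⟩
  rw [Category.assoc, Functor.relativelyRepresentable.map_fst']
  exact sq.w.symm

/-- cancelling an etale chart of the target -/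
theorem property_of_repWith_comp (hP : EtLocal P) {W V : Over S} (l : W ⟶ V)
    (b : (yon S).obj V ⟶ Y) (hb : RepWith @Etale b) (h : RepWith P ((yon S).map l ≫ b)) :
    P l.left := by
  have := hP.comp
  have sq := h.1.isPullback' b
  have hp1 : Etale (h.1.fst' b).left := hb.property _ _ _ sq.flip
  let σ : W ⟶ h.1.pullback b := h.1.lift' (𝟙 W) l (by erw [(yon S).map_id, Category.id_comp])
  have e1 : σ.left ≫ (h.1.fst' b).left = 𝟙 W.left := by
    rw [← Over.comp_left, Functor.relativelyRepresentable.lift'_fst, Over.id_left]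
  have hσ : Etale σ.left := by
    have : Etale (σ.left ≫ (h.1.fst' b).left) := by rw [e1]; infer_instance
    exact Etale.of_comp σ.left (h.1.fst' b).left
  have e2 : l.left = σ.left ≫ (h.1.snd b).left := by
    rw [← Over.comp_left, Functor.relativelyRepresentable.lift'_snd]
  rw [e2]
  exact P.comp_mem _ _ (hP.of_etale _ _ _ hσ) (h.property_snd b)

theorem repWith_comp_of_locP (hP : EtLocal P) (hY : IsAlgSpace Y) {f : X ⟶ Y} (hf : LocP P f)
    {U : Over S} (a : (yon S).obj U ⟶ X) (ha : RepWith @Etale a) : RepWith P (a ≫ f) := by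
  have := hP.bc
  have := hP.localTarget
  obtain ⟨V, b, hbe, hbs⟩ := hY.atlas
  have hr := hY.representable_from_yon (a ≫ f)
  have := isLocallySurjective_of_etale hbe hbs
  have sq := hr.isPullback' b
  refine repWith_of_isLocallySurjective hr b sq P ((repWith_yon_map_iff P _).2 ?_)
  refine hf ((yon S).map (hr.fst' b) ≫ a) b (hr.snd b) ?_ hbe (by rw [Category.assoc, sq.w])
  exact RepWith.comp ((repWith_yon_map_iff _ _).2 (hbe.property _ _ _ sq.flip)) ha

theorem locP_of_atlas (hP : EtLocal P) (hX : IsAlgSpace X) {f : X ⟶ Y} {U₀ : Over S}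
    (a₀ : (yon S).obj U₀ ⟶ X) (he : RepWith @Etale a₀) (hs : RepWith @Surjective a₀)
    (h₀ : RepWith P (a₀ ≫ f)) : LocP P f := by
  have := hP.bc
  have := hP.comp
  intro U V a b h ha hb w
  have hr := hX.representable_from_yon a₀
  have sq := hr.isPullback' a
  have hπ : Etale (hr.snd a).left := he.property_snd a
  have hπs : Surjective (hr.snd a).left := hs.property _ _ _ (hr.isPullback a)
  have hπ₀ : Etale (hr.fst' a).left := ha.property _ _ _ sq.flip
  have h1 : RepWith P ((yon S).map (hr.snd a ≫ h) ≫ b) := by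
    have e : (yon S).map (hr.snd a ≫ h) ≫ b = (yon S).map (hr.fst' a) ≫ a₀ ≫ f := by
      rw [Functor.map_comp, Category.assoc, ← w, ← Category.assoc, ← sq.w, Category.assoc]
    rw [e]
    exact RepWith.comp ((repWith_yon_map_iff P _).2 (hP.of_etale _ _ _ hπ₀)) h₀
  have h2 := property_of_repWith_comp hP _ b hb h1
  rw [Over.comp_left] at h2
  exact hP.descend _ _ hπ hπs h2

theorem locP_of_chart_square (hP : EtLocal P) (hX : IsAlgSpace X) {f : X ⟶ Y} {U V : Over S}
    (a : (yon S).obj U ⟶ X) (ha : RepWith @Etale a) (has : RepWith @Surjective a)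
    (b : (yon S).obj V ⟶ Y) (hb : RepWith @Etale b) (h : U ⟶ V) (hh : P h.left)
    (w : a ≫ f = (yon S).map h ≫ b) : LocP P f := by
  have := hP.bc
  have := hP.comp
  refine locP_of_atlas hP hX a ha has ?_
  rw [w]
  exact RepWith.comp ((repWith_yon_map_iff P _).2 hh) (RepWith.mono hP.of_etale hb)

theorem locP_comp (hP : EtLocal P) (hX : IsAlgSpace X) (hY : IsAlgSpace Y) (hZ : IsAlgSpace Z)
    {f : X ⟶ Y} {g : Y ⟶ Z} (hf : LocP P f) (hg : LocP P g) : LocP P (f ≫ g) := by
  have := hP.bc
  have := hP.comp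
  obtain ⟨V, b, hbe, hbs⟩ := hY.atlas
  obtain ⟨U, a, h, hae, has, w⟩ := exists_chart_over hX hY f b hbe hbs
  refine locP_of_atlas hP hX a hae has ?_
  rw [← Category.assoc, w, Category.assoc]
  exact RepWith.comp ((repWith_yon_map_iff P _).2 (hf a b h hae hbe w))
    (repWith_comp_of_locP hP hZ hg b hbe)

theorem locP_of_isPullback (hP : EtLocal P) (hX : IsAlgSpace X) (hY : IsAlgSpace Y)
    {X' Y' : Sp S} (hX' : IsAlgSpace X') {f : X ⟶ Y} {g : Y' ⟶ Y} {fst : X' ⟶ X} {f' : X' ⟶ Y'}
    (sq : IsPullback fst f' f g) (hf : LocP P f) : LocP P f' := by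
  have := hP.bc
  have := hP.comp
  obtain ⟨U, a, hae, has⟩ := hX.atlas
  have sq₁ := IsPullback.of_hasPullback a fst
  have hY' : IsAlgSpace (pullback a fst) :=
    isAlgSpace_of_isPullback hX.diag (IsAlgSpace.yon_obj U) hX' sq₁
  obtain ⟨W, w, hwe, hws⟩ := hY'.atlas
  refine locP_of_atlas hP hX' (w ≫ pullback.snd a fst)
    (RepWith.comp hwe (RepWith.baseChange sq₁ hae)) (RepWith.comp hws (RepWith.baseChange sq₁ has)) ?_
  rw [Category.assoc]
  exact RepWith.comp (RepWith.mono hP.of_etale hwe)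
    (RepWith.baseChange (sq₁.paste_vert sq) (repWith_comp_of_locP hP hY hf a hae))

theorem locP_of_repWith (hP : EtLocal P) (hX : IsAlgSpace X) {f : X ⟶ Y} (hf : RepWith P f) :
    LocP P f := by
  have := hP.comp
  obtain ⟨U, a, hae, has⟩ := hX.atlas
  exact locP_of_atlas hP hX a hae has (RepWith.comp (RepWith.mono hP.of_etale hae) hf)

theorem repWith_iff_locP (hP : EtLocal P) (hX : IsAlgSpace X) (hY : IsAlgSpace Y) {f : X ⟶ Y}
    (hf : Representable f) : RepWith P f ↔ LocP P f := by
  have := hP.bc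
  have := hP.comp
  have := hP.localTarget
  refine ⟨locP_of_repWith hP hX, fun h => ?_⟩
  obtain ⟨V, b, hbe, hbs⟩ := hY.atlas
  have := isLocallySurjective_of_etale hbe hbs
  have sq := hf.isPullback b
  refine repWith_of_isLocallySurjective hf b sq P ((repWith_yon_map_iff P _).2 ?_)
  exact h _ b _ (RepWith.baseChange sq.flip hbe) hbe sq.w

theorem locP_id (hP : EtLocal P) (hX : IsAlgSpace X) : LocP P (𝟙 X) := by
  have := hP.bc
  obtain ⟨U, a, hae, has⟩ := hX.atlas
  exact locP_of_atlas hP hX a hae has (by simpa using RepWith.mono hP.of_etale hae)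

/-- etale in the composite form and in the chart form agree -/
theorem isEtaleMor_iff_locP (hP : EtLocal @Etale.{u}) (hX : IsAlgSpace X) (hY : IsAlgSpace Y)
    (f : X ⟶ Y) : IsEtaleMor f ↔ LocP @Etale f := by
  refine ⟨fun h => ?_, fun h U φ hφ => repWith_comp_of_locP hP hY h φ hφ⟩
  obtain ⟨U, a, hae, has⟩ := hX.atlas
  exact locP_of_atlas hP hX a hae has (h a hae)

end Groth.Agent.AlgSpLib
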