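import Groth.Agent.AlgSpLib.FpqcBaseLocP

/-!
Open immersions and isomorphisms are fpqc local on the base.
-/

universe u

open CategoryTheory CategoryTheory.Limits AlgebraicGeometry
open AlgSp

noncomputable section

namespace Groth.Agent.AlgSpLib

set_option backward.isDefEq.respectTransparency.types false

variable {S : Scheme.{u}}

theorem isIso_of_mono_etale_surjective {X Y : Sp S} (hX : IsAlgSpace X) (hY : IsAlgSpace Y)
    (f : X ⟶ Y) [Mono f] (he : IsEtaleMor f) (hs : Function.Surjective (Points.map f)) : IsIso f := by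
  obtain ⟨U, a, hae, has⟩ := hX.atlas
  have h1 : RepWith @Etale (a ≫ f) := he a hae
  have h2 : RepWith @Surjective (a ≫ f) := repWith_surjective_of_surjective_map h1.1 fun y => by
    obtain ⟨x, rfl⟩ := hs y
    obtain ⟨z, rfl⟩ := surjective_map_of_repWith has x
    exact ⟨z, Points.map_comp _ _ _⟩
  have h3 : Sheaf.IsLocallySurjective (a ≫ f) := isLocallySurjective_of_etale h1 h2
  have h4 : Presheaf.IsLocallySurjective (J S) (a.hom ≫ f.hom) := h3
  have h5 : Sheaf.IsLocallySurjective f :=
    Presheaf.isLocallySurjective_of_isLocallySurjective (J S) a.hom f.hom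
  have : Epi f := Sheaf.epi_of_isLocallySurjective f
  exact isIso_of_mono_of_epi f

theorem isomorphisms_iff {X Y : Sp S} (hX : IsAlgSpace X) (hY : IsAlgSpace Y) (f : X ⟶ Y) :
    MorphismProperty.isomorphisms (Sp S) f ↔ Mono f ∧ IsEtaleMor f ∧ IsUnivSubmersiveMor f := by
  constructor
  · intro (h : IsIso f)
    refine ⟨inferInstance, fun U φ hφ => ?_, fun Z Z' hZ g fst snd sq => ?_⟩
    · exact RepWith.comp hφ (repWith_of_isIso _ f)
    · have : IsIso snd := MorphismProperty.of_isPullback
        (P := MorphismProperty.isomorphisms (Sp S)) sq h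
      exact (pointsHomeo (asIso snd)).isQuotientMap
  · rintro ⟨_, he, hs⟩
    exact isIso_of_mono_etale_surjective hX hY f he
      (hs hY (𝟙 Y) (𝟙 X) f (IsPullback.of_horiz_isIso ⟨by simp⟩)).surjective

theorem repWith_isOpenImmersion_iff_mono_etale {X Y : Sp S} (hX : IsAlgSpace X) (hY : IsAlgSpace Y)
    (f : X ⟶ Y) : RepWith @IsOpenImmersion f ↔ Mono f ∧ IsEtaleMor f := by
  constructor
  · intro h
    exact ⟨mono_of_repWith (fun _ _ g (_ : IsOpenImmersion g) => (inferInstance : Mono g)) h,
      fun U φ hφ => RepWith.comp hφ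
        (RepWith.mono (fun _ _ g (_ : IsOpenImmersion g) => (inferInstance : Etale g)) h)⟩
  rintro ⟨hm, he⟩
  let W := Set.range (Points.map f)
  have hW : IsOpen W := by
    show IsOpen (Set.range (Points.map f))
    rw [← Set.image_univ]
    exact isOpenMap_map_of_isEtaleMor hX he _ isOpen_univ
  let ι := openSubspaceι Y W
  have hι : RepWith @IsOpenImmersion ι := repWith_openSubspaceι Y hW
  obtain ⟨g, hg⟩ := (exists_lift_iff_range_subset hι f).2 (range_openSubspaceι Y W).ge
  have : Mono g := by
    have : Mono (g ≫ ι) := by rw [hg]; exact hm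
    exact mono_of_mono g ι
  have hge : IsEtaleMor g := fun U φ hφ => repWith_of_comp_mono (φ ≫ g) ι (by
    rw [Category.assoc, hg]; exact he φ hφ)
  have hgs : Function.Surjective (Points.map g) := fun y => by
    have hy : Points.map ι y ∈ W := (range_openSubspaceι Y W).le ⟨y, rfl⟩
    obtain ⟨x, hx⟩ := hy
    refine ⟨x, injective_map_of_mono ι ?_⟩
    rw [← Points.map_comp, hg, hx]
  have := isIso_of_mono_etale_surjective hX (isAlgSpace_openSubspace hY hW) g hge hgs
  rw [← hg]
  exact RepWith.comp (repWith_of_isIso _ g) hι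

theorem isLocalOnBase_fpqc_mono :
    IsLocalOnBase (IsFpqcCover (S := S)) (MorphismProperty.monomorphisms (Sp S)) :=
  isLocalOnBase_congr (fun _ _ _ _ f => mono_iff_repWith_diagonal f)
    (isLocalOnBase_fpqc_diagonal (MorphismProperty.isomorphisms Scheme.{u}))

theorem isLocalOnBase_fpqc_etale : IsLocalOnBase (IsFpqcCover (S := S)) IsEtaleMor :=
  isLocalOnBase_congr (fun _ _ hX hY f => isEtaleMor_iff_locP etLocal_etale hX hY f)
    (isLocalOnBase_fpqc_locP etLocal_etale)

theorem isLocalOnBase_fpqc_isomorphisms :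
    IsLocalOnBase (IsFpqcCover (S := S)) (MorphismProperty.isomorphisms (Sp S)) :=
  isLocalOnBase_congr (fun _ _ hX hY f => isomorphisms_iff hX hY f)
    (isLocalOnBase_and isLocalOnBase_fpqc_mono
      (isLocalOnBase_and isLocalOnBase_fpqc_etale isLocalOnBase_fpqc_univSubmersive))

theorem isLocalOnBase_fpqc_openImmersion :
    IsLocalOnBase (IsFpqcCover (S := S)) (RepWith @IsOpenImmersion) :=
  isLocalOnBase_congr (fun _ _ hX hY f => repWith_isOpenImmersion_iff_mono_etale hX hY f)
    (isLocalOnBase_and isLocalOnBase_fpqc_mono isLocalOnBase_fpqc_etale)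

end Groth.Agent.AlgSpLib
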