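import Groth.Agent.AlgSpLib.EqualizerBaseChange
import Groth.Agent.AlgSpLib.FpqcBaseIso
import Mathlib.AlgebraicGeometry.QuasiAffine
import Mathlib.CategoryTheory.Sites.RegularEpi

/-!
An algebraic space over an affine scheme which becomes a separated quasi-compact scheme after a
faithfully flat base change maps to the spectrum of its ring of functions, and that map becomes the
affinization.
-/

universe u

open CategoryTheory CategoryTheory.Limits AlgebraicGeometry
open AlgSp

noncomputable section

namespace Groth.Agent.AlgSpLib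

set_option backward.isDefEq.respectTransparency.types false

variable {S : Scheme.{u}}

theorem appTop_injective_of_flat_surjective {X Y : Scheme.{u}} (f : X ⟶ Y) [Flat f] [Surjective f] :
    Function.Injective f.appTop := by
  intro x y h
  refine TopCat.Presheaf.section_ext Y.sheaf ⊤ x y fun p hp => ?_
  obtain ⟨q, rfl⟩ := f.surjective p
  algebraize [(f.stalkMap q).hom]
  have : Module.FaithfullyFlat (Y.presheaf.stalk (f q)) (X.presheaf.stalk q) :=
    @Module.FaithfullyFlat.of_flat_of_isLocalHom _ _ _ _ _ _ _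
      (Flat.stalkMap f q) (f.toLRSHom.prop q)
  refine (‹RingHom.FaithfullyFlat _›.injective : Function.Injective (f.stalkMap q)) ?_
  erw [Scheme.Hom.germ_stalkMap_apply, Scheme.Hom.germ_stalkMap_apply]
  exact congrArg _ h

theorem surjective_map_of_flat_surjective {V Z : Over S} (c : V ⟶ Z) (hs : Surjective c.left)
    {X X' : Sp S} {f : X ⟶ (yon S).obj Z} {πX : X' ⟶ X} {w : X' ⟶ (yon S).obj V}
    (sq : IsPullback πX w f ((yon S).map c)) : Function.Surjective (Points.map πX) :=
  surjective_map_of_isPullback sq.flip ((surjective_map_yon_map_iff c).2 hs)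

/-- affinization along a faithfully flat base change, given an affine chart which is flat, surjective and an
epimorphism of sheaves -/
theorem exists_affinization_of_chart {Z V : Over S} (c : V ⟶ Z) [IsAffine Z.left] [IsAffine V.left]
    [Flat c.left] [Surjective c.left] {X : Sp S} {f : X ⟶ (yon S).obj Z}
    {W : Over S} [W.left.IsSeparated] {w : W ⟶ V}
    {πX : (yon S).obj W ⟶ X} (sq : IsPullback πX ((yon S).map w) f ((yon S).map c))
    {U : Over S} [hU : IsAffine U.left] (p : (yon S).obj U ⟶ X) [Epi p] (hpe : RepWith @Flat p)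
    (hps : RepWith @Surjective p) :
    ∃ (A : Over S) (a : A ⟶ Z) (g : X ⟶ (yon S).obj A) (A' : Over S) (πA : A' ⟶ A) (a' : A' ⟶ V)
      (g' : W ⟶ A'), IsAffine A.left ∧ IsAffine A'.left ∧ g ≫ (yon S).map a = f ∧
        IsPullback πA a' a c ∧ IsPullback πX ((yon S).map g') g ((yon S).map πA) ∧
        g' ≫ a' = w ∧ IsIso g'.left.appTop := by
  obtain ⟨u, hu⟩ := (yon S).map_surjective (p ≫ f)
  -- the base change of the chart
  let U' : Over S := Over.mk (pullback.fst u.left c.left ≫ U.hom)
  let πU : U' ⟶ U := Over.homMk (pullback.fst u.left c.left)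
  let vU : U' ⟶ V := Over.homMk (pullback.snd u.left c.left) (by
    show _ = pullback.fst u.left c.left ≫ U.hom
    rw [← Over.w c, ← Over.w u, pullback.condition_assoc])
  have sqU : IsPullback πU vU u c :=
    IsPullback.of_map (Over.forget S) (Over.OverMorphism.ext pullback.condition)
      (IsPullback.of_hasPullback u.left c.left)
  have : IsAffine U'.left := inferInstanceAs (IsAffine (pullback u.left c.left))
  obtain ⟨φ, hφ⟩ := (yon S).map_surjective (sq.lift ((yon S).map πU ≫ p) ((yon S).map vU) (by
    rw [Category.assoc, ← hu, ← Functor.map_comp, ← Functor.map_comp, sqU.w]))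
  have hφX : (yon S).map φ ≫ πX = (yon S).map πU ≫ p := by rw [hφ]; exact sq.lift_fst _ _ _
  have hφV : φ ≫ w = vU := (yon S).map_injective (by
    rw [Functor.map_comp, hφ]; exact sq.lift_snd _ _ _)
  have sqφ : IsPullback ((yon S).map πU) ((yon S).map φ) p πX := by
    refine IsPullback.of_bot ?_ hφX.symm sq
    rw [← Functor.map_comp, hφV, ← hu]
    exact sqU.map (yon S)
  have hφe : Flat φ.left := hpe.property _ _ _ sqφ
  have hφs : Surjective φ.left := hps.property _ _ _ sqφ
  -- the relation
  have hr := hpe.1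
  have sqR0 := hr.isPullback' p
  let R := hr.pullback p
  let π₁ : R ⟶ U := hr.fst' p
  let π₂ : R ⟶ U := hr.snd p
  have hπ : π₁ ≫ u = π₂ ≫ u := (yon S).map_injective (by
    rw [Functor.map_comp, Functor.map_comp, hu, ← Category.assoc, sqR0.w, Category.assoc])
  let R' : Over S := Over.mk (pullback.fst (π₁ ≫ u).left c.left ≫ R.hom)
  let πR : R' ⟶ R := Over.homMk (pullback.fst (π₁ ≫ u).left c.left)
  let vR : R' ⟶ V := Over.homMk (pullback.snd (π₁ ≫ u).left c.left) (by
    show _ = pullback.fst (π₁ ≫ u).left c.left ≫ R.hom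
    rw [← Over.w c, ← Over.w (π₁ ≫ u), pullback.condition_assoc])
  have sqR : IsPullback πR vR (π₁ ≫ u) c :=
    IsPullback.of_map (Over.forget S) (Over.OverMorphism.ext pullback.condition)
      (IsPullback.of_hasPullback (π₁ ≫ u).left c.left)
  let s' : R' ⟶ U' := sqU.lift (πR ≫ π₁) vR (by rw [Category.assoc]; exact sqR.w)
  let t' : R' ⟶ U' := sqU.lift (πR ≫ π₂) vR (by rw [Category.assoc, ← hπ]; exact sqR.w)
  have hs₁ : s' ≫ vU = vR := sqU.lift_snd _ _ _
  have hs₂ : s' ≫ πU = πR ≫ π₁ := sqU.lift_fst _ _ _
  have ht₁ : t' ≫ vU = vR := sqU.lift_snd _ _ _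
  have ht₂ : t' ≫ πU = πR ≫ π₂ := sqU.lift_fst _ _ _
  have hst : s' ≫ φ = t' ≫ φ := (yon S).map_injective (sq.hom_ext (by
      rw [Functor.map_comp, Functor.map_comp, Category.assoc, Category.assoc, hφX,
        ← Category.assoc, ← Category.assoc, ← Functor.map_comp, ← Functor.map_comp, hs₂, ht₂,
        Functor.map_comp, Functor.map_comp, Category.assoc, Category.assoc]
      exact congrArg (_ ≫ ·) sqR0.w) (by
      rw [← Functor.map_comp, ← Functor.map_comp, Category.assoc, Category.assoc, hφV, hs₁, ht₁]))
  have sqst : IsPullback t' s' φ φ := by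
    have top : IsPullback πR s' π₁ πU := by
      refine IsPullback.of_bot ?_ hs₂.symm sqU
      rw [hs₁]
      exact sqR
    have h1 := (top.map (yon S)).paste_horiz sqR0.flip
    rw [← hφX] at h1
    have h2 := IsPullback.of_right (h₁₁ := (yon S).map t') (h₁₂ := (yon S).map πU)
      (h₂₁ := (yon S).map φ) (h₂₂ := πX) (v₁₁ := (yon S).map s') (v₁₃ := p) (v₁₂ := (yon S).map φ)
      (by rw [← Functor.map_comp, ht₂, Functor.map_comp]; exact h1)
      (by rw [← Functor.map_comp, ← Functor.map_comp, hst]) sqφ
    exact IsPullback.of_map (yon S) hst.symm h2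
  have hφa : IsAffineHom φ.left := by
    have : IsAffineHom (φ.left ≫ w.left) := isAffineHom_of_isAffine _
    exact MorphismProperty.of_postcomp (W := @IsAffineHom) (W' := @IsSeparated) φ.left w.left
      inferInstance this
  have sqst' : IsPullback t'.left s'.left φ.left φ.left := sqst.map (Over.forget S)
  have hR' : IsAffine R'.left := IsAffine.of_isPullback sqst'
  have : IsAffine R.left := by
    have hv : IsAffineHom vR.left := isAffineHom_of_isAffine _
    have hc : Et18.FPQC.{u} c.left := ⟨⟨inferInstance, inferInstance⟩, inferInstance⟩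
    haveI := Et18.descends_isAffineHom.{u}
    have : IsAffineHom (π₁ ≫ u).left :=
      MorphismProperty.of_isPullback_of_descendsAlong (P := @IsAffineHom) (Q := Et18.FPQC.{u})
        (sqR.map (Over.forget S)).flip hc hv
    exact isAffine_of_isAffineHom (π₁ ≫ u).left
  -- the ring of functions
  let E : Subring Γ(U.left, ⊤) := π₁.left.appTop.hom.eqLocus π₂.left.appTop.hom
  let i : CommRingCat.of E ⟶ Γ(U.left, ⊤) := CommRingCat.ofHom E.subtype
  let j : Γ(Z.left, ⊤) ⟶ CommRingCat.of E := CommRingCat.ofHom (u.left.appTop.hom.codRestrict E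
    fun x => by
      have e := congrArg (fun ψ : R ⟶ Z => ψ.left.appTop.hom x) hπ
      simp only [Over.comp_left, Scheme.Hom.comp_appTop] at e
      exact e)
  have hji : j ≫ i = u.left.appTop := rfl
  let al : Spec (CommRingCat.of E) ⟶ Z.left := Spec.map j ≫ Z.left.isoSpec.inv
  let A : Over S := Over.mk (al ≫ Z.hom)
  let a : A ⟶ Z := Over.homMk al
  let ql : U.left ⟶ Spec (CommRingCat.of E) := U.left.toSpecΓ ≫ Spec.map i
  have hqu : ql ≫ al = u.left := by
    simp [ql, al, ← Spec.map_comp_assoc, hji, ← Scheme.toSpecΓ_naturality_assoc]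
  let q : U ⟶ A := Over.homMk ql (by
    show ql ≫ al ≫ Z.hom = _
    rw [← Category.assoc, hqu, Over.w u])
  have hqa : q ≫ a = u := Over.OverMorphism.ext hqu
  have hqi : ql.appTop = (Scheme.ΓSpecIso _).hom ≫ i := by
    simp [ql, Scheme.toSpecΓ_appTop]
  have hqst : π₁ ≫ q = π₂ ≫ q := Over.OverMorphism.ext (by
    show π₁.left ≫ ql = π₂.left ≫ ql
    simp only [ql, Scheme.toSpecΓ_naturality_assoc, ← Spec.map_comp]
    rw [show i ≫ π₁.left.appTop = i ≫ π₂.left.appTop from CommRingCat.hom_ext (RingHom.ext fun x => x.2)])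
  have : IsAffine A.left := inferInstanceAs (IsAffine (Spec (CommRingCat.of E)))
  -- descend to the space
  have : IsRegularEpi p := IsRegularEpiCategory.regularEpiOfEpi p
  let g : X ⟶ (yon S).obj A := EffectiveEpi.desc p ((yon S).map q) fun {T} g₁ g₂ h => by
    obtain ⟨l, rfl, rfl⟩ := sqR0.exists_lift g₁ g₂ h
    rw [Category.assoc, Category.assoc, ← Functor.map_comp, ← Functor.map_comp, hqst]
  have hg : p ≫ g = (yon S).map q := EffectiveEpi.fac _ _ _
  have hgf : g ≫ (yon S).map a = f := by
    rw [← cancel_epi p, ← Category.assoc, hg, ← Functor.map_comp, hqa, hu]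
  let A' : Over S := Over.mk (pullback.fst a.left c.left ≫ A.hom)
  let πA : A' ⟶ A := Over.homMk (pullback.fst a.left c.left)
  let a' : A' ⟶ V := Over.homMk (pullback.snd a.left c.left) (by
    show _ = pullback.fst a.left c.left ≫ A.hom
    rw [← Over.w c, ← Over.w a, pullback.condition_assoc])
  have sqA : IsPullback πA a' a c :=
    IsPullback.of_map (Over.forget S) (Over.OverMorphism.ext pullback.condition)
      (IsPullback.of_hasPullback a.left c.left)
  have : IsAffine A'.left := inferInstanceAs (IsAffine (pullback a.left c.left))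
  obtain ⟨g', hg'⟩ := (yon S).map_surjective ((sqA.map (yon S)).lift (πX ≫ g) ((yon S).map w) (by
    rw [Category.assoc, hgf, sq.w]))
  have hgA : (yon S).map g' ≫ (yon S).map πA = πX ≫ g := by
    rw [hg']; exact (sqA.map (yon S)).lift_fst _ _ _
  have hga : g' ≫ a' = w := (yon S).map_injective (by
    rw [Functor.map_comp, hg']; exact (sqA.map (yon S)).lift_snd _ _ _)
  have sqg : IsPullback πX ((yon S).map g') g ((yon S).map πA) := by
    refine IsPullback.of_bot ?_ hgA.symm (sqA.map (yon S))
    rw [← Functor.map_comp, hga, hgf]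
    exact sq
  refine ⟨A, a, g, A', πA, a', g', inferInstance, inferInstance, hgf, sqA, sqg, hga, ?_⟩
  have hq' : (φ ≫ g') ≫ πA = πU ≫ q := (yon S).map_injective (by
    rw [Functor.map_comp, Functor.map_comp, Category.assoc, hgA, ← Category.assoc, hφX,
      Category.assoc, hg, Functor.map_comp])
  obtain ⟨hinj, heq⟩ := appTop_equalizer_baseChange c.left a.left q.left π₁.left π₂.left
    (congrArg Over.Hom.left hqst) (sqA.map (Over.forget S))
    (πU := πU.left) (vU := vU.left) (by
      rw [← Over.comp_left, hqa]; exact sqU.map (Over.forget S))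
    (πR := πR.left) (vR := vR.left) (by
      rw [← Over.comp_left, ← Over.comp_left, Category.assoc, hqa]; exact sqR.map (Over.forget S))
    (φ ≫ g').left s'.left t'.left
    (congrArg Over.Hom.left (show (φ ≫ g') ≫ a' = vU by rw [Category.assoc, hga, hφV]))
    (congrArg Over.Hom.left hq')
    (congrArg Over.Hom.left hs₁) (congrArg Over.Hom.left hs₂)
    (congrArg Over.Hom.left ht₁) (congrArg Over.Hom.left ht₂)
    (by
      intro x y e
      rw [show q.left.appTop = _ from hqi] at e
      exact (Scheme.ΓSpecIso _).commRingCatIsoToRingEquiv.injective (Subtype.ext e))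
    (fun m hm => by
      refine ⟨(Scheme.ΓSpecIso _).inv (⟨m, hm⟩ : E), ?_⟩
      rw [show q.left.appTop = _ from hqi]
      simp [i])
  have hφf : Flat φ.left := inferInstance
  rw [ConcreteCategory.isIso_iff_bijective]
  refine ⟨fun x y e => hinj ?_, fun z => ?_⟩
  · simp only [Over.comp_left, Scheme.Hom.comp_appTop]
    exact congrArg (φ.left.appTop) e
  · obtain ⟨x, hx⟩ := heq (φ.left.appTop z) (by
      have e := congrArg (fun ψ : R' ⟶ W => ψ.left.appTop.hom z) hst
      simp only [Over.comp_left, Scheme.Hom.comp_appTop] at e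
      exact e)
    refine ⟨x, appTop_injective_of_flat_surjective φ.left ?_⟩
    simp only [Over.comp_left, Scheme.Hom.comp_appTop] at hx
    exact hx

theorem exists_affinization_of_fpqc {Z V : Over S} (c : V ⟶ Z) [IsAffine Z.left] [IsAffine V.left]
    [Flat c.left] [Surjective c.left] {X : Sp S} (hX : IsAlgSpace X) {f : X ⟶ (yon S).obj Z}
    {W : Over S} [W.left.IsSeparated] [CompactSpace ↥W.left] {w : W ⟶ V}
    {πX : (yon S).obj W ⟶ X} (sq : IsPullback πX ((yon S).map w) f ((yon S).map c)) :
    ∃ (A : Over S) (a : A ⟶ Z) (g : X ⟶ (yon S).obj A) (A' : Over S) (πA : A' ⟶ A) (a' : A' ⟶ V)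
      (g' : W ⟶ A'), IsAffine A.left ∧ IsAffine A'.left ∧ g ≫ (yon S).map a = f ∧
        IsPullback πA a' a c ∧ IsPullback πX ((yon S).map g') g ((yon S).map πA) ∧
        g' ≫ a' = w ∧ IsIso g'.left.appTop := by
  have hπs : Function.Surjective (Points.map πX) := surjective_map_of_flat_surjective c ‹_› sq
  have : CompactSpace (Points ((yon S).obj W)) := (Points.schemeHomeo W).compactSpace
  have : CompactSpace (Points X) :=
    ⟨hπs.range_eq ▸ isCompact_range (Points.continuous_map _)⟩
  obtain ⟨U, p, hU, hpe, hps⟩ := exists_affine_chart hX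
  have := isLocallySurjective_of_etale hpe hps
  have : Epi p := Sheaf.epi_of_isLocallySurjective p
  exact exists_affinization_of_chart c sq p (RepWith.mono etale_le_flat hpe) hps

end Groth.Agent.AlgSpLib
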