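import Groth.Agent.AlgSpLib.DiagCrit
import Groth.Prelude.Def_AlgSp4

/-!
Separated and quasi-separated morphisms of sheaves.
-/

universe u

open CategoryTheory CategoryTheory.Limits AlgebraicGeometry
open AlgSp

noncomputable section

namespace Groth.Agent.AlgSpLib

set_option backward.isDefEq.respectTransparency.types false

variable {S : Scheme.{u}} {F G H : Sp S}

theorem isSeparatedMor_of_isPullback {X' Y' : Sp S} {f : F ⟶ G} {g : Y' ⟶ G} {fst : X' ⟶ F}
    {f' : X' ⟶ Y'} (sq : IsPullback fst f' f g) (hf : IsSeparatedMor f) : IsSeparatedMor f' :=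
  RepWith.baseChange (isPullback_diagonal_map sq) hf

theorem isQuasiSeparatedMor_of_isPullback {X' Y' : Sp S} {f : F ⟶ G} {g : Y' ⟶ G} {fst : X' ⟶ F}
    {f' : X' ⟶ Y'} (sq : IsPullback fst f' f g) (hf : IsQuasiSeparatedMor f) :
    IsQuasiSeparatedMor f' :=
  RepWith.baseChange (isPullback_diagonal_map sq) hf

theorem isSeparatedMor_comp {f : F ⟶ G} {g : G ⟶ H} (hf : IsSeparatedMor f)
    (hg : IsSeparatedMor g) : IsSeparatedMor (f ≫ g) :=
  MorphismProperty.comp_mem (RepWith (S := S) @IsClosedImmersion).diagonal f g hf hg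

theorem isQuasiSeparatedMor_comp {f : F ⟶ G} {g : G ⟶ H} (hf : IsQuasiSeparatedMor f)
    (hg : IsQuasiSeparatedMor g) : IsQuasiSeparatedMor (f ≫ g) :=
  MorphismProperty.comp_mem (RepWith (S := S) @QuasiCompact).diagonal f g hf hg

theorem isSeparatedMor_of_mono (f : F ⟶ G) [Mono f] : IsSeparatedMor f :=
  repWith_of_isIso _ (pullback.diagonal f)

theorem isQuasiSeparatedMor_of_mono (f : F ⟶ G) [Mono f] : IsQuasiSeparatedMor f :=
  repWith_of_isIso _ (pullback.diagonal f)

theorem isQuasiSeparatedMor_of_isSeparatedMor {f : F ⟶ G} (hf : IsSeparatedMor f) :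
    IsQuasiSeparatedMor f :=
  RepWith.mono (fun _ _ g (_ : IsClosedImmersion g) => (inferInstance : QuasiCompact g)) hf

/-- descent of a property of the diagonal along an etale surjection -/
theorem repWith_diagonal_of_cover (hF : IsAlgSpace F) {V : Sp S} {p : V ⟶ G}
    (hp : RepWith @Etale p) (hps : RepWith @Surjective p) {f : F ⟶ G} {P' : Sp S} {fst : P' ⟶ F}
    {snd : P' ⟶ V} (sq : IsPullback fst snd f p) (P : MorphismProperty Scheme.{u})
    [P.IsLocalAtTarget Scheme.fppfPrecoverage] (h : RepWith P (pullback.diagonal snd)) :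
    RepWith P (pullback.diagonal f) := by
  let m := pullback.map snd snd f f fst fst p sq.w.symm sq.w.symm
  have h1 := (IsPullback.of_hasPullback snd snd).flip.paste_horiz sq
  rw [← sq.w] at h1
  have e : m ≫ pullback.snd f f = pullback.snd snd snd ≫ fst := by simp [m, pullback.lift_snd]
  rw [← e] at h1
  have sqm : IsPullback m (pullback.fst snd snd) (pullback.fst f f) fst :=
    IsPullback.of_right h1 (by simp [m, pullback.lift_fst]) (IsPullback.of_hasPullback f f).flip
  have : Sheaf.IsLocallySurjective m :=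
    isLocallySurjective_of_etale (RepWith.baseChange sqm.flip (RepWith.baseChange sq.flip hp))
      (RepWith.baseChange sqm.flip (RepWith.baseChange sq.flip hps))
  exact repWith_of_isLocallySurjective (representable_diagonal hF f) m
    (isPullback_diagonal_map sq) P h

/-- a property of the diagonal is checked after base change to affine schemes -/
theorem repWith_diagonal_of_affine (hF : IsAlgSpace F) (P : MorphismProperty Scheme.{u})
    [P.IsStableUnderBaseChange] [IsZariskiLocalAtTarget P] {f : F ⟶ G}
    (h : ∀ (Z : Over S), IsAffine Z.left → ∀ (g : (yon S).obj Z ⟶ G) (Q : Sp S) (fst : Q ⟶ F)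
      (snd : Q ⟶ (yon S).obj Z), IsPullback fst snd f g → RepWith P (pullback.diagonal snd)) :
    RepWith P (pullback.diagonal f) := by
  have hd := representable_diagonal hF f
  refine MorphismProperty.relative.of_exists fun T t => ?_
  refine ⟨_, _, hd.snd t, hd.isPullback t,
    IsZariskiLocalAtTarget.of_iSup_eq_top (P := P) (fun W : T.left.affineOpens => W.1)
      (iSup_affineOpens_eq_top _) fun W => ?_⟩
  let q := hd.snd t
  let T' : Over S := Over.mk (W.1.ι ≫ T.hom)
  let u : T' ⟶ T := Over.homMk W.1.ι
  let Q' : Over S := Over.mk ((q.left ⁻¹ᵁ W.1).ι ≫ (hd.pullback t).hom)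
  let pr : Q' ⟶ hd.pullback t := Over.homMk (q.left ⁻¹ᵁ W.1).ι
  let q' : Q' ⟶ T' := Over.homMk (q.left ∣_ W.1) (by
    show (q.left ∣_ W.1) ≫ W.1.ι ≫ T.hom = _
    rw [morphismRestrict_ι_assoc, Over.w q]; rfl)
  have sqO : IsPullback pr q' q u := by
    refine IsPullback.of_map (Over.forget S) ?_ (isPullback_morphismRestrict q.left W.1).flip
    exact Over.OverMorphism.ext (morphismRestrict_ι q.left W.1).symm
  have sqW := (sqO.map (yon S)).paste_horiz (hd.isPullback t)
  let t' := (yon S).map u ≫ t
  let g := t' ≫ pullback.fst f f ≫ f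
  have sq := IsPullback.of_hasPullback f g
  let sn := pullback.snd f g
  let m := pullback.map sn sn f f (pullback.fst f g) (pullback.fst f g) g sq.w.symm sq.w.symm
  let a : (yon S).obj T' ⟶ pullback f g :=
    pullback.lift (t' ≫ pullback.fst f f) (𝟙 _) (by simp [g])
  let b : (yon S).obj T' ⟶ pullback f g :=
    pullback.lift (t' ≫ pullback.snd f f) (𝟙 _) (by simp [g, pullback.condition])
  let w : (yon S).obj T' ⟶ pullback sn sn :=
    pullback.lift a b (by simp [a, b, sn, pullback.lift_snd])
  have hw : w ≫ m = t' := by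
    apply pullback.hom_ext
    · simp [w, m, a, pullback.lift_fst, pullback.lift_fst_assoc]
    · simp [w, m, b, pullback.lift_snd, pullback.lift_snd_assoc, pullback.lift_fst]
  have hP := h T' W.2 g _ _ _ sq
  have sq1 := (hP.1.isPullback w).paste_horiz (isPullback_diagonal_map sq)
  rw [hw] at sq1
  have h2 : RepWith P ((yon S).map (hP.1.snd w)) :=
    (repWith_yon_map_iff P _).2 (hP.property_snd _)
  have h3 : RepWith P ((yon S).map q') := by
    have : P.RespectsIso := MorphismProperty.IsStableUnderBaseChange.respectsIso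
    rw [← IsPullback.isoIsPullback_hom_snd _ _ sqW sq1]
    exact (MorphismProperty.cancel_left_of_respectsIso (RepWith P) _ _).2 h2
  exact (repWith_yon_map_iff P q').1 h3

end Groth.Agent.AlgSpLib
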