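import Groth.Agent.AlgSpLib.AffineEtaleQuot
import Groth.Agent.AlgSpLib.MorSep
import Groth.Agent.AlgSpLib.AffineDescent
import Mathlib.AlgebraicGeometry.ZariskisMainTheorem
import Mathlib.AlgebraicGeometry.Morphisms.QuasiFinite

/-!
Local pieces for separated locally quasi-finite algebraic spaces over affine schemes.
-/

universe u

open CategoryTheory CategoryTheory.Limits AlgebraicGeometry Opposite Topology TensorProduct
open AlgSp

noncomputable section

namespace Groth.Agent.AlgSpLib

set_option backward.isDefEq.respectTransparency.types false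

variable {S : Scheme.{u}}

/-- the fibre product over a separated space is closed in the fibre product over the base -/
theorem isClosedImmersion_lift_of_separated {X : Sp S} {T U U' R : Over S} {f : X ⟶ (yon S).obj T}
    (hsep : IsSeparatedMor f) {a : (yon S).obj U ⟶ X} {b : (yon S).obj U' ⟶ X} {r₁ : R ⟶ U} {r₂ : R ⟶ U'}
    (sq : IsPullback ((yon S).map r₁) ((yon S).map r₂) a b) {u : U ⟶ T} {u' : U' ⟶ T}
    (hu : (yon S).map u = a ≫ f) (hu' : (yon S).map u' = b ≫ f)
    (w : r₁.left ≫ u.left = r₂.left ≫ u'.left) :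
    IsClosedImmersion (pullback.lift r₁.left r₂.left w) := by
  let P : Over S := Over.mk (pullback.fst u.left u'.left ≫ U.hom)
  let p₁ : P ⟶ U := Over.homMk (pullback.fst u.left u'.left)
  let p₂ : P ⟶ U' := Over.homMk (pullback.snd u.left u'.left) (by
    show _ = pullback.fst u.left u'.left ≫ U.hom
    rw [← Over.w u, pullback.condition_assoc]
    exact congrArg _ (Over.w u').symm)
  have sqP : IsPullback p₁ p₂ u u' :=
    IsPullback.of_map (Over.forget S) (Over.OverMorphism.ext pullback.condition)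
      (IsPullback.of_hasPullback u.left u'.left)
  let l : R ⟶ P := Over.homMk (pullback.lift r₁.left r₂.left w) (by
    show _ ≫ pullback.fst u.left u'.left ≫ U.hom = _
    rw [pullback.lift_fst_assoc]
    exact Over.w r₁)
  let m : (yon S).obj P ⟶ pullback f f := pullback.lift ((yon S).map p₁ ≫ a) ((yon S).map p₂ ≫ b) (by
    rw [Category.assoc, Category.assoc, ← hu, ← hu', ← Functor.map_comp, ← Functor.map_comp, sqP.w])
  have hl₁ : (yon S).map l ≫ (yon S).map p₁ = (yon S).map r₁ := by
    rw [← Functor.map_comp]; exact congrArg _ (Over.OverMorphism.ext (pullback.lift_fst _ _ _))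
  have hl₂ : (yon S).map l ≫ (yon S).map p₂ = (yon S).map r₂ := by
    rw [← Functor.map_comp]; exact congrArg _ (Over.OverMorphism.ext (pullback.lift_snd _ _ _))
  have hw : ((yon S).map r₁ ≫ a) ≫ pullback.diagonal f = (yon S).map l ≫ m := by
    apply pullback.hom_ext
    · rw [Category.assoc, pullback.diagonal_fst, Category.comp_id, Category.assoc, pullback.lift_fst,
        ← Category.assoc, hl₁]
    · rw [Category.assoc, pullback.diagonal_snd, Category.comp_id, Category.assoc, pullback.lift_snd,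
        ← Category.assoc, hl₂, sq.w]
  have sqd : IsPullback ((yon S).map r₁ ≫ a) ((yon S).map l) (pullback.diagonal f) m := by
    refine isPullback_of_yon hw fun Z x y e => ?_
    have e1 : y ≫ (yon S).map p₁ ≫ a = x := by
      simpa [m, pullback.lift_fst] using (congrArg (· ≫ pullback.fst f f) e).symm
    have e2 : y ≫ (yon S).map p₂ ≫ b = x := by
      simpa [m, pullback.lift_snd] using (congrArg (· ≫ pullback.snd f f) e).symm
    obtain ⟨r, h1, h2⟩ := sq.exists_lift (y ≫ (yon S).map p₁) (y ≫ (yon S).map p₂)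
      (by rw [Category.assoc, Category.assoc, e1, e2])
    refine ⟨r, ⟨by rw [← Category.assoc, h1, Category.assoc, e1], (sqP.map (yon S)).hom_ext
      (by rw [Category.assoc, hl₁, h1]) (by rw [Category.assoc, hl₂, h2])⟩, fun r' hr' => sq.hom_ext ?_ ?_⟩
    · rw [h1, ← hl₁, ← Category.assoc, hr'.2]
    · rw [h2, ← hl₂, ← Category.assoc, hr'.2]
  exact (show RepWith @IsClosedImmersion (pullback.diagonal f) from hsep).2 m ((yon S).map r₁ ≫ a) l sqd

/-- global functions of a closed subscheme of an affine fibre product are generated by the factors -/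
theorem closure_range_appTop_eq_top {U U' T R : Scheme.{u}} [IsAffine U] [IsAffine U'] [IsAffine T]
    {u : U ⟶ T} {u' : U' ⟶ T} (r₁ : R ⟶ U) (r₂ : R ⟶ U') (w : r₁ ≫ u = r₂ ≫ u')
    [IsClosedImmersion (pullback.lift r₁ r₂ w)] :
    Subring.closure (Set.range r₁.appTop ∪ Set.range r₂.appTop) = ⊤ := by
  rw [Subring.eq_top_iff']
  intro z
  have hsur : Function.Surjective (pullback.lift r₁ r₂ w).appTop :=
    ((HasAffineProperty.iff_of_isAffine (P := @IsClosedImmersion)).1
      (inferInstance : IsClosedImmersion (pullback.lift r₁ r₂ w))).2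
  obtain ⟨x, rfl⟩ := hsur z
  have hp := isPushout_appTop_of_isPullback (IsPullback.of_hasPullback u u')
  algebraize [u.appTop.hom, u'.appTop.hom]
  obtain ⟨e, he⟩ := exists_tensor_equiv (k := Γ(T, ⊤)) (B := Γ(U, ⊤)) (M := Γ(U', ⊤))
    (cM := (pullback.fst u u').appTop) (pM := (pullback.snd u u').appTop) hp
  obtain ⟨y, rfl⟩ := e.surjective x
  induction y with
  | zero => simp
  | add a b ha hb => rw [map_add, map_add]; exact add_mem ha hb
  | tmul a b =>
    rw [he, map_mul]
    refine mul_mem (Subring.subset_closure (Or.inl ⟨a, ?_⟩)) (Subring.subset_closure (Or.inr ⟨b, ?_⟩))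
    · exact congrArg (fun k => k.hom a) (show r₁.appTop =
        (pullback.fst u u').appTop ≫ (pullback.lift r₁ r₂ w).appTop by
          rw [← Scheme.Hom.comp_appTop, pullback.lift_fst])
    · exact congrArg (fun k => k.hom b) (show r₂.appTop =
        (pullback.snd u u').appTop ≫ (pullback.lift r₁ r₂ w).appTop by
          rw [← Scheme.Hom.comp_appTop, pullback.lift_snd])

/-- the finite part of a separated quasi-finite scheme after an affine etale localisation -/
theorem exists_affine_etale_finite_part {U T : Scheme.{u}} [IsAffine T] (f : U ⟶ T) [IsSeparated f]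
    [LocallyOfFiniteType f] [LocallyQuasiFinite f] (u₀ : U) :
    ∃ (T' : Scheme.{u}) (c : T' ⟶ T) (V : (pullback f c).Opens) (v : V), IsAffine T' ∧ Etale c ∧
      IsFinite (V.ι ≫ pullback.snd f c) ∧ pullback.fst f c v.1 = u₀ := by
  obtain ⟨T₁, g, hg, -, V, W, v, -, hfin, hv⟩ :=
    exists_etale_isCompl_of_quasiFiniteAt f (x := u₀) rfl (f.quasiFiniteAt u₀)
  obtain ⟨O, hO, hvO, -⟩ :=
    exists_isAffineOpen_mem_and_subset (U := ⊤) (x := pullback.snd f g v.1) trivial
  have : IsAffine O.toScheme := hO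
  let k : pullback f (O.ι ≫ g) ⟶ pullback f g :=
    pullback.map f (O.ι ≫ g) f g (𝟙 _) O.ι (𝟙 _) (by simp) (by simp)
  have hk₁ : k ≫ pullback.fst f g = pullback.fst f (O.ι ≫ g) :=
    (pullback.lift_fst _ _ _).trans (Category.comp_id _)
  have hk₂ : k ≫ pullback.snd f g = pullback.snd f (O.ι ≫ g) ≫ O.ι := pullback.lift_snd _ _ _
  have sqk : IsPullback k (pullback.snd f (O.ι ≫ g)) (pullback.snd f g) O.ι :=
    IsPullback.of_right (h₁₂ := pullback.fst f g) (by rw [hk₁]; exact IsPullback.of_hasPullback f (O.ι ≫ g))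
      hk₂ (IsPullback.of_hasPullback f g)
  obtain ⟨z₀, hz₀, -⟩ :=
    Scheme.Pullback.exists_preimage_pullback (f := pullback.snd f g) (g := O.ι) v.1 ⟨_, hvO⟩ rfl
  obtain ⟨z, hz⟩ : ∃ z, k z = v.1 := ⟨sqk.isoPullback.inv z₀, by
    rw [← Scheme.Hom.comp_apply, sqk.isoPullback_inv_fst]; exact hz₀⟩
  refine ⟨O, O.ι ≫ g, k ⁻¹ᵁ V, ⟨z, show k z ∈ V from hz ▸ v.2⟩, ‹_›, inferInstance, ?_, ?_⟩
  · exact MorphismProperty.of_isPullback (P := @IsFinite)
      ((isPullback_morphismRestrict k V).paste_vert sqk) hfin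
  · show pullback.fst f (O.ι ≫ g) z = u₀
    rw [← hk₁, Scheme.Hom.comp_apply, hz, hv]

/-- the sections supported on the locus of an idempotent -/
theorem appTop_ι_basicOpen {X : Scheme.{u}} [IsAffine X] (e : Γ(X, ⊤)) (he : e * e = e) :
    Function.Surjective (X.basicOpen e).ι.appTop ∧
      ∀ a, (X.basicOpen e).ι.appTop a = 0 ↔ e * a = 0 := by
  have hloc := (isAffineOpen_top X).isLocalization_basicOpen e
  have hiso : ∃ φ : Γ(X, X.basicOpen e) ≅ Γ((X.basicOpen e).toScheme, ⊤),
      ∀ a : Γ(X, ⊤), (X.basicOpen e).ι.appTop a = φ.hom (algebraMap Γ(X, ⊤) Γ(X, X.basicOpen e) a) := by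
    refine ⟨(X.basicOpen e).topIso.symm, fun a => ?_⟩
    refine congrArg (fun k => k.hom a) (show (X.basicOpen e).ι.appTop =
      X.presheaf.map (homOfLE (le_top : X.basicOpen e ≤ ⊤)).op ≫ (X.basicOpen e).topIso.inv from ?_)
    rw [Scheme.Opens.ι_appTop]
    simp [Scheme.Opens.topIso, ← Functor.map_comp]
    erw [← Functor.map_comp]
    rfl
  obtain ⟨φ, hφ⟩ := hiso
  have hφb := φ.commRingCatIsoToRingEquiv.bijective
  have he1 : algebraMap Γ(X, ⊤) Γ(X, X.basicOpen e) e = 1 := by
    have hu := IsLocalization.Away.algebraMap_isUnit (S := Γ(X, X.basicOpen e)) e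
    exact hu.mul_left_cancel (by rw [← map_mul, he, mul_one])
  refine ⟨fun y => ?_, fun a => ?_⟩
  · obtain ⟨z, rfl⟩ := hφb.2 y
    obtain ⟨⟨a, n⟩, hn⟩ := IsLocalization.surj (Submonoid.powers e) z
    obtain ⟨k, hk⟩ := n.2
    refine ⟨a, (hφ a).trans (congrArg _ ?_)⟩
    have h1 : algebraMap Γ(X, ⊤) Γ(X, X.basicOpen e) n.1 = 1 := by
      rw [← hk, map_pow, he1, one_pow]
    rw [← hn, h1, mul_one]
  · rw [hφ, map_eq_zero_iff φ.hom.hom hφb.1, IsLocalization.map_eq_zero_iff (Submonoid.powers e)]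
    constructor
    · rintro ⟨⟨_, n, rfl⟩, hn⟩
      rcases n with _ | n
      · replace hn : e ^ 0 * a = 0 := hn
        simp only [pow_zero, one_mul] at hn
        rw [hn, mul_zero]
      · replace hn : e ^ (n + 1) * a = 0 := hn
        rwa [(show IsIdempotentElem e from he).pow_succ_eq n] at hn
    · exact fun h => ⟨⟨e, 1, pow_one e⟩, h⟩

/-- clopen subsets of an affine scheme are cut out by idempotents -/
theorem exists_idempotent_basicOpen_eq {X : Scheme.{u}} [IsAffine X] {s : Set ↥X} (hs : IsClopen s) :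
    ∃ e : Γ(X, ⊤), e * e = e ∧ (X.basicOpen e : Set ↥X) = s := by
  let h : ↥X ≃ₜ PrimeSpectrum Γ(X, ⊤) := X.isoSpec.hom.homeomorph
  obtain ⟨e, he, hbo⟩ := PrimeSpectrum.exists_idempotent_basicOpen_eq_of_isClopen
    (s := h '' s) ⟨h.isClosed_image.2 hs.1, h.isOpen_image.2 hs.2⟩
  refine ⟨e, he, ?_⟩
  rw [← Scheme.toSpecΓ_preimage_basicOpen]
  show h ⁻¹' (PrimeSpectrum.basicOpen e : Set (PrimeSpectrum Γ(X, ⊤))) = s
  rw [← hbo, h.preimage_image]

theorem idempotent_eq_of_basicOpen_eq {X : Scheme.{u}} [IsAffine X] {e e' : Γ(X, ⊤)} (he : e * e = e)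
    (he' : e' * e' = e') (h : X.basicOpen e = X.basicOpen e') : e = e' := by
  refine PrimeSpectrum.basicOpen_injOn_isIdempotentElem he he' (SetLike.ext' ?_)
  rw [← Scheme.toSpecΓ_preimage_basicOpen, ← Scheme.toSpecΓ_preimage_basicOpen] at h
  exact X.isoSpec.hom.homeomorph.surjective.preimage_injective (congrArg (fun O : X.Opens => (O : Set ↥X)) h)

/-- isomorphy descends along fppf coverings of sheaves -/
theorem isIso_of_fppf_baseChange {X Y X' Y' : Sp S} {h : X ⟶ Y} {b : Y' ⟶ Y} {fst : X' ⟶ X}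
    {snd : X' ⟶ Y'} (sq : IsPullback fst snd h b) (hbf : RepWith @Flat b)
    (hbp : RepWith @LocallyOfFinitePresentation b) (hbs : RepWith @Surjective b) [IsIso snd] : IsIso h := by
  have := isLocallySurjective_of_repWith hbf hbp hbs
  have : Epi b := Sheaf.epi_of_isLocallySurjective _
  have : Epi h := by
    have : Epi (fst ≫ h) := by rw [sq.w]; infer_instance
    exact epi_of_epi fst h
  have : Mono h := ⟨fun {Z} x y e => by
    have sqz := IsPullback.of_hasPullback (x ≫ h) b
    have := isLocallySurjective_of_repWith (RepWith.baseChange sqz.flip hbf)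
      (RepWith.baseChange sqz.flip hbp) (RepWith.baseChange sqz.flip hbs)
    have : Epi (pullback.fst (x ≫ h) b) := Sheaf.epi_of_isLocallySurjective _
    rw [← cancel_epi (pullback.fst (x ≫ h) b)]
    obtain ⟨l₁, h1, h1'⟩ := sq.exists_lift (pullback.fst (x ≫ h) b ≫ x) (pullback.snd (x ≫ h) b)
      (by rw [Category.assoc, pullback.condition])
    obtain ⟨l₂, h2, h2'⟩ := sq.exists_lift (pullback.fst (x ≫ h) b ≫ y) (pullback.snd (x ≫ h) b)
      (by rw [Category.assoc, ← e, pullback.condition])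
    obtain rfl : l₁ = l₂ := (cancel_mono snd).1 (h1'.trans h2'.symm)
    rw [← h1, h2]⟩
  exact isIso_of_mono_of_epi h

/-- the preimage of an open subscheme as an open subspace -/
theorem exists_isPullback_openSubspace {X : Sp S} {A : Over S} (g : X ⟶ (yon S).obj A) (O : A.left.Opens) :
    ∃ l, IsPullback (openSubspaceι X (Points.map g ⁻¹' (Points.ofScheme A '' (O : Set ↥A.left)))) l g
        ((yon S).map (Over.homMk O.ι : Over.mk (O.ι ≫ A.hom) ⟶ A)) ∧
      IsOpen (Points.map g ⁻¹' (Points.ofScheme A '' (O : Set ↥A.left))) := by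
  let W := Points.map g ⁻¹' (Points.ofScheme A '' (O : Set ↥A.left))
  let jO : Over.mk (O.ι ≫ A.hom) ⟶ A := Over.homMk O.ι
  have hj : RepWith @IsOpenImmersion ((yon S).map jO) :=
    (repWith_yon_map_iff _ jO).2 (inferInstanceAs (IsOpenImmersion O.ι))
  have hr : Set.range (Points.map ((yon S).map jO)) = Points.ofScheme A '' (O : Set ↥A.left) := by
    ext z
    constructor
    · rintro ⟨y, rfl⟩
      obtain ⟨y, rfl⟩ := (Points.schemeEquiv _).surjective y
      refine ⟨O.ι y, y.2, ?_⟩
      exact (map_yon_map_ofScheme jO y).symm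
    · rintro ⟨a, ha, rfl⟩
      exact ⟨Points.ofScheme _ ⟨a, ha⟩, map_yon_map_ofScheme jO ⟨a, ha⟩⟩
  have hW : IsOpen W := by
    refine (Points.continuous_map g).isOpen_preimage _ ?_
    exact (Points.schemeHomeo A).isOpenMap _ O.isOpen
  obtain ⟨l, hl⟩ := (exists_lift_iff_range_subset hj (openSubspaceι X W ≫ g)).2 (by
    rintro _ ⟨x, rfl⟩
    rw [Points.map_comp, hr]
    exact (range_openSubspaceι X W).subset ⟨x, rfl⟩)
  have hm : Mono ((yon S).map jO) :=
    mono_of_repWith (fun _ _ k (_ : IsOpenImmersion k) => (inferInstance : Mono k)) hj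
  refine ⟨l, isPullback_of_yon hl.symm fun Z x y e => ?_, hW⟩
  obtain ⟨m, hm'⟩ := (exists_lift_iff_range_subset (repWith_openSubspaceι X hW) x).2 (by
    rintro _ ⟨z, rfl⟩
    rw [range_openSubspaceι]
    show Points.map g (Points.map x z) ∈ (Points.ofScheme A '' (O : Set ↥A.left) : Set _)
    rw [← Points.map_comp, e, Points.map_comp, ← hr]
    exact ⟨_, rfl⟩)
  refine ⟨m, ⟨hm', (cancel_mono ((yon S).map jO)).1 ?_⟩, fun m' hm'' => ?_⟩
  · rw [Category.assoc, hl, ← Category.assoc, hm', e]
  · exact (cancel_mono (openSubspaceι X W)).1 (hm''.1.trans hm'.symm)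

end Groth.Agent.AlgSpLib
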