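import Groth.Agent.AlgSpLib.Diag
import Mathlib.AlgebraicGeometry.Morphisms.Separated
import Mathlib.AlgebraicGeometry.Morphisms.QuasiSeparated

/-!
Criteria for the diagonal on affine test schemes.
-/

universe u

open CategoryTheory CategoryTheory.Limits AlgebraicGeometry
open AlgSp

noncomputable section

namespace Groth.Agent.AlgSpLib

set_option backward.isDefEq.respectTransparency.types false

variable {S : Scheme.{u}} {X : Sp S}

theorem mono_lift_left {R U V : Over S} {fst : R ⟶ U} {snd : R ⟶ V} {a : (yon S).obj U ⟶ X}
    {b : (yon S).obj V ⟶ X} (sq : IsPullback ((yon S).map fst) ((yon S).map snd) a b) :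
    Mono (pullback.lift fst.left snd.left ((Over.w fst).trans (Over.w snd).symm)) := by
  refine ⟨fun {W} g g' e => ?_⟩
  have h1 : g ≫ fst.left = g' ≫ fst.left := by
    simpa [pullback.lift_fst] using congrArg (· ≫ pullback.fst _ _) e
  have h2 : g ≫ snd.left = g' ≫ snd.left := by
    simpa [pullback.lift_snd] using congrArg (· ≫ pullback.snd _ _) e
  have w : g' ≫ R.hom = g ≫ R.hom := by
    rw [← Over.w fst, reassoc_of% h1]
  let G : Over.mk (g ≫ R.hom) ⟶ R := Over.homMk g
  let G' : Over.mk (g ≫ R.hom) ⟶ R := Over.homMk g' w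
  have : G = G' := (yon S).map_injective (sq.hom_ext
    (by rw [← Functor.map_comp, ← Functor.map_comp]; exact congrArg _ (Over.OverMorphism.ext h1))
    (by rw [← Functor.map_comp, ← Functor.map_comp]; exact congrArg _ (Over.OverMorphism.ext h2)))
  exact congrArg (fun k => k.left) this

theorem repWith_prod_lift {P : MorphismProperty Scheme.{u}} [P.IsStableUnderBaseChange]
    {R U V : Over S} (fst : R ⟶ U) (snd : R ⟶ V)
    (h : P (pullback.lift fst.left snd.left ((Over.w fst).trans (Over.w snd).symm))) :
    RepWith P (prod.lift ((yon S).map fst) ((yon S).map snd)) := by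
  have : P.RespectsIso := MorphismProperty.IsStableUnderBaseChange.respectsIso
  have e : prod.lift ((yon S).map fst) ((yon S).map snd) =
      (yon S).map (prod.lift fst snd) ≫ prodComparison (yon S) U V := by
    apply Limits.prod.hom_ext <;> simp [← Functor.map_comp, prod.lift_fst, prod.lift_snd]
  rw [e]
  refine (MorphismProperty.cancel_right_of_respectsIso (RepWith P) _ _).2 ?_
  refine (repWith_yon_map_iff P _).2 ?_
  rw [← MorphismProperty.cancel_right_of_respectsIso P _ (Over.prodLeftIsoPullback U V).hom]
  convert h using 1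
  apply pullback.hom_ext
  · simp [← Over.comp_left, prod.lift_fst, pullback.lift_fst]
  · simp [← Over.comp_left, prod.lift_snd, pullback.lift_snd]

/-- a property of the diagonal can be checked on fibre products of affine schemes -/
theorem repWith_diag_of_affine (hX : IsAlgSpace X) (P : MorphismProperty Scheme.{u})
    [P.IsStableUnderBaseChange] [IsZariskiLocalAtTarget P]
    (h : ∀ (T R : Over S) (a b : (yon S).obj T ⟶ X) (fst snd : R ⟶ T), IsAffine T.left →
      IsPullback ((yon S).map fst) ((yon S).map snd) a b →
      P (pullback.lift fst.left snd.left ((Over.w fst).trans (Over.w snd).symm))) :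
    RepWith P (Limits.diag X) := by
  refine MorphismProperty.relative.of_exists fun T g => ?_
  refine ⟨_, _, hX.diag.snd g, hX.diag.isPullback g,
    IsZariskiLocalAtTarget.of_iSup_eq_top (P := P) (fun W : T.left.affineOpens => W.1)
      (iSup_affineOpens_eq_top _) fun W => ?_⟩
  let q := hX.diag.snd g
  let T' : Over S := Over.mk (W.1.ι ≫ T.hom)
  let u : T' ⟶ T := Over.homMk W.1.ι
  let Q' : Over S := Over.mk ((q.left ⁻¹ᵁ W.1).ι ≫ (hX.diag.pullback g).hom)
  let pr : Q' ⟶ hX.diag.pullback g := Over.homMk (q.left ⁻¹ᵁ W.1).ι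
  let q' : Q' ⟶ T' := Over.homMk (q.left ∣_ W.1) (by
    show (q.left ∣_ W.1) ≫ W.1.ι ≫ T.hom = _
    rw [morphismRestrict_ι_assoc, Over.w q]; rfl)
  have sqO : IsPullback pr q' q u := by
    refine IsPullback.of_map (Over.forget S) ?_ (isPullback_morphismRestrict q.left W.1).flip
    exact Over.OverMorphism.ext (morphismRestrict_ι q.left W.1).symm
  have sqW := (sqO.map (yon S)).paste_horiz (hX.diag.isPullback g)
  let g' := (yon S).map u ≫ g
  let a := g' ≫ prod.fst
  let b := g' ≫ prod.snd
  have hr := hX.representable_from_yon a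
  have sq := hr.isPullback' b
  have hg : g' = Limits.diag ((yon S).obj T') ≫ prod.map a b := by
    apply Limits.prod.hom_ext <;> simp [a, b, prod.lift_fst, prod.lift_snd, prod.map_fst, prod.map_snd]
  have hP := repWith_prod_lift (P := P) (hr.fst' b) (hr.snd b) (h T' _ a b _ _ W.2 sq)
  have sq1 := (hP.1.isPullback (Limits.diag ((yon S).obj T'))).paste_horiz
    (isPullback_diag_prod_map sq)
  rw [← hg] at sq1
  have h2 : RepWith P ((yon S).map (hP.1.snd (Limits.diag ((yon S).obj T')))) :=
    (repWith_yon_map_iff P _).2 (hP.property_snd _)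
  have h3 : RepWith P ((yon S).map q') := by
    rw [← IsPullback.isoIsPullback_hom_snd _ _ sqW sq1]
    exact (MorphismProperty.cancel_left_of_respectsIso (RepWith P) _ _).2 h2
  exact (repWith_yon_map_iff P q').1 h3

theorem isSeparated_toProdInt {A B : Scheme.{u}} (f : A ⟶ S) (g : B ⟶ S) :
    Mono (prod.lift (pullback.fst f g) (pullback.snd f g)) :=
  mono_lift_fst_snd f g

instance isSeparated_pullback_of_isAffine {A B : Scheme.{u}} [IsAffine A] [IsAffine B]
    (f : A ⟶ S) (g : B ⟶ S) : (pullback f g).IsSeparated := by
  have := isSeparated_toProdInt f g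
  have : IsAffine (A ⨯ B) :=
    IsAffine.of_isIso (prodIsoPullback A B).hom
  constructor
  rw [← terminal.comp_from (prod.lift (pullback.fst f g) (pullback.snd f g))]
  infer_instance

theorem repWith_isSeparated_of_isSeparated_source (hX : IsAlgSpace X) {U : Over S}
    [IsSeparated U.hom] (a : (yon S).obj U ⟶ X) : RepWith @IsSeparated a := by
  have hr := hX.representable_from_yon a
  refine MorphismProperty.relative.of_exists fun T g =>
    ⟨_, _, _, hr.isPullback g, ?_⟩
  have := mono_lift_left (hr.isPullback' g)
  have e : (hr.snd g).left = pullback.lift (hr.fst' g).left (hr.snd g).left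
      ((Over.w (hr.fst' g)).trans (Over.w (hr.snd g)).symm) ≫ pullback.snd U.hom T.hom :=
    (pullback.lift_snd _ _ _).symm
  show IsSeparated (hr.snd g).left
  rw [e]
  infer_instance

theorem isQuasiSeparatedSp_of_chart (hX : IsAlgSpace X) {R U : Over S}
    (p : (yon S).obj U ⟶ X) (hp : RepWith @Etale p) (hs : RepWith @Surjective p)
    [QuasiSeparated U.hom] (s t : R ⟶ U)
    (hR : IsPullback ((yon S).map t) ((yon S).map s) p p) [QuasiCompact t.left] :
    IsQuasiSeparatedSp X := by
  have hl : Sheaf.IsLocallySurjective (prod.map p p) :=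
    isLocallySurjective_of_etale (repWith_prod_map hp hp) (repWith_prod_map hs hs)
  refine repWith_of_isLocallySurjective hX.diag (prod.map p p) (isPullback_diag_prod_map hR) _ ?_
  refine repWith_prod_lift t s ?_
  have : QuasiCompact (pullback.lift t.left s.left ((Over.w t).trans (Over.w s).symm) ≫
      pullback.fst U.hom U.hom) := by rw [pullback.lift_fst]; infer_instance
  exact QuasiCompact.of_comp _ (pullback.fst U.hom U.hom)

theorem isQuasiSeparatedSp_of_affine (hX : IsAlgSpace X)
    (h : ∀ (T R : Over S) (a b : (yon S).obj T ⟶ X) (fst snd : R ⟶ T), IsAffine T.left →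
      IsPullback ((yon S).map fst) ((yon S).map snd) a b → CompactSpace ↥R.left) :
    IsQuasiSeparatedSp X := by
  refine repWith_diag_of_affine hX _ fun T R a b fst snd hT sq => ?_
  have := h T R a b fst snd hT sq
  let l := pullback.lift fst.left snd.left ((Over.w fst).trans (Over.w snd).symm)
  have : QuasiCompact (l ≫ terminal.from _) := by
    rw [terminal.comp_from]
    exact HasAffineProperty.iff_of_isAffine.mpr this
  exact QuasiCompact.of_comp l (terminal.from _)

theorem isSeparatedSp_of_affine (hX : IsAlgSpace X)
    (h : ∀ (T R : Over S) (a b : (yon S).obj T ⟶ X) (fst snd : R ⟶ T), IsAffine T.left →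
      IsPullback ((yon S).map fst) ((yon S).map snd) a b →
        IsAffine R.left ∧ Function.Surjective
          (Algebra.TensorProduct.productMap fst.left.appTop.hom.toIntAlgHom
            snd.left.appTop.hom.toIntAlgHom)) :
    IsSeparatedSp X := by
  refine repWith_diag_of_affine hX _ fun T R a b fst snd hT sq => ?_
  obtain ⟨hA, hsur⟩ := h T R a b fst snd hT sq
  let w := (Over.w fst).trans (Over.w snd).symm
  let k := prod.lift (pullback.fst T.hom T.hom) (pullback.snd T.hom T.hom)
  have := isSeparated_toProdInt T.hom T.hom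
  have : IsAffine (T.left ⨯ T.left) := IsAffine.of_isIso (prodIsoPullback _ _).hom
  have : IsClosedImmersion (pullback.lift fst.left snd.left w ≫ k) := by
    have e : pullback.lift fst.left snd.left w ≫ k = prod.lift fst.left snd.left := by
      apply Limits.prod.hom_ext <;> simp [k, prod.lift_fst, prod.lift_snd, pullback.lift_fst, pullback.lift_snd]
    rw [e]
    refine IsClosedImmersion.of_surjective_of_isAffine _ fun z => ?_
    obtain ⟨y, rfl⟩ := hsur z
    induction y using TensorProduct.induction_on with
    | zero => exact ⟨0, by simp⟩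
    | tmul c d =>
      refine ⟨(prod.fst : T.left ⨯ T.left ⟶ _).appTop c *
        (prod.snd : T.left ⨯ T.left ⟶ _).appTop d, ?_⟩
      simp only [map_mul, Algebra.TensorProduct.productMap_apply_tmul]
      simp only [← CommRingCat.comp_apply, ← Scheme.Hom.comp_appTop, prod.lift_fst, prod.lift_snd]
      rfl
    | add y y' hy hy' =>
      obtain ⟨c, hc⟩ := hy
      obtain ⟨d, hd⟩ := hy'
      exact ⟨c + d, by rw [map_add, map_add, hc, hd]⟩
  exact IsClosedImmersion.of_comp _ k

end Groth.Agent.AlgSpLib
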