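import Groth.Agent.AlgSpLib.Descent
import Groth.Prelude.Def_AlgSpGpd
import Groth.Prelude.Def_AlgSpRep
import Mathlib.CategoryTheory.Sites.EpiMono
import Mathlib.CategoryTheory.Sites.RegularEpi

/-!
Quotient sheaves of pre-equivalence relations: local effectiveness, restriction.
-/

universe u

open CategoryTheory CategoryTheory.Limits AlgebraicGeometry Opposite
open AlgSp

noncomputable section

namespace Groth.Agent.AlgSpLib

set_option backward.isDefEq.respectTransparency.types false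

variable {S : Scheme.{u}} {R U R' U' M F : Sp S}

/-- morphisms out of `h_T` agreeing on a covering sieve are equal -/
theorem eq_of_covering {T : Over S} {a b : (yon S).obj T ⟶ F} {C : Sieve T} (hC : C ∈ J S T)
    (h : ∀ ⦃T' : Over S⦄ (f : T' ⟶ T), C f → (yon S).map f ≫ a = (yon S).map f ≫ b) : a = b := by
  apply (J S).uliftYonedaEquiv.injective
  refine (Presieve.IsSheafFor.isSeparatedFor
    ((isSheaf_iff_isSheaf_of_type _ _).1 F.property C hC)).ext fun T' f hf => ?_
  show F.obj.map f.op ((J S).uliftYonedaEquiv a) = F.obj.map f.op ((J S).uliftYonedaEquiv b)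
  rw [GrothendieckTopology.uliftYonedaEquiv_naturality, GrothendieckTopology.uliftYonedaEquiv_naturality,
    h f hf]

/-- maps into a target of an epimorphism lift locally -/
theorem exists_covering_lift (q : U ⟶ M) [Epi q] {T : Over S} (a : (yon S).obj T ⟶ M) :
    ∃ C ∈ J S T, ∀ ⦃T' : Over S⦄ (f : T' ⟶ T), C f →
      ∃ h : (yon S).obj T' ⟶ U, h ≫ q = (yon S).map f ≫ a := by
  have : Sheaf.IsLocallySurjective q := (Sheaf.isLocallySurjective_iff_epi' (Type (u + 1)) q).2 ‹_›
  exact ⟨_, Presheaf.imageSieve_mem (J S) q.hom ((J S).uliftYonedaEquiv a),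
    fun T' f hf => (imageSieve_iff q a f).1 hf⟩

section quotient

variable (s t : R ⟶ U)

/-- the relation on sections defined by a pre-relation -/
def secRel (T : (Over S)ᵒᵖ) (x y : U.obj.obj T) : Prop :=
  ∃ r : R.obj.obj T, t.hom.app T r = x ∧ s.hom.app T r = y

/-- the naive quotient presheaf -/
def quotPre : PSp S where
  obj T := Quot (secRel s t T)
  map {T T'} f := ↾(Quot.map (U.obj.map f) fun x y ⟨r, h1, h2⟩ =>
    ⟨R.obj.map f r, by rw [NatTrans.naturality_apply, h1], by rw [NatTrans.naturality_apply, h2]⟩)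
  map_id T := by
    ext x
    induction x using Quot.ind with
    | mk a => exact congrArg (Quot.mk _) (Functor.map_id_apply U.obj T a)
  map_comp f g := by
    ext x
    induction x using Quot.ind with
    | mk a => exact congrArg (Quot.mk _) (Functor.map_comp_apply U.obj f g a)

def quotPreπ : U.obj ⟶ quotPre s t where
  app T := ↾(Quot.mk _)
  naturality T T' f := by ext x; rfl

/-- two maps to `U` with equal image in the quotient are locally related -/
theorem exists_covering_rel (hpre : IsPreEqvRelSp s t) {T : Over S} (a b : (yon S).obj T ⟶ U)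
    (h : a ≫ quotSpπ s t = b ≫ quotSpπ s t) :
    ∃ C ∈ J S T, ∀ ⦃T' : Over S⦄ (f : T' ⟶ T), C f → ∃ r : (yon S).obj T' ⟶ R,
      r ≫ t = (yon S).map f ≫ a ∧ r ≫ s = (yon S).map f ≫ b := by
  let Q : Sp S := (presheafToSheaf (J S) (Type (u + 1))).obj (quotPre s t)
  let p : U ⟶ Q := ObjectProperty.homMk (quotPreπ s t ≫ toSheafify (J S) (quotPre s t))
  have hw : s ≫ p = t ≫ p := by
    ext1
    show s.hom ≫ quotPreπ s t ≫ _ = t.hom ≫ quotPreπ s t ≫ _
    rw [← Category.assoc, ← Category.assoc]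
    congr 1
    ext T r
    exact (Quot.sound ⟨r, rfl, rfl⟩).symm
  have h' : a ≫ p = b ≫ p := by
    rw [← quotSpπ_desc s t p hw, ← Category.assoc, ← Category.assoc, h]
  have h'' : (toSheafify (J S) (quotPre s t)).app (op T)
        ((quotPreπ s t).app (op T) ((J S).uliftYonedaEquiv a)) =
      (toSheafify (J S) (quotPre s t)).app (op T)
        ((quotPreπ s t).app (op T) ((J S).uliftYonedaEquiv b)) := by
    have := congrArg (J S).uliftYonedaEquiv h'
    rw [GrothendieckTopology.uliftYonedaEquiv_comp, GrothendieckTopology.uliftYonedaEquiv_comp] at this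
    exact this
  refine ⟨_, Presheaf.equalizerSieve_mem (J S) (toSheafify (J S) (quotPre s t)) _ _ h'',
    fun T' f hf => ?_⟩
  replace hf : Quot.mk (secRel s t (op T')) (U.obj.map f.op ((J S).uliftYonedaEquiv a)) =
      Quot.mk _ (U.obj.map f.op ((J S).uliftYonedaEquiv b)) := hf
  rw [GrothendieckTopology.uliftYonedaEquiv_naturality,
    GrothendieckTopology.uliftYonedaEquiv_naturality] at hf
  let rel := fun a b : (yon S).obj T' ⟶ U => ∃ r : (yon S).obj T' ⟶ R, r ≫ t = a ∧ r ≫ s = b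
  have key : ∀ x y, secRel s t (op T') x y →
      rel ((J S).uliftYonedaEquiv.symm x) ((J S).uliftYonedaEquiv.symm y) := by
    rintro x y ⟨r, rfl, rfl⟩
    exact ⟨(J S).uliftYonedaEquiv.symm r,
      (GrothendieckTopology.uliftYonedaEquiv_symm_naturality_right _ _ _ _),
      (GrothendieckTopology.uliftYonedaEquiv_symm_naturality_right _ _ _ _)⟩
  have hE : _root_.Equivalence (fun x y => rel ((J S).uliftYonedaEquiv.symm x)
      ((J S).uliftYonedaEquiv.symm y)) :=
    ⟨fun _ => (hpre T').refl _, fun h => (hpre T').symm h, fun h h' => (hpre T').trans h h'⟩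
  have := hE.eqvGen_iff.1 (Relation.EqvGen.mono key _ _ (Quot.eqvGen_exact hf))
  simpa [rel] using this

end quotient

/-- the map of quotients induced by a restriction is a monomorphism -/
theorem mono_of_restrict {s t : R ⟶ U} (hpre : IsPreEqvRelSp s t) (g : U' ⟶ U) {s' t' : R' ⟶ U'}
    (hl : ∀ ⦃T : Over S⦄ (a b : (yon S).obj T ⟶ U') (r : (yon S).obj T ⟶ R),
      r ≫ t = a ≫ g → r ≫ s = b ≫ g → ∃ r' : (yon S).obj T ⟶ R', r' ≫ t' = a ∧ r' ≫ s' = b)
    (ψ : quotSp s' t' ⟶ quotSp s t) (hψ : quotSpπ s' t' ≫ ψ = g ≫ quotSpπ s t) : Mono ψ := by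
  have : Epi (quotSpπ s' t') := inferInstanceAs (Epi (coequalizer.π s' t'))
  have key : ∀ ⦃T : Over S⦄ (a b : (yon S).obj T ⟶ quotSp s' t'), a ≫ ψ = b ≫ ψ → a = b := by
    intro T a b h
    obtain ⟨Ca, hCa, ha⟩ := exists_covering_lift (quotSpπ s' t') a
    obtain ⟨Cb, hCb, hb⟩ := exists_covering_lift (quotSpπ s' t') b
    refine eq_of_covering ((J S).intersection_covering hCa hCb) fun T' f hf => ?_
    obtain ⟨x, hx⟩ := ha f hf.1
    obtain ⟨y, hy⟩ := hb f hf.2
    have h1 : (x ≫ g) ≫ quotSpπ s t = (y ≫ g) ≫ quotSpπ s t := by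
      rw [Category.assoc, Category.assoc, ← hψ, ← Category.assoc, ← Category.assoc y, hx, hy,
        Category.assoc, Category.assoc, h]
    obtain ⟨C, hC, hr⟩ := exists_covering_rel s t hpre _ _ h1
    refine eq_of_covering hC fun T'' e he => ?_
    obtain ⟨r, hr1, hr2⟩ := hr e he
    obtain ⟨r', hr1', hr2'⟩ := hl ((yon S).map e ≫ x) ((yon S).map e ≫ y) r
      (hr1.trans (Category.assoc _ _ _).symm) (hr2.trans (Category.assoc _ _ _).symm)
    rw [← hx, ← hy, ← Category.assoc, ← Category.assoc ((yon S).map e), ← hr1', ← hr2',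
      Category.assoc, Category.assoc, quotSp_condition]
  refine ⟨fun {Z} x y h => ?_⟩
  ext T v
  obtain ⟨T⟩ := T
  exact (by
    have hk := key ((J S).uliftYonedaEquiv.symm v ≫ x) ((J S).uliftYonedaEquiv.symm v ≫ y)
      (by rw [Category.assoc, h, Category.assoc])
    have := congrArg (J S).uliftYonedaEquiv hk
    rwa [GrothendieckTopology.uliftYonedaEquiv_comp, GrothendieckTopology.uliftYonedaEquiv_comp,
      Equiv.apply_symm_apply] at this)

theorem isIso_of_restrict {s t : R ⟶ U} (g : U' ⟶ U) {s' t' : R' ⟶ U'}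
    (ψ : quotSp s' t' ⟶ quotSp s t) (hψ : quotSpπ s' t' ≫ ψ = g ≫ quotSpπ s t) [Mono ψ]
    (h : Epi (g ≫ quotSpπ s t)) : IsIso ψ := by
  rw [← hψ] at h
  have : Epi ψ := epi_of_epi (quotSpπ s' t') ψ
  exact isIso_of_mono_of_epi ψ

theorem isIso_quotSpDesc {s t : R ⟶ U} (q : U ⟶ M) (w : s ≫ q = t ≫ q) [Epi q]
    [Epi (pullback.lift t s w.symm : R ⟶ pullback q q)] : IsIso (quotSpDesc q w) := by
  have : IsRegularEpiCategory (Sp S) := inferInstanceAs (IsRegularEpiCategory (Sheaf (J S) (Type (u + 1))))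
  have : IsRegularEpi q := IsRegularEpiCategory.regularEpiOfEpi q
  have hk : pullback.fst q q ≫ quotSpπ s t = pullback.snd q q ≫ quotSpπ s t := by
    rw [← cancel_epi (pullback.lift t s w.symm : R ⟶ pullback q q), pullback.lift_fst_assoc,
      pullback.lift_snd_assoc, quotSp_condition]
  have hc : ∀ {Z : Sp S} (g₁ g₂ : Z ⟶ U), g₁ ≫ q = g₂ ≫ q → g₁ ≫ quotSpπ s t = g₂ ≫ quotSpπ s t :=
    fun g₁ g₂ e => by
      have h := congrArg (pullback.lift g₁ g₂ e ≫ ·) hk
      simpa only [pullback.lift_fst_assoc, pullback.lift_snd_assoc] using h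
  let inv' : M ⟶ quotSp s t := EffectiveEpi.desc q (quotSpπ s t) (fun g₁ g₂ e => hc g₁ g₂ e)
  have : Epi (quotSpπ s t) := inferInstanceAs (Epi (coequalizer.π s t))
  refine ⟨inv', ?_, ?_⟩
  · rw [← cancel_epi (quotSpπ s t), quotSpπ_desc_assoc, Category.comp_id]
    exact EffectiveEpi.fac q _ _
  · rw [← cancel_epi q, EffectiveEpi.fac_assoc, quotSpπ_desc, Category.comp_id]

theorem isPreEqvRelSp_groupoid {B : Sp S} (G : GroupoidSp B) : IsPreEqvRelSp G.s G.t := by
  intro T
  refine ⟨fun a => ⟨a ≫ G.e, by rw [Category.assoc, G.e_t, Category.comp_id],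
    by rw [Category.assoc, G.e_s, Category.comp_id]⟩, ?_, ?_⟩
  · rintro a b ⟨r, rfl, rfl⟩
    exact ⟨r ≫ G.i, by rw [Category.assoc, G.i_t], by rw [Category.assoc, G.i_s]⟩
  · rintro a b c ⟨r, rfl, h⟩ ⟨r', h', rfl⟩
    exact ⟨pullback.lift r r' (h.trans h'.symm) ≫ G.c, G.comp_t _ _ _, G.comp_s _ _ _⟩

theorem exists_restrict_lift {B : Sp S} {G G' : GroupoidSp B} {φ : GroupoidSp.Hom G' G}
    (hφ : φ.IsRestriction) {T : Sp S} (a b : T ⟶ G'.U) (r : T ⟶ G.R) (h1 : r ≫ G.t = a ≫ φ.fU)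
    (h2 : r ≫ G.s = b ≫ φ.fU) : ∃ r' : T ⟶ G'.R, r' ≫ G'.t = a ∧ r' ≫ G'.s = b := by
  have e1 : φ.prodMap ≫ pullback.fst G.pU G.pU = pullback.fst G'.pU G'.pU ≫ φ.fU :=
    pullback.lift_fst _ _ _
  have e2 : φ.prodMap ≫ pullback.snd G.pU G.pU = pullback.snd G'.pU G'.pU ≫ φ.fU :=
    pullback.lift_snd _ _ _
  have hab : a ≫ G'.pU = b ≫ G'.pU := by
    rw [← φ.fU_over, ← Category.assoc, ← h1, ← Category.assoc, ← h2, Category.assoc, Category.assoc,
      G.t_over, G.s_over]
  have hr : r ≫ G.j = pullback.lift a b hab ≫ φ.prodMap := by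
    apply pullback.hom_ext
    · rw [Category.assoc, G.j_fst, Category.assoc, e1, pullback.lift_fst_assoc, h1]
    · rw [Category.assoc, G.j_snd, Category.assoc, e2, pullback.lift_snd_assoc, h2]
  let r' := hφ.lift r (pullback.lift a b hab) hr
  have hr' : r' ≫ G'.j = pullback.lift a b hab := hφ.lift_snd _ _ _
  exact ⟨r', by rw [← G'.j_fst, ← Category.assoc, hr', pullback.lift_fst],
    by rw [← G'.j_snd, ← Category.assoc, hr', pullback.lift_snd]⟩

theorem exists_restrict_lift' {s t : R ⟶ U} {g : U' ⟶ U} {s' t' : R' ⟶ U'} {ρ : R' ⟶ R}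
    (hsq : IsPullback (prod.lift t' s') ρ (prod.map g g) (prod.lift t s))
    {T : Sp S} (a b : T ⟶ U') (r : T ⟶ R) (h1 : r ≫ t = a ≫ g) (h2 : r ≫ s = b ≫ g) :
    ∃ r' : T ⟶ R', r' ≫ t' = a ∧ r' ≫ s' = b := by
  have hr : prod.lift a b ≫ prod.map g g = r ≫ prod.lift t s := by
    apply Limits.prod.hom_ext
    · simp [prod.lift_fst, h1]
    · simp [prod.lift_snd, h2]
  let r' := hsq.lift (prod.lift a b) r hr
  have hr' : r' ≫ prod.lift t' s' = prod.lift a b := hsq.lift_fst _ _ _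
  refine ⟨r', ?_, ?_⟩
  · simpa [prod.lift_fst] using congrArg (· ≫ prod.fst) hr'
  · simpa [prod.lift_snd] using congrArg (· ≫ prod.snd) hr'

end Groth.Agent.AlgSpLib
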