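import Groth.Agent.AlgSpLib.SchemeDescent
import Groth.Agent.AlgSpLib.QuotSpLemmas

/-!
Coproducts of sheaves: disjoint, jointly locally surjective open and closed summands; representable maps out of
them.
-/

universe u

open CategoryTheory CategoryTheory.Limits AlgebraicGeometry Opposite Topology
open AlgSp

noncomputable section

namespace Groth.Agent.AlgSpLib

set_option backward.isDefEq.respectTransparency.types false

variable {S : Scheme.{u}} {F G : Sp S} {ι : Type u}

/-- members of an fppf covering sieve which are open maps and jointly surjective -/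
theorem exists_open_members {T : Over S} {C : Sieve T} (hC : C ∈ J S T) (t : ↥T.left) :
    ∃ (T' : Over S) (f : T' ⟶ T), C f ∧ IsOpenMap f.left ∧ t ∈ Set.range f.left := by
  obtain ⟨R', hR', hle⟩ := exists_precoverage_of_mem hC
  have h : R' ∈ Scheme.precoverage (@Flat ⊓ @LocallyOfFinitePresentation) T.left := hR'
  obtain ⟨Z, f, hf, hft⟩ := Scheme.JointlySurjective.exists_eq R' h t
  obtain ⟨h1, h2⟩ := h.2 hf
  exact ⟨Over.mk (f ≫ T.hom), Over.homMk f, hle f hf, f.isOpenMap, hft⟩

theorem isEmpty_of_covering {T : Over S} {C : Sieve T} (hC : C ∈ J S T)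
    (h : ∀ ⦃T' : Over S⦄ (f : T' ⟶ T), C f → IsEmpty T'.left) : IsEmpty T.left :=
  ⟨fun t => by
    obtain ⟨T', f, hf, -, x, -⟩ := exists_open_members hC t
    exact (h f hf).false x⟩

theorem nonempty_hom_of_isEmpty (T : Over S) [IsEmpty T.left] (F : Sp S) :
    Nonempty ((yon S).obj T ⟶ F) := by
  obtain ⟨x, -, -⟩ := (isSheaf_iff_isSheaf_of_type _ _).1 F.property ⊥ (bot_mem_J T)
    (fun Y f hf => hf.elim) (fun Y₁ Y₂ W g₁ g₂ f₁ f₂ h₁ => h₁.elim)
  exact ⟨(J S).uliftYonedaEquiv.symm x⟩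

theorem isEmpty_hom_field {K : Type u} [Field K] {str : Spec (CommRingCat.of K) ⟶ S}
    (h : IsEmpty (Over.mk str).left) : False :=
  h.false (IsLocalRing.closedPoint K)

/-- a map lifting locally through a monomorphism lifts -/
theorem exists_lift_of_covering (i : F ⟶ G) [Mono i] {T : Over S} (a : (yon S).obj T ⟶ G) {C : Sieve T}
    (hC : C ∈ J S T)
    (h : ∀ ⦃T' : Over S⦄ (f : T' ⟶ T), C f → ∃ l, l ≫ i = (yon S).map f ≫ a) :
    ∃ l : (yon S).obj T ⟶ F, l ≫ i = a := by
  choose l hl using h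
  let x : Presieve.FamilyOfElements F.obj C.arrows := fun T' f hf => (J S).uliftYonedaEquiv (l f hf)
  have hx : x.Compatible := by
    intro Y₁ Y₂ W g₁ g₂ f₁ f₂ h₁ h₂ e
    show F.obj.map g₁.op ((J S).uliftYonedaEquiv (l f₁ h₁)) = F.obj.map g₂.op ((J S).uliftYonedaEquiv (l f₂ h₂))
    rw [GrothendieckTopology.uliftYonedaEquiv_naturality, GrothendieckTopology.uliftYonedaEquiv_naturality]
    congr 1
    rw [← cancel_mono i, Category.assoc, Category.assoc, hl, hl, ← Functor.map_comp_assoc,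
      ← Functor.map_comp_assoc, e]
  obtain ⟨t, ht, -⟩ := (isSheaf_iff_isSheaf_of_type _ _).1 F.property C hC x hx
  refine ⟨(J S).uliftYonedaEquiv.symm t, eq_of_covering hC fun T' f hf => ?_⟩
  rw [← hl f hf, ← Category.assoc]
  congr 1
  apply (J S).uliftYonedaEquiv.injective
  rw [← GrothendieckTopology.uliftYonedaEquiv_naturality, Equiv.apply_symm_apply]
  exact ht f hf

section cofan

variable {Fi : ι → Sp S} {c : Cofan Fi} (hc : IsColimit c)

/-- the coproduct presheaf -/
def sigmaPre (Fi : ι → Sp S) : PSp S where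
  obj T := Σ i, (Fi i).obj.obj T
  map f := ↾fun x => ⟨x.1, (Fi x.1).obj.map f x.2⟩
  map_id T := by
    apply ConcreteCategory.hom_ext
    intro x
    obtain ⟨i, a⟩ := x
    exact congrArg (fun b : (Fi i).obj.obj T => (⟨i, b⟩ : Σ j, (Fi j).obj.obj T))
      (Functor.map_id_apply (Fi i).obj T a)
  map_comp {X Y Z} f g := by
    apply ConcreteCategory.hom_ext
    intro x
    obtain ⟨i, a⟩ := x
    exact congrArg (fun b : (Fi i).obj.obj Z => (⟨i, b⟩ : Σ j, (Fi j).obj.obj Z))
      (Functor.map_comp_apply (Fi i).obj f g a)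

def sigmaPreι (Fi : ι → Sp S) (i : ι) : (Fi i).obj ⟶ sigmaPre Fi where
  app T := ↾fun a => ⟨i, a⟩
  naturality T T' f := by ext x; rfl

/-- the sheaf coproduct -/
def sigmaSheaf (Fi : ι → Sp S) : Sp S := (presheafToSheaf (J S) (Type (u + 1))).obj (sigmaPre Fi)

def sigmaSheafι (Fi : ι → Sp S) (i : ι) : Fi i ⟶ sigmaSheaf Fi :=
  ObjectProperty.homMk (sigmaPreι Fi i ≫ toSheafify (J S) (sigmaPre Fi))

def sigmaPreDesc {M : Sp S} (g : ∀ i, Fi i ⟶ M) : sigmaPre Fi ⟶ M.obj where
  app T := ↾fun x => (g x.1).hom.app T x.2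
  naturality T T' f := by
    ext x
    exact NatTrans.naturality_apply (g x.1).hom f x.2

include hc in
theorem exists_toSigma : ∃ θ : c.pt ⟶ sigmaSheaf Fi, (∀ i, c.inj i ≫ θ = sigmaSheafι Fi i) ∧ IsIso θ := by
  let θ := Cofan.IsColimit.desc hc (sigmaSheafι Fi)
  let ψ : sigmaSheaf Fi ⟶ c.pt :=
    ObjectProperty.homMk (sheafifyLift (J S) (sigmaPreDesc fun i => c.inj i) c.pt.property)
  have hψ : ∀ i, sigmaSheafι Fi i ≫ ψ = c.inj i := fun i => by
    ext1
    show (sigmaPreι Fi i ≫ toSheafify (J S) (sigmaPre Fi)) ≫ sheafifyLift (J S) _ _ = _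
    rw [Category.assoc, toSheafify_sheafifyLift]
    rfl
  have hθ : ∀ i, c.inj i ≫ θ = sigmaSheafι Fi i := fun i => Cofan.IsColimit.fac hc _ i
  refine ⟨θ, hθ, ψ, Cofan.IsColimit.hom_ext hc _ _ fun i => ?_, ?_⟩
  · rw [← Category.assoc, hθ, hψ, Category.comp_id]
  · apply ObjectProperty.hom_ext
    refine sheafify_hom_ext (J S) _ _ (sigmaSheaf Fi).property ?_
    ext T x
    obtain ⟨i, a⟩ := x
    have h1 : sigmaSheafι Fi i ≫ ψ ≫ θ = sigmaSheafι Fi i := by rw [← Category.assoc, hψ, hθ]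
    exact ConcreteCategory.congr_hom (congrArg (fun k : Fi i ⟶ sigmaSheaf Fi => k.hom.app T) h1) a

include hc in
/-- every point of a coproduct comes locally from a summand -/
theorem exists_covering_inj {T : Over S} (g : (yon S).obj T ⟶ c.pt) :
    ∃ C ∈ J S T, ∀ ⦃T' : Over S⦄ (f : T' ⟶ T), C f →
      ∃ i, ∃ l : (yon S).obj T' ⟶ Fi i, l ≫ c.inj i = (yon S).map f ≫ g := by
  obtain ⟨θ, hθ, _⟩ := exists_toSigma hc
  refine ⟨_, Presheaf.imageSieve_mem (J S) (toSheafify (J S) (sigmaPre Fi))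
    (U := op T) ((J S).uliftYonedaEquiv (g ≫ θ)), fun T' f hf => ?_⟩
  obtain ⟨⟨i, a⟩, ha⟩ := hf
  refine ⟨i, (J S).uliftYonedaEquiv.symm a, ?_⟩
  rw [← cancel_mono θ, Category.assoc, hθ, Category.assoc]
  apply (J S).uliftYonedaEquiv.injective
  rw [GrothendieckTopology.uliftYonedaEquiv_comp, Equiv.apply_symm_apply,
    ← GrothendieckTopology.uliftYonedaEquiv_naturality]
  exact ha

include hc in
/-- summands are disjoint and injective -/
theorem inj_eq_inj {T : Over S} {i j : ι} (a : (yon S).obj T ⟶ Fi i) (b : (yon S).obj T ⟶ Fi j)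
    (h : a ≫ c.inj i = b ≫ c.inj j) :
    (i ≠ j → IsEmpty T.left) ∧ ∀ e : i = j, a ≫ eqToHom (congrArg Fi e) = b := by
  obtain ⟨θ, hθ, _⟩ := exists_toSigma hc
  have h' : a ≫ sigmaSheafι Fi i = b ≫ sigmaSheafι Fi j := by
    rw [← hθ, ← hθ, ← Category.assoc, h, Category.assoc]
  have h'' : (toSheafify (J S) (sigmaPre Fi)).app (op T) ⟨i, (J S).uliftYonedaEquiv a⟩ =
      (toSheafify (J S) (sigmaPre Fi)).app (op T) ⟨j, (J S).uliftYonedaEquiv b⟩ := by
    have := congrArg (J S).uliftYonedaEquiv h'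
    rw [GrothendieckTopology.uliftYonedaEquiv_comp, GrothendieckTopology.uliftYonedaEquiv_comp] at this
    exact this
  have hmem := Presheaf.equalizerSieve_mem (J S) (toSheafify (J S) (sigmaPre Fi)) _ _ h''
  constructor
  · intro hij
    refine isEmpty_of_covering hmem fun T' f hf => absurd ?_ hij
    exact congrArg Sigma.fst hf
  · rintro rfl
    rw [eqToHom_refl, Category.comp_id]
    refine eq_of_covering hmem fun T' f hf => ?_
    apply (J S).uliftYonedaEquiv.injective
    rw [← GrothendieckTopology.uliftYonedaEquiv_naturality, ← GrothendieckTopology.uliftYonedaEquiv_naturality]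
    exact eq_of_heq (Sigma.mk.inj_iff.1 hf).2

include hc in
theorem mono_inj (i : ι) : Mono (c.inj i) := by
  have key : ∀ {T : Over S} (a b : (yon S).obj T ⟶ Fi i), a ≫ c.inj i = b ≫ c.inj i → a = b :=
    fun a b e => by simpa using (inj_eq_inj hc a b e).2 rfl
  refine ⟨fun {Z} x y e => ?_⟩
  ext T v
  obtain ⟨T⟩ := T
  have hk := key ((J S).uliftYonedaEquiv.symm v ≫ x) ((J S).uliftYonedaEquiv.symm v ≫ y)
    (by rw [Category.assoc, e, Category.assoc])
  have := congrArg (J S).uliftYonedaEquiv hk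
  rwa [GrothendieckTopology.uliftYonedaEquiv_comp, GrothendieckTopology.uliftYonedaEquiv_comp,
    Equiv.apply_symm_apply] at this

include hc in
theorem exists_point_inj (x : Points c.pt) : ∃ i, x ∈ Set.range (Points.map (c.inj i)) := by
  obtain ⟨K, _, str, a, rfl⟩ := exists_ptOfHom x
  obtain ⟨C, hC, h⟩ := exists_covering_inj hc a
  obtain ⟨T', f, hf, -, p, -⟩ := exists_open_members hC (IsLocalRing.closedPoint K)
  obtain ⟨i, l, hl⟩ := h f hf
  refine ⟨i, Points.ofPt l p, ?_⟩
  rw [Points.map_ofPt, hl, ofPt_map]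
  have e := ptOfHom_yon_map (𝟙 (Over.mk str)) a
  erw [(yon S).map_id, Category.id_comp] at e
  rw [e]
  congr 1
  exact Subsingleton.elim (α := ↥(Spec (CommRingCat.of K))) _ _

include hc in
theorem range_inj_disjoint {i j : ι} (hij : i ≠ j) :
    Disjoint (Set.range (Points.map (c.inj i))) (Set.range (Points.map (c.inj j))) := by
  refine Set.disjoint_left.2 ?_
  rintro _ ⟨x, rfl⟩ ⟨y, hy⟩
  obtain ⟨K, _, str, a, b, e, -, -⟩ := exists_of_map_eq hy.symm
  exact isEmpty_hom_field ((inj_eq_inj hc a b e).1 hij)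

include hc in
/-- the summands are representable by open and closed immersions -/
theorem repWith_inj (i : ι) : RepWith (@IsOpenImmersion ⊓ @IsClosedImmersion) (c.inj i) := by
  have := mono_inj hc
  refine MorphismProperty.relative.of_exists fun T g => ?_
  let A : ι → Set ↥T.left := fun j => Points.ofPt g ⁻¹' Set.range (Points.map (c.inj j))
  have hcov : ∀ t, ∃ j, t ∈ A j := fun t => exists_point_inj hc _
  have hdisj : ∀ {j k} {t : ↥T.left}, t ∈ A j → t ∈ A k → j = k := fun {j k t} h1 h2 =>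
    by_contra fun h => Set.disjoint_left.1 (range_inj_disjoint hc h) h1 h2
  obtain ⟨C, hC, hl⟩ := exists_covering_inj hc g
  have hopen : ∀ j, IsOpen (A j) := fun j => isOpen_iff_forall_mem_open.2 fun t ht => by
    obtain ⟨T', f, hf, ho, p, rfl⟩ := exists_open_members hC t
    obtain ⟨k, l, hk⟩ := hl f hf
    have hk' : ∀ q, f.left q ∈ A k := fun q =>
      ⟨Points.ofPt l q, by rw [Points.map_ofPt, hk, ofPt_map]⟩
    obtain rfl := hdisj ht (hk' p)
    exact ⟨Set.range f.left, fun _ ⟨q, hq⟩ => hq ▸ hk' q, ho.isOpen_range, p, rfl⟩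
  have hclosed : IsClosed (A i) := by
    rw [← isOpen_compl_iff]
    have : (A i)ᶜ = ⋃ j ∈ {j | j ≠ i}, A j := by
      ext t
      simp only [Set.mem_compl_iff, Set.mem_iUnion, Set.mem_ofPred_eq]
      refine ⟨fun h => ?_, fun ⟨j, hj, ht⟩ h => hj (hdisj ht h)⟩
      obtain ⟨j, hj⟩ := hcov t
      exact ⟨j, fun e => h (e ▸ hj), hj⟩
    rw [this]
    exact isOpen_biUnion fun j _ => hopen j
  obtain ⟨O, hO⟩ : ∃ O : T.left.Opens, (O : Set ↥T.left) = A i := ⟨⟨A i, hopen i⟩, rfl⟩
  let T₀ : Over S := Over.mk (O.ι ≫ T.hom)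
  let u : T₀ ⟶ T := Over.homMk O.ι
  obtain ⟨l, hlu⟩ : ∃ l, l ≫ c.inj i = (yon S).map u ≫ g := by
    refine exists_lift_of_covering _ _ ((J S).pullback_stable u hC) fun T' f hf => ?_
    obtain ⟨k, l, hk⟩ := hl (f ≫ u) hf
    rw [← Category.assoc, ← Functor.map_comp]
    rcases isEmpty_or_nonempty ↥T'.left with he | ⟨⟨p⟩⟩
    · obtain ⟨l'⟩ := nonempty_hom_of_isEmpty T' (Fi i)
      exact ⟨l', subsingleton_hom_of_isEmpty T' c.pt |>.elim _ _⟩
    · have h1 : (f ≫ u).left p ∈ A k := ⟨Points.ofPt l p, by rw [Points.map_ofPt, hk, ofPt_map]⟩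
      have h2 : (f ≫ u).left p ∈ A i := hO.subset (f.left p).2
      obtain rfl := hdisj h1 h2
      exact ⟨l, hk⟩
  refine ⟨T₀, l, u, isPullback_of_yon hlu fun K x y e => ?_, (by exact Scheme.Opens.instIsOpenImmersionι O), ?_⟩
  · obtain ⟨v, rfl⟩ := (yon S).map_surjective y
    have hv : Set.range v.left ⊆ Set.range O.ι := by
      rintro _ ⟨k, rfl⟩
      rw [Scheme.Opens.range_ι, hO]
      refine ⟨Points.ofPt x k, ?_⟩
      rw [Points.map_ofPt, e, ofPt_map]
    let m : K ⟶ T₀ := Over.homMk (IsOpenImmersion.lift O.ι v.left hv)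
      (by simp [T₀, IsOpenImmersion.lift_fac_assoc])
    have hm : m ≫ u = v := Over.OverMorphism.ext (IsOpenImmersion.lift_fac _ _ _)
    refine ⟨(yon S).map m, ⟨(cancel_mono (c.inj i)).1 ?_, by rw [← Functor.map_comp, hm]⟩, ?_⟩
    · rw [Category.assoc, hlu, ← Functor.map_comp_assoc, hm, e]
    · rintro z ⟨-, hz⟩
      have : Mono u := (Over.forget S).mono_of_mono_map (inferInstanceAs (Mono O.ι))
      obtain ⟨z, rfl⟩ := (yon S).map_surjective z
      rw [← Functor.map_comp] at hz
      have := (yon S).map_injective hz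
      rw [← hm, cancel_mono] at this
      rw [this]
  · refine IsClosedImmersion.of_isPreimmersion O.ι ?_
    rw [Scheme.Opens.range_ι, hO]
    exact hclosed

include hc in
theorem repWith_open_inj (i : ι) : RepWith @IsOpenImmersion (c.inj i) :=
  RepWith.mono inf_le_left (repWith_inj hc i)

end cofan

/-- representability of a map can be checked on an open covering of the source -/
theorem repWith_of_open_cover (P : MorphismProperty Scheme.{u}) [IsZariskiLocalAtSource P] {Xi : ι → Sp S} (j : ∀ i, Xi i ⟶ F) (hj : ∀ i, RepWith @IsOpenImmersion (j i))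
    (hs : ∀ x : Points F, ∃ i, x ∈ Set.range (Points.map (j i))) (f : F ⟶ G)
    (h : ∀ i, RepWith P (j i ≫ f)) : RepWith P f := by
  refine MorphismProperty.relative.of_exists fun T g => ?_
  have sq := IsPullback.of_hasPullback f g
  let W : ι → Over S := fun i => (h i).1.pullback g
  let k : ∀ i, (yon S).obj (W i) ⟶ pullback f g := fun i =>
    sq.lift ((h i).1.fst g ≫ j i) ((yon S).map ((h i).1.snd g))
      (by rw [Category.assoc]; exact ((h i).1.isPullback g).w)
  have hk1 : ∀ i, k i ≫ pullback.fst f g = (h i).1.fst g ≫ j i := fun i => sq.lift_fst _ _ _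
  have hk2 : ∀ i, k i ≫ pullback.snd f g = (yon S).map ((h i).1.snd g) := fun i => sq.lift_snd _ _ _
  have sqk : ∀ i, IsPullback ((h i).1.fst g) (k i) (j i) (pullback.fst f g) := fun i =>
    IsPullback.of_bot (by rw [hk2]; exact (h i).1.isPullback g) (hk1 i).symm sq
  have hko : ∀ i, RepWith @IsOpenImmersion (k i) := fun i => RepWith.baseChange (sqk i) (hj i)
  have hks : ∀ x : Points (pullback f g), ∃ i, x ∈ Set.range (Points.map (k i)) := fun x => by
    obtain ⟨i, y, hy⟩ := hs (Points.map (pullback.fst f g) x)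
    obtain ⟨z, -, hz⟩ := exists_point_of_isPullback (sqk i) hy
    exact ⟨i, z, hz⟩
  obtain ⟨W₀, ⟨e⟩⟩ := exists_iso_yon_of_openCover k hko hks
  obtain ⟨w, hw⟩ := (yon S).map_surjective (e.hom ≫ pullback.snd f g)
  refine ⟨W₀, e.hom ≫ pullback.fst f g, w, ?_, ?_⟩
  · rw [hw]
    exact sq.of_iso e.symm (Iso.refl _) (Iso.refl _) (Iso.refl _) (by simp) (by simp) (by simp) (by simp)
  · choose m hm using fun i => (yon S).map_surjective (k i ≫ e.inv)
    have hmo : ∀ i, IsOpenImmersion (m i).left := fun i => by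
      refine (repWith_yon_map_iff @IsOpenImmersion (m i)).1 ?_
      rw [hm]
      exact RepWith.comp (hko i) (repWith_of_isIso _ e.inv)
    have hmw : ∀ i, m i ≫ w = (h i).1.snd g := fun i => (yon S).map_injective (by
      rw [Functor.map_comp, hm, hw, Category.assoc, e.inv_hom_id_assoc, hk2])
    have hsup : TopologicalSpace.IsOpenCover fun i => (m i).left.opensRange := by
      refine TopologicalSpace.IsOpenCover.mk (eq_top_iff.2 fun t _ => ?_)
      obtain ⟨i, z, hz⟩ := hks (Points.map e.hom (Points.ofScheme W₀ t))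
      obtain ⟨p, rfl⟩ := (Points.schemeHomeo _).surjective z
      refine TopologicalSpace.Opens.mem_iSup.2 ⟨i, p, (Points.schemeHomeo W₀).injective ?_⟩
      show Points.ofScheme W₀ _ = Points.ofScheme W₀ t
      rw [← map_yon_map_ofScheme, hm, Points.map_comp]
      erw [hz]
      rw [← Points.map_comp, e.hom_inv_id, Points.map_id]
    let 𝒰 : W₀.left.OpenCover :=
      { I₀ := ι
        X := fun i => (W i).left
        f := fun i => (m i).left
        mem₀ := (Scheme.presieve₀_mem_precoverage_iff _).2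
          ⟨fun t => TopologicalSpace.Opens.mem_iSup.1 (hsup.iSup_eq_top.ge (Set.mem_univ t)), hmo⟩ }
    refine IsZariskiLocalAtSource.of_openCover (P := P) 𝒰 fun i => ?_
    show P ((m i).left ≫ w.left)
    rw [show (m i).left ≫ w.left = (m i ≫ w).left from rfl, hmw]
    exact (h i).property_snd g

/-- maps to a sheaf from a coproduct of schemes -/
theorem exists_etale_surjective_of_family (U : ι → Over S) (p : ∀ i, (yon S).obj (U i) ⟶ F)
    (he : ∀ i, RepWith @Etale (p i)) (hs : ∀ x : Points F, ∃ i, x ∈ Set.range (Points.map (p i))) :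
    ∃ ψ : (yon S).obj (sigmaOver U) ⟶ F, RepWith @Etale ψ ∧ RepWith @Surjective ψ := by
  obtain ⟨ψ, hψ, -⟩ := existsUnique_desc_sigma U p
  have hι : ∀ i, RepWith @IsOpenImmersion ((yon S).map (sigmaOverι U i)) := fun i =>
    (repWith_yon_map_iff _ _).2 (inferInstanceAs (IsOpenImmersion (Sigma.ι (fun i => (U i).left) i)))
  have hcov : ∀ x : Points ((yon S).obj (sigmaOver U)),
      ∃ i, x ∈ Set.range (Points.map ((yon S).map (sigmaOverι U i))) := fun x => by
    obtain ⟨t, rfl⟩ := (Points.schemeHomeo (sigmaOver U)).surjective x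
    obtain ⟨i, y, hy⟩ := exists_mem_range_sigmaOverι U t
    refine ⟨i, Points.schemeHomeo _ y, ?_⟩
    show Points.map _ (Points.ofScheme _ y) = Points.ofScheme _ t
    rw [map_yon_map_ofScheme, hy]
  have h1 : RepWith @Etale ψ := repWith_of_open_cover @Etale _ hι hcov ψ fun i => by rw [hψ]; exact he i
  refine ⟨ψ, h1, repWith_surjective_of_surjective_map h1.1 fun x => ?_⟩
  obtain ⟨i, y, rfl⟩ := hs x
  exact ⟨Points.map ((yon S).map (sigmaOverι U i)) y, by rw [← Points.map_comp, hψ]⟩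

theorem isAlgSpace_of_openImmersion {j : F ⟶ G} (hG : IsAlgSpace G) (hj : RepWith @IsOpenImmersion j) :
    IsAlgSpace F := by
  have : Mono j := mono_of_repWith (fun _ _ g (_ : IsOpenImmersion g) => (inferInstance : Mono g)) hj
  refine ⟨representable_diag_of_mono j hG.diag, ?_⟩
  obtain ⟨U, a, hae, has⟩ := hG.atlas
  exact ⟨hj.1.pullback a, hj.1.fst a, RepWith.baseChange (hj.1.isPullback a).flip hae,
    RepWith.baseChange (hj.1.isPullback a).flip has⟩

theorem isAlgSpace_of_open_family {Fi : ι → Sp S} (j : ∀ i, Fi i ⟶ F)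
    (hF : ∀ i, IsAlgSpace (Fi i)) (hj : ∀ i, RepWith @IsOpenImmersion (j i))
    (hs : ∀ x : Points F, ∃ i, x ∈ Set.range (Points.map (j i))) : IsAlgSpace F := by
  choose U p hpe hps using fun i => (hF i).atlas
  obtain ⟨ψ, h1, h2⟩ := exists_etale_surjective_of_family U (fun i => p i ≫ j i)
    (fun i => RepWith.comp (hpe i)
      (RepWith.mono (fun _ _ g (_ : IsOpenImmersion g) => (inferInstance : Etale g)) (hj i)))
    (fun x => by
      obtain ⟨i, y, rfl⟩ := hs x
      obtain ⟨z, rfl⟩ := surjective_map_of_repWith (hps i) y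
      exact ⟨i, z, Points.map_comp _ _ _⟩)
  exact isAlgSpace_of_etale_surjective (IsAlgSpace.yon_obj _) ψ h1 h2

theorem isAlgSpace_cofan {Fi : ι → Sp S} {c : Cofan Fi} (hc : IsColimit c) (hF : ∀ i, IsAlgSpace (Fi i)) :
    IsAlgSpace c.pt :=
  isAlgSpace_of_open_family (fun i => c.inj i) hF (repWith_open_inj hc) (exists_point_inj hc)

theorem surjective_map_of_isLocallySurjective {X Y : Sp S} (f : X ⟶ Y) (h : Sheaf.IsLocallySurjective f) :
    Function.Surjective (Points.map f) := fun y => by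
  obtain ⟨K, _, str, a, rfl⟩ := exists_ptOfHom y
  have : Presheaf.IsLocallySurjective (J S) f.hom := h
  have hC : Presheaf.imageSieve f.hom (U := Over.mk str) ((J S).uliftYonedaEquiv a) ∈ J S (Over.mk str) :=
    Presheaf.imageSieve_mem (J S) f.hom _
  obtain ⟨T', u, hu, -, p, -⟩ := exists_open_members hC (IsLocalRing.closedPoint K)
  obtain ⟨l, hl⟩ := (imageSieve_iff f a u).1 hu
  refine ⟨Points.ofPt l p, ?_⟩
  rw [Points.map_ofPt, hl, ofPt_map]
  have e := ptOfHom_yon_map (𝟙 (Over.mk str)) a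
  erw [(yon S).map_id, Category.id_comp] at e
  rw [e]
  congr 1
  exact Subsingleton.elim (α := ↥(Spec (CommRingCat.of K))) _ _

end Groth.Agent.AlgSpLib
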