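import Groth.Agent.AlgSpLib.SheafDescent
import Groth.Agent.AlgSpLib.QuotSpLemmas
import Groth.Agent.AlgSpLib.SheafCoprod
import Groth.Agent.AlgSpLib.DiagCrit

/-!
Quotients by equivalence relations: the kernel pair of the quotient map, representability of the diagonal of the
quotient of a scheme, etale quotients are algebraic spaces.
-/

universe u

open CategoryTheory CategoryTheory.Limits AlgebraicGeometry Opposite Topology
open AlgSp

noncomputable section

namespace Groth.Agent.AlgSpLib

set_option backward.isDefEq.respectTransparency.types false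

variable {S : Scheme.{u}}

/-- a covering sieve of an affine scheme is refined by an affine fppf covering -/
theorem exists_affine_refinement_of_covering {T : Over S} [IsAffine T.left] {C : Sieve T} (hC : C ∈ J S T) :
    ∃ (σ : Type u) (_ : Finite σ) (W : σ → Over S) (c : sigmaOver W ⟶ T), (∀ i, IsAffine (W i).left) ∧
      Flat c.left ∧ LocallyOfFinitePresentation c.left ∧ Surjective c.left ∧
      ∀ i, C (sigmaOverι W i ≫ c) := by
  obtain ⟨R', hR', hle⟩ := exists_precoverage_of_mem hC
  have h : R' ∈ Scheme.precoverage (@Flat ⊓ @LocallyOfFinitePresentation) T.left := hR'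
  have h0 : ∀ t : ↥T.left, ∃ (Z : Over S) (f : Z ⟶ T), C f ∧ IsAffine Z.left ∧ Flat f.left ∧
      LocallyOfFinitePresentation f.left ∧ t ∈ Set.range f.left := fun t => by
    obtain ⟨Z, f, hf, z, hz⟩ := Scheme.JointlySurjective.exists_eq R' h t
    obtain ⟨h1, h2⟩ := h.2 hf
    obtain ⟨O, hO, hzO, -⟩ := exists_isAffineOpen_mem_and_subset (U := ⊤) (x := z) trivial
    let j : Over.mk ((O.ι ≫ f) ≫ T.hom) ⟶ Over.mk (f ≫ T.hom) := Over.homMk O.ι (Category.assoc _ _ _).symm
    refine ⟨Over.mk ((O.ι ≫ f) ≫ T.hom), j ≫ (Over.homMk f : Over.mk (f ≫ T.hom) ⟶ T), C.downward_closed (hle f hf) j, hO,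
      (inferInstance : Flat (O.ι ≫ f)), (inferInstance : LocallyOfFinitePresentation (O.ι ≫ f)),
      ⟨z, hzO⟩, ?_⟩
    show f (O.ι ⟨z, hzO⟩) = t
    exact hz
  choose Z f hfC hZ hff hfp hft using h0
  obtain ⟨σ, hσ⟩ := isCompact_univ.elim_finite_subcover (fun t => Set.range (f t).left)
    (fun t => (f t).left.isOpenMap.isOpen_range) fun t _ => Set.mem_iUnion.2 ⟨t, hft t⟩
  let W : σ → Over S := fun i => Z i
  let c : sigmaOver W ⟶ T :=
    Over.homMk (Sigma.desc fun i : σ => (f i).left) (Sigma.hom_ext _ _ fun i => by simp [sigmaOver, W])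
  have hc : ∀ i, sigmaOverι W i ≫ c = f i := fun i => Over.OverMorphism.ext (Sigma.ι_desc _ _)
  refine ⟨σ, inferInstance, W, c, fun i => hZ i, IsZariskiLocalAtSource.sigmaDesc fun i => hff i,
    IsZariskiLocalAtSource.sigmaDesc fun i => hfp i, ⟨fun t => ?_⟩, fun i => by rw [hc]; exact hfC i⟩
  obtain ⟨x, hxσ, y, hy⟩ := Set.mem_iUnion₂.1 (hσ (Set.mem_univ t))
  refine ⟨(sigmaOverι W ⟨x, hxσ⟩).left y, ?_⟩
  rw [← Scheme.Hom.comp_apply, ← Over.comp_left, hc]
  exact hy

/-- lifts exist over an affine fppf covering -/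
theorem exists_affine_lift {U M : Sp S} (q : U ⟶ M) [Epi q] {T : Over S} [IsAffine T.left]
    (a b : (yon S).obj T ⟶ M) :
    ∃ (V : Over S) (c : V ⟶ T), IsAffine V.left ∧ Flat c.left ∧ LocallyOfFinitePresentation c.left ∧
      Surjective c.left ∧ ∃ x y : (yon S).obj V ⟶ U, x ≫ q = (yon S).map c ≫ a ∧
        y ≫ q = (yon S).map c ≫ b := by
  obtain ⟨Ca, hCa, ha⟩ := exists_covering_lift q a
  obtain ⟨Cb, hCb, hb⟩ := exists_covering_lift q b
  obtain ⟨σ, hσ, W, c, hW, h1, h2, h3, hc⟩ :=
    exists_affine_refinement_of_covering ((J S).intersection_covering hCa hCb)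
  choose x hx using fun i => ha _ (hc i).1
  choose y hy using fun i => hb _ (hc i).2
  obtain ⟨X, hX, -⟩ := existsUnique_desc_sigma W x
  obtain ⟨Y, hY, -⟩ := existsUnique_desc_sigma W y
  refine ⟨sigmaOver W, c, inferInstanceAs (IsAffine (∐ fun i => (W i).left)), h1, h2, h3, X, Y,
    (existsUnique_desc_sigma W fun i => (yon S).map (sigmaOverι W i ≫ c) ≫ a).unique (y₁ := X ≫ q) (fun i => ?_) (fun i => ?_),
    (existsUnique_desc_sigma W fun i => (yon S).map (sigmaOverι W i ≫ c) ≫ b).unique (y₁ := Y ≫ q) (fun i => ?_) (fun i => ?_)⟩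
  · rw [← Category.assoc, hX, hx]
  · rw [← Category.assoc, ← Functor.map_comp]
  · rw [← Category.assoc, hY, hy]
  · rw [← Category.assoc, ← Functor.map_comp]

instance epi_quotSpπ {R U : Sp S} (s t : R ⟶ U) : Epi (quotSpπ s t) :=
  inferInstanceAs (Epi (coequalizer.π s t))

/-- equivalence relations of sheaves are effective -/
theorem isPullback_quotSpπ {R U : Sp S} {s t : R ⟶ U} (h : IsEqvRelSp s t) :
    IsPullback t s (quotSpπ s t) (quotSpπ s t) := by
  have hw : t ≫ quotSpπ s t = s ≫ quotSpπ s t := (quotSp_condition s t).symm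
  let l : R ⟶ pullback (quotSpπ s t) (quotSpπ s t) := pullback.lift t s hw
  have : Mono l := ⟨fun {Z} a b e => by
    have e1 : a ≫ t = b ≫ t := by
      simpa [l, pullback.lift_fst] using congrArg (· ≫ pullback.fst _ _) e
    have e2 : a ≫ s = b ≫ s := by
      simpa [l, pullback.lift_snd] using congrArg (· ≫ pullback.snd _ _) e
    apply ObjectProperty.hom_ext
    ext T z
    obtain ⟨T⟩ := T
    have k1 := congrArg (fun x => (GrothendieckTopology.uliftYonedaEquiv.{u + 1} (J S)).symm z ≫ x) e1
    have k2 := congrArg (fun x => (GrothendieckTopology.uliftYonedaEquiv.{u + 1} (J S)).symm z ≫ x) e2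
    simp only [← Category.assoc] at k1 k2
    have hk := congrArg (J S).uliftYonedaEquiv (h.injective T _ _ k1 k2)
    rw [GrothendieckTopology.uliftYonedaEquiv_comp, GrothendieckTopology.uliftYonedaEquiv_comp,
      Equiv.apply_symm_apply] at hk
    exact hk⟩
  have : Sheaf.IsLocallySurjective l := ⟨fun {T} z => by
    let ζ := (GrothendieckTopology.uliftYonedaEquiv.{u + 1} (J S)).symm z
    obtain ⟨C, hC, hr⟩ := exists_covering_rel s t h.equivalence (ζ ≫ pullback.fst _ _)
      (ζ ≫ pullback.snd _ _) (by rw [Category.assoc, pullback.condition, ← Category.assoc])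
    refine (J S).superset_covering (fun T' f hf => ?_) hC
    obtain ⟨r, h1, h2⟩ := hr f hf
    have := (imageSieve_iff l ζ f).2 ⟨r, pullback.hom_ext
      (by rw [Category.assoc, pullback.lift_fst, h1, Category.assoc])
      (by rw [Category.assoc, pullback.lift_snd, h2, Category.assoc])⟩
    rwa [Equiv.apply_symm_apply] at this⟩
  have : Epi l := Sheaf.epi_of_isLocallySurjective l
  have : IsIso l := isIso_of_mono_of_epi l
  exact IsPullback.of_iso_pullback ⟨hw⟩ (asIso l) (pullback.lift_fst _ _ _) (pullback.lift_snd _ _ _)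

variable {R U : Over S} {s t : R ⟶ U}

theorem isEqvRelSp_yon (h : IsEqvRel s t) : IsEqvRelSp ((yon S).map s) ((yon S).map t) := by
  refine ⟨fun T r r' e1 e2 => ?_, fun T => ⟨fun a => ?_, fun {a b} hab => ?_, fun {a b d} hab hbd => ?_⟩⟩
  · obtain ⟨r, rfl⟩ := (yon S).map_surjective r
    obtain ⟨r', rfl⟩ := (yon S).map_surjective r'
    simp only [← Functor.map_comp] at e1 e2
    rw [h.injective T r r' ((yon S).map_injective e1) ((yon S).map_injective e2)]
  · obtain ⟨a, rfl⟩ := (yon S).map_surjective a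
    obtain ⟨r, h1, h2⟩ := (h.equivalence T).refl a
    exact ⟨(yon S).map r, by rw [← Functor.map_comp, h1], by rw [← Functor.map_comp, h2]⟩
  · obtain ⟨r, h1, h2⟩ := hab
    obtain ⟨a, rfl⟩ := (yon S).map_surjective a
    obtain ⟨b, rfl⟩ := (yon S).map_surjective b
    obtain ⟨r, rfl⟩ := (yon S).map_surjective r
    simp only [← Functor.map_comp] at h1 h2
    obtain ⟨r', k1, k2⟩ := (h.equivalence T).symm ⟨r, (yon S).map_injective h1, (yon S).map_injective h2⟩
    exact ⟨(yon S).map r', by rw [← Functor.map_comp, k1], by rw [← Functor.map_comp, k2]⟩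
  · obtain ⟨r₁, h1, h2⟩ := hab
    obtain ⟨r₂, h3, h4⟩ := hbd
    obtain ⟨a, rfl⟩ := (yon S).map_surjective a
    obtain ⟨b, rfl⟩ := (yon S).map_surjective b
    obtain ⟨d, rfl⟩ := (yon S).map_surjective d
    obtain ⟨r₁, rfl⟩ := (yon S).map_surjective r₁
    obtain ⟨r₂, rfl⟩ := (yon S).map_surjective r₂
    simp only [← Functor.map_comp] at h1 h2 h3 h4
    obtain ⟨r, k1, k2⟩ := (h.equivalence T).trans ⟨r₁, (yon S).map_injective h1, (yon S).map_injective h2⟩
      ⟨r₂, (yon S).map_injective h3, (yon S).map_injective h4⟩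
    exact ⟨(yon S).map r, by rw [← Functor.map_comp, k1], by rw [← Functor.map_comp, k2]⟩

/-- the diagonal of the quotient of a scheme by an equivalence relation locally of finite type -/
theorem representable_diag_quotSp (h : IsEqvRel s t) [LocallyOfFiniteType t.left] :
    Representable (Limits.diag (quotSp ((yon S).map s) ((yon S).map t))) := by
  let π := quotSpπ ((yon S).map s) ((yon S).map t)
  have sqK : IsPullback ((yon S).map t) ((yon S).map s) π π := isPullback_quotSpπ (isEqvRelSp_yon h)
  have sqd := isPullback_diag_prod_map sqK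
  have hj : RepWith @LocallyOfFiniteType (prod.lift ((yon S).map t) ((yon S).map s)) := by
    refine repWith_prod_lift t s ?_
    have : LocallyOfFiniteType (pullback.lift t.left s.left ((Over.w t).trans (Over.w s).symm) ≫
        pullback.fst U.hom U.hom) := by rw [pullback.lift_fst]; infer_instance
    exact locallyOfFiniteType_of_comp _ (pullback.fst U.hom U.hom)
  have hdm : Mono (Limits.diag (quotSp ((yon S).map s) ((yon S).map t))) :=
    ⟨fun a b h => by simpa [prod.lift_fst] using congrArg (· ≫ prod.fst) h⟩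
  have hjm : Mono (prod.lift ((yon S).map t) ((yon S).map s)) :=
    MorphismProperty.of_isPullback (P := MorphismProperty.monomorphisms (Sp S)) sqd hdm
  refine representable_of_affine _ fun T hT ξ => ?_
  obtain ⟨V, c, hV, hcf, hcp, hcs, x, y, hx, hy⟩ := exists_affine_lift π (ξ ≫ prod.fst) (ξ ≫ prod.snd)
  have hξ : prod.lift x y ≫ prod.map π π = (yon S).map c ≫ ξ := by
    apply Limits.prod.hom_ext
    · rw [prod.lift_map, prod.lift_fst, Category.assoc, hx]
    · rw [prod.lift_map, prod.lift_snd, Category.assoc, hy]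
  have sqW := hj.1.isPullback (prod.lift x y)
  let W := hj.1.pullback (prod.lift x y)
  let w : W ⟶ V := hj.1.snd (prod.lift x y)
  have : LocallyOfFiniteType w.left := hj.property_snd _
  have : Mono w.left := (repWith_monomorphisms_of_mono hj.1).2 _ _ _ sqW
  have : LocallyQuasiFinite w.left := lqf_of_mono_lft w.left
  have sqE := IsPullback.of_hasPullback (Limits.diag (quotSp ((yon S).map s) ((yon S).map t))) ξ
  have sqEV := sqW.paste_horiz sqd
  rw [hξ] at sqEV
  let k := sqE.lift _ ((yon S).map w ≫ (yon S).map c) (sqEV.w.trans (Category.assoc _ _ _).symm)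
  have sqk : IsPullback k ((yon S).map w) (pullback.snd (Limits.diag _) ξ) ((yon S).map c) :=
    IsPullback.of_right (h₁₂ := pullback.fst _ _) (by rw [sqE.lift_fst]; exact sqEV)
      (sqE.lift_snd _ _ _) sqE
  obtain ⟨G, ⟨e⟩⟩ := exists_iso_yon_of_fppf_descent c w sqk
  obtain ⟨g, hg⟩ := (yon S).map_surjective (e.hom ≫ pullback.snd _ ξ)
  refine ⟨G, g, e.hom ≫ pullback.fst _ _, ?_⟩
  exact sqE.of_iso e.symm (Iso.refl _) (Iso.refl _) (Iso.refl _) (by simp) (by simp [hg]) (by simp)
    (by simp)

/-- properties of the quotient map -/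
theorem repWith_quotSpπ (h : IsEqvRel s t) [LocallyOfFiniteType t.left] (P : MorphismProperty Scheme.{u})
    [P.IsStableUnderBaseChange] [P.IsLocalAtTarget Scheme.fppfPrecoverage] (hs : P s.left) :
    RepWith P (quotSpπ ((yon S).map s) ((yon S).map t)) := by
  have sqK := isPullback_quotSpπ (isEqvRelSp_yon h)
  have : Sheaf.IsLocallySurjective (quotSpπ ((yon S).map s) ((yon S).map t)) :=
    (Sheaf.isLocallySurjective_iff_epi' (Type (u + 1)) _).2 inferInstance
  exact repWith_of_isLocallySurjective (representable_diag_iff.1 (representable_diag_quotSp h) _) _ sqK P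
    ((repWith_yon_map_iff P s).2 hs)

theorem repWith_surjective_quotSpπ (h : IsEqvRel s t) [LocallyOfFiniteType t.left] :
    RepWith @Surjective (quotSpπ ((yon S).map s) ((yon S).map t)) :=
  repWith_surjective_of_surjective_map (representable_diag_iff.1 (representable_diag_quotSp h) _)
    (surjective_map_of_isLocallySurjective _
      ((Sheaf.isLocallySurjective_iff_epi' (Type (u + 1)) _).2 inferInstance))

/-- an etale equivalence relation gives a presentation of its quotient -/
theorem isPresentation_quotSp (h : IsEtaleEqvRel s t) :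
    IsPresentation s t (quotSpπ ((yon S).map s) ((yon S).map t)) := by
  have := h.etale_right
  have := etLocal_etale.{u}.localTarget
  exact ⟨h, repWith_quotSpπ h.toIsEqvRel @Etale h.etale_left, repWith_surjective_quotSpπ h.toIsEqvRel,
    isPullback_quotSpπ (isEqvRelSp_yon h.toIsEqvRel)⟩

theorem isAlgSpace_quotSp (h : IsEtaleEqvRel s t) :
    IsAlgSpace (quotSp ((yon S).map s) ((yon S).map t)) := by
  have := h.etale_right
  exact ⟨representable_diag_quotSp h.toIsEqvRel, U, _, (isPresentation_quotSp h).etale,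
    (isPresentation_quotSp h).surjective⟩

theorem repMap_comp_repIso {V W : Over S} (g : V ⟶ W) :
    QuotSh.repMap Scheme.fppfPrecoverage g ≫ (QuotSh.repIsoUliftYoneda Scheme.fppfPrecoverage W).hom =
      (QuotSh.repIsoUliftYoneda Scheme.fppfPrecoverage V).hom ≫ (yon S).map g := by
  rw [← Iso.eq_comp_inv, Category.assoc, ← Iso.inv_comp_eq]
  exact ((sheafificationNatIso (J S) (Type (u + 1))).hom.naturality ((yon S).map g)).symm

/-- the quotient of `QuotSh` is the quotient of the representable sheaves -/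
theorem exists_iso_quot (s t : R ⟶ U) :
    ∃ e : quotSp ((yon S).map s) ((yon S).map t) ≅ QuotSh.quot Scheme.fppfPrecoverage s t,
      quotSpπ ((yon S).map s) ((yon S).map t) ≫ e.hom =
        (QuotSh.repIsoUliftYoneda Scheme.fppfPrecoverage U).inv ≫ QuotSh.quotπ Scheme.fppfPrecoverage s t := by
  let eR := QuotSh.repIsoUliftYoneda Scheme.fppfPrecoverage R
  let eU := QuotSh.repIsoUliftYoneda Scheme.fppfPrecoverage U
  have hn : ∀ g : R ⟶ U, (yon S).map g ≫ eU.inv = eR.inv ≫ QuotSh.repMap Scheme.fppfPrecoverage g :=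
    fun g => by rw [Iso.eq_inv_comp, ← Category.assoc, ← repMap_comp_repIso, Category.assoc,
      Iso.hom_inv_id, Category.comp_id]
  let f : quotSp ((yon S).map s) ((yon S).map t) ⟶ QuotSh.quot Scheme.fppfPrecoverage s t :=
    quotSpDesc (eU.inv ≫ QuotSh.quotπ Scheme.fppfPrecoverage s t) (by
      rw [← Category.assoc, ← Category.assoc, hn, hn, Category.assoc, Category.assoc,
        QuotSh.quot_condition])
  let g : QuotSh.quot Scheme.fppfPrecoverage s t ⟶ quotSp ((yon S).map s) ((yon S).map t) :=
    coequalizer.desc (eU.hom ≫ quotSpπ _ _) (by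
      rw [← Category.assoc, ← Category.assoc, repMap_comp_repIso, repMap_comp_repIso, Category.assoc,
        Category.assoc, quotSp_condition])
  have hf : quotSpπ ((yon S).map s) ((yon S).map t) ≫ f =
      eU.inv ≫ QuotSh.quotπ Scheme.fppfPrecoverage s t := quotSpπ_desc _ _ _ _
  have hg : QuotSh.quotπ Scheme.fppfPrecoverage s t ≫ g = eU.hom ≫ quotSpπ _ _ := coequalizer.π_desc _ _
  refine ⟨⟨f, g, ?_, ?_⟩, hf⟩
  · rw [← cancel_epi (quotSpπ ((yon S).map s) ((yon S).map t)), ← Category.assoc, hf, Category.assoc, hg,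
      Iso.inv_hom_id_assoc, Category.comp_id]
  · have : Epi (QuotSh.quotπ Scheme.fppfPrecoverage s t) := inferInstanceAs (Epi (coequalizer.π _ _))
    rw [← cancel_epi (QuotSh.quotπ Scheme.fppfPrecoverage s t), ← Category.assoc, hg, Category.assoc, hf,
      Iso.hom_inv_id_assoc, Category.comp_id]

end Groth.Agent.AlgSpLib

namespace Groth.Agent.AlgSpLib

variable {S : Scheme.{u}} {R U R' U' : Over S} {s t : R ⟶ U}

/-- the quotient of a restriction along a flat morphism locally of finite presentation is an open subsheaf -/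
theorem repWith_isOpenImmersion_quotSp_restrict (h : IsEqvRel s t) [Flat s.left]
    [LocallyOfFinitePresentation s.left] [LocallyOfFiniteType t.left] {s' t' : R' ⟶ U'} {r : R' ⟶ R}
    (g : U' ⟶ U) (hsq : IsPullback (prod.lift t' s') r (prod.map g g) (prod.lift t s))
    [Flat g.left] [LocallyOfFinitePresentation g.left]
    (ψ : quotSp ((yon S).map s') ((yon S).map t') ⟶ quotSp ((yon S).map s) ((yon S).map t))
    (hψ : quotSpπ ((yon S).map s') ((yon S).map t') ≫ ψ =
      (yon S).map g ≫ quotSpπ ((yon S).map s) ((yon S).map t)) :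
    RepWith @IsOpenImmersion ψ := by
  have : Mono ψ := by
    refine mono_of_restrict (isEqvRelSp_yon h).equivalence ((yon S).map g) (fun T a b q h1 h2 => ?_) ψ hψ
    obtain ⟨a, rfl⟩ := (yon S).map_surjective a
    obtain ⟨b, rfl⟩ := (yon S).map_surjective b
    obtain ⟨q, rfl⟩ := (yon S).map_surjective q
    simp only [← Functor.map_comp] at h1 h2
    replace h1 := (yon S).map_injective h1
    replace h2 := (yon S).map_injective h2
    obtain ⟨l, l1, -⟩ := hsq.exists_lift (prod.lift a b) q (by
      apply Limits.prod.hom_ext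
      · rw [prod.lift_map, prod.lift_fst, Category.assoc, prod.lift_fst, h1]
      · rw [prod.lift_map, prod.lift_snd, Category.assoc, prod.lift_snd, h2])
    refine ⟨(yon S).map l, ?_, ?_⟩
    · rw [← Functor.map_comp]
      exact congrArg _ (by simpa [prod.lift_fst] using congrArg (· ≫ prod.fst) l1)
    · rw [← Functor.map_comp]
      exact congrArg _ (by simpa [prod.lift_snd] using congrArg (· ≫ prod.snd) l1)
  let π := quotSpπ ((yon S).map s) ((yon S).map t)
  have := etLocal_flat.{u}.localTarget
  have := etLocal_lfp.{u}.localTarget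
  have hf : RepWith @Flat ((yon S).map g ≫ π) :=
    RepWith.comp ((repWith_yon_map_iff _ g).2 ‹_›) (repWith_quotSpπ h @Flat ‹_›)
  have hp : RepWith @LocallyOfFinitePresentation ((yon S).map g ≫ π) :=
    RepWith.comp ((repWith_yon_map_iff _ g).2 ‹_›) (repWith_quotSpπ h @LocallyOfFinitePresentation ‹_›)
  let O : Set (Points (quotSp ((yon S).map s) ((yon S).map t))) := Set.range (Points.ofPt ((yon S).map g ≫ π))
  have hO : IsOpen O := (isOpenMap_ofPt_of_flat _ hf hp).isOpen_range
  let j := openSubspaceι _ O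
  have hj := repWith_openSubspaceι _ hO
  obtain ⟨l, hl⟩ := (exists_lift_openSubspace_iff O ((yon S).map g ≫ π)).2 fun u => ⟨u, rfl⟩
  have : Epi (quotSpπ ((yon S).map s') ((yon S).map t')) := inferInstance
  let ψ' : quotSp ((yon S).map s') ((yon S).map t') ⟶ openSubspace _ O := quotSpDesc l (by
    rw [← cancel_mono j, Category.assoc, Category.assoc, hl, ← hψ, ← Category.assoc, ← Category.assoc,
      quotSp_condition])
  have hψ' : ψ' ≫ j = ψ := by
    rw [← cancel_epi (quotSpπ ((yon S).map s') ((yon S).map t')), ← Category.assoc, quotSpπ_desc, hl, hψ]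
  have : Mono ψ' := by
    have : Mono (ψ' ≫ j) := by rw [hψ']; infer_instance
    exact mono_of_mono ψ' j
  have sql : IsPullback l (𝟙 _) j ((yon S).map g ≫ π) := by
    refine ⟨⟨by rw [hl, Category.id_comp]⟩, ⟨PullbackCone.IsLimit.mk _ (fun c => c.snd) (fun c => ?_)
      (fun c => Category.comp_id _) (fun c m _ hm => by simpa using hm)⟩⟩
    rw [← cancel_mono j, Category.assoc, hl, c.condition]
  have hlj : ∀ {P : MorphismProperty Scheme.{u}} [P.IsStableUnderBaseChange], RepWith P ((yon S).map g ≫ π) →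
      RepWith P l := fun {P} _ hP => RepWith.baseChange sql.flip hP
  have hlr : Representable l := (hlj hf).1
  have := isLocallySurjective_of_repWith (hlj hf) (hlj hp)
    (repWith_surjective_of_surjective_map hlr fun x => by
      obtain ⟨v, hv⟩ : Points.map j x ∈ O := (range_openSubspaceι _ O).subset ⟨x, rfl⟩
      refine ⟨Points.ofScheme U' v, injective_map_of_mono j ?_⟩
      rw [← hv, ← Points.map_comp, hl, ← Points.ofPt_eq_map_ofScheme])
  have : Epi l := Sheaf.epi_of_isLocallySurjective l
  have : Epi ψ' := by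
    have : Epi (quotSpπ ((yon S).map s') ((yon S).map t') ≫ ψ') := by rw [quotSpπ_desc]; infer_instance
    exact epi_of_epi (quotSpπ ((yon S).map s') ((yon S).map t')) ψ'
  have : IsIso ψ' := isIso_of_mono_of_epi ψ'
  rw [← hψ']
  exact RepWith.comp (repWith_of_isIso _ ψ') hj

end Groth.Agent.AlgSpLib
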