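import Groth.Agent.AlgSpLib.EtaleQuotRing
import Groth.Agent.AlgSpLib.EqvQuot
import Mathlib.RingTheory.Ideal.Pure
import Mathlib.RingTheory.Ideal.IdempotentFG
import Mathlib.RingTheory.Flat.EquationalCriterion
import Mathlib.RingTheory.Flat.Rank
import Mathlib.AlgebraicGeometry.Morphisms.Finite

/-!
The quotient of an affine scheme by a finite etale equivalence relation is affine.
-/

universe u

open CategoryTheory CategoryTheory.Limits AlgebraicGeometry TensorProduct
open AlgSp

noncomputable section

namespace Groth.Agent.AlgSpLib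

set_option backward.isDefEq.respectTransparency.types false

theorem exists_sum_of_mem_closure {A B : Type u} [CommRing A] [CommRing B] (s t : A →+* B) {z : B}
    (h : z ∈ Subring.closure (Set.range s ∪ Set.range t)) :
    ∃ (n : ℕ) (x y : Fin n → A), z = ∑ i, s (x i) * t (y i) := by
  let μ : A ⊗[ℤ] A →ₐ[ℤ] B :=
    Algebra.TensorProduct.lift s.toIntAlgHom t.toIntAlgHom fun _ _ => Commute.all _ _
  have hle : Subring.closure (Set.range s ∪ Set.range t) ≤ μ.toRingHom.range := Subring.closure_le.2 (by
    rintro w (⟨a, rfl⟩ | ⟨b, rfl⟩)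
    · exact ⟨a ⊗ₜ 1, by simp [μ]⟩
    · exact ⟨1 ⊗ₜ b, by simp [μ]⟩)
  obtain ⟨w, rfl⟩ := hle h
  obtain ⟨σ, rfl⟩ := TensorProduct.exists_finset w
  refine ⟨σ.card, fun i => (σ.equivFin.symm i).1.1, fun i => (σ.equivFin.symm i).1.2, ?_⟩
  rw [σ.equivFin.symm.sum_comp (fun p : σ => s p.1.1 * t p.1.2), σ.sum_coe_sort fun p => s p.1 * t p.2]
  simp [μ]

variable {S : Scheme.{u}}

/-- a sheaf with a finite etale covering by an affine scheme, with affine kernel, is affine -/
theorem exists_affine_quot {V R Z : Over S} [IsAffine V.left] [IsAffine R.left] [IsAffine Z.left] {W : Sp S}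
    (f : W ⟶ (yon S).obj Z) (p : (yon S).obj V ⟶ W) [Epi p] {s t : R ⟶ V}
    (sqK : IsPullback ((yon S).map t) ((yon S).map s) p p) [Etale s.left] [Etale t.left] [IsFinite t.left]
    (hgen : Subring.closure (Set.range s.left.appTop ∪ Set.range t.left.appTop) = ⊤) :
    ∃ C : Over S, IsAffine C.left ∧ Nonempty ((yon S).obj C ≅ W) := by
  obtain ⟨d, hd⟩ := (yon S).map_surjective (sqK.lift (𝟙 _) (𝟙 _) rfl)
  have hdt : d ≫ t = 𝟙 V := (yon S).map_injective (by
    rw [Functor.map_comp, hd, sqK.lift_fst, CategoryTheory.Functor.map_id])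
  have hds : d ≫ s = 𝟙 V := (yon S).map_injective (by
    rw [Functor.map_comp, hd, sqK.lift_snd, CategoryTheory.Functor.map_id])
  have hdt' : d.left ≫ t.left = 𝟙 _ := congrArg (fun k => k.left) hdt
  have hds' : d.left ≫ s.left = 𝟙 _ := congrArg (fun k => k.left) hds
  have : Etale (d.left ≫ t.left) := by rw [hdt']; infer_instance
  have : Etale d.left := Etale.of_comp d.left t.left
  have hde : d.left.appTop.hom.Flat := HasRingHomProperty.appTop (P := @Flat) d.left inferInstance
  have htfin : t.left.appTop.hom.Finite :=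
    ((HasAffineProperty.iff_of_isAffine (P := @IsFinite)).1 ‹IsFinite t.left›).2
  have hse : t.left.appTop ≫ d.left.appTop = 𝟙 _ := by
    rw [← Scheme.Hom.comp_appTop, hdt']; rfl
  have hse' : s.left.appTop ≫ d.left.appTop = 𝟙 _ := by
    rw [← Scheme.Hom.comp_appTop, hds']; rfl
  have hsur : Function.Surjective d.left.appTop := fun a =>
    ⟨t.left.appTop a, congrArg (fun k => k.hom a) hse⟩
  -- the idempotent of the diagonal
  let I := RingHom.ker d.left.appTop.hom
  have : I.Pure := by
    algebraize [d.left.appTop.hom]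
    exact Module.Flat.of_linearEquiv
      (Ideal.quotientKerAlgEquivOfSurjective (f := Algebra.ofId Γ(R.left, ⊤) Γ(V.left, ⊤)) hsur).toLinearEquiv
  have hIfg : I.FG := by
    algebraize [t.left.appTop.hom]
    obtain ⟨σ, hσ⟩ := (inferInstance : Module.Finite Γ(V.left, ⊤) Γ(R.left, ⊤)).fg_top
    classical
    refine ⟨σ.image fun z => z - t.left.appTop (d.left.appTop z), le_antisymm (Ideal.span_le.2 ?_) ?_⟩
    · intro w hw
      obtain ⟨z, -, rfl⟩ := Finset.mem_image.1 hw
      show d.left.appTop (z - t.left.appTop (d.left.appTop z)) = 0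
      rw [map_sub, show d.left.appTop (t.left.appTop (d.left.appTop z)) = d.left.appTop z from
        congrArg (fun k => k.hom (d.left.appTop z)) hse, sub_self]
    · have key : ∀ z : Γ(R.left, ⊤), z - t.left.appTop (d.left.appTop z) ∈
          Ideal.span ((σ.image fun z => z - t.left.appTop (d.left.appTop z) : Finset _) : Set Γ(R.left, ⊤)) := by
        intro z
        have hz : z ∈ Submodule.span Γ(V.left, ⊤) (σ : Set Γ(R.left, ⊤)) := by rw [hσ]; trivial
        induction hz using Submodule.span_induction with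
        | mem x hx => exact Ideal.subset_span (Finset.mem_image_of_mem _ hx)
        | zero => simp
        | add x y _ _ hx hy =>
          rw [map_add, map_add, add_sub_add_comm]
          exact add_mem hx hy
        | smul a x _ hx =>
          rw [Algebra.smul_def]
          show t.left.appTop a * x - t.left.appTop (d.left.appTop (t.left.appTop a * x)) ∈ _
          rw [map_mul d.left.appTop.hom, show d.left.appTop (t.left.appTop a) = a from
            congrArg (fun k => k.hom a) hse, map_mul t.left.appTop.hom, ← mul_sub]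
          exact Ideal.mul_mem_left _ _ hx
      intro z hz
      simpa [show d.left.appTop z = 0 from hz] using key z
  obtain ⟨g, hg, hIg⟩ := (Ideal.isIdempotentElem_iff_of_fg I hIfg).1 (Ideal.isIdempotentElem_of_pure I)
  have hεz : ∀ z, (1 - g) * z = (1 - g) * t.left.appTop (d.left.appTop z) := fun z => by
    have : z - t.left.appTop (d.left.appTop z) ∈ I := by
      show d.left.appTop _ = 0
      rw [map_sub, show d.left.appTop (t.left.appTop (d.left.appTop z)) = d.left.appTop z from
        congrArg (fun k => k.hom (d.left.appTop z)) hse, sub_self]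
    rw [hIg] at this
    obtain ⟨k, hk⟩ := Ideal.mem_span_singleton'.1 this
    rw [← sub_eq_zero, ← mul_sub, ← hk, sub_mul, one_mul, mul_comm k, ← mul_assoc, hg, sub_self]
  have hε : d.left.appTop (1 - g) = 1 := by
    have : g ∈ I := hIg ▸ Ideal.mem_span_singleton_self g
    rw [map_sub, map_one, show d.left.appTop g = 0 from this, sub_zero]
  obtain ⟨n, x, y, hxy⟩ := exists_sum_of_mem_closure s.left.appTop.hom t.left.appTop.hom
    (z := 1 - g) (hgen ▸ trivial)
  have htproj : letI := t.left.appTop.hom.toAlgebra; Module.Projective Γ(V.left, ⊤) Γ(R.left, ⊤) := by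
    algebraize [t.left.appTop.hom]
    have h1 : t.left.appTop.hom.FinitePresentation :=
      HasRingHomProperty.appTop (P := @LocallyOfFinitePresentation) t.left inferInstance
    have h2 : t.left.appTop.hom.Flat := HasRingHomProperty.appTop (P := @Flat) t.left inferInstance
    have : Algebra.FinitePresentation Γ(V.left, ⊤) Γ(R.left, ⊤) := h1
    have : Module.Flat Γ(V.left, ⊤) Γ(R.left, ⊤) := h2
    have : Module.FinitePresentation Γ(V.left, ⊤) Γ(R.left, ⊤) :=
      Module.FinitePresentation.of_finite_of_finitePresentation _ _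
    exact Module.Flat.projective_of_finitePresentation
  -- the square of the relation
  let R₂ : Over S := Over.mk (pullback.fst s.left t.left ≫ R.hom)
  let i₁ : R₂ ⟶ R := Over.homMk (pullback.fst s.left t.left)
  let i₂ : R₂ ⟶ R := Over.homMk (pullback.snd s.left t.left) (by
    show _ = pullback.fst s.left t.left ≫ R.hom
    conv_lhs => rw [← Over.w t]
    conv_rhs => rw [← Over.w s]
    rw [pullback.condition_assoc])
  have sq₁ : IsPullback i₁ i₂ s t :=
    IsPullback.of_map (Over.forget S) (Over.OverMorphism.ext pullback.condition)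
      (IsPullback.of_hasPullback s.left t.left)
  have : IsAffine R₂.left := inferInstanceAs (IsAffine (pullback s.left t.left))
  obtain ⟨c, hc⟩ := (yon S).map_surjective (sqK.lift ((yon S).map i₁ ≫ (yon S).map t)
    ((yon S).map i₂ ≫ (yon S).map s) (by
      rw [Category.assoc, Category.assoc, sqK.w, ← Category.assoc, ← Functor.map_comp, sq₁.w,
        Functor.map_comp, Category.assoc, sqK.w]))
  have hct : c ≫ t = i₁ ≫ t := (yon S).map_injective (by
    rw [Functor.map_comp, hc, sqK.lift_fst, Functor.map_comp])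
  have hcs : c ≫ s = i₂ ≫ s := (yon S).map_injective (by
    rw [Functor.map_comp, hc, sqK.lift_snd, Functor.map_comp])
  have sq₂ : IsPullback i₁ c t t := by
    refine IsPullback.of_map (yon S) hct.symm ?_
    have h1 := ((sq₁.map (yon S)).flip.paste_horiz sqK.flip)
    rw [← Functor.map_comp, ← hcs, Functor.map_comp, ← sqK.w] at h1
    exact (IsPullback.of_right h1 (by rw [← Functor.map_comp, ← Functor.map_comp, hct]) sqK.flip).flip
  obtain ⟨hfinA, hprojA, μ, hμ⟩ := invariants_of_etale_eqvRel s.left.appTop t.left.appTop d.left.appTop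
    hse' hse (1 - g) hε hεz x y hxy hgen htfin htproj i₁.left.appTop i₂.left.appTop c.left.appTop
    (isPushout_appTop_of_isPullback (sq₁.map (Over.forget S)))
    (isPushout_appTop_of_isPullback (sq₂.map (Over.forget S)))
    (by rw [← Scheme.Hom.comp_appTop, ← Scheme.Hom.comp_appTop, ← Over.comp_left, hcs]; rfl)
  -- the quotient
  let E : Subring Γ(V.left, ⊤) := s.left.appTop.hom.eqLocus t.left.appTop.hom
  let i : CommRingCat.of E ⟶ Γ(V.left, ⊤) := CommRingCat.ofHom E.subtype
  obtain ⟨u, hu⟩ := (yon S).map_surjective (p ≫ f)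
  have hsu : s ≫ u = t ≫ u := (yon S).map_injective (by
    rw [Functor.map_comp, Functor.map_comp, hu, ← Category.assoc, ← sqK.w, Category.assoc])
  let j : Γ(Z.left, ⊤) ⟶ CommRingCat.of E := CommRingCat.ofHom (u.left.appTop.hom.codRestrict E
    fun x => by
      have e := congrArg (fun ψ : R ⟶ Z => ψ.left.appTop.hom x) hsu
      simp only [Over.comp_left, Scheme.Hom.comp_appTop] at e
      exact e)
  have hji : j ≫ i = u.left.appTop := rfl
  let cl : Spec (CommRingCat.of E) ⟶ Z.left := Spec.map j ≫ Z.left.isoSpec.inv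
  let C : Over S := Over.mk (cl ≫ Z.hom)
  let ql : V.left ⟶ Spec (CommRingCat.of E) := V.left.toSpecΓ ≫ Spec.map i
  have hqu : ql ≫ cl = u.left := by
    simp [ql, cl, ← Spec.map_comp_assoc, hji, ← Scheme.toSpecΓ_naturality_assoc]
  let q : V ⟶ C := Over.homMk ql (by
    show ql ≫ cl ≫ Z.hom = _
    rw [← Category.assoc, hqu, Over.w u])
  have : IsAffine C.left := inferInstanceAs (IsAffine (Spec (CommRingCat.of E)))
  have hpush : IsPushout i i s.left.appTop t.left.appTop := by
    letI : Algebra E Γ(R.left, ⊤) := (s.left.appTop.hom.comp E.subtype).toAlgebra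
    refine (CommRingCat.isPushout_tensorProduct E Γ(V.left, ⊤) Γ(V.left, ⊤)).of_iso (Iso.refl _)
      (Iso.refl _) (Iso.refl _) μ.toCommRingCatIso (by rfl) (by rfl) ?_ ?_
    · ext a
      show μ (a ⊗ₜ 1) = s.left.appTop a
      rw [hμ, map_one, mul_one]
    · ext a
      show μ (1 ⊗ₜ a) = t.left.appTop a
      rw [hμ, map_one, one_mul]
  have sqq : IsPullback t s q q := by
    have hqt : t ≫ q = s ≫ q := Over.OverMorphism.ext (by
      show t.left ≫ ql = s.left ≫ ql
      simp only [ql, Scheme.toSpecΓ_naturality_assoc, ← Spec.map_comp]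
      rw [hpush.w])
    refine IsPullback.of_map (Over.forget S) hqt ?_
    refine (isPullback_SpecMap_of_isPushout i i s.left.appTop t.left.appTop hpush).flip.of_iso
      R.left.isoSpec.symm V.left.isoSpec.symm V.left.isoSpec.symm (Iso.refl _) ?_ ?_ ?_ ?_
    · exact Scheme.isoSpec_inv_naturality t.left
    · exact Scheme.isoSpec_inv_naturality s.left
    · show Spec.map i ≫ 𝟙 _ = V.left.isoSpec.inv ≫ V.left.isoSpec.hom ≫ Spec.map i
      simp
    · show Spec.map i ≫ 𝟙 _ = V.left.isoSpec.inv ≫ V.left.isoSpec.hom ≫ Spec.map i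
      simp
  have hifin : i.hom.Finite := hfinA
  have : Module.Flat E Γ(V.left, ⊤) := inferInstance
  have hif : i.hom.Flat := this
  have hifp : i.hom.FinitePresentation := by
    have : Module.FinitePresentation E Γ(V.left, ⊤) :=
      Module.finitePresentation_of_projective E Γ(V.left, ⊤)
    exact Algebra.FinitePresentation.of_finitePresentation E Γ(V.left, ⊤)
  have : IsIso V.left.toSpecΓ := IsAffine.affine
  have : Flat (Spec.map i) := HasRingHomProperty.Spec_iff.2 hif
  have : LocallyOfFinitePresentation (Spec.map i) := HasRingHomProperty.Spec_iff.2 hifp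
  have hqs : Surjective ql := by
    have : Surjective (Spec.map i) := ⟨(PrimeSpectrum.comap_surjective_iff_injective_of_finite).2 Subtype.val_injective⟩
    infer_instance
  have hq1 : Flat q.left := inferInstanceAs (Flat (V.left.toSpecΓ ≫ Spec.map i))
  have hq2 : LocallyOfFinitePresentation q.left :=
    inferInstanceAs (LocallyOfFinitePresentation (V.left.toSpecΓ ≫ Spec.map i))
  have := isLocallySurjective_of_repWith (a := (yon S).map q) ((repWith_yon_map_iff _ q).2 hq1)
    ((repWith_yon_map_iff _ q).2 hq2) ((repWith_yon_map_iff _ q).2 hqs)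
  have : Epi ((yon S).map q) := Sheaf.epi_of_isLocallySurjective _
  have : IsRegularEpiCategory (Sp S) :=
    inferInstanceAs (IsRegularEpiCategory (Sheaf (J S) (Type (u + 1))))
  have : IsRegularEpi ((yon S).map q) := IsRegularEpiCategory.regularEpiOfEpi _
  have : IsRegularEpi p := IsRegularEpiCategory.regularEpiOfEpi p
  have sqq' := sqq.map (yon S)
  let F : (yon S).obj C ⟶ W := EffectiveEpi.desc ((yon S).map q) p fun g₁ g₂ h => by
    obtain ⟨l, rfl, rfl⟩ := sqq'.exists_lift g₁ g₂ h
    rw [Category.assoc, Category.assoc, sqK.w]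
  let G : W ⟶ (yon S).obj C := EffectiveEpi.desc p ((yon S).map q) fun g₁ g₂ h => by
    obtain ⟨l, rfl, rfl⟩ := sqK.exists_lift g₁ g₂ h
    rw [Category.assoc, Category.assoc, sqq'.w]
  have hF : (yon S).map q ≫ F = p := EffectiveEpi.fac _ _ _
  have hG : p ≫ G = (yon S).map q := EffectiveEpi.fac _ _ _
  refine ⟨C, inferInstance, ⟨⟨F, G, ?_, ?_⟩⟩⟩
  · rw [← cancel_epi ((yon S).map q), ← Category.assoc, hF, hG, Category.comp_id]
  · rw [← cancel_epi p, ← Category.assoc, hG, hF, Category.comp_id]

end Groth.Agent.AlgSpLib
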