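import Groth.Agent.AlgSpLib.Basic
import Mathlib.CategoryTheory.MorphismProperty.Local

/-!
fppf coverings in `Over S`, descent of representable properties along surjections of sheaves.
-/

universe u

open CategoryTheory CategoryTheory.Limits AlgebraicGeometry Opposite
open AlgSp

namespace Groth.Agent.AlgSpLib

set_option backward.isDefEq.respectTransparency.types false

instance fppfPrecoverage_hasIsos : Scheme.fppfPrecoverage.{u}.HasIsos :=
  have : MorphismProperty.ContainsIdentities
      ((@Flat ⊓ @LocallyOfFinitePresentation : MorphismProperty Scheme.{u})) :=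
    ⟨fun X => ⟨(inferInstance : Flat (𝟙 X)), (inferInstance : LocallyOfFinitePresentation (𝟙 X))⟩⟩
  inferInstanceAs (Scheme.precoverage (@Flat ⊓ @LocallyOfFinitePresentation)).HasIsos

theorem etale_le_flat : @Etale.{u} ≤ @Flat := fun _ _ f h => by
  have : Etale f := h
  exact (inferInstance : Flat f)

theorem etale_le_lfp : @Etale.{u} ≤ @LocallyOfFinitePresentation := fun _ _ f h => by
  have : Etale f := h
  exact (inferInstance : LocallyOfFinitePresentation f)

theorem etale_le_lft : @Etale.{u} ≤ @LocallyOfFiniteType := fun _ _ f h => by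
  have : Etale f := h
  exact (inferInstance : LocallyOfFiniteType f)

variable {S : Scheme.{u}}

/-- a covering sieve of `T` contains an fppf covering family of `T.left` -/
theorem exists_precoverage_of_mem {T : Over S} {R : Sieve T} (hR : R ∈ J S T) :
    ∃ R' ∈ Scheme.fppfPrecoverage T.left,
      ∀ ⦃Z : Scheme.{u}⦄ (f : Z ⟶ T.left), R' f → R (Over.homMk f : Over.mk (f ≫ T.hom) ⟶ T) := by
  have : Sieve.overEquiv T R ∈ Scheme.fppfPrecoverage.toGrothendieck T.left := hR
  rw [Precoverage.mem_toGrothendieck_iff_of_isStableUnderComposition] at this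
  obtain ⟨R', hR', hle⟩ := this
  exact ⟨R', hR', fun Z f hf => (Sieve.overEquiv_iff R f).1 (hle _ _ hf)⟩

/-- a flat lfp surjection generates a covering sieve -/
theorem mem_J_of_flat_lfp_surjective {V T : Over S} (f : V ⟶ T) [Flat f.left]
    [LocallyOfFinitePresentation f.left] [Surjective f.left] {R : Sieve T} (hR : R f) :
    R ∈ J S T := by
  show Sieve.overEquiv T R ∈ Scheme.fppfPrecoverage.toGrothendieck T.left
  rw [Precoverage.mem_toGrothendieck_iff_of_isStableUnderComposition]
  refine ⟨Presieve.singleton f.left, Scheme.Hom.singleton_mem_fppfPrecoverage f.left, ?_⟩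
  rintro _ _ ⟨⟩
  rw [Sieve.overEquiv_iff]
  have e : (Over.homMk f.left : Over.mk (f.left ≫ T.hom) ⟶ T) =
      (Over.homMk (𝟙 V.left) ((Category.id_comp _).trans (Over.w f).symm) :
        Over.mk (f.left ≫ T.hom) ⟶ V) ≫ f := Over.OverMorphism.ext (Category.id_comp _).symm
  rw [e]
  exact R.downward_closed hR _

variable {F G H : Sp S}

/-- `g : h_T ⟶ G` lifts through `b : H ⟶ G` along `u` iff `u` is in the image sieve -/
theorem imageSieve_iff (b : H ⟶ G) {T T' : Over S} (g : (yon S).obj T ⟶ G) (u : T' ⟶ T) :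
    Presheaf.imageSieve b.hom ((J S).uliftYonedaEquiv g) u ↔
      ∃ h : (yon S).obj T' ⟶ H, h ≫ b = (yon S).map u ≫ g := by
  constructor
  · rintro ⟨t, ht⟩
    refine ⟨(J S).uliftYonedaEquiv.symm t, (J S).uliftYonedaEquiv.injective ?_⟩
    rw [GrothendieckTopology.uliftYonedaEquiv_comp, Equiv.apply_symm_apply, ht,
      GrothendieckTopology.uliftYonedaEquiv_naturality]
  · rintro ⟨h, hh⟩
    refine ⟨(J S).uliftYonedaEquiv h, ?_⟩
    rw [← GrothendieckTopology.uliftYonedaEquiv_comp, hh,
      GrothendieckTopology.uliftYonedaEquiv_naturality]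

theorem isLocallySurjective_of_lifts (b : H ⟶ G)
    (h : ∀ ⦃T : Over S⦄ (g : (yon S).obj T ⟶ G), ∃ (T' : Over S) (u : T' ⟶ T),
      Flat u.left ∧ LocallyOfFinitePresentation u.left ∧ Surjective u.left ∧
        ∃ h : (yon S).obj T' ⟶ H, h ≫ b = (yon S).map u ≫ g) :
    Sheaf.IsLocallySurjective b := by
  refine ⟨fun {T} s => ?_⟩
  obtain ⟨T', u, h1, h2, h3, h4⟩ := h ((J S).uliftYonedaEquiv.symm s)
  refine mem_J_of_flat_lfp_surjective u ?_
  have := (imageSieve_iff b _ u).2 h4
  rwa [Equiv.apply_symm_apply] at this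

theorem isLocallySurjective_of_repWith {a : F ⟶ G} (h₁ : RepWith @Flat a)
    (h₂ : RepWith @LocallyOfFinitePresentation a) (h₃ : RepWith @Surjective a) :
    Sheaf.IsLocallySurjective a :=
  isLocallySurjective_of_lifts a fun T g =>
    ⟨h₁.1.pullback g, h₁.1.snd g, h₁.property_snd g, h₂.2 g _ _ (h₁.1.isPullback g),
      h₃.2 g _ _ (h₁.1.isPullback g), _, h₁.1.w g⟩

/-- testing a property of a morphism of schemes over `S` on an fppf covering sieve -/
theorem of_covering {P : MorphismProperty Scheme.{u}}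
    [P.IsLocalAtTarget Scheme.fppfPrecoverage] {T V : Over S} (f : V ⟶ T) {R : Sieve T}
    (hR : R ∈ J S T) (h : ∀ ⦃T' : Over S⦄ (u : T' ⟶ T), R u → P (pullback.snd f u).left) :
    P f.left := by
  obtain ⟨R', hR', hle⟩ := exists_precoverage_of_mem hR
  refine MorphismProperty.IsLocalAtTarget.of_forall_pullbackSnd hR' ?_
  intro U u _ hu
  let u' : Over.mk (u ≫ T.hom) ⟶ T := Over.homMk u
  have sq := (IsPullback.of_hasPullback f u').map (Over.forget S)
  have e : pullback.snd f.left u = sq.isoPullback.inv ≫ (pullback.snd f u').left :=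
    sq.isoPullback_inv_snd.symm
  rw [e]
  exact (P.cancel_left_of_respectsIso _ _).2 (h u' (hle u hu))

theorem repWith_of_isLocallySurjective {a : F ⟶ G} (ha : Representable a) (b : H ⟶ G)
    [Sheaf.IsLocallySurjective b] {Q : Sp S} {b' : Q ⟶ F} {a' : Q ⟶ H} (sq : IsPullback b' a' a b)
    (P : MorphismProperty Scheme.{u}) [P.IsLocalAtTarget Scheme.fppfPrecoverage]
    (h : RepWith P a') : RepWith P a := by
  refine ⟨ha, fun T V g fst snd sq₁ => ?_⟩
  refine of_covering snd (Presheaf.imageSieve_mem (J S) b.hom ((J S).uliftYonedaEquiv g)) ?_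
  intro T' u hu
  obtain ⟨l, hl⟩ := (imageSieve_iff b g u).1 hu
  have sq₂ := (IsPullback.of_hasPullback snd u).map (yon S)
  have sq₃ : IsPullback ((yon S).map (pullback.fst snd u) ≫ fst)
      ((yon S).map (pullback.snd snd u)) a (l ≫ b) := by
    rw [hl]
    exact sq₂.paste_horiz sq₁
  exact h.2 l (sq.lift ((yon S).map (pullback.fst snd u) ≫ fst)
    ((yon S).map (pullback.snd snd u) ≫ l) (by simpa using sq₃.w)) _
    (IsPullback.of_right' sq₃ sq)

theorem isLocallySurjective_of_etale {a : F ⟶ G} (he : RepWith @Etale a)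
    (hs : RepWith @Surjective a) : Sheaf.IsLocallySurjective a :=
  isLocallySurjective_of_repWith (RepWith.mono etale_le_flat he) (RepWith.mono etale_le_lfp he) hs

end Groth.Agent.AlgSpLib
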