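import Groth.Agent.AlgSpLib.Points
import Mathlib.CategoryTheory.Sites.Subsheaf
import Mathlib.Topology.LocallyClosed

/-!
The topology of points of a sheaf, etale charts, open subspaces.
-/

universe u

open CategoryTheory CategoryTheory.Limits AlgebraicGeometry Opposite Topology
open AlgSp

noncomputable section

namespace Groth.Agent.AlgSpLib

set_option backward.isDefEq.respectTransparency.types false

variable {S : Scheme.{u}} {F G H : Sp S}

theorem map_yon_map_ofScheme {T T' : Over S} (φ : T ⟶ T') (t : ↥T.left) :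
    Points.map ((yon S).map φ) (Points.ofScheme T t) = Points.ofScheme T' (φ.left t) :=
  Points.map_yon_map_apply φ t

theorem ofPt_eq_ofPt_iff {R U V : Over S} {fst : R ⟶ U} {snd : R ⟶ V} {a : (yon S).obj U ⟶ F}
    {b : (yon S).obj V ⟶ F} (sq : IsPullback ((yon S).map fst) ((yon S).map snd) a b)
    (u : ↥U.left) (v : ↥V.left) :
    Points.ofPt a u = Points.ofPt b v ↔ ∃ r : ↥R.left, fst.left r = u ∧ snd.left r = v := by
  constructor
  · intro h
    rw [Points.ofPt_eq_map_ofScheme, Points.ofPt_eq_map_ofScheme] at h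
    obtain ⟨z, h1, h2⟩ := exists_point_of_isPullback sq h
    obtain ⟨r, rfl⟩ := (Points.schemeEquiv R).surjective z
    refine ⟨r, (Points.schemeEquiv U).injective ?_, (Points.schemeEquiv V).injective ?_⟩
    · exact (map_yon_map_ofScheme fst r).symm.trans h1
    · exact (map_yon_map_ofScheme snd r).symm.trans h2
  · rintro ⟨r, rfl, rfl⟩
    rw [← ofPt_map, ← ofPt_map, sq.w]

theorem isOpenMap_ofPt {U : Over S} (a : (yon S).obj U ⟶ F) (ha : RepWith @Etale a) :
    IsOpenMap (Points.ofPt a) := by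
  intro W hW
  refine Points.isOpen_iff.2 fun T g => ?_
  have sq := ha.1.isPullback' g
  have : Etale (ha.1.snd g).left := ha.property_snd g
  have e : Points.ofPt g ⁻¹' (Points.ofPt a '' W) =
      (ha.1.snd g).left '' ((ha.1.fst' g).left ⁻¹' W) := by
    ext t
    constructor
    · rintro ⟨u, hu, h⟩
      obtain ⟨r, hr1, hr2⟩ := (ofPt_eq_ofPt_iff sq u t).1 h
      exact ⟨r, show (ha.1.fst' g).left r ∈ W from hr1 ▸ hu, hr2⟩
    · rintro ⟨r, hr, rfl⟩
      exact ⟨_, hr, (ofPt_eq_ofPt_iff sq _ _).2 ⟨r, rfl, rfl⟩⟩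
  rw [e]
  exact (ha.1.snd g).left.isOpenMap _ (hW.preimage (ha.1.fst' g).left.continuous)

theorem surjective_ofPt {U : Over S} (a : (yon S).obj U ⟶ F) (ha : RepWith @Surjective a) :
    Function.Surjective (Points.ofPt a) := fun x => by
  obtain ⟨z, rfl⟩ := surjective_map_of_repWith ha x
  obtain ⟨t, rfl⟩ := (Points.schemeEquiv U).surjective z
  exact ⟨t, Points.ofPt_eq_map_ofScheme a t⟩

theorem repWith_surjective_of_surjective_ofPt {U : Over S} (a : (yon S).obj U ⟶ F)
    (hr : Representable a) (h : Function.Surjective (Points.ofPt a)) : RepWith @Surjective a :=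
  repWith_surjective_of_surjective_map hr fun x => by
    obtain ⟨t, rfl⟩ := h x
    exact ⟨_, (Points.ofPt_eq_map_ofScheme a t).symm⟩

theorem isOpenQuotientMap_ofPt {U : Over S} (a : (yon S).obj U ⟶ F) (he : RepWith @Etale a)
    (hs : RepWith @Surjective a) : IsOpenQuotientMap (Points.ofPt a) :=
  ⟨surjective_ofPt a hs, Points.continuous_ofPt a, isOpenMap_ofPt a he⟩

theorem injective_map_of_mono (f : F ⟶ G) [Mono f] : Function.Injective (Points.map f) := by
  intro x y h
  obtain ⟨Ω, _, w, a, b, e, rfl, rfl⟩ := exists_of_map_eq h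
  rw [cancel_mono] at e
  rw [e]

theorem isEmbedding_map_of_immersion (hG : IsAlgSpace G) {i : F ⟶ G}
    (hi : RepWith @IsImmersion i) :
    IsEmbedding (Points.map i) ∧ IsLocallyClosed (Set.range (Points.map i)) := by
  have : Mono i := mono_of_repWith (fun _ _ f (_ : IsImmersion f) => (inferInstance : Mono f)) hi
  obtain ⟨U, a, hae, has⟩ := hG.atlas
  have sq := hi.1.isPullback a
  have hsnd : IsImmersion (hi.1.snd a).left := hi.property_snd a
  have hpre : Points.ofPt a ⁻¹' Set.range (Points.map i) = Set.range (hi.1.snd a).left := by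
    ext u
    constructor
    · rintro ⟨z, hz⟩
      rw [Points.ofPt_eq_map_ofScheme] at hz
      obtain ⟨v, -, hv⟩ := exists_point_of_isPullback sq hz
      obtain ⟨r, rfl⟩ := (Points.schemeEquiv _).surjective v
      exact ⟨r, (Points.schemeEquiv U).injective ((map_yon_map_ofScheme _ r).symm.trans hv)⟩
    · rintro ⟨r, rfl⟩
      exact ⟨Points.ofPt (hi.1.fst a) r, by rw [Points.map_ofPt, sq.w, ofPt_map]⟩
  refine ⟨⟨⟨le_antisymm (Points.continuous_map i).le_induced fun W hW => ?_⟩,
    injective_map_of_mono i⟩, ?_⟩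
  · let v : ↥(hi.1.pullback a).left → Points F := Points.ofPt (hi.1.fst a)
    obtain ⟨O, hO, hOW⟩ := (hsnd.isEmbedding (f := (hi.1.snd a).left)).isInducing.isOpen_iff.1
      (hW.preimage (Points.continuous_ofPt (hi.1.fst a)))
    refine ⟨Points.ofPt a '' O, isOpenMap_ofPt a hae O hO, ?_⟩
    ext z
    obtain ⟨r, rfl⟩ : ∃ r, v r = z := surjective_ofPt _ (RepWith.baseChange sq.flip has) z
    have hv : Points.map i (v r) = Points.ofPt a ((hi.1.snd a).left r) := by
      rw [Points.map_ofPt, sq.w, ofPt_map]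
    constructor
    · rintro ⟨o, ho, he⟩
      rw [Points.ofPt_eq_map_ofScheme] at he
      obtain ⟨q, hq1, hq2⟩ := exists_point_of_isPullback sq he.symm
      obtain ⟨r', rfl⟩ := (Points.schemeEquiv _).surjective q
      have e1 : v r' = v r := by
        rw [← hq1]; exact Points.ofPt_eq_map_ofScheme _ _
      have e2 : (hi.1.snd a).left r' = o :=
        (Points.schemeEquiv U).injective ((map_yon_map_ofScheme _ r').symm.trans hq2)
      rw [← e1]
      refine (Set.ext_iff.1 hOW r').1 ?_
      show (hi.1.snd a).left r' ∈ O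
      rw [e2]
      exact ho
    · intro hr
      exact ⟨_, (Set.ext_iff.1 hOW r).2 hr, hv.symm⟩
  · have hlc : IsLocallyClosed (Set.range (hi.1.snd a).left) :=
      (hi.1.snd a).left.isLocallyClosed_range
    rw [← hpre, isLocallyClosed_iff_isOpen_coborder,
      coborder_preimage (isOpenMap_ofPt a hae) (Points.continuous_ofPt a)] at hlc
    rw [isLocallyClosed_iff_isOpen_coborder]
    exact (isOpenQuotientMap_ofPt a hae has).isQuotientMap.isOpen_preimage.1 hlc

theorem isPullback_of_yon {P : Sp S} {fst : P ⟶ F} {snd : P ⟶ G} {f : F ⟶ H} {g : G ⟶ H}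
    (w : fst ≫ f = snd ≫ g)
    (h : ∀ ⦃T : Over S⦄ (x : (yon S).obj T ⟶ F) (y : (yon S).obj T ⟶ G), x ≫ f = y ≫ g →
      ∃! l : (yon S).obj T ⟶ P, l ≫ fst = x ∧ l ≫ snd = y) :
    IsPullback fst snd f g := by
  refine IsPullback.of_map (sheafToPresheaf _ _) w ?_
  refine IsPullback.of_forall_isPullback_app fun T => ?_
  rw [Types.isPullback_iff]
  let E := fun (K : Sp S) => GrothendieckTopology.uliftYonedaEquiv.{u + 1} (J := J S) (F := K) (X := T.unop)
  have key : ∀ {K L : Sp S} (φ : K ⟶ L) (z : (yon S).obj T.unop ⟶ K),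
      φ.hom.app T (E K z) = E L (z ≫ φ) :=
    fun φ z => (GrothendieckTopology.uliftYonedaEquiv_comp _ z φ).symm
  refine ⟨by ext z; exact ConcreteCategory.congr_hom (congrArg (fun (q : P ⟶ H) => q.hom.app T) w) z,
    fun p q hpq => ?_, fun x y hxy => ?_⟩
  · obtain ⟨l, rfl⟩ := (E P).surjective p
    obtain ⟨m, rfl⟩ := (E P).surjective q
    obtain ⟨h1, h2⟩ := hpq
    have h1' : l ≫ fst = m ≫ fst := (E F).injective (by rw [← key, ← key]; exact h1)
    have h2' : l ≫ snd = m ≫ snd := (E G).injective (by rw [← key, ← key]; exact h2)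
    obtain ⟨n, -, hn⟩ := h (m ≫ fst) (m ≫ snd) (by rw [Category.assoc, Category.assoc, w])
    rw [hn l ⟨h1', h2'⟩, hn m ⟨rfl, rfl⟩]
  · obtain ⟨a, rfl⟩ := (E F).surjective x
    obtain ⟨b, rfl⟩ := (E G).surjective y
    obtain ⟨l, ⟨h1, h2⟩, -⟩ := h a b ((E H).injective (by rw [← key, ← key]; exact hxy))
    exact ⟨E P l, (key fst l).trans (congrArg _ h1), (key snd l).trans (congrArg _ h2)⟩

theorem isIso_of_sections {f : F ⟶ G} [Mono f]
    (h : ∀ ⦃T : Over S⦄ (y : (yon S).obj T ⟶ G), ∃ x, x ≫ f = y) : IsIso f := by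
  have sq : IsPullback f (𝟙 F) (𝟙 G) f := IsPullback.of_vert_isIso ⟨by simp⟩
  have sq2 : IsPullback f f (𝟙 G) (𝟙 G) := isPullback_of_yon (by simp) fun T x y e => by
    obtain ⟨l, rfl⟩ := h x
    refine ⟨l, ⟨rfl, by simpa using e⟩, fun m hm => (cancel_mono f).1 hm.1⟩
  exact sq2.isIso_fst_of_isIso

theorem isIso_of_repWith_isomorphisms {f : F ⟶ G}
    (hf : RepWith (MorphismProperty.isomorphisms Scheme.{u}) f) : IsIso f := by
  have : Mono f := mono_of_repWith (fun _ _ g (_ : IsIso g) => (inferInstance : Mono g)) hf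
  refine isIso_of_sections fun T y => ?_
  have : IsIso (hf.1.snd y).left := hf.property_snd y
  have : IsIso (hf.1.snd y) := by
    have : IsIso ((Over.forget S).map (hf.1.snd y)) := this
    exact isIso_of_reflects_iso _ (Over.forget S)
  exact ⟨(yon S).map (inv (hf.1.snd y)) ≫ hf.1.fst y, by
    rw [Category.assoc, hf.1.w, ← Functor.map_comp_assoc, IsIso.inv_hom_id]
    erw [(yon S).map_id, Category.id_comp]⟩

/-- factorisation through an open subspace is decided on points -/
theorem exists_lift_iff_range_subset {X X' : Sp S} {j : X' ⟶ X}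
    (hj : RepWith @IsOpenImmersion j) (f : F ⟶ X) :
    (∃ g : F ⟶ X', g ≫ j = f) ↔ Set.range (Points.map f) ⊆ Set.range (Points.map j) := by
  refine ⟨?_, fun h => ?_⟩
  · rintro ⟨g, rfl⟩ _ ⟨x, rfl⟩
    exact ⟨_, (Points.map_comp g j x).symm⟩
  · have sq := IsPullback.of_hasPullback j f
    have hsnd : RepWith @IsOpenImmersion (pullback.snd j f) := RepWith.baseChange sq hj
    have hsur : RepWith @Surjective (pullback.snd j f) :=
      repWith_surjective_of_surjective_map hsnd.1 fun x => by
        obtain ⟨x', hx'⟩ := h ⟨x, rfl⟩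
        obtain ⟨z, -, hz⟩ := exists_point_of_isPullback sq hx'
        exact ⟨z, hz⟩
    have : IsIso (pullback.snd j f) := isIso_of_repWith_isomorphisms
      ⟨hsnd.1, fun U V g fst snd s => by
        have h1 : IsOpenImmersion snd.left := hsnd.2 g fst snd s
        have h2 : Surjective snd.left := hsur.2 g fst snd s
        show IsIso snd.left
        exact (isIso_iff_isOpenImmersion_and_epi_base _).2
          ⟨h1, (TopCat.epi_iff_surjective _).2 snd.left.surjective⟩⟩
    exact ⟨inv (pullback.snd j f) ≫ pullback.fst j f, by simp [pullback.condition]⟩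

/-- the subpresheaf of sections landing in a set of points -/
def openSubfunctor (F : Sp S) (W : Set (Points F)) : Subfunctor F.obj where
  obj T := {s | ∀ t, Points.ofPt ((J S).uliftYonedaEquiv.symm s) t ∈ W}
  map {T T'} u s hs t := by
    rw [show F.obj.map u s = F.obj.map u.unop.op s from rfl,
      ← GrothendieckTopology.uliftYonedaEquiv_symm_naturality_left, ofPt_map]
    exact hs _

theorem openSubfunctor_isSheaf (F : Sp S) (W : Set (Points F)) :
    Presieve.IsSheaf (J S) (openSubfunctor F W).toFunctor := by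
  refine (Subfunctor.isSheaf_iff _ ((isSheaf_iff_isSheaf_of_type _ _).1 F.2)).2 fun T s hs t => ?_
  obtain ⟨R', hR', hle⟩ := exists_precoverage_of_mem hs
  rw [Precoverage.mem_iff_exists_zeroHypercover] at hR'
  obtain ⟨E, rfl⟩ := hR'
  obtain ⟨i, r, rfl⟩ := ((Scheme.presieve₀_mem_precoverage_iff
    (P := @Flat ⊓ @LocallyOfFinitePresentation) E.toPreZeroHypercover).1 E.mem₀).1 t
  have := hle (E.f i) ⟨i⟩ r
  rw [← GrothendieckTopology.uliftYonedaEquiv_symm_naturality_left, ofPt_map] at this
  exact this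

/-- the open subspace of `F` with points `W` -/
def openSubspace (F : Sp S) (W : Set (Points F)) : Sp S :=
  ⟨(openSubfunctor F W).toFunctor,
    (isSheaf_iff_isSheaf_of_type _ _).2 (openSubfunctor_isSheaf F W)⟩

def openSubspaceι (F : Sp S) (W : Set (Points F)) : openSubspace F W ⟶ F :=
  ⟨(openSubfunctor F W).ι⟩

instance (F : Sp S) (W : Set (Points F)) : Mono (openSubspaceι F W) :=
  (sheafToPresheaf _ _).mono_of_mono_map
    (show Mono (openSubfunctor F W).ι from inferInstance)

theorem exists_lift_openSubspace_iff {F : Sp S} (W : Set (Points F)) {T : Over S}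
    (g : (yon S).obj T ⟶ F) :
    (∃ l, l ≫ openSubspaceι F W = g) ↔ ∀ t, Points.ofPt g t ∈ W := by
  constructor
  · rintro ⟨l, rfl⟩ t
    have h := ((J S).uliftYonedaEquiv l).2 t
    rwa [show ((J S).uliftYonedaEquiv l).1 = (J S).uliftYonedaEquiv (l ≫ openSubspaceι F W) by
      rw [GrothendieckTopology.uliftYonedaEquiv_comp]; rfl, Equiv.symm_apply_apply] at h
  · intro h
    let s : (openSubspace F W).obj.obj (op T) :=
      ⟨(J S).uliftYonedaEquiv g, fun t => by rw [Equiv.symm_apply_apply]; exact h t⟩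
    exact ⟨(J S).uliftYonedaEquiv.symm s, (J S).uliftYonedaEquiv.injective (by
      rw [GrothendieckTopology.uliftYonedaEquiv_comp, Equiv.apply_symm_apply]; rfl)⟩

theorem repWith_openSubspaceι (F : Sp S) {W : Set (Points F)} (hW : IsOpen W) :
    RepWith @IsOpenImmersion (openSubspaceι F W) := by
  refine MorphismProperty.relative.of_exists fun T g => ?_
  let O : T.left.Opens := ⟨Points.ofPt g ⁻¹' W, hW.preimage (Points.continuous_ofPt g)⟩
  let T' : Over S := Over.mk (O.ι ≫ T.hom)
  let u : T' ⟶ T := Over.homMk O.ι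
  obtain ⟨l, hl⟩ := (exists_lift_openSubspace_iff W ((yon S).map u ≫ g)).2 fun t => by
    rw [ofPt_map]; exact t.2
  refine ⟨T', l, u, isPullback_of_yon hl fun K x y e => ?_, (inferInstance : IsOpenImmersion O.ι)⟩
  obtain ⟨v, rfl⟩ := (yon S).map_surjective y
  have hv : Set.range v.left ⊆ Set.range O.ι := by
    rintro _ ⟨k, rfl⟩
    have h := (exists_lift_openSubspace_iff W _).1 ⟨x, e⟩ k
    rw [ofPt_map] at h
    exact Scheme.Opens.range_ι O ▸ h
  let m : K ⟶ T' := Over.homMk (IsOpenImmersion.lift O.ι v.left hv)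
    (by simp [T', IsOpenImmersion.lift_fac_assoc])
  have hm : m ≫ u = v := Over.OverMorphism.ext (IsOpenImmersion.lift_fac _ _ _)
  refine ⟨(yon S).map m, ⟨(cancel_mono (openSubspaceι F W)).1 ?_, ?_⟩, ?_⟩
  · rw [Category.assoc, hl, ← Functor.map_comp_assoc, hm, e]
  · rw [← Functor.map_comp, hm]
  · rintro z ⟨-, hz⟩
    have : Mono u := (Over.forget S).mono_of_mono_map (inferInstanceAs (Mono O.ι))
    obtain ⟨z, rfl⟩ := (yon S).map_surjective z
    rw [← Functor.map_comp] at hz
    have := (yon S).map_injective hz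
    rw [← hm, cancel_mono] at this
    rw [this]

theorem range_openSubspaceι (F : Sp S) (W : Set (Points F)) :
    Set.range (Points.map (openSubspaceι F W)) = W := by
  ext x
  constructor
  · rintro ⟨y, rfl⟩
    obtain ⟨K, _, str, a, rfl⟩ := exists_ptOfHom y
    rw [map_ptOfHom, ← Category.id_comp (a ≫ openSubspaceι F W), ← (yon S).map_id, ptOfHom_yon_map]
    exact (exists_lift_openSubspace_iff W _).1 ⟨a, rfl⟩ _
  · intro hx
    obtain ⟨K, _, str, a, rfl⟩ := exists_ptOfHom x
    obtain ⟨l, rfl⟩ := (exists_lift_openSubspace_iff W a).2 fun t => by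
      have h := ptOfHom_yon_map (𝟙 (Over.mk str)) a
      erw [(yon S).map_id, Category.id_comp] at h
      rw [show (𝟙 (Over.mk str) : Over.mk str ⟶ _).left (IsLocalRing.closedPoint K) = t from
        (inferInstance : Subsingleton ↥(Spec (CommRingCat.of K))).elim _ _] at h
      exact h ▸ hx
    exact ⟨ptOfHom l, map_ptOfHom l _⟩

theorem isAlgSpace_openSubspace {F : Sp S} (hF : IsAlgSpace F) {W : Set (Points F)} (hW : IsOpen W) :
    IsAlgSpace (openSubspace F W) := by
  refine ⟨representable_diag_of_mono (openSubspaceι F W) hF.diag, ?_⟩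
  obtain ⟨U, a, hae, has⟩ := hF.atlas
  have hj := (repWith_openSubspaceι F hW).1
  exact ⟨hj.pullback a, hj.fst a, RepWith.baseChange (hj.isPullback a).flip hae,
    RepWith.baseChange (hj.isPullback a).flip has⟩

end Groth.Agent.AlgSpLib
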