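import Groth.Agent.AlgSpLib.Descent
import Mathlib.CategoryTheory.Sites.LeftExact
import Mathlib.CategoryTheory.Extensive
import Mathlib.AlgebraicGeometry.Limits

/-!
Finite disjoint unions of schemes over `S` give coproducts of sheaves; these are universal.
-/

universe u

open CategoryTheory CategoryTheory.Limits AlgebraicGeometry Opposite
open AlgSp

noncomputable section

namespace Groth.Agent.AlgSpLib

set_option backward.isDefEq.respectTransparency.types false

variable {S : Scheme.{u}} {ι : Type u}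

/-- the disjoint union of schemes over `S` -/
def sigmaOver (W : ι → Over S) : Over S := Over.mk (Sigma.desc fun i => (W i).hom)

/-- the inclusions -/
def sigmaOverι (W : ι → Over S) (i : ι) : W i ⟶ sigmaOver W :=
  Over.homMk (Sigma.ι (fun i => (W i).left) i) (Sigma.ι_desc _ _)

theorem bot_mem_J (Z : Over S) [IsEmpty Z.left] : (⊥ : Sieve Z) ∈ J S Z := by
  show Sieve.overEquiv Z ⊥ ∈ Scheme.fppfPrecoverage.toGrothendieck Z.left
  rw [Precoverage.mem_toGrothendieck_iff_of_isStableUnderComposition]
  refine ⟨(PreZeroHypercover.mk.{u} PEmpty.{u + 1} (fun i => i.elim) (fun i => i.elim) :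
    PreZeroHypercover Z.left).presieve₀, ?_, fun Y f hf => ?_⟩
  · rw [Scheme.fppfPrecoverage_eq_inf]
    exact ⟨(Scheme.presieve₀_mem_precoverage_iff _).2 ⟨fun x => isEmptyElim x, fun i => i.elim⟩,
      (Scheme.presieve₀_mem_precoverage_iff _).2 ⟨fun x => isEmptyElim x, fun i => i.elim⟩⟩
  · obtain ⟨i⟩ := hf
    exact i.elim

theorem ofArrows_mem_J {Z : Over S} {W : ι → Over S} (c : ∀ i, W i ⟶ Z) [∀ i, Flat (c i).left]
    [∀ i, LocallyOfFinitePresentation (c i).left] (hc : ∀ z : Z.left, ∃ i, z ∈ Set.range (c i).left) :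
    Sieve.ofArrows W c ∈ J S Z := by
  show Sieve.overEquiv Z (Sieve.ofArrows W c) ∈ Scheme.fppfPrecoverage.toGrothendieck Z.left
  rw [Precoverage.mem_toGrothendieck_iff_of_isStableUnderComposition]
  refine ⟨(PreZeroHypercover.mk ι _ fun i => (c i).left : PreZeroHypercover Z.left).presieve₀,
    ?_, fun Y f hf => ?_⟩
  · rw [Scheme.fppfPrecoverage_eq_inf]
    exact ⟨(Scheme.presieve₀_mem_precoverage_iff _).2 ⟨hc, fun i => (inferInstance : Flat (c i).left)⟩,
      (Scheme.presieve₀_mem_precoverage_iff _).2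
        ⟨hc, fun i => (inferInstance : LocallyOfFinitePresentation (c i).left)⟩⟩
  · obtain ⟨i⟩ := hf
    rw [Sieve.overEquiv_iff]
    have e : (Over.homMk (c i).left : Over.mk ((c i).left ≫ Z.hom) ⟶ Z) =
        (Over.homMk (𝟙 (W i).left) ((Category.id_comp _).trans (Over.w (c i)).symm) :
          Over.mk ((c i).left ≫ Z.hom) ⟶ W i) ≫ c i := Over.OverMorphism.ext (Category.id_comp _).symm
    rw [e]
    exact Sieve.downward_closed _ (Sieve.ofArrows_mk _ _ i) _

theorem exists_mem_range_sigmaOverι (W : ι → Over S) (x : (sigmaOver W).left) :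
    ∃ i, x ∈ Set.range (sigmaOverι W i).left :=
  (sigmaOpenCover fun i => (W i).left).exists_eq x

instance isOpenImmersion_sigmaOverι (W : ι → Over S) (i : ι) : IsOpenImmersion (sigmaOverι W i).left :=
  inferInstanceAs (IsOpenImmersion (Sigma.ι (fun i => (W i).left) i))

theorem isSheafFor_sigmaOverι (W : ι → Over S) (T : Sp S) :
    (Presieve.ofArrows W (sigmaOverι W)).IsSheafFor T.obj :=
  (Presieve.isSheafFor_iff_generate _).2 (((isSheaf_iff_isSheaf_of_type _ _).1 T.property) _
    (ofArrows_mem_J (sigmaOverι W) (exists_mem_range_sigmaOverι W)))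

theorem subsingleton_hom_of_isEmpty (Z : Over S) [IsEmpty Z.left] (T : Sp S) :
    Subsingleton ((yon S).obj Z ⟶ T) := by
  refine ⟨fun a b => (J S).uliftYonedaEquiv.injective ?_⟩
  exact ((isSheaf_iff_isSheaf_of_type _ _).1 T.property ⊥ (bot_mem_J Z)).isSeparatedFor.ext
    (fun Y f hf => hf.elim)

theorem existsUnique_desc_sigma (W : ι → Over S) {T : Sp S} (s : ∀ i, (yon S).obj (W i) ⟶ T) :
    ∃! a : (yon S).obj (sigmaOver W) ⟶ T, ∀ i, (yon S).map (sigmaOverι W i) ≫ a = s i := by
  have h := (Presieve.isSheafFor_arrows_iff _ _).1 (isSheafFor_sigmaOverι W T)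
    (fun i => (J S).uliftYonedaEquiv (s i)) (fun i j Z a b e => by
      have e' : a.left ≫ (sigmaOverι W i).left = b.left ≫ (sigmaOverι W j).left :=
        congrArg CommaMorphism.left e
      rw [GrothendieckTopology.uliftYonedaEquiv_naturality,
        GrothendieckTopology.uliftYonedaEquiv_naturality]
      refine congrArg _ ?_
      rcases eq_or_ne i j with rfl | hne
      · obtain rfl : a = b := Over.OverMorphism.ext ((cancel_mono (sigmaOverι W i).left).1 e')
        rfl
      · have : IsEmpty Z.left := ⟨fun z => by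
          have hd := disjoint_opensRange_sigmaι (fun i => (W i).left) i j hne
          have h2 : a.left ≫ Sigma.ι (fun i => (W i).left) i = b.left ≫ Sigma.ι (fun i => (W i).left) j := e'
          exact (hd.le_bot (x := (a.left ≫ Sigma.ι (fun i => (W i).left) i) z)
            ⟨⟨a.left z, rfl⟩, ⟨b.left z, (congrArg (fun k => k z) h2).symm⟩⟩ :)⟩
        exact (subsingleton_hom_of_isEmpty Z T).elim _ _)
  obtain ⟨t, ht, hu⟩ := h
  refine ⟨(J S).uliftYonedaEquiv.symm t, fun i => (J S).uliftYonedaEquiv.injective ?_, fun a ha => ?_⟩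
  · rw [← GrothendieckTopology.uliftYonedaEquiv_naturality, Equiv.apply_symm_apply]
    exact ht i
  · refine (Equiv.eq_symm_apply _).2 (hu _ fun i => ?_)
    rw [← ha i, ← GrothendieckTopology.uliftYonedaEquiv_naturality]

/-- the cofan of the disjoint union -/
def yonCofan (W : ι → Over S) : Cofan fun i => (yon S).obj (W i) :=
  Cofan.mk ((yon S).obj (sigmaOver W)) fun i => (yon S).map (sigmaOverι W i)

/-- disjoint unions of schemes are coproducts of sheaves -/
def isColimitYonCofan (W : ι → Over S) : IsColimit (yonCofan W) :=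
  Limits.mkCofanColimit _ (fun t => (existsUnique_desc_sigma W t.inj).exists.choose)
    (fun t i => (existsUnique_desc_sigma W t.inj).exists.choose_spec i)
    (fun t m hm => (existsUnique_desc_sigma W t.inj).unique hm
      (existsUnique_desc_sigma W t.inj).exists.choose_spec)

/-- pullbacks of a finite disjoint union form a coproduct -/
theorem nonempty_isColimit_of_isPullback [Finite ι] (W : ι → Over S) {Q : Sp S}
    (f : Q ⟶ (yon S).obj (sigmaOver W)) {Qi : ι → Sp S} (p : ∀ i, Qi i ⟶ Q)
    (f' : ∀ i, Qi i ⟶ (yon S).obj (W i))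
    (sq : ∀ i, IsPullback (p i) (f' i) f ((yon S).map (sigmaOverι W i))) :
    Nonempty (IsColimit (Cofan.mk Q p)) :=
  (FinitaryExtensive.isVanKampen_finiteCoproducts (isColimitYonCofan W)).isUniversal (Cofan.mk Q p)
    (Discrete.natTrans fun ⟨i⟩ => f' i) f (by
      refine NatTrans.ext (funext fun ⟨i⟩ => ?_)
      exact (sq i).w.symm) (NatTrans.equifibered_of_discrete _) fun ⟨i⟩ => sq i

end Groth.Agent.AlgSpLib
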