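import Groth.Agent.AlgSpLib.RepLocal
import Groth.Agent.AlgSpLib.PointsTop
import Groth.Agent.AlgSpLib.YonCoprod
import Groth.Agent.AlgSpLib.Descent
import Mathlib.AlgebraicGeometry.Gluing

/-!
A sheaf covered by open subspaces which are schemes is a scheme (gluing).
-/

universe u

open CategoryTheory CategoryTheory.Limits AlgebraicGeometry Opposite
open AlgSp

noncomputable section

namespace Groth.Agent.AlgSpLib

set_option backward.isDefEq.respectTransparency.types false
set_option backward.isDefEq.respectTransparency false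

variable {S : Scheme.{u}} {F : Sp S} {ι : Type u} {X : ι → Over S}
  (f : ∀ i, (yon S).obj (X i) ⟶ F) (hf : ∀ i, RepWith @IsOpenImmersion (f i))

include hf in
theorem mono_of_openImmersion (i : ι) : Mono (f i) :=
  mono_of_repWith (fun _ _ g (_ : IsOpenImmersion g) => (inferInstance : Mono g)) (hf i)

include hf in
theorem fst'_self_eq_snd (i : ι) : (hf i).1.fst' (f i) = (hf i).1.snd (f i) := by
  have := mono_of_openImmersion f hf i
  exact (yon S).map_injective ((cancel_mono (f i)).1 ((hf i).1.isPullback' (f i)).w)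

include hf in
theorem isIso_fst'_self (i : ι) : IsIso ((hf i).1.fst' (f i)) := by
  have hm := mono_of_openImmersion f hf i
  have sq := (hf i).1.isPullback' (f i)
  have : IsIso ((yon S).map ((hf i).1.fst' (f i))) := by
    have : Mono ((yon S).map ((hf i).1.fst' (f i))) :=
      (MorphismProperty.monomorphisms (Sp S)).of_isPullback sq.flip hm
    have : IsSplitEpi ((yon S).map ((hf i).1.fst' (f i))) :=
      ⟨⟨{ section_ := sq.lift (𝟙 _) (𝟙 _) rfl, id := sq.lift_fst _ _ _ }⟩⟩
    exact isIso_of_mono_of_isSplitEpi _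
  exact isIso_of_reflects_iso _ (yon S)

open Functor.relativelyRepresentable in
/-- gluing data over `S` -/
def overGlueData : CategoryTheory.GlueData (Over S) where
  J := ι
  U := X
  V := fun (i, j) => (hf i).1.pullback (f j)
  f i j := (hf i).1.fst' (f j)
  f_mono i j := by
    have : IsOpenImmersion ((hf i).1.fst' (f j)).left :=
      (hf j).2 _ _ _ ((hf i).1.isPullback' (f j)).flip
    exact (Over.forget S).mono_of_mono_map (inferInstanceAs (Mono ((hf i).1.fst' (f j)).left))
  f_id i := isIso_fst'_self f hf i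
  t i j := (hf i).1.symmetry (hf j).1
  t_id i := by apply (hf i).1.hom_ext' <;> simp [fst'_self_eq_snd f hf i]
  t' i j k := lift₃ _ _ _ (pullback₃.p₂ _ _ _) (pullback₃.p₃ _ _ _) (pullback₃.p₁ _ _ _)
    (by simp) (by simp)
  t_fac i j k := (hf j).1.hom_ext' (by simp) (by simp)
  cocycle i j k := pullback₃.hom_ext (by simp) (by simp) (by simp)

/-- the scheme glue data -/
def schemeGlueData : Scheme.GlueData where
  toGlueData := (overGlueData f hf).mapGlueData (Over.forget S)
  f_open i j := (hf j).2 _ _ _ ((hf i).1.isPullback' (f j)).flip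

/-- the glued scheme over `S` -/
def gluedOver : Over S :=
  Over.mk (Multicoequalizer.desc (schemeGlueData f hf).diagram (S) (fun i => (X i).hom) (by
    rintro ⟨i, j⟩
    show ((hf i).1.fst' (f j)).left ≫ (X i).hom =
      (((hf i).1.symmetry (hf j).1).left ≫ ((hf j).1.fst' (f i)).left) ≫ (X j).hom
    rw [Category.assoc, Over.w, Over.w, Over.w]))

/-- the inclusion of a piece -/
def gluedι (i : ι) : X i ⟶ gluedOver f hf :=
  Over.homMk ((schemeGlueData f hf).ι i) (by exact Multicoequalizer.π_desc (schemeGlueData f hf).diagram S (fun i => (X i).hom) _ i)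

theorem gluedι_eq {T : Over S} {i j : ι} (a : T ⟶ X i) (b : T ⟶ X j)
    (h : (yon S).map a ≫ f i = (yon S).map b ≫ f j) : a ≫ gluedι f hf i = b ≫ gluedι f hf j := by
  apply Over.OverMorphism.ext
  obtain ⟨l, h1, h2⟩ : ∃ l : T ⟶ (hf i).1.pullback (f j),
      l ≫ (hf i).1.fst' (f j) = a ∧ l ≫ (hf i).1.snd (f j) = b :=
    ⟨(hf i).1.lift' a b h, (hf i).1.lift'_fst _ _ _, (hf i).1.lift'_snd _ _ _⟩
  have g := (schemeGlueData f hf).glue_condition i j
  change ((hf i).1.symmetry (hf j).1).left ≫ ((hf j).1.fst' (f i)).left ≫ (schemeGlueData f hf).ι j =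
    ((hf i).1.fst' (f j)).left ≫ (schemeGlueData f hf).ι i at g
  rw [← Category.assoc, ← Over.comp_left, Functor.relativelyRepresentable.symmetry_fst] at g
  show a.left ≫ (schemeGlueData f hf).ι i = b.left ≫ (schemeGlueData f hf).ι j
  rw [← h1, ← h2, Over.comp_left, Over.comp_left, Category.assoc, Category.assoc, g]

theorem gluedι_jointly_surjective (z : ↥(gluedOver f hf).left) :
    ∃ i, z ∈ Set.range (gluedι f hf i).left := by
  obtain ⟨i, y, hy⟩ := (schemeGlueData f hf).ι_jointly_surjective z
  exact ⟨i, y, hy⟩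

instance (i : ι) : IsOpenImmersion (gluedι f hf i).left :=
  inferInstanceAs (IsOpenImmersion ((schemeGlueData f hf).openCover.f i))

include hf in
/-- a sheaf covered by open subspaces which are schemes is a scheme -/
theorem exists_iso_yon_of_openCover (hs : ∀ x : Points F, ∃ i, x ∈ Set.range (Points.map (f i))) :
    ∃ G : Over S, Nonempty ((yon S).obj G ≅ F) := by
  let G := gluedOver f hf
  let c := gluedι f hf
  have hfl : ∀ i, Flat (c i).left := fun i => inferInstance
  have hfp : ∀ i, LocallyOfFinitePresentation (c i).left := fun i => inferInstance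
  have hc := gluedι_jointly_surjective f hf
  -- agreement on overlaps
  have hov : ∀ i j (Z : Over S) (a : Z ⟶ X i) (b : Z ⟶ X j), a ≫ c i = b ≫ c j →
      (yon S).map a ≫ f i = (yon S).map b ≫ f j := by
    intro i j Z a b e
    have sqo : IsPullback ((schemeGlueData f hf).f i j)
        ((schemeGlueData f hf).t i j ≫ (schemeGlueData f hf).f j i)
        ((schemeGlueData f hf).ι i) ((schemeGlueData f hf).ι j) :=
      IsPullback.of_isLimit ((schemeGlueData f hf).vPullbackConeIsLimit i j)
    have e' : a.left ≫ (schemeGlueData f hf).ι i = b.left ≫ (schemeGlueData f hf).ι j :=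
      congrArg CommaMorphism.left e
    let l : Z ⟶ (hf i).1.pullback (f j) := Over.homMk (sqo.lift a.left b.left e') (by
      show sqo.lift a.left b.left e' ≫ ((hf i).1.pullback (f j)).hom = Z.hom
      rw [← Over.w ((hf i).1.fst' (f j))]
      exact (reassoc_of% (sqo.lift_fst a.left b.left e')) _ |>.trans (Over.w a))
    have la : l ≫ (hf i).1.fst' (f j) = a := Over.OverMorphism.ext (sqo.lift_fst _ _ _)
    have lb : l ≫ (hf i).1.snd (f j) = b := by
      apply Over.OverMorphism.ext
      rw [← Functor.relativelyRepresentable.symmetry_fst (hg := (hf j).1)]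
      exact sqo.lift_snd _ _ _
    rw [← la, ← lb, Functor.map_comp, Functor.map_comp, Category.assoc, Category.assoc,
      ((hf i).1.isPullback' (f j)).w]
  obtain ⟨φ, hφ⟩ := yon_exists_glue c hc f hov
  refine ⟨G, ⟨@asIso _ _ _ _ φ ?_⟩⟩
  have hepi : Sheaf.IsLocallySurjective φ := by
    refine isLocallySurjective_of_lifts φ fun T g => ?_
    let P : ι → Over S := fun i => (hf i).1.pullback g
    let u : ∀ i, P i ⟶ T := fun i => (hf i).1.snd g
    have : ∀ i, IsOpenImmersion (u i).left := fun i => (hf i).property_snd g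
    have hu : ∀ t : T.left, ∃ i, t ∈ Set.range (u i).left := fun t => by
      obtain ⟨i, y, hy⟩ := hs (Points.ofPt g t)
      rw [Points.ofPt_eq_map_ofScheme] at hy
      obtain ⟨z, -, hz⟩ := exists_point_of_isPullback ((hf i).1.isPullback g) hy
      obtain ⟨p, rfl⟩ := (Points.schemeHomeo _).surjective z
      refine ⟨i, p, (Points.schemeHomeo T).injective ?_⟩
      show Points.ofScheme T _ = Points.ofScheme T t
      rw [← map_yon_map_ofScheme]
      exact hz
    let d : sigmaOver P ⟶ T :=
      Over.homMk (Sigma.desc fun i => (u i).left) (Sigma.hom_ext _ _ fun i => by simp [sigmaOver])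
    have hd : ∀ i, sigmaOverι P i ≫ d = u i := fun i => Over.OverMorphism.ext (Sigma.ι_desc _ _)
    have hsd : Surjective d.left := ⟨fun t => by
      obtain ⟨i, p, hp⟩ := hu t
      refine ⟨(sigmaOverι P i).left p, ?_⟩
      rw [← hp, ← hd i]
      rfl⟩
    obtain ⟨m, hm, -⟩ := existsUnique_desc_sigma P fun i => (hf i).1.fst g ≫ (yon S).map (c i)
    refine ⟨sigmaOver P, d, IsZariskiLocalAtSource.sigmaDesc fun i => (inferInstance : Flat (u i).left),
      IsZariskiLocalAtSource.sigmaDesc fun i => (inferInstance : LocallyOfFinitePresentation (u i).left),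
      hsd, m, ?_⟩
    obtain ⟨m', -, huniq⟩ := existsUnique_desc_sigma P fun i => (yon S).map (u i) ≫ g
    refine (huniq _ fun i => ?_).trans (huniq _ fun i => ?_).symm
    · rw [← Category.assoc, hm i, Category.assoc, hφ, ((hf i).1.isPullback g).w]
    · rw [← Functor.map_comp_assoc, hd]
  have hinj : ∀ {T : Over S} (a b : T ⟶ G), (yon S).map a ≫ φ = (yon S).map b ≫ φ → a = b := by
    intro T a b e
    apply Over.OverMorphism.ext
    let O : ι → ι → T.left.Opens := fun i j =>
      a.left ⁻¹ᵁ (c i).left.opensRange ⊓ b.left ⁻¹ᵁ (c j).left.opensRange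
    have hOcov : TopologicalSpace.IsOpenCover (fun p : ι × ι => O p.1 p.2) := by
      refine TopologicalSpace.IsOpenCover.mk (eq_top_iff.2 fun t _ => ?_)
      obtain ⟨i, hi⟩ := hc (a.left t)
      obtain ⟨j, hj⟩ := hc (b.left t)
      exact TopologicalSpace.Opens.mem_iSup.2 ⟨(i, j), hi, hj⟩
    refine (T.left.openCoverOfIsOpenCover _ hOcov).hom_ext _ _ fun p => ?_
    obtain ⟨i, j⟩ := p
    let u := restrictOverι T (O i j)
    have ha : Set.range (u ≫ a).left ⊆ Set.range (c i).left := by
      rintro _ ⟨t, rfl⟩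
      exact t.2.1
    have hb : Set.range (u ≫ b).left ⊆ Set.range (c j).left := by
      rintro _ ⟨t, rfl⟩
      exact t.2.2
    let a' : restrictOver T (O i j) ⟶ X i :=
      Over.homMk (IsOpenImmersion.lift (c i).left (u ≫ a).left ha) (by
        rw [← Over.w (c i), IsOpenImmersion.lift_fac_assoc, Over.w])
    let b' : restrictOver T (O i j) ⟶ X j :=
      Over.homMk (IsOpenImmersion.lift (c j).left (u ≫ b).left hb) (by
        rw [← Over.w (c j), IsOpenImmersion.lift_fac_assoc, Over.w])
    have ea : a' ≫ c i = u ≫ a := Over.OverMorphism.ext (IsOpenImmersion.lift_fac _ _ _)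
    have eb : b' ≫ c j = u ≫ b := Over.OverMorphism.ext (IsOpenImmersion.lift_fac _ _ _)
    have h1 : (yon S).map a' ≫ f i = (yon S).map b' ≫ f j := by
      rw [← hφ, ← hφ, ← Functor.map_comp_assoc, ← Functor.map_comp_assoc, ea, eb,
        Functor.map_comp_assoc, Functor.map_comp_assoc, e]
    exact congrArg CommaMorphism.left ((ea.symm.trans (gluedι_eq f hf a' b' h1)).trans eb)
  have key : ∀ {T : Over S} (p q : (yon S).obj T ⟶ (yon S).obj G), p ≫ φ = q ≫ φ → p = q := by
    intro T p q e
    obtain ⟨a, rfl⟩ := (yon S).map_surjective p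
    obtain ⟨b, rfl⟩ := (yon S).map_surjective q
    rw [hinj a b e]
  have hmono : Mono φ := by
    refine ⟨fun {Z} x y e => ?_⟩
    ext T v
    obtain ⟨T⟩ := T
    have hk := key ((J S).uliftYonedaEquiv.symm v ≫ x) ((J S).uliftYonedaEquiv.symm v ≫ y)
      (by rw [Category.assoc, e, Category.assoc])
    have := congrArg (J S).uliftYonedaEquiv hk
    rwa [GrothendieckTopology.uliftYonedaEquiv_comp, GrothendieckTopology.uliftYonedaEquiv_comp,
      Equiv.apply_symm_apply] at this
  have : Epi φ := Sheaf.epi_of_isLocallySurjective φ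
  exact isIso_of_mono_of_epi φ

end Groth.Agent.AlgSpLib
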