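import Groth.Agent.AlgSpLib.MorMore2
import Groth.Agent.AlgSpLib.MorTop
import Groth.Agent.AlgSpLib.PointsTop
import Groth.Agent.AlgSpLib.EtLocalInst
import Groth.Agent.AlgSpLib.AffineEtaleQuot
import Groth.Agent.AlgSpLib.OpenCoverScheme
import Groth.Agent.AlgSpLib.SheafCoprod2
import Groth.Agent.AnLib.Pullback

/-!
An algebraic space with a monomorphism to a scheme with discrete underlying space is a scheme.
-/

universe u

open CategoryTheory CategoryTheory.Limits AlgebraicGeometry Opposite
open AlgSp

noncomputable section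

namespace Groth.Agent.AlgSpLib

set_option backward.isDefEq.respectTransparency.types false

variable {S : Scheme.{u}}

theorem isClosedImmersion_fromSpecResidueField {Z : Scheme.{u}} [Subsingleton Z] (z : Z) :
    IsClosedImmersion (Z.fromSpecResidueField z) ∧ Surjective (Z.fromSpecResidueField z) := by
  refine ⟨isClosed_singleton_iff_isClosedImmersion.1 ?_,
    ⟨fun w => ⟨IsLocalRing.closedPoint _, Subsingleton.elim _ _⟩⟩⟩
  rw [show ({z} : Set Z) = Set.univ from Set.eq_univ_of_forall fun w => Subsingleton.elim w z]
  exact isClosed_univ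

/-- etale affine over a one point affine scheme is finite -/
theorem isFinite_of_etale_over_point {R V : Scheme.{u}} [IsAffine R] [IsAffine V] [Subsingleton V]
    (t : R ⟶ V) [Etale t] : IsFinite t := by
  rcases isEmpty_or_nonempty V with hV | ⟨⟨v⟩⟩
  · have : IsEmpty R := Function.isEmpty t
    infer_instance
  let ι := V.fromSpecResidueField v
  obtain ⟨hc, hs⟩ := isClosedImmersion_fromSpecResidueField v
  have : IsLocallyArtinian (Spec (V.residueField v)) := inferInstance
  have : LocallyQuasiFinite t := locallyQuasiFinite_of_etale t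
  have : IsFinite (pullback.snd t ι) := IsFinite.of_locallyQuasiFinite _
  have : Surjective (pullback.fst t ι) := MorphismProperty.pullback_fst (P := @Surjective) _ _ hs
  have : UniversallyClosed (pullback.fst t ι ≫ t) := by rw [pullback.condition]; infer_instance
  have : UniversallyClosed t := .of_comp_surjective (pullback.fst t ι) t
  have : IsIntegralHom t :=
    IsIntegralHom.iff_universallyClosed_and_isAffineHom.2 ⟨inferInstance, inferInstance⟩
  exact (IsFinite.iff_isIntegralHom_and_locallyOfFiniteType t).2 ⟨inferInstance, inferInstance⟩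

/-- a chart of a space with a monomorphism to a one point scheme is discrete -/
theorem discreteTopology_chart_of_mono {Z : Over S} [Subsingleton Z.left] {X : Sp S}
    (hX : IsAlgSpace X) (f : X ⟶ (yon S).obj Z) [Mono f] {U : Over S} (a : (yon S).obj U ⟶ X)
    (ha : RepWith @Etale a) : DiscreteTopology U.left := by
  rcases isEmpty_or_nonempty U.left with hU | ⟨⟨u⟩⟩
  · infer_instance
  obtain ⟨h, hh⟩ := (yon S).map_surjective (a ≫ f)
  let z := h.left u
  obtain ⟨hc, hs⟩ := isClosedImmersion_fromSpecResidueField z
  let K : Over S := Over.mk (Z.left.fromSpecResidueField z ≫ Z.hom)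
  let i : K ⟶ Z := Over.homMk (Z.left.fromSpecResidueField z) rfl
  have hK : Subsingleton ↥K.left := inferInstanceAs (Subsingleton ↥(Spec (Z.left.residueField z)))
  let P := pullback h i
  have sqP : IsPullback ((yon S).map (pullback.fst h i)) ((yon S).map (pullback.snd h i))
      ((yon S).map h) ((yon S).map i) := (IsPullback.of_hasPullback h i).map (yon S)
  have sqf := IsPullback.of_hasPullback f ((yon S).map i)
  let l : (yon S).obj P ⟶ pullback f ((yon S).map i) :=
    pullback.lift ((yon S).map (pullback.fst h i) ≫ a) ((yon S).map (pullback.snd h i))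
      (by rw [Category.assoc, ← hh]; exact sqP.w)
  have sql : IsPullback ((yon S).map (pullback.fst h i)) l a (pullback.fst f ((yon S).map i)) :=
    IsPullback.of_bot (by rw [← hh, pullback.lift_snd]; exact sqP) (pullback.lift_fst _ _ _).symm sqf
  have hle : RepWith @Etale l := RepWith.baseChange sql ha
  have hP : Surjective (pullback.fst h i).left := by
    have : Surjective i.left := hs
    exact MorphismProperty.of_isPullback ((IsPullback.of_hasPullback h i).map (Over.forget S)).flip
      (inferInstance : Surjective i.left)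
  have hcl : IsClosedImmersion (pullback.fst h i).left := by
    have : IsClosedImmersion i.left := hc
    exact MorphismProperty.of_isPullback ((IsPullback.of_hasPullback h i).map (Over.forget S)).flip
      (inferInstance : IsClosedImmersion i.left)
  obtain ⟨p, -⟩ := hP.surj u
  have hfield : IsIso (pullback.snd f ((yon S).map i)) :=
    isIso_of_mono_to_field' (str := Z.left.fromSpecResidueField z ≫ Z.hom) (k := Z.left.residueField z)
      (isAlgSpace_of_isPullback (IsAlgSpace.yon_obj Z).diag hX (IsAlgSpace.yon_obj K) sqf) _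
      (Points.ofPt l p)
  have : Etale (pullback.snd h i).left := by
    refine (repWith_yon_map_iff (P := @Etale) _).1 ?_
    rw [← show l ≫ pullback.snd f ((yon S).map i) = (yon S).map (pullback.snd h i) from
      pullback.lift_snd _ _ _]
    exact RepWith.comp hle (repWith_of_isIso _ _)
  have : LocallyQuasiFinite (pullback.snd h i).left := locallyQuasiFinite_of_etale _
  obtain ⟨q⟩ : Nonempty ↥K.left := ⟨(pullback.snd h i).left p⟩
  have hd : DiscreteTopology ↥P.left := by
    have := (pullback.snd h i).left.isDiscrete_preimage_singleton q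
    rw [show (pullback.snd h i).left ⁻¹' {q} = Set.univ from
      Set.eq_univ_of_forall fun w => (Subsingleton.elim _ _ : (pullback.snd h i).left w = q)] at this
    exact isDiscrete_univ_iff.1 this
  have hbij : Function.Bijective (pullback.fst h i).left :=
    ⟨(pullback.fst h i).left.isClosedEmbedding.injective, hP.surj⟩
  refine discreteTopology_iff_isOpen_singleton.2 fun w => ?_
  obtain ⟨O, hO, e⟩ := (pullback.fst h i).left.isClosedEmbedding.isInducing.isOpen_iff.1
    (isOpen_discrete ((pullback.fst h i).left ⁻¹' {w}))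
  rwa [← Set.preimage_injective.2 hbij.2 e]

/-- a space with a monomorphism to a one point affine scheme is an affine scheme -/
theorem exists_iso_yon_of_mono_point {Z : Over S} [IsAffine Z.left] [Subsingleton Z.left] {X : Sp S}
    (hX : IsAlgSpace X) (f : X ⟶ (yon S).obj Z) [Mono f] :
    ∃ C : Over S, Nonempty ((yon S).obj C ≅ X) := by
  obtain ⟨U, a, hae, has⟩ := hX.atlas
  have := discreteTopology_chart_of_mono hX f a hae
  obtain ⟨O, hOa, hOs, hOn⟩ : ∃ O : U.left.Opens, IsAffineOpen O ∧ Subsingleton ↥O ∧
      (Nonempty U.left → Nonempty ↥O) := by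
    rcases isEmpty_or_nonempty U.left with hU | ⟨⟨u⟩⟩
    · have : IsEmpty ↥(⊥ : U.left.Opens) := ⟨fun x => hU.false x.1⟩
      exact ⟨⊥, isAffineOpen_bot _, inferInstance, fun ⟨x⟩ => hU.elim x⟩
    · obtain ⟨O, hO, huO, hsub⟩ := exists_isAffineOpen_mem_and_subset (x := u)
        (U := ⟨{u}, isOpen_discrete _⟩) rfl
      exact ⟨O, hO, ⟨fun x y => Subtype.ext ((hsub x.2).trans (hsub y.2).symm)⟩, fun _ => ⟨⟨u, huO⟩⟩⟩
  let V : Over S := Over.mk (O.ι ≫ U.hom)
  have : IsAffine V.left := hOa
  have : Subsingleton ↥V.left := hOs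
  let j : V ⟶ U := Over.homMk O.ι
  let p := (yon S).map j ≫ a
  have : IsOpenImmersion j.left := inferInstanceAs (IsOpenImmersion O.ι)
  have hpe : RepWith @Etale p := RepWith.comp ((repWith_yon_map_iff (P := @Etale) j).2 inferInstance) hae
  have hps : RepWith @Surjective p := repWith_surjective_of_surjective_map hpe.1 fun x => by
    obtain ⟨u', hu'⟩ := surjective_ofPt a has x
    obtain ⟨v⟩ := hOn ⟨u'⟩
    exact ⟨Points.ofScheme V v, injective_map_of_mono f (by
      rw [← Points.ofScheme_toScheme Z (Points.map f _), ← Points.ofScheme_toScheme Z (Points.map f x)]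
      exact congrArg _ (Subsingleton.elim _ _))⟩
  obtain ⟨hV, hhV⟩ := (yon S).map_surjective (p ≫ f)
  have sq₀ := hpe.1.isPullback' p
  let k₁ := hpe.1.fst' p
  let k₂ := hpe.1.snd p
  have sqY : IsPullback k₁ k₂ hV hV := by
    refine IsPullback.of_map (yon S) ((yon S).map_injective ?_) ?_
    · rw [Functor.map_comp, Functor.map_comp, hhV, ← Category.assoc, sq₀.w, Category.assoc]
    · rw [hhV]
      refine isPullback_of_yon (by rw [← Category.assoc, sq₀.w, Category.assoc]) fun T x y h => ?_
      have h' : x ≫ p = y ≫ p := (cancel_mono f).1 (by simpa only [p, Category.assoc] using h)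
      exact ⟨sq₀.lift x y h', ⟨sq₀.lift_fst _ _ _, sq₀.lift_snd _ _ _⟩,
        fun m hm => sq₀.hom_ext (hm.1.trans (sq₀.lift_fst _ _ _).symm) (hm.2.trans (sq₀.lift_snd _ _ _).symm)⟩
  have sqS := sqY.map (Over.forget S)
  let R := hpe.1.pullback p
  have : IsAffine R.left := by
    let e : R.left ≅ pullback hV.left hV.left := sqS.isoPullback
    exact IsAffine.of_isIso e.hom
  have hgen := AnLib.closure_range_appTop_eq_top (P := R.left) (U := V.left) (V := V.left) (W := Z.left)
    (p := k₁.left) (q := k₂.left) (f := hV.left) (g := hV.left) sqS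
  have : Etale k₁.left := hpe.property _ _ _ sq₀.flip
  have : Etale k₂.left := hpe.property_snd p
  have : IsFinite k₁.left := isFinite_of_etale_over_point k₁.left
  have : Epi p := by
    have := isLocallySurjective_of_etale hpe hps
    exact Sheaf.epi_of_isLocallySurjective p
  obtain ⟨C, -, hC⟩ := exists_affine_quot (Z := Z) f p sq₀ (s := k₂) (t := k₁) (by
    rw [Set.union_comm]; exact hgen)
  exact ⟨C, hC⟩

/-- a space with a monomorphism to a scheme with discrete space is a scheme -/
theorem exists_iso_yon_of_mono_discrete {Y : Over S} [DiscreteTopology ↥Y.left] {X : Sp S}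
    (hX : IsAlgSpace X) (f : X ⟶ (yon S).obj Y) [Mono f] :
    ∃ G : Over S, Nonempty ((yon S).obj G ≅ X) := by
  have h1 : ∀ y : ↥Y.left, ∃ O : Y.left.Opens, IsAffineOpen O ∧ y ∈ O ∧ Subsingleton ↥O := fun y => by
    obtain ⟨O, hO, hy, hsub⟩ := exists_isAffineOpen_mem_and_subset (x := y)
      (U := ⟨{y}, isOpen_discrete _⟩) rfl
    exact ⟨O, hO, hy, ⟨fun a b => Subtype.ext ((hsub a.2).trans (hsub b.2).symm)⟩⟩
  choose O hOa hyO hOs using h1
  let Yi : ↥Y.left → Over S := fun y => Over.mk ((O y).ι ≫ Y.hom)
  let j : ∀ y, Yi y ⟶ Y := fun y => Over.homMk (O y).ι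
  have hj : ∀ y, RepWith @IsOpenImmersion ((yon S).map (j y)) := fun y =>
    (repWith_yon_map_iff (P := @IsOpenImmersion) _).2 (inferInstanceAs (IsOpenImmersion (O y).ι))
  have sq := fun y => (IsPullback.of_hasPullback ((yon S).map (j y)) f).flip
  have hmono : ∀ y, Mono (pullback.fst ((yon S).map (j y)) f) := fun y => inferInstance
  have h2 : ∀ y, ∃ C : Over S, Nonempty ((yon S).obj C ≅ pullback ((yon S).map (j y)) f) := fun y => by
    have : IsAffine (Yi y).left := hOa y
    have : Subsingleton ↥(Yi y).left := hOs y
    exact exists_iso_yon_of_mono_point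
      (isAlgSpace_of_isPullback (IsAlgSpace.yon_obj Y).diag (IsAlgSpace.yon_obj _) hX
        (IsPullback.of_hasPullback _ _)) (pullback.fst ((yon S).map (j y)) f)
  choose C e using h2
  refine exists_iso_yon_of_openCover (X := C)
    (fun y => (e y).some.hom ≫ pullback.snd ((yon S).map (j y)) f)
    (fun y => RepWith.comp (repWith_of_isIso _ _)
      (RepWith.baseChange (IsPullback.of_hasPullback ((yon S).map (j y)) f) (hj y))) fun x => ?_
  let y := Points.toScheme Y (Points.map f x)
  obtain ⟨z, -, hz⟩ := exists_point_of_isPullback (IsPullback.of_hasPullback ((yon S).map (j y)) f)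
    (x := Points.ofScheme (Yi y) ⟨y, hyO y⟩) (y := x) (by
      rw [← Points.ofPt_eq_map_ofScheme, ← Category.comp_id ((yon S).map (j y)), ← (yon S).map_id]
      erw [ofPt_map, (yon S).map_id]
      exact Points.ofScheme_toScheme Y (Points.map f x))
  refine ⟨y, Points.map (e y).some.inv z, ?_⟩
  rw [← Points.map_comp, ← Category.assoc, Iso.inv_hom_id, Category.id_comp]
  exact hz

end Groth.Agent.AlgSpLib
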