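import Groth.Agent.AlgSpLib.FibreEmbedding
import Groth.Agent.AlgSpLib.EtaleField
import Groth.Agent.AlgSpLib.MonoDiscrete
import Groth.Agent.AlgSpLib.LqfPiece
import Groth.Agent.AlgSpLib.SheafCoprod

/-!
Points represented by monomorphisms descend along quasi-compact etale surjections.
-/

universe u

open CategoryTheory CategoryTheory.Limits AlgebraicGeometry Opposite
open AlgSp

noncomputable section

namespace Groth.Agent.AlgSpLib

set_option backward.isDefEq.respectTransparency.types false

variable {S : Scheme.{u}}

/-- finite etale arrows on the spectrum of a field -/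
theorem etale_finite_of_mono_into_fibre {T : Over S} {k : Type u} [Field k]
    (eT : T.left = Spec (CommRingCat.of k)) {G R : Over S} (e : G ⟶ T) [Etale e.left]
    [CompactSpace ↥G.left] (m : R ⟶ G) [Mono m] {s : R ⟶ T} (h : m ≫ e = s) :
    Etale s.left ∧ IsFinite s.left := by
  have : IsReduced T.left := by rw [eT]; infer_instance
  have : Subsingleton ↥T.left := by rw [eT]; infer_instance
  have : IsAffine T.left := by rw [eT]; infer_instance
  have : IsLocallyArtinian T.left := by rw [eT]; infer_instance
  have : IsReduced G.left := isReduced_of_etale' e.left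
  have := locallyQuasiFinite_of_etale e.left
  have : DiscreteTopology ↥G.left := by
    refine discreteTopology_iff_isOpen_singleton.2 fun w => ?_
    have h := e.left.isDiscrete_preimage_singleton (e.left w)
    rw [show e.left ⁻¹' {e.left w} = Set.univ from
      Set.eq_univ_of_forall fun v => Subsingleton.elim _ _] at h
    have := isDiscrete_univ_iff.1 h
    exact isOpen_discrete _
  have := finite_of_compact_of_discrete (X := ↥G.left)
  have hm : Mono m.left := inferInstance
  have := SchMor12.isOpenImmersion_of_mono_of_discrete m.left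
  have : CompactSpace ↥R.left := by
    have := Finite.of_injective m.left m.left.isOpenEmbedding.injective
    infer_instance
  have hs : Etale s.left := by rw [← h, Over.comp_left]; infer_instance
  have := locallyQuasiFinite_of_etale s.left
  have : QuasiCompact s.left := (quasiCompact_iff_compactSpace (f := s.left)).2 inferInstance
  exact ⟨hs, IsFinite.of_locallyQuasiFinite _⟩

/-- a field point whose self fibre product is finite etale over it factors through a monomorphism -/
theorem exists_mono_point_core {Y : Sp S} (hY : IsAlgSpace Y) {k : Type u} [Field k]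
    {str : Spec (CommRingCat.of k) ⟶ S} (g : (yon S).obj (Over.mk str) ⟶ Y)
    (mk' : ∀ {R : Over S} (a b : R ⟶ Over.mk str),
      IsPullback ((yon S).map a) ((yon S).map b) g g → Etale b.left ∧ IsFinite b.left) :
    ∃ (K : Type u) (_ : Field K) (s : Spec (CommRingCat.of K) ⟶ S) (q : (yon S).obj (Over.mk s) ⟶ Y),
      Mono q ∧ ptOfHom q = ptOfHom g := by
  let T : Over S := Over.mk str
  have hTsub : Subsingleton ↥T.left := inferInstanceAs (Subsingleton ↥(Spec (CommRingCat.of k)))
  have : IsAffine T.left := inferInstanceAs (IsAffine (Spec (CommRingCat.of k)))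
  have hg : Representable g := representable_diag_iff.1 hY.diag g
  have sq₀ := hg.isPullback' g
  let R := hg.pullback g
  let s := hg.fst' g
  let t := hg.snd g
  obtain ⟨htE, htF⟩ := mk' s t sq₀
  obtain ⟨hsE, hsF⟩ := mk' t s sq₀.flip
  -- an affine open of the base
  obtain ⟨z⟩ : Nonempty ↥T.left := inferInstanceAs (Nonempty ↥(Spec (CommRingCat.of k)))
  obtain ⟨O, hO, hzO, -⟩ := exists_isAffineOpen_mem_and_subset (x := T.hom z) (U := ⊤) trivial
  let TO : Over S := Over.mk O.ι
  have : IsAffine TO.left := hO
  have hc : Set.range T.hom ⊆ Set.range O.ι := by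
    rintro _ ⟨w, rfl⟩
    rw [Scheme.Opens.range_ι, Subsingleton.elim w z]
    exact hzO
  let c : T ⟶ TO := Over.homMk (IsOpenImmersion.lift O.ι T.hom hc) (IsOpenImmersion.lift_fac _ _ _)
  let g' : (yon S).obj T ⟶ prod Y ((yon S).obj TO) := prod.lift g ((yon S).map c)
  have hone : ∀ {W : Sp S} (a b : W ⟶ (yon S).obj TO), a = b := fun a b => hom_ext_of_yon fun V x => by
    obtain ⟨u, hu⟩ := (yon S).map_surjective (x ≫ a)
    obtain ⟨v, hv⟩ := (yon S).map_surjective (x ≫ b)
    rw [← hu, ← hv]
    congr 1
    exact Over.OverMorphism.ext ((cancel_mono O.ι).1 ((Over.w u).trans (Over.w v).symm))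
  let W := Sheaf.image g'
  let pW : (yon S).obj T ⟶ W := Sheaf.toImage g'
  let q : W ⟶ Y := Sheaf.imageι g' ≫ prod.fst
  have hqm : Mono q := ⟨fun a b h => (cancel_mono (Sheaf.imageι g')).1
    (Limits.prod.hom_ext (by simpa only [q, Category.assoc] using h) (hone _ _))⟩
  have hpq : pW ≫ q = g := by
    rw [← Category.assoc, Sheaf.toImage_ι, prod.lift_fst]
  have sqW : IsPullback ((yon S).map s) ((yon S).map t) pW pW := by
    refine isPullback_of_yon ((cancel_mono q).1 (by rw [Category.assoc, Category.assoc, hpq, sq₀.w]))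
      fun V x y h => ?_
    have h' : x ≫ g = y ≫ g := by rw [← hpq, ← Category.assoc, h, Category.assoc]
    exact ⟨sq₀.lift x y h', ⟨sq₀.lift_fst _ _ _, sq₀.lift_snd _ _ _⟩,
      fun m hm => sq₀.hom_ext (hm.1.trans (sq₀.lift_fst _ _ _).symm) (hm.2.trans (sq₀.lift_snd _ _ _).symm)⟩
  have : IsAffine R.left := isAffine_of_isAffineHom t.left
  have hkw : t.left ≫ c.left = s.left ≫ c.left := by
    rw [← cancel_mono O.ι, Category.assoc, Category.assoc,
      show c.left ≫ O.ι = T.hom from IsOpenImmersion.lift_fac _ _ _, Over.w t, Over.w s]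
  have : IsFinite (pullback.lift t.left s.left hkw ≫ pullback.fst c.left c.left) := by
    rw [pullback.lift_fst]; exact htF
  have : IsFinite (pullback.lift t.left s.left hkw) := IsFinite.of_comp _ (pullback.fst c.left c.left)
  have : Mono (pullback.lift t.left s.left hkw) := ⟨fun {V} x y h => by
    have h1 : x ≫ t.left = y ≫ t.left := by
      simpa only [Category.assoc, pullback.lift_fst] using congr($h ≫ pullback.fst c.left c.left)
    have h2 : x ≫ s.left = y ≫ s.left := by
      simpa only [Category.assoc, pullback.lift_snd] using congr($h ≫ pullback.snd c.left c.left)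
    let V' : Over S := Over.mk (x ≫ R.hom)
    let x' : V' ⟶ R := Over.homMk x rfl
    let y' : V' ⟶ R := Over.homMk y (by
      show y ≫ R.hom = x ≫ R.hom
      rw [← Over.w t, reassoc_of% h1])
    have e1 : x' ≫ t = y' ≫ t := Over.OverMorphism.ext h1
    have e2 : x' ≫ s = y' ≫ s := Over.OverMorphism.ext h2
    have e3 : (yon S).map x' = (yon S).map y' := sq₀.hom_ext
      (by rw [← Functor.map_comp, ← Functor.map_comp]; exact congrArg _ e2)
      (by rw [← Functor.map_comp, ← Functor.map_comp]; exact congrArg _ e1)
    exact congrArg (fun m : V' ⟶ R => m.left) ((yon S).map_injective e3)⟩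
  have : IsClosedImmersion (pullback.lift t.left s.left hkw) :=
    (IsClosedImmersion.iff_isFinite_and_mono _).2 ⟨inferInstance, inferInstance⟩
  have hgen := closure_range_appTop_eq_top t.left s.left hkw
  have : Epi pW := inferInstanceAs (Epi (Sheaf.toImage g'))
  obtain ⟨C, hC, ⟨iC⟩⟩ := exists_affine_quot (Z := TO) (Sheaf.imageι g' ≫ prod.snd) pW sqW.flip
    (s := s) (t := t) (by rw [Set.union_comm]; exact hgen)
  -- the image of the closed point
  have hls : Sheaf.IsLocallySurjective pW := inferInstanceAs (Sheaf.IsLocallySurjective (Sheaf.toImage g'))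
  have hsurj := surjective_map_of_isLocallySurjective pW hls
  obtain ⟨r, hr⟩ := (yon S).map_surjective (pW ≫ iC.inv)
  let y₀ := r.left z
  let qK : Over.mk (C.left.fromSpecResidueField y₀ ≫ C.hom) ⟶ C :=
    Over.homMk (C.left.fromSpecResidueField y₀) rfl
  have : Mono qK.left := inferInstanceAs (Mono (C.left.fromSpecResidueField y₀))
  have : Mono qK := (Over.forget S).mono_of_mono_map (inferInstanceAs (Mono qK.left))
  refine ⟨C.left.residueField y₀, inferInstance, _, (yon S).map qK ≫ iC.hom ≫ q, mono_comp _ _, ?_⟩
  have hq1 : qK.left (IsLocalRing.closedPoint _) = y₀ :=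
    Scheme.fromSpecResidueField_apply y₀ _
  have hz : IsLocalRing.closedPoint k = z := Subsingleton.elim (α := ↥T.left) _ _
  have e3 : g = (yon S).map r ≫ iC.hom ≫ q := by
    rw [hr, Category.assoc]
    exact ((congrArg (pW ≫ ·) (iC.inv_hom_id_assoc q)).trans hpq).symm
  rw [ptOfHom_yon_map, e3, ptOfHom_yon_map, hq1]
  exact congrArg _ (congrArg _ hz.symm)


theorem exists_mono_point_of_qc_etale {X Y : Sp S} (hX : IsAlgSpace X) (hY : IsAlgSpace Y) {f : X ⟶ Y}
    (hq : IsQuasiCompactMor f) (he : IsEtaleMor f) {k : Type u} [Field k]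
    {str : Spec (CommRingCat.of k) ⟶ S} (p : (yon S).obj (Over.mk str) ⟶ X) [Mono p] :
    ∃ (K : Type u) (_ : Field K) (s : Spec (CommRingCat.of K) ⟶ S) (q : (yon S).obj (Over.mk s) ⟶ Y),
      Mono q ∧ ptOfHom q = Points.map f (ptOfHom p) := by
  let T : Over S := Over.mk str
  have hTsub : Subsingleton ↥T.left := inferInstanceAs (Subsingleton ↥(Spec (CommRingCat.of k)))
  have : IsAffine T.left := inferInstanceAs (IsAffine (Spec (CommRingCat.of k)))
  have hTc : CompactSpace ↥T.left := inferInstanceAs (CompactSpace ↥(Spec (CommRingCat.of k)))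
  have hT := IsAlgSpace.yon_obj (S := S) T
  let g := p ≫ f
  have hg : Representable g := representable_diag_iff.1 hY.diag g
  -- the fibre
  have sqF := IsPullback.of_hasPullback f g
  have hFsp := isAlgSpace_of_isPullback hY.diag hX hT sqF
  have hFe : IsEtaleMor (pullback.snd f g) := (isEtaleMor_iff_locP etLocal_etale hFsp hT _).2
    (locP_of_isPullback etLocal_etale hX hY hFsp sqF ((isEtaleMor_iff_locP etLocal_etale hX hY _).1 he))
  obtain ⟨G, ⟨iG⟩⟩ := exists_iso_yon_of_etale_field (X := ⟨_, hFsp⟩) (k := k) (str := str)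
    (pullback.snd f g) hFe
  obtain ⟨e, he'⟩ := (yon S).map_surjective (iG.hom ≫ pullback.snd f g)
  have hee : Etale e.left := by
    refine (repWith_yon_map_iff (P := @Etale) e).1 ?_
    rw [he']
    exact hFe _ (repWith_of_isIso _ iG.hom)
  have : CompactSpace ↥G.left := by
    have : CompactSpace ↥(Over.mk str).left := hTc
    have hTq : IsQuasiCompactSp ((yon S).obj T) :=
      (isQuasiCompactSp_iff_compactSpace hT).2 (Points.schemeHomeo T).compactSpace
    have hFc : CompactSpace (Points (pullback f g)) :=
      (isQuasiCompactSp_iff_compactSpace hFsp).1 (hq hT hTq g _ _ sqF)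
    have h1 : CompactSpace (Points ((yon S).obj G)) := by
      have hsurj : Function.Surjective (Points.map iG.inv) := fun x =>
        ⟨Points.map iG.hom x, by rw [← Points.map_comp, iG.hom_inv_id, Points.map_id]⟩
      rw [← isCompact_univ_iff, ← hsurj.range_eq, ← Set.image_univ]
      exact isCompact_univ.image (Points.continuous_map iG.inv)
    exact (Points.schemeHomeo G).symm.compactSpace
  -- the arrows
  have mk' : ∀ {R : Over S} (a b : R ⟶ T), IsPullback ((yon S).map a) ((yon S).map b) g g → Etale b.left ∧ IsFinite b.left := by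
    intro R a b sq
    let m₀ : (yon S).obj R ⟶ pullback f g := pullback.lift ((yon S).map a ≫ p) ((yon S).map b)
      (by rw [Category.assoc]; exact sq.w)
    obtain ⟨m, hm⟩ := (yon S).map_surjective (m₀ ≫ iG.inv)
    have hm0 : Mono m₀ := ⟨fun x y h => sq.hom_ext
      ((cancel_mono p).1 (by
        have := congr($h ≫ pullback.fst f g)
        simpa only [m₀, Category.assoc, pullback.lift_fst] using this))
      (by
        have := congr($h ≫ pullback.snd f g)
        simpa only [m₀, Category.assoc, pullback.lift_snd] using this)⟩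
    have : Mono ((yon S).map m) := by rw [hm]; infer_instance
    have : Mono m := (yon S).mono_of_mono_map this
    exact etale_finite_of_mono_into_fibre (k := k) (T := T) rfl e m ((yon S).map_injective (by
      rw [Functor.map_comp, hm, he', Category.assoc, iG.inv_hom_id_assoc, pullback.lift_snd]))
  obtain ⟨K, i, s, q, hm, hpt⟩ := exists_mono_point_core hY g (fun a b h => mk' a b h)
  exact ⟨K, i, s, q, hm, hpt.trans (map_ptOfHom p f).symm⟩

end Groth.Agent.AlgSpLib
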