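import Groth.Agent.AlgSpLib.PointsTop
import Groth.Agent.AlgSpLib.LocP
import Groth.Agent.AlgSpLib.LocPMore
import Groth.Agent.AlgSpLib.EtLocalInst
import Groth.Agent.SchMor12.MonoDiscrete
import Groth.Agent.AlgSpLib.EtaleField
import Groth.Agent.AlgSpLib.MonoPointDescent

/-!
One point spaces with a flat point from the spectrum of a field: all charts have fields as local rings.
-/

universe u

open CategoryTheory CategoryTheory.Limits AlgebraicGeometry
open AlgSp

noncomputable section

namespace Groth.Agent.AlgSpLib

set_option backward.isDefEq.respectTransparency.types false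

/-- a reduced scheme has a field as local ring at a point with no proper generalisation -/
theorem isField_stalk_of_maximal {X : Scheme.{u}} [IsReduced X] (x : X)
    (h : ∀ y, y ⤳ x → y = x) : IsField (X.presheaf.stalk x) := by
  refine PrimeSpectrum.subsingleton_iff_isField_of_isReduced.1 ⟨fun a b => ?_⟩
  refine (X.fromSpecStalk x).isEmbedding.injective ?_
  have : ∀ c, X.fromSpecStalk x c = x := fun c =>
    h _ (by
      have : X.fromSpecStalk x c ∈ Set.range (X.fromSpecStalk x) := ⟨c, rfl⟩
      rwa [Scheme.range_fromSpecStalk] at this)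
  exact (this a).trans (this b).symm

theorem isReduced_of_isField_stalk {X : Scheme.{u}} (h : ∀ x : X, IsField (X.presheaf.stalk x)) :
    IsReduced X := by
  have : ∀ x : X, _root_.IsReduced (X.presheaf.stalk x) := fun x => by
    have := (h x).isDomain
    infer_instance
  exact isReduced_of_isReduced_stalk X

theorem isField_stalk_of_discrete {X : Scheme.{u}} [IsReduced X] [DiscreteTopology X] (x : X) :
    IsField (X.presheaf.stalk x) :=
  isField_stalk_of_maximal x fun _ hy => hy.eq

/-- flatness over local rings which are fields -/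
theorem flat_of_isField_stalk {X Y : Scheme.{u}} (f : X ⟶ Y)
    (h : ∀ x, IsField (Y.presheaf.stalk (f x))) : Flat f := by
  refine (Flat.iff_flat_stalkMap f).2 fun x => ?_
  letI := (h x).toField
  algebraize [(f.stalkMap x).hom]
  exact inferInstanceAs (Module.Flat (Y.presheaf.stalk (f x)) (X.presheaf.stalk x))

/-- the image of a point with field stalk under a flat morphism has field stalk -/
theorem isField_stalk_of_flat {X Y : Scheme.{u}} (f : X ⟶ Y) [Flat f] (x : X)
    (h : IsField (X.presheaf.stalk x)) : IsField (Y.presheaf.stalk (f x)) := by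
  letI := h.toField
  algebraize [(f.stalkMap x).hom]
  have : Module.Flat (Y.presheaf.stalk (f x)) (X.presheaf.stalk x) := Flat.stalkMap f x
  have : IsLocalHom (algebraMap (Y.presheaf.stalk (f x)) (X.presheaf.stalk x)) :=
    inferInstanceAs (IsLocalHom (f.stalkMap x).hom)
  have := Module.FaithfullyFlat.of_flat_of_isLocalHom (A := Y.presheaf.stalk (f x))
    (B := X.presheaf.stalk x)
  refine ⟨exists_pair_ne _, mul_comm, fun {a} ha => ?_⟩
  have hu : IsUnit (algebraMap (Y.presheaf.stalk (f x)) (X.presheaf.stalk x) a) :=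
    isUnit_iff_ne_zero.2 fun e => ha <|
      FaithfulSMul.algebraMap_injective (Y.presheaf.stalk (f x)) (X.presheaf.stalk x)
        (e.trans (map_zero _).symm)
  obtain ⟨b, hb⟩ := isUnit_iff_exists_inv.1 (isUnit_of_map_unit _ a hu)
  exact ⟨b, hb⟩

/-- a locally Noetherian scheme all whose local rings are fields is discrete -/
theorem discreteTopology_of_isField_stalk {X : Scheme.{u}} [IsLocallyNoetherian X]
    (h : ∀ x : X, IsField (X.presheaf.stalk x)) : DiscreteTopology X := by
  have hmax : ∀ x y : X, y ⤳ x → y = x := fun x y hy => by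
    have : Subsingleton (PrimeSpectrum (X.presheaf.stalk x)) := by
      letI := (h x).toField; infer_instance
    have : Subsingleton ↥(Spec (X.presheaf.stalk x)) := this
    obtain ⟨c, rfl⟩ : y ∈ Set.range (X.fromSpecStalk x) := by
      rw [Scheme.range_fromSpecStalk]; exact hy
    rw [Subsingleton.elim c (IsLocalRing.closedPoint _)]
    exact X.fromSpecStalk_closedPoint
  refine discreteTopology_iff_isOpen_singleton.2 fun x => ?_
  obtain ⟨O, hO, hxO, -⟩ := exists_isAffineOpen_mem_and_subset (x := x) (U := ⊤) trivial
  have : IsNoetherianRing Γ(X, O) := IsLocallyNoetherian.component_noetherian ⟨O, hO⟩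
  have : TopologicalSpace.NoetherianSpace (O : Set X) :=
    noetherianSpace_of_isAffineOpen _ hO
  have : T1Space (O : Set X) := t1Space_iff_specializes_imp_eq.2 fun a b hab =>
    Subtype.ext (hmax b.1 a.1 (hab.map continuous_subtype_val))
  have : QuasiSober (O : Set X) := O.isOpen.isOpenEmbedding_subtypeVal.quasiSober
  have : Finite (O : Set X) := by
    have hc := (TopologicalSpace.NoetherianSpace.finite_irreducibleComponents (α := (O : Set X)))
    have := hc.to_subtype
    refine Finite.of_injective
      (fun a : (O : Set X) => (⟨irreducibleComponent a, irreducibleComponent_mem_irreducibleComponents a⟩ :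
        irreducibleComponents (O : Set X)))
      fun a b e => ?_
    have e' : irreducibleComponent a = irreducibleComponent b := congrArg Subtype.val e
    obtain ⟨η, hη⟩ := QuasiSober.sober (isIrreducible_irreducibleComponent (x := a))
      isClosed_irreducibleComponent
    have h1 : η = a := (hη.specializes mem_irreducibleComponent).eq
    have h2 : η = b := (hη.specializes (e' ▸ mem_irreducibleComponent)).eq
    exact h1.symm.trans h2
  have := isOpen_discrete ({⟨x, hxO⟩} : Set (O : Set X))
  have := O.isOpen.isOpenMap_subtype_val _ this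
  simpa using this

variable {S : Scheme.{u}} {Z : Sp S}

/-- charts of a space covered by a flat point from the spectrum of a field -/
theorem isField_stalk_of_flat_fieldPt (hZ : IsAlgSpace Z) {k : Type u} [Field k]
    {str : Spec (CommRingCat.of k) ⟶ S} (p : (yon S).obj (Over.mk str) ⟶ Z)
    (hpf : LocP @Flat p) (hps : IsSurjectiveMor p) {V : Over S} (b : (yon S).obj V ⟶ Z)
    (hb : RepWith @Etale b) :
    (∀ v, IsField (V.left.presheaf.stalk v)) ∧
    ∃ (W : Over S) (h : W ⟶ V) (a : (yon S).obj W ⟶ (yon S).obj (Over.mk str)),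
      RepWith @Etale a ∧ a ≫ p = (yon S).map h ≫ b ∧ Surjective h.left ∧
        DiscreteTopology W.left := by
  have hp : Representable p := hZ.representable_from_yon p
  have sq := hp.isPullback' b
  let W := hp.pullback b
  have he : Etale (hp.fst' b).left := hb.property _ _ _ sq.flip
  have hsub : Subsingleton ↥(Over.mk str).left :=
    inferInstanceAs (Subsingleton ↥(Spec (CommRingCat.of k)))
  have hred : IsReduced (Over.mk str).left := inferInstanceAs (IsReduced (Spec (CommRingCat.of k)))
  have : IsReduced W.left := isReduced_of_etale' (hp.fst' b).left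
  have := locallyQuasiFinite_of_etale (hp.fst' b).left
  have hd : DiscreteTopology ↥W.left := by
    refine discreteTopology_iff_isOpen_singleton.2 fun w => ?_
    have h := (hp.fst' b).left.isDiscrete_preimage_singleton ((hp.fst' b).left w)
    rw [show (hp.fst' b).left ⁻¹' {(hp.fst' b).left w} = Set.univ from
      Set.eq_univ_of_forall fun v => Subsingleton.elim _ _] at h
    have := isDiscrete_univ_iff.1 h
    exact isOpen_discrete _
  have hae : RepWith @Etale ((yon S).map (hp.fst' b)) := (repWith_yon_map_iff _ _).2 he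
  have hfl : Flat (hp.snd b).left := hpf _ b (hp.snd b) hae hb sq.w
  have hs : Surjective (hp.snd b).left :=
    (surjective_map_yon_map_iff _).1 (surjective_map_of_isPullback sq hps)
  refine ⟨fun v => ?_, W, hp.snd b, (yon S).map (hp.fst' b), hae, sq.w, hs, hd⟩
  obtain ⟨w, rfl⟩ := hs.surj v
  exact isField_stalk_of_flat _ w (isField_stalk_of_discrete w)

/-- every morphism to such a space is flat -/
theorem locP_flat_of_flat_fieldPt (hZ : IsAlgSpace Z) {k : Type u} [Field k]
    {str : Spec (CommRingCat.of k) ⟶ S} (p : (yon S).obj (Over.mk str) ⟶ Z)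
    (hpf : LocP @Flat p) (hps : IsSurjectiveMor p) {X : Sp S} (f : X ⟶ Z) : LocP @Flat f :=
  fun _ _ _ b h _ hb _ =>
    flat_of_isField_stalk h.left fun x => (isField_stalk_of_flat_fieldPt hZ p hpf hps b hb).1 _

theorem subsingleton_points_of_surjective {k : Type u} [Field k]
    {str : Spec (CommRingCat.of k) ⟶ S} {p : (yon S).obj (Over.mk str) ⟶ Z}
    (hps : IsSurjectiveMor p) : Nonempty (Points Z) ∧ Subsingleton (Points Z) := by
  have hsub : Subsingleton ↥(Over.mk str).left :=
    inferInstanceAs (Subsingleton ↥(Spec (CommRingCat.of k)))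
  have h : Subsingleton (Points ((yon S).obj (Over.mk str))) :=
    (Points.schemeHomeo (Over.mk str)).symm.toEquiv.subsingleton
  exact ⟨⟨Points.ofPt p (IsLocalRing.closedPoint k)⟩, hps.subsingleton⟩

theorem isSurjectiveMor_of_subsingleton [Subsingleton (Points Z)] {k : Type u} [Field k]
    {str : Spec (CommRingCat.of k) ⟶ S} (q : (yon S).obj (Over.mk str) ⟶ Z) : IsSurjectiveMor q :=
  fun _ => ⟨ptOfHom (𝟙 _), Subsingleton.elim _ _⟩

/-- the residue field point at a point with field stalk of an etale chart is flat -/
theorem locP_flat_residue (hZ : IsAlgSpace Z) {U : Over S} (a : (yon S).obj U ⟶ Z)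
    (ha : RepWith @Etale a) (η : U.left) (hη : IsField (U.left.presheaf.stalk η)) :
    LocP @Flat ((yon S).map (Over.homMk (U.left.fromSpecResidueField η) :
      Over.mk (U.left.fromSpecResidueField η ≫ U.hom) ⟶ U) ≫ a) := by
  have h1 : Flat (U.left.fromSpecResidueField η) := flat_of_isField_stalk _ fun x => by
    rw [show U.left.fromSpecResidueField η x = η from Scheme.fromSpecResidueField_apply η x]
    exact hη
  exact locP_comp etLocal_flat (IsAlgSpace.yon_obj _) (IsAlgSpace.yon_obj _) hZ
    (locP_of_repWith etLocal_flat (IsAlgSpace.yon_obj _) ((repWith_yon_map_iff (P := @Flat) _).2 h1))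
    (locP_of_repWith etLocal_flat (IsAlgSpace.yon_obj _) (RepWith.mono etLocal_flat.of_etale ha))

/-- reduced spaces with one point have flat surjective points from fields -/
theorem exists_flat_fieldPt (hZ : IsAlgSpace Z) (hr : EtaleLocally (fun U => IsReduced U) Z)
    [Nonempty (Points Z)] [Subsingleton (Points Z)] :
    ∃ (k : Type u) (_ : Field k) (str : Spec (CommRingCat.of k) ⟶ S)
      (p : (yon S).obj (Over.mk str) ⟶ Z), LocP @Flat p ∧ IsSurjectiveMor p := by
  obtain ⟨U, a, hae, has, hU⟩ := hr
  obtain ⟨u, -⟩ := surjective_ofPt a has (Classical.arbitrary _)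
  let C := irreducibleComponent u
  obtain ⟨η, hη⟩ := QuasiSober.sober (isIrreducible_irreducibleComponent (x := u))
    isClosed_irreducibleComponent
  have hmax : ∀ y, y ⤳ η → y = η := fun y hy => by
    have h1 : irreducibleComponent u ⊆ closure {y} := by
      rw [← hη.def]
      exact closure_minimal (Set.singleton_subset_iff.2 hy.mem_closure) isClosed_closure
    have h2 : closure {y} = irreducibleComponent u :=
      eq_irreducibleComponent isIrreducible_singleton.closure.isPreirreducible h1
    exact (hy.antisymm (hη.specializes (h2 ▸ subset_closure rfl))).eq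
  have hf : IsField (U.left.presheaf.stalk η) := isField_stalk_of_maximal η hmax
  exact ⟨U.left.residueField η, inferInstance, _, _, locP_flat_residue hZ a hae η hf,
    isSurjectiveMor_of_subsingleton _⟩

/-- a flat surjective point locally of finite type -/
theorem exists_lft_flat_fieldPt (hZ : IsAlgSpace Z) {k : Type u} [Field k]
    {str : Spec (CommRingCat.of k) ⟶ S} (p : (yon S).obj (Over.mk str) ⟶ Z)
    (hpf : LocP @Flat p) (hps : IsSurjectiveMor p) :
    ∃ (k' : Type u) (_ : Field k') (str' : Spec (CommRingCat.of k') ⟶ S)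
      (q : (yon S).obj (Over.mk str') ⟶ Z),
        LocP @LocallyOfFiniteType q ∧ LocP @Flat q ∧ IsSurjectiveMor q := by
  obtain ⟨hne, hsub⟩ := subsingleton_points_of_surjective hps
  obtain ⟨U, a, hae, has⟩ := hZ.atlas
  obtain ⟨u, -⟩ := surjective_ofPt a has (Classical.arbitrary _)
  obtain ⟨O, hO, huO, -⟩ := exists_isAffineOpen_mem_and_subset (x := u) (U := ⊤) trivial
  have : Nonempty O := ⟨⟨u, huO⟩⟩
  obtain ⟨m, hm⟩ := Ideal.exists_maximal Γ(U.left, O)
  letI := Ideal.Quotient.field m
  let K := Γ(U.left, O) ⧸ m
  let c : Spec (CommRingCat.of K) ⟶ U.left :=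
    Spec.map (CommRingCat.ofHom (Ideal.Quotient.mk m)) ≫ hO.fromSpec
  have : IsClosedImmersion (Spec.map (CommRingCat.ofHom (Ideal.Quotient.mk m))) :=
    IsClosedImmersion.spec_of_surjective _ Ideal.Quotient.mk_surjective
  have hc : LocallyOfFiniteType c := inferInstance
  let q : (yon S).obj (Over.mk (c ≫ U.hom)) ⟶ Z := (yon S).map (Over.homMk c) ≫ a
  refine ⟨K, inferInstance, c ≫ U.hom, q, ?_,
    locP_flat_of_flat_fieldPt hZ p hpf hps q, isSurjectiveMor_of_subsingleton q⟩
  exact locP_comp etLocal_lft (IsAlgSpace.yon_obj _) (IsAlgSpace.yon_obj _) hZ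
    (locP_of_repWith etLocal_lft (IsAlgSpace.yon_obj _)
      ((repWith_yon_map_iff (P := @LocallyOfFiniteType) _).2 hc))
    (locP_of_repWith etLocal_lft (IsAlgSpace.yon_obj _) (RepWith.mono etLocal_lft.of_etale hae))

/-- locally Noetherian: a point locally of finite presentation -/
theorem exists_lfp_fieldPt (hZ : IsAlgSpace Z) (hr : EtaleLocally (fun U => IsReduced U) Z)
    (hN : IsLocNoethSp Z) [Nonempty (Points Z)] [Subsingleton (Points Z)] :
    ∃ (k : Type u) (_ : Field k) (str : Spec (CommRingCat.of k) ⟶ S)
      (p : (yon S).obj (Over.mk str) ⟶ Z),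
        LocP @LocallyOfFinitePresentation p ∧ LocP @Flat p ∧ IsSurjectiveMor p := by
  obtain ⟨k, _, str, p, hpf, hps⟩ := exists_flat_fieldPt hZ hr
  obtain ⟨U, a, hae, has, hU⟩ := hN
  obtain ⟨u, -⟩ := surjective_ofPt a has (Classical.arbitrary _)
  have hf := (isField_stalk_of_flat_fieldPt hZ p hpf hps a hae).1
  have := discreteTopology_of_isField_stalk hf
  have := isReduced_of_isField_stalk hf
  let c := U.left.fromSpecResidueField u
  have : Mono c := inferInstanceAs (Mono (U.left.fromSpecResidueField u))
  have := SchMor12.isOpenImmersion_of_mono_of_discrete c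
  refine ⟨U.left.residueField u, inferInstance, c ≫ U.hom, (yon S).map (Over.homMk c) ≫ a, ?_,
    locP_flat_residue hZ a hae u (hf u), isSurjectiveMor_of_subsingleton _⟩
  exact locP_comp etLocal_lfp (IsAlgSpace.yon_obj _) (IsAlgSpace.yon_obj _) hZ
    (locP_of_repWith etLocal_lfp (IsAlgSpace.yon_obj _)
      ((repWith_yon_map_iff (P := @LocallyOfFinitePresentation) _).2
        (inferInstanceAs (LocallyOfFinitePresentation c))))
    (locP_of_repWith etLocal_lfp (IsAlgSpace.yon_obj _) (RepWith.mono etLocal_lfp.of_etale hae))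

theorem etaleLocally_reduced_of_flat_fieldPt (hZ : IsAlgSpace Z) {k : Type u} [Field k]
    {str : Spec (CommRingCat.of k) ⟶ S} (p : (yon S).obj (Over.mk str) ⟶ Z)
    (hpf : LocP @Flat p) (hps : IsSurjectiveMor p) : EtaleLocally (fun U => IsReduced U) Z := by
  obtain ⟨U, a, hae, has⟩ := hZ.atlas
  exact ⟨U, a, hae, has,
    isReduced_of_isField_stalk (isField_stalk_of_flat_fieldPt hZ p hpf hps a hae).1⟩

/-- with an lfp flat surjective point the charts are discrete and locally Noetherian -/
theorem discrete_locNoeth_of_lfp_fieldPt (hZ : IsAlgSpace Z) {k : Type u} [Field k]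
    {str : Spec (CommRingCat.of k) ⟶ S} (p : (yon S).obj (Over.mk str) ⟶ Z)
    (hpp : LocP @LocallyOfFinitePresentation p) (hpf : LocP @Flat p) (hps : IsSurjectiveMor p)
    {V : Over S} (b : (yon S).obj V ⟶ Z) (hb : RepWith @Etale b) :
    DiscreteTopology V.left ∧ IsLocallyNoetherian V.left := by
  obtain ⟨hf, W, h, a, hae, hw, hs, hd⟩ := isField_stalk_of_flat_fieldPt hZ p hpf hps b hb
  have : Flat h.left := hpf a b h hae hb hw
  have : LocallyOfFinitePresentation h.left := hpp a b h hae hb hw
  have hdisc : DiscreteTopology V.left := discreteTopology_iff_isOpen_singleton.2 fun v => by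
    obtain ⟨w, rfl⟩ := hs.surj v
    rw [← Set.image_singleton]
    exact h.left.isOpenMap _ (isOpen_discrete _)
  have := isReduced_of_isField_stalk hf
  choose O hO hvO hsub using fun v : V.left =>
    exists_isAffineOpen_mem_and_subset (x := v) (U := ⟨{v}, isOpen_discrete _⟩) rfl
  refine ⟨hdisc, (isLocallyNoetherian_iff_of_iSup_eq_top (S := fun v => ⟨O v, hO v⟩)
    (top_le_iff.1 fun v _ => TopologicalSpace.Opens.mem_iSup.2 ⟨v, hvO v⟩)).2 fun v => ?_⟩
  have : Nonempty (O v) := ⟨⟨v, hvO v⟩⟩
  have : Subsingleton (PrimeSpectrum Γ(V.left, O v)) := ⟨fun x y => by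
    refine (hO v).fromSpec.isEmbedding.injective ?_
    have : ∀ z, (hO v).fromSpec z = v := fun z => hsub v (by
      have : (hO v).fromSpec z ∈ Set.range (hO v).fromSpec := ⟨z, rfl⟩
      rwa [(hO v).range_fromSpec] at this)
    exact (this x).trans (this y).symm⟩
  letI := (PrimeSpectrum.subsingleton_iff_isField_of_isReduced.1 this).toField
  exact inferInstanceAs (IsNoetherianRing Γ(V.left, O v))

end Groth.Agent.AlgSpLib
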