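import Groth.Agent.AlgSpLib.ValuativeExistence
import Groth.Agent.AlgSpLib.MorTop
import Groth.Agent.AlgSpLib.EtLocalInst

/-!
Generalisations lift along flat morphisms of algebraic spaces.
-/

universe u

open CategoryTheory CategoryTheory.Limits AlgebraicGeometry Opposite
open AlgSp

noncomputable section

namespace Groth.Agent.AlgSpLib

set_option backward.isDefEq.respectTransparency.types false

variable {S : Scheme.{u}}

/-- generalisations lift along flat morphisms of schemes -/
theorem exists_specializes_of_flat {X Y : Scheme.{u}} (f : X ⟶ Y) [Flat f] {x : X} {y' : Y}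
    (h : y' ⤳ f x) : ∃ x', x' ⤳ x ∧ f x' = y' := by
  obtain ⟨q, rfl⟩ : y' ∈ Set.range (Y.fromSpecStalk (f x)) := by
    rw [Scheme.range_fromSpecStalk]; exact h
  have hfl : (f.stalkMap x).hom.Flat := Flat.stalkMap f x
  let := (f.stalkMap x).hom.toAlgebra
  have : Module.Flat (Y.presheaf.stalk (f x)) (X.presheaf.stalk x) := hfl
  have : IsLocalHom (algebraMap (Y.presheaf.stalk (f x)) (X.presheaf.stalk x)) :=
    inferInstanceAs (IsLocalHom (f.stalkMap x).hom)
  have := Module.FaithfullyFlat.of_flat_of_isLocalHom (A := Y.presheaf.stalk (f x)) (B := X.presheaf.stalk x)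
  obtain ⟨p, hp⟩ := PrimeSpectrum.comap_surjective_of_faithfullyFlat
    (A := Y.presheaf.stalk (f x)) (B := X.presheaf.stalk x) q
  refine ⟨X.fromSpecStalk x p, ?_, ?_⟩
  · have : X.fromSpecStalk x p ∈ Set.range (X.fromSpecStalk x) := ⟨p, rfl⟩
    rw [Scheme.range_fromSpecStalk] at this; exact this
  · show (X.fromSpecStalk x ≫ f) p = _
    have e := Scheme.SpecMap_stalkMap_fromSpecStalk (x := x) f
    rw [← e]
    show Y.fromSpecStalk (f x) (Spec.map (f.stalkMap x) p) = _
    exact congrArg _ hp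

theorem exists_specializes_lift {X Y : Sp S} (hX : IsAlgSpace X) (hY : IsAlgSpace Y) {f : Y ⟶ X}
    (hf : LocP @Flat f) {x' : Points X} (hx' : HasQcPoint x') (y : Points Y)
    (h : x' ⤳ Points.map f y) : ∃ y', y' ⤳ y ∧ Points.map f y' = x' := by
  obtain ⟨V₀, b₀, hbe, hbs⟩ := hX.atlas
  obtain ⟨W₀, a, l, hae, has, w⟩ := exists_chart_over hY hX f b₀ hbe hbs
  obtain ⟨z, rfl⟩ := surjective_ofPt a has y
  have hflat : Flat l.left := hf a b₀ l hae hbe w
  rw [Points.map_ofPt, w, ofPt_map] at h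
  obtain ⟨O, hO, hzO, -⟩ := exists_isAffineOpen_mem_and_subset (x := l.left z) (U := ⊤) trivial
  let V : Over S := Over.mk (O.ι ≫ V₀.hom)
  let j : V ⟶ V₀ := Over.homMk O.ι
  have : IsAffine V.left := hO
  have hj : IsOpenImmersion j.left := inferInstanceAs (IsOpenImmersion O.ι)
  let b := (yon S).map j ≫ b₀
  have hb : RepWith @Etale b :=
    RepWith.comp ((repWith_yon_map_iff (P := @Etale) j).2 inferInstance) hbe
  have hfin := finite_preimage_ofPt hx' b hb
  let v : ↥V.left := (⟨l.left z, hzO⟩ : O)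
  have hv : Points.ofPt b v = Points.ofPt b₀ (l.left z) := ofPt_map j b₀ v
  have h1 : v ∈ closure (Points.ofPt b ⁻¹' {x'}) := by
    rw [← (isOpenMap_ofPt b hb).preimage_closure_eq_closure_preimage (Points.continuous_ofPt b)]
    show Points.ofPt b v ∈ closure _
    rw [hv]; exact specializes_iff_mem_closure.1 h
  rw [← Set.biUnion_of_singleton (Points.ofPt b ⁻¹' {x'}), hfin.closure_biUnion] at h1
  obtain ⟨u', hu', h2⟩ := Set.mem_iUnion₂.1 h1
  obtain ⟨z', hz', hz'l⟩ := exists_specializes_of_flat l.left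
    ((specializes_iff_mem_closure.2 h2).map j.left.continuous)
  refine ⟨Points.ofPt a z', hz'.map (Points.continuous_ofPt a), ?_⟩
  rw [Points.map_ofPt, w, ofPt_map, hz'l]
  exact (ofPt_map j b₀ u').symm.trans hu'

end Groth.Agent.AlgSpLib
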