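import Groth.Agent.AlgSpLib.ValuativeRefinedMain

/-!
Universally closed morphisms with finite chart fibres satisfy the existence part of the valuative
criterion.
-/

universe u

open CategoryTheory CategoryTheory.Limits AlgebraicGeometry AlgSp IsLocalRing Topology

set_option backward.isDefEq.respectTransparency.types false

namespace Groth.Agent.AlgSpLib

variable {S : Scheme.{u}} {P : Sp S}

/-- the point is represented by a quasi-compact morphism from a quasi-separated scheme which is
injective over it -/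
def HasQcPoint (x : Points P) : Prop :=
  ∃ (Q : Over S) (k : (yon S).obj Q ⟶ P) (z : ↥Q.left), QuasiSeparatedSpace ↥Q.left ∧
    RepWith @QuasiCompact k ∧ Points.ofPt k z = x ∧ ∀ z', Points.ofPt k z' = x → z' = z

theorem finite_preimage_ofPt {x : Points P} (hx : HasQcPoint x) {W : Over S} [IsAffine W.left]
    (a : (yon S).obj W ⟶ P) (ha : RepWith @Etale a) : (Points.ofPt a ⁻¹' {x}).Finite := by
  obtain ⟨Q, k, z, hQ, hk, hz, huniq⟩ := hx
  have hr := hk.1
  have sq := hr.isPullback a
  have h1 : QuasiCompact (hr.snd a).left := hk.property_snd a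
  have : CompactSpace ↥(hr.pullback a).left := QuasiCompact.compactSpace_of_compactSpace (hr.snd a).left
  obtain ⟨f, hf⟩ := (yon S).map_surjective (hr.fst a)
  rw [← hf] at sq
  have : Etale f.left := (repWith_yon_map_iff @Etale f).1 (RepWith.baseChange sq.flip ha)
  have := locallyQuasiFinite_of_etale f.left
  have : QuasiCompact f.left := inferInstance
  refine ((f.left.finite_preimage_singleton z).image (hr.snd a).left).subset fun w hw => ?_
  rw [Set.mem_preimage, Set.mem_singleton_iff] at hw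
  obtain ⟨r, hr1, hr2⟩ := (ofPt_eq_ofPt_iff sq z w).1 (hz.trans hw.symm)
  exact ⟨r, hr1, hr2⟩

theorem exists_lift_of_qcPoint (hP : IsAlgSpace P) {A : Type u} [CommRing A] [IsDomain A]
    [ValuationRing A] {K : Type u} [Field K] [Algebra A K] [IsFractionRing A K]
    {str : Spec (CommRingCat.of A) ⟶ S} (p : P ⟶ (yon S).obj (Over.mk str))
    (hc : IsClosedMap (Points.map p)) (σ : (yon S).obj (specOver str K) ⟶ P)
    (hσ : σ ≫ p = (yon S).map (specHom str K)) (hx : HasQcPoint (ptOfHom σ)) :
    ∃ (K' : Type u) (_ : Field K') (_ : Algebra A K') (A' : ValuationSubring K') (_ : Algebra A A')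
      (_ : IsScalarTower A A' K') (ψ : K →ₐ[A] K') (l : (yon S).obj (specOver str A') ⟶ P),
      IsLocalHom (algebraMap A A') ∧ l ≫ p = (yon S).map (specHom str A') ∧
      (yon S).map (specMap str (IsScalarTower.toAlgHom A A' K')) ≫ l =
        (yon S).map (specMap str ψ) ≫ σ := by
  -- a specialization over the closed point
  obtain ⟨y, hy, hyc⟩ : ∃ y, y ∈ closure {ptOfHom σ} ∧
      Points.map p y = Points.ofScheme (Over.mk str) (closedPoint A) := by
    have hcl := hc _ (isClosed_closure (s := {ptOfHom σ}))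
    rw [← (Points.schemeHomeo _).isClosed_preimage] at hcl
    refine (specializes_closedPoint (R := A) ?_).mem_closed hcl ?_
    · exact (specHom str K).left (closedPoint K)
    · refine ⟨ptOfHom σ, subset_closure rfl, ?_⟩
      rw [map_ptOfHom, ← ofPt_eq_of_field (σ ≫ p) (closedPoint K), hσ,
        Points.ofPt_eq_map_ofScheme, map_yon_map_ofScheme]
      rfl
  -- an affine chart at it
  obtain ⟨U₀, a, hae, has⟩ := hP.atlas
  obtain ⟨u₀, hu₀⟩ := surjective_ofPt a has y
  obtain ⟨_, ⟨W₀, hW₀, rfl⟩, hu₀W, -⟩ :=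
    U₀.left.isBasis_affineOpens.exists_subset_of_mem_open (Set.mem_univ u₀) isOpen_univ
  let W₀ : U₀.left.Opens := W₀
  let W : Over S := Over.mk (W₀.ι ≫ U₀.hom)
  let iW : W ⟶ U₀ := Over.homMk W₀.ι rfl
  have : IsAffine W.left := hW₀
  obtain ⟨C, _, _, i, hi⟩ := exists_specOver_model str p W ((yon S).map iW ≫ a)
  have : IsIso i.hom.left := inferInstanceAs (IsIso ((Over.forget S).map i.hom))
  let u : ↥(specOver str C).left := i.inv.left ⟨u₀, hu₀W⟩
  have : IsAffine (specOver str C).left := inferInstanceAs (IsAffine (Spec (.of C)))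
  obtain ⟨aC, hi', haC, hu⟩ : ∃ aC : (yon S).obj (specOver str C) ⟶ P,
      aC ≫ p = (yon S).map (specHom str C) ∧ RepWith @Etale aC ∧ Points.ofPt aC u = y := by
    refine ⟨(yon S).map i.hom ≫ (yon S).map iW ≫ a, hi, RepWith.comp
      ((repWith_yon_map_iff @Etale i.hom).2 inferInstance) (RepWith.comp
        ((repWith_yon_map_iff @Etale iW).2 (inferInstance : Etale W₀.ι)) hae), ?_⟩
    rw [ofPt_map, ofPt_map, show i.hom.left u = ⟨u₀, hu₀W⟩ from by
      show (i.inv ≫ i.hom).left ⟨u₀, hu₀W⟩ = _
      rw [i.inv_hom_id]; rfl]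
    exact hu₀
  -- a generization of `u` over the point
  obtain ⟨u', hu', hsp⟩ : ∃ u', Points.ofPt aC u' = ptOfHom σ ∧ u' ⤳ u := by
    have hfin := finite_preimage_ofPt hx aC haC
    have h1 : u ∈ closure (Points.ofPt aC ⁻¹' {ptOfHom σ}) := by
      rw [← (isOpenMap_ofPt aC haC).preimage_closure_eq_closure_preimage
        (Points.continuous_ofPt aC)]
      show Points.ofPt aC u ∈ closure _
      rw [hu]; exact hy
    rw [← Set.biUnion_of_singleton (Points.ofPt aC ⁻¹' {ptOfHom σ}), hfin.closure_biUnion] at h1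
    obtain ⟨u', hu', h2⟩ := Set.mem_iUnion₂.1 h1
    exact ⟨u', hu', specializes_iff_mem_closure.2 h2⟩
  -- a common field
  obtain ⟨Ω, _, w, iΩ, jΩ, hΩ⟩ := (ptOfHom_eq_iff _ _).1 ((ofPt_eq_ptOfHom aC u').symm.trans hu')
  obtain ⟨ψ₀, hψ₀⟩ := Spec.map_surjective jΩ.left
  algebraize [((ψ₀.hom : K →+* Ω).comp (algebraMap A K))]
  have hw : Spec.map (CommRingCat.ofHom (algebraMap A Ω)) ≫ str = w := by
    have h6 : jΩ.left ≫ Spec.map (CommRingCat.ofHom (algebraMap A K)) ≫ str = w := Over.w jΩ
    rw [← hψ₀, ← Spec.map_comp_assoc] at h6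
    exact h6
  let eΩ : specOver str Ω ⟶ Over.mk w := respec hw
  let ψ : K →ₐ[A] Ω := { ψ₀.hom with commutes' := fun _ => rfl }
  have hψ : specMap str ψ = eΩ ≫ jΩ :=
    Over.OverMorphism.ext (hψ₀.trans (Category.id_comp _).symm)
  let tC : specOver str Ω ⟶ specOver str C :=
    eΩ ≫ iΩ ≫ Over.homMk ((specOver str C).left.fromSpecResidueField u') rfl
  have htC : (yon S).map tC ≫ aC = (yon S).map (specMap str ψ) ≫ σ := by
    have h2 := congrArg ((yon S).map eΩ ≫ ·) hΩ
    simp only [← Category.assoc, ← Functor.map_comp] at h2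
    simp only [tC, hψ, Functor.map_comp, Category.assoc] at h2 ⊢
    exact h2
  obtain ⟨g, hg⟩ := exists_specMap str tC ((yon S).map_injective (by
    rw [Functor.map_comp, ← hi', ← Category.assoc, htC, Category.assoc, hσ, ← Functor.map_comp,
      specMap_comp_specHom]))
  have hgu : tC.left (closedPoint Ω) = u' :=
    Scheme.fromSpecResidueField_apply u' (iΩ.left (eΩ.left (closedPoint Ω)))
  let 𝔭 : PrimeSpectrum C := u
  have : 𝔭.asIdeal.IsPrime := 𝔭.isPrime
  have hker : RingHom.ker g.toRingHom ≤ 𝔭.asIdeal := fun c hc' => by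
    have h2 : (show PrimeSpectrum C from u') ≤ 𝔭 := (PrimeSpectrum.le_iff_specializes _ _).2 hsp
    refine h2 ?_
    have e : (show PrimeSpectrum C from u') =
        (show PrimeSpectrum C from (specMap str g).left (closedPoint Ω)) := by rw [← hg, hgu]
    rw [e]
    show g c ∈ (closedPoint Ω).asIdeal
    rw [show g c = 0 from hc']
    exact Ideal.zero_mem _
  have hunit : ∀ s : 𝔭.asIdeal.primeCompl, IsUnit (g.toRingHom s) := fun s =>
    IsUnit.mk0 _ fun h0 => s.2 (hker h0)
  let O := Localization.AtPrime 𝔭.asIdeal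
  let θ : O →+* Ω := IsLocalization.lift hunit
  obtain ⟨A', hA', hA'loc⟩ := exists_factor_valuationRing θ
  have hCA : ∀ c, g c ∈ A' := fun c => by
    have := hA' (algebraMap C O c)
    rwa [IsLocalization.lift_eq] at this
  have hAA : ∀ x, algebraMap A Ω x ∈ A' := fun x => g.commutes x ▸ hCA _
  letI : Algebra A A' := ((algebraMap A Ω).codRestrict A'.toSubring hAA).toAlgebra
  have : IsScalarTower A A' Ω := IsScalarTower.of_algebraMap_eq fun _ => rfl
  let ρ : C →ₐ[A] A' :=
    { g.toRingHom.codRestrict A'.toSubring hCA with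
      commutes' := fun x => Subtype.ext (g.commutes x) }
  have hloc : IsLocalHom (algebraMap A A') := ⟨fun x hx' => by
    have e : (θ.codRestrict A'.toSubring hA') (algebraMap C O (algebraMap A C x)) =
        algebraMap A A' x := Subtype.ext (by
      show θ (algebraMap C O (algebraMap A C x)) = algebraMap A Ω x
      rw [IsLocalization.lift_eq]
      exact g.commutes x)
    have h3 : IsUnit ((θ.codRestrict A'.toSubring hA') (algebraMap C O (algebraMap A C x))) :=
      e.symm ▸ hx'
    have h4 := (IsLocalization.AtPrime.isUnit_to_map_iff O 𝔭.asIdeal _).1 (hA'loc.map_nonunit _ h3)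
    have h5 : (specHom str C).left u = closedPoint A := (Points.schemeEquiv _).injective (by
      refine Eq.trans ?_ hyc
      rw [← hu, Points.map_ofPt, hi', Points.ofPt_eq_map_ofScheme, map_yon_map_ofScheme]
      rfl)
    by_contra hnu
    refine h4 ?_
    have h6 : x ∈ (closedPoint A).asIdeal := (IsLocalRing.mem_maximalIdeal x).2 hnu
    rw [← h5] at h6
    exact h6⟩
  refine ⟨Ω, inferInstance, inferInstance, A', inferInstance, inferInstance, ψ,
    (yon S).map (specMap str ρ) ≫ aC, hloc, ?_, ?_⟩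
  · rw [Category.assoc, hi', ← Functor.map_comp, specMap_comp_specHom]
  · rw [← Functor.map_comp_assoc, ← specMap_comp, ← htC, hg]
    rfl

/-- universally closed morphisms with quasi-compact points over valuative squares satisfy the
existence part -/
theorem existVC_of_univClosed {X Y : Sp S} (hX : IsAlgSpace X) (hY : IsAlgSpace Y) {f : X ⟶ Y}
    (hc : IsUnivClosedMor f)
    (h : ∀ (sq : ValSq f) (P : Sp S) (fst : P ⟶ X) (snd : P ⟶ (yon S).obj sq.ptA)
      (σ : (yon S).obj sq.ptK ⟶ P), IsPullback fst snd f sq.bot → σ ≫ fst = sq.top →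
        σ ≫ snd = (yon S).map sq.j → HasQcPoint (ptOfHom σ)) : ExistVC f := by
  intro sq
  have sqP := IsPullback.of_hasPullback f sq.bot
  obtain ⟨σ, hσ₁, hσ₂⟩ := sqP.exists_lift sq.top ((yon S).map sq.j) sq.comm
  obtain ⟨K', _, _, A', _, _, ψ, l, hloc, hl, hlK⟩ := exists_lift_of_qcPoint
    (isAlgSpace_of_isPullback hY.diag hX (IsAlgSpace.yon_obj _) sqP) (pullback.snd f sq.bot)
    (hc (IsAlgSpace.yon_obj _) sq.bot _ _ sqP) σ hσ₂ (h sq _ _ _ σ sqP hσ₁ hσ₂)
  have hK2 : Spec.map (CommRingCat.ofHom (algebraMap A' K')) ≫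
      Spec.map (CommRingCat.ofHom (algebraMap sq.A A')) ≫ sq.str =
      Spec.map (CommRingCat.ofHom (algebraMap sq.A K')) ≫ sq.str := spec_alg_w sq.str
  refine hasLiftExt_mk sq A' K' (algebraMap sq.A A') ψ.toRingHom
    (RingHom.ext fun x => (IsScalarTower.algebraMap_apply sq.A A' K' x).symm.trans (ψ.commutes x).symm)
    hloc _ rfl (l ≫ pullback.fst f sq.bot) ?_ ?_
  · have h3 := congrArg (fun k => (yon S).map (respec hK2) ≫ k ≫ pullback.fst f sq.bot) hlK
    simp only [Category.assoc] at h3
    rw [hσ₁, ← Functor.map_comp_assoc, ← Functor.map_comp_assoc] at h3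
    refine (congrArg (fun k => (yon S).map k ≫ l ≫ pullback.fst f sq.bot)
      (Over.OverMorphism.ext (Category.id_comp
        (Spec.map (CommRingCat.ofHom (algebraMap A' K')))).symm)).trans (h3.trans ?_)
    exact congrArg (fun k => (yon S).map k ≫ sq.top)
      (Over.OverMorphism.ext (Category.id_comp (Spec.map (CommRingCat.ofHom ψ.toRingHom))))
  · rw [Category.assoc, sqP.w, reassoc_of% hl]

/-- a chart of the space with a specialization of the given point over the closed point -/
theorem exists_chart_generization (hP : IsAlgSpace P) {A : Type u} [CommRing A] [IsDomain A]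
    [ValuationRing A] {K : Type u} [Field K] [Algebra A K] [IsFractionRing A K]
    {str : Spec (CommRingCat.of A) ⟶ S} (p : P ⟶ (yon S).obj (Over.mk str))
    (hc : IsClosedMap (Points.map p)) (σ : (yon S).obj (specOver str K) ⟶ P)
    (hσ : σ ≫ p = (yon S).map (specHom str K)) (hx : HasQcPoint (ptOfHom σ)) :
    ∃ (C : Type u) (_ : CommRing C) (_ : Algebra A C) (aC : (yon S).obj (specOver str C) ⟶ P)
      (u' u : ↥(specOver str C).left),
      aC ≫ p = (yon S).map (specHom str C) ∧ RepWith @Etale aC ∧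
      Points.ofPt aC u' = ptOfHom σ ∧ u' ⤳ u ∧ (specHom str C).left u = closedPoint A := by
  -- a specialization over the closed point
  obtain ⟨y, hy, hyc⟩ : ∃ y, y ∈ closure {ptOfHom σ} ∧
      Points.map p y = Points.ofScheme (Over.mk str) (closedPoint A) := by
    have hcl := hc _ (isClosed_closure (s := {ptOfHom σ}))
    rw [← (Points.schemeHomeo _).isClosed_preimage] at hcl
    refine (specializes_closedPoint (R := A) ?_).mem_closed hcl ?_
    · exact (specHom str K).left (closedPoint K)
    · refine ⟨ptOfHom σ, subset_closure rfl, ?_⟩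
      rw [map_ptOfHom, ← ofPt_eq_of_field (σ ≫ p) (closedPoint K), hσ,
        Points.ofPt_eq_map_ofScheme, map_yon_map_ofScheme]
      rfl
  -- an affine chart at it
  obtain ⟨U₀, a, hae, has⟩ := hP.atlas
  obtain ⟨u₀, hu₀⟩ := surjective_ofPt a has y
  obtain ⟨_, ⟨W₀, hW₀, rfl⟩, hu₀W, -⟩ :=
    U₀.left.isBasis_affineOpens.exists_subset_of_mem_open (Set.mem_univ u₀) isOpen_univ
  let W₀ : U₀.left.Opens := W₀
  let W : Over S := Over.mk (W₀.ι ≫ U₀.hom)
  let iW : W ⟶ U₀ := Over.homMk W₀.ι rfl
  have : IsAffine W.left := hW₀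
  obtain ⟨C, _, _, i, hi⟩ := exists_specOver_model str p W ((yon S).map iW ≫ a)
  have : IsIso i.hom.left := inferInstanceAs (IsIso ((Over.forget S).map i.hom))
  let u : ↥(specOver str C).left := i.inv.left ⟨u₀, hu₀W⟩
  have : IsAffine (specOver str C).left := inferInstanceAs (IsAffine (Spec (.of C)))
  obtain ⟨aC, hi', haC, hu⟩ : ∃ aC : (yon S).obj (specOver str C) ⟶ P,
      aC ≫ p = (yon S).map (specHom str C) ∧ RepWith @Etale aC ∧ Points.ofPt aC u = y := by
    refine ⟨(yon S).map i.hom ≫ (yon S).map iW ≫ a, hi, RepWith.comp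
      ((repWith_yon_map_iff @Etale i.hom).2 inferInstance) (RepWith.comp
        ((repWith_yon_map_iff @Etale iW).2 (inferInstance : Etale W₀.ι)) hae), ?_⟩
    rw [ofPt_map, ofPt_map, show i.hom.left u = ⟨u₀, hu₀W⟩ from by
      show (i.inv ≫ i.hom).left ⟨u₀, hu₀W⟩ = _
      rw [i.inv_hom_id]; rfl]
    exact hu₀
  -- a generization of `u` over the point
  obtain ⟨u', hu', hsp⟩ : ∃ u', Points.ofPt aC u' = ptOfHom σ ∧ u' ⤳ u := by
    have hfin := finite_preimage_ofPt hx aC haC
    have h1 : u ∈ closure (Points.ofPt aC ⁻¹' {ptOfHom σ}) := by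
      rw [← (isOpenMap_ofPt aC haC).preimage_closure_eq_closure_preimage
        (Points.continuous_ofPt aC)]
      show Points.ofPt aC u ∈ closure _
      rw [hu]; exact hy
    rw [← Set.biUnion_of_singleton (Points.ofPt aC ⁻¹' {ptOfHom σ}), hfin.closure_biUnion] at h1
    obtain ⟨u', hu', h2⟩ := Set.mem_iUnion₂.1 h1
    exact ⟨u', hu', specializes_iff_mem_closure.2 h2⟩
  refine ⟨C, inferInstance, inferInstance, aC, u', u, hi', haC, hu', hsp, ?_⟩
  refine (Points.schemeEquiv _).injective ?_
  refine Eq.trans ?_ hyc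
  rw [← hu, Points.map_ofPt, hi', Points.ofPt_eq_map_ofScheme, map_yon_map_ofScheme]
  rfl

theorem hasQcPoint_of_fieldPt {x : Points P} {K : Type u} [Field K]
    {s : Spec (CommRingCat.of K) ⟶ S} (k : (yon S).obj (Over.mk s) ⟶ P)
    (hk : RepWith @QuasiCompact k) (hx : ptOfHom k = x) : HasQcPoint x :=
  ⟨Over.mk s, k, closedPoint K,
    inferInstanceAs (QuasiSeparatedSpace ↥(Spec (CommRingCat.of K))), hk,
    (ofPt_eq_of_field k _).trans hx, fun _ _ => Subsingleton.elim (α := PrimeSpectrum K) _ _⟩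

theorem hasQcPoint_of_isDecent (hP : IsDecent P) (x : Points P) : HasQcPoint x := by
  obtain ⟨q, hq, -, hqc⟩ := hP x
  exact hasQcPoint_of_fieldPt q.toHom hqc ((ptOfHom_toHom q).trans hq)

theorem hasQcPoint_of_quasiSeparatedMor (hP : IsAlgSpace P) {A K : Type u} [CommRing A] [Field K]
    [Algebra A K] {str : Spec (CommRingCat.of A) ⟶ S} (p : P ⟶ (yon S).obj (Over.mk str))
    (hp : IsQuasiSeparatedMor p) (σ : (yon S).obj (specOver str K) ⟶ P)
    (hσ : σ ≫ p = (yon S).map (specHom str K)) : HasQcPoint (ptOfHom σ) := by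
  refine hasQcPoint_of_fieldPt σ ((repWith_quasiCompact_iff (IsAlgSpace.yon_obj _) hP
    (representable_diag_iff.1 hP.diag σ)).2 (isQuasiCompactMor_cancel (IsAlgSpace.yon_obj _) hP
      (IsAlgSpace.yon_obj _) ?_ hp)) rfl
  rw [hσ]
  refine (repWith_quasiCompact_iff (IsAlgSpace.yon_obj _) (IsAlgSpace.yon_obj _)
    (representable_yon_map _)).1 ((repWith_yon_map_iff @QuasiCompact _).2 ?_)
  show QuasiCompact (Spec.map _)
  infer_instance

theorem hasQcPoint_of_isDecent_source {X Y : Sp S} (hY : IsAlgSpace Y) (hX : IsDecent X)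
    {T : Over S} [IsAffine T.left] {f : X ⟶ Y} {b : (yon S).obj T ⟶ Y} {fst : P ⟶ X}
    {snd : P ⟶ (yon S).obj T} (sq : IsPullback fst snd f b) (x : Points P) : HasQcPoint x := by
  obtain ⟨q, hq, hqm, hqc⟩ := hX (Points.map fst x)
  have hr := representable_diag_iff.1 hY.diag (q.toHom ≫ f)
  have sqQ := hr.isPullback b
  obtain ⟨kT, hkT⟩ : ∃ kT, (yon S).map kT = hr.fst b :=
    ⟨(yon S).preimage (hr.fst b), Functor.map_preimage _ _⟩
  obtain ⟨k, hk1, hk2⟩ := sq.exists_lift (hr.fst b ≫ q.toHom) ((yon S).map (hr.snd b))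
    (by rw [Category.assoc]; exact sqQ.w)
  have sqk : IsPullback (hr.fst b) k q.toHom fst := by
    refine IsPullback.of_bot ?_ hk1.symm sq
    rw [hk2]
    exact sqQ
  have hkm : Mono k := ⟨fun g g' e => sqk.hom_ext (by
    rw [← cancel_mono q.toHom, Category.assoc, Category.assoc, sqk.w, ← Category.assoc,
      ← Category.assoc, e]) e⟩
  obtain ⟨z', -, hz'⟩ := exists_point_of_isPullback sqk
    (x := ptOfHom (𝟙 ((yon S).obj q.pt))) (y := x) (by
      rw [map_ptOfHom, Category.id_comp, ptOfHom_toHom, hq])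
  obtain ⟨z, rfl⟩ := (Points.schemeEquiv _).surjective z'
  refine ⟨hr.pullback b, k, z, ?_, RepWith.baseChange sqk hqc,
    (Points.ofPt_eq_map_ofScheme k z).trans hz', fun z'' hz'' => (Points.schemeEquiv _).injective
      (injective_map_of_mono k ?_)⟩
  · -- separatedness of the scheme `Q`
    let Q := hr.pullback b
    have hw : kT.left ≫ q.str = (hr.snd b).left ≫ T.hom := (Over.w kT).trans (Over.w (hr.snd b)).symm
    let m : Q.left ⟶ Limits.pullback q.str T.hom := pullback.lift kT.left (hr.snd b).left hw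
    have : Mono m := ⟨fun {W} g g' e => by
      have e1 : g ≫ kT.left = g' ≫ kT.left := by
        have := congrArg (· ≫ pullback.fst q.str T.hom) e
        simpa [m, pullback.lift_fst] using this
      have e2 : g ≫ (hr.snd b).left = g' ≫ (hr.snd b).left := by
        have := congrArg (· ≫ pullback.snd q.str T.hom) e
        simpa [m, pullback.lift_snd] using this
      have hs : g' ≫ Q.hom = g ≫ Q.hom := by
        rw [← Over.w (hr.snd b), ← reassoc_of% e2]
      let G : Over.mk (g ≫ Q.hom) ⟶ Q := Over.homMk g rfl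
      let G' : Over.mk (g ≫ Q.hom) ⟶ Q := Over.homMk g' hs
      have : (yon S).map G = (yon S).map G' := by
        refine sqQ.hom_ext ?_ ?_
        · rw [← hkT, ← Functor.map_comp, ← Functor.map_comp]
          exact congrArg _ (Over.OverMorphism.ext e1)
        · rw [← Functor.map_comp, ← Functor.map_comp]
          exact congrArg _ (Over.OverMorphism.ext e2)
      exact congrArg Over.Hom.left ((yon S).map_injective this)⟩
    have : Q.left.IsSeparated := by
      constructor
      rw [← terminal.comp_from m]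
      infer_instance
    infer_instance
  · rw [hz']
    exact (Points.ofPt_eq_map_ofScheme k z'').symm.trans hz''

end Groth.Agent.AlgSpLib
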