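import Groth.Agent.SchMor12.MonoDiscrete
import Groth.Agent.AlgSpLib.MorMore2
import Groth.Agent.AlgSpLib.MorTop
import Groth.Agent.AlgSpLib.EtLocalInst
import Groth.Agent.AlgSpLib.EtaleAscend
import Groth.Agent.AlgSpLib.ValuativeExistence
import Groth.Agent.AlgSpLib.FlatGen

/-!
Points of the fibre over a point represented by a quasi-compact monomorphism.
-/

universe u

open CategoryTheory CategoryTheory.Limits AlgebraicGeometry Opposite
open AlgSp

noncomputable section

namespace Groth.Agent.AlgSpLib

set_option backward.isDefEq.respectTransparency.types false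

variable {S : Scheme.{u}}

/-- a monomorphism from a finite reduced discrete scheme, with no specialisations in its image, is a preimmersion -/
theorem isPreimmersion_of_mono_discrete {P V : Scheme.{u}} (g : P ⟶ V) [Mono g] [IsReduced P]
    [DiscreteTopology P] (hfin : ∀ p : P, ∃ W : V.Opens, g p ∈ W ∧ (g ⁻¹' (W : Set V)).Finite)
    (hsp : ∀ p q : P, g p ⤳ g q → p = q) : IsPreimmersion g := by
  refine @IsPreimmersion.mk _ _ g ⟨fun p => ?_⟩ ?_
  · let _ := (SchMor12.isField_stalk_of_discrete P p).toField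
    let c := Spec.map (g.residueFieldMap p)
    have hc : c ≫ V.fromSpecResidueField (g p) = P.fromSpecResidueField p ≫ g :=
      Scheme.Hom.SpecMap_residueFieldMap_fromSpecResidueField g p
    have : Mono (c ≫ V.fromSpecResidueField (g p)) := by rw [hc]; infer_instance
    have : Mono c := mono_of_mono c (V.fromSpecResidueField (g p))
    have : DiscreteTopology ↥(Spec (V.residueField (g p))) := inferInstance
    have := SchMor12.isOpenImmersion_of_mono_of_discrete c
    have : IsIso c := (isIso_iff_isOpenImmersion_and_epi_base _).2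
      ⟨inferInstance, (TopCat.epi_iff_surjective _).2 fun z =>
        ⟨IsLocalRing.closedPoint _, Subsingleton.elim (α := ↥(Spec (V.residueField (g p)))) _ _⟩⟩
    have : IsIso (g.residueFieldMap p) := by
      have : IsIso (Scheme.Spec.map (g.residueFieldMap p).op) := ‹IsIso c›
      have : IsIso (g.residueFieldMap p).op := isIso_of_fully_faithful Scheme.Spec _
      exact isIso_of_op _
    intro z
    obtain ⟨w, hw⟩ := (ConcreteCategory.bijective_of_isIso (g.residueFieldMap p)).2 (P.residue p z)
    obtain ⟨v, rfl⟩ := V.residue_surjective (g p) w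
    refine ⟨v, (P.residue p).hom.injective ?_⟩
    rw [← hw]
    exact (congr($(Scheme.residue_residueFieldMap g p) v)).symm
  · refine ⟨⟨?_⟩, fun p q h => hsp p q (h ▸ specializes_rfl)⟩
    refine TopologicalSpace.ext_iff.2 fun s => ⟨fun _ => ?_, fun _ => isOpen_discrete s⟩
    choose W hpW hW using hfin
    refine isOpen_induced_iff.2 ⟨⋃ p ∈ s, (W p : Set V) \ ⋃ q ∈ g ⁻¹' (W p : Set V) \ {p}, closure {g q},
      isOpen_biUnion fun p _ => (W p).2.sdiff (((hW p).subset Set.sdiff_subset).isClosed_biUnion
        fun _ _ => isClosed_closure), ?_⟩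
    ext r
    constructor
    · intro hr
      obtain ⟨p, hp, hrW, hnot⟩ := Set.mem_iUnion₂.1 hr
      by_contra hrs
      exact hnot (Set.mem_biUnion ⟨hrW, fun h => hrs (h ▸ hp)⟩ (subset_closure rfl))
    · intro hr
      refine Set.mem_biUnion hr ⟨hpW r, fun h => ?_⟩
      obtain ⟨q, hq, hrq⟩ := Set.mem_iUnion₂.1 h
      exact hq.2 (hsp q r (specializes_iff_mem_closure.2 hrq))

/-- specialisations in a finite fibre of an etale chart are trivial -/
theorem eq_of_specializes_of_finite {F : Sp S} {U : Over S} (a : (yon S).obj U ⟶ F)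
    (ha : RepWith @Etale a) {x : Points F} (hfin : (Points.ofPt a ⁻¹' {x}).Finite) {u u' : ↥U.left}
    (hu : Points.ofPt a u = x) (hu' : Points.ofPt a u' = x) (hs : u' ⤳ u) : u = u' := by
  classical
  let G : ↥U.left → Finset ↥U.left := fun w => hfin.toFinset.filter (· ⤳ w)
  obtain ⟨w₀, hw₀, hmin⟩ := hfin.toFinset.exists_min_image (fun w => (G w).card)
    ⟨u', hfin.mem_toFinset.2 hu'⟩
  rw [Set.Finite.mem_toFinset] at hw₀
  have hmin' : ∀ v, v ⤳ w₀ → Points.ofPt a v = x → v = w₀ := fun v hv hvx => by
    by_contra hv'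
    refine (hmin v (hfin.mem_toFinset.2 hvx)).not_gt (Finset.card_lt_card ?_)
    rw [Finset.ssubset_iff_of_subset (fun z hz => by
      rw [Finset.mem_filter] at hz ⊢
      exact ⟨hz.1, hz.2.trans hv⟩)]
    refine ⟨w₀, Finset.mem_filter.2 ⟨hfin.mem_toFinset.2 hw₀, specializes_rfl⟩, fun h => hv' ?_⟩
    exact (hv.antisymm (Finset.mem_filter.1 h).2).eq
  have sq := ha.1.isPullback' a
  obtain ⟨r, hr1, hr2⟩ := (ofPt_eq_ofPt_iff sq u w₀).1 (hu.trans (Eq.symm hw₀))
  have het1 : Etale (ha.1.fst' a).left := ha.property _ _ _ sq.flip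
  have het2 : Etale (ha.1.snd a).left := ha.property_snd a
  obtain ⟨r', hr', hr'1⟩ := exists_specializes_of_flat (ha.1.fst' a).left (hr1.symm ▸ hs)
  have hr'x : Points.ofPt a ((ha.1.snd a).left r') = x := by
    rw [← hu', ← hr'1]
    exact ((ofPt_eq_ofPt_iff sq _ _).2 ⟨r', rfl, rfl⟩).symm
  have e : (ha.1.snd a).left r' = w₀ :=
    hmin' _ (hr2 ▸ hr'.map (ha.1.snd a).left.continuous) hr'x
  have := locallyQuasiFinite_of_etale (ha.1.snd a).left
  have hd := isDiscrete_iff_discreteTopology.1 ((ha.1.snd a).left.isDiscrete_preimage_singleton w₀)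
  have hsp : (⟨r', e⟩ : (ha.1.snd a).left ⁻¹' {w₀}) ⤳ ⟨r, hr2⟩ := (subtype_specializes_iff _ _).2 hr'
  have : r' = r := congrArg Subtype.val (specializes_iff_eq.1 hsp)
  rw [← hr1, ← this, hr'1]

/-- the fibre over a point represented by a quasi-compact monomorphism, as a set of points -/
theorem isEmbedding_fibre {X Y : Sp S} (hX : IsAlgSpace X) (hY : IsAlgSpace Y) (f : X ⟶ Y)
    {k : Type u} [Field k] {str : Spec (CommRingCat.of k) ⟶ S} (r : (yon S).obj (Over.mk str) ⟶ Y)
    [Mono r] (hq : RepWith @QuasiCompact r) {Xk : Sp S} {fst : Xk ⟶ X}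
    {snd : Xk ⟶ (yon S).obj (Over.mk str)} (sq : IsPullback fst snd f r) :
    Topology.IsEmbedding (Points.map fst) ∧ Set.range (Points.map fst) = Points.map f ⁻¹' {ptOfHom r} := by
  have hm : Mono fst := MorphismProperty.of_isPullback (P := MorphismProperty.monomorphisms _) sq.flip
    (MorphismProperty.monomorphisms.infer_property r)
  have hsing : ∀ z : Points ((yon S).obj (Over.mk str)), Points.map r z = ptOfHom r := fun z => by
    have : Subsingleton ↥(Over.mk str).left :=
      inferInstanceAs (Subsingleton ↥(Spec (CommRingCat.of k)))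
    rw [← map_ptOfHom (𝟙 _) r |>.trans (congrArg ptOfHom (Category.id_comp r)),
      ← Points.ofScheme_toScheme _ z, ← Points.ofScheme_toScheme _ (ptOfHom (𝟙 _))]
    exact congrArg (fun t => Points.map r (Points.ofScheme _ t)) (Subsingleton.elim _ _)
  refine ⟨⟨⟨TopologicalSpace.ext_iff.2 fun W =>
    ⟨fun hW => ?_, fun hW => ?_⟩⟩, injective_map_of_mono fst⟩, ?_⟩
  rotate_left
  · obtain ⟨O, hO, rfl⟩ := isOpen_induced_iff.1 hW
    exact hO.preimage (Points.continuous_map fst)
  · ext x
    constructor
    · rintro ⟨z, rfl⟩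
      show Points.map f (Points.map fst z) = ptOfHom r
      rw [← Points.map_comp, sq.w, Points.map_comp, hsing]
    · intro hx
      obtain ⟨z, hz, -⟩ := exists_point_of_isPullback sq
        (x := x) (y := ptOfHom (𝟙 ((yon S).obj (Over.mk str)))) (by rw [hsing]; exact hx)
      exact ⟨z, hz⟩
  obtain ⟨V, b, hbe, hbs⟩ := hY.atlas
  obtain ⟨U, a, l, hae, has, w⟩ := exists_chart_over hX hY f b hbe hbs
  obtain ⟨c, hc⟩ := (yon S).map_surjective (hq.1.fst b)
  have sqP : IsPullback ((yon S).map c) ((yon S).map (hq.1.snd b)) r b := hc ▸ hq.1.isPullback b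
  have hce : Etale c.left := (repWith_yon_map_iff @Etale c).1 (RepWith.baseChange sqP.flip hbe)
  let g := (hq.1.snd b).left
  have hgm : Mono g := by
    have : Mono ((yon S).map (hq.1.snd b)) :=
      MorphismProperty.of_isPullback (P := MorphismProperty.monomorphisms _) sqP
        (MorphismProperty.monomorphisms.infer_property r)
    have : Mono (hq.1.snd b) := (yon S).mono_of_mono_map this
    exact inferInstanceAs (Mono (hq.1.snd b).left)
  have : IsReduced (Over.mk str).left := inferInstanceAs (IsReduced (Spec (CommRingCat.of k)))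
  have hsub : Subsingleton ↥(Over.mk str).left :=
    inferInstanceAs (Subsingleton ↥(Spec (CommRingCat.of k)))
  have : IsReduced (hq.1.pullback b).left := isReduced_of_etale' c.left
  have := locallyQuasiFinite_of_etale c.left
  have : DiscreteTopology ↥(hq.1.pullback b).left := by
    refine discreteTopology_iff_isOpen_singleton.2 fun w => ?_
    have h := c.left.isDiscrete_preimage_singleton (c.left w)
    rw [show c.left ⁻¹' {c.left w} = Set.univ from
      Set.eq_univ_of_forall fun v => Subsingleton.elim _ _] at h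
    have := isDiscrete_univ_iff.1 h
    exact isOpen_discrete _
  have hy : ∀ p, Points.ofPt b (g p) = ptOfHom r := fun p => by
    rw [← ofPt_map, ← sqP.w, ← Points.map_ofPt, hsing]
  have hqc : HasQcPoint (ptOfHom r) := hasQcPoint_of_fieldPt r hq rfl
  have hloc : ∀ v : ↥V.left, ∃ O : V.left.Opens, v ∈ O ∧
      {z : ↥V.left | z ∈ O ∧ Points.ofPt b z = ptOfHom r}.Finite := fun v => by
    obtain ⟨O, hO, hvO, -⟩ := exists_isAffineOpen_mem_and_subset (x := v) (U := ⊤) trivial
    let V' : Over S := Over.mk (O.ι ≫ V.hom)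
    let j : V' ⟶ V := Over.homMk O.ι
    have : IsAffine V'.left := hO
    have hj : IsOpenImmersion j.left := inferInstanceAs (IsOpenImmersion O.ι)
    have hb : RepWith @Etale ((yon S).map j ≫ b) :=
      RepWith.comp ((repWith_yon_map_iff (P := @Etale) j).2 inferInstance) hbe
    refine ⟨O, hvO, ((finite_preimage_ofPt hqc _ hb).image j.left).subset ?_⟩
    rintro z ⟨hzO, hz⟩
    exact ⟨(⟨z, hzO⟩ : O), (ofPt_map j b _).trans hz, rfl⟩
  have hgp : IsPreimmersion g := isPreimmersion_of_mono_discrete g (fun p => by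
    obtain ⟨O, hO, hfin⟩ := hloc (g p)
    exact ⟨O, hO, (hfin.preimage g.injective.injOn).subset fun q hq' => ⟨hq', hy q⟩⟩) fun p q h => by
    obtain ⟨O, hO, hfin⟩ := hloc (g q)
    let V' : Over S := Over.mk (O.ι ≫ V.hom)
    let j : V' ⟶ V := Over.homMk O.ι
    have hj : IsOpenImmersion j.left := inferInstanceAs (IsOpenImmersion O.ι)
    have hb : RepWith @Etale ((yon S).map j ≫ b) :=
      RepWith.comp ((repWith_yon_map_iff (P := @Etale) j).2 inferInstance) hbe
    have hpO : g p ∈ O := h.mem_open O.2 hO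
    have hfin' : (Points.ofPt ((yon S).map j ≫ b) ⁻¹' {ptOfHom r}).Finite := by
      refine (hfin.preimage j.left.isOpenEmbedding.injective.injOn).subset fun z hz => ⟨z.2, ?_⟩
      exact (ofPt_map j b z).symm.trans hz
    have e := eq_of_specializes_of_finite _ hb hfin' (u := (⟨g q, hO⟩ : O)) (u' := (⟨g p, hpO⟩ : O))
      ((ofPt_map j b _).trans (hy q)) ((ofPt_map j b _).trans (hy p))
      (j.left.isOpenEmbedding.isInducing.specializes_iff.1 h)
    exact g.injective (congrArg Subtype.val e).symm
  -- the chart of the fibre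
  let UK := pullback l (hq.1.snd b)
  let m : (yon S).obj UK ⟶ Xk := sq.lift ((yon S).map (pullback.fst l (hq.1.snd b)) ≫ a)
    ((yon S).map (pullback.snd l (hq.1.snd b)) ≫ (yon S).map c) (by
      rw [Category.assoc, w, ← Category.assoc, ← Functor.map_comp, pullback.condition,
        Functor.map_comp, Category.assoc, ← sqP.w, Category.assoc])
  have hpe : IsPullback ((yon S).map (pullback.fst l (hq.1.snd b))) m a fst := by
    refine IsPullback.of_bot ?_ (sq.lift_fst _ _ _).symm sq
    rw [sq.lift_snd, w]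
    exact ((IsPullback.of_hasPullback l (hq.1.snd b)).map (yon S)).paste_vert sqP.flip
  have hpre : IsPreimmersion (pullback.fst l (hq.1.snd b)).left :=
    MorphismProperty.of_isPullback ((IsPullback.of_hasPullback l (hq.1.snd b)).map (Over.forget S)).flip hgp
  obtain ⟨O, hO, hOW⟩ := (pullback.fst l (hq.1.snd b)).left.isEmbedding.isInducing.isOpen_iff.1
    (hW.preimage (Points.continuous_ofPt m))
  refine isOpen_induced_iff.2 ⟨Points.ofPt a '' O, isOpenMap_ofPt a hae _ hO, ?_⟩
  ext x
  constructor
  · rintro ⟨o, ho, hox⟩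
    rw [Points.ofPt_eq_map_ofScheme] at hox
    obtain ⟨z, hz1, hz2⟩ := exists_point_of_isPullback hpe hox
    obtain ⟨t, rfl⟩ := (Points.schemeEquiv UK).surjective z
    have ht : t ∈ (pullback.fst l (hq.1.snd b)).left ⁻¹' O := by
      show (pullback.fst l (hq.1.snd b)).left t ∈ O
      rw [(Points.schemeEquiv U).injective ((map_yon_map_ofScheme _ t).symm.trans hz1)]
      exact ho
    rw [hOW] at ht
    rw [← hz2]
    show Points.map m (Points.ofScheme UK t) ∈ W
    rw [← Points.ofPt_eq_map_ofScheme]
    exact ht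
  · intro hx
    obtain ⟨o, ho⟩ := surjective_ofPt a has (Points.map fst x)
    refine ⟨o, ?_, ho⟩
    rw [Points.ofPt_eq_map_ofScheme] at ho
    obtain ⟨z, hz1, hz2⟩ := exists_point_of_isPullback hpe ho
    obtain ⟨t, rfl⟩ := (Points.schemeEquiv UK).surjective z
    have ht : t ∈ (pullback.fst l (hq.1.snd b)).left ⁻¹' O := by
      rw [hOW]
      show Points.ofPt m t ∈ W
      rw [Points.ofPt_eq_map_ofScheme]
      exact hz2.symm ▸ hx
    have e := (Points.schemeEquiv U).injective ((map_yon_map_ofScheme _ t).symm.trans hz1)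
    exact e ▸ ht

end Groth.Agent.AlgSpLib
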