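import Groth.Agent.AlgSpLib.MorQC
import Groth.Agent.AlgSpLib.MorSep
import Groth.Agent.AlgSpLib.LocPMore
import Mathlib.AlgebraicGeometry.ZariskisMainTheorem

/-!
Proper and affine morphisms of sheaves; comparison with the absolute notions.
-/

universe u

open CategoryTheory CategoryTheory.Limits AlgebraicGeometry Topology
open AlgSp

noncomputable section

namespace Groth.Agent.AlgSpLib

set_option backward.isDefEq.respectTransparency.types false

variable {S : Scheme.{u}} {F G H : Sp S}

theorem isUnivClosedMor_of_isPullback {X' Y' : Sp S} {f : F ⟶ G} {g : Y' ⟶ G} {fst : X' ⟶ F}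
    {f' : X' ⟶ Y'} (sq : IsPullback fst f' f g) (hf : IsUnivClosedMor f) : IsUnivClosedMor f' :=
  fun _ _ hZ _ _ _ sq' => hf hZ _ _ _ (sq'.paste_horiz sq)

theorem isUnivClosedMor_comp (hG : IsAlgSpace G) (hH : IsAlgSpace H) {f : F ⟶ G} {g : G ⟶ H}
    (hf : IsUnivClosedMor f) (hg : IsUnivClosedMor g) : IsUnivClosedMor (f ≫ g) := by
  intro Z Z' hZ z fst snd sq
  have sqg := IsPullback.of_hasPullback g z
  let l := sqg.lift (fst ≫ f) snd (by rw [Category.assoc]; exact sq.w)
  have sq' : IsPullback fst l f (pullback.fst g z) :=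
    IsPullback.of_bot (v₂₁ := pullback.snd g z) (by rw [sqg.lift_snd]; exact sq)
      (sqg.lift_fst _ _ _).symm sqg
  have h1 : IsClosedMap (Points.map l) :=
    hf (isAlgSpace_of_isPullback hH.diag hG hZ sqg) _ _ _ sq'
  have h2 : IsClosedMap (Points.map (pullback.snd g z)) := hg hZ z _ _ sqg
  have e : Points.map snd = Points.map (pullback.snd g z) ∘ Points.map l := funext fun x => by
    rw [Function.comp_apply, ← Points.map_comp, sqg.lift_snd]
  show IsClosedMap (Points.map snd)
  rw [e]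
  exact h2.comp h1

theorem isUnivClosedMor_of_surjective {f : F ⟶ G} {q : G ⟶ H} (hf : IsSurjectiveMor f)
    (hp : IsUnivClosedMor (f ≫ q)) : IsUnivClosedMor q := by
  intro Z Z' hZ z fst snd sq W hW
  have sq1 := IsPullback.of_hasPullback f fst
  rw [← Set.image_preimage_eq W (surjective_map_of_isPullback sq1 hf), ← Set.image_comp,
    show Points.map snd ∘ Points.map (pullback.snd f fst) = Points.map (pullback.snd f fst ≫ snd)
      from funext fun x => (Points.map_comp _ _ x).symm]
  exact hp hZ z _ _ (sq1.paste_vert sq) _ (hW.preimage (Points.continuous_map _))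

theorem locP_of_repWith_closedImmersion (hF : IsAlgSpace F) {f : F ⟶ G}
    (hf : RepWith @IsClosedImmersion f) : LocP @LocallyOfFiniteType f :=
  locP_of_repWith etLocal_lft hF
    (RepWith.mono (fun _ _ g (_ : IsClosedImmersion g) => (inferInstance : LocallyOfFiniteType g)) hf)

theorem isProperMor_of_closedImmersion (hF : IsAlgSpace F) (hG : IsAlgSpace G) {f : F ⟶ G}
    (hf : RepWith @IsClosedImmersion f) : IsProperMor f := by
  have : Mono f := mono_of_repWith (fun _ _ g (_ : IsClosedImmersion g) => (inferInstance : Mono g)) hf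
  exact ⟨isSeparatedMor_of_mono f, ⟨locP_of_repWith_closedImmersion hF hf,
    (repWith_quasiCompact_iff hF hG hf.1).1
      (RepWith.mono (fun _ _ g (_ : IsClosedImmersion g) => (inferInstance : QuasiCompact g)) hf)⟩,
    (repWith_universallyClosed_iff hf.1).1
      (RepWith.mono (fun _ _ g (_ : IsClosedImmersion g) => (inferInstance : UniversallyClosed g)) hf)⟩

theorem isProperMor_of_isPullback (hF : IsAlgSpace F) (hG : IsAlgSpace G) {X' Y' : Sp S}
    (hY' : IsAlgSpace Y') {f : F ⟶ G} {g : Y' ⟶ G} {fst : X' ⟶ F} {f' : X' ⟶ Y'}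
    (sq : IsPullback fst f' f g) (hf : IsProperMor f) : IsProperMor f' :=
  ⟨isSeparatedMor_of_isPullback sq hf.1,
    ⟨locP_of_isPullback etLocal_lft hF hG (isAlgSpace_of_isPullback hG.diag hF hY' sq) sq hf.2.1.1,
      isQuasiCompactMor_of_isPullback hF hG hY' sq hf.2.1.2⟩,
    isUnivClosedMor_of_isPullback sq hf.2.2⟩

theorem isProperMor_comp (hF : IsAlgSpace F) (hG : IsAlgSpace G) (hH : IsAlgSpace H) {f : F ⟶ G}
    {g : G ⟶ H} (hf : IsProperMor f) (hg : IsProperMor g) : IsProperMor (f ≫ g) :=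
  ⟨isSeparatedMor_comp hf.1 hg.1, ⟨locP_comp etLocal_lft hF hG hH hf.2.1.1 hg.2.1.1,
    isQuasiCompactMor_comp hF hG hH hf.2.1.2 hg.2.1.2⟩,
    isUnivClosedMor_comp hG hH hf.2.2 hg.2.2⟩

theorem repWith_etale_of_comp_etale (hF : IsAlgSpace F) (hG : IsAlgSpace G) (hH : IsAlgSpace H)
    {f : F ⟶ G} {g : G ⟶ H} (hf : Representable f) (h : LocP @Etale (f ≫ g)) (hg : LocP @Etale g) :
    RepWith @Etale f :=
  (repWith_iff_locP etLocal_etale hF hG hf).2
    (locP_of_comp' etLocal_etale hF hG hH (fun _ _ _ a b h1 h2 => by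
      have : Etale (a ≫ b) := h1
      have : Etale b := h2
      exact Etale.of_comp a b) h hg)

/-- a property of morphisms of spaces that is checked on affine base changes -/
theorem locP_of_affine {P : MorphismProperty Scheme.{u}} (hP : EtLocal P) [IsZariskiLocalAtTarget P]
    (hF : IsAlgSpace F) (hG : IsAlgSpace G) {f : F ⟶ G}
    (h : ∀ (Z : Over S), IsAffine Z.left → ∀ (g : (yon S).obj Z ⟶ G) (Q : Sp S) (fst : Q ⟶ F)
      (snd : Q ⟶ (yon S).obj Z), IsPullback fst snd f g → LocP P snd) : LocP P f := by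
  intro U V a b l ha hb w
  refine IsZariskiLocalAtTarget.of_iSup_eq_top (P := P) (fun W : V.left.affineOpens => W.1)
    (iSup_affineOpens_eq_top _) fun W => ?_
  let V' : Over S := Over.mk (W.1.ι ≫ V.hom)
  let v : V' ⟶ V := Over.homMk W.1.ι
  let U' : Over S := Over.mk ((l.left ⁻¹ᵁ W.1).ι ≫ U.hom)
  let u : U' ⟶ U := Over.homMk (l.left ⁻¹ᵁ W.1).ι
  let l' : U' ⟶ V' := Over.homMk (l.left ∣_ W.1) (by
    show (l.left ∣_ W.1) ≫ W.1.ι ≫ V.hom = _
    rw [morphismRestrict_ι_assoc, Over.w l]; rfl)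
  have e : u ≫ l = l' ≫ v := Over.OverMorphism.ext (morphismRestrict_ι l.left W.1).symm
  let g := (yon S).map v ≫ b
  have hge : RepWith @Etale g :=
    RepWith.comp ((repWith_yon_map_iff _ v).2 (inferInstance : Etale W.1.ι)) hb
  have sq := IsPullback.of_hasPullback f g
  have hQ : IsAlgSpace (pullback f g) :=
    isAlgSpace_of_isPullback hG.diag hF (IsAlgSpace.yon_obj V') sq
  have w' : ((yon S).map u ≫ a) ≫ f = (yon S).map l' ≫ g := by
    rw [Category.assoc, w, ← Functor.map_comp_assoc, e, Functor.map_comp_assoc]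
  let a' : (yon S).obj U' ⟶ pullback f g := sq.lift _ _ w'
  have ha' : RepWith @Etale a' := by
    refine repWith_etale_of_comp_etale (IsAlgSpace.yon_obj U') hQ hF
      (hQ.representable_from_yon a') (g := pullback.fst f g) ?_
      (locP_of_repWith etLocal_etale hQ (RepWith.baseChange sq.flip hge))
    rw [sq.lift_fst]
    exact locP_of_repWith etLocal_etale (IsAlgSpace.yon_obj U')
      (RepWith.comp ((repWith_yon_map_iff _ u).2 (inferInstance : Etale (l.left ⁻¹ᵁ W.1).ι)) ha)
  have := h V' W.2 g _ _ _ sq a' (𝟙 _) l' ha' (repWith_id _ V') (by rw [sq.lift_snd, Category.comp_id])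
  exact this

theorem isProperMor_of_affine (hF : IsAlgSpace F) (hG : IsAlgSpace G) {f : F ⟶ G}
    (h : ∀ (Z : Over S), IsAffine Z.left → ∀ (g : (yon S).obj Z ⟶ G) (Q : Sp S) (fst : Q ⟶ F)
      (snd : Q ⟶ (yon S).obj Z), IsPullback fst snd f g → IsProperMor snd) : IsProperMor f :=
  ⟨repWith_diagonal_of_affine hF _ fun Z hZ g Q fst snd sq => (h Z hZ g Q fst snd sq).1,
    ⟨locP_of_affine etLocal_lft hF hG fun Z hZ g Q fst snd sq => (h Z hZ g Q fst snd sq).2.1.1,
      isQuasiCompactMor_of_affine hF hG fun Z hZ g Q fst snd sq => by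
        have : CompactSpace ↥Z.left := inferInstance
        exact compactSpace_of_isQuasiCompactMor (h Z hZ g Q fst snd sq).2.1.2
          (Z := Z) (g := 𝟙 _) (fst := 𝟙 _) (snd := snd) (IsPullback.of_horiz_isIso ⟨by simp⟩)⟩,
    isUnivClosedMor_of_affine fun Z hZ g Q fst snd sq => (h Z hZ g Q fst snd sq).2.2
      (IsAlgSpace.yon_obj Z) (𝟙 _) (𝟙 _) snd (IsPullback.of_horiz_isIso ⟨by simp⟩)⟩

theorem isAffineMor_of_repWith {f : F ⟶ G} (hf : RepWith @IsAffineHom f) : IsAffineMor f := by
  intro Z hZ g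
  have : IsAffineHom (hf.1.snd g).left := hf.property_snd g
  exact ⟨_, _, _, hf.1.isPullback g, isAffine_of_isAffineHom (hf.1.snd g).left⟩

theorem isAffineMor_of_isPullback {X' Y' : Sp S} {f : F ⟶ G} {g : Y' ⟶ G} {fst : X' ⟶ F}
    {f' : X' ⟶ Y'} (sq : IsPullback fst f' f g) (hf : IsAffineMor f) : IsAffineMor f' := by
  intro Z hZ z
  obtain ⟨W, i, p, sqW, hW⟩ := hf hZ (z ≫ g)
  exact ⟨W, i, sq.lift p ((yon S).map i ≫ z) (by rw [sqW.w, Category.assoc]),
    IsPullback.of_right (by rw [sq.lift_fst]; exact sqW) (sq.lift_snd _ _ _) sq, hW⟩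

theorem isAffineMor_comp {f : F ⟶ G} {g : G ⟶ H} (hf : IsAffineMor f) (hg : IsAffineMor g) :
    IsAffineMor (f ≫ g) := by
  intro Z hZ z
  obtain ⟨V, j, q, sqV, hV⟩ := hg hZ z
  obtain ⟨W, i, p, sqW, hW⟩ := hf hV q
  exact ⟨W, i ≫ j, p, by rw [Functor.map_comp]; exact sqW.paste_vert sqV, hW⟩

theorem isAffineMor_cancel {f : F ⟶ G} {g : G ⟶ H} (hgf : IsAffineMor (f ≫ g))
    (hg : IsAffineMor (pullback.diagonal g)) : IsAffineMor f := by
  have sq2 := IsPullback.of_hasPullback (f ≫ g) g
  let γ : F ⟶ pullback (f ≫ g) g := pullback.lift (𝟙 F) f (by simp)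
  have sqγ : IsPullback f γ (pullback.diagonal g)
      (pullback.lift (pullback.fst (f ≫ g) g ≫ f) (pullback.snd (f ≫ g) g)
        (by rw [Category.assoc]; exact sq2.w)) := by
    refine ⟨⟨?_⟩, ⟨PullbackCone.IsLimit.mk _ (fun c => c.snd ≫ pullback.fst (f ≫ g) g)
      (fun c => ?_) (fun c => ?_) ?_⟩⟩
    · apply pullback.hom_ext <;> simp [γ, pullback.lift_fst, pullback.lift_snd, pullback.lift_fst_assoc]
    · have h1 := congrArg (· ≫ pullback.fst g g) c.condition
      simp [pullback.lift_fst] at h1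
      simpa using h1.symm
    · have h1 := congrArg (· ≫ pullback.fst g g) c.condition
      have h2 := congrArg (· ≫ pullback.snd g g) c.condition
      simp [pullback.lift_fst, pullback.lift_snd] at h1 h2
      apply pullback.hom_ext
      · simp [γ, pullback.lift_fst]
      · simp [γ, pullback.lift_snd, ← h1, ← h2]
    · intro c m _ h2
      rw [← h2]
      simp [γ, pullback.lift_fst]
  have := isAffineMor_comp (isAffineMor_of_isPullback sqγ hg) (isAffineMor_of_isPullback sq2 hgf)
  simpa [γ, pullback.lift_snd] using this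

theorem repWith_diagonal_iff_diag (P : MorphismProperty Scheme.{u}) [P.IsStableUnderBaseChange]
    {T : Sp S} (hT : IsTerminal T) (q : F ⟶ T) :
    RepWith P (pullback.diagonal q) ↔ RepWith P (Limits.diag F) := by
  let m : pullback q q ⟶ F ⨯ F := prod.lift (pullback.fst q q) (pullback.snd q q)
  have : IsIso m := ⟨pullback.lift prod.fst prod.snd (hT.hom_ext _ _),
    by apply pullback.hom_ext <;> simp [m, prod.lift_fst, prod.lift_snd, pullback.lift_fst,
        pullback.lift_snd],
    by apply Limits.prod.hom_ext <;> simp [m, prod.lift_fst, prod.lift_snd, pullback.lift_fst,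
        pullback.lift_snd]⟩
  have e : Limits.diag F = pullback.diagonal q ≫ m := (diagonal_comp_lift q).symm
  have : P.RespectsIso := MorphismProperty.IsStableUnderBaseChange.respectsIso
  rw [e]
  exact (MorphismProperty.cancel_right_of_respectsIso (RepWith P) _ _).symm

theorem isQuasiCompactMor_to_terminal (hF : IsAlgSpace F) [QuasiSeparatedSpace ↥S]
    (hc : IsQuasiCompactSp F) (q : F ⟶ (yon S).obj (Over.mk (𝟙 S))) : IsQuasiCompactMor q := by
  refine isQuasiCompactMor_of_affine hF (IsAlgSpace.yon_obj _) fun Z hZ g P fst snd sq => ?_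
  obtain ⟨U, p, hpe, hps, hU⟩ := hc
  obtain ⟨l, hl⟩ := (yon S).map_surjective (p ≫ q)
  have : CompactSpace ↥U.left := hU
  have : QuasiCompact l.left := by
    have : QuasiSeparatedSpace ↥(Over.mk (𝟙 S)).left := ‹QuasiSeparatedSpace ↥S›
    infer_instance
  have sq1 := IsPullback.of_hasPullback p fst
  have h1 : IsQuasiCompactMor ((yon S).map l) :=
    (repWith_quasiCompact_iff (IsAlgSpace.yon_obj U) (IsAlgSpace.yon_obj _)
      (representable_yon_map l)).1 ((repWith_yon_map_iff _ l).2 this)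
  have : CompactSpace (Points (pullback p fst)) :=
    compactSpace_of_isQuasiCompactMor h1 (g := g) (fst := pullback.fst p fst)
      (snd := pullback.snd p fst ≫ snd) (by rw [hl]; exact sq1.paste_vert sq)
  exact ⟨(surjective_map_of_isPullback sq1 (surjective_map_of_repWith hps)).range_eq ▸
    isCompact_range (Points.continuous_map _)⟩

theorem isSeparatedMor_iff_diagonal_univClosed (hF : IsAlgSpace F) (hG : IsAlgSpace G) (f : F ⟶ G) :
    IsSeparatedMor f ↔ IsUnivClosedMor (pullback.diagonal f) := by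
  have hd := representable_diagonal hF f
  refine ⟨fun h => (repWith_universallyClosed_iff hd).1
    (RepWith.mono (fun _ _ g (_ : IsClosedImmersion g) => (inferInstance : UniversallyClosed g)) h),
    fun h => ⟨hd, fun U V g fst snd sq => ?_⟩⟩
  obtain ⟨-, hlft, -, hsep, hmono⟩ :=
    diag_package hF (pullback.diagonal f) (fun P hP => repWith_diagonal f hP)
  have : UniversallyClosed snd.left := ((repWith_universallyClosed_iff hd).2 h).2 g fst snd sq
  have : LocallyOfFiniteType snd.left := hlft.2 g fst snd sq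
  have : IsSeparated snd.left := hsep.2 g fst snd sq
  have : Mono snd.left := hmono.2 g fst snd sq
  show IsClosedImmersion snd.left
  exact (IsClosedImmersion.iff_isProper_and_mono _).2 ⟨⟨⟩, this⟩

end Groth.Agent.AlgSpLib

namespace Groth.Agent.AlgSpLib

set_option backward.isDefEq.respectTransparency.types false

variable {S : Scheme.{u}} {F : Sp S}

theorem exists_to_base (F : Sp S) :
    ∃ q : F ⟶ (yon S).obj (Over.mk (𝟙 S)), ∀ q', q' = q :=
  ⟨(isTerminal_yon_base S).some.from F, fun _ => (isTerminal_yon_base S).some.hom_ext _ _⟩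

theorem isQuasiSeparatedMor_iff_sp (q : F ⟶ (yon S).obj (Over.mk (𝟙 S))) :
    IsQuasiSeparatedMor q ↔ IsQuasiSeparatedSp F :=
  repWith_diagonal_iff_diag _ (isTerminal_yon_base S).some q

theorem compactSpace_base_of (q : F ⟶ (yon S).obj (Over.mk (𝟙 S))) (hF : IsAlgSpace F)
    (hq : IsQuasiCompactMor q) [CompactSpace ↥S] : IsQuasiCompactSp F :=
  (isQuasiCompactSp_iff_compactSpace hF).2
    (have : CompactSpace ↥(Over.mk (𝟙 S)).left := ‹CompactSpace ↥S›
    compactSpace_of_isQuasiCompactMor hq (Z := Over.mk (𝟙 S)) (g := 𝟙 _) (fst := 𝟙 _) (snd := q)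
      (IsPullback.of_horiz_isIso ⟨by simp⟩))

theorem isQuasiCompactMor_of_qc_qs (hF : IsAlgSpace F) {G : Sp S} (hG : IsAlgSpace G)
    [QuasiSeparatedSpace ↥S] (f : F ⟶ G) (hc : IsQuasiCompactSp F) (hs : IsQuasiSeparatedSp G) :
    IsQuasiCompactMor f := by
  obtain ⟨q, -⟩ := exists_to_base G
  exact isQuasiCompactMor_cancel hF hG (IsAlgSpace.yon_obj _)
    (isQuasiCompactMor_to_terminal hF hc (f ≫ q)) ((isQuasiSeparatedMor_iff_sp q).2 hs)

end Groth.Agent.AlgSpLib
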