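import Mathlib.AlgebraicGeometry.Noetherian
import Mathlib.AlgebraicGeometry.Morphisms.Flat
import Mathlib.AlgebraicGeometry.Morphisms.UniversallyOpen
import Mathlib.RingTheory.Flat.FaithfullyFlat.Algebra
import Mathlib.RingTheory.RingHom.FaithfullyFlat

/-!
Descent of being locally Noetherian along surjective flat lfp morphisms.
-/

universe u

open CategoryTheory CategoryTheory.Limits AlgebraicGeometry

namespace Groth.Agent.AlgSpLib

set_option backward.isDefEq.respectTransparency.types false

theorem isNoetherianRing_of_ff (A B : Type u) [CommRing A] [CommRing B] [Algebra A B]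
    [Module.FaithfullyFlat A B] [IsNoetherianRing B] : IsNoetherianRing A :=
  have hmono : StrictMono fun I : Ideal A => I.map (algebraMap A B) := fun I J h =>
    lt_of_le_of_ne (Ideal.map_mono h.le) fun he => h.ne (by
      simp only at he
      rw [← Ideal.comap_map_eq_self_of_faithfullyFlat (B := B) I,
        ← Ideal.comap_map_eq_self_of_faithfullyFlat (B := B) J, he])
  isNoetherian_iff.mpr hmono.wellFoundedGT.wf

theorem isLocallyNoetherian_of_surjective {X Y : Scheme.{u}} (f : X ⟶ Y) [Surjective f] [Flat f]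
    [LocallyOfFinitePresentation f] [IsLocallyNoetherian X] : IsLocallyNoetherian Y := by
  refine (isLocallyNoetherian_iff_of_affine_openCover Y.affineCover).2 fun i => ?_
  let U := Y.affineCover.X i
  let g := pullback.snd f (Y.affineCover.f i)
  have : IsLocallyNoetherian (pullback f (Y.affineCover.f i)) :=
    isLocallyNoetherian_of_isOpenImmersion (pullback.fst f (Y.affineCover.f i))
  obtain ⟨V : (pullback f (Y.affineCover.f i)).Opens, hV, e⟩ :=
    g.isOpenMap.exists_opens_image_eq_of_prespectralSpace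
      g.continuous (by simp [g.surjective.range_eq]) isOpen_univ isCompact_univ
  have : CompactSpace V := isCompact_iff_compactSpace.mp hV
  let 𝒰 := V.toScheme.affineCover.finiteSubcover
  have : ∀ j, IsAffine (𝒰.X j) := fun j => by dsimp [𝒰]; infer_instance
  have : ∀ j, IsLocallyNoetherian (𝒰.X j) := fun j =>
    isLocallyNoetherian_of_isOpenImmersion (𝒰.f j ≫ V.ι)
  let T := ∐ 𝒰.X
  let π : T ⟶ U := Sigma.desc (fun j => 𝒰.f j ≫ V.ι ≫ g)
  have hT : IsLocallyNoetherian T := (isLocallyNoetherian_iff_openCover (sigmaOpenCover 𝒰.X)).2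
    fun j => inferInstanceAs (IsLocallyNoetherian (𝒰.X j))
  have hπf : Flat π := IsZariskiLocalAtSource.sigmaDesc (fun j => inferInstance)
  have hπs : Surjective π := by
    refine ⟨fun x => ?_⟩
    obtain ⟨y, hy, hxy⟩ := e.ge (Set.mem_univ x)
    obtain ⟨j, z, hz⟩ := 𝒰.exists_eq ⟨y, hy⟩
    refine ⟨Sigma.ι 𝒰.X j z, ?_⟩
    have e2 : Sigma.ι 𝒰.X j ≫ π = 𝒰.f j ≫ V.ι ≫ g := Sigma.ι_desc _ _
    rw [← Scheme.Hom.comp_apply, e2, Scheme.Hom.comp_apply, Scheme.Hom.comp_apply, hz]
    exact hxy
  have : IsNoetherianRing Γ(T, ⊤) :=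
    IsLocallyNoetherian.component_noetherian ⟨⊤, isAffineOpen_top T⟩
  have hff : π.appTop.hom.FaithfullyFlat := by
    rw [RingHom.FaithfullyFlat.iff_flat_and_comap_surjective]
    refine ⟨(HasRingHomProperty.iff_of_isAffine (P := @Flat) (f := π)).1 inferInstance, ?_⟩
    have : Surjective (Spec.map π.appTop) :=
      (MorphismProperty.arrow_mk_iso_iff @Surjective (arrowIsoSpecΓOfIsAffine π)).1 hπs
    exact (Spec.map π.appTop).surjective
  algebraize [π.appTop.hom]
  exact isNoetherianRing_of_ff Γ(U, ⊤) Γ(T, ⊤)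

end Groth.Agent.AlgSpLib
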