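import Groth.Agent.AlgSpLib.MonoPointDescent
import Groth.Agent.AlgSpLib.FibreEmbedding
import Groth.Agent.AlgSpLib.FlatGen
import Groth.Agent.AlgSpLib.MorQC
import Groth.Agent.AlgSpLib.MorProper
import Groth.Agent.AlgSpLib.NoethSource
import Groth.Agent.Et18.EtaleLocalRing

/-!
Points with finite fibres in etale charts are represented by quasi-compact monomorphisms.
-/

universe u

open CategoryTheory CategoryTheory.Limits AlgebraicGeometry Opposite
open AlgSp

noncomputable section

namespace Groth.Agent.AlgSpLib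

set_option backward.isDefEq.respectTransparency.types false

variable {S : Scheme.{u}} {X : Sp S}

/-- `x` has finite fibres in all affine etale charts -/
def FiniteFibres (x : Points X) : Prop :=
  ∀ (V : Over S) (b : (yon S).obj V ⟶ X), IsAffine V.left → RepWith @Etale b →
    (Points.ofPt b ⁻¹' {x}).Finite

theorem map_eq_ptOfHom {k : Type u} [Field k] {str : Spec (CommRingCat.of k) ⟶ S}
    (p : (yon S).obj (Over.mk str) ⟶ X) (z : Points ((yon S).obj (Over.mk str))) :
    Points.map p z = ptOfHom p := by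
  have : Subsingleton ↥(Over.mk str).left := inferInstanceAs (Subsingleton ↥(Spec (CommRingCat.of k)))
  rw [← map_ptOfHom (𝟙 _) p |>.trans (congrArg ptOfHom (Category.id_comp p)),
    ← Points.ofScheme_toScheme _ z, ← Points.ofScheme_toScheme _ (ptOfHom (𝟙 _))]
  exact congrArg (fun t => Points.map p (Points.ofScheme _ t)) (Subsingleton.elim _ _)

theorem ofPt_eq_ptOfHom_of_field {k : Type u} [Field k] {str : Spec (CommRingCat.of k) ⟶ S}
    (p : (yon S).obj (Over.mk str) ⟶ X) (t : ↥(Over.mk str).left) : Points.ofPt p t = ptOfHom p := by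
  rw [Points.ofPt_eq_map_ofScheme, map_eq_ptOfHom]

theorem finiteFibres_of_qc {k : Type u} [Field k] {str : Spec (CommRingCat.of k) ⟶ S}
    (p : (yon S).obj (Over.mk str) ⟶ X) (hp : RepWith @QuasiCompact p) : FiniteFibres (ptOfHom p) :=
  fun _ b hV hb => @finite_preimage_ofPt _ _ _ (hasQcPoint_of_fieldPt p hp rfl) _ hV b hb

/-- a monomorphic field point with finite fibres is quasi-compact -/
theorem repWith_quasiCompact_of_finiteFibres (hX : IsAlgSpace X) {k : Type u} [Field k]
    {str : Spec (CommRingCat.of k) ⟶ S} (p : (yon S).obj (Over.mk str) ⟶ X) [Mono p]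
    (hfin : FiniteFibres (ptOfHom p)) : RepWith @QuasiCompact p := by
  have hr := representable_diag_iff.1 hX.diag p
  have hT := IsAlgSpace.yon_obj (S := S) (Over.mk str)
  refine (repWith_quasiCompact_iff hT hX hr).2 ?_
  obtain ⟨U, a, hae, has⟩ := hX.atlas
  have sq := hr.isPullback a
  refine isQuasiCompactMor_of_univOpen_cover hT hX (IsAlgSpace.yon_obj U) sq
    (isUnivOpenMor_of_isEtaleMor (IsAlgSpace.yon_obj U) hX ((isEtaleMor_iff_locP etLocal_etale
      (IsAlgSpace.yon_obj U) hX a).2 (locP_of_repWith etLocal_etale (IsAlgSpace.yon_obj U) hae)))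
    (surjective_map_of_repWith has) ?_
  refine (repWith_quasiCompact_iff (IsAlgSpace.yon_obj _) (IsAlgSpace.yon_obj _)
    (representable_yon_map _)).1 ((repWith_yon_map_iff @QuasiCompact _).2 ?_)
  obtain ⟨c, hc⟩ := (yon S).map_surjective (hr.fst a)
  have sq' : IsPullback ((yon S).map c) ((yon S).map (hr.snd a)) p a := hc ▸ sq
  have : Etale c.left := (repWith_yon_map_iff @Etale c).1 (RepWith.baseChange sq'.flip hae)
  have := locallyQuasiFinite_of_etale c.left
  have hsub : Subsingleton ↥(Over.mk str).left :=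
    inferInstanceAs (Subsingleton ↥(Spec (CommRingCat.of k)))
  have : DiscreteTopology ↥(hr.pullback a).left := by
    refine discreteTopology_iff_isOpen_singleton.2 fun w => ?_
    have h := c.left.isDiscrete_preimage_singleton (c.left w)
    rw [show c.left ⁻¹' {c.left w} = Set.univ from
      Set.eq_univ_of_forall fun v => Subsingleton.elim _ _] at h
    have := isDiscrete_univ_iff.1 h
    exact isOpen_discrete _
  have hm : Mono (hr.snd a).left := by
    have : Mono ((yon S).map (hr.snd a)) :=
      MorphismProperty.of_isPullback (P := MorphismProperty.monomorphisms _) sq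
        (MorphismProperty.monomorphisms.infer_property p)
    have : Mono (hr.snd a) := (yon S).mono_of_mono_map this
    exact inferInstanceAs (Mono (hr.snd a).left)
  refine quasiCompact_iff_forall_isAffineOpen.2 fun O hO => ?_
  let V : Over S := Over.mk (O.ι ≫ U.hom)
  let j : V ⟶ U := Over.homMk O.ι
  have : IsAffine V.left := hO
  have hj : IsOpenImmersion j.left := inferInstanceAs (IsOpenImmersion O.ι)
  have hfO := (hfin V _ inferInstance
    (RepWith.comp ((repWith_yon_map_iff (P := @Etale) j).2 inferInstance) hae)).image j.left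
  refine Set.Finite.isCompact ((hfO.preimage (hr.snd a).left.injective.injOn).subset fun w hw => ?_)
  refine ⟨(⟨(hr.snd a).left w, hw⟩ : O), ?_, rfl⟩
  show Points.ofPt ((yon S).map j ≫ a) _ = _
  erw [ofPt_map]
  show Points.ofPt a ((hr.snd a).left w) = _
  rw [← ofPt_map, ← sq'.w, ← Points.map_ofPt, map_eq_ptOfHom]

/-- the arrows over a field point with compact fibre are finite -/
theorem finite_arrows_of_compact {k : Type u} [Field k] {str : Spec (CommRingCat.of k) ⟶ S}
    (p : (yon S).obj (Over.mk str) ⟶ X) (hr : Representable p) {U R : Over S}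
    (a : (yon S).obj U ⟶ X) [CompactSpace ↥(hr.pullback a).left] (ha : RepWith @Etale a) {s t : R ⟶ U}
    (sqR : IsPullback ((yon S).map t) ((yon S).map s) a a) :
    (Points.ofPt ((yon S).map t ≫ a) ⁻¹' {ptOfHom p}).Finite := by
  obtain ⟨c, hc⟩ := (yon S).map_surjective (hr.fst a)
  let P := hr.pullback a
  have sq : IsPullback ((yon S).map c) ((yon S).map (hr.snd a)) p a := hc ▸ hr.isPullback a
  have : Etale c.left := (repWith_yon_map_iff @Etale c).1 (RepWith.baseChange sq.flip ha)
  have : CompactSpace ↥P.left := ‹CompactSpace ↥(hr.pullback a).left›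
  have hsub : Subsingleton ↥(Over.mk str).left :=
    inferInstanceAs (Subsingleton ↥(Spec (CommRingCat.of k)))
  have : IsAffine (Over.mk str).left := inferInstanceAs (IsAffine (Spec (CommRingCat.of k)))
  have : QuasiCompact c.left := (quasiCompact_iff_compactSpace (f := c.left)).2 inferInstance
  let Q := pullback c c
  let d := pullback.snd c c ≫ c
  have sqQ := (IsPullback.of_hasPullback c c).map (Over.forget S)
  have : Etale (pullback.snd c c).left :=
    MorphismProperty.of_isPullback sqQ (inferInstance : Etale c.left)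
  have : QuasiCompact (pullback.snd c c).left :=
    MorphismProperty.of_isPullback sqQ (inferInstance : QuasiCompact c.left)
  have : Etale d.left := inferInstanceAs (Etale ((pullback.snd c c).left ≫ c.left))
  have : QuasiCompact d.left := inferInstanceAs (QuasiCompact ((pullback.snd c c).left ≫ c.left))
  have := locallyQuasiFinite_of_etale d.left
  have hQ : Finite ↥Q.left := by
    refine Set.finite_univ_iff.1 ?_
    rcases isEmpty_or_nonempty ↥Q.left with h | ⟨⟨q⟩⟩
    · exact Set.toFinite _
    · exact (d.left.finite_preimage_singleton (d.left q)).subset fun w _ => Subsingleton.elim _ _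
  -- the map to the arrows
  obtain ⟨n, hn⟩ := (yon S).map_surjective (sqR.lift ((yon S).map (pullback.fst c c ≫ hr.snd a))
    ((yon S).map (pullback.snd c c ≫ hr.snd a)) (by
      rw [Functor.map_comp, Category.assoc, ← sq.w, Functor.map_comp, Category.assoc, ← sq.w,
        ← Category.assoc, ← Functor.map_comp, pullback.condition, Functor.map_comp, Category.assoc]))
  refine (Set.finite_range n.left).subset fun r hr' => ?_
  -- a point over `r`
  have sqZ := hr.isPullback ((yon S).map t ≫ a)
  have hpt : Points.map p (ptOfHom (𝟙 _)) =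
      Points.map ((yon S).map t ≫ a) (Points.ofScheme R r) := by
    rw [← Points.ofPt_eq_map_ofScheme, map_eq_ptOfHom]
    exact hr'.symm
  obtain ⟨z, -, hz⟩ := exists_point_of_isPullback sqZ hpt
  obtain ⟨w, rfl⟩ := (Points.schemeEquiv (hr.pullback ((yon S).map t ≫ a))).surjective z
  let rz := hr.snd ((yon S).map t ≫ a)
  have hz' : rz.left w = r :=
    (Points.schemeEquiv R).injective ((map_yon_map_ofScheme rz w).symm.trans hz)
  obtain ⟨e, he⟩ := (yon S).map_surjective (hr.fst ((yon S).map t ≫ a))
  have wZ : (yon S).map e ≫ p = (yon S).map rz ≫ (yon S).map t ≫ a := by rw [he]; exact sqZ.w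
  obtain ⟨l₁, hl₁⟩ := (yon S).map_surjective (sq.lift ((yon S).map e) ((yon S).map (rz ≫ t))
    (by rw [wZ, Functor.map_comp, Category.assoc]))
  obtain ⟨l₂, hl₂⟩ := (yon S).map_surjective (sq.lift ((yon S).map e) ((yon S).map (rz ≫ s))
    (by rw [wZ, Functor.map_comp, Category.assoc]; exact congrArg (_ ≫ ·) sqR.w))
  have h1 : l₁ ≫ c = e ∧ l₁ ≫ hr.snd a = rz ≫ t :=
    ⟨(yon S).map_injective (by rw [Functor.map_comp, hl₁, sq.lift_fst]),
      (yon S).map_injective (by rw [Functor.map_comp, hl₁, sq.lift_snd])⟩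
  have h2 : l₂ ≫ c = e ∧ l₂ ≫ hr.snd a = rz ≫ s :=
    ⟨(yon S).map_injective (by rw [Functor.map_comp, hl₂, sq.lift_fst]),
      (yon S).map_injective (by rw [Functor.map_comp, hl₂, sq.lift_snd])⟩
  let m : hr.pullback ((yon S).map t ≫ a) ⟶ Q := pullback.lift l₁ l₂ (h1.1.trans h2.1.symm)
  have hmn : m ≫ n = rz := by
    refine (yon S).map_injective (sqR.hom_ext ?_ ?_)
    · rw [Functor.map_comp, Category.assoc, hn, sqR.lift_fst, ← Functor.map_comp, ← Category.assoc,
        pullback.lift_fst, h1.2, Functor.map_comp]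
    · rw [Functor.map_comp, Category.assoc, hn, sqR.lift_snd, ← Functor.map_comp, ← Category.assoc,
        pullback.lift_snd, h2.2, Functor.map_comp]
  exact ⟨m.left w, by
    rw [← hz', ← hmn]
    rfl⟩

/-- the arrows over a quasi-compact field point with finite fibre are finite -/
theorem finite_arrows_of_qc (_hX : IsAlgSpace X) {k : Type u} [Field k] {str : Spec (CommRingCat.of k) ⟶ S}
    (p : (yon S).obj (Over.mk str) ⟶ X) (hp : RepWith @QuasiCompact p) {U R : Over S} [IsAffine U.left]
    (a : (yon S).obj U ⟶ X) (ha : RepWith @Etale a) {s t : R ⟶ U}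
    (sqR : IsPullback ((yon S).map t) ((yon S).map s) a a) :
    (Points.ofPt ((yon S).map t ≫ a) ⁻¹' {ptOfHom p}).Finite := by
  have : QuasiCompact (hp.1.snd a).left := hp.property_snd a
  have : CompactSpace ↥(hp.1.pullback a).left :=
    QuasiCompact.compactSpace_of_compactSpace (hp.1.snd a).left
  exact finite_arrows_of_compact p hp.1 a ha sqR

/-- a point with finitely many self arrows in a chart is represented by a monomorphism -/
theorem exists_mono_of_finite_arrows (hX : IsAlgSpace X) {U R : Over S} (a : (yon S).obj U ⟶ X)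
    (ha : RepWith @Etale a) (u : ↥U.left) {s t : R ⟶ U}
    (sqR : IsPullback ((yon S).map t) ((yon S).map s) a a) (hfin : (s.left ⁻¹' {u}).Finite) :
    ∃ (K : Type u) (_ : Field K) (sK : Spec (CommRingCat.of K) ⟶ S) (p : (yon S).obj (Over.mk sK) ⟶ X),
      Mono p ∧ ptOfHom p = Points.ofPt a u := by
  let k : Type u := U.left.residueField u
  let str : Spec (CommRingCat.of k) ⟶ S := U.left.fromSpecResidueField u ≫ U.hom
  let T : Over S := Over.mk str
  let qu : T ⟶ U := Over.homMk (U.left.fromSpecResidueField u) rfl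
  have : Mono qu.left := inferInstanceAs (Mono (U.left.fromSpecResidueField u))
  have hqp : IsPreimmersion qu.left := inferInstanceAs (IsPreimmersion (U.left.fromSpecResidueField u))
  have : Mono qu := (Over.forget S).mono_of_mono_map this
  have : Etale s.left := ha.property _ _ _ sqR
  let G := pullback qu s
  have sqG := (IsPullback.of_hasPullback qu s).map (Over.forget S)
  have : Etale (pullback.fst qu s).left := MorphismProperty.of_isPullback sqG.flip (inferInstance : Etale s.left)
  have hpre : IsPreimmersion (pullback.snd qu s).left := MorphismProperty.of_isPullback sqG hqp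
  have : Finite ↥G.left := by
    refine Set.finite_univ_iff.1 ((hfin.preimage
      (pullback.snd qu s).left.isEmbedding.injective.injOn).subset fun w _ => ?_)
    show s.left ((pullback.snd qu s).left w) = u
    have e := congrArg (fun φ : G.left ⟶ U.left => φ w) sqG.w
    simp only [Over.forget_map] at e
    refine e.symm.trans ?_
    exact Scheme.fromSpecResidueField_apply u _
  obtain ⟨K, i, sK, p, hm, hpt⟩ := exists_mono_point_core hX (k := k) (str := str)
    ((yon S).map qu ≫ a) fun {R'} x y h => by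
      obtain ⟨m', hm'⟩ := (yon S).map_surjective (sqR.lift ((yon S).map (x ≫ qu)) ((yon S).map (y ≫ qu))
        (by rw [Functor.map_comp, Category.assoc, Functor.map_comp, Category.assoc]; exact h.w))
      have e1 : m' ≫ t = x ≫ qu := (yon S).map_injective (by rw [Functor.map_comp, hm', sqR.lift_fst])
      have e2 : m' ≫ s = y ≫ qu := (yon S).map_injective (by rw [Functor.map_comp, hm', sqR.lift_snd])
      let m : R' ⟶ G := pullback.lift y m' e2.symm
      have hmono : Mono m := ⟨fun {Z} g₁ g₂ hg => by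
        have a1 := congr($hg ≫ pullback.fst qu s)
        have a2 := congr($hg ≫ pullback.snd qu s)
        simp only [m, Category.assoc, pullback.lift_fst, pullback.lift_snd] at a1 a2
        have a3 : g₁ ≫ x = g₂ ≫ x := (cancel_mono qu).1 (by
          rw [Category.assoc, Category.assoc, ← e1, reassoc_of% a2])
        refine (yon S).map_injective (h.hom_ext ?_ ?_)
        · rw [← Functor.map_comp, ← Functor.map_comp, a3]
        · rw [← Functor.map_comp, ← Functor.map_comp, a1]⟩
      exact etale_finite_of_mono_into_fibre (k := k) (T := T) rfl (pullback.fst qu s) m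
        (pullback.lift_fst _ _ _)
  refine ⟨K, i, sK, p, hm, hpt.trans ?_⟩
  rw [ptOfHom_yon_map]
  exact congrArg _ (Scheme.fromSpecResidueField_apply u _)

/-- the point of a field valued morphism, with its properties -/
theorem exists_fieldPt {K : Type u} [Field K] {str : Spec (CommRingCat.of K) ⟶ S}
    (p : (yon S).obj (Over.mk str) ⟶ X) [Mono p] (hp : RepWith @QuasiCompact p) :
    ∃ q : FieldPt X, Points.mk q = ptOfHom p ∧ Mono q.toHom ∧ RepWith @QuasiCompact q.toHom := by
  refine ⟨⟨K, str, (AlgSp.J S).uliftYonedaEquiv p⟩, rfl, ?_⟩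
  rw [show (FieldPt.toHom ⟨K, str, (AlgSp.J S).uliftYonedaEquiv p⟩ : _ ⟶ X) = p from
    Equiv.symm_apply_apply _ _]
  exact ⟨inferInstance, hp⟩

/-- finite fibres of charts and of their arrows give a quasi-compact monomorphic representative -/
theorem exists_qc_mono_point (hX : IsAlgSpace X) (x : Points X) (hfin : FiniteFibres x)
    (harr : ∀ (U R : Over S) (a : (yon S).obj U ⟶ X) (s t : R ⟶ U), IsAffine U.left → RepWith @Etale a →
      IsPullback ((yon S).map t) ((yon S).map s) a a →
      (Points.ofPt ((yon S).map t ≫ a) ⁻¹' {x}).Finite) :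
    ∃ p : FieldPt X, Points.mk p = x ∧ Mono p.toHom ∧ RepWith @QuasiCompact p.toHom := by
  obtain ⟨U₀, a₀, hae, has⟩ := hX.atlas
  obtain ⟨u₀, rfl⟩ := surjective_ofPt a₀ has x
  obtain ⟨O, hO, huO, -⟩ := exists_isAffineOpen_mem_and_subset (x := u₀) (U := ⊤) trivial
  let U : Over S := Over.mk (O.ι ≫ U₀.hom)
  let j : U ⟶ U₀ := Over.homMk O.ι
  have : IsAffine U.left := hO
  have hj : IsOpenImmersion j.left := inferInstanceAs (IsOpenImmersion O.ι)
  let a := (yon S).map j ≫ a₀
  have ha : RepWith @Etale a :=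
    RepWith.comp ((repWith_yon_map_iff (P := @Etale) j).2 inferInstance) hae
  let u : ↥U.left := (⟨u₀, huO⟩ : O)
  have hu : Points.ofPt a u = Points.ofPt a₀ u₀ := ofPt_map j a₀ u
  obtain ⟨t, ht⟩ := (yon S).map_surjective (ha.1.fst a)
  have sqR : IsPullback ((yon S).map t) ((yon S).map (ha.1.snd a)) a a := ht ▸ ha.1.isPullback a
  obtain ⟨K, _, sK, p, hm, hp⟩ := exists_mono_of_finite_arrows hX a ha u sqR
    ((harr _ _ a _ t inferInstance ha sqR).subset fun r hr => by
      show Points.ofPt _ r = _
      rw [sqR.w, ofPt_map, ← hu]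
      exact congrArg _ hr)
  rw [hu] at hp
  obtain ⟨q, hq, hqm⟩ :=
    exists_fieldPt p (repWith_quasiCompact_of_finiteFibres hX p (hp.symm ▸ hfin))
  exact ⟨q, hq.trans hp, hqm⟩

/-- a quasi-compact field point gives a quasi-compact monomorphic one -/
theorem exists_qc_mono_point_of_qc (hX : IsAlgSpace X) {k : Type u} [Field k]
    {str : Spec (CommRingCat.of k) ⟶ S} (g : (yon S).obj (Over.mk str) ⟶ X) (hg : RepWith @QuasiCompact g) :
    ∃ p : FieldPt X, Points.mk p = ptOfHom g ∧ Mono p.toHom ∧ RepWith @QuasiCompact p.toHom :=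
  exists_qc_mono_point hX _ (finiteFibres_of_qc g hg)
    fun _ _ a _ _ hU ha sqR => @finite_arrows_of_qc _ _ hX _ _ _ g hg _ _ hU a ha _ _ sqR

theorem FiniteFibres.of_mk {x : Points X}
    (hx : ∃ p : FieldPt X, Points.mk p = x ∧ Mono p.toHom ∧ RepWith @QuasiCompact p.toHom) :
    HasQcPoint x ∧ FiniteFibres x := by
  obtain ⟨p, rfl, -, hq⟩ := hx
  exact ⟨hasQcPoint_of_fieldPt p.toHom hq (ptOfHom_toHom p),
    ptOfHom_toHom p ▸ finiteFibres_of_qc p.toHom hq⟩

/-- generalisations lift to etale charts -/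
theorem exists_specializes_chart {x' : Points X} (hx' : HasQcPoint x') {U₀ : Over S}
    (a₀ : (yon S).obj U₀ ⟶ X) (ha₀ : RepWith @Etale a₀) (u : ↥U₀.left) (h : x' ⤳ Points.ofPt a₀ u) :
    ∃ u', u' ⤳ u ∧ Points.ofPt a₀ u' = x' := by
  obtain ⟨O, hO, huO, -⟩ := exists_isAffineOpen_mem_and_subset (x := u) (U := ⊤) trivial
  let V : Over S := Over.mk (O.ι ≫ U₀.hom)
  let j : V ⟶ U₀ := Over.homMk O.ι
  have : IsAffine V.left := hO
  have hj : IsOpenImmersion j.left := inferInstanceAs (IsOpenImmersion O.ι)
  let b := (yon S).map j ≫ a₀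
  have hb : RepWith @Etale b :=
    RepWith.comp ((repWith_yon_map_iff (P := @Etale) j).2 inferInstance) ha₀
  have hfin := finite_preimage_ofPt hx' b hb
  let v : ↥V.left := (⟨u, huO⟩ : O)
  have hv : Points.ofPt b v = Points.ofPt a₀ u := ofPt_map j a₀ v
  have h1 : v ∈ closure (Points.ofPt b ⁻¹' {x'}) := by
    rw [← (isOpenMap_ofPt b hb).preimage_closure_eq_closure_preimage (Points.continuous_ofPt b)]
    show Points.ofPt b v ∈ closure _
    rw [hv]; exact specializes_iff_mem_closure.1 h
  rw [← Set.biUnion_of_singleton (Points.ofPt b ⁻¹' {x'}), hfin.closure_biUnion] at h1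
  obtain ⟨u', hu', h2⟩ := Set.mem_iUnion₂.1 h1
  exact ⟨j.left u', (specializes_iff_mem_closure.2 h2).map j.left.continuous,
    (ofPt_map j a₀ u').symm.trans hu'⟩

/-- specialisations in the fibre of a point with finite fibres are trivial -/
theorem eq_of_specializes_of_finiteFibres {x : Points X} (hfin : FiniteFibres x) {U₀ : Over S}
    (a₀ : (yon S).obj U₀ ⟶ X) (ha₀ : RepWith @Etale a₀) {u u' : ↥U₀.left}
    (hu : Points.ofPt a₀ u = x) (hu' : Points.ofPt a₀ u' = x) (h : u' ⤳ u) : u = u' := by
  obtain ⟨O, hO, huO, -⟩ := exists_isAffineOpen_mem_and_subset (x := u) (U := ⊤) trivial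
  let V : Over S := Over.mk (O.ι ≫ U₀.hom)
  let j : V ⟶ U₀ := Over.homMk O.ι
  have : IsAffine V.left := hO
  have hj : IsOpenImmersion j.left := inferInstanceAs (IsOpenImmersion O.ι)
  have hb : RepWith @Etale ((yon S).map j ≫ a₀) :=
    RepWith.comp ((repWith_yon_map_iff (P := @Etale) j).2 inferInstance) ha₀
  exact congrArg Subtype.val (eq_of_specializes_of_finite _ hb (hfin V _ inferInstance hb)
    (u := (⟨u, huO⟩ : O)) (u' := (⟨u', h.mem_open O.2 huO⟩ : O))
    ((ofPt_map j a₀ _).trans hu) ((ofPt_map j a₀ _).trans hu')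
    (j.left.isOpenEmbedding.isInducing.specializes_iff.1 h))

theorem t0Space_points (hX : IsAlgSpace X) (hd : IsDecent X) : T0Space (Points X) := by
  refine ⟨fun x y hxy => ?_⟩
  obtain ⟨hx, -⟩ := FiniteFibres.of_mk (hd x)
  obtain ⟨hy, hyf⟩ := FiniteFibres.of_mk (hd y)
  obtain ⟨U, a, hae, has⟩ := hX.atlas
  obtain ⟨u, rfl⟩ := surjective_ofPt a has y
  obtain ⟨u', hu', rfl⟩ := exists_specializes_chart hx a hae u hxy.specializes
  obtain ⟨u'', hu'', he⟩ := exists_specializes_chart hy a hae u' hxy.specializes'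
  obtain rfl := eq_of_specializes_of_finiteFibres hyf a hae rfl he (hu''.trans hu')
  rw [(hu'.antisymm hu'').eq]

/-- specialisations in fibres of etale charts of locally Noetherian spaces are trivial -/
theorem eq_of_specializes_of_locNoeth (hX : IsLocNoethSp X) {U : Over S}
    (a : (yon S).obj U ⟶ X) (ha : RepWith @Etale a) (u u' : ↥U.left)
    (he : Points.ofPt a u = Points.ofPt a u') (hs : u' ⤳ u) : u = u' := by
  obtain ⟨V, b, hbe, hbs, hV⟩ := hX
  have : IsLocallyNoetherian U.left := by
    obtain ⟨c, hc⟩ := (yon S).map_surjective (ha.1.fst b)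
    have sq : IsPullback ((yon S).map c) ((yon S).map (ha.1.snd b)) a b := hc ▸ ha.1.isPullback b
    have : Etale (ha.1.snd b).left := ha.property_snd b
    have : Etale c.left := hbe.property _ _ _ sq.flip
    have : Surjective c.left := hbs.property _ _ _ sq.flip
    have := LocallyOfFiniteType.isLocallyNoetherian (ha.1.snd b).left
    exact isLocallyNoetherian_of_surjective c.left
  have sq := ha.1.isPullback' a
  obtain ⟨r, hr1, hr2⟩ := (ofPt_eq_ofPt_iff sq u u').1 he
  have het1 : Etale (ha.1.fst' a).left := ha.property _ _ _ sq.flip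
  have het2 : Etale (ha.1.snd a).left := ha.property_snd a
  have e : ringKrullDim (U.left.presheaf.stalk u) = ringKrullDim (U.left.presheaf.stalk u') := by
    rw [← hr1, ← hr2]
    exact (Et18.ringKrullDim_stalk_eq_of_etale (ha.1.fst' a).left r).symm.trans
      (Et18.ringKrullDim_stalk_eq_of_etale (ha.1.snd a).left r)
  rw [ringKrullDim_stalk_eq_coheight, ringKrullDim_stalk_eq_coheight, WithBot.coe_inj] at e
  by_contra hne
  have hlt : u < u' := lt_of_le_not_ge hs fun h => hne (hs.antisymm h).eq.symm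
  have hfin : Order.coheight u < ⊤ := by
    have := ringKrullDim_lt_top (R := U.left.presheaf.stalk u)
    rw [ringKrullDim_stalk_eq_coheight] at this
    exact WithBot.coe_lt_coe.1 this
  exact (Order.coheight_strictAnti hlt (e ▸ hfin)).ne' e

/-- decency ascends along etale morphisms -/
theorem isDecent_of_isEtaleMor' {Y : Sp S} (hX : IsAlgSpace X) (hY_space : IsAlgSpace Y) {f : X ⟶ Y} (hf : IsEtaleMor f)
    (hY : IsDecent Y) : IsDecent X := by
  intro x
  obtain ⟨p, hp, hm, hq⟩ := hY (Points.map f x)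
  have hsub : ∀ (V : Over S) (b : (yon S).obj V ⟶ X),
      Points.ofPt b ⁻¹' {x} ⊆ Points.ofPt (b ≫ f) ⁻¹' {Points.map f x} := fun V b v hv => by
    show Points.ofPt (b ≫ f) v = _
    rw [← Points.map_ofPt]
    exact congrArg _ hv
  refine exists_qc_mono_point hX x (fun V b hV hb => ((hp ▸ (FiniteFibres.of_mk ⟨p, rfl, hm, hq⟩).2)
    V _ hV (hf b hb)).subset (hsub V b)) fun U R a s t hU ha sqR => ?_
  have hb := hf a ha
  obtain ⟨t', ht'⟩ := (yon S).map_surjective (hb.1.fst (a ≫ f))
  have sq : IsPullback ((yon S).map t') ((yon S).map (hb.1.snd (a ≫ f))) (a ≫ f) (a ≫ f) :=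
    ht' ▸ hb.1.isPullback (a ≫ f)
  obtain ⟨n, hn⟩ := (yon S).map_surjective (sq.lift ((yon S).map t) ((yon S).map s)
    (by rw [← Category.assoc, sqR.w, Category.assoc]))
  have e1 : n ≫ t' = t := (yon S).map_injective (by rw [Functor.map_comp, hn, sq.lift_fst])
  have e2 : n ≫ hb.1.snd (a ≫ f) = s :=
    (yon S).map_injective (by rw [Functor.map_comp, hn, sq.lift_snd])
  have : Mono n := ⟨fun g₁ g₂ hg => (yon S).map_injective (sqR.hom_ext
    (by rw [← Functor.map_comp, ← Functor.map_comp, ← e1, reassoc_of% hg])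
    (by rw [← Functor.map_comp, ← Functor.map_comp, ← e2, reassoc_of% hg]))⟩
  have hy : (Points.ofPt ((yon S).map t' ≫ a ≫ f) ⁻¹' {Points.map f x}).Finite := by
    rw [← hp, ← ptOfHom_toHom p]
    exact @finite_arrows_of_qc _ _ hY_space _ _ _ p.toHom hq _ _ hU _ hb _ _ sq
  refine (hy.preimage n.left.injective.injOn).subset fun r hr => ?_
  have h' : Points.ofPt ((yon S).map t ≫ a ≫ f) r = Points.map f x := by
    rw [← Category.assoc, ← Points.map_ofPt]
    exact congrArg _ hr
  show Points.ofPt ((yon S).map t' ≫ a ≫ f) (n.left r) = _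
  rw [← ofPt_map, ← Category.assoc, ← Functor.map_comp, e1]
  exact h'

/-- decency ascends along representable morphisms -/
theorem isDecent_of_representable' {Y : Sp S} {f : X ⟶ Y} (hf : Representable f)
    (hY : IsDecent Y) : IsDecent X := by
  intro x
  obtain ⟨p, hp, hm, hq⟩ := hY (Points.map f x)
  have sq := hf.isPullback p.toHom
  let Z := hf.pullback p.toHom
  let q := hf.fst p.toHom
  have hqc : RepWith @QuasiCompact q := RepWith.baseChange sq.flip hq
  have : Mono q := MorphismProperty.of_isPullback (P := MorphismProperty.monomorphisms _) sq.flip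
    (MorphismProperty.monomorphisms.infer_property p.toHom)
  obtain ⟨z, hz, -⟩ := exists_point_of_isPullback sq (x := x) (y := ptOfHom (𝟙 _))
    (by rw [map_eq_ptOfHom, ptOfHom_toHom]; exact hp.symm)
  obtain ⟨w, rfl⟩ := (Points.schemeEquiv Z).surjective z
  let k : Type u := Z.left.residueField w
  let str : Spec (CommRingCat.of k) ⟶ S := Z.left.fromSpecResidueField w ≫ Z.hom
  let i : Over.mk str ⟶ Z := Over.homMk (Z.left.fromSpecResidueField w) rfl
  have : Mono i.left := inferInstanceAs (Mono (Z.left.fromSpecResidueField w))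
  have : Mono i := (Over.forget S).mono_of_mono_map this
  have : Mono ((yon S).map i) := inferInstance
  have : Mono ((yon S).map i ≫ q) := @mono_comp _ _ _ _ _ _ ‹_› _ ‹Mono q›
  have : QuasiCompact i.left := quasiCompact_iff_forall_isAffineOpen.2 fun U _ =>
    (Set.toFinite (α := ↥(Spec (Z.left.residueField w))) _).isCompact
  obtain ⟨r, hr, hrm⟩ := exists_fieldPt ((yon S).map i ≫ q)
    (RepWith.comp ((repWith_yon_map_iff (P := @QuasiCompact) i).2 inferInstance) hqc)
  refine ⟨r, hr.trans (.trans ?_ hz), hrm⟩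
  rw [ptOfHom_yon_map]
  show Points.ofPt q _ = Points.map q (Points.ofScheme Z w)
  rw [← Points.ofPt_eq_map_ofScheme]
  exact congrArg _ (Scheme.fromSpecResidueField_apply w _)

/-- decency descends along quasi-compact surjective morphisms -/
theorem isDecent_of_qc_surjective {Y : Sp S} (hX : IsAlgSpace X) (hY_space : IsAlgSpace Y) {f : X ⟶ Y}
    (hq : IsQuasiCompactMor f) (hs : IsSurjectiveMor f) (hd : IsDecent X) : IsDecent Y := by
  intro y
  obtain ⟨x, rfl⟩ := hs y
  obtain ⟨p, rfl, -, hp⟩ := hd x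
  have hT := IsAlgSpace.yon_obj (S := S) p.pt
  have h := (repWith_quasiCompact_iff hT hY_space (representable_diag_iff.1 hY_space.diag (p.toHom ≫ f))).2
    (isQuasiCompactMor_comp hT hX hY_space ((repWith_quasiCompact_iff hT hX hp.1).1 hp) hq)
  rw [← ptOfHom_toHom p, map_ptOfHom]
  exact exists_qc_mono_point_of_qc hY_space _ h

/-- quasi-separated spaces are decent -/
theorem isDecent_of_qsep (hX : IsAlgSpace X) (hs : IsQuasiSeparatedSp X) : IsDecent X := by
  intro x
  obtain ⟨K, _, str, a, rfl⟩ := exists_ptOfHom x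
  refine exists_qc_mono_point_of_qc hX a ?_
  have hT := IsAlgSpace.yon_obj (S := S) (Over.mk str)
  have hB := IsAlgSpace.yon_obj (S := S) (Over.mk (𝟙 S))
  obtain ⟨q, -⟩ := exists_to_base X
  obtain ⟨c, hc⟩ := (yon S).map_surjective (a ≫ q)
  have : QuasiCompact c.left := quasiCompact_iff_forall_isAffineOpen.2 fun U _ =>
    (Set.toFinite (α := ↥(Spec (CommRingCat.of K))) _).isCompact
  refine (repWith_quasiCompact_iff hT hX (representable_diag_iff.1 hX.diag a)).2
    (isQuasiCompactMor_cancel hT hX hB (g := q) ?_ ((isQuasiSeparatedMor_iff_sp q).2 hs))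
  rw [← hc]
  exact (repWith_quasiCompact_iff hT hB (representable_yon_map c)).1
    ((repWith_yon_map_iff (P := @QuasiCompact) c).2 inferInstance)

/-- finite fibres in an etale cover give finite fibres in all affine etale charts -/
theorem finiteFibres_of_cover {x : Points X} {ι : Type u} (U : ι → Over S)
    (φ : ∀ i, (yon S).obj (U i) ⟶ X) (hφ : ∀ i, RepWith @Etale (φ i))
    (hsurj : ∀ y : Points X, ∃ (i : ι) (v : ↥(U i).left), Points.ofPt (φ i) v = y)
    (hfin : ∀ i, (Points.ofPt (φ i) ⁻¹' {x}).Finite) : FiniteFibres x := by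
  intro V ψ hV hψ
  have hpiece : ∀ v : ↥V.left, ∃ N : Set ↥V.left, IsOpen N ∧ v ∈ N ∧
      (N ∩ Points.ofPt ψ ⁻¹' {x}).Finite := fun v => by
    obtain ⟨i, u, hu⟩ := hsurj (Points.ofPt ψ v)
    have sq := (hφ i).1.isPullback' ψ
    let W := (hφ i).1.pullback ψ
    let p₁ : W ⟶ U i := (hφ i).1.fst' ψ
    let p₂ : W ⟶ V := (hφ i).1.snd ψ
    have : Etale p₁.left := hψ.property _ _ _ sq.flip
    have : Etale p₂.left := (hφ i).property_snd ψ
    obtain ⟨w, hw1, hw2⟩ := (ofPt_eq_ofPt_iff sq u v).1 hu
    obtain ⟨O, hO, huO, -⟩ := exists_isAffineOpen_mem_and_subset (x := p₁.left w) (U := ⊤) trivial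
    obtain ⟨W', hW', hwW', hsub⟩ :=
      exists_isAffineOpen_mem_and_subset (x := w) (U := p₁.left ⁻¹ᵁ O) huO
    refine ⟨p₂.left '' W', p₂.left.isOpenMap _ W'.2, ⟨w, hwW', hw2⟩, ?_⟩
    have : IsAffine O.toScheme := hO
    have : IsAffine W'.toScheme := hW'
    let g := p₁.left.resLE O W' hsub
    have := locallyQuasiFinite_of_etale g
    have hg : (g ⁻¹' (O.ι ⁻¹' (Points.ofPt (φ i) ⁻¹' {x}))).Finite := by
      have hf := (hfin i).preimage O.ι.isOpenEmbedding.injective.injOn
      rw [← Set.biUnion_preimage_singleton]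
      exact hf.biUnion fun o _ => g.finite_preimage_singleton o
    refine (hg.image fun w' => p₂.left (W'.ι w')).subset ?_
    rintro _ ⟨⟨w', hw', rfl⟩, hx⟩
    refine ⟨(⟨w', hw'⟩ : W'), ?_, rfl⟩
    show Points.ofPt (φ i) (O.ι (g _)) = x
    rw [← Scheme.Hom.comp_apply, Scheme.Hom.resLE_comp_ι, Scheme.Hom.comp_apply]
    show Points.ofPt (φ i) (p₁.left w') = x
    rw [← ofPt_map, sq.w, ofPt_map]
    exact hx
  choose N hN hvN hNf using hpiece
  obtain ⟨σ, hσ⟩ := isCompact_univ.elim_finite_subcover N hN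
    fun v _ => Set.mem_iUnion.2 ⟨v, hvN v⟩
  refine (σ.finite_toSet.biUnion fun v _ => hNf v).subset fun v hv => ?_
  obtain ⟨v', hv', hvv'⟩ := Set.mem_iUnion₂.1 (hσ (Set.mem_univ v))
  exact Set.mem_biUnion hv' ⟨hvv', hv⟩

end Groth.Agent.AlgSpLib
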