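import Groth.Agent.AlgSpLib.DecentPoints
import Groth.Agent.FlatMorWeight.GeomPoints
import Groth.Agent.H8ProCons.ConsTopology

/-!
Decent algebraic spaces are sober: generic points of irreducible closed subsets.
-/

universe u

open CategoryTheory CategoryTheory.Limits AlgebraicGeometry Opposite Topology
open AlgSp

noncomputable section

namespace Groth.Agent.AlgSpLib

set_option backward.isDefEq.respectTransparency.types false

section Schemes

variable {R U : Scheme.{u}} (s : R ⟶ U)

/-- the scheme of `n` distinct lifts along a separated etale morphism -/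
theorem exists_distinct_lifts [Etale s] [IsSeparated s] (n : ℕ) :
    ∃ (D : Scheme.{u}) (π : D ⟶ U) (e : Fin n → (D ⟶ R)), Etale π ∧ (QuasiCompact s → QuasiCompact π) ∧
      (∀ i, e i ≫ s = π) ∧
      (∀ (Ω : Type u) [Field Ω] (h : Spec (CommRingCat.of Ω) ⟶ D), Function.Injective fun i => h ≫ e i) ∧
      ∀ (Ω : Type u) [Field Ω] (g : Spec (CommRingCat.of Ω) ⟶ U) (f : Fin n → (Spec (CommRingCat.of Ω) ⟶ R)),
        (∀ i, f i ≫ s = g) → Function.Injective f → ∃ h, h ≫ π = g ∧ ∀ i, h ≫ e i = f i := by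
  induction n with
  | zero => exact ⟨U, 𝟙 U, Fin.elim0, inferInstance, fun _ => inferInstance, fun i => i.elim0,
      fun Ω _ h i => i.elim0, fun Ω _ g f _ _ => ⟨g, Category.comp_id g, fun i => i.elim0⟩⟩
  | succ n ih =>
    obtain ⟨D, π, e, hπ, hqc, he, hinj, hfac⟩ := ih
    let P := pullback π s
    let σ : Fin n → (D ⟶ P) := fun i => pullback.lift (𝟙 D) (e i) (by rw [Category.id_comp, he])
    have hσ : ∀ i, IsClosedImmersion (σ i) := fun i => by
      have : IsClosedImmersion (σ i ≫ pullback.fst π s) := by rw [pullback.lift_fst]; infer_instance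
      exact IsClosedImmersion.of_comp (σ i) (pullback.fst π s)
    let O : P.Opens := ⟨(⋃ i, Set.range (σ i))ᶜ,
      (isClosed_iUnion_of_finite fun i => (σ i).isClosedEmbedding.isClosed_range).isOpen_compl⟩
    let e' : Fin (n + 1) → (O.toScheme ⟶ R) :=
      Fin.snoc (fun i => O.ι ≫ pullback.fst π s ≫ e i) (O.ι ≫ pullback.snd π s)
    have : Etale (pullback.fst π s) := inferInstance
    have hOc : QuasiCompact O.ι := by
      have hσo : ∀ i, IsOpen (Set.range (σ i)) := fun i => by
        have : Etale (σ i ≫ pullback.fst π s) := by rw [pullback.lift_fst]; infer_instance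
        have : Etale (σ i) := Etale.of_comp (σ i) (pullback.fst π s)
        exact (σ i).isOpenMap.isOpen_range
      have : IsClosedImmersion O.ι := { isClosedEmbedding := ⟨O.ι.isEmbedding, by
        rw [Scheme.Opens.range_ι]; exact (isOpen_iUnion hσo).isClosed_compl⟩ }
      infer_instance
    refine ⟨O.toScheme, O.ι ≫ pullback.fst π s ≫ π, e', inferInstance, fun hs => ?_, fun i => ?_,
      fun Ω _ h => ?_, fun Ω _ g f hf hfi => ?_⟩
    · have := hqc hs
      infer_instance
    · induction i using Fin.lastCases with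
      | last => simp only [e', Fin.snoc_last, Category.assoc, pullback.condition]
      | cast i => simp only [e', Fin.snoc_castSucc, Category.assoc, he]
    · have key : ∀ i : Fin n, h ≫ O.ι ≫ pullback.fst π s ≫ e i ≠ h ≫ O.ι ≫ pullback.snd π s := fun i hi => by
        have hh : h ≫ O.ι = (h ≫ O.ι ≫ pullback.fst π s) ≫ σ i := by
          refine pullback.hom_ext ?_ ?_
          · simp only [σ, Category.assoc, pullback.lift_fst, Category.comp_id]
          · simp only [σ, Category.assoc, pullback.lift_snd]; exact hi.symm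
        have hmem : O.ι (h (IsLocalRing.closedPoint Ω)) ∈ Set.range (σ i) :=
          ⟨(h ≫ O.ι ≫ pullback.fst π s) (IsLocalRing.closedPoint Ω),
            (congrArg (fun φ : Spec (CommRingCat.of Ω) ⟶ P => φ (IsLocalRing.closedPoint Ω)) hh).symm⟩
        exact (h (IsLocalRing.closedPoint Ω)).2 (Set.mem_iUnion.2 ⟨i, hmem⟩)
      intro i j hij
      induction i using Fin.lastCases with
      | last =>
        induction j using Fin.lastCases with
        | last => rfl
        | cast j =>
          simp only [e', Fin.snoc_last, Fin.snoc_castSucc] at hij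
          exact absurd hij.symm (key j)
      | cast i =>
        induction j using Fin.lastCases with
        | last =>
          simp only [e', Fin.snoc_last, Fin.snoc_castSucc] at hij
          exact absurd hij (key i)
        | cast j =>
          simp only [e', Fin.snoc_castSucc] at hij
          exact congrArg Fin.castSucc (hinj Ω (h ≫ O.ι ≫ pullback.fst π s)
            (by simpa only [Category.assoc] using hij))
    · obtain ⟨h₀, hh₀, hh₀e⟩ := hfac Ω g (fun i => f i.castSucc) (fun i => hf _)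
        fun i j hij => Fin.castSucc_injective n (hfi hij)
      let h := pullback.lift h₀ (f (Fin.last n)) (by rw [hh₀, hf])
      have hh : Set.range h ⊆ Set.range O.ι := by
        rw [Scheme.Opens.range_ι]
        rintro _ ⟨p, rfl⟩ hp
        obtain ⟨i, d, hd⟩ := Set.mem_iUnion.1 hp
        have := hσ i
        have : Subsingleton ↥(Spec (CommRingCat.of Ω)) := inferInstance
        have : Surjective (pullback.snd (σ i) h) := ⟨fun q => by
          obtain ⟨z, -, hz⟩ := Scheme.Pullback.exists_preimage_pullback (f := σ i) (g := h) d p hd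
          exact ⟨z, hz.trans (Subsingleton.elim _ _)⟩⟩
        have : IsIso (pullback.snd (σ i) h) := isIso_of_isClosedImmersion_of_surjective _
        have e1 : h = (inv (pullback.snd (σ i) h) ≫ pullback.fst (σ i) h) ≫ σ i := by
          rw [Category.assoc, pullback.condition, IsIso.inv_hom_id_assoc]
        have a1 := congr($e1 ≫ pullback.fst π s)
        have a2 := congr($e1 ≫ pullback.snd π s)
        simp only [h, σ, Category.assoc, pullback.lift_fst, pullback.lift_snd, Category.comp_id] at a1 a2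
        have : f (Fin.last n) = f i.castSucc := by
          rw [← hh₀e i, a2]
          conv_rhs => rw [a1]
          rw [Category.assoc]
        exact (Fin.castSucc_lt_last i).ne (hfi this).symm
      have hl := IsOpenImmersion.lift_fac O.ι h hh
      refine ⟨IsOpenImmersion.lift O.ι h hh, ?_, fun i => ?_⟩
      · rw [reassoc_of% hl, pullback.lift_fst_assoc, hh₀]
      · induction i using Fin.lastCases with
        | last => simp only [e', Fin.snoc_last]; rw [reassoc_of% hl, pullback.lift_snd]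
        | cast i =>
          simp only [e', Fin.snoc_castSucc]
          rw [reassoc_of% hl, pullback.lift_fst_assoc, hh₀e]

/-- generic points exist: abstract form -/
theorem exists_isGenericPoint_of_chart [IsAffine U] (t : R ⟶ U) [Etale s] [IsSeparated s] {P : Type*}
    [TopologicalSpace P] (f : U → P) (hc : Continuous f) (ho : IsOpenMap f)
    (hst : ∀ r, f (t r) = f (s r)) (hR : ∀ u u', f u = f u' → ∃ r, s r = u ∧ t r = u')
    (hfin : ∀ v, (s ⁻¹' {v}).Finite) {T : Set P} (hTc : IsClosed T) (hT : IsIrreducible T)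
    (hne : (f ⁻¹' T).Nonempty) : ∃ x, IsGenericPoint x T := by
  classical
  let Z : Set U := f ⁻¹' T
  have hZ : IsClosed Z := hTc.preimage hc
  choose D π e hπ _ he hinj hfac using fun n => exists_distinct_lifts s n
  have hWo : ∀ n, IsOpen (Set.range (π n)) := fun n => (π n).isOpenMap.isOpen_range
  have := locallyQuasiFinite_of_etale s
  -- no point has infinitely many geometric lifts
  have hnot : ∀ v, ∃ n, v ∉ Set.range (π n) := fun v => by
    obtain ⟨g, hg⟩ := FlatMorWeight.exists_geomPt v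
    have hF := FlatMorWeight.finite_GP s g (by rw [hg]; exact hfin v)
    let := hF.fintype
    refine ⟨Fintype.card (FlatMorWeight.GP (AlgebraicClosure (U.residueField v)) s g) + 1, ?_⟩
    rintro ⟨d, hd⟩
    let m := Fintype.card (FlatMorWeight.GP (AlgebraicClosure (U.residueField v)) s g) + 1
    have := hπ m
    have := locallyQuasiFinite_of_etale (π m)
    obtain ⟨h, hh, -⟩ := FlatMorWeight.exists_GP_at (π m) g d (hd.trans hg.symm)
    have := Fintype.card_le_of_injective
      (fun i : Fin m => (⟨h ≫ e m i, by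
        show (h ≫ e m i) ≫ s = g
        rw [Category.assoc, he]; exact hh⟩ : FlatMorWeight.GP (AlgebraicClosure (U.residueField v)) s g))
      fun i j hij => hinj m _ h (congrArg Subtype.val hij)
    rw [Fintype.card_fin] at this
    exact Nat.not_succ_le_self _ this
  -- an open where the number of lifts is bounded
  have hbd : ∃ n, ∃ N : Set U, IsOpen N ∧ (N ∩ Z).Nonempty ∧ N ∩ Z ∩ Set.range (π n) = ∅ := by
    by_contra hcon
    simp only [not_exists, not_and] at hcon
    obtain ⟨v₀, hv₀⟩ := hne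
    let A := {V : Set U // IsOpen V ∧ IsCompact V ∧ (V ∩ Z).Nonempty}
    have hstep : ∀ (k : ℕ) (V : A), ∃ V' : A, V'.1 ⊆ V.1 ∩ Set.range (π k) := fun k V => by
      obtain ⟨z, ⟨hzV, hzZ⟩, hzW⟩ := Set.nonempty_iff_ne_empty.2 (hcon k V.1 V.2.1 V.2.2.2)
      obtain ⟨V', ⟨hV', hV'c⟩, hzV', hsub⟩ := PrespectralSpace.isTopologicalBasis.exists_subset_of_mem_open
        (a := z) (show z ∈ V.1 ∩ Set.range (π k) from ⟨hzV, hzW⟩) (V.2.1.inter (hWo k))
      exact ⟨⟨V', hV', hV'c, z, hzV', hzZ⟩, hsub⟩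
    choose nxt hnxt using hstep
    let V : ℕ → A := fun k => Nat.rec (⟨Set.univ, isOpen_univ, isCompact_univ, v₀, trivial, hv₀⟩ : A) nxt k
    have hV : ∀ k, (V (k + 1)).1 ⊆ (V k).1 ∩ Set.range (π k) := fun k => hnxt k (V k)
    have hanti : Antitone fun k => (V k).1 := antitone_nat_of_succ_le fun k => fun z hz => (hV k hz).1
    obtain ⟨z, -, hz⟩ : (Z ∩ ⋂ k, (V k).1).Nonempty := by
      refine @IsCompact.inter_iInter_nonempty U (constructibleTopology U) Z ℕ
        (H8ProCons.isCompact_cons ((@isOpen_compl_iff U Z (constructibleTopology U)).1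
          (H8ProCons.isOpen_cons_of_isOpen hZ.isOpen_compl))) (fun k => (V k).1)
        (fun k => (@isOpen_compl_iff U _ (constructibleTopology U)).1
          (H8ProCons.isOpen_cons_compl_of_isCompact (V k).2.1 (V k).2.2.1)) fun σ => ?_
      obtain ⟨z, hz1, hz2⟩ := (V (σ.sup id)).2.2.2
      exact ⟨z, hz2, Set.mem_iInter₂.2 fun k hk => hanti (Finset.le_sup (f := id) hk) hz1⟩
    obtain ⟨n, hn⟩ := hnot z
    exact hn (hV n (Set.mem_iInter.1 hz (n + 1))).2
  obtain ⟨n, N₀, hN₀, ⟨v₁, hv₁, hv₁Z⟩, hN₀e, hmin⟩ : ∃ (n : ℕ) (N : Set U), IsOpen N ∧ (N ∩ Z).Nonempty ∧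
      N ∩ Z ∩ Set.range (π (n + 1)) = ∅ ∧ (N ∩ Z ∩ Set.range (π n)).Nonempty := by
    have h0 : Nat.find hbd ≠ 0 := fun h => by
      obtain ⟨N, -, ⟨z, hz⟩, hN⟩ := Nat.find_spec hbd
      obtain ⟨g, hg⟩ := FlatMorWeight.exists_geomPt z
      obtain ⟨d, hd, -⟩ := hfac 0 _ g Fin.elim0 (fun i => i.elim0) fun i => i.elim0
      have : z ∈ Set.range (π 0) := ⟨FlatMorWeight.pt d, by rw [← FlatMorWeight.pt_comp, hd, hg]⟩
      rw [h] at hN
      exact (hN.subset ⟨hz, this⟩ : z ∈ (∅ : Set U))
    obtain ⟨m, hm⟩ := Nat.exists_eq_succ_of_ne_zero h0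
    obtain ⟨N, hN, hNne, hNe⟩ := Nat.find_spec hbd
    refine ⟨m, N, hN, hNne, by rw [hm] at hNe; exact hNe, Set.nonempty_iff_ne_empty.2 fun h => ?_⟩
    exact Nat.find_min hbd (by omega) ⟨N, hN, hNne, h⟩
  obtain ⟨v₂, ⟨hv₂, hv₂Z⟩, hv₂W⟩ := hmin
  let N : Set U := N₀ ∩ Set.range (π n)
  have hN : IsOpen N := hN₀.inter (hWo n)
  -- a maximal point
  have : QuasiSober ↥U := inferInstance
  have hZT : QuasiSober ↥Z := (hZ.isClosedEmbedding_subtypeVal).quasiSober
  obtain ⟨η, hη⟩ := QuasiSober.sober (isIrreducible_irreducibleComponent (x := (⟨v₂, hv₂Z⟩ : ↥Z)))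
    isClosed_irreducibleComponent
  have hvN : η.1 ∈ N := (subtype_specializes_iff _ _).1
    (hη.specializes (mem_irreducibleComponent (x := (⟨v₂, hv₂Z⟩ : ↥Z)))) |>.mem_open hN ⟨hv₂, hv₂W⟩
  have hmax : ∀ w ∈ Z, w ⤳ η.1 → w = η.1 := fun w hw hs => by
    have h1 : (⟨w, hw⟩ : ↥Z) ⤳ η := (subtype_specializes_iff _ _).2 hs
    have h2 : irreducibleComponent (⟨v₂, hv₂Z⟩ : ↥Z) ⊆ closure {(⟨w, hw⟩ : ↥Z)} := by
      rw [← hη.def]; exact closure_minimal (Set.singleton_subset_iff.2 (specializes_iff_mem_closure.1 h1)) isClosed_closure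
    have h3 := eq_irreducibleComponent isIrreducible_singleton.closure.isPreirreducible h2
    exact congrArg Subtype.val (h1.antisymm (specializes_iff_mem_closure.2 (show (⟨w, hw⟩ : ↥Z) ∈ closure {η} by rw [hη.def, ← h3]; exact subset_closure rfl))).eq
  obtain ⟨d, hd⟩ := hvN.2
  refine ⟨f η.1, isGenericPoint_iff_forall_closed hTc η.2 |>.2 fun C hC hxC => fun y hy => ?_⟩
  by_contra hyC
  have hrange : IsOpen (Set.range f) := ho.isOpen_range
  obtain ⟨_, hwT, hwC, ⟨w, rfl⟩⟩ := hT.2 Cᶜ (Set.range f) hC.isOpen_compl hrange ⟨y, hy, hyC⟩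
    ⟨f η.1, η.2, η.1, rfl⟩
  obtain ⟨M, hM, hwM, hMC⟩ := exists_isAffineOpen_mem_and_subset (x := w)
    (U := ⟨f ⁻¹' Cᶜ, hC.isOpen_compl.preimage hc⟩) hwC
  have := hπ n
  obtain ⟨D', hD', hdD', hD'N⟩ := exists_isAffineOpen_mem_and_subset (x := d)
    (U := ⟨π n ⁻¹' N, hN.preimage (π n).continuous⟩) (show π n d ∈ N by rw [hd]; exact hvN)
  have : IsAffine D'.toScheme := hD'
  have hclosed : ∀ i, ∃ C' : Set D'.toScheme, IsClosed C' ∧ (⟨d, hdD'⟩ : D') ∉ C' ∧
      ∀ p : D'.toScheme, π n (D'.ι p) ∈ Z → t (e n i (D'.ι p)) ∈ M → p ∈ C' := fun i => by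
    let g := D'.ι ≫ e n i ≫ t
    let E : Set D'.toScheme := g ⁻¹' M ∩ (D'.ι ≫ π n) ⁻¹' Z
    have hE : IsClosed[constructibleTopology D'.toScheme] E := by
      refine @IsClosed.inter _ _ _ (constructibleTopology D'.toScheme) ?_ ?_
      · exact H8ProCons.isClosed_cons_of_isConstructible
          ((g.isCompact_preimage hM.isCompact).isConstructible (M.2.preimage g.continuous))
      · exact (@isOpen_compl_iff _ _ (constructibleTopology D'.toScheme)).1
          (H8ProCons.isOpen_cons_of_isOpen (hZ.preimage (D'.ι ≫ π n).continuous).isOpen_compl)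
    refine ⟨closure E, isClosed_closure, fun hmem => ?_, fun p hp1 hp2 => subset_closure ⟨hp2, hp1⟩⟩
    obtain ⟨p, ⟨hpM, hpZ⟩, hp⟩ := H8ProCons.exists_specializes_of_mem_closure hE hmem
    have := locallyQuasiFinite_of_etale (π n)
    have hp' : D'.ι p ⤳ d := hp.map D'.ι.continuous
    have e1 : π n (D'.ι p) = η.1 := hmax _ hpZ (hd ▸ hp'.map (π n).continuous)
    have hdisc := isDiscrete_iff_discreteTopology.1 ((π n).isDiscrete_preimage_singleton η.1)
    have hsp : (⟨D'.ι p, e1⟩ : π n ⁻¹' {η.1}) ⤳ ⟨d, hd⟩ := (subtype_specializes_iff _ _).2 hp'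
    have e2 : D'.ι p = d := congrArg Subtype.val (specializes_iff_eq.1 hsp)
    have h4 : f (t (e n i d)) = f η.1 := by
      rw [hst, ← hd]
      exact congrArg f (congrArg (fun φ : D n ⟶ U => φ d) (he n i))
    exact hMC (show t (e n i d) ∈ M from e2 ▸ hpM) (h4.symm ▸ hxC)
  choose Ci hCi hdCi hCip using hclosed
  let D'' : Set ↥(D n) := D'.ι '' (⋃ i, Ci i)ᶜ
  have hD'' : IsOpen D'' := D'.ι.isOpenEmbedding.isOpenMap _ (isClosed_iUnion_of_finite hCi).isOpen_compl
  have hd'' : d ∈ D'' := ⟨(⟨d, hdD'⟩ : D'), fun h => by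
    obtain ⟨i, hi⟩ := Set.mem_iUnion.1 h; exact hdCi i hi, rfl⟩
  obtain ⟨z, hzT, ⟨_, ⟨d', ⟨p, hp, rfl⟩, rfl⟩, hz1⟩, ⟨u', hu', hz2⟩⟩ :=
    hT.2 (f '' (π n '' D'')) (f '' M) (ho _ ((π n).isOpenMap _ hD'')) (ho _ M.2)
      ⟨f η.1, η.2, η.1, ⟨d, hd'', hd⟩, rfl⟩ ⟨f w, hwT, w, hwM, rfl⟩
  obtain ⟨r, hr1, hr2⟩ := hR _ _ (hz1.trans hz2.symm)
  obtain ⟨g, hg⟩ := FlatMorWeight.exists_geomPt (D'.ι p)
  obtain ⟨l, hl, hlr⟩ := FlatMorWeight.exists_GP_at s (g ≫ π n) r
    (hr1.trans (by rw [FlatMorWeight.pt_comp, hg]))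
  by_cases hall : ∃ i, g ≫ e n i = l
  · obtain ⟨i, rfl⟩ := hall
    refine hp (Set.mem_iUnion.2 ⟨i, hCip i p ?_ ?_⟩)
    · show f _ ∈ T
      rw [hz1]; exact hzT
    · rw [FlatMorWeight.pt_comp, hg] at hlr
      rw [hlr, hr2]; exact hu'
  · obtain ⟨h', hh', -⟩ := hfac (n + 1) _ (g ≫ π n) (Fin.snoc (fun i => g ≫ e n i) l)
      (fun i => by
        induction i using Fin.lastCases with
        | last => simp only [Fin.snoc_last]; exact hl
        | cast i => simp only [Fin.snoc_castSucc, Category.assoc, he])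
      (fun i j hij => by
        induction i using Fin.lastCases with
        | last =>
          induction j using Fin.lastCases with
          | last => rfl
          | cast j => simp only [Fin.snoc_last, Fin.snoc_castSucc] at hij; exact absurd ⟨j, hij.symm⟩ hall
        | cast i =>
          induction j using Fin.lastCases with
          | last => simp only [Fin.snoc_last, Fin.snoc_castSucc] at hij; exact absurd ⟨i, hij⟩ hall
          | cast j => simp only [Fin.snoc_castSucc] at hij; exact congrArg Fin.castSucc (hinj n _ g hij))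
    have : π n (D'.ι p) ∈ Set.range (π (n + 1)) :=
      ⟨FlatMorWeight.pt h', by rw [← FlatMorWeight.pt_comp, hh', FlatMorWeight.pt_comp, hg]⟩
    exact (hN₀e.subset ⟨⟨(hD'N p.2).1, show f (π n (D'.ι p)) ∈ T by rw [hz1]; exact hzT⟩, this⟩ : _ ∈ (∅ : Set U))

end Schemes

variable {S : Scheme.{u}} {X : Sp S}

/-- points of decent spaces: irreducible closed subsets have generic points -/
theorem quasiSober_points (hX : IsAlgSpace X) (hd : IsDecent X) : QuasiSober (Points X) := by
  refine ⟨fun {T} hT hTc => ?_⟩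
  obtain ⟨x₀, hx₀⟩ := hT.nonempty
  obtain ⟨U₀, a₀, hae, has⟩ := hX.atlas
  obtain ⟨u₀, rfl⟩ := surjective_ofPt a₀ has x₀
  obtain ⟨O, hO, huO, -⟩ := exists_isAffineOpen_mem_and_subset (x := u₀) (U := ⊤) trivial
  let U : Over S := Over.mk (O.ι ≫ U₀.hom)
  let j : U ⟶ U₀ := Over.homMk O.ι
  have : IsAffine U.left := hO
  have hj : IsOpenImmersion j.left := inferInstanceAs (IsOpenImmersion O.ι)
  let a := (yon S).map j ≫ a₀
  have ha : RepWith @Etale a :=
    RepWith.comp ((repWith_yon_map_iff (P := @Etale) j).2 inferInstance) hae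
  let s : ha.1.pullback a ⟶ U := ha.1.snd a
  obtain ⟨t, ht⟩ := (yon S).map_surjective (ha.1.fst a)
  have sqR : IsPullback ((yon S).map t) ((yon S).map s) a a := ht ▸ ha.1.isPullback a
  have : Etale s.left := ha.property_snd a
  have : IsSeparated s.left := by
    have : IsSeparated U.hom := inferInstance
    let l := pullback.lift t.left s.left ((Over.w t).trans (Over.w s).symm)
    have : Mono l := ⟨fun {W} g₁ g₂ hg => by
      have a1 := congr($hg ≫ pullback.fst U.hom U.hom)
      have a2 := congr($hg ≫ pullback.snd U.hom U.hom)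
      simp only [l, Category.assoc, pullback.lift_fst, pullback.lift_snd] at a1 a2
      let W' : Over S := Over.mk (g₁ ≫ (ha.1.pullback a).hom)
      let b₁ : W' ⟶ ha.1.pullback a := Over.homMk g₁ rfl
      let b₂ : W' ⟶ ha.1.pullback a := Over.homMk g₂ (by
        show g₂ ≫ _ = g₁ ≫ _
        rw [← Over.w s, reassoc_of% a2])
      have e1 : b₁ ≫ t = b₂ ≫ t := Over.OverMorphism.ext a1
      have e2 : b₁ ≫ s = b₂ ≫ s := Over.OverMorphism.ext a2
      exact congrArg (fun b : W' ⟶ ha.1.pullback a => b.left) ((yon S).map_injective (a₁ := b₁)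
        (a₂ := b₂) (sqR.hom_ext (by rw [← Functor.map_comp, ← Functor.map_comp, e1])
          (by rw [← Functor.map_comp, ← Functor.map_comp, e2])))⟩
    rw [← pullback.lift_snd t.left s.left ((Over.w t).trans (Over.w s).symm)]
    have : IsSeparated (pullback.snd U.hom U.hom) := inferInstance
    exact inferInstanceAs (IsSeparated (l ≫ _))
  have hst : ∀ r, Points.ofPt a (t.left r) = Points.ofPt a (s.left r) := fun r => by
    rw [← ofPt_map, sqR.w, ofPt_map]
  refine exists_isGenericPoint_of_chart s.left t.left (Points.ofPt a) (Points.continuous_ofPt a)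
    (isOpenMap_ofPt a ha) hst (fun u u' h => ?_) (fun v => ?_) hTc hT
    ⟨(⟨u₀, huO⟩ : O), show Points.ofPt ((yon S).map j ≫ a₀) _ ∈ T by rw [ofPt_map]; exact hx₀⟩
  · obtain ⟨r, hr1, hr2⟩ := (ofPt_eq_ofPt_iff sqR u' u).1 h.symm
    exact ⟨r, hr2, hr1⟩
  · obtain ⟨p, hp, -, hq⟩ := hd (Points.ofPt a v)
    refine (finite_arrows_of_qc hX p.toHom hq a ha sqR).subset fun r hr => ?_
    show Points.ofPt _ r = _
    rw [sqR.w, ofPt_map, ptOfHom_toHom, hp]
    exact congrArg _ hr

end Groth.Agent.AlgSpLib
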