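import Groth.Agent.EGA43.DimFormula.Core
import Groth.Agent.AlgSpLib.DecentPoints
import Groth.Agent.AlgSpLib.QuasiSober
import Groth.Prelude.Def_Cyc

/-!
Dimension functions pass to decent spaces locally of finite type.
-/

universe u

open CategoryTheory CategoryTheory.Limits AlgebraicGeometry IsLocalRing
open AlgSp

noncomputable section

namespace Groth.Agent.AlgSpLib

set_option backward.isDefEq.respectTransparency.types false

open Groth.Agent.EGA43.DimFormula

variable {Y : Scheme.{u}} {δ : Y → ℤ}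

theorem strictAnti_dimFun (hd : Cyc.IsDimFun Y δ) {a b : Y} (h : a ⤳ b) : δ b ≤ δ a := by
  rcases eq_or_ne a b with rfl | hne
  · exact le_rfl
  · exact (hd a b h hne).1.le

/-- the codimension is bounded by the drop of a dimension function -/
theorem cod_le_dimFun [IsLocallyNoetherian Y] (hd : Cyc.IsDimFun Y δ) {a b : Y} (h : a ⤳ b) :
    (cod a b : ℤ) ≤ δ a - δ b := by
  obtain ⟨P, rfl⟩ := exists_toPt h
  rw [cod_toPt]
  let R := Y.presheaf.stalk b
  let A := R ⧸ P.asIdeal
  haveI := isLocalRing_quotient P.asIdeal P.isPrime.ne_top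
  let g : PrimeSpectrum A → PrimeSpectrum R := PrimeSpectrum.comap (Ideal.Quotient.mk P.asIdeal)
  have hg : ∀ Q, P ≤ g Q := fun Q => by
    intro r hr
    show Ideal.Quotient.mk P.asIdeal r ∈ Q.asIdeal
    rw [Ideal.Quotient.eq_zero_iff_mem.2 hr]
    exact zero_mem _
  have hgm : StrictMono g := fun Q Q' hQ => lt_of_le_of_ne (fun r hr => hQ.le hr) fun e =>
    hQ.ne (PrimeSpectrum.ext (Ideal.comap_injective_of_surjective _ Ideal.Quotient.mk_surjective
      (congrArg PrimeSpectrum.asIdeal e)))
  obtain ⟨d, hd'⟩ : ∃ d : ℕ, δ (toPt b P) - δ b = (d : ℤ) :=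
    ⟨_, (Int.toNat_of_nonneg (sub_nonneg.2 (strictAnti_dimFun hd h))).symm⟩
  have hb : ∀ Q, 0 ≤ δ (toPt b P) - δ (toPt b (g Q)) ∧ δ (toPt b P) - δ (toPt b (g Q)) ≤ (d : ℤ) := fun Q =>
    ⟨sub_nonneg.2 (strictAnti_dimFun hd ((toPt_specializes_iff b P (g Q)).2 (hg Q))), by
      have := strictAnti_dimFun hd (toPt_specializes b (g Q))
      omega⟩
  let F : PrimeSpectrum A → Fin (d + 1) := fun Q =>
    ⟨(δ (toPt b P) - δ (toPt b (g Q))).toNat, by have := hb Q; omega⟩
  have hF : StrictMono F := fun Q Q' hQ => by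
    have := (hd _ _ ((toPt_specializes_iff b (g Q) (g Q')).2 (hgm hQ).le)
      fun e => (hgm hQ).ne (toPt_injective b e)).1
    have := hb Q
    show (δ (toPt b P) - δ (toPt b (g Q))).toNat < (δ (toPt b P) - δ (toPt b (g Q'))).toNat
    omega
  have h1 : ringKrullDim A ≤ Order.krullDim (Fin (d + 1)) := Order.krullDim_le_of_strictMono F hF
  have h2 : Order.krullDim (Fin (d + 1)) ≤ (d : WithBot ℕ∞) := by
    refine iSup_le fun p => ?_
    have : p.length ≤ d := by
      have := Fintype.card_le_of_injective p.toFun p.strictMono.injective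
      simp only [Fintype.card_fin] at this
      omega
    exact_mod_cast this
  rw [ringKrullDim_eq_natDim] at h1
  have : natDim A ≤ d := by exact_mod_cast h1.trans h2
  rw [hd']
  exact_mod_cast this

/-- a dimension function on a locally Noetherian scheme computes codimensions -/
theorem cod_eq_dimFun [IsLocallyNoetherian Y] (hd : Cyc.IsDimFun Y δ) {a b : Y} (h : a ⤳ b) :
    (cod a b : ℤ) = δ a - δ b := by
  refine le_antisymm (cod_le_dimFun hd h) ?_
  obtain ⟨n, hn⟩ : ∃ n : ℕ, δ a - δ b = (n : ℤ) :=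
    ⟨_, (Int.toNat_of_nonneg (sub_nonneg.2 (strictAnti_dimFun hd h))).symm⟩
  rw [hn]
  induction n using Nat.strong_induction_on generalizing a with
  | _ n ih =>
    rcases eq_or_ne a b with rfl | hne
    · omega
    classical
    have hex : ∃ k : ℕ, ∃ z, a ⤳ z ∧ z ⤳ b ∧ z ≠ a ∧ δ a - δ z = (k : ℤ) :=
      ⟨n, b, h, specializes_rfl, hne.symm, hn⟩
    obtain ⟨z, hz1, hz2, hz3, hz4⟩ := Nat.find_spec hex
    have himm : δ a = δ z + 1 := (hd a z hz1 hz3.symm).2 fun w hw1 hw2 => by
      by_contra hw
      rw [not_or] at hw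
      have h1 := (hd w z hw2 hw.2).1
      have h2 := strictAnti_dimFun hd hw1
      refine Nat.find_min hex (m := (δ a - δ w).toNat) (by omega)
        ⟨w, hw1, hw2.trans hz2, hw.1, (Int.toNat_of_nonneg (by omega)).symm⟩
    have h3 := strictAnti_dimFun hd hz2
    obtain ⟨m, hm⟩ : ∃ m : ℕ, δ z - δ b = (m : ℤ) := ⟨_, (Int.toNat_of_nonneg (by omega)).symm⟩
    have h4 := ih m (by omega) hz2 hm
    have h5 := cod_lt_cod hz1 hz2 hz3.symm
    omega

/-- dimension functions pass to schemes locally of finite type -/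
theorem isDimFun_of_deltaCompat {X : Scheme.{u}} (f : X ⟶ Y) [LocallyOfFiniteType f]
    (hS : Cyc.IsSetup Y δ) {δX : X → ℤ} (hδ : Cyc.DeltaCompat f δX δ) : Cyc.IsDimFun X δX := by
  obtain ⟨hN, hcat, hd⟩ := hS
  have := hN
  have := LocallyOfFiniteType.isLocallyNoetherian f
  have hval : ∀ x, δX x = δ (f x) + (trdAt f x : ℤ) := fun x => by
    obtain ⟨n, h1, h2⟩ := hδ x
    rw [h2]
    congr 2
    exact ((congrArg Cardinal.toNat h1).trans (Cardinal.toNat_natCast n)).symm
  have key : ∀ {a b : X}, a ⤳ b → δX a - δX b = (cod a b : ℤ) := fun {a b} h => by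
    have h1 := eq_formula f h (hcat (f b))
    have h2 := cod_eq_dimFun hd (h.map f.continuous)
    rw [hval, hval]
    omega
  intro a b hab hne
  refine ⟨by have := key hab; have := cod_pos hab hne; omega, fun himm => ?_⟩
  have : cod a b ≤ 1 := by
    obtain ⟨P, rfl⟩ := exists_toPt hab
    rw [cod_toPt]
    haveI := isLocalRing_quotient P.asIdeal P.isPrime.ne_top
    let R := X.presheaf.stalk b
    let A := R ⧸ P.asIdeal
    let g : PrimeSpectrum A → PrimeSpectrum R := PrimeSpectrum.comap (Ideal.Quotient.mk P.asIdeal)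
    have hg : ∀ Q, g Q = P ∨ g Q = closedPoint R := fun Q => by
      have hPQ : P ≤ g Q := by
        intro r hr
        show Ideal.Quotient.mk P.asIdeal r ∈ Q.asIdeal
        rw [Ideal.Quotient.eq_zero_iff_mem.2 hr]
        exact zero_mem _
      rcases himm _ ((toPt_specializes_iff b P (g Q)).2 hPQ) (toPt_specializes b (g Q)) with e | e
      · exact Or.inl (toPt_injective b e)
      · exact Or.inr (toPt_injective b (e.trans (toPt_closedPoint b).symm))
    classical
    let F : PrimeSpectrum A → Fin 2 := fun Q => if g Q = P then 0 else 1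
    have hgi : Function.Injective g := fun Q Q' e => PrimeSpectrum.ext
      (Ideal.comap_injective_of_surjective _ Ideal.Quotient.mk_surjective (congrArg PrimeSpectrum.asIdeal e))
    have hF : StrictMono F := fun Q Q' hQ => by
      have hlt : g Q < g Q' := lt_of_le_of_ne (fun r hr => hQ.le hr) fun e => hQ.ne (hgi e)
      rcases hg Q with h1 | h1
      · rcases hg Q' with h2 | h2
        · exact absurd (h1.trans h2.symm) hlt.ne
        · rw [show F Q = 0 from if_pos h1, show F Q' = 1 from if_neg fun e => hlt.ne (h1.trans e.symm)]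
          decide
      · exact absurd (IsLocalRing.le_maximalIdeal (g Q').isPrime.ne_top) (fun hle => by
          have : g Q' ≤ g Q := by rw [h1]; exact hle
          exact (hlt.trans_le this).false)
    have h1 : ringKrullDim A ≤ Order.krullDim (Fin 2) := Order.krullDim_le_of_strictMono F hF
    have h2 : Order.krullDim (Fin 2) ≤ (1 : ℕ) := by
      refine iSup_le fun p => ?_
      have : p.length ≤ 1 := by
        have := Fintype.card_le_of_injective p.toFun p.strictMono.injective
        simp only [Fintype.card_fin] at this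
        omega
      exact_mod_cast this
    rw [ringKrullDim_eq_natDim] at h1
    exact_mod_cast h1.trans h2
  have := key hab
  have := cod_pos hab hne
  omega

/-- dimension functions descend to decent spaces along etale charts -/
theorem isDimFun_points {S : Scheme.{u}} {X : Sp S} (hd : IsDecent X) {U : Over S}
    (a : (yon S).obj U ⟶ X) (ha : RepWith @Etale a) (has : RepWith @Surjective a) {δX : Points X → ℤ}
    (hU : Cyc.IsDimFun U.left (δX ∘ Points.ofPt a)) :
    ∀ x y : Points X, x ⤳ y → x ≠ y →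
      δX y < δX x ∧ ((∀ z : Points X, x ⤳ z → z ⤳ y → z = x ∨ z = y) → δX x = δX y + 1) := by
  intro x y hxy hne
  obtain ⟨v, rfl⟩ := surjective_ofPt a has y
  obtain ⟨w, hw, rfl⟩ := exists_specializes_chart (FiniteFibres.of_mk (hd x)).1 a ha v hxy
  have hwv : w ≠ v := fun e => hne (congrArg _ e)
  refine ⟨(hU w v hw hwv).1, fun himm => (hU w v hw hwv).2 fun z hz1 hz2 => ?_⟩
  rcases himm _ (hz1.map (Points.continuous_ofPt a)) (hz2.map (Points.continuous_ofPt a)) with e | e
  · exact Or.inl (eq_of_specializes_of_finiteFibres (FiniteFibres.of_mk (hd _)).2 a ha e rfl hz1)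
  · exact Or.inr (eq_of_specializes_of_finiteFibres (FiniteFibres.of_mk (hd _)).2 a ha rfl e hz2).symm

end Groth.Agent.AlgSpLib
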