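import Groth.Agent.AlgSpLib.FlatAt
import Groth.Agent.AlgSpLib.EtLocalInst
import Groth.Agent.AlgSpLib.MorMore2
import Groth.Agent.DimLib.Morphism
import Mathlib.Topology.NoetherianSpace
import Mathlib.AlgebraicGeometry.Noetherian

/-!
Morphisms of algebraic spaces locally of finite type with discrete fibres are locally quasi-finite.
-/

universe u

open CategoryTheory CategoryTheory.Limits AlgebraicGeometry Topology
open AlgSp

noncomputable section

namespace Groth.Agent.AlgSpLib

set_option backward.isDefEq.respectTransparency.types false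

section Sch

variable {k : Type u} [Field k] {X Y : Scheme.{u}}

theorem ptDim_eq_of_etale (p : X ⟶ Spec (.of k)) [LocallyOfFiniteType p] (e : Y ⟶ X) [Etale e] (y : Y) :
    DimLib.ptDim (e ≫ p) y = DimLib.ptDim p (e y) := by
  rw [DimLib.ptDim_eq_add_of_mem_fiber p e y]
  have : LocallyOfFiniteType (e.fiberToSpecResidueField (e y)) :=
    inferInstanceAs (LocallyOfFiniteType (pullback.snd e (X.fromSpecResidueField (e y))))
  have h0 : DimLib.ptDim (k := X.residueField (e y)) (e.fiberToSpecResidueField (e y)) (e.asFiber y) = 0 := by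
    rw [DimLib.ptDim_eq_zero_iff]
    have := locallyQuasiFinite_of_etale e
    have hd := (e.isDiscrete_preimage_singleton (e y))
    have := hd.to_subtype
    have : DiscreteTopology ↥(e.fiber (e y)) := (e.fiberHomeo (e y)).symm.discreteTopology
    exact isClosed_discrete _
  omega

theorem discreteTopology_of_isClosed_points (p : X ⟶ Spec (.of k)) [LocallyOfFiniteType p]
    (h : ∀ x : X, IsClosed ({x} : Set X)) : DiscreteTopology X := by
  have := LocallyOfFiniteType.isLocallyNoetherian p
  refine discreteTopology_iff_isOpen_singleton.2 fun x => ?_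
  obtain ⟨O, hO, hxO, -⟩ := exists_isAffineOpen_mem_and_subset (x := x) (U := ⊤) trivial
  have : IsAffine O.toScheme := hO
  have : IsNoetherianRing Γ(X, O) := IsLocallyNoetherian.component_noetherian ⟨O, hO⟩
  have := isNoetherianRing_of_ringEquiv _ O.topIso.symm.commRingCatIsoToRingEquiv
  have : IsLocallyNoetherian O.toScheme := isLocallyNoetherian_of_isOpenImmersion O.ι
  have : IsNoetherian O.toScheme := {}
  have : T1Space O.toScheme := ⟨fun a => by
    have := (h (O.ι a)).preimage O.ι.continuous
    rwa [← Set.image_singleton, Set.preimage_image_eq _ O.ι.isOpenEmbedding.injective] at this⟩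
  have hfin : Finite O.toScheme := by
    have hc := TopologicalSpace.NoetherianSpace.finite_irreducibleComponents (α := O.toScheme)
    refine Set.finite_univ_iff.1 ((hc.sUnion fun s hs => ?_).subset fun a _ =>
      Set.mem_sUnion.2 ⟨irreducibleComponent a, irreducibleComponent_mem_irreducibleComponents a,
        mem_irreducibleComponent⟩)
    obtain ⟨η, hη⟩ := QuasiSober.sober hs.1 (isClosed_of_mem_irreducibleComponents s hs)
    rw [← hη.def, (isClosed_singleton (x := η)).closure_eq]
    exact Set.finite_singleton η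
  have := O.ι.isOpenEmbedding.isOpenMap _ (isOpen_discrete ({⟨x, hxO⟩} : Set O.toScheme))
  rwa [Set.image_singleton] at this

end Sch

variable {S : Scheme.{u}}

theorem discreteTopology_chart_of_discrete_points {K : Type u} [Field K] {sK : Spec (CommRingCat.of K) ⟶ S}
    {Z : Sp S} (hZ : IsAlgSpace Z) (q : Z ⟶ (yon S).obj (Over.mk sK)) [DiscreteTopology (Points Z)]
    {W : Over S} (a : (yon S).obj W ⟶ Z) (ha : RepWith @Etale a) (p : W ⟶ Over.mk sK)
    [hp : LocallyOfFiniteType p.left] (w : a ≫ q = (yon S).map p) : DiscreteTopology ↥W.left := by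
  let π : W.left ⟶ Spec (.of K) := p.left
  have : LocallyOfFiniteType π := hp
  refine discreteTopology_of_isClosed_points π fun x => ?_
  refine closure_subset_iff_isClosed.1 fun x' hx' => ?_
  have hs : x ⤳ x' := specializes_iff_mem_closure.2 hx'
  have hspec : Points.ofPt a x ⤳ Points.ofPt a x' := hs.map (Points.continuous_ofPt a)
  have heq := hspec.eq
  have hra := hZ.representable_from_yon a
  have sqR := hra.isPullback' a
  obtain ⟨r, hr1, hr2⟩ := (ofPt_eq_ofPt_iff sqR x x').1 heq
  have : Etale (hra.fst' a).left := ha.property _ _ _ sqR.flip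
  have : Etale (hra.snd a).left := ha.property_snd a
  have ew : hra.fst' a ≫ p = hra.snd a ≫ p := (yon S).map_injective (by
    rw [Functor.map_comp, Functor.map_comp, ← w, ← Category.assoc, sqR.w, Category.assoc])
  have ew' : (hra.fst' a).left ≫ π = (hra.snd a).left ≫ π := congrArg (fun t => t.left) ew
  have d1 := ptDim_eq_of_etale π (hra.fst' a).left r
  have d2 := ptDim_eq_of_etale π (hra.snd a).left r
  rw [hr1] at d1
  rw [hr2, ← ew', d1] at d2
  by_contra hne
  exact absurd (DimLib.ptDim_lt_of_specializes π hs fun e => hne e.symm) (by omega)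

theorem locP_lqf_of_discrete_fibres {X Y : Sp S} (hX : IsAlgSpace X) (hY : IsAlgSpace Y) {f : X ⟶ Y}
    (hl : LocP @LocallyOfFiniteType f)
    (hd : ∀ (k : FieldPt Y) (Xk : Sp S) (fst : Xk ⟶ X) (snd : Xk ⟶ (yon S).obj k.pt),
      IsPullback fst snd f k.toHom → DiscreteTopology (Points Xk)) :
    LocP (@LocallyQuasiFinite ⊓ @LocallyOfFiniteType) f := by
  obtain ⟨C⟩ := nonempty_charts hX hX hY (𝟙 X) f
  have hk : LocallyOfFiniteType C.k.left := hl C.b C.c C.k C.b_etale C.c_etale C.wg
  refine locP_of_chart_square etLocal_lqf hX C.b C.b_etale C.b_surj C.c C.c_etale C.k ⟨?_, hk⟩ C.wg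
  refine locallyQuasiFinite_iff_isDiscrete_preimage_singleton.2 fun s => ?_
  let sK : Spec (C.W.left.residueField s) ⟶ S := C.W.left.fromSpecResidueField s ≫ C.W.hom
  let ι : Over.mk sK ⟶ C.W := Over.homMk (C.W.left.fromSpecResidueField s)
  let pt : FieldPt Y :=
    { K := C.W.left.residueField s, str := sK, val := (J S).uliftYonedaEquiv ((yon S).map ι ≫ C.c) }
  have hpt : pt.toHom = (yon S).map ι ≫ C.c := (J S).uliftYonedaEquiv.symm_apply_apply _
  let Vs : Over S := Over.mk (C.k.left.fiberι s ≫ C.V.hom)
  let pV : Vs ⟶ C.V := Over.homMk (C.k.left.fiberι s)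
  let qV : Vs ⟶ Over.mk sK := Over.homMk (C.k.left.fiberToSpecResidueField s) (by
    show _ ≫ C.W.left.fromSpecResidueField s ≫ C.W.hom = C.k.left.fiberι s ≫ C.V.hom
    rw [← Over.w C.k, ← Category.assoc, ← Scheme.Hom.fiber_fac, Category.assoc])
  have sqV : IsPullback pV qV C.k ι :=
    IsPullback.of_map (Over.forget S) (Over.OverMorphism.ext pullback.condition)
      (IsPullback.of_hasPullback C.k.left (C.W.left.fromSpecResidueField s))
  have sqT := IsPullback.of_hasPullback f ((yon S).map ι ≫ C.c)
  obtain ⟨a', -, h2, h3⟩ := exists_baseChange_chart C.ψY_snd sqV sqT C.ψY_etale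
  have : DiscreteTopology (Points (pullback f ((yon S).map ι ≫ C.c))) :=
    hd pt _ (pullback.fst _ _) (pullback.snd _ _) (by rw [hpt]; exact sqT)
  have hq : LocallyOfFiniteType qV.left :=
    inferInstanceAs (LocallyOfFiniteType (pullback.snd C.k.left (C.W.left.fromSpecResidueField s)))
  have := discreteTopology_chart_of_discrete_points
    (isAlgSpace_of_isPullback hY.diag hX (IsAlgSpace.yon_obj _) sqT) (pullback.snd _ _) a' h3 qV (hp := hq) h2
  have : DiscreteTopology ↥(C.k.left.fiber s) := this
  have := (C.k.left.fiberHomeo s).discreteTopology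
  exact ⟨this⟩

end Groth.Agent.AlgSpLib
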