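import Mathlib.RingTheory.Smooth.Local
import Mathlib.RingTheory.RegularLocalRing.Defs
import Mathlib.RingTheory.Ideal.KrullsHeightTheorem
import Mathlib.LinearAlgebra.Dimension.OrzechProperty
import Groth.Agent.CAlgH3.RegularCore

/-!
Over a field, at a rational point, formal smoothness of a quotient of a formally smooth regular local
ring is regularity (Jacobian criterion).
-/

universe u

open IsLocalRing TensorProduct KaehlerDifferential

set_option autoImplicit false

noncomputable section

namespace Groth.Agent.AlgSpLib.SmoothRegular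

variable {K P : Type u} [Field K] [CommRing P] [IsLocalRing P] [Algebra K P]

theorem formallySmooth_residueField
    (hK : Function.Bijective (algebraMap K (ResidueField P))) :
    Algebra.FormallySmooth K (ResidueField P) :=
  .of_equiv (AlgEquiv.ofBijective (Algebra.ofId K (ResidueField P)) hK)

variable [Algebra.FormallySmooth K P]

theorem one_tmul_D_eq_zero_iff (hK : Function.Bijective (algebraMap K (ResidueField P)))
    {i : P} (hi : i ∈ maximalIdeal P) :
    (1 : ResidueField P) ⊗ₜ[P] KaehlerDifferential.D K P i = 0 ↔ i ∈ maximalIdeal P ^ 2 := by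
  have := formallySmooth_residueField hK
  have hinj : Function.Injective (kerCotangentToTensor K P (ResidueField P)) :=
    (Algebra.FormallySmooth.kerCotangentToTensor_injective_iff residue_surjective).2 inferInstance
  have hker : RingHom.ker (algebraMap P (ResidueField P)) = maximalIdeal P := ker_residue
  let x : RingHom.ker (algebraMap P (ResidueField P)) := ⟨i, hker.ge hi⟩
  rw [show (1 : ResidueField P) ⊗ₜ[P] KaehlerDifferential.D K P i =
      kerCotangentToTensor K P (ResidueField P) (Ideal.toCotangent _ x) from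
    (kerCotangentToTensor_toCotangent K P (ResidueField P) x).symm, map_eq_zero_iff _ hinj, Ideal.toCotangent_eq_zero]
  exact iff_of_eq (congrArg (fun J : Ideal P => i ∈ J ^ 2) hker)

/-- The Jacobian criterion at a rational point, in terms of ideals. -/
theorem formallySmooth_quotient_iff [Module.Free P Ω[P⁄K]] [Module.Finite P Ω[P⁄K]]
    [IsNoetherianRing P] (hK : Function.Bijective (algebraMap K (ResidueField P)))
    (I : Ideal P) (hI : I ≠ ⊤) :
    Algebra.FormallySmooth K (P ⧸ I) ↔ ∀ x ∈ I, x ∈ maximalIdeal P ^ 2 → x ∈ maximalIdeal P * I := by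
  have hle : I ≤ maximalIdeal P := le_maximalIdeal hI
  have : Nontrivial (P ⧸ I) := Ideal.Quotient.nontrivial_iff.2 hI
  have : IsLocalRing (P ⧸ I) := .of_surjective' (Ideal.Quotient.mk I) Ideal.Quotient.mk_surjective
  letI : Algebra (P ⧸ I) (ResidueField P) := (Ideal.Quotient.factor hle).toAlgebra
  have : IsScalarTower P (P ⧸ I) (ResidueField P) := .of_algebraMap_eq fun _ => rfl
  have h₂ : (RingHom.ker (algebraMap P (P ⧸ I))).FG := IsNoetherian.noetherian _
  have h₃ : maximalIdeal (P ⧸ I) ≤ RingHom.ker (algebraMap (P ⧸ I) (ResidueField P)) := by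
    intro x hx
    obtain ⟨x, rfl⟩ := Ideal.Quotient.mk_surjective x
    rw [RingHom.mem_ker]
    exact Ideal.Quotient.eq_zero_iff_mem.2 ((mem_maximalIdeal _).2 fun hu => hx (hu.map _))
  rw [Algebra.FormallySmooth.iff_injective_cotangentComplexBaseChange P (ResidueField P)
    Ideal.Quotient.mk_surjective h₂ h₃]
  let I' : Ideal P := RingHom.ker (algebraMap P (P ⧸ I))
  have hI' : I' = I := Ideal.mk_ker
  have hzero : ∀ i : I', (1 : ResidueField P) ⊗ₜ[P] i = 0 ↔ (i : P) ∈ maximalIdeal P * I := by
    intro i
    refine (quotTensorEquivQuotSMul I' (maximalIdeal P)).map_eq_zero_iff.symm.trans ?_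
    change quotTensorEquivQuotSMul I' (maximalIdeal P)
      (Ideal.Quotient.mk (maximalIdeal P) 1 ⊗ₜ[P] i) = 0 ↔ _
    rw [quotTensorEquivQuotSMul_mk_tmul, one_smul, Submodule.Quotient.mk_eq_zero,
      Submodule.mem_smul_top_iff, smul_eq_mul]
    exact iff_of_eq (congrArg (fun J : Ideal P => (i : P) ∈ maximalIdeal P * J) hI')
  have himg : ∀ i : I', cotangentComplexBaseChange K (P ⧸ I) P (ResidueField P)
      ((1 : ResidueField P) ⊗ₜ[P] i) = (1 : ResidueField P) ⊗ₜ[P] KaehlerDifferential.D K P i := by
    intro i
    rw [cotangentComplexBaseChange_tmul, one_smul]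
    rfl
  constructor
  · intro hinj x hx hx2
    let i : I' := ⟨x, hI'.ge hx⟩
    refine (hzero i).1 (hinj ?_)
    rw [himg, map_zero, one_tmul_D_eq_zero_iff hK (hle hx)]
    exact hx2
  · intro h
    rw [injective_iff_map_eq_zero]
    intro z hz
    obtain ⟨i, rfl⟩ := TensorProduct.mk_surjective (R := P) (M := I') (S := ResidueField P)
      residue_surjective z
    simp only [TensorProduct.mk_apply] at hz ⊢
    rw [himg, one_tmul_D_eq_zero_iff hK (hle (hI'.le i.2))] at hz
    exact (hzero i).2 (h i (hI'.le i.2) hz)

omit [Algebra K P] in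
/-- A quotient of a regular local ring by an ideal independent modulo `m ^ 2` is regular. -/
theorem isRegularLocalRing_quotient [IsRegularLocalRing P] (I : Ideal P) (hI : I ≠ ⊤)
    (h : ∀ x ∈ I, x ∈ maximalIdeal P ^ 2 → x ∈ maximalIdeal P * I) :
    IsRegularLocalRing (P ⧸ I) := by
  classical
  have hle : I ≤ maximalIdeal P := le_maximalIdeal hI
  have : Nontrivial (P ⧸ I) := Ideal.Quotient.nontrivial_iff.2 hI
  have : IsLocalRing (P ⧸ I) := .of_surjective' (Ideal.Quotient.mk I) Ideal.Quotient.mk_surjective
  let κ := ResidueField P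
  let t : maximalIdeal P →ₗ[P] CotangentSpace P := (maximalIdeal P).toCotangent
  let T : Set (CotangentSpace P) := t '' {x | (x : P) ∈ I}
  obtain ⟨b, hbT, hbspan, hbli⟩ := exists_linearIndependent κ T
  have : Fintype b := hbli.setFinite.fintype
  let W := Submodule.span κ b
  have hW : Module.finrank κ W = Fintype.card b := by
    rw [finrank_span_set_eq_card hbli, Set.toFinset_card]
  obtain ⟨W', hW'⟩ := W.exists_isCompl
  let e := Module.finBasis κ W'
  choose g hgI hgt using fun v : b => hbT v.2
  choose g' hg' using fun k => (maximalIdeal P).toCotangent_surjective ((e k : W') : CotangentSpace P)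
  let G : Set (maximalIdeal P) := Set.range g ∪ Set.range g'
  have hG : Submodule.span P G = ⊤ := by
    rw [← CotangentSpace.span_image_eq_top_iff, eq_top_iff, ← hW'.sup_eq_top, sup_le_iff,
      Submodule.span_le]
    refine ⟨fun v hv => Submodule.subset_span ⟨g ⟨v, hv⟩, Or.inl ⟨_, rfl⟩, hgt ⟨v, hv⟩⟩, fun w hw => ?_⟩
    have : (⟨w, hw⟩ : W') ∈ Submodule.span κ (Set.range e) := e.span_eq ▸ Submodule.mem_top
    have := Submodule.mem_map_of_mem (f := W'.subtype) this
    rw [Submodule.map_span] at this
    refine Submodule.span_mono ?_ this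
    rintro _ ⟨_, ⟨k, rfl⟩, rfl⟩
    exact ⟨g' k, Or.inr ⟨k, rfl⟩, hg' k⟩
  -- `I` is generated by the `g`
  let J : Ideal P := Ideal.span (Set.range fun v => (g v : P))
  have hJI : J ≤ I := Ideal.span_le.2 (by rintro _ ⟨v, rfl⟩; exact hgI v)
  have hIJ : I ≤ J := by
    refine Submodule.le_of_le_smul_of_le_jacobson_bot (IsNoetherian.noetherian I)
      (IsLocalRing.jacobson_eq_maximalIdeal _ bot_ne_top).ge fun x hx => ?_
    have hxT : t ⟨x, hle hx⟩ ∈ (Submodule.span κ b).restrictScalars P := by
      rw [Submodule.restrictScalars_mem, hbspan]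
      exact Submodule.subset_span ⟨_, hx, rfl⟩
    rw [Submodule.restrictScalars_span P κ residue_surjective,
      show b = t '' Set.range g from by
        ext v; simp only [Set.mem_image, Set.mem_range, exists_exists_eq_and]
        exact ⟨fun hv => ⟨⟨v, hv⟩, hgt _⟩, fun ⟨w, hw⟩ => hw ▸ (hgt w).symm ▸ w.2⟩,
      ← Submodule.map_span] at hxT
    obtain ⟨y, hy, hyx⟩ := hxT
    have hyJ : (y : P) ∈ J := by
      have := Submodule.mem_map_of_mem (f := (maximalIdeal P).subtype) hy
      rwa [Submodule.map_span, ← Set.range_comp] at this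
    have hd : x - (y : P) ∈ maximalIdeal P ^ 2 :=
      ((maximalIdeal P).toCotangent_eq.1 hyx.symm :)
    have hd' := h _ (I.sub_mem hx (hJI hyJ)) hd
    rw [smul_eq_mul, ← sub_add_cancel x (y : P), add_comm]
    exact Submodule.add_mem_sup hyJ hd'
  have hIrank : I.spanFinrank ≤ Fintype.card b := by
    rw [le_antisymm hIJ hJI, ← Nat.card_eq_fintype_card]
    refine le_trans (Submodule.spanFinrank_span_le_ncard_of_finite (Set.finite_range _)) ?_
    exact (Finite.card_range_le _).trans le_rfl
  have hmax : (maximalIdeal (P ⧸ I)).spanFinrank ≤ Module.finrank κ W' := by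
    have : maximalIdeal (P ⧸ I) = Ideal.span (Set.range fun k => Ideal.Quotient.mk I (g' k)) := by
      have h1 : maximalIdeal P = Ideal.span (((↑) : maximalIdeal P → P) '' G) := by
        have := congrArg (Submodule.map (maximalIdeal P).subtype) hG
        rw [Submodule.map_span, Submodule.map_subtype_top] at this
        exact this.symm
      have h2 : maximalIdeal (P ⧸ I) = (maximalIdeal P).map (Ideal.Quotient.mk I) :=
        (IsLocalRing.map_maximalIdeal_of_surjective _ Ideal.Quotient.mk_surjective).symm
      refine h2.trans ((congrArg (Ideal.map (Ideal.Quotient.mk I)) h1).trans ?_)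
      rw [Ideal.map_span, Set.image_union, Set.image_union, Ideal.span_union,
        ← Set.range_comp, ← Set.range_comp, ← Set.range_comp, ← Set.range_comp,
        sup_eq_right.2 (Ideal.span_le.2 (by
          rintro _ ⟨v, rfl⟩
          change Ideal.Quotient.mk I (g v : P) ∈ _
          rw [Ideal.Quotient.eq_zero_iff_mem.2 (hgI v)]
          exact Submodule.zero_mem _))]
      rfl
    rw [this]
    refine le_trans (Submodule.spanFinrank_span_le_ncard_of_finite (Set.finite_range _)) ?_
    exact (Finite.card_range_le _).trans (by simp)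
  refine IsRegularLocalRing.of_spanFinrank_maximalIdeal_le _ ?_
  have hdim := ringKrullDim_le_ringKrullDim_quotient_add_spanFinrank I
    (hle.trans (le_of_eq (IsLocalRing.ringJacobson_eq_maximalIdeal (R := P)).symm))
  have hd : (maximalIdeal P).spanFinrank = Fintype.card b + Module.finrank κ W' := by
    rw [spanFinrank_maximalIdeal_eq_finrank_cotangentSpace, ← hW,
      Submodule.finrank_add_eq_of_isCompl hW']
  rw [← ‹IsRegularLocalRing P›.spanFinrank_maximalIdeal] at hdim
  obtain ⟨n, hn⟩ : ∃ n : ℕ, ringKrullDim (P ⧸ I) = n := by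
    have h0 := ringKrullDim_nonneg_of_nontrivial (R := P ⧸ I)
    have h1 := ringKrullDim_le_spanFinrank_maximalIdeal (P ⧸ I)
    cases hm : ringKrullDim (P ⧸ I) with
    | bot => simp [hm] at h0
    | coe m =>
      cases m with
      | top =>
        rw [hm, ← WithBot.coe_natCast, WithBot.coe_le_coe] at h1
        exact absurd h1 (not_le.2 (ENat.coe_lt_top _))
      | coe k => exact ⟨k, rfl⟩
  rw [hn] at hdim ⊢
  norm_cast at hdim ⊢
  omega

omit [Algebra K P] in
/-- Conversely a regular quotient is cut out by elements independent modulo `m ^ 2`. -/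
theorem mem_mul_of_regular_quotient [IsRegularLocalRing P] (I : Ideal P)
    [IsRegularLocalRing (P ⧸ I)] {x : P} (hx : x ∈ I) (hx2 : x ∈ maximalIdeal P ^ 2) :
    x ∈ maximalIdeal P * I := by
  classical
  obtain ⟨rs, hlen, hspan, c, -, hc⟩ :=
    CAlgH3.exists_sop_of_regular_quotient _ P rfl I
  let r : Fin rs.length → maximalIdeal P :=
    fun i => ⟨rs.get i, hspan ▸ Ideal.subset_span (List.get_mem _ _)⟩
  have hr : Submodule.span P (Set.range r) = ⊤ := by
    apply Submodule.map_injective_of_injective (maximalIdeal P).injective_subtype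
    rw [Submodule.map_span, ← Set.range_comp, Submodule.map_subtype_top]
    refine (congrArg Ideal.span ?_).trans hspan
    ext y
    simp [r, List.mem_iff_get]
  rw [← CotangentSpace.span_image_eq_top_iff, ← Set.range_comp] at hr
  have hli : LinearIndependent (ResidueField P) ((maximalIdeal P).toCotangent ∘ r) :=
    linearIndependent_of_top_le_span_of_card_eq_finrank hr.ge (by
      rw [Fintype.card_fin, hlen, ← spanFinrank_maximalIdeal_eq_finrank_cotangentSpace])
  have hI : I = Ideal.span ((fun i => (r i : P)) '' {i | i.1 < c}) := by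
    rw [hc]
    refine congrArg Ideal.span ?_
    ext y
    simp only [Set.mem_ofPred_eq, List.mem_take_iff_getElem, Set.mem_image]
    constructor
    · rintro ⟨i, hi, rfl⟩
      exact ⟨⟨i, by omega⟩, by simp; omega, rfl⟩
    · rintro ⟨i, hi, rfl⟩
      exact ⟨i, by omega, rfl⟩
  have hx' := hx
  rw [hI] at hx'
  rw [Ideal.span, Finsupp.mem_span_image_iff_linearCombination] at hx'
  obtain ⟨a, ha, rfl⟩ := hx'
  rw [Finsupp.mem_supported] at ha
  have hsum : ∑ i ∈ a.support, residue P (a i) • ((maximalIdeal P).toCotangent (r i)) = 0 := by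
    simp only [← IsLocalRing.ResidueField.algebraMap_eq, algebraMap_smul, ← map_smul, ← map_sum]
    rw [Ideal.toCotangent_eq_zero]
    simpa [Finsupp.linearCombination_apply, Finsupp.sum] using hx2
  have hzero := linearIndependent_iff'.1 hli a.support _ hsum
  rw [Finsupp.linearCombination_apply]
  refine Submodule.sum_mem _ fun i hi => Ideal.mul_mem_mul ((residue_eq_zero_iff _).1 (hzero i hi)) ?_
  rw [hI]
  exact Ideal.subset_span ⟨i, ha hi, rfl⟩

end Groth.Agent.AlgSpLib.SmoothRegular
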