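import Groth.Agent.Stk19b.EtaleDim
import Groth.Agent.AlgSpLib.FpqcBaseAffine2
import Groth.Agent.SGA3cLib.MonoClosed

/-!
The dimension of an algebraic space read on an atlas; integral morphisms and dimension.
-/

universe u

open CategoryTheory CategoryTheory.Limits AlgebraicGeometry Opposite
open AlgSp

noncomputable section

namespace Groth.Agent.AlgSpLib

set_option backward.isDefEq.respectTransparency.types false

variable {S : Scheme.{u}}

/-- the dimension of a space is the dimension of any atlas -/
theorem dim_eq_atlas {X : Sp S} (hX : IsAlgSpace X) {U : Over S} (a : (yon S).obj U ⟶ X)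
    (hae : RepWith @Etale a) (has : RepWith @Surjective a) :
    AlgSp.dim X = topologicalKrullDim ↥U.left := by
  refine le_antisymm (iSup_le fun V => iSup_le fun b => iSup_le fun hb => ?_)
    (le_iSup_of_le U (le_iSup_of_le a (le_iSup_of_le hae le_rfl)))
  rw [Stk19b.EtaleDim.topologicalKrullDim_eq_iSup_coheight,
    Stk19b.EtaleDim.topologicalKrullDim_eq_iSup_coheight]
  refine iSup_le fun v => ?_
  obtain ⟨u, hu⟩ := surjective_ofPt a has (Points.ofPt b v)
  refine le_iSup_of_le u (le_of_eq ?_)
  have := Stk19b.EtaleDim.ringKrullDim_stalk_eq_of_ofPt hX hae hb hu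
  rw [ringKrullDim_stalk_eq_coheight, ringKrullDim_stalk_eq_coheight] at this
  exact this.symm

theorem strictMono_of_isIntegralHom {A B : Scheme.{u}} (g : A ⟶ B) [IsIntegralHom g] : StrictMono g := by
  intro a b hab
  refine lt_of_le_not_ge (show g b ⤳ g a from (show b ⤳ a from hab.le).map g.continuous) fun h => ?_
  have e : g b = g a := ((show g b ⤳ g a from (show b ⤳ a from hab.le).map g.continuous).antisymm h).eq
  exact hab.ne (SGA3cLib.eq_of_specializes_of_isIntegralHom g (show b ⤳ a from hab.le) e).symm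

theorem topologicalKrullDim_le_of_isIntegralHom {A B : Scheme.{u}} (g : A ⟶ B) [IsIntegralHom g] :
    topologicalKrullDim A ≤ topologicalKrullDim B := by
  rw [DimLib.topologicalKrullDim_eq_krullDim, DimLib.topologicalKrullDim_eq_krullDim]
  exact Order.krullDim_le_of_strictMono g (strictMono_of_isIntegralHom g)

theorem topologicalKrullDim_ge_of_isIntegralHom {A B : Scheme.{u}} (g : A ⟶ B) [IsIntegralHom g] [Surjective g] :
    topologicalKrullDim B ≤ topologicalKrullDim A := by
  rw [DimLib.topologicalKrullDim_eq_krullDim, DimLib.topologicalKrullDim_eq_krullDim,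
    Order.krullDim_eq_iSup_height, Order.krullDim_eq_iSup_height]
  refine iSup_le fun b => ?_
  obtain ⟨a, rfl⟩ := g.surjective b
  refine le_iSup_of_le a (le_of_eq ?_)
  rw [Order.height_eq_of_strictMono g (strictMono_of_isIntegralHom g) fun a' b' hb => ?_]
  obtain ⟨a'', ha, e⟩ := g.isClosedMap.specializingMap (show g a' ⤳ b' from hb.le)
  refine ⟨a'', lt_of_le_not_ge (show a'' ≤ a' from ha) fun h => hb.ne ?_, e⟩
  rw [← e, ((show a' ⤳ a'' from ha).antisymm h).eq]

theorem dim_le_of_integral {X Y : Sp S} (hX : IsAlgSpace X) (hY : IsAlgSpace Y) {f : X ⟶ Y}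
    (hf : IsIntegralMor f) : AlgSp.dim X ≤ AlgSp.dim Y ∧ (IsSurjectiveMor f → AlgSp.dim Y ≤ AlgSp.dim X) := by
  have hr := (isIntegralMor_iff_repWith f).1 hf
  obtain ⟨V, b, hbe, hbs⟩ := hY.atlas
  have sq := hr.1.isPullback b
  have : IsIntegralHom (hr.1.snd b).left := hr.property_snd b
  rw [dim_eq_atlas hY b hbe hbs, dim_eq_atlas hX (hr.1.fst b) (RepWith.baseChange sq.flip hbe)
    (RepWith.baseChange sq.flip hbs)]
  refine ⟨topologicalKrullDim_le_of_isIntegralHom (hr.1.snd b).left, fun hs => ?_⟩
  have : Surjective (hr.1.snd b).left :=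
    (repWith_surjective_of_surjective_map hr.1 hs).property_snd b
  exact topologicalKrullDim_ge_of_isIntegralHom (hr.1.snd b).left

end Groth.Agent.AlgSpLib
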