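import Groth.Agent.AlgSpLib.FpqcBaseTop
import Groth.Agent.AlgSpLib.LocPMore

/-!
Properties on etale charts, and properties of the diagonal, are fpqc local on the base.
-/

universe u

open CategoryTheory CategoryTheory.Limits AlgebraicGeometry
open AlgSp

noncomputable section

namespace Groth.Agent.AlgSpLib

set_option backward.isDefEq.respectTransparency.types false

variable {S : Scheme.{u}}

theorem locP_of_fpqc_family {P : MorphismProperty Scheme.{u}} (hP : EtLocal P)
    [IsZariskiLocalAtTarget P] [P.DescendsAlong Et18.FPQC.{u}]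
    {Z : Over S} {m : ℕ} {V : Fin m → Over S} (c : ∀ j, V j ⟶ Z) (hZ : IsAffine Z.left)
    (hV : ∀ j, IsAffine (V j).left) (hc : ∀ j, Flat (c j).left)
    (hs : ∀ z : ↥Z.left, ∃ j, z ∈ Set.range (c j).left) {X : Sp S} (hX : IsAlgSpace X)
    {f : X ⟶ (yon S).obj Z} {Q : Fin m → Sp S} {a : ∀ j, Q j ⟶ X}
    {b : ∀ j, Q j ⟶ (yon S).obj (V j)} (sq : ∀ j, IsPullback (a j) (b j) f ((yon S).map (c j)))
    (hb : ∀ j, LocP P (b j)) : LocP P f := by
  have := hP.bc
  obtain ⟨U, ι, he, hsu⟩ := hX.atlas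
  obtain ⟨l, hl⟩ := (yon S).map_surjective (ι ≫ f)
  refine locP_of_atlas hP hX ι he hsu ?_
  rw [← hl]
  refine (repWith_yon_map_iff P l).2 ?_
  obtain ⟨W, π, r, hsq, hπ, hπq, hπs, -⟩ := exists_base_change_family l V c hZ hV hc hs
  refine property_of_fpqc_family (P := P) l.left (fun j => (c j).left) hc
    (fun j => by have := hV j; infer_instance) hs fun j => ?_
  have h1 : IsPullback (π j).left (r j).left l.left (c j).left := (hsq j).map (Over.forget S)
  rw [show pullback.snd l.left (c j).left = h1.isoPullback.inv ≫ (r j).left by simp]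
  refine (P.cancel_left_of_respectsIso _ _).2 ?_
  have big : IsPullback ((yon S).map (π j)) ((yon S).map (r j)) (ι ≫ f) ((yon S).map (c j)) := by
    rw [← hl]; exact (hsq j).map (yon S)
  let aj : (yon S).obj (W j) ⟶ Q j := (sq j).lift ((yon S).map (π j) ≫ ι) ((yon S).map (r j))
    (by rw [Category.assoc]; exact big.w)
  have top : IsPullback ((yon S).map (π j)) aj ι (a j) := by
    refine IsPullback.of_bot ?_ ((sq j).lift_fst _ _ _).symm (sq j)
    rw [show aj ≫ b j = (yon S).map (r j) from (sq j).lift_snd _ _ _]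
    exact big
  exact hb j aj (𝟙 _) (r j) (RepWith.baseChange top he) (repWith_id _ (V j))
    (by rw [Category.comp_id]; exact (sq j).lift_snd _ _ _)

theorem isLocalOnBase_fpqc_locP {P : MorphismProperty Scheme.{u}} (hP : EtLocal P)
    [IsZariskiLocalAtTarget P] [P.DescendsAlong Et18.FPQC.{u}] :
    IsLocalOnBase (IsFpqcCover (S := S)) (LocP P) :=
  isLocalOnBase_fpqc_of_affine _
    (fun _ _ _ _ hX hY hX' _ _ _ _ _ sq h => locP_of_isPullback hP hX hY hX' sq h)
    (fun _ _ hX hY f h => locP_of_affine hP hX hY fun Z hZ g Q fst snd sq =>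
      h Z hZ g Q fst snd (isAlgSpace_of_isPullback hY.diag hX (IsAlgSpace.yon_obj Z) sq) sq)
    (fun _ _ _ c hZ hV hc hs _ _ _ _ _ hX _ sq hb => locP_of_fpqc_family hP c hZ hV hc hs hX sq hb)

theorem isLocalOnBase_and {τ : CovNotion S} {P Q : MorphismProperty (Sp S)}
    (hP : IsLocalOnBase τ P) (hQ : IsLocalOnBase τ Q) :
    IsLocalOnBase τ (fun _ _ f => P f ∧ Q f) :=
  fun _ _ Yi g hY hYi hc _ f hX Xi p q hXi sq =>
    (and_congr (hP Yi g hY hYi hc f hX Xi p q hXi sq) (hQ Yi g hY hYi hc f hX Xi p q hXi sq)).trans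
      forall_and.symm

theorem isLocalOnBase_congr {τ : CovNotion S} {P Q : MorphismProperty (Sp S)}
    (h : ∀ ⦃X Y : Sp S⦄, IsAlgSpace X → IsAlgSpace Y → ∀ (f : X ⟶ Y), Q f ↔ P f)
    (hP : IsLocalOnBase τ P) : IsLocalOnBase τ Q :=
  fun _ _ Yi g hY hYi hc _ f hX Xi p q hXi sq => by
    rw [h hX hY f, forall_congr' fun i => h (hXi i) (hYi i) (p i)]
    exact hP Yi g hY hYi hc f hX Xi p q hXi sq

/-- a property of the diagonal descends along fpqc families -/
theorem repWith_diagonal_of_fpqc_family (P : MorphismProperty Scheme.{u})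
    [P.IsStableUnderBaseChange] [IsZariskiLocalAtTarget P] [P.DescendsAlong Et18.FPQC.{u}]
    {Z : Over S} {m : ℕ} {V : Fin m → Over S} (c : ∀ j, V j ⟶ Z) (hZ : IsAffine Z.left)
    (hV : ∀ j, IsAffine (V j).left) (hc : ∀ j, Flat (c j).left)
    (hs : ∀ z : ↥Z.left, ∃ j, z ∈ Set.range (c j).left) {X : Sp S} (hX : IsAlgSpace X)
    {f : X ⟶ (yon S).obj Z} {Q : Fin m → Sp S} {a : ∀ j, Q j ⟶ X}
    {b : ∀ j, Q j ⟶ (yon S).obj (V j)} (sq : ∀ j, IsPullback (a j) (b j) f ((yon S).map (c j)))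
    (hb : ∀ j, RepWith P (pullback.diagonal (b j))) : RepWith P (pullback.diagonal f) := by
  refine repWith_of_fpqc_family (representable_diagonal hX f) P fun T t => ?_
  obtain ⟨z, hz⟩ := (yon S).map_surjective (t ≫ pullback.fst f f ≫ f)
  obtain ⟨W, π, r, hsq, hπ, hπq, hπs, -⟩ := exists_base_change_family z V c hZ hV hc hs
  refine ⟨m, W, π, hπ, hπq, hπs, fun j D p q hD => ?_⟩
  have ec : (yon S).map (π j) ≫ (yon S).map z = (yon S).map (r j) ≫ (yon S).map (c j) := by
    rw [← Functor.map_comp, ← Functor.map_comp, (hsq j).w]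
  have e1 : ((yon S).map (π j) ≫ t ≫ pullback.fst f f) ≫ f = (yon S).map (r j) ≫ (yon S).map (c j) := by
    rw [← ec, hz]; simp only [Category.assoc]
  have e2 : ((yon S).map (π j) ≫ t ≫ pullback.snd f f) ≫ f = (yon S).map (r j) ≫ (yon S).map (c j) := by
    rw [← ec, hz]; simp only [Category.assoc, pullback.condition]
  let md := pullback.map (b j) (b j) f f (a j) (a j) ((yon S).map (c j)) (sq j).w.symm (sq j).w.symm
  let t' : (yon S).obj (W j) ⟶ pullback (b j) (b j) :=
    pullback.lift ((sq j).lift _ _ e1) ((sq j).lift _ _ e2) (by simp)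
  have et : (yon S).map (π j) ≫ t = t' ≫ md := by
    apply pullback.hom_ext
    · show _ = (pullback.lift _ _ _ ≫ pullback.map _ _ _ _ _ _ _ _ _) ≫ _
      rw [Category.assoc, Category.assoc, pullback.map, pullback.lift_fst, pullback.lift_fst_assoc,
        IsPullback.lift_fst]
    · show _ = (pullback.lift _ _ _ ≫ pullback.map _ _ _ _ _ _ _ _ _) ≫ _
      rw [Category.assoc, Category.assoc, pullback.map, pullback.lift_snd, pullback.lift_snd_assoc,
        IsPullback.lift_fst]
  rw [et] at hD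
  exact (hb j).property _ _ _ (IsPullback.of_right' hD (isPullback_diagonal_map (sq j)))

theorem isLocalOnBase_fpqc_diagonal (P : MorphismProperty Scheme.{u})
    [P.IsStableUnderBaseChange] [IsZariskiLocalAtTarget P] [P.DescendsAlong Et18.FPQC.{u}] :
    IsLocalOnBase (IsFpqcCover (S := S)) (fun _ _ f => RepWith P (pullback.diagonal f)) :=
  isLocalOnBase_fpqc_of_affine _
    (fun _ _ _ _ _ _ _ _ _ _ _ _ sq h => RepWith.baseChange (isPullback_diagonal_map sq) h)
    (fun _ _ hX hY f h => repWith_diagonal_of_affine hX P fun Z hZ g Q fst snd sq =>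
      h Z hZ g Q fst snd (isAlgSpace_of_isPullback hY.diag hX (IsAlgSpace.yon_obj Z) sq) sq)
    (fun _ _ _ c hZ hV hc hs _ _ _ _ _ hX _ sq hb =>
      repWith_diagonal_of_fpqc_family P c hZ hV hc hs hX sq hb)

theorem mono_iff_repWith_diagonal {X Y : Sp S} (f : X ⟶ Y) :
    Mono f ↔ RepWith (MorphismProperty.isomorphisms Scheme.{u}) (pullback.diagonal f) := by
  constructor
  · intro h; exact repWith_of_isIso _ _
  · intro h
    exact (pullback.isIso_diagonal_iff f).1 (isIso_of_repWith_isomorphisms h)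

end Groth.Agent.AlgSpLib
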