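import Groth.Agent.AlgSpLib.FpqcBaseIso
import Groth.Agent.AlgSpLib.FpqcBaseAffine2
import Mathlib.AlgebraicGeometry.Morphisms.FormallyUnramified
import Mathlib.RingTheory.Flat.Stability

/-!
Unramified morphisms, universally injective morphisms, proper morphisms from schemes.
-/

universe u

open CategoryTheory CategoryTheory.Limits AlgebraicGeometry Topology
open AlgSp

noncomputable section

namespace Groth.Agent.AlgSpLib

set_option backward.isDefEq.respectTransparency.types false

variable {S : Scheme.{u}} {F G : Sp S}

theorem repWith_diagonal_of_repWith (hF : IsAlgSpace F) (P : MorphismProperty Scheme.{u})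
    [P.IsStableUnderBaseChange] [IsZariskiLocalAtTarget P] {f : F ⟶ G} (hf : Representable f)
    (h : ∀ (Z : Over S) (g : (yon S).obj Z ⟶ G), P (pullback.diagonal (hf.snd g).left)) :
    RepWith P (pullback.diagonal f) := by
  have : P.RespectsIso := inferInstance
  refine repWith_diagonal_of_affine hF P fun Z hZ g Q fst snd sq => ?_
  let e := sq.isoIsPullback _ _ (hf.isPullback g)
  have he : e.hom ≫ (yon S).map (hf.snd g) = snd := sq.isoIsPullback_hom_snd _ _ _
  have h1 : RepWith P (pullback.diagonal ((yon S).map (hf.snd g))) :=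
    (repWith_diagonal_yon_map_iff P _).2 (h Z g)
  rw [← he]
  exact (MorphismProperty.cancel_left_of_respectsIso (RepWith (S := S) P).diagonal _ _).2 h1

theorem isProperMor_of_repWith (hF : IsAlgSpace F) (hG : IsAlgSpace G) {f : F ⟶ G}
    (hf : RepWith @IsProper f) : IsProperMor f :=
  ⟨repWith_diagonal_of_repWith hF @IsClosedImmersion hf.1 fun Z g => by
      have : IsProper (hf.1.snd g).left := hf.property_snd g
      exact IsSeparated.diagonal_isClosedImmersion,
    ⟨locP_of_repWith etLocal_lft hF
      (RepWith.mono (fun _ _ g (_ : IsProper g) => (inferInstance : LocallyOfFiniteType g)) hf),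
    (repWith_quasiCompact_iff hF hG hf.1).1
      (RepWith.mono (fun _ _ g (_ : IsProper g) => (inferInstance : QuasiCompact g)) hf)⟩,
    (repWith_universallyClosed_iff hf.1).1
      (RepWith.mono (fun _ _ g (_ : IsProper g) => (inferInstance : UniversallyClosed g)) hf)⟩

/-- the diagonal of an unramified morphism is an open immersion -/
theorem repWith_diagonal_of_unramified (hF : IsAlgSpace F) (hG : IsAlgSpace G) {f : F ⟶ G}
    (hf : LocP (@LocallyOfFiniteType ⊓ @FormallyUnramified) f) :
    RepWith @IsOpenImmersion (pullback.diagonal f) := by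
  have sq := IsPullback.of_hasPullback f f
  have hP : IsAlgSpace (pullback f f) := isAlgSpace_of_isPullback hG.diag hF hF sq
  refine (repWith_isOpenImmersion_iff_mono_etale hF hP _).2 ⟨inferInstance,
    (isEtaleMor_iff_locP etLocal_etale hF hP _).2 ?_⟩
  refine locP_of_comp' (Q := @LocallyOfFiniteType ⊓ @FormallyUnramified) etLocal_etale hF hP hF
    (fun A B C a b h1 h2 => ?_) (g := pullback.snd f f) ?_ (locP_of_isPullback etLocal_unramified hF hG hP sq hf)
  · have : Etale (a ≫ b) := h1
    have : LocallyOfFiniteType b := h2.1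
    have : FormallyUnramified b := h2.2
    exact Etale.of_comp a b
  · rw [pullback.diagonal_snd]
    exact locP_id etLocal_etale hF

theorem locP_unramified_of_diagonal (hF : IsAlgSpace F) (hG : IsAlgSpace G) {f : F ⟶ G}
    (hl : LocP @LocallyOfFiniteType f) (hd : RepWith @IsOpenImmersion (pullback.diagonal f)) :
    LocP (@LocallyOfFiniteType ⊓ @FormallyUnramified) f := by
  intro U V a b l ha hb w
  refine ⟨hl a b l ha hb w, ?_⟩
  have hda : RepWith @IsOpenImmersion (pullback.diagonal a) :=
    repWith_diagonal_of_repWith (IsAlgSpace.yon_obj U) _ ha.1 fun Z g => by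
      have : Etale (ha.1.snd g).left := ha.property_snd g
      exact (inferInstance : IsOpenImmersion (pullback.diagonal (ha.1.snd g).left))
  have hc : RepWith @IsOpenImmersion (pullback.diagonal (a ≫ f)) :=
    MorphismProperty.comp_mem (RepWith (S := S) @IsOpenImmersion).diagonal a f hda hd
  replace hc : RepWith @IsOpenImmersion (pullback.diagonal ((yon S).map l ≫ b)) := by
    have key : ∀ g, a ≫ f = g → RepWith @IsOpenImmersion (pullback.diagonal g) := by rintro _ rfl; exact hc
    exact key _ w
  have : Mono (pullback.diagonal b) := inferInstance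
  let m : pullback ((yon S).map l) ((yon S).map l) ⟶ pullback ((yon S).map l ≫ b) ((yon S).map l ≫ b) :=
    pullback.lift (pullback.fst _ _) (pullback.snd _ _) (by rw [pullback.condition_assoc])
  have hm₁ : m ≫ pullback.fst _ _ = pullback.fst _ _ := pullback.lift_fst _ _ _
  have hm₂ : m ≫ pullback.snd _ _ = pullback.snd _ _ := pullback.lift_snd _ _ _
  have hm : pullback.diagonal ((yon S).map l) ≫ m = pullback.diagonal ((yon S).map l ≫ b) := by
    apply pullback.hom_ext
    · rw [Category.assoc, hm₁, pullback.diagonal_fst, pullback.diagonal_fst]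
    · rw [Category.assoc, hm₂, pullback.diagonal_snd, pullback.diagonal_snd]
  have : Mono m := ⟨fun x y e => by
    apply pullback.hom_ext
    · rw [← hm₁, ← Category.assoc, e, Category.assoc]
    · rw [← hm₂, ← Category.assoc, e, Category.assoc]⟩
  have hl' : RepWith @IsOpenImmersion (pullback.diagonal ((yon S).map l)) :=
    repWith_of_comp_mono _ m (by rw [hm]; exact hc)
  have := (repWith_diagonal_yon_map_iff @IsOpenImmersion l).1 hl'
  exact (inferInstance : FormallyUnramified l.left)

theorem flat_of_field {K : Type u} [Field K] {A : CommRingCat.{u}} (φ : CommRingCat.of K ⟶ A) :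
    Flat (Spec.map φ) := by
  rw [HasRingHomProperty.Spec_iff (P := @Flat)]
  algebraize [φ.hom]
  exact (inferInstance : Module.Flat K A)

theorem isIso_of_mono_to_field {K : Type u} [Field K] {D : Scheme.{u}}
    (q : D ⟶ Spec (CommRingCat.of K)) [Mono q] (hD : Nonempty D) : IsIso q := by
  obtain ⟨p⟩ := hD
  let x := D.fromSpecResidueField p ≫ q
  obtain ⟨φ, hφ⟩ := Spec.map_surjective x
  have hx : Flat x := hφ ▸ flat_of_field φ
  have hfpqc : Et18.FPQC.{u} x :=
    ⟨⟨⟨fun y => ⟨IsLocalRing.closedPoint _, Subsingleton.elim _ _⟩⟩, hx⟩, inferInstance⟩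
  refine MorphismProperty.of_pullback_snd_of_descendsAlong
    (P := MorphismProperty.isomorphisms Scheme.{u}) (Q := Et18.FPQC.{u}) hfpqc ?_
  show IsIso (pullback.snd q x)
  have : IsSplitEpi (pullback.snd q x) :=
    ⟨⟨{ section_ := pullback.lift (D.fromSpecResidueField p) (𝟙 _) (by simp [x])
        id := pullback.lift_snd _ _ _ }⟩⟩
  exact isIso_of_mono_of_isSplitEpi _

theorem surjective_diagonal_of_univInjective {f : F ⟶ G} (hP : IsAlgSpace F)
    (h : IsUnivInjectiveMor f) : IsSurjectiveMor (pullback.diagonal f) := fun w => by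
  refine ⟨Points.map (pullback.snd f f) w, ?_⟩
  refine h hP f _ _ (IsPullback.of_hasPullback f f) ?_
  rw [← Points.map_comp, ← Points.map_comp, pullback.diagonal_snd, Category.comp_id]

theorem univInjective_of_surjective_diagonal (hF : IsAlgSpace F) {f : F ⟶ G}
    (h : IsSurjectiveMor (pullback.diagonal f)) : IsUnivInjectiveMor f := by
  intro Z Z' _ g fst snd sq x y e
  obtain ⟨z, hz₁, hz₂⟩ := exists_point_of_isPullback (IsPullback.of_hasPullback snd snd) e
  have h1 : Function.Surjective (Points.map (pullback.diagonal f)) := h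
  obtain ⟨w, rfl⟩ := surjective_map_of_isPullback (isPullback_diagonal_map sq).flip.flip h1 z
  rw [← hz₁, ← hz₂, ← Points.map_comp, ← Points.map_comp, pullback.diagonal_fst,
    pullback.diagonal_snd]

theorem surjective_diagonal_of_injective_fieldPoints {f : F ⟶ G}
    (h : ∀ (K : Type u) [Field K] (str : Spec (CommRingCat.of K) ⟶ S),
      Function.Injective (fun a : (yon S).obj (Over.mk str) ⟶ F => a ≫ f)) :
    IsSurjectiveMor (pullback.diagonal f) := fun w => by
  obtain ⟨K, _, str, t, rfl⟩ := exists_ptOfHom w
  refine ⟨ptOfHom (t ≫ pullback.fst f f), ?_⟩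
  rw [map_ptOfHom]
  congr 1
  have e : t ≫ pullback.fst f f = t ≫ pullback.snd f f :=
    h K str (by simp only [Category.assoc, pullback.condition])
  ext1
  · simp
  · simp [e]

theorem injective_fieldPoints_of_surjective_diagonal (hF : IsAlgSpace F) {f : F ⟶ G}
    (h : IsSurjectiveMor (pullback.diagonal f)) (K : Type u) [Field K]
    (str : Spec (CommRingCat.of K) ⟶ S) :
    Function.Injective (fun a : (yon S).obj (Over.mk str) ⟶ F => a ≫ f) := fun a b e => by
  let z := pullback.lift (f := f) (g := f) a b e
  have hd := representable_diagonal hF f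
  have sq := hd.isPullback z
  have : Mono (pullback.diagonal f) := inferInstance
  have hs : RepWith @Surjective (pullback.diagonal f) := repWith_surjective_of_surjective_map hd h
  have hsurj : Surjective (hd.snd z).left := hs.2 z _ _ sq
  have hmono : Mono (hd.snd z).left := (repWith_monomorphisms_of_mono hd).2 z _ _ sq
  obtain ⟨p, -⟩ := hsurj.surj (IsLocalRing.closedPoint K)
  have : IsIso (hd.snd z).left := isIso_of_mono_to_field _ ⟨p⟩
  have : IsIso (hd.snd z) := by
    have : IsIso ((Over.forget S).map (hd.snd z)) := ‹_›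
    exact isIso_of_reflects_iso _ (Over.forget S)
  let l := (yon S).map (inv (hd.snd z)) ≫ hd.fst z
  have hl : l ≫ pullback.diagonal f = z := by
    rw [Category.assoc, sq.w, ← Functor.map_comp_assoc, IsIso.inv_hom_id]
    erw [(yon S).map_id, Category.id_comp]
  have ea : a = l := by
    have := congrArg (· ≫ pullback.fst f f) hl
    dsimp only [z] at this
    rw [pullback.lift_fst, Category.assoc, pullback.diagonal_fst, Category.comp_id] at this
    exact this.symm
  have eb : b = l := by
    have := congrArg (· ≫ pullback.snd f f) hl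
    dsimp only [z] at this
    rw [pullback.lift_snd, Category.assoc, pullback.diagonal_snd, Category.comp_id] at this
    exact this.symm
  rw [ea, eb]

theorem repWith_isOpenImmersion_of_etale_univInjective (hF : IsAlgSpace F) (hG : IsAlgSpace G)
    {f : F ⟶ G} (he : IsEtaleMor f) (hi : IsUnivInjectiveMor f) : RepWith @IsOpenImmersion f := by
  refine (repWith_isOpenImmersion_iff_mono_etale hF hG f).2 ⟨?_, he⟩
  have hl := (isEtaleMor_iff_locP etLocal_etale hF hG f).1 he
  have hd := repWith_diagonal_of_unramified hF hG (locP_mono (fun _ _ g (_ : Etale g) =>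
    (⟨inferInstance, inferInstance⟩ : (@LocallyOfFiniteType ⊓ @FormallyUnramified : MorphismProperty _) g)) hl)
  have hs : RepWith @Surjective (pullback.diagonal f) :=
    repWith_surjective_of_surjective_map hd.1 (surjective_diagonal_of_univInjective hF hi)
  refine (mono_iff_repWith_diagonal f).2 ⟨hd.1, fun U V g fst snd sq => ?_⟩
  have h1 : IsOpenImmersion snd.left := hd.2 g fst snd sq
  have h2 : Surjective snd.left := hs.2 g fst snd sq
  exact (isIso_iff_isOpenImmersion_and_epi_base _).2
    ⟨h1, (TopCat.epi_iff_surjective _).2 snd.left.surjective⟩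

theorem isUnivSubmersiveMor_of_flat_qc (hF : IsAlgSpace F) (hG : IsAlgSpace G) {f : F ⟶ G}
    (hfl : LocP @Flat f) (hqc : IsQuasiCompactMor f) (hs : IsSurjectiveMor f) :
    IsUnivSubmersiveMor f := by
  refine isUnivSubmersiveMor_of_affine fun Z hZ g P fst snd sq => ?_
  have hP : IsAlgSpace P := isAlgSpace_of_isPullback hG.diag hF (IsAlgSpace.yon_obj Z) sq
  have : CompactSpace (Points P) := compactSpace_of_isQuasiCompactMor hqc sq
  obtain ⟨U, p, hU, hpe, hps⟩ := exists_affine_chart hP
  obtain ⟨l, hl⟩ := (yon S).map_surjective (p ≫ snd)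
  have hflat : Flat l.left :=
    locP_of_isPullback etLocal_flat hF hG hP sq hfl p (𝟙 _) l hpe (repWith_id _ Z)
      (by rw [Category.comp_id, hl])
  have hsurj : Surjective l.left := by
    rw [← surjective_map_yon_map_iff, hl]
    intro z
    obtain ⟨w, rfl⟩ := surjective_map_of_isPullback sq hs z
    obtain ⟨u, rfl⟩ := surjective_map_of_repWith hps w
    exact ⟨u, Points.map_comp _ _ _⟩
  have hq : IsQuotientMap l.left := Flat.isQuotientMap_of_surjective l.left
  have hcomp : IsQuotientMap (Points.map snd ∘ Points.map p) := by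
    rw [show Points.map snd ∘ Points.map p = Points.map (p ≫ snd) from
      funext fun x => (Points.map_comp _ _ _).symm, ← hl, Points.map_yon_map_eq]
    exact ((Points.schemeHomeo Z).isQuotientMap.comp hq).comp (Points.schemeHomeo U).symm.isQuotientMap
  exact IsQuotientMap.of_comp (Points.continuous_map p) (Points.continuous_map snd) hcomp

end Groth.Agent.AlgSpLib
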