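import Groth.Agent.AlgSpLib.DeformProps
import Groth.Agent.AlgSpLib.LqfScheme
import Groth.Agent.AlgSpLib.MorMore
import Groth.Agent.AlgSpLib.MorSep
import Groth.Agent.AlgSpLib.Diag
import Groth.Agent.AlgSpLib.FpqcBaseLocP
import Groth.Agent.AlgSpLib.PointsTop
import Groth.Prelude.Def_AlgSpMor5
import Mathlib.AlgebraicGeometry.ZariskisMainTheorem
import Mathlib.AlgebraicGeometry.Morphisms.FlatMono
import Mathlib.AlgebraicGeometry.Morphisms.FlatRank

/-!
Isomorphisms, open immersions, monomorphisms and finite locally free morphisms over a thickening.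
-/

universe u

open CategoryTheory CategoryTheory.Limits AlgebraicGeometry
open AlgSp

noncomputable section

namespace Groth.Agent.AlgSpLib

set_option backward.isDefEq.respectTransparency.types false

section Sch

variable {U V U₀ V₀ : Scheme.{u}} {jU : U₀ ⟶ U} {h₀ : U₀ ⟶ V₀} {h : U ⟶ V} {jV : V₀ ⟶ V}

theorem surjective_left_of_thick (sq : IsPullback jU h₀ h jV) [Surjective jV] : Surjective jU :=
  MorphismProperty.of_isPullback sq.flip ‹Surjective jV›

theorem surjective_of_thick (sq : IsPullback jU h₀ h jV) [Surjective jV] [Surjective h₀] : Surjective h :=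
  have : Surjective (jU ≫ h) := sq.w ▸ inferInstance
  ⟨fun v => by
    obtain ⟨a, ha⟩ := (jU ≫ h).surjective v
    exact ⟨jU a, by rw [← Scheme.Hom.comp_apply]; exact ha⟩⟩

theorem universallyClosed_of_thick (sq : IsPullback jU h₀ h jV) [IsClosedImmersion jV] [Surjective jV]
    [UniversallyClosed h₀] : UniversallyClosed h :=
  have := surjective_left_of_thick sq
  have : UniversallyClosed (jU ≫ h) := sq.w ▸ inferInstance
  .of_comp_surjective jU h

theorem universallyInjective_of_thick (sq : IsPullback jU h₀ h jV) [IsClosedImmersion jV] [Surjective jV]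
    [UniversallyInjective h₀] : UniversallyInjective h := by
  have := surjective_left_of_thick sq
  have : UniversallyInjective (jU ≫ h) := sq.w ▸ MorphismProperty.comp_mem @UniversallyInjective h₀ jV ‹_› inferInstance
  refine ⟨fun {U' V'} i₁ i₂ f' H x y e => ?_⟩
  have hs : Function.Surjective (pullback.fst i₁ jU) :=
    (MorphismProperty.pullback_fst (P := @Surjective) i₁ jU ‹_›).1
  have hi := UniversallyInjective.universally_injective (f := jU ≫ h) _ _ _
    ((IsPullback.of_hasPullback i₁ jU).paste_horiz H)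
  obtain ⟨x, rfl⟩ := hs x
  obtain ⟨y, rfl⟩ := hs y
  exact congrArg _ (hi (by simpa only [Scheme.Hom.comp_apply] using e))

theorem quasiCompact_of_thick (sq : IsPullback jU h₀ h jV) [IsClosedImmersion jV] [Surjective jV]
    [QuasiCompact h₀] : QuasiCompact h := by
  have := surjective_left_of_thick sq
  have : QuasiCompact (jU ≫ h) := sq.w ▸ inferInstance
  refine ⟨fun O hO hc => ?_⟩
  have := (QuasiCompact.isCompact_preimage (f := jU ≫ h) O hO hc).image jU.continuous
  rwa [show (jU ≫ h) ⁻¹' O = jU ⁻¹' (h ⁻¹' O) from Set.ext fun x => by simp,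
    Set.image_preimage_eq _ jU.surjective] at this

theorem closedImmersion_of_thick (sq : IsPullback jU h₀ h jV) [IsClosedImmersion jV] [Surjective jV]
    [LocallyOfFiniteType h] [Mono h] [IsClosedImmersion h₀] : IsClosedImmersion h := by
  have := universallyClosed_of_thick sq
  have := quasiCompact_of_thick sq
  exact (IsClosedImmersion.iff_isProper_and_mono h).2 ⟨{}, inferInstance⟩

theorem mono_of_thick (sq : IsPullback jU h₀ h jV) [IsClosedImmersion jV] [Surjective jV]
    [LocallyOfFiniteType h] [UniversallyInjective h₀] [FormallyUnramified h₀] : Mono h := by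
  have hi := universallyInjective_of_thick sq
  have := unramified_of_thick sq
  have : Surjective (pullback.diagonal h) := (UniversallyInjective.iff_diagonal h).1 hi
  have : IsIso (pullback.diagonal h) := (isIso_iff_isOpenImmersion_and_epi_base _).2
    ⟨inferInstance, (TopCat.epi_iff_surjective _).2 (pullback.diagonal h).surjective⟩
  exact (pullback.isIso_diagonal_iff h).1 this

theorem openImmersion_of_thick (sq : IsPullback jU h₀ h jV) [IsClosedImmersion jV] [Surjective jV]
    [Etale h] [IsOpenImmersion h₀] : IsOpenImmersion h :=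
  have := mono_of_thick sq
  .of_flat_of_mono h

theorem isIso_of_thick_etale (sq : IsPullback jU h₀ h jV) [IsClosedImmersion jV] [Surjective jV]
    [Etale h] [IsIso h₀] : IsIso h := by
  have ho := openImmersion_of_thick sq
  have := surjective_of_thick sq
  exact (isIso_iff_isOpenImmersion_and_epi_base _).2 ⟨ho, (TopCat.epi_iff_surjective _).2 h.surjective⟩

theorem isFinite_of_thick (sq : IsPullback jU h₀ h jV) [IsClosedImmersion jV] [Surjective jV]
    [LocallyOfFiniteType h] [IsSeparated h] [IsFinite h₀] : IsFinite h := by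
  have := universallyClosed_of_thick sq
  have := quasiCompact_of_thick sq
  have := lqf_of_thick sq
  have : IsProper h := {}
  exact .of_isProper_of_locallyQuasiFinite h

end Sch

section Cat

variable {C : Type*} [Category C] [HasPullbacks C]

theorem isPullback_map_of_isPullback {X X' Y Y' : C} {i : X ⟶ X'} {f : X ⟶ Y} {f' : X' ⟶ Y'} {j : Y ⟶ Y'}
    (sq : IsPullback i f f' j) :
    IsPullback (pullback.map f f f' f' i i j sq.w.symm sq.w.symm) (pullback.fst f f ≫ f)
      (pullback.fst f' f' ≫ f') j := by
  refine IsPullback.paste_vert ?_ sq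
  refine IsPullback.of_right (h₁₂ := pullback.snd f' f') ?_ (pullback.lift_fst _ _ _)
    (IsPullback.of_hasPullback f' f').flip
  rw [pullback.lift_snd, sq.w]
  exact (IsPullback.of_hasPullback f f).flip.paste_horiz sq.flip.flip

end Cat

variable {S : Scheme.{u}}

/-- descent of a property along a thickening -/
theorem repWith_of_thick {D D' E E' : Sp S} {i : D ⟶ D'} {d : D ⟶ E} {d' : D' ⟶ E'} {m : E ⟶ E'}
    (sq : IsPullback i d d' m) (hm : IsThickMor m) {P R Q : MorphismProperty Scheme.{u}}
    (hR : RepWith R d') (hd : RepWith P d)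
    (key : ∀ ⦃U V U₀ V₀ : Scheme.{u}⦄ (jU : U₀ ⟶ U) (h₀ : U₀ ⟶ V₀) (h : U ⟶ V) (jV : V₀ ⟶ V),
      IsPullback jU h₀ h jV → IsClosedImmersion jV → Surjective jV → R h → P h₀ → Q h) :
    RepWith Q d' := by
  refine ⟨hR.1, fun W U g fst snd sW => ?_⟩
  have sV := hm.rep.isPullback g
  let V₀ := hm.rep.pullback g
  let jV := hm.rep.snd g
  have hp := (IsPullback.of_hasPullback snd jV).map (yon S)
  let U₀ := pullback snd jV
  have outer : IsPullback ((yon S).map (pullback.fst snd jV) ≫ fst) ((yon S).map (pullback.snd snd jV)) d'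
      ((yon S).map jV ≫ g) := hp.paste_horiz sW
  rw [← sV.w] at outer
  let p : (yon S).obj U₀ ⟶ D := sq.lift ((yon S).map (pullback.fst snd jV) ≫ fst)
    ((yon S).map (pullback.snd snd jV) ≫ hm.rep.fst g) (by rw [outer.w, Category.assoc])
  have s0 : IsPullback p ((yon S).map (pullback.snd snd jV)) d (hm.rep.fst g) :=
    IsPullback.of_right (h₁₂ := i) (by rw [sq.lift_fst]; exact outer) (sq.lift_snd _ _ _) sq
  exact key _ _ _ _ ((IsPullback.of_hasPullback snd jV).map (Over.forget S)) (hm.property_snd g).1
    (hm.property_snd g).2 (hR.property _ _ _ sW) (hd.property _ _ _ s0)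

variable {X X' Y Y' : Sp S} {iX : X ⟶ X'} {iY : Y ⟶ Y'} {f : X ⟶ Y} {f' : X' ⟶ Y'}

theorem isThickMor_diagMap (sq : IsPullback iX f f' iY) (hi : IsThickMor iY) :
    IsThickMor (pullback.map f f f' f' iX iX iY sq.w.symm sq.w.symm) :=
  RepWith.baseChange (isPullback_map_of_isPullback sq).flip hi

theorem diag_lft_mono (hX' : IsAlgSpace X') :
    RepWith (@LocallyOfFiniteType ⊓ MorphismProperty.monomorphisms Scheme.{u}) (pullback.diagonal f') :=
  RepWith.and (repWith_diagonal f' (repWith_diag_lft hX'))
    (repWith_monomorphisms_of_mono (representable_diagonal hX' f'))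

theorem isSeparatedMor_of_thick (hX' : IsAlgSpace X') (sq : IsPullback iX f f' iY) (hi : IsThickMor iY)
    (hf : IsSeparatedMor f) : IsSeparatedMor f' := by
  refine repWith_of_thick (isPullback_diagonal_map sq) (isThickMor_diagMap sq hi) (diag_lft_mono hX') hf
    fun U V U₀ V₀ jU h₀ h jV s _ _ hR h0 => ?_
  have : LocallyOfFiniteType h := hR.1
  have : Mono h := hR.2
  have : IsClosedImmersion h₀ := h0
  exact closedImmersion_of_thick s

theorem mono_of_thick_flat (hX' : IsAlgSpace X') (hY' : IsAlgSpace Y') (sq : IsPullback iX f f' iY)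
    (hi : IsThickMor iY) [Mono f] (hflat : LocP @Flat (pullback.diagonal f')) : Mono f' := by
  have hP := isAlgSpace_of_isPullback hY'.diag hX' hX' (IsPullback.of_hasPullback f' f')
  have hR := RepWith.and (diag_lft_mono (f' := f') hX')
    ((repWith_iff_locP etLocal_flat hX' hP (representable_diagonal hX' f')).2 hflat)
  refine (mono_iff_repWith_diagonal f').2 (repWith_of_thick (isPullback_diagonal_map sq) (isThickMor_diagMap sq hi)
    hR ((mono_iff_repWith_diagonal f).1 ‹_›) fun U V U₀ V₀ jU h₀ h jV s _ _ hR h0 => ?_)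
  have : IsIso h₀ := h0
  have : LocallyOfFiniteType h := hR.1.1
  have : Mono h := hR.1.2
  have : Flat h := hR.2
  have := closedImmersion_of_thick s
  have := surjective_of_thick s
  exact Flat.isIso_of_surjective_of_mono h

theorem openImmersion_of_thick_mor (hX : IsAlgSpace X) (hX' : IsAlgSpace X') (hY : IsAlgSpace Y)
    (hY' : IsAlgSpace Y') (sq : IsPullback iX f f' iY) (hi : IsThickMor iY)
    (het : IsEtaleMor f → IsEtaleMor f') {P : MorphismProperty Scheme.{u}}
    (hP : P ≤ @IsOpenImmersion) (hf : RepWith P f) :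
    RepWith (@Etale) f' ∧ RepWith @IsOpenImmersion f' ∧
      (P = MorphismProperty.isomorphisms Scheme.{u} → RepWith P f') := by
  have hfo := RepWith.mono hP hf
  have : Mono f := mono_of_repWith (fun _ _ g (_ : IsOpenImmersion g) => (inferInstance : Mono g)) hfo
  have he : IsEtaleMor f := (isEtaleMor_iff_locP etLocal_etale hX hY f).2 (locP_of_repWith etLocal_etale hX
    (RepWith.mono (fun _ _ g (_ : IsOpenImmersion g) => (inferInstance : Etale g)) hfo))
  have hl := (isEtaleMor_iff_locP etLocal_etale hX' hY' f').1 (het he)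
  have hr : Representable f' := representable_of_lqf_separated' hX' hY' f'
    (isSeparatedMor_of_thick hX' sq hi (isSeparatedMor_of_mono f))
    (locP_mono (fun _ _ g (_ : Etale g) => (⟨locallyQuasiFinite_of_etale g, inferInstance⟩ :
      (@LocallyQuasiFinite ⊓ @LocallyOfFiniteType : MorphismProperty _) g)) hl)
  have hR : RepWith @Etale f' := (repWith_iff_locP etLocal_etale hX' hY' hr).2 hl
  refine ⟨hR, repWith_of_thick sq hi hR hfo fun U V U₀ V₀ jU h₀ h jV s _ _ hR h0 => ?_, fun e => ?_⟩
  · have : Etale h := hR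
    have : IsOpenImmersion h₀ := h0
    exact openImmersion_of_thick s
  · subst e
    refine repWith_of_thick sq hi hR hf fun U V U₀ V₀ jU h₀ h jV s _ _ hR h0 => ?_
    have : Etale h := hR
    have : IsIso h₀ := h0
    exact isIso_of_thick_etale s

theorem finLocFree_of_thick (hX : IsAlgSpace X) (hX' : IsAlgSpace X') (hY : IsAlgSpace Y) (hY' : IsAlgSpace Y')
    (sq : IsPullback iX f f' iY) (hi : IsThickMor iY) (D : ThickChart iX iY f f')
    (hfl : LocP @Flat f → LocP @Flat f')
    (hfp : LocP @LocallyOfFinitePresentation f → LocP @LocallyOfFinitePresentation f')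
    {P : MorphismProperty Scheme.{u}} (hP : P ≤ finLocFree) (hf : RepWith P f) :
    RepWith finLocFree f' ∧ ∀ d, P = finLocFreeOfDeg d → RepWith (finLocFreeOfDeg d) f' := by
  have hf' := RepWith.mono hP hf
  have h1 := hfl (locP_of_repWith etLocal_flat hX (RepWith.mono (fun _ _ g (h : finLocFree g) => h.2.1) hf'))
  have h2 := hfp (locP_of_repWith etLocal_lfp hX (RepWith.mono (fun _ _ g (h : finLocFree g) => h.2.2) hf'))
  have h3 : LocP (@LocallyQuasiFinite ⊓ @LocallyOfFiniteType) f' := by
    refine (D.lqf_iff hX hX' fun _ => locP_mono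
      (fun _ _ g (_ : LocallyOfFinitePresentation g) => (inferInstance : LocallyOfFiniteType g)) h2).1 ?_
    refine locP_of_repWith etLocal_lqf hX (RepWith.mono (fun _ _ g (h : finLocFree g) => ?_) hf')
    have : IsFinite g := h.1
    exact ⟨inferInstance, inferInstance⟩
  have hsep : IsSeparatedMor f := (repWith_diagonal_iff hf'.1).2 (RepWith.mono (fun _ _ g (h : finLocFree g) => by
    have : IsFinite g := h.1
    exact (inferInstance : IsClosedImmersion (pullback.diagonal g))) hf')
  have hsep' := isSeparatedMor_of_thick hX' sq hi hsep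
  have hr : Representable f' := representable_of_lqf_separated' hX' hY' f' hsep' h3
  have hR := RepWith.and (RepWith.and ((repWith_iff_locP etLocal_flat hX' hY' hr).2 h1)
    ((repWith_iff_locP etLocal_lfp hX' hY' hr).2 h2)) ((repWith_diagonal_iff hr).1 hsep')
  have fin : ∀ ⦃U V U₀ V₀ : Scheme.{u}⦄ (jU : U₀ ⟶ U) (h₀ : U₀ ⟶ V₀) (h : U ⟶ V) (jV : V₀ ⟶ V),
      IsPullback jU h₀ h jV → IsClosedImmersion jV → Surjective jV →
      ((@Flat ⊓ @LocallyOfFinitePresentation) ⊓ MorphismProperty.diagonal @IsClosedImmersion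
        : MorphismProperty Scheme.{u}) h → finLocFree h₀ → finLocFree h := by
    intro U V U₀ V₀ jU h₀ h jV s _ _ hh h0
    have : LocallyOfFinitePresentation h := hh.1.2
    have : IsSeparated h := ⟨hh.2⟩
    have : IsFinite h₀ := h0.1
    exact ⟨isFinite_of_thick s, hh.1.1, hh.1.2⟩
  refine ⟨repWith_of_thick sq hi hR hf' fin, fun d e => ?_⟩
  subst e
  refine repWith_of_thick sq hi hR hf fun U V U₀ V₀ jU h₀ h jV s h4 h5 hR h0 => ?_
  have hfl := fin jU h₀ h jV s h4 h5 hR h0.1
  refine ⟨hfl, fun v => ?_⟩
  obtain ⟨v₀, rfl⟩ := jV.surjective v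
  have : IsFinite h := hfl.1
  have : Flat h := hfl.2.1
  rw [← Scheme.Hom.finrank_of_isPullback _ _ _ _ s]
  exact h0.2 v₀

end Groth.Agent.AlgSpLib
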