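import Groth.Agent.AlgSpLib.DecentPoints
import Groth.Agent.AlgSpLib.MorSep
import Groth.Prelude.Def_W4decUnivBdd
import Groth.Prelude.Def_AlgSpCov

/-!
Permanence of decency; finite fibres of charts.
-/

universe u

open CategoryTheory CategoryTheory.Limits AlgebraicGeometry Opposite
open AlgSp

noncomputable section

namespace Groth.Agent.AlgSpLib

set_option backward.isDefEq.respectTransparency.types false

variable {S : Scheme.{u}} {X : Sp S}

theorem quasiCompact_of_field {k : Type u} [Field k] {T : Scheme.{u}} (f : Spec (CommRingCat.of k) ⟶ T) :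
    QuasiCompact f :=
  quasiCompact_iff_forall_isAffineOpen.2 fun _ _ =>
    (Set.toFinite (α := ↥(Spec (CommRingCat.of k))) _).isCompact

theorem repWith_qc_field_map {k : Type u} [Field k] {str : Spec (CommRingCat.of k) ⟶ S} {T : Over S}
    (i : Over.mk str ⟶ T) : RepWith @QuasiCompact ((yon S).map i) :=
  (repWith_yon_map_iff (P := @QuasiCompact) i).2 (quasiCompact_of_field (k := k) i.left)

/-- schemes are decent -/
theorem isDecent_yon (T : Over S) : IsDecent ((yon S).obj T) := by
  intro x
  obtain ⟨w, rfl⟩ := (Points.schemeEquiv T).surjective x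
  let k : Type u := T.left.residueField w
  let str : Spec (CommRingCat.of k) ⟶ S := T.left.fromSpecResidueField w ≫ T.hom
  let i : Over.mk str ⟶ T := Over.homMk (T.left.fromSpecResidueField w) rfl
  have : Mono i.left := inferInstanceAs (Mono (T.left.fromSpecResidueField w))
  have : Mono i := (Over.forget S).mono_of_mono_map this
  have : Mono ((yon S).map i) := inferInstance
  obtain ⟨r, hr, hrm⟩ := exists_fieldPt ((yon S).map i) (repWith_qc_field_map i)
  refine ⟨r, hr.trans ?_, hrm⟩
  rw [← Category.comp_id ((yon S).map i), ptOfHom_yon_map]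
  exact congrArg (Points.ofScheme T) (Scheme.fromSpecResidueField_apply w _)

/-- decency is Zariski local -/
theorem isDecent_of_zarCover (hX : IsAlgSpace X) {ι : Type u} (Xi : ι → Sp S) (j : ∀ i, Xi i ⟶ X)
    (hXi : ∀ i, IsAlgSpace (Xi i)) (hj : IsZarCover Xi j) (hd : ∀ i, IsDecent (Xi i)) : IsDecent X := by
  intro x
  obtain ⟨i, x₀, rfl⟩ := hj.2 x
  obtain ⟨p, rfl, hm, hq⟩ := hd i x₀
  have hjm : ∀ i, Mono (j i) := fun i => mono_of_repWith (P := @IsOpenImmersion) (fun _ _ f (h : IsOpenImmersion f) => (inferInstance : Mono f)) (hj.1 i)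
  have := hjm i
  have : Mono (p.toHom ≫ j i) := mono_comp _ _
  have hje : ∀ l, RepWith @Etale (j l) := fun l => RepWith.mono (fun _ _ f (h : IsOpenImmersion f) => (inferInstance : Etale f)) (hj.1 l)
  have e : Points.map (j i) (Points.mk p) = ptOfHom (p.toHom ≫ j i) := by
    rw [← ptOfHom_toHom p, map_ptOfHom]
  rw [e]
  refine exists_qc_of _ (repWith_quasiCompact_of_finiteFibres hX _ ?_)
  rw [← e]
  choose U a ha has using fun l => (hXi l).atlas
  let κ := Σ l, {O : (U l).left.Opens // IsAffineOpen O}
  let W : κ → Over S := fun c => Over.mk (c.2.1.ι ≫ (U c.1).hom)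
  let φ : ∀ c : κ, (yon S).obj (W c) ⟶ X := fun c =>
    ((yon S).map (Over.homMk c.2.1.ι : W c ⟶ U c.1) ≫ a c.1) ≫ j c.1
  have hφ₀ : ∀ c : κ, RepWith @Etale ((yon S).map (Over.homMk c.2.1.ι : W c ⟶ U c.1) ≫ a c.1) := fun c =>
    RepWith.comp ((repWith_yon_map_iff (P := @Etale) _).2 (inferInstanceAs (Etale c.2.1.ι))) (ha c.1)
  refine finiteFibres_of_cover W φ (fun c => RepWith.comp (hφ₀ c) (hje c.1)) (fun y => ?_) fun c => ?_
  · obtain ⟨l, y₀, rfl⟩ := hj.2 y
    obtain ⟨u, rfl⟩ := surjective_ofPt (a l) (has l) y₀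
    obtain ⟨O, hO, huO, -⟩ := exists_isAffineOpen_mem_and_subset (x := u) (U := ⊤) trivial
    refine ⟨⟨l, O, hO⟩, (⟨u, huO⟩ : O), ?_⟩
    show Points.ofPt (_ ≫ j l) _ = _
    rw [← Points.map_ofPt]
    exact congrArg _ (ofPt_map _ (a l) _)
  · have hinj : Function.Injective (Points.map (j c.1)) := have := hjm c.1; injective_map_of_mono _
    by_cases h : Points.map (j i) (Points.mk p) ∈ Set.range (Points.map (j c.1))
    · obtain ⟨z, hz⟩ := h
      have : IsAffine (W c).left := c.2.2
      refine ((FiniteFibres.of_mk (hd c.1 z)).2 (W c) _ this (hφ₀ c)).subset fun w hw => hinj ?_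
      rw [Points.map_ofPt]
      exact (Set.mem_singleton_iff.1 hw).trans hz.symm
    · refine Set.finite_empty.subset fun w hw => h ⟨_, (Points.map_ofPt _ _ w).trans hw⟩
where
  exists_qc_of {K : Type u} [Field K] {str : Spec (CommRingCat.of K) ⟶ S}
      (g : (yon S).obj (Over.mk str) ⟶ X) [Mono g] (hg : RepWith @QuasiCompact g) :
      ∃ p : FieldPt X, Points.mk p = ptOfHom g ∧ Mono p.toHom ∧ RepWith @QuasiCompact p.toHom :=
    exists_fieldPt g hg

/-- a morphism is decent when its base changes to affine schemes are -/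
theorem isDecentMor_of_affine {Y : Sp S} (hX : IsAlgSpace X) (hY : IsAlgSpace Y) (f : X ⟶ Y)
    (h : ∀ (Z : Over S) (g : (yon S).obj Z ⟶ Y) (P : Sp S) (fst : P ⟶ X) (snd : P ⟶ (yon S).obj Z),
      IsAffine Z.left → IsPullback fst snd f g → IsDecent P) : IsDecentMor f := by
  intro T P g fst snd sq
  have hP := isAlgSpace_of_isPullback hY.diag hX (IsAlgSpace.yon_obj T) sq
  let ι := {O : T.left.Opens // IsAffineOpen O}
  let Z : ι → Over S := fun O => Over.mk (O.1.ι ≫ T.hom)
  let e : ∀ O, Z O ⟶ T := fun O => Over.homMk O.1.ι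
  have he : ∀ O : ι, RepWith @IsOpenImmersion ((yon S).map (e O)) := fun O =>
    (repWith_yon_map_iff (P := @IsOpenImmersion) (e O)).2 (inferInstanceAs (IsOpenImmersion O.1.ι))
  have sqO := fun O => IsPullback.of_hasPullback snd ((yon S).map (e O))
  refine isDecent_of_zarCover hP (fun O => pullback snd ((yon S).map (e O))) (fun O => pullback.fst _ _)
    (fun O => isAlgSpace_of_isPullback (IsAlgSpace.yon_obj T).diag hP (IsAlgSpace.yon_obj _) (sqO O))
    ⟨fun O => RepWith.baseChange (sqO O).flip (he O), fun x => ?_⟩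
    fun O => h (Z O) _ _ _ _ O.2 ((sqO O).paste_horiz sq)
  obtain ⟨t, ht⟩ := (Points.schemeEquiv T).surjective (Points.map snd x)
  obtain ⟨O, hO, htO, -⟩ := exists_isAffineOpen_mem_and_subset (x := t) (U := ⊤) trivial
  obtain ⟨z, hz, -⟩ := exists_point_of_isPullback (sqO ⟨O, hO⟩) (x := x)
    (y := Points.ofScheme _ (⟨t, htO⟩ : O)) (by
      rw [← ht, map_yon_map_ofScheme]; rfl)
  exact ⟨⟨O, hO⟩, z, hz⟩

/-- representable morphisms and quasi-separated morphisms are decent -/
theorem isDecentMor_of_representable {Y : Sp S} {f : X ⟶ Y} (hf : Representable f) : IsDecentMor f :=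
  fun T _ _ _ _ sq => isDecent_of_representable'
    (MorphismProperty.of_isPullback (P := (yon S).relativelyRepresentable) sq hf) (isDecent_yon T)

theorem isDecentMor_of_isQuasiSeparatedMor {Y : Sp S} (hX : IsAlgSpace X) (hY : IsAlgSpace Y) {f : X ⟶ Y}
    (hf : IsQuasiSeparatedMor f) : IsDecentMor f := by
  refine isDecentMor_of_affine hX hY f fun Z g P fst snd hZ sq => ?_
  obtain ⟨q, -⟩ := exists_to_base ((yon S).obj Z)
  have : QuasiSeparated Z.hom := inferInstance
  refine isDecent_of_qsep (isAlgSpace_of_isPullback hY.diag hX (IsAlgSpace.yon_obj Z) sq)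
    ((isQuasiSeparatedMor_iff_sp (snd ≫ q)).1
      (isQuasiSeparatedMor_comp (isQuasiSeparatedMor_of_isPullback sq hf) ?_))
  obtain ⟨c, rfl⟩ := (yon S).map_surjective q
  exact (isQuasiSeparatedMor_yon_map_iff c).2 inferInstance

/-- monomorphic points ascend along representable morphisms -/
theorem exists_mono_point_of_representable {Y : Sp S} {f : X ⟶ Y} (hf : Representable f)
    (x : Points X) (hy : ∃ p : FieldPt Y, Points.mk p = Points.map f x ∧ Mono p.toHom) :
    ∃ p : FieldPt X, Points.mk p = x ∧ Mono p.toHom := by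
  obtain ⟨p, hp, hm⟩ := hy
  have sq := hf.isPullback p.toHom
  let Z := hf.pullback p.toHom
  let q := hf.fst p.toHom
  have : Mono q := MorphismProperty.of_isPullback (P := MorphismProperty.monomorphisms _) sq.flip
    (MorphismProperty.monomorphisms.infer_property p.toHom)
  obtain ⟨z, hz, -⟩ := exists_point_of_isPullback sq (x := x) (y := ptOfHom (𝟙 _))
    (by rw [map_eq_ptOfHom, ptOfHom_toHom]; exact hp.symm)
  obtain ⟨w, rfl⟩ := (Points.schemeEquiv Z).surjective z
  let k : Type u := Z.left.residueField w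
  let str : Spec (CommRingCat.of k) ⟶ S := Z.left.fromSpecResidueField w ≫ Z.hom
  let i : Over.mk str ⟶ Z := Over.homMk (Z.left.fromSpecResidueField w) rfl
  have : Mono i.left := inferInstanceAs (Mono (Z.left.fromSpecResidueField w))
  have : Mono i := (Over.forget S).mono_of_mono_map this
  have : Mono ((yon S).map i) := inferInstance
  refine ⟨⟨k, str, (AlgSp.J S).uliftYonedaEquiv ((yon S).map i ≫ q)⟩, .trans (.trans ?_ rfl) hz, ?_⟩
  · show ptOfHom _ = _
    rw [ptOfHom_yon_map]
    show Points.ofPt q _ = Points.map q (Points.ofScheme Z w)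
    rw [← Points.ofPt_eq_map_ofScheme]
    exact congrArg _ (Scheme.fromSpecResidueField_apply w _)
  · rw [show (FieldPt.toHom ⟨k, str, (AlgSp.J S).uliftYonedaEquiv ((yon S).map i ≫ q)⟩ : _ ⟶ X) =
      (yon S).map i ≫ q from Equiv.symm_apply_apply _ _]
    exact @mono_comp _ _ _ _ _ _ ‹_› _ ‹Mono q›

/-- field points over a quasi-compact monomorphic one are quasi-compact -/
theorem repWith_qc_of_mono_point {k k' : Type u} [Field k] [Field k'] {str : Spec (CommRingCat.of k) ⟶ S}
    {str' : Spec (CommRingCat.of k') ⟶ S} (p : (yon S).obj (Over.mk str) ⟶ X) [Mono p]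
    (hp : RepWith @QuasiCompact p) (q : (yon S).obj (Over.mk str') ⟶ X) (h : ptOfHom q = ptOfHom p) :
    RepWith @QuasiCompact q := by
  have sq := hp.1.isPullback q
  let Z := hp.1.pullback q
  let c := hp.1.snd q
  have : Mono ((yon S).map c) :=
    MorphismProperty.of_isPullback (P := MorphismProperty.monomorphisms _) sq
      (MorphismProperty.monomorphisms.infer_property p)
  have : Mono c := (yon S).mono_of_mono_map this
  have : Mono c.left := inferInstance
  have : DiscreteTopology ↥(Over.mk str').left :=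
    inferInstanceAs (DiscreteTopology ↥(Spec (CommRingCat.of k')))
  have : IsReduced (Over.mk str').left := inferInstanceAs (IsReduced (Spec (CommRingCat.of k')))
  have : Subsingleton ↥(Over.mk str').left := inferInstanceAs (Subsingleton ↥(Spec (CommRingCat.of k')))
  have := SchMor12.isOpenImmersion_of_mono_of_discrete c.left
  obtain ⟨z, -, -⟩ := exists_point_of_isPullback sq (x := ptOfHom (𝟙 _)) (y := ptOfHom (𝟙 _))
    (by rw [map_eq_ptOfHom, map_eq_ptOfHom]; exact h.symm)
  obtain ⟨w, -⟩ := (Points.schemeEquiv Z).surjective z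
  have : IsIso c.left := (isIso_iff_isOpenImmersion_and_epi_base _).2
    ⟨inferInstance, (TopCat.epi_iff_surjective _).2 fun _ => ⟨w, Subsingleton.elim _ _⟩⟩
  have : IsIso c := (have : IsIso ((Over.forget S).map c) := ‹IsIso c.left›; isIso_of_reflects_iso c (Over.forget S))
  obtain ⟨i, hi⟩ := (yon S).map_surjective ((yon S).map (inv c) ≫ hp.1.fst q)
  have e : q = (yon S).map i ≫ p := by
    rw [hi, Category.assoc, sq.w, ← Category.assoc, ← Functor.map_comp, IsIso.inv_hom_id]
    erw [(yon S).map_id, Category.id_comp]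
  rw [e]
  exact RepWith.comp (repWith_qc_field_map i) hp

/-- decency of a morphism descends along etale surjections of the target -/
theorem isDecentMor_of_etale_cover {Y : Sp S} (hX : IsAlgSpace X) (hY : IsAlgSpace Y) {f : X ⟶ Y}
    {V : Over S} {p : (yon S).obj V ⟶ Y} (hp : RepWith @Etale p) (hps : RepWith @Surjective p)
    {X' : Sp S} {fst : X' ⟶ X} {snd : X' ⟶ (yon S).obj V} (hsq : IsPullback fst snd f p)
    (h : IsDecentMor snd) : IsDecentMor f := by
  refine isDecentMor_of_affine hX hY f fun Z g P a b hZ sq => ?_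
  have sqW := hp.1.isPullback g
  let W := hp.1.pullback g
  let c := hp.1.snd g
  have : Etale c.left := hp.property_snd g
  have : Surjective c.left := hps.property_snd g
  have : CompactSpace ↥Z.left := inferInstance
  obtain ⟨O : W.left.Opens, hO, e⟩ := c.left.isOpenMap.exists_opens_image_eq_of_prespectralSpace
    c.left.continuous (by simp [c.left.surjective.range_eq]) isOpen_univ isCompact_univ
  let W₀ : Over S := Over.mk (O.ι ≫ W.hom)
  let j : W₀ ⟶ W := Over.homMk O.ι
  have : CompactSpace ↥W₀.left := isCompact_iff_compactSpace.mp hO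
  have : QuasiCompact (j ≫ c).left := quasiCompact_of_compactSpace _
  have : Surjective (j ≫ c).left := ⟨fun z => by
    obtain ⟨w, hw, rfl⟩ : z ∈ c.left '' O := by rw [e]; trivial
    exact ⟨(⟨w, hw⟩ : O), rfl⟩⟩
  have sq₀ := IsPullback.of_hasPullback b ((yon S).map (j ≫ c))
  have hP := isAlgSpace_of_isPullback hY.diag hX (IsAlgSpace.yon_obj Z) sq
  let P₀ := pullback b ((yon S).map (j ≫ c))
  have hP₀ : IsAlgSpace P₀ :=
    isAlgSpace_of_isPullback (IsAlgSpace.yon_obj Z).diag hP (IsAlgSpace.yon_obj W₀) sq₀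
  have hc : RepWith @QuasiCompact (pullback.fst b ((yon S).map (j ≫ c))) :=
    RepWith.baseChange sq₀.flip ((repWith_yon_map_iff (P := @QuasiCompact) _).2 inferInstance)
  refine isDecent_of_qc_surjective hP₀ hP ((repWith_quasiCompact_iff hP₀ hP hc.1).1 hc)
    (surjective_map_of_repWith (RepWith.baseChange sq₀.flip
      ((repWith_yon_map_iff (P := @Surjective) _).2 inferInstance))) ?_
  let v : (yon S).obj W₀ ⟶ (yon S).obj V := (yon S).map j ≫ hp.1.fst g
  have w0 : (pullback.fst b ((yon S).map (j ≫ c)) ≫ a) ≫ f =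
      (pullback.snd b ((yon S).map (j ≫ c)) ≫ v) ≫ p := by
    simp only [v, Category.assoc, sq.w, sqW.w]
    rw [← Category.assoc ((yon S).map j), ← Functor.map_comp, ← Category.assoc, ← Category.assoc, sq₀.w]
  refine h v (hsq.lift _ _ w0) (pullback.snd b _) ?_
  refine IsPullback.of_right ?_ (hsq.lift_snd _ _ w0) hsq
  rw [hsq.lift_fst]
  have e2 : v ≫ p = (yon S).map (j ≫ c) ≫ g := by
    simp only [v, Category.assoc, sqW.w, Functor.map_comp]; rfl
  rw [e2]
  exact sq₀.paste_horiz sq

/-- fibre products of decent spaces are decent -/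
theorem isDecent_of_isPullback {Y Z P : Sp S} (hY : IsAlgSpace Y) {f : X ⟶ Y} {g : Z ⟶ Y} {a : P ⟶ X}
    {b : P ⟶ Z} (sq : IsPullback a b f g) (hX : IsDecent X) (hZ : IsDecent Z) : IsDecent P := by
  intro w
  obtain ⟨p, hp, hm, hq⟩ := hX (Points.map a w)
  obtain ⟨r, hr, hrm, hrq⟩ := hZ (Points.map b w)
  have sqA := IsPullback.of_hasPullback a p.toHom
  let A := pullback a p.toHom
  have hA1 : RepWith @QuasiCompact (pullback.fst a p.toHom) := RepWith.baseChange sqA.flip hq
  have hA1m : Mono (pullback.fst a p.toHom) := inferInstance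
  have sqB := IsPullback.of_hasPullback (pullback.fst a p.toHom ≫ b) r.toHom
  let B := pullback (pullback.fst a p.toHom ≫ b) r.toHom
  let i : B ⟶ P := pullback.fst (pullback.fst a p.toHom ≫ b) r.toHom ≫ pullback.fst a p.toHom
  have hi : RepWith @QuasiCompact i := RepWith.comp (RepWith.baseChange sqB.flip hrq) hA1
  have : Mono i := mono_comp _ _
  have sqB' : IsPullback (pullback.fst (pullback.fst a p.toHom ≫ b) r.toHom ≫ pullback.snd a p.toHom)
      (pullback.snd _ _) (p.toHom ≫ f) (r.toHom ≫ g) :=
    sqB.paste_horiz (sqA.flip.paste_vert sq)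
  obtain ⟨T, ⟨e⟩⟩ : ∃ T : Over S, Nonempty (B ≅ (yon S).obj T) :=
    ⟨_, ⟨IsPullback.isoIsPullback _ _ sqB'
      ((representable_diag_iff.1 hY.diag (p.toHom ≫ f)).isPullback (r.toHom ≫ g))⟩⟩
  obtain ⟨z₁, hz₁, -⟩ := exists_point_of_isPullback sqA (x := w) (y := ptOfHom (𝟙 _))
    (by rw [map_eq_ptOfHom, ptOfHom_toHom]; exact hp.symm)
  obtain ⟨z, hz, -⟩ := exists_point_of_isPullback sqB (x := z₁) (y := ptOfHom (𝟙 _))
    (by rw [map_eq_ptOfHom, ptOfHom_toHom, Points.map_comp, hz₁]; exact hr.symm)
  obtain ⟨s, hs, hsm, hsq⟩ := isDecent_yon T (Points.map e.hom z)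
  have : Mono (s.toHom ≫ e.inv ≫ i) := mono_comp _ _
  obtain ⟨t, ht, htm⟩ := exists_fieldPt (s.toHom ≫ e.inv ≫ i)
    (RepWith.comp hsq (RepWith.comp (repWith_of_isIso @QuasiCompact e.inv) hi))
  refine ⟨t, ht.trans ?_, htm⟩
  rw [← map_ptOfHom, ptOfHom_toHom, hs, ← Points.map_comp, e.hom_inv_id_assoc, Points.map_comp, hz, hz₁]

/-- finite fibres in every affine chart of a space with universally bounded fibres -/
theorem isDecent_of_univBdd (hX : IsAlgSpace X)
    (h : ∀ (U : Over S) (φ : (yon S).obj U ⟶ X), IsAffine U.left → RepWith @Etale φ →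
      W4dec.HasUnivBddFibres φ) : IsDecent X := by
  intro x
  obtain ⟨q, rfl⟩ := Points.mk_surjective x
  have hr := representable_diag_iff.1 hX.diag q.toHom
  have hT : ∀ (U : Over S) (φ : (yon S).obj U ⟶ X), IsAffine U.left → RepWith @Etale φ →
      CompactSpace ↥(hr.pullback φ).left := fun U φ hU hφ => by
    obtain ⟨c, hc⟩ := (yon S).map_surjective (hr.fst φ)
    obtain ⟨n, hn⟩ := h U φ hU hφ
    have : IsFinite c.left := (hn q _ c _ (hc ▸ hr.isPullback φ)).1
    have : CompactSpace ↥q.pt.left := inferInstanceAs (CompactSpace ↥(Spec (CommRingCat.of q.K)))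
    exact QuasiCompact.compactSpace_of_compactSpace c.left
  refine exists_qc_mono_point hX _ (fun U φ hU hφ => ?_) fun U R a s t hU ha sqR => ?_
  · obtain ⟨c, hc⟩ := (yon S).map_surjective (hr.fst φ)
    obtain ⟨n, hn⟩ := h U φ hU hφ
    have sq : IsPullback ((yon S).map c) ((yon S).map (hr.snd φ)) q.toHom φ := hc ▸ hr.isPullback φ
    have : IsFinite c.left := (hn q _ c _ sq).1
    have : Finite ↥(hr.pullback φ).left := by
      refine Set.finite_univ_iff.1 ?_
      rcases isEmpty_or_nonempty ↥(hr.pullback φ).left with h | ⟨⟨z⟩⟩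
      · exact Set.toFinite _
      · have : Subsingleton ↥q.pt.left := inferInstanceAs (Subsingleton ↥(Spec (CommRingCat.of q.K)))
        exact (c.left.finite_preimage_singleton (c.left z)).subset fun w _ => Subsingleton.elim _ _
    refine (Set.finite_range (hr.snd φ).left).subset fun v hv => ?_
    obtain ⟨z, -, hz⟩ := exists_point_of_isPullback sq (x := ptOfHom (𝟙 _)) (y := Points.ofScheme U v)
      (by rw [map_eq_ptOfHom, ptOfHom_toHom, ← Points.ofPt_eq_map_ofScheme]; exact hv.symm)
    obtain ⟨w, rfl⟩ := (Points.schemeEquiv _).surjective z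
    exact ⟨w, (Points.schemeEquiv U).injective ((map_yon_map_ofScheme (hr.snd φ) w).symm.trans hz)⟩
  · have := hT U a hU ha
    rw [← ptOfHom_toHom q]
    exact finite_arrows_of_compact q.toHom hr a ha sqR

/-- finitely many points of a fibre product lie over a given pair of points, for an etale leg -/
theorem finite_pairs_of_etale {P A B C : Scheme.{u}} {fst : P ⟶ A} {snd : P ⟶ B} {f : A ⟶ C} {g : B ⟶ C}
    (sq : IsPullback fst snd f g) [Etale g] (a : A) (b : B) : {z : P | fst z = a ∧ snd z = b}.Finite := by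
  by_cases h : {z : P | fst z = a ∧ snd z = b}.Nonempty
  swap
  · rw [Set.not_nonempty_iff_eq_empty.1 h]; exact Set.finite_empty
  obtain ⟨z₀, ha, hb⟩ := h
  have hab : f a = g b := by
    rw [← ha, ← hb]; exact congrArg (fun φ : P ⟶ C => φ z₀) sq.w
  obtain ⟨O, hO, hgO, -⟩ := exists_isAffineOpen_mem_and_subset (x := g b) (U := ⊤) trivial
  obtain ⟨A', hA', haA, hAO⟩ :=
    exists_isAffineOpen_mem_and_subset (x := a) (U := f ⁻¹ᵁ O) (show f a ∈ O by rw [hab]; exact hgO)
  obtain ⟨B', hB', hbB, hBO⟩ := exists_isAffineOpen_mem_and_subset (x := b) (U := g ⁻¹ᵁ O) hgO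
  have : IsAffine O.toScheme := hO
  have : IsAffine A'.toScheme := hA'
  have : IsAffine B'.toScheme := hB'
  let f' := f.resLE O A' hAO
  let g' := g.resLE O B' hBO
  let m := pullback.map f' g' f g A'.ι B'.ι O.ι (Scheme.Hom.resLE_comp_ι _ _) (Scheme.Hom.resLE_comp_ι _ _)
  let π := pullback.fst f' g'
  have := locallyQuasiFinite_of_etale π
  have hfin : (π ⁻¹' {(⟨a, haA⟩ : A')}).Finite := π.finite_preimage_singleton _
  refine ((hfin.image (fun w => sq.isoPullback.inv (m w)))).subset fun z hz => ?_
  obtain ⟨w, hw⟩ : sq.isoPullback.hom z ∈ Set.range m := by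
    rw [Scheme.Pullback.range_map]
    refine ⟨?_, ?_⟩
    · show (sq.isoPullback.hom ≫ pullback.fst f g) z ∈ Set.range A'.ι
      rw [sq.isoPullback_hom_fst, Scheme.Opens.range_ι, hz.1]; exact haA
    · show (sq.isoPullback.hom ≫ pullback.snd f g) z ∈ Set.range B'.ι
      rw [sq.isoPullback_hom_snd, Scheme.Opens.range_ι, hz.2]; exact hbB
  refine ⟨w, A'.ι.isOpenEmbedding.injective ?_, ?_⟩
  · show (π ≫ A'.ι) w = a
    rw [show π ≫ A'.ι = m ≫ pullback.fst f g from (pullback.lift_fst _ _ _).symm, Scheme.Hom.comp_apply, hw]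
    show (sq.isoPullback.hom ≫ pullback.fst f g) z = a
    rw [sq.isoPullback_hom_fst]; exact hz.1
  · show sq.isoPullback.inv (m w) = z
    rw [hw, ← Scheme.Hom.comp_apply, Iso.hom_inv_id]; rfl

/-- a monomorphic point has finitely many arrows over each pair of its preimages -/
theorem finite_relation_fibre (hX : IsAlgSpace X) {k : Type u} [Field k] {str : Spec (CommRingCat.of k) ⟶ S}
    (p : (yon S).obj (Over.mk str) ⟶ X) [Mono p] {U R : Over S} (a : (yon S).obj U ⟶ X)
    (ha : RepWith @Etale a) {s t : R ⟶ U} (sqR : IsPullback ((yon S).map t) ((yon S).map s) a a)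
    (u u' : ↥U.left) (hu' : Points.ofPt a u' = ptOfHom p) :
    {r : ↥R.left | s.left r = u ∧ t.left r = u'}.Finite := by
  have hr := representable_diag_iff.1 hX.diag p
  obtain ⟨c, hc⟩ := (yon S).map_surjective (hr.fst a)
  have sq : IsPullback ((yon S).map c) ((yon S).map (hr.snd a)) p a := hc ▸ hr.isPullback a
  have : Etale c.left := (repWith_yon_map_iff @Etale c).1 (RepWith.baseChange sq.flip ha)
  have hm : Mono (hr.snd a).left := by
    have : Mono ((yon S).map (hr.snd a)) :=
      MorphismProperty.of_isPullback (P := MorphismProperty.monomorphisms _) sq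
        (MorphismProperty.monomorphisms.infer_property p)
    have : Mono (hr.snd a) := (yon S).mono_of_mono_map this
    exact inferInstanceAs (Mono (hr.snd a).left)
  let Q := pullback c c
  have sqQ := (IsPullback.of_hasPullback c c).map (Over.forget S)
  obtain ⟨n, hn⟩ := (yon S).map_surjective (sqR.lift ((yon S).map (pullback.fst c c ≫ hr.snd a))
    ((yon S).map (pullback.snd c c ≫ hr.snd a)) (by
      rw [Functor.map_comp, Category.assoc, ← sq.w, Functor.map_comp, Category.assoc, ← sq.w,
        ← Category.assoc, ← Functor.map_comp, pullback.condition, Functor.map_comp, Category.assoc]))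
  have hinj : Function.Injective (hr.snd a).left := (hr.snd a).left.injective
  have hfin : {q : ↥Q.left | (hr.snd a).left ((pullback.fst c c).left q) = u' ∧
      (hr.snd a).left ((pullback.snd c c).left q) = u}.Finite := by
    by_cases h : {q : ↥Q.left | (hr.snd a).left ((pullback.fst c c).left q) = u' ∧
        (hr.snd a).left ((pullback.snd c c).left q) = u}.Nonempty
    swap
    · rw [Set.not_nonempty_iff_eq_empty.1 h]; exact Set.finite_empty
    obtain ⟨q₀, h1, h2⟩ := h
    exact (finite_pairs_of_etale (g := c.left) sqQ ((pullback.fst c c).left q₀)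
      ((pullback.snd c c).left q₀)).subset fun q hq =>
        ⟨hinj (hq.1.trans h1.symm), hinj (hq.2.trans h2.symm)⟩
  refine (hfin.image n.left).subset fun r hr' => ?_
  have sqZ := hr.isPullback ((yon S).map t ≫ a)
  have hpt : Points.map p (ptOfHom (𝟙 _)) =
      Points.map ((yon S).map t ≫ a) (Points.ofScheme R r) := by
    rw [← Points.ofPt_eq_map_ofScheme, map_eq_ptOfHom, ofPt_map, hr'.2, hu']
  obtain ⟨z, -, hz⟩ := exists_point_of_isPullback sqZ hpt
  obtain ⟨w, rfl⟩ := (Points.schemeEquiv (hr.pullback ((yon S).map t ≫ a))).surjective z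
  let rz := hr.snd ((yon S).map t ≫ a)
  have hz' : rz.left w = r :=
    (Points.schemeEquiv R).injective ((map_yon_map_ofScheme rz w).symm.trans hz)
  obtain ⟨e, he⟩ := (yon S).map_surjective (hr.fst ((yon S).map t ≫ a))
  have wZ : (yon S).map e ≫ p = (yon S).map rz ≫ (yon S).map t ≫ a := by rw [he]; exact sqZ.w
  obtain ⟨l₁, hl₁⟩ := (yon S).map_surjective (sq.lift ((yon S).map e) ((yon S).map (rz ≫ t))
    (by rw [wZ, Functor.map_comp, Category.assoc]))
  obtain ⟨l₂, hl₂⟩ := (yon S).map_surjective (sq.lift ((yon S).map e) ((yon S).map (rz ≫ s))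
    (by rw [wZ, Functor.map_comp, Category.assoc]; exact congrArg (_ ≫ ·) sqR.w))
  have h1 : l₁ ≫ c = e ∧ l₁ ≫ hr.snd a = rz ≫ t :=
    ⟨(yon S).map_injective (by rw [Functor.map_comp, hl₁, sq.lift_fst]),
      (yon S).map_injective (by rw [Functor.map_comp, hl₁, sq.lift_snd])⟩
  have h2 : l₂ ≫ c = e ∧ l₂ ≫ hr.snd a = rz ≫ s :=
    ⟨(yon S).map_injective (by rw [Functor.map_comp, hl₂, sq.lift_fst]),
      (yon S).map_injective (by rw [Functor.map_comp, hl₂, sq.lift_snd])⟩
  let m : hr.pullback ((yon S).map t ≫ a) ⟶ Q := pullback.lift l₁ l₂ (h1.1.trans h2.1.symm)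
  have hmn : m ≫ n = rz := by
    refine (yon S).map_injective (sqR.hom_ext ?_ ?_)
    · rw [Functor.map_comp, Category.assoc, hn, sqR.lift_fst, ← Functor.map_comp, ← Category.assoc,
        pullback.lift_fst, h1.2, Functor.map_comp]
    · rw [Functor.map_comp, Category.assoc, hn, sqR.lift_snd, ← Functor.map_comp, ← Category.assoc,
        pullback.lift_snd, h2.2, Functor.map_comp]
  refine ⟨m.left w, ⟨?_, ?_⟩, by rw [← hz', ← hmn]; rfl⟩
  · show (m ≫ pullback.fst c c ≫ hr.snd a).left w = u'
    rw [← Category.assoc, pullback.lift_fst, h1.2]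
    show t.left (rz.left w) = u'
    rw [hz']; exact hr'.2
  · show (m ≫ pullback.snd c c ≫ hr.snd a).left w = u
    rw [← Category.assoc, pullback.lift_snd, h2.2]
    show s.left (rz.left w) = u
    rw [hz']; exact hr'.1

/-- finite etale monomorphic arrows over a field -/
theorem etale_finite_of_mono_finite {T : Over S} {k : Type u} [Field k]
    (eT : T.left = Spec (CommRingCat.of k)) {G R : Over S} (e : G ⟶ T) [Etale e.left]
    (m : R ⟶ G) [Mono m] [Finite ↥R.left] {s : R ⟶ T} (h : m ≫ e = s) :
    Etale s.left ∧ IsFinite s.left := by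
  have : IsReduced T.left := by rw [eT]; infer_instance
  have : Subsingleton ↥T.left := by rw [eT]; infer_instance
  have : IsAffine T.left := by rw [eT]; infer_instance
  have : IsLocallyArtinian T.left := by rw [eT]; infer_instance
  have : IsReduced G.left := isReduced_of_etale' e.left
  have := locallyQuasiFinite_of_etale e.left
  have : DiscreteTopology ↥G.left := by
    refine discreteTopology_iff_isOpen_singleton.2 fun w => ?_
    have h := e.left.isDiscrete_preimage_singleton (e.left w)
    rw [show e.left ⁻¹' {e.left w} = Set.univ from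
      Set.eq_univ_of_forall fun v => Subsingleton.elim _ _] at h
    have := isDiscrete_univ_iff.1 h
    exact isOpen_discrete _
  have hm : Mono m.left := inferInstance
  have := SchMor12.isOpenImmersion_of_mono_of_discrete m.left
  have : CompactSpace ↥R.left := inferInstance
  have hs : Etale s.left := by rw [← h, Over.comp_left]; infer_instance
  have := locallyQuasiFinite_of_etale s.left
  have : QuasiCompact s.left := (quasiCompact_iff_compactSpace (f := s.left)).2 inferInstance
  exact ⟨hs, IsFinite.of_locallyQuasiFinite _⟩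

/-- finitely many arrows from a chart point to itself give a monomorphic representative -/
theorem exists_mono_of_finite_self_arrows (hX : IsAlgSpace X) {U R : Over S} (a : (yon S).obj U ⟶ X)
    (ha : RepWith @Etale a) (u : ↥U.left) {s t : R ⟶ U}
    (sqR : IsPullback ((yon S).map t) ((yon S).map s) a a)
    (hfin : {r : ↥R.left | s.left r = u ∧ t.left r = u}.Finite) :
    ∃ p : FieldPt X, Points.mk p = Points.ofPt a u ∧ Mono p.toHom := by
  let k : Type u := U.left.residueField u
  let str : Spec (CommRingCat.of k) ⟶ S := U.left.fromSpecResidueField u ≫ U.hom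
  let T : Over S := Over.mk str
  let qu : T ⟶ U := Over.homMk (U.left.fromSpecResidueField u) rfl
  have : Mono qu.left := inferInstanceAs (Mono (U.left.fromSpecResidueField u))
  have hqp : IsPreimmersion qu.left := inferInstanceAs (IsPreimmersion (U.left.fromSpecResidueField u))
  have hqu : ∀ w, qu.left w = u := fun w => Scheme.fromSpecResidueField_apply u w
  have : Mono qu := (Over.forget S).mono_of_mono_map this
  have : Etale s.left := ha.property _ _ _ sqR
  let G := pullback qu s
  have sqG := (IsPullback.of_hasPullback qu s).map (Over.forget S)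
  have : Etale (pullback.fst qu s).left := MorphismProperty.of_isPullback sqG.flip (inferInstance : Etale s.left)
  have hpre : IsPreimmersion (pullback.snd qu s).left := MorphismProperty.of_isPullback sqG hqp
  obtain ⟨K, i, sK, p, hm, hpt⟩ := exists_mono_point_core hX (k := k) (str := str)
    ((yon S).map qu ≫ a) fun {R'} x y h => by
      obtain ⟨m', hm'⟩ := (yon S).map_surjective (sqR.lift ((yon S).map (x ≫ qu)) ((yon S).map (y ≫ qu))
        (by rw [Functor.map_comp, Category.assoc, Functor.map_comp, Category.assoc]; exact h.w))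
      have e1 : m' ≫ t = x ≫ qu := (yon S).map_injective (by rw [Functor.map_comp, hm', sqR.lift_fst])
      have e2 : m' ≫ s = y ≫ qu := (yon S).map_injective (by rw [Functor.map_comp, hm', sqR.lift_snd])
      let m : R' ⟶ G := pullback.lift y m' e2.symm
      have hmono : Mono m := ⟨fun {Z} g₁ g₂ hg => by
        have a1 := congr($hg ≫ pullback.fst qu s)
        have a2 := congr($hg ≫ pullback.snd qu s)
        simp only [m, Category.assoc, pullback.lift_fst, pullback.lift_snd] at a1 a2
        have a3 : g₁ ≫ x = g₂ ≫ x := (cancel_mono qu).1 (by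
          rw [Category.assoc, Category.assoc, ← e1, reassoc_of% a2])
        refine (yon S).map_injective (h.hom_ext ?_ ?_)
        · rw [← Functor.map_comp, ← Functor.map_comp, a3]
        · rw [← Functor.map_comp, ← Functor.map_comp, a1]⟩
      have hinj : Function.Injective (m ≫ pullback.snd qu s).left :=
        (pullback.snd qu s).left.isEmbedding.injective.comp m.left.injective
      have : Finite ↥R'.left := Set.finite_univ_iff.1 ((hfin.preimage hinj.injOn).subset fun w _ => by
        rw [Set.mem_preimage, pullback.lift_snd]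
        refine ⟨?_, ?_⟩
        · show (m' ≫ s).left w = u
          rw [e2]; exact hqu _
        · show (m' ≫ t).left w = u
          rw [e1]; exact hqu _)
      exact etale_finite_of_mono_finite (k := k) (T := T) rfl (pullback.fst qu s) m
        (pullback.lift_fst _ _ _)
  refine ⟨⟨K, sK, (AlgSp.J S).uliftYonedaEquiv p⟩, hpt.trans ?_, ?_⟩
  · rw [ptOfHom_yon_map]
    exact congrArg _ (hqu _)
  · rw [show (FieldPt.toHom ⟨K, sK, (AlgSp.J S).uliftYonedaEquiv p⟩ : _ ⟶ X) = p from
      Equiv.symm_apply_apply _ _]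
    exact hm

/-- finitely many arrows between two chart points give finitely many self arrows -/
theorem finite_self_arrows {U R : Over S} (a : (yon S).obj U ⟶ X) (ha : RepWith @Etale a) {s t : R ⟶ U}
    (sqR : IsPullback ((yon S).map t) ((yon S).map s) a a) {u u' : ↥U.left}
    (he : Points.ofPt a u = Points.ofPt a u') (hfin : {r : ↥R.left | s.left r = u ∧ t.left r = u'}.Finite) :
    {r : ↥R.left | s.left r = u ∧ t.left r = u}.Finite := by
  obtain ⟨r₀, hr1, hr2⟩ := (ofPt_eq_ofPt_iff sqR u' u).1 he.symm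
  have : Etale t.left := ha.property _ _ _ sqR.flip
  let RR := pullback t s
  let RR' := pullback t t
  obtain ⟨n, hn⟩ := (yon S).map_surjective (sqR.lift ((yon S).map (pullback.snd t s ≫ t))
    ((yon S).map (pullback.fst t s ≫ s)) (by
      rw [Functor.map_comp, Category.assoc, sqR.w, ← Category.assoc, ← Functor.map_comp,
        ← pullback.condition, Functor.map_comp, Category.assoc, sqR.w, Functor.map_comp, Category.assoc]))
  have e1 : n ≫ t = pullback.snd t s ≫ t :=
    (yon S).map_injective (by rw [Functor.map_comp, hn, sqR.lift_fst])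
  have e2 : n ≫ s = pullback.fst t s ≫ s :=
    (yon S).map_injective (by rw [Functor.map_comp, hn, sqR.lift_snd])
  let m : RR ⟶ RR' := pullback.lift n (pullback.snd t s) e1
  have hmono : Mono m := ⟨fun {Z} g₁ g₂ hg => by
    have a1 := congr($hg ≫ pullback.fst t t)
    have a2 := congr($hg ≫ pullback.snd t t)
    simp only [m, Category.assoc, pullback.lift_fst, pullback.lift_snd] at a1 a2
    refine pullback.hom_ext ((yon S).map_injective (sqR.hom_ext ?_ ?_)) a2
    · rw [← Functor.map_comp, ← Functor.map_comp, Category.assoc, Category.assoc, pullback.condition,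
        reassoc_of% a2]
    · rw [← Functor.map_comp, ← Functor.map_comp, Category.assoc, Category.assoc, ← e2,
        reassoc_of% a1]⟩
  have sqRR := (IsPullback.of_hasPullback t t).map (Over.forget S)
  have hF := ((hfin.biUnion fun c _ => finite_pairs_of_etale (g := t.left) sqRR c r₀).preimage
    m.left.injective.injOn).image (pullback.fst t s).left
  refine hF.subset fun q hq => ?_
  obtain ⟨z, hz1, hz2⟩ := exists_point_of_isPullback ((IsPullback.of_hasPullback t s).map (yon S))
    (x := Points.ofScheme R q) (y := Points.ofScheme R r₀)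
    (by rw [map_yon_map_ofScheme, map_yon_map_ofScheme, hq.2, hr2])
  obtain ⟨w, rfl⟩ := (Points.schemeEquiv RR).surjective z
  have w1 : (pullback.fst t s).left w = q :=
    (Points.schemeEquiv R).injective ((map_yon_map_ofScheme _ w).symm.trans hz1)
  have w2 : (pullback.snd t s).left w = r₀ :=
    (Points.schemeEquiv R).injective ((map_yon_map_ofScheme _ w).symm.trans hz2)
  refine ⟨w, Set.mem_biUnion (x := n.left w) ⟨?_, ?_⟩ ⟨?_, ?_⟩, w1⟩
  · show (n ≫ s).left w = u
    rw [e2]
    show s.left ((pullback.fst t s).left w) = u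
    rw [w1]; exact hq.1
  · show (n ≫ t).left w = u'
    rw [e1]
    show t.left ((pullback.snd t s).left w) = u'
    rw [w2]; exact hr1
  · show (m ≫ pullback.fst t t).left w = _
    rw [pullback.lift_fst]
  · show (m ≫ pullback.snd t t).left w = _
    rw [pullback.lift_snd]; exact w2

/-- the monomorphic point with finite chart fibre -/
theorem finite_chart_iff (hX : IsAlgSpace X) (x : Points X) {U : Over S} (φ : (yon S).obj U ⟶ X)
    (hφ : RepWith @Etale φ) :
    (x ∈ Set.range (Points.ofPt φ) ∧ (Points.ofPt φ ⁻¹' {x}).Finite ∧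
        ∀ (R : Over S) (s t : R ⟶ U), IsPullback ((yon S).map t) ((yon S).map s) φ φ →
          (Points.ofPt ((yon S).map t ≫ φ) ⁻¹' {x}).Finite) ↔
      ∃ p : FieldPt X, Points.mk p = x ∧ Mono p.toHom ∧
        ∀ (T : Over S) (c : T ⟶ p.pt) (snd : (yon S).obj T ⟶ (yon S).obj U),
          IsPullback ((yon S).map c) snd p.toHom φ → Nonempty ↥T.left ∧ IsFinite c.left := by
  constructor
  · rintro ⟨⟨u, rfl⟩, hfU, hfR⟩
    obtain ⟨t, ht⟩ := (yon S).map_surjective (hφ.1.fst φ)
    have sqR : IsPullback ((yon S).map t) ((yon S).map (hφ.1.snd φ)) φ φ := ht ▸ hφ.1.isPullback φ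
    obtain ⟨p, hp, hm⟩ := exists_mono_of_finite_self_arrows hX φ hφ u sqR
      ((hfR _ _ t sqR).subset fun r hr => (ofPt_map t φ r).trans (congrArg _ hr.2))
    refine ⟨p, hp, hm, fun T c snd sq => ?_⟩
    obtain ⟨v, rfl⟩ := (yon S).map_surjective snd
    have : Etale c.left := (repWith_yon_map_iff @Etale c).1 (RepWith.baseChange sq.flip hφ)
    have : Mono ((yon S).map v) :=
      MorphismProperty.of_isPullback (P := MorphismProperty.monomorphisms _) sq
        (MorphismProperty.monomorphisms.infer_property p.toHom)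
    have : Mono v := (yon S).mono_of_mono_map this
    have : Mono v.left := inferInstance
    have hpt : ∀ w, Points.ofPt φ (v.left w) = Points.ofPt φ u := fun w => by
      rw [← ofPt_map, ← sq.w, ← Points.map_ofPt, map_eq_ptOfHom, ptOfHom_toHom, hp]
    have : Finite ↥T.left := Set.finite_univ_iff.1 ((hfU.preimage v.left.injective.injOn).subset
      fun w _ => hpt w)
    obtain ⟨z, -, -⟩ := exists_point_of_isPullback sq (x := ptOfHom (𝟙 _)) (y := Points.ofScheme U u)
      (by rw [map_eq_ptOfHom, ptOfHom_toHom, hp, ← Points.ofPt_eq_map_ofScheme])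
    obtain ⟨w, -⟩ := (Points.schemeEquiv T).surjective z
    have : IsAffine p.pt.left := inferInstanceAs (IsAffine (Spec (CommRingCat.of p.K)))
    have : IsLocallyArtinian p.pt.left := inferInstanceAs (IsLocallyArtinian (Spec (CommRingCat.of p.K)))
    have := locallyQuasiFinite_of_etale c.left
    have : QuasiCompact c.left := (quasiCompact_iff_compactSpace (f := c.left)).2 inferInstance
    exact ⟨⟨w⟩, IsFinite.of_locallyQuasiFinite _⟩
  · rintro ⟨p, rfl, hm, h⟩
    have hr := representable_diag_iff.1 hX.diag p.toHom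
    obtain ⟨c, hc⟩ := (yon S).map_surjective (hr.fst φ)
    have sq : IsPullback ((yon S).map c) ((yon S).map (hr.snd φ)) p.toHom φ := hc ▸ hr.isPullback φ
    obtain ⟨⟨w₀⟩, hcf⟩ := h _ c _ sq
    have : CompactSpace ↥p.pt.left := inferInstanceAs (CompactSpace ↥(Spec (CommRingCat.of p.K)))
    have : Subsingleton ↥p.pt.left := inferInstanceAs (Subsingleton ↥(Spec (CommRingCat.of p.K)))
    have : CompactSpace ↥(hr.pullback φ).left := QuasiCompact.compactSpace_of_compactSpace c.left
    have : Finite ↥(hr.pullback φ).left := Set.finite_univ_iff.1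
      ((c.left.finite_preimage_singleton (c.left w₀)).subset fun w _ => Subsingleton.elim _ _)
    have hpt : ∀ w, Points.ofPt φ ((hr.snd φ).left w) = Points.mk p := fun w => by
      rw [← ofPt_map, ← sq.w, ← Points.map_ofPt, map_eq_ptOfHom, ptOfHom_toHom]
    refine ⟨⟨_, hpt w₀⟩, (Set.finite_range (hr.snd φ).left).subset fun v hv => ?_, fun R s t sqR => ?_⟩
    · obtain ⟨z, -, hz⟩ := exists_point_of_isPullback sq (x := ptOfHom (𝟙 _)) (y := Points.ofScheme U v)
        (by rw [map_eq_ptOfHom, ptOfHom_toHom, ← Points.ofPt_eq_map_ofScheme]; exact hv.symm)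
      obtain ⟨w, rfl⟩ := (Points.schemeEquiv _).surjective z
      exact ⟨w, (Points.schemeEquiv U).injective ((map_yon_map_ofScheme (hr.snd φ) w).symm.trans hz)⟩
    · rw [← ptOfHom_toHom p]
      exact finite_arrows_of_compact p.toHom hr φ hφ sqR

end Groth.Agent.AlgSpLib
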