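import Groth.Agent.AlgSpLib.DenseScheme
import Groth.Agent.AlgSpLib.DecentMore

/-!
Dense open subschemes: packaged forms.
-/

universe u

open CategoryTheory CategoryTheory.Limits AlgebraicGeometry Opposite Topology
open AlgSp

noncomputable section

namespace Groth.Agent.AlgSpLib

set_option backward.isDefEq.respectTransparency.types false

variable {S : Scheme.{u}} {X : Sp S}

theorem eq_of_specializes_codimZero (hd : IsDecent X) {x : Points X}
    (hx : HasAt (fun U u => ringKrullDim ↥(U.presheaf.stalk u) = 0) X x) :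
    ∀ y, y ⤳ x → y = x := by
  obtain ⟨U, a, u, ha, rfl, h⟩ := hx
  intro y hy
  obtain ⟨u', hu', rfl⟩ := exists_specializes_chart (FiniteFibres.of_mk (hd y)).1 a ha u hy
  have hdim : ringKrullDim ↥(U.left.presheaf.stalk u) = 0 := h
  rw [ringKrullDim_stalk_eq_coheight, ← WithBot.coe_zero, WithBot.coe_inj, Order.coheight_eq_zero] at hdim
  exact congrArg _ ((show u ⤳ u' from hdim hu').antisymm hu').eq.symm

/-- dense open subscheme containing the codimension zero points -/
theorem exists_dense_scheme_codimZero (hX : IsAlgSpace X) {ι : Type u} (Xi : ι → Sp S) (j : ∀ i, Xi i ⟶ X)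
    (hXi : ∀ i, IsAlgSpace (Xi i)) (hj : IsZarCover Xi j) (hq : ∀ i, IsQuasiSeparatedSp (Xi i)) :
    ∃ (G : Over S) (k : (yon S).obj G ⟶ X), RepWith @IsOpenImmersion k ∧ Dense (Set.range (Points.map k)) ∧
      ∀ x, HasAt (fun U u => ringKrullDim ↥(U.presheaf.stalk u) = 0) X x → x ∈ Set.range (Points.map k) := by
  have hd := isDecent_of_zarCover hX Xi j hXi hj fun i => isDecent_of_qsep (hXi i) (hq i)
  obtain ⟨G, k, hk, hdense, hmem⟩ := exists_dense_scheme hX hd
  refine ⟨G, k, hk, hdense, fun x hx => hmem x ?_⟩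
  have hmax := eq_of_specializes_codimZero hd hx
  obtain ⟨i, x₀, rfl⟩ := hj.2 x
  have : Mono (j i) :=
    mono_of_repWith (P := @IsOpenImmersion) (fun _ _ f (_ : IsOpenImmersion f) => (inferInstance : Mono f)) (hj.1 i)
  obtain ⟨C, l, hC, hl, z, hz⟩ := exists_affine_nbhd_of_maximal (hXi i) (hq i) x₀ fun y hy =>
    injective_map_of_mono (j i) (hmax _ (hy.map (Points.continuous_map (j i))))
  exact ⟨C, l ≫ j i, hC, RepWith.comp hl (hj.1 i), z, by rw [Points.map_comp, hz]⟩

/-- a space with a finite etale surjective chart is decent -/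
theorem isDecent_of_finite_chart (hX : IsAlgSpace X) {U : Over S} (a : (yon S).obj U ⟶ X)
    (hf : RepWith @IsFinite a) (he : RepWith @Etale a) (hs : RepWith @Surjective a) : IsDecent X := by
  obtain ⟨t, ht⟩ := (yon S).map_surjective (he.1.fst a)
  let s := he.1.snd a
  have sqR : IsPullback ((yon S).map t) ((yon S).map s) a a := ht ▸ he.1.isPullback a
  have : IsFinite s.left := hf.property _ _ _ sqR
  intro x
  obtain ⟨u, rfl⟩ := surjective_ofPt a hs x
  have hfU : (Points.ofPt a ⁻¹' {Points.ofPt a u}).Finite := by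
    refine ((s.left.finite_preimage_singleton u).image t.left).subset fun w hw => ?_
    obtain ⟨r, hr1, hr2⟩ := (ofPt_eq_ofPt_iff sqR w u).1 hw
    exact ⟨r, hr2, hr1⟩
  obtain ⟨K, _, sK, p, hm, hp⟩ := exists_mono_of_finite_arrows hX a he u sqR
    (s.left.finite_preimage_singleton u)
  obtain ⟨q, hq, hqm⟩ := exists_fieldPt p (repWith_quasiCompact_of_finiteFibres hX p
    (hp.symm ▸ finiteFibres_of_cover (ι := PUnit.{u + 1}) (fun _ => U) (fun _ => a) (fun _ => he)
      (fun y => ⟨PUnit.unit, surjective_ofPt a hs y⟩) fun _ => hfU))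
  exact ⟨q, hq.trans hp, hqm⟩

theorem exists_space_of_openImmersion (G : Over S) {Y : AlgSp.Space S} (k : (yon S).obj G ⟶ Y.obj)
    (hk : RepWith @IsOpenImmersion k) :
    ∃ (X' : AlgSp.Space S) (j : X' ⟶ Y), RepWith @IsOpenImmersion j.hom ∧ X'.obj.obj.IsRepresentable ∧
      Set.range (Points.map j.hom) = Set.range (Points.map k) :=
  ⟨⟨(yon S).obj G, IsAlgSpace.yon_obj G⟩, ObjectProperty.homMk k, hk,
    isRepresentable_of_iso_yon (Iso.refl _), rfl⟩

end Groth.Agent.AlgSpLib
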