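import Groth.Agent.AlgSpLib.MorTop
import Groth.Agent.AlgSpLib.EtLocalInst
import Groth.Agent.AlgSpLib.PointsTop
import Groth.Agent.AlgSpLib.RepBySpLemmas

/-!
The largest open subspace of the base over which a morphism has a property that is local on the base
for fppf / smooth / etale coverings.
-/

universe u

open CategoryTheory CategoryTheory.Limits AlgebraicGeometry Opposite
open AlgSp

noncomputable section

namespace Groth.Agent.AlgSpLib

set_option backward.isDefEq.respectTransparency.types false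

variable {S : Scheme.{u}}

/-- classes of morphisms usable as coverings -/
structure CovClass (Q : MorphismProperty (Sp S)) : Prop where
  openImm : ∀ {X Y : Sp S} {f : X ⟶ Y}, IsAlgSpace X → IsAlgSpace Y → RepWith @IsOpenImmersion f → Q f
  comp : ∀ {X Y Z : Sp S} {f : X ⟶ Y} {g : Y ⟶ Z},
    IsAlgSpace X → IsAlgSpace Y → IsAlgSpace Z → Q f → Q g → Q (f ≫ g)
  bc : ∀ {X Y X' Y' : Sp S} {f : X ⟶ Y} {g : Y' ⟶ Y} {fst : X' ⟶ X} {f' : X' ⟶ Y'},
    IsAlgSpace X → IsAlgSpace Y → IsAlgSpace Y' → IsAlgSpace X' → IsPullback fst f' f g → Q f → Q f'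
  isOpenMap : ∀ {X Y : Sp S} {f : X ⟶ Y}, IsAlgSpace X → IsAlgSpace Y → Q f → IsOpenMap (Points.map f)

namespace LargestOpen

variable {Q : MorphismProperty (Sp S)} (P : MorphismProperty (Sp S))

/-- `f` has `P` over the open set `V` -/
def OverOpen {X Y : Sp S} (f : X ⟶ Y) (V : Set (Points Y)) : Prop :=
  ∀ (W X' : Sp S) (j : W ⟶ Y) (j' : X' ⟶ X) (f' : X' ⟶ W), IsAlgSpace W → IsAlgSpace X' →
    RepWith @IsOpenImmersion j → Set.range (Points.map j) = V → IsPullback j' f' f j → P f'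

variable {P}

theorem mono_openImm {W Y : Sp S} {j : W ⟶ Y} (hj : RepWith @IsOpenImmersion j) : Mono j :=
  mono_of_repWith (P := @IsOpenImmersion) (fun _ _ g hg => by
    have : IsOpenImmersion g := hg
    exact (inferInstance : Mono g)) hj

theorem repWith_id (X : Sp S) : RepWith @IsOpenImmersion (𝟙 X) :=
  repWith_of_isIso _ _

theorem iff_of_iso (hQ : CovClass Q) (hP : IsLocalOnBase (S := S) (fun _ _ Yi g => IsCover Q Yi g) P)
    {X Y X' : Sp S} (hX : IsAlgSpace X) (hY : IsAlgSpace Y) (hX' : IsAlgSpace X')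
    {f : X ⟶ Y} {q : X' ⟶ X} {f' : X' ⟶ Y} (sq : IsPullback q f' f (𝟙 Y)) : P f ↔ P f' := by
  refine (hP (fun _ : PUnit.{u + 1} => Y) (fun _ => 𝟙 Y) hY (fun _ => hY)
    ⟨fun _ => hQ.openImm hY hY (repWith_id Y), fun x => ⟨⟨⟩, x, Points.map_id x⟩⟩
    f hX (fun _ => X') (fun _ => f') (fun _ => q) (fun _ => hX') (fun _ => sq)).trans ?_
  exact ⟨fun h => h ⟨⟩, fun h _ => h⟩

/-- one square suffices -/
theorem overOpen_of_one (hQ : CovClass Q)
    (hP : IsLocalOnBase (S := S) (fun _ _ Yi g => IsCover Q Yi g) P)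
    {X Y : Sp S} {f : X ⟶ Y} {V : Set (Points Y)}
    {W₀ X₀ : Sp S} {j₀ : W₀ ⟶ Y} {q₀ : X₀ ⟶ X} {f₀ : X₀ ⟶ W₀} (hW₀ : IsAlgSpace W₀)
    (hX₀ : IsAlgSpace X₀) (hj₀ : RepWith @IsOpenImmersion j₀) (hr₀ : Set.range (Points.map j₀) = V)
    (sq₀ : IsPullback q₀ f₀ f j₀) (h₀ : P f₀) : OverOpen P f V := by
  intro W X' j j' f' hW hX' hj hr sq
  have := mono_openImm hj
  have := mono_openImm hj₀
  obtain ⟨k, hk⟩ := (exists_lift_iff_range_subset hj₀ j).2 (by rw [hr, hr₀])
  obtain ⟨l, hl⟩ := (exists_lift_iff_range_subset hj j₀).2 (by rw [hr, hr₀])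
  have hkl : k ≫ l = 𝟙 W := (cancel_mono j).1 (by rw [Category.assoc, hl, hk, Category.id_comp])
  have hlk : l ≫ k = 𝟙 W₀ := (cancel_mono j₀).1 (by rw [Category.assoc, hk, hl, Category.id_comp])
  have : IsIso k := ⟨l, hkl, hlk⟩
  have : RepWith @IsOpenImmersion k := repWith_of_isIso _ _
  let m : X' ⟶ X₀ := sq₀.lift j' (f' ≫ k) (by rw [Category.assoc, hk, sq.w])
  have sq' : IsPullback m f' f₀ k := IsPullback.of_right
    (by rw [sq₀.lift_fst, hk]; exact sq) (sq₀.lift_snd _ _ _) sq₀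
  refine ((hP (fun _ : PUnit.{u + 1} => W) (fun _ => k) hW₀ (fun _ => hW)
    ⟨fun _ => hQ.openImm hW hW₀ this, fun x => ⟨⟨⟩, Points.map l x,
      by rw [← Points.map_comp, hlk, Points.map_id]⟩⟩
    f₀ hX₀ (fun _ => X') (fun _ => f') (fun _ => m) (fun _ => hX') (fun _ => sq')).1 h₀) ⟨⟩

/-- `P` over the union of opens that have it -/
theorem overOpen_sUnion (hQ : CovClass Q)
    (hP : IsLocalOnBase (S := S) (fun _ _ Yi g => IsCover Q Yi g) P)
    {X Y : Sp S} (hX : IsAlgSpace X) (hY : IsAlgSpace Y) (f : X ⟶ Y)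
    (Vs : Set (Set (Points Y))) (hV : ∀ V ∈ Vs, IsOpen V ∧ OverOpen P f V) :
    OverOpen P f (⋃₀ Vs) := by
  obtain ⟨U, a, -, has⟩ := hY.atlas
  intro W X' j j' f' hW hX' hj hr sq
  let ι : Type u := {t : ↥U.left // Points.ofPt a t ∈ ⋃₀ Vs}
  have hc : ∀ t : ι, ∃ V ∈ Vs, Points.ofPt a t.1 ∈ V := fun t => t.2
  choose V hVs hVm using hc
  let Z : ι → Sp S := fun t => openSubspace Y (V t)
  let i : ∀ t, Z t ⟶ Y := fun t => openSubspaceι Y (V t)
  have hi : ∀ t, RepWith @IsOpenImmersion (i t) := fun t =>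
    repWith_openSubspaceι Y (hV _ (hVs t)).1
  have hZ : ∀ t, IsAlgSpace (Z t) := fun t => isAlgSpace_openSubspace hY (hV _ (hVs t)).1
  have hZr : ∀ t, Set.range (Points.map (i t)) = V t := fun t => range_openSubspaceι Y (V t)
  have hl : ∀ t, ∃ l : Z t ⟶ W, l ≫ j = i t := fun t =>
    (exists_lift_iff_range_subset hj (i t)).2 (by
      rw [hr, hZr]; exact Set.subset_sUnion_of_mem (hVs t))
  choose l hl using hl
  have := mono_openImm hj
  have hlo : ∀ t, RepWith @IsOpenImmersion (l t) := fun t =>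
    repWith_of_comp_mono (l t) j (hl t ▸ hi t)
  have hXt : ∀ t, IsAlgSpace (pullback f' (l t)) := fun t =>
    isAlgSpace_of_isPullback hW.diag hX' (hZ t) (IsPullback.of_hasPullback f' (l t))
  refine (hP Z l hW hZ ⟨fun t => hQ.openImm (hZ t) hW (hlo t), fun w => ?_⟩ f' hX'
    (fun t => pullback f' (l t)) (fun t => pullback.snd f' (l t))
    (fun t => pullback.fst f' (l t)) hXt (fun t => IsPullback.of_hasPullback f' (l t))).2 fun t => ?_
  · obtain ⟨u, hu⟩ := surjective_ofPt a has (Points.map j w)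
    have hmem : Points.ofPt a u ∈ ⋃₀ Vs := hu ▸ hr ▸ ⟨w, rfl⟩
    refine ⟨⟨u, hmem⟩, ?_⟩
    obtain ⟨z, hz⟩ := (hZr ⟨u, hmem⟩).symm ▸ hVm ⟨u, hmem⟩
    exact ⟨z, injective_map_of_mono j (by rw [← Points.map_comp, hl, hz, hu])⟩
  · exact (hV _ (hVs t)).2 (Z t) _ (i t) _ _ (hZ t) (hXt t) (hi t) (hZr t)
      (hl t ▸ (IsPullback.of_hasPullback f' (l t)).paste_horiz sq)

variable (P) in
/-- the largest open over which `f` has `P` -/
def largest {X Y : Sp S} (f : X ⟶ Y) : TopologicalSpace.Opens (Points Y) :=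
  ⟨⋃₀ {V | IsOpen V ∧ OverOpen P f V}, isOpen_sUnion fun _ h => h.1⟩

theorem le_largest {X Y : Sp S} {f : X ⟶ Y} {V : Set (Points Y)} (hV : IsOpen V)
    (h : OverOpen P f V) : V ⊆ (largest P f : Set (Points Y)) :=
  Set.subset_sUnion_of_mem ⟨hV, h⟩

theorem overOpen_largest (hQ : CovClass Q)
    (hP : IsLocalOnBase (S := S) (fun _ _ Yi g => IsCover Q Yi g) P)
    {X Y : Sp S} (hX : IsAlgSpace X) (hY : IsAlgSpace Y) (f : X ⟶ Y) :
    OverOpen P f (largest P f : Set (Points Y)) :=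
  overOpen_sUnion hQ hP hX hY f _ fun _ h => h

/-- the image of a `Q` morphism along which the base change has `P` -/
theorem range_subset_largest (hQ : CovClass Q)
    (hP : IsLocalOnBase (S := S) (fun _ _ Yi g => IsCover Q Yi g) P)
    {X Y Y' X' : Sp S} (hX : IsAlgSpace X) (hY : IsAlgSpace Y) (hY' : IsAlgSpace Y')
    (hX' : IsAlgSpace X') {f : X ⟶ Y} {g : Y' ⟶ Y} {g' : X' ⟶ X} {f' : X' ⟶ Y'} (hg : Q g)
    (sq : IsPullback g' f' f g) (h : P f') :
    Set.range (Points.map g) ⊆ (largest P f : Set (Points Y)) := by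
  let V := Set.range (Points.map g)
  have hV : IsOpen V := (hQ.isOpenMap hY' hY hg).isOpen_range
  refine le_largest hV ?_
  have hj := repWith_openSubspaceι Y hV
  have hW := isAlgSpace_openSubspace hY hV
  obtain ⟨k, hk⟩ := (exists_lift_iff_range_subset hj g).2 (range_openSubspaceι Y V).ge
  let W := openSubspace Y V
  let j : W ⟶ Y := openSubspaceι Y V
  have hX₀ : IsAlgSpace (pullback f j) :=
    isAlgSpace_of_isPullback hY.diag hX hW (IsPullback.of_hasPullback f j)
  have hkQ : Q k := hQ.bc (fst := 𝟙 Y') hY' hY hW hY'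
    ⟨⟨by rw [Category.id_comp]; exact hk.symm⟩,
      ⟨PullbackCone.IsLimit.mk _ (fun s => s.fst) (fun s => Category.comp_id _)
        (fun s => (cancel_mono j).1 (by rw [Category.assoc]; erw [hk]; exact s.condition))
        (fun s m h1 _ => by simpa using h1)⟩⟩ hg
  let m : X' ⟶ pullback f j := pullback.lift g' (f' ≫ k) (by
    rw [Category.assoc]; erw [hk]; exact sq.w)
  have sq' : IsPullback m f' (pullback.snd f j) k := IsPullback.of_right
    (by erw [pullback.lift_fst, hk]; exact sq) (pullback.lift_snd _ _ _)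
    (IsPullback.of_hasPullback f j)
  have h₀ : P (pullback.snd f j) := (hP (fun _ : PUnit.{u + 1} => Y') (fun _ => k) hW
    (fun _ => hY') ⟨fun _ => hkQ, fun w => ⟨⟨⟩, by
      obtain ⟨y, hy⟩ := ((range_openSubspaceι Y V).le ⟨w, rfl⟩ : Points.map j w ∈ V)
      exact ⟨y, injective_map_of_mono j (by rw [← Points.map_comp]; erw [hk]; exact hy)⟩⟩⟩
    (pullback.snd f j) hX₀ (fun _ => X') (fun _ => f') (fun _ => m) (fun _ => hX')
    (fun _ => sq')).2 fun _ => h
  exact overOpen_of_one hQ hP hW hX₀ hj (range_openSubspaceι Y V)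
    (IsPullback.of_hasPullback f j) h₀

theorem largest_preimage (hQ : CovClass Q)
    (hP : IsLocalOnBase (S := S) (fun _ _ Yi g => IsCover Q Yi g) P)
    {X Y Y' X' : Sp S} (hX : IsAlgSpace X) (hY : IsAlgSpace Y) (hY' : IsAlgSpace Y')
    (hX' : IsAlgSpace X') {f : X ⟶ Y} {g : Y' ⟶ Y} {g' : X' ⟶ X} {f' : X' ⟶ Y'} (hg : Q g)
    (sq : IsPullback g' f' f g) :
    (largest P f' : Set (Points Y')) = Points.map g ⁻¹' (largest P f : Set (Points Y)) := by
  refine subset_antisymm ?_ ?_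
  · let V : Set (Points Y') := largest P f'
    have hV : IsOpen V := (largest P f').2
    have hW := isAlgSpace_openSubspace hY' hV
    have hj := repWith_openSubspaceι Y' hV
    let j : openSubspace Y' V ⟶ Y' := openSubspaceι Y' V
    have hX₀ : IsAlgSpace (pullback f' j) :=
      isAlgSpace_of_isPullback hY'.diag hX' hW (IsPullback.of_hasPullback f' j)
    have h := overOpen_largest hQ hP hX' hY' f' _ _ j _ _ hW hX₀ hj
      (range_openSubspaceι Y' V) (IsPullback.of_hasPullback f' j)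
    intro y hy
    obtain ⟨w, rfl⟩ := (range_openSubspaceι Y' V).ge hy
    exact range_subset_largest hQ hP hX hY hW hX₀ (hQ.comp hW hY' hY (hQ.openImm hW hY' hj) hg)
      ((IsPullback.of_hasPullback f' j).paste_horiz sq) h ⟨w, Points.map_comp j g w⟩
  · let V : Set (Points Y) := largest P f
    have hV : IsOpen V := (largest P f).2
    have hV' : IsOpen (Points.map g ⁻¹' V) := hV.preimage (Points.continuous_map g)
    refine le_largest hV' ?_
    intro W' X'' j' q' f'' hW' hX'' hj' hr' sq''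
    have hW := isAlgSpace_openSubspace hY hV
    have hj := repWith_openSubspaceι Y hV
    let W := openSubspace Y V
    let j : W ⟶ Y := openSubspaceι Y V
    obtain ⟨k, hk⟩ := (exists_lift_iff_range_subset hj (j' ≫ g)).2 (by
      rintro _ ⟨w, rfl⟩
      rw [Points.map_comp, range_openSubspaceι]
      exact (hr'.le ⟨w, rfl⟩ : Points.map j' w ∈ Points.map g ⁻¹' V))
    have sqW : IsPullback j' k g j := by
      refine ⟨⟨hk.symm⟩, ⟨PullbackCone.IsLimit.mk _ (fun s => ?_) ?_ ?_ ?_⟩⟩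
      · refine ((exists_lift_iff_range_subset hj' s.fst).2 ?_).choose
        rintro _ ⟨w, rfl⟩
        rw [hr']
        show Points.map g (Points.map s.fst w) ∈ V
        rw [← Points.map_comp, s.condition, Points.map_comp]
        exact (range_openSubspaceι Y V).le ⟨_, rfl⟩
      · exact fun s => Exists.choose_spec (p := fun l => l ≫ j' = s.fst) _
      · intro s
        have := mono_openImm hj
        refine (cancel_mono j).1 ?_
        rw [Category.assoc]; erw [hk]
        rw [← Category.assoc,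
          Exists.choose_spec (p := fun l => l ≫ j' = s.fst) _]
        exact s.condition
      · intro s m h1 _
        have := mono_openImm hj'
        exact (cancel_mono j').1 (h1.trans (Exists.choose_spec (p := fun l => l ≫ j' = s.fst) _).symm)
    have hkQ : Q k := hQ.bc hY' hY hW hW' sqW hg
    have hX₀ : IsAlgSpace (pullback f j) :=
      isAlgSpace_of_isPullback hY.diag hX hW (IsPullback.of_hasPullback f j)
    have h₀ := overOpen_largest hQ hP hX hY f _ _ j _ _ hW hX₀ hj
      (range_openSubspaceι Y V) (IsPullback.of_hasPullback f j)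
    let m : X'' ⟶ pullback f j := pullback.lift (q' ≫ g') (f'' ≫ k) (by
      rw [Category.assoc, sq.w, ← Category.assoc, sq''.w, Category.assoc, Category.assoc]
      erw [hk])
    have sq' : IsPullback m f'' (pullback.snd f j) k := IsPullback.of_right
      (by erw [pullback.lift_fst, hk]; exact sq''.paste_horiz sq) (pullback.lift_snd _ _ _)
      (IsPullback.of_hasPullback f j)
    let Wi : ULift.{u} Bool → Sp S := fun b => bif b.down then W' else W
    let gi : ∀ b, Wi b ⟶ W := fun b => match b with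
      | ⟨true⟩ => k
      | ⟨false⟩ => 𝟙 W
    let Xi : ULift.{u} Bool → Sp S := fun b => bif b.down then X'' else pullback f j
    let pi : ∀ b, Xi b ⟶ Wi b := fun b => match b with
      | ⟨true⟩ => f''
      | ⟨false⟩ => pullback.snd f j
    let qi : ∀ b, Xi b ⟶ pullback f j := fun b => match b with
      | ⟨true⟩ => m
      | ⟨false⟩ => 𝟙 _
    have := (hP Wi gi hW (fun b => match b with | ⟨true⟩ => hW' | ⟨false⟩ => hW)
      ⟨fun b => match b with
        | ⟨true⟩ => hkQ
        | ⟨false⟩ => hQ.openImm hW hW (repWith_id W),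
        fun w => ⟨⟨false⟩, w, Points.map_id w⟩⟩
      (pullback.snd f j) hX₀ Xi pi qi (fun b => match b with | ⟨true⟩ => hX'' | ⟨false⟩ => hX₀)
      (fun b => match b with
        | ⟨true⟩ => sq'
        | ⟨false⟩ => by
          show IsPullback (𝟙 (pullback f j)) (pullback.snd f j) (pullback.snd f j) (𝟙 W)
          exact IsPullback.id_horiz _)).1 h₀ ⟨true⟩
    exact this

/-- the four properties of the largest open, for algebraic spaces -/
theorem exists_largest_open (hQ : CovClass Q)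
    (hP : IsLocalOnBase (S := S) (fun _ _ Yi g => IsCover Q Yi g) P) {X Y : AlgSp.Space S}
    (f : X ⟶ Y) :
    ∃ W : TopologicalSpace.Opens (Points Y.obj),
      (∀ (W₀ X₀ : AlgSp.Space S) (j₀ : W₀ ⟶ Y) (j₀' : X₀ ⟶ X) (f₀ : X₀ ⟶ W₀),
        RepWith @IsOpenImmersion j₀.hom → Set.range (Points.map j₀.hom) = (W : Set (Points Y.obj)) →
        IsPullback j₀'.hom f₀.hom f.hom j₀.hom → P f₀.hom) ∧
      (∀ V : TopologicalSpace.Opens (Points Y.obj),
        (∀ (W₁ X₁ : AlgSp.Space S) (j₁ : W₁ ⟶ Y) (j₁' : X₁ ⟶ X) (f₁ : X₁ ⟶ W₁),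
        RepWith @IsOpenImmersion j₁.hom → Set.range (Points.map j₁.hom) = (V : Set (Points Y.obj)) →
        IsPullback j₁'.hom f₁.hom f.hom j₁.hom → P f₁.hom) → V ≤ W) ∧
      (∀ (Y' X' : AlgSp.Space S) (g : Y' ⟶ Y) (g' : X' ⟶ X) (f' : X' ⟶ Y'),
        Q g.hom → IsPullback g'.hom f'.hom f.hom g.hom → P f'.hom →
        Set.range (Points.map g.hom) ⊆ (W : Set (Points Y.obj))) ∧
      (∀ (Y' X' : AlgSp.Space S) (g : Y' ⟶ Y) (g' : X' ⟶ X) (f' : X' ⟶ Y'),
        Q g.hom → IsPullback g'.hom f'.hom f.hom g.hom →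
        ∀ W' : TopologicalSpace.Opens (Points Y'.obj),
          (∀ (W₂ X₂ : AlgSp.Space S) (j₂ : W₂ ⟶ Y') (j₂' : X₂ ⟶ X') (f₂ : X₂ ⟶ W₂),
        RepWith @IsOpenImmersion j₂.hom → Set.range (Points.map j₂.hom) = (W' : Set (Points Y'.obj)) →
        IsPullback j₂'.hom f₂.hom f'.hom j₂.hom → P f₂.hom) →
          (∀ V' : TopologicalSpace.Opens (Points Y'.obj),
            (∀ (W₃ X₃ : AlgSp.Space S) (j₃ : W₃ ⟶ Y') (j₃' : X₃ ⟶ X') (f₃ : X₃ ⟶ W₃),
        RepWith @IsOpenImmersion j₃.hom → Set.range (Points.map j₃.hom) = (V' : Set (Points Y'.obj)) →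
        IsPullback j₃'.hom f₃.hom f'.hom j₃.hom → P f₃.hom) → V' ≤ W') →
          (W' : Set (Points Y'.obj)) = Points.map g.hom ⁻¹' (W : Set (Points Y.obj))) := by
  have conv : ∀ {A B : AlgSp.Space S} (h : A ⟶ B) (V : Set (Points B.obj)),
      (∀ (W₁ X₁ : AlgSp.Space S) (j₁ : W₁ ⟶ B) (j₁' : X₁ ⟶ A) (f₁ : X₁ ⟶ W₁),
        RepWith @IsOpenImmersion j₁.hom → Set.range (Points.map j₁.hom) = V →
        IsPullback j₁'.hom f₁.hom h.hom j₁.hom → P f₁.hom) ↔ OverOpen P h.hom V := fun {A B} h V =>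
    ⟨fun H W₁ X₁ j j' f' hW hX hj hr sq =>
        H ⟨W₁, hW⟩ ⟨X₁, hX⟩ (ObjectProperty.homMk j) (ObjectProperty.homMk j')
          (ObjectProperty.homMk f') hj hr sq,
      fun H W₁ X₁ j j' f' hj hr sq => H W₁.obj X₁.obj j.hom j'.hom f'.hom W₁.property X₁.property hj hr sq⟩
  refine ⟨largest P f.hom, (conv f _).2 (overOpen_largest hQ hP X.property Y.property f.hom),
    fun V h => le_largest V.2 ((conv f _).1 h),
    fun Y' X' g g' f' hg sq h => range_subset_largest hQ hP X.property Y.property Y'.property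
      X'.property hg sq h,
    fun Y' X' g g' f' hg sq W' h1 h2 => ?_⟩
  rw [← largest_preimage hQ hP X.property Y.property Y'.property X'.property hg sq]
  exact subset_antisymm (le_largest W'.2 ((conv f' _).1 h1))
    (h2 (largest P f'.hom) ((conv f' _).2 (overOpen_largest hQ hP X'.property Y'.property f'.hom)))

end LargestOpen

theorem covClass_fppf : CovClass (S := S)
    (fun _ _ f => LocP @Flat f ∧ LocP @LocallyOfFinitePresentation f) where
  openImm hX _ h := ⟨locP_of_repWith etLocal_flat hX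
      (RepWith.mono (fun _ _ g (_ : IsOpenImmersion g) => (inferInstance : Flat g)) h),
    locP_of_repWith etLocal_lfp hX (RepWith.mono
      (fun _ _ g (_ : IsOpenImmersion g) => (inferInstance : LocallyOfFinitePresentation g)) h)⟩
  comp hX hY hZ hf hg :=
    ⟨locP_comp etLocal_flat hX hY hZ hf.1 hg.1, locP_comp etLocal_lfp hX hY hZ hf.2 hg.2⟩
  bc hX hY _ hX' sq h :=
    ⟨locP_of_isPullback etLocal_flat hX hY hX' sq h.1, locP_of_isPullback etLocal_lfp hX hY hX' sq h.2⟩
  isOpenMap {X Y f} hX hY h :=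
    isUnivOpenMor_of_flat_lfp hX hY h.1 h.2 hY (𝟙 Y) (𝟙 X) f
      (IsPullback.of_horiz_isIso ⟨by simp⟩)

theorem covClass_smooth : CovClass (S := S) (LocP @Smooth) where
  openImm hX _ h := locP_of_repWith etLocal_smooth hX
    (RepWith.mono (fun _ _ g (_ : IsOpenImmersion g) => (inferInstance : Smooth g)) h)
  comp hX hY hZ hf hg := locP_comp etLocal_smooth hX hY hZ hf hg
  bc hX hY _ hX' sq h := locP_of_isPullback etLocal_smooth hX hY hX' sq h
  isOpenMap hX hY h := covClass_fppf.isOpenMap hX hY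
    ⟨locP_mono (fun _ _ g (_ : Smooth g) => (inferInstance : Flat g)) h,
      locP_mono (fun _ _ g (_ : Smooth g) => (inferInstance : LocallyOfFinitePresentation g)) h⟩

theorem covClass_etale : CovClass (S := S) IsEtaleMor where
  openImm hX hY h := (isEtaleMor_iff_locP etLocal_etale hX hY _).2 (locP_of_repWith etLocal_etale hX
    (RepWith.mono (fun _ _ g (_ : IsOpenImmersion g) => (inferInstance : Etale g)) h))
  comp hX hY hZ hf hg := (isEtaleMor_iff_locP etLocal_etale hX hZ _).2 (locP_comp etLocal_etale hX hY hZ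
    ((isEtaleMor_iff_locP etLocal_etale hX hY _).1 hf) ((isEtaleMor_iff_locP etLocal_etale hY hZ _).1 hg))
  bc hX hY hY' hX' sq h := (isEtaleMor_iff_locP etLocal_etale hX' hY' _).2
    (locP_of_isPullback etLocal_etale hX hY hX' sq ((isEtaleMor_iff_locP etLocal_etale hX hY _).1 h))
  isOpenMap hX _ h := isOpenMap_map_of_isEtaleMor hX h

end Groth.Agent.AlgSpLib
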