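import Groth.Agent.AlgSpLib.PointsTop
import Groth.Agent.AlgSpLib.EtLocalInst

/-!
Presentations from fibre squares.
-/

universe u

open CategoryTheory CategoryTheory.Limits AlgebraicGeometry
open AlgSp

namespace Groth.Agent.AlgSpLib

set_option backward.isDefEq.respectTransparency.types false

variable {S : Scheme.{u}} {F G : Sp S}

theorem isPullback_of_comp_mono {P A B C D : Sp S} {fst : P ⟶ A} {snd : P ⟶ B} {f : A ⟶ C}
    {g : B ⟶ C} (i : C ⟶ D) [Mono i] (sq : IsPullback fst snd (f ≫ i) (g ≫ i)) :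
    IsPullback fst snd f g :=
  isPullback_of_yon ((cancel_mono i).1 (by rw [Category.assoc, Category.assoc]; exact sq.w))
    fun _ x y e => ⟨sq.lift x y (by rw [reassoc_of% e]), ⟨sq.lift_fst .., sq.lift_snd ..⟩,
      fun m hm => sq.hom_ext (by rw [sq.lift_fst]; exact hm.1) (by rw [sq.lift_snd]; exact hm.2)⟩

theorem exists_of_isPullback_yon {R U V : Over S} {fst : R ⟶ U} {snd : R ⟶ V}
    {p : (yon S).obj U ⟶ F} {q : (yon S).obj V ⟶ F}
    (sq : IsPullback ((yon S).map fst) ((yon S).map snd) p q) {T : Over S} (a : T ⟶ U) (b : T ⟶ V) :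
    (yon S).map a ≫ p = (yon S).map b ≫ q ↔ ∃ r : T ⟶ R, r ≫ fst = a ∧ r ≫ snd = b := by
  constructor
  · intro e
    obtain ⟨r, hr⟩ := (yon S).map_surjective (sq.lift _ _ e)
    exact ⟨r, (yon S).map_injective (by rw [Functor.map_comp, hr, sq.lift_fst]),
      (yon S).map_injective (by rw [Functor.map_comp, hr, sq.lift_snd])⟩
  · rintro ⟨r, rfl, rfl⟩
    rw [Functor.map_comp, Functor.map_comp, Category.assoc, Category.assoc, sq.w]

theorem isEqvRel_of_isPullback {R U : Over S} {s t : R ⟶ U} {p : (yon S).obj U ⟶ F}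
    (sq : IsPullback ((yon S).map t) ((yon S).map s) p p) : IsEqvRel s t where
  injective T r r' h1 h2 := (yon S).map_injective (sq.hom_ext
    (by rw [← Functor.map_comp, h1, Functor.map_comp])
    (by rw [← Functor.map_comp, h2, Functor.map_comp]))
  equivalence T := by
    have : (fun a b : T ⟶ U => ∃ r : T ⟶ R, r ≫ t = a ∧ r ≫ s = b) =
        fun a b => (yon S).map a ≫ p = (yon S).map b ≫ p := by
      funext a b
      exact propext (exists_of_isPullback_yon sq a b).symm
    rw [this]
    exact ⟨fun _ => rfl, Eq.symm, Eq.trans⟩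

theorem isPresentation_of_isPullback {R U : Over S} {s t : R ⟶ U} {p : (yon S).obj U ⟶ F}
    (he : RepWith @Etale p) (hs : RepWith @Surjective p)
    (sq : IsPullback ((yon S).map t) ((yon S).map s) p p) : IsPresentation s t p :=
  ⟨⟨isEqvRel_of_isPullback sq, he.property _ _ _ sq,
    he.property _ _ _ sq.flip⟩, he, hs, sq⟩

/-- etaleness descends along an etale surjective morphism to the source -/
theorem repWith_etale_of_comp {U U' : Over S} (χ : U ⟶ U') [Etale χ.left] [Surjective χ.left]
    (hF : IsAlgSpace F) (φ' : (yon S).obj U' ⟶ F)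
    (h : RepWith @Etale ((yon S).map χ ≫ φ')) : RepWith @Etale φ' := by
  refine (repWith_iff_locP etLocal_etale (IsAlgSpace.yon_obj U') hF (f := φ')
    (hF.representable_from_yon φ')).2 ?_
  exact locP_of_atlas etLocal_etale (IsAlgSpace.yon_obj U') _
    ((repWith_yon_map_iff _ χ).2 inferInstance) ((repWith_yon_map_iff _ χ).2 inferInstance) h

end Groth.Agent.AlgSpLib
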