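import Groth.Agent.AlgSpLib.MorMore2
import Groth.Agent.AlgSpLib.EtaleAscend
import Groth.Agent.Props12.Stalks
import Mathlib.AlgebraicGeometry.Morphisms.FormallyUnramified
import Mathlib.RingTheory.Unramified.LocalRing

/-!
Open subspaces with affine charts, reduced local rings, points of codimension zero.
-/

universe u

open CategoryTheory CategoryTheory.Limits AlgebraicGeometry Topology
open AlgSp

noncomputable section

namespace Groth.Agent.AlgSpLib

set_option backward.isDefEq.respectTransparency.types false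

variable {S : Scheme.{u}} {F G H : Sp S}

theorem isZarCover_openSubspaces_affine (hF : IsAlgSpace F) :
    ∃ (ι : Type u) (W : ι → Set (Points F)), (∀ i, IsOpen (W i)) ∧ (∀ x, ∃ i, x ∈ W i) ∧
      ∀ i, ∃ (U : Over S) (p : (yon S).obj U ⟶ openSubspace F (W i)), IsAffine U.left ∧
          RepWith @Etale p ∧ RepWith @Surjective p ∧
          ∃ V : S.Opens, IsAffineOpen V ∧ ∀ v : ↥U.left, U.hom v ∈ V := by
  obtain ⟨U, a, hae, has⟩ := hF.atlas
  have h1 : ∀ u : ↥U.left, ∃ (O : U.left.Opens) (V : S.Opens), IsAffineOpen O ∧ u ∈ O ∧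
      IsAffineOpen V ∧ O ≤ U.hom ⁻¹ᵁ V := fun u => by
    obtain ⟨V, hV, -⟩ := exists_affine_mem (X := S) (x := U.hom u) (O := ⊤) trivial
    obtain ⟨O, hO, huO, hle⟩ := exists_isAffineOpen_mem_and_subset (x := u) (U := U.hom ⁻¹ᵁ V.1) hV
    exact ⟨O, V.1, hO, huO, V.2, hle⟩
  choose O V hO huO hV hle using h1
  let W : ↥U.left → Set (Points F) := fun u => Points.ofPt a '' (O u : Set ↥U.left)
  have hWo : ∀ u, IsOpen (W u) := fun u => isOpenMap_ofPt a hae _ (O u).isOpen
  refine ⟨↥U.left, W, hWo, fun x => ?_, fun u => ?_⟩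
  · obtain ⟨u, rfl⟩ := surjective_ofPt a has x
    exact ⟨u, u, huO u, rfl⟩
  · let T := restrictOver U (O u)
    let c := (yon S).map (restrictOverι U (O u)) ≫ a
    have hc : ∀ t, Points.ofPt c t = Points.ofPt a ((restrictOverι U (O u)).left t) := fun t =>
      ofPt_map _ _ _
    obtain ⟨p, hp⟩ := (exists_lift_openSubspace_iff (W u) c).2 fun t => by
      rw [hc]
      refine ⟨_, ?_, rfl⟩
      have := range_restrictOverι U (O u)
      exact this ▸ ⟨t, rfl⟩
    have hce : RepWith @Etale c := by
      refine RepWith.comp ?_ hae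
      rw [repWith_yon_map_iff]
      exact (inferInstance : Etale (O u).ι)
    have hpe : RepWith @Etale p := repWith_of_comp_mono p _ (by rw [hp]; exact hce)
    refine ⟨T, p, hO u, hpe, repWith_surjective_of_surjective_ofPt p hpe.1 fun y => ?_,
      V u, hV u, fun v => ?_⟩
    · have hy : Points.map (openSubspaceι F (W u)) y ∈ W u := by
        exact (range_openSubspaceι F (W u)).subset ⟨y, rfl⟩
      obtain ⟨t, ht, e⟩ := hy
      rw [← range_restrictOverι U (O u)] at ht
      obtain ⟨t, rfl⟩ := ht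
      refine ⟨t, injective_map_of_mono (openSubspaceι F (W u)) ?_⟩
      rw [Points.map_ofPt, hp, hc, e]
    · exact hle u (show (O u).ι v ∈ O u from v.2)

theorem isReduced_stalk_up {A B : Scheme.{u}} (c : A ⟶ B) [Etale c] (x : A)
    (h : _root_.IsReduced (B.presheaf.stalk (c x))) : _root_.IsReduced (A.presheaf.stalk x) := by
  let j := B.fromSpecStalk (c x)
  have : IsReduced (Spec (B.presheaf.stalk (c x))) := inferInstance
  have : IsReduced (pullback c j) := isReduced_of_etale' (pullback.snd c j)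
  obtain ⟨t, ht, -⟩ := Scheme.Pullback.exists_preimage_pullback (f := c) (g := j) x
    (IsLocalRing.closedPoint _) Scheme.fromSpecStalk_closedPoint.symm
  rw [← ht]
  have := Props12.isIso_stalkMap_fst c _ t
  exact isReduced_of_injective ((pullback.fst c j).stalkMap t).hom
    ((ConcreteCategory.isIso_iff_bijective _).1 this).1

theorem isReduced_stalk_down {A B : Scheme.{u}} (c : A ⟶ B) [Flat c] (x : A)
    (h : _root_.IsReduced (A.presheaf.stalk x)) : _root_.IsReduced (B.presheaf.stalk (c x)) := by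
  letI := (c.stalkMap x).hom.toAlgebra
  have : Module.Flat (B.presheaf.stalk (c x)) (A.presheaf.stalk x) := Flat.stalkMap c x
  have : IsLocalHom (algebraMap (B.presheaf.stalk (c x)) (A.presheaf.stalk x)) :=
    inferInstanceAs (IsLocalHom (c.stalkMap x).hom)
  have : Module.FaithfullyFlat (B.presheaf.stalk (c x)) (A.presheaf.stalk x) :=
    Module.FaithfullyFlat.of_flat_of_isLocalHom
  exact isReduced_of_injective (algebraMap (B.presheaf.stalk (c x)) (A.presheaf.stalk x))
    (FaithfulSMul.algebraMap_injective _ _)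

/-- two charts with a common point have a common etale refinement through it -/
theorem exists_common_chart (hF : IsAlgSpace F) {U V : Over S} {a : (yon S).obj U ⟶ F}
    {b : (yon S).obj V ⟶ F} (ha : RepWith @Etale a) (hb : RepWith @Etale b) {u : ↥U.left}
    {v : ↥V.left} (e : Points.ofPt a u = Points.ofPt b v) :
    ∃ (R : Over S) (p : R ⟶ U) (q : R ⟶ V) (r : ↥R.left), Etale p.left ∧ Etale q.left ∧
      p.left r = u ∧ q.left r = v := by
  have sq := (hF.representable_from_yon a).isPullback b
  obtain ⟨p, hp⟩ := (yon S).map_surjective ((hF.representable_from_yon a).fst b)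
  rw [← hp] at sq
  obtain ⟨r, hr1, hr2⟩ := (ofPt_eq_ofPt_iff sq _ _).1 e
  exact ⟨_, p, _, r, hb.2 a _ _ sq.flip, ha.2 b _ _ sq, hr1, hr2⟩

theorem isReducedSp_iff_hasAt (hF : IsAlgSpace F) :
    IsReducedSp F ↔ ∀ x, HasAt (fun U u => _root_.IsReduced ↥(U.presheaf.stalk u)) F x := by
  constructor
  · rintro ⟨U, a, hae, has, hU⟩ x
    obtain ⟨u, rfl⟩ := surjective_ofPt a has x
    have : IsReduced U.left := hU
    exact ⟨U, a, u, hae, rfl, inferInstance⟩
  · intro h
    obtain ⟨U, a, hae, has⟩ := hF.atlas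
    refine ⟨U, a, hae, has, ?_⟩
    have : ∀ u : ↥U.left, _root_.IsReduced (U.left.presheaf.stalk u) := fun u => by
      obtain ⟨V, b, v, hbe, e, hv⟩ := h (Points.ofPt a u)
      obtain ⟨R, p, q, r, hpe, hqe, rfl, rfl⟩ := exists_common_chart hF hbe hae e
      have : Etale p.left := hpe
      have : Etale q.left := hqe
      exact isReduced_stalk_down q.left r (isReduced_stalk_up p.left r hv)
    exact isReduced_of_isReduced_stalk U.left

theorem ringKrullDim_zero_iff (R : Type u) [CommRing R] [IsLocalRing R] :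
    ringKrullDim R = 0 ↔ ∀ q : PrimeSpectrum R, q = IsLocalRing.closedPoint R := by
  constructor
  · intro h q
    have : Ring.KrullDimLE 0 R := (Order.krullDimLE_iff _ _).2 h.le
    have hq := Ideal.IsPrime.isMaximal' q.2
    exact PrimeSpectrum.ext (IsLocalRing.eq_maximalIdeal hq)
  · intro h
    have : Subsingleton (PrimeSpectrum R) := ⟨fun a b => (h a).trans (h b).symm⟩
    exact Order.krullDim_eq_zero

theorem dim_zero_down {A B : Scheme.{u}} (c : A ⟶ B) [Flat c] (x : A)
    (h : ringKrullDim ↥(A.presheaf.stalk x) = 0) : ringKrullDim ↥(B.presheaf.stalk (c x)) = 0 := by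
  letI := (c.stalkMap x).hom.toAlgebra
  have : Module.Flat (B.presheaf.stalk (c x)) (A.presheaf.stalk x) := Flat.stalkMap c x
  have : IsLocalHom (algebraMap (B.presheaf.stalk (c x)) (A.presheaf.stalk x)) :=
    inferInstanceAs (IsLocalHom (c.stalkMap x).hom)
  have : Module.FaithfullyFlat (B.presheaf.stalk (c x)) (A.presheaf.stalk x) :=
    Module.FaithfullyFlat.of_flat_of_isLocalHom
  rw [ringKrullDim_zero_iff] at h ⊢
  intro q
  obtain ⟨q', rfl⟩ := PrimeSpectrum.comap_surjective_of_faithfullyFlat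
    (A := B.presheaf.stalk (c x)) (B := A.presheaf.stalk x) q
  rw [h q', IsLocalRing.comap_closedPoint]

theorem dim_zero_up {A B : Scheme.{u}} (c : A ⟶ B) [Etale c] (x : A)
    (h : ringKrullDim ↥(B.presheaf.stalk (c x)) = 0) : ringKrullDim ↥(A.presheaf.stalk x) = 0 := by
  algebraize [(c.stalkMap x).hom]
  have : IsLocalHom (algebraMap (B.presheaf.stalk (c x)) (A.presheaf.stalk x)) :=
    inferInstanceAs (IsLocalHom (c.stalkMap x).hom)
  have : Algebra.EssFiniteType (B.presheaf.stalk (c x)) (A.presheaf.stalk x) := by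
    rw [← RingHom.essFiniteType_algebraMap, RingHom.algebraMap_toAlgebra]
    exact LocallyOfFiniteType.stalkMap c x
  have : Algebra.FormallyUnramified (B.presheaf.stalk (c x)) (A.presheaf.stalk x) := by
    rw [← RingHom.formallyUnramified_algebraMap, RingHom.algebraMap_toAlgebra]
    exact FormallyUnramified.stalkMap c x
  rw [ringKrullDim_zero_iff] at h ⊢
  intro q
  have h1 := congrArg PrimeSpectrum.asIdeal (h (PrimeSpectrum.comap (algebraMap (B.presheaf.stalk (c x))
    (A.presheaf.stalk x)) q))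
  refine PrimeSpectrum.ext (le_antisymm (IsLocalRing.le_maximalIdeal q.2.ne_top) ?_)
  show IsLocalRing.maximalIdeal _ ≤ q.asIdeal
  rw [← Algebra.FormallyUnramified.map_maximalIdeal (R := B.presheaf.stalk (c x)), Ideal.map_le_iff_le_comap]
  exact h1.ge

theorem hasAt_dim_zero_map (hF : IsAlgSpace F) (hG : IsAlgSpace G) (f : F ⟶ G) (hf : LocP @Flat f)
    {x : Points F} (hx : HasAt (fun U u => ringKrullDim ↥(U.presheaf.stalk u) = 0) F x) :
    HasAt (fun U u => ringKrullDim ↥(U.presheaf.stalk u) = 0) G (Points.map f x) := by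
  obtain ⟨U, a, u, hae, rfl, hu⟩ := hx
  obtain ⟨V, b, hbe, hbs⟩ := hG.atlas
  obtain ⟨U', a', k, hae', has', w⟩ := exists_chart_over hF hG f b hbe hbs
  obtain ⟨u', hu'⟩ := surjective_ofPt a' has' (Points.ofPt a u)
  obtain ⟨R, p, q, r, hpe, hqe, hr1, hr2⟩ := exists_common_chart hF hae hae' hu'.symm
  subst hr1 hr2
  have : Etale p.left := hpe
  have : Etale q.left := hqe
  have : Flat k.left := hf a' b k hae' hbe w
  refine ⟨V, b, k.left (q.left r), hbe, ?_, dim_zero_down k.left _
    (dim_zero_down q.left r (dim_zero_up p.left r hu))⟩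
  rw [← ofPt_map, ← w, ← Points.map_ofPt, hu', Points.map_ofPt]

end Groth.Agent.AlgSpLib
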