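import Groth.Agent.AlgSpLib.Filtration
import Groth.Agent.AlgSpLib.LocP
import Groth.Agent.AlgSpLib.EtLocalInst
import Groth.Agent.AlgSpLib.LargestOpen
import Groth.Agent.AlgSpLib.PointsCompact
import Groth.Agent.Stk19b.RedInd
import Groth.Agent.Stk19b.ZarQs
import Groth.Prelude.Def_AlgSpEt
import Groth.Prelude.Def_AlgSpSub

/-!
The induction principle along elementary distinguished squares for quasi-compact and
quasi-separated algebraic spaces.
-/

set_option autoImplicit false

universe u

open CategoryTheory CategoryTheory.Limits AlgebraicGeometry Opposite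
open AlgSp

noncomputable section

namespace Groth.Agent.AlgSpLib.Induct

open Groth.Agent.AlgSpLib

set_option backward.isDefEq.respectTransparency.types false
set_option backward.isDefEq.respectTransparency false

variable {S : Scheme.{u}}

theorem repWith_etale {F G : Sp S} {j : F ⟶ G} (hj : RepWith @IsOpenImmersion j) : RepWith @Etale j :=
  RepWith.mono (fun _ _ f (_ : IsOpenImmersion f) => (inferInstance : Etale f)) hj

theorem isEtaleMor_of_openImm {F G : Sp S} (hF : IsAlgSpace F) (hG : IsAlgSpace G) {j : F ⟶ G}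
    (hj : RepWith @IsOpenImmersion j) : IsEtaleMor j :=
  (isEtaleMor_iff_locP etLocal_etale hF hG j).2 (locP_of_repWith etLocal_etale hF (repWith_etale hj))

theorem isEtaleMor_comp {F G H : Sp S} (hF : IsAlgSpace F) (hG : IsAlgSpace G) (hH : IsAlgSpace H)
    {f : F ⟶ G} {g : G ⟶ H} (hf : IsEtaleMor f) (hg : IsEtaleMor g) : IsEtaleMor (f ≫ g) :=
  (isEtaleMor_iff_locP etLocal_etale hF hH _).2 (locP_comp etLocal_etale hF hG hH
    ((isEtaleMor_iff_locP etLocal_etale hF hG f).1 hf) ((isEtaleMor_iff_locP etLocal_etale hG hH g).1 hg))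

theorem mono_openImm {F G : Sp S} {j : F ⟶ G} (hj : RepWith @IsOpenImmersion j) : Mono j :=
  mono_of_repWith (fun _ _ g (_ : IsOpenImmersion g) => (inferInstance : Mono g)) hj

/-- open immersions with the same points are isomorphic -/
theorem exists_iso_of_range_eq {A B W : Sp S} {a : A ⟶ W} {b : B ⟶ W} (ha : RepWith @IsOpenImmersion a)
    (hb : RepWith @IsOpenImmersion b) (h : Set.range (Points.map a) = Set.range (Points.map b)) :
    ∃ e : A ≅ B, e.hom ≫ b = a := by
  have := mono_openImm ha
  have := mono_openImm hb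
  obtain ⟨l, hl⟩ := (exists_lift_iff_range_subset hb a).2 h.subset
  obtain ⟨m, hm⟩ := (exists_lift_iff_range_subset ha b).2 h.symm.subset
  exact ⟨⟨l, m, by rw [← cancel_mono a, Category.assoc, hm, hl, Category.id_comp],
    by rw [← cancel_mono b, Category.assoc, hl, hm, Category.id_comp]⟩, hl⟩

theorem isOpen_range_map {F G : Sp S} (hF : IsAlgSpace F) {j : F ⟶ G} (hj : RepWith @IsOpenImmersion j) :
    IsOpen (Set.range (Points.map j)) := by
  obtain ⟨U, p, he, hs⟩ := hF.atlas
  have hr : Set.range (Points.map j) = Set.range (Points.ofPt (p ≫ j)) := by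
    ext y
    constructor
    · rintro ⟨x, rfl⟩
      obtain ⟨u, rfl⟩ := surjective_ofPt p hs x
      exact ⟨u, (Points.map_ofPt p j u).symm⟩
    · rintro ⟨u, rfl⟩
      exact ⟨Points.ofPt p u, Points.map_ofPt p j u⟩
  rw [hr]
  exact (isOpenMap_ofPt _ (RepWith.comp he (repWith_etale hj))).isOpen_range

theorem isQuasiCompactSp_openImm {F G : Sp S} (hF : IsAlgSpace F) (hG : IsAlgSpace G) {j : F ⟶ G}
    (hj : RepWith @IsOpenImmersion j) (h : IsCompact (Set.range (Points.map j))) : IsQuasiCompactSp F := by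
  refine (isQuasiCompactSp_iff_compactSpace hF).2 ⟨?_⟩
  have he := (isEmbedding_map_of_immersion hG
    (RepWith.mono (fun _ _ f (_ : IsOpenImmersion f) => (inferInstance : IsImmersion f)) hj)).1
  rw [he.isCompact_iff, Set.image_univ]
  exact h

theorem isCompact_range_map {F G : Sp S} (hF : IsQuasiCompactSp F) (j : F ⟶ G) :
    IsCompact (Set.range (Points.map j)) :=
  have := compactSpace_points_of_isQuasiCompactSp hF
  isCompact_range (Points.continuous_map j)

theorem range_map_yon {V : Over S} {F : Sp S} (f : (yon S).obj V ⟶ F) :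
    Set.range (Points.map f) = Set.range (Points.ofPt f) := by
  ext x
  constructor
  · rintro ⟨z, rfl⟩
    obtain ⟨v, rfl⟩ := (Points.schemeEquiv V).surjective z
    exact ⟨v, Points.ofPt_eq_map_ofScheme f v⟩
  · rintro ⟨v, rfl⟩
    exact ⟨_, (Points.ofPt_eq_map_ofScheme f v).symm⟩

/-- a space without points is an affine scheme -/
theorem exists_affine_of_isEmpty {F : Sp S} (hF : IsAlgSpace F) (h : IsEmpty (Points F)) :
    ∃ T : Over S, IsAffine T.left ∧ Nonempty ((yon S).obj T ≅ F) := by
  obtain ⟨U, p, he, hs⟩ := hF.atlas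
  have : IsEmpty ↥U.left := ⟨fun u => h.false (Points.ofPt p u)⟩
  refine ⟨U, inferInstance, ⟨@asIso _ _ _ _ p (isIso_of_repWith_isomorphisms ⟨he.1, fun T A g fst snd sq => ?_⟩)⟩⟩
  show IsIso snd.left
  have : Etale snd.left := he.property _ _ _ sq
  have : IsEmpty ↥T.left := ⟨fun t => h.false (Points.ofPt g t)⟩
  have : IsEmpty ↥A.left := Function.isEmpty snd.left
  exact (isIso_iff_isOpenImmersion_and_epi_base _).2 ⟨inferInstance, (TopCat.epi_iff_surjective _).2
    fun t => isEmptyElim t⟩

/-- at most one lift of a geometric point outside `O` -/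
def Uniq {F : Sp S} (O : Set (Points F)) {V : Over S} (f : (yon S).obj V ⟶ F) : Prop :=
  ∀ (Ω : Type u) [Field Ω] [IsAlgClosed Ω] (str : Spec (CommRingCat.of Ω) ⟶ S) (v v' : Over.mk str ⟶ V),
    (yon S).map v ≫ f = (yon S).map v' ≫ f → ptOfHom ((yon S).map v ≫ f) ∉ O → v = v'

theorem Uniq.mono {F : Sp S} {O O' : Set (Points F)} {V : Over S} {f : (yon S).obj V ⟶ F}
    (h : Uniq O f) (hle : O ⊆ O') : Uniq O' f := fun Ω _ _ str v v' e hn => h Ω str v v' e fun hm => hn (hle hm)

theorem Uniq.comp_mono {F : Sp S} {O : Set (Points F)} {V V' : Over S} {f : (yon S).obj V ⟶ F}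
    (h : Uniq O f) (i : V' ⟶ V) [Mono i] : Uniq O ((yon S).map i ≫ f) := fun Ω _ _ str v v' e hn => by
  rw [← cancel_mono i]
  refine h Ω str (v ≫ i) (v' ≫ i) ?_ ?_
  · simpa only [Functor.map_comp, Category.assoc] using e
  · simpa only [Functor.map_comp, Category.assoc] using hn

theorem uniq_of_mono {F : Sp S} (O : Set (Points F)) {V : Over S} (f : (yon S).obj V ⟶ F) [Mono f] :
    Uniq O f := fun _ _ _ _ _ _ e _ => (yon S).map_injective ((cancel_mono f).1 e)

/-- the criterion for elementary distinguished squares with a scheme as etale part -/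
theorem isElemDistSq_of_uniq {U W : AlgSp.Space S} (j : U ⟶ W) (hj : RepWith @IsOpenImmersion j.hom)
    {V : Over S} (f : (yon S).obj V ⟶ W.obj) (hf : RepWith @Etale f)
    (hcov : ∀ x, x ∉ Set.range (Points.map j.hom) → x ∈ Set.range (Points.ofPt f))
    (hu : Uniq (Set.range (Points.map j.hom)) f) : IsElemDistSq j.hom f := by
  refine ⟨hj, isEtaleMor_of_repWith _ hf, ?_⟩
  obtain ⟨T, i, hi⟩ := Stk19b.RedInd.exists_isRedInduced W (Set.range (Points.map j.hom))ᶜ
    (isClosed_compl_iff.2 (isOpen_range_map U.property hj))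
  have sq := IsPullback.of_hasPullback i.hom f
  refine ⟨T.obj, pullback i.hom f, i.hom, pullback.fst _ _, pullback.snd _ _, hi, sq, ?_⟩
  have hfste : RepWith @Etale (pullback.fst i.hom f) := RepWith.baseChange sq.flip hf
  refine isIso_of_repWith_isomorphisms ⟨hfste.1, fun Q T' g b c sqb => ?_⟩
  show IsIso c.left
  have : Etale c.left := hfste.property _ _ _ sqb
  have hsurj : Function.Surjective (Points.map (pullback.fst i.hom f)) := fun t => by
    have ht : Points.map i.hom t ∈ (Set.range (Points.map j.hom))ᶜ := hi.2.1.subset ⟨t, rfl⟩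
    obtain ⟨v, hv⟩ := hcov _ ht
    rw [Points.ofPt_eq_map_ofScheme] at hv
    obtain ⟨z, hz, -⟩ := exists_point_of_isPullback sq hv.symm
    exact ⟨z, hz⟩
  have : Surjective c.left := (repWith_surjective_of_surjective_map hfste.1 hsurj).property _ _ _ sqb
  have : Surjective (pullback.diagonal c.left) := ⟨fun z => by
    obtain ⟨h, hh⟩ := FlatMorWeight.exists_geomPt z
    let z₁ := h ≫ pullback.fst c.left c.left
    let z₂ := h ≫ pullback.snd c.left c.left
    let G₁ := geomHom z₁
    let G₂ : Over.mk (z₁ ≫ T'.hom) ⟶ T' := Over.homMk z₂ (by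
      show (h ≫ pullback.snd c.left c.left) ≫ T'.hom = (h ≫ pullback.fst c.left c.left) ≫ T'.hom
      rw [Category.assoc, Category.assoc, ← Over.w c, pullback.condition_assoc])
    have ec : G₁ ≫ c = G₂ ≫ c := Over.OverMorphism.ext (by
      show (h ≫ _) ≫ c.left = (h ≫ _) ≫ c.left
      rw [Category.assoc, Category.assoc, pullback.condition])
    obtain ⟨v₁, hv₁⟩ := (yon S).map_surjective ((yon S).map G₁ ≫ b ≫ pullback.snd _ _)
    obtain ⟨v₂, hv₂⟩ := (yon S).map_surjective ((yon S).map G₂ ≫ b ≫ pullback.snd _ _)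
    have eb : (yon S).map G₁ ≫ b ≫ pullback.fst _ _ = (yon S).map G₂ ≫ b ≫ pullback.fst i.hom f := by
      rw [sqb.w, ← Functor.map_comp_assoc (yon S) G₁ c g, ← Functor.map_comp_assoc (yon S) G₂ c g, ec]
    have hv : (yon S).map v₁ ≫ f = (yon S).map v₂ ≫ f := by
      rw [hv₁, hv₂]
      simp only [Category.assoc, ← sq.w, reassoc_of% eb]
    have hnot : ptOfHom ((yon S).map v₁ ≫ f) ∉ Set.range (Points.map j.hom) := by
      have hT : ptOfHom ((yon S).map v₁ ≫ f) ∈ Set.range (Points.map i.hom) :=
        ⟨ptOfHom ((yon S).map G₁ ≫ b ≫ pullback.fst i.hom f), by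
          rw [map_ptOfHom, hv₁]; simp only [Category.assoc, sq.w]⟩
      exact hi.2.1.subset hT
    have hveq := hu _ _ v₁ v₂ hv hnot
    have hb : (yon S).map G₁ ≫ b = (yon S).map G₂ ≫ b := by
      refine sq.hom_ext (by simpa only [Category.assoc] using eb) ?_
      exact (Category.assoc _ _ _).trans (hv₁.symm.trans ((congrArg (yon S).map hveq).trans
        (hv₂.trans (Category.assoc _ _ _).symm)))
    have hG : G₁ = G₂ := (yon S).map_injective (sqb.hom_ext hb
      (by rw [← Functor.map_comp, ← Functor.map_comp, ec]))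
    have hz : z₁ = z₂ := congrArg (fun k : Over.mk (z₁ ≫ T'.hom) ⟶ T' => k.left) hG
    refine ⟨FlatMorWeight.pt z₁, ?_⟩
    refine ((FlatMorWeight.pt_comp z₁ _).symm.trans ?_).trans hh
    refine congrArg FlatMorWeight.pt (pullback.hom_ext ?_ ?_)
    · rw [Category.assoc, pullback.diagonal_fst, Category.comp_id]
    · rw [Category.assoc, pullback.diagonal_snd, Category.comp_id, hz]⟩
  have : IsIso (pullback.diagonal c.left) := (isIso_iff_isOpenImmersion_and_epi_base _).2
    ⟨inferInstance, (TopCat.epi_iff_surjective _).2 (pullback.diagonal c.left).surjective⟩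
  have : Mono c.left := (pullback.isIso_diagonal_iff c.left).1 this
  have := IsOpenImmersion.of_flat_of_mono c.left
  exact (isIso_iff_isOpenImmersion_and_epi_base _).2
    ⟨inferInstance, (TopCat.epi_iff_surjective _).2 c.left.surjective⟩

/-- the open immersion of an open subscheme -/
def opHom (V : Over S) (O : V.left.Opens) : Over.mk (O.ι ≫ V.hom) ⟶ V := Over.homMk O.ι

instance (V : Over S) (O : V.left.Opens) : Mono (opHom V O) :=
  have : Mono ((Over.forget S).map (opHom V O)) := inferInstanceAs (Mono O.ι)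
  (Over.forget S).mono_of_mono_map this

theorem repWith_opHom (V : Over S) (O : V.left.Opens) :
    RepWith @IsOpenImmersion ((yon S).map (opHom V O)) :=
  (repWith_yon_map_iff (P := @IsOpenImmersion) _).2 (inferInstanceAs (IsOpenImmersion O.ι))

theorem range_opHom_comp {F : Sp S} {V : Over S} (O : V.left.Opens) (f : (yon S).obj V ⟶ F) :
    Set.range (Points.ofPt ((yon S).map (opHom V O) ≫ f)) = Points.ofPt f '' (O : Set V.left) := by
  ext x
  constructor
  · rintro ⟨v, rfl⟩
    exact ⟨(opHom V O).left v, (v : ↥O).2, (ofPt_map (opHom V O) f v).symm⟩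
  · rintro ⟨v, hv, rfl⟩
    let w : ↥(Over.mk (O.ι ≫ V.hom)).left := (⟨v, hv⟩ : ↥O)
    exact ⟨w, ofPt_map (opHom V O) f w⟩

/-- Induction over the open compact subsets of a quasi-compact and quasi-separated space. -/
theorem opens_induction [QuasiSeparatedSpace ↥S] (X : AlgSp.Space S) (hc : IsQuasiCompactSp X.obj)
    (hs : IsQuasiSeparatedSp X.obj) (Q : Set (Points X.obj) → Prop) (h0 : Q ∅)
    (hstep : ∀ (O : Set (Points X.obj)) (V : Over S) (f : (yon S).obj V ⟶ X.obj), IsAffine V.left →
      RepWith @Etale f → IsOpen O → IsCompact O → Uniq O f → Q O → Q (O ∪ Set.range (Points.ofPt f))) :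
    Q Set.univ := by
  classical
  have := compactSpace_points_of_isQuasiCompactSp hc
  obtain ⟨U, a, hU, ha, has⟩ := exists_affine_chart X.property
  have haq := repWith_qc_chart X.property hs a
  obtain ⟨t, ht⟩ := (yon S).map_surjective (haq.1.fst a)
  have sqR : IsPullback ((yon S).map t) ((yon S).map (haq.1.snd a)) a a := ht ▸ haq.1.isPullback a
  have : QuasiCompact (haq.1.snd a).left := haq.property_snd a
  have : CompactSpace ↥(haq.1.pullback a).left := QuasiCompact.compactSpace_of_compactSpace (haq.1.snd a).left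
  obtain ⟨N, hN⟩ := exists_bound_manyLifts X.property a ha sqR
  suffices h : ∀ d n, n + d = N → IsOpen (manyLifts a (n + 1)) ∧ IsCompact (manyLifts a (n + 1)) ∧
      Q (manyLifts a (n + 1)) by
    have h1 := (h N 0 (zero_add N)).2.2
    rwa [manyLifts_one a has] at h1
  intro d
  induction d with
  | zero =>
    intro n hn
    obtain rfl : n = N := by omega
    rw [hN]
    exact ⟨isOpen_empty, isCompact_empty, h0⟩
  | succ d ih =>
    intro n hn
    obtain ⟨io, ic, iQ⟩ := ih (n + 1) (by omega)
    obtain ⟨V, f, hf, -, hVc, hr, huniq⟩ := exists_unorderedTuples X.property a ha n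
    have := hVc haq
    have ho := hr ▸ (isOpenMap_ofPt f hf).isOpen_range
    have hcp := hr ▸ isCompact_range (Points.continuous_ofPt f)
    refine ⟨ho, hcp, ?_⟩
    obtain ⟨σ, hσ⟩ := isCompact_univ.elim_finite_subcover (fun i : V.left.affineOpens => (i.1 : Set V.left))
      (fun i => i.1.2) (fun x _ => by
        obtain ⟨_, ⟨A, hA, rfl⟩, hx, -⟩ :=
          V.left.isBasis_affineOpens.exists_subset_of_mem_open (Set.mem_univ x) isOpen_univ
        exact Set.mem_iUnion.2 ⟨⟨A, hA⟩, hx⟩)
    have hu0 : Uniq (manyLifts a (n + 2)) f := fun Ω _ _ str v v' e hn' =>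
      huniq Ω str _ hn' v v' rfl e.symm
    suffices H : ∀ s : Finset V.left.affineOpens,
        IsOpen (manyLifts a (n + 2) ∪ ⋃ i ∈ s, Points.ofPt f '' (i.1 : Set V.left)) ∧
        IsCompact (manyLifts a (n + 2) ∪ ⋃ i ∈ s, Points.ofPt f '' (i.1 : Set V.left)) ∧
        Q (manyLifts a (n + 2) ∪ ⋃ i ∈ s, Points.ofPt f '' (i.1 : Set V.left)) by
      have e : manyLifts a (n + 2) ∪ ⋃ i ∈ σ, Points.ofPt f '' (i.1 : Set V.left) = manyLifts a (n + 1) := by
        have e2 : ⋃ i ∈ σ, Points.ofPt f '' (i.1 : Set V.left) = Set.range (Points.ofPt f) := by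
          rw [← Set.image_iUnion₂, ← Set.image_univ]
          exact congrArg _ (Set.eq_univ_of_univ_subset hσ)
        rw [e2, hr]
        exact Set.union_eq_self_of_subset_left (manyLifts_succ_subset a (n + 1))
      exact e ▸ (H σ).2.2
    intro s
    induction s using Finset.induction_on with
    | empty => simpa using ⟨io, ic, iQ⟩
    | insert i s _ ihs =>
      obtain ⟨so, sc, sQ⟩ := ihs
      rw [Finset.set_biUnion_insert, Set.union_left_comm, Set.union_comm]
      have : IsAffine (Over.mk (i.1.ι ≫ V.hom)).left := i.2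
      have hfi : RepWith @Etale ((yon S).map (opHom V i.1) ≫ f) :=
        RepWith.comp (repWith_etale (repWith_opHom V i.1)) hf
      refine ⟨so.union (isOpenMap_ofPt f hf _ i.1.2),
        sc.union (i.2.isCompact.image (Points.continuous_ofPt f)), ?_⟩
      rw [← range_opHom_comp i.1 f]
      exact hstep _ _ _ this hfi so sc ((hu0.mono Set.subset_union_left).comp_mono _) sQ

/-- the preimage of a compact open under a chart is compact -/
theorem isCompact_preimage [QuasiSeparatedSpace ↥S] {F : Sp S} (hF : IsAlgSpace F) (hs : IsQuasiSeparatedSp F)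
    {V : Over S} [IsAffine V.left] (f : (yon S).obj V ⟶ F) {O : Set (Points F)} (hOo : IsOpen O)
    (hOc : IsCompact O) : IsCompact (Points.map f ⁻¹' O) := by
  have hal := isAlgSpace_openSubspace hF hOo
  have hj := repWith_openSubspaceι F hOo
  have hq : IsQuasiCompactSp (openSubspace F O) :=
    isQuasiCompactSp_openImm hal hF hj ((range_openSubspaceι F O).symm ▸ hOc)
  have := compactSpace_points_of_isQuasiCompactSp hq
  obtain ⟨B, b, hB, hbe, hbs⟩ := exists_affine_chart hal
  have hfq := repWith_qc_chart hF hs f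
  let b' := b ≫ openSubspaceι F O
  have sq := hfq.1.isPullback b'
  have : QuasiCompact (hfq.1.snd b').left := hfq.property_snd b'
  have : CompactSpace ↥(hfq.1.pullback b').left :=
    QuasiCompact.compactSpace_of_compactSpace (hfq.1.snd b').left
  have hb' : Set.range (Points.ofPt b') = O := by
    rw [← range_openSubspaceι F O]
    ext x
    constructor
    · rintro ⟨u, rfl⟩
      exact ⟨Points.ofPt b u, Points.map_ofPt b _ u⟩
    · rintro ⟨z, rfl⟩
      obtain ⟨u, rfl⟩ := surjective_ofPt b hbs z
      exact ⟨u, (Points.map_ofPt b _ u).symm⟩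
  have e : Points.map f ⁻¹' O = Set.range (Points.ofPt (hfq.1.fst b')) := by
    ext z
    constructor
    · intro hz
      obtain ⟨u, hu⟩ := hb'.symm.subset hz
      rw [Points.ofPt_eq_map_ofScheme] at hu
      obtain ⟨w, hw, -⟩ := exists_point_of_isPullback sq hu.symm
      obtain ⟨r, rfl⟩ := (Points.schemeEquiv _).surjective w
      exact ⟨r, (Points.ofPt_eq_map_ofScheme _ r).trans hw⟩
    · rintro ⟨r, rfl⟩
      refine hb'.subset ⟨(hfq.1.snd b').left r, ?_⟩
      rw [Points.map_ofPt, sq.w, ofPt_map]
  rw [e]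
  exact isCompact_range (Points.continuous_ofPt _)

section Site

variable {X : AlgSp.Space S}

/-- an object over an object of the site -/
def obj {W : EtSpOver X} {F : AlgSp.Space S} (φ : F ⟶ W.obj.left) (hφ : IsEtaleMor φ.hom) : EtSpOver X :=
  ⟨Over.mk (φ ≫ W.obj.hom), isEtaleMor_comp F.property W.obj.left.property X.property hφ W.property⟩

/-- the structure morphism -/
def objHom {W : EtSpOver X} {F : AlgSp.Space S} (φ : F ⟶ W.obj.left) (hφ : IsEtaleMor φ.hom) :
    obj φ hφ ⟶ W :=
  ObjectProperty.homMk (Over.homMk φ rfl)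

/-- morphisms over `X` from lifts -/
theorem exists_hom {W U V : EtSpOver X} (k : U ⟶ W) (m : V ⟶ W) (l : U.obj.left.obj ⟶ V.obj.left.obj)
    (h : l ≫ m.hom.left.hom = k.hom.left.hom) : ∃ q : U ⟶ V, q.hom.left.hom = l := by
  have h' : (ObjectProperty.homMk l : U.obj.left ⟶ V.obj.left) ≫ m.hom.left = k.hom.left :=
    ObjectProperty.hom_ext _ h
  exact ⟨ObjectProperty.homMk (Over.homMk (ObjectProperty.homMk l)
    (by rw [← Over.w m.hom, ← Category.assoc, h', Over.w k.hom])), rfl⟩

/-- the open subobject -/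
theorem exists_open_obj (W : EtSpOver X) {O : Set (Points W.obj.left.obj)} (hO : IsOpen O) :
    ∃ (U : EtSpOver X) (k : U ⟶ W), RepWith @IsOpenImmersion k.hom.left.hom ∧
      Set.range (Points.map k.hom.left.hom) = O := by
  let F : AlgSp.Space S := ⟨openSubspace W.obj.left.obj O, isAlgSpace_openSubspace W.obj.left.property hO⟩
  let φ : F ⟶ W.obj.left := ObjectProperty.homMk (openSubspaceι _ O)
  exact ⟨_, objHom φ (isEtaleMor_of_openImm F.property W.obj.left.property (repWith_openSubspaceι _ hO)),
    repWith_openSubspaceι _ hO, range_openSubspaceι _ O⟩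

/-- a scheme etale over an object -/
theorem exists_scheme_obj (W : EtSpOver X) {V : Over S} (f : (yon S).obj V ⟶ W.obj.left.obj)
    (hf : RepWith @Etale f) :
    ∃ (E : EtSpOver X) (g : E ⟶ W) (e : (yon S).obj V ≅ E.obj.left.obj), e.hom ≫ g.hom.left.hom = f :=
  let φ : (AlgSp.ofScheme S).obj V ⟶ W.obj.left := ObjectProperty.homMk f
  ⟨_, objHom φ (isEtaleMor_of_repWith f hf), Iso.refl _, Category.id_comp _⟩

/-- one step along an elementary distinguished square -/
theorem step (B P : EtSpOver X → Prop)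
    (h2 : ∀ (W U : EtSpOver X) (j : U ⟶ W), B W → RepWith @IsOpenImmersion j.hom.left.hom →
      IsQuasiCompactSp U.obj.left.obj → B U)
    (h3 : ∀ (V : EtSpOver X) (T : Over S), IsAffine T.left →
      Nonempty ((yon S).obj T ≅ V.obj.left.obj) → B V ∧ P V)
    (h4 : ∀ (W U V UV : EtSpOver X) (j : U ⟶ W) (f : V ⟶ W) (p : UV ⟶ U) (q : UV ⟶ V),
      B W → IsQuasiCompactSp U.obj.left.obj →
      (∃ T : Over S, IsAffine T.left ∧ Nonempty ((yon S).obj T ≅ V.obj.left.obj)) →
      IsElemDistSq j.hom.left.hom f.hom.left.hom →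
      IsPullback p.hom.left.hom q.hom.left.hom j.hom.left.hom f.hom.left.hom →
      P U → P V → P UV → P W)
    {W : EtSpOver X} (hW : B W) {W' : EtSpOver X} (m : W' ⟶ W) (hm : RepWith @IsOpenImmersion m.hom.left.hom)
    {O : Set (Points W.obj.left.obj)} (hOo : IsOpen O) (hOc : IsCompact O)
    {V : Over S} [IsAffine V.left] (f : (yon S).obj V ⟶ W.obj.left.obj) (hf : RepWith @Etale f)
    (hr : Set.range (Points.map m.hom.left.hom) = O ∪ Set.range (Points.ofPt f)) (hu : Uniq O f)
    (hPO : ∀ (U : EtSpOver X) (k : U ⟶ W), RepWith @IsOpenImmersion k.hom.left.hom →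
      Set.range (Points.map k.hom.left.hom) = O → P U)
    (hPUV : ∀ (E : EtSpOver X) (g : E ⟶ W) (e : (yon S).obj V ≅ E.obj.left.obj),
      e.hom ≫ g.hom.left.hom = f → ∀ (U : EtSpOver X) (k : U ⟶ E), RepWith @IsOpenImmersion k.hom.left.hom →
      Set.range (Points.map k.hom.left.hom) = Points.map g.hom.left.hom ⁻¹' O → P U) : P W' := by
  have hWc : IsQuasiCompactSp W'.obj.left.obj :=
    isQuasiCompactSp_openImm W'.obj.left.property W.obj.left.property hm
      (hr ▸ hOc.union (isCompact_range (Points.continuous_ofPt f)))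
  have hW' : B W' := h2 W W' m hW hm hWc
  have := mono_openImm hm
  have hmi := injective_map_of_mono m.hom.left.hom
  obtain ⟨f', hf'⟩ := (exists_lift_iff_range_subset hm f).2 (by
    rw [range_map_yon, hr]; exact Set.subset_union_right)
  have hf'e : RepWith @Etale f' := repWith_of_comp_mono f' m.hom.left.hom (hf'.symm ▸ hf)
  let O' := Points.map m.hom.left.hom ⁻¹' O
  obtain ⟨U, j, hj, hjr⟩ := exists_open_obj W' (hOo.preimage (Points.continuous_map m.hom.left.hom) : IsOpen O')
  have hjm : RepWith @IsOpenImmersion (j ≫ m).hom.left.hom := RepWith.comp hj hm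
  have hjmr : Set.range (Points.map (j ≫ m).hom.left.hom) = O := by
    have e : Points.map (j ≫ m).hom.left.hom = Points.map m.hom.left.hom ∘ Points.map j.hom.left.hom :=
      funext fun x => Points.map_comp _ _ x
    rw [e, Set.range_comp, hjr, Set.image_preimage_eq_inter_range, hr,
      Set.inter_eq_left.2 Set.subset_union_left]
  have hUc : IsQuasiCompactSp U.obj.left.obj :=
    isQuasiCompactSp_openImm U.obj.left.property W.obj.left.property hjm (hjmr.symm ▸ hOc)
  obtain ⟨E, g', e, he⟩ := exists_scheme_obj W' f' hf'e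
  have hg : e.hom ≫ (g' ≫ m).hom.left.hom = f := by
    show e.hom ≫ g'.hom.left.hom ≫ m.hom.left.hom = f
    rw [← Category.assoc, he, hf']
  obtain ⟨UV, q, hq, hqr⟩ := exists_open_obj E
    ((hOo.preimage (Points.continuous_map (g' ≫ m).hom.left.hom)))
  have hqm := mono_openImm hq
  obtain ⟨l, hl⟩ := (exists_lift_iff_range_subset hj (q ≫ g').hom.left.hom).2 (by
    rw [hjr]
    rintro _ ⟨z, rfl⟩
    have hz : Points.map q.hom.left.hom z ∈ Points.map (g' ≫ m).hom.left.hom ⁻¹' O := hqr.subset ⟨z, rfl⟩
    show Points.map m.hom.left.hom (Points.map (q.hom.left.hom ≫ g'.hom.left.hom) z) ∈ O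
    rw [Points.map_comp, ← Points.map_comp g'.hom.left.hom m.hom.left.hom]
    exact hz)
  obtain ⟨p, rfl⟩ := exists_hom (q ≫ g') j l hl
  have := mono_openImm hj
  have sq : IsPullback p.hom.left.hom q.hom.left.hom j.hom.left.hom g'.hom.left.hom := by
    refine isPullback_of_yon hl fun T x y exy => ?_
    obtain ⟨r, hr'⟩ := (exists_lift_iff_range_subset hq y).2 (by
      rw [hqr]
      rintro _ ⟨z, rfl⟩
      show Points.map (g'.hom.left.hom ≫ m.hom.left.hom) (Points.map y z) ∈ O
      rw [Points.map_comp, ← Points.map_comp y g'.hom.left.hom, ← exy, Points.map_comp]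
      exact hjr.subset ⟨_, rfl⟩)
    refine ⟨r, ⟨(cancel_mono j.hom.left.hom).1 ?_, hr'⟩, fun r' h => (cancel_mono q.hom.left.hom).1 (h.2.trans hr'.symm)⟩
    rw [Category.assoc, hl, exy, ← hr', Category.assoc]
    rfl
  have hsq : IsElemDistSq j.hom.left.hom g'.hom.left.hom := by
    have hcov : ∀ x, x ∉ Set.range (Points.map j.hom.left.hom) → x ∈ Set.range (Points.ofPt f') := fun x hx => by
      rw [hjr] at hx
      rcases hr.subset ⟨x, rfl⟩ with h | ⟨v, hv⟩
      · exact absurd h hx
      · exact ⟨v, hmi (by rw [Points.map_ofPt, hf', hv])⟩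
    have hu' : Uniq (Set.range (Points.map j.hom.left.hom)) f' := fun Ω _ _ str v v' ev hn => by
      refine hu Ω str v v' (by rw [← hf', ← Category.assoc, ev, Category.assoc]) fun h => hn ?_
      rw [hjr]
      show Points.map m.hom.left.hom _ ∈ O
      rw [map_ptOfHom, Category.assoc, hf']
      exact h
    have h0 := isElemDistSq_of_uniq j.hom.left hj f' hf'e hcov hu'
    have he' : g'.hom.left.hom = e.inv ≫ f' := (Iso.eq_inv_comp e).2 he
    obtain ⟨h1, h2', T, Q, i, p₁, p₂, hi, hsqQ, hiso⟩ := h0
    refine ⟨h1, ?_, T, Q, i, p₁, p₂ ≫ e.hom, hi, ?_, hiso⟩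
    · rw [he']
      refine isEtaleMor_comp E.obj.left.property (IsAlgSpace.yon_obj V) W'.obj.left.property ?_ h2'
      exact isEtaleMor_of_openImm E.obj.left.property (IsAlgSpace.yon_obj V) (repWith_of_isIso _ _)
    · exact IsPullback.of_iso hsqQ (Iso.refl _) (Iso.refl _) e (Iso.refl _) (by simp) (by simp) (by simp)
        (by simp [he])
  have hE := h3 E V ‹_› ⟨e⟩
  exact h4 W' U E UV j g' p q hW' hUc ⟨V, ‹_›, ⟨e⟩⟩ hsq sq (hPO U (j ≫ m) hjm hjmr) hE.2
    (hPUV E (g' ≫ m) e hg UV q hq hqr)

/-- the induction principle for families -/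
theorem family_induction [QuasiSeparatedSpace ↥S] (B P : EtSpOver X → Prop)
    (h1 : ∀ W, B W → IsQuasiCompactSp W.obj.left.obj ∧ IsQuasiSeparatedSp W.obj.left.obj)
    (h2 : ∀ (W U : EtSpOver X) (j : U ⟶ W), B W → RepWith @IsOpenImmersion j.hom.left.hom →
      IsQuasiCompactSp U.obj.left.obj → B U)
    (h3 : ∀ (V : EtSpOver X) (T : Over S), IsAffine T.left →
      Nonempty ((yon S).obj T ≅ V.obj.left.obj) → B V ∧ P V)
    (h4 : ∀ (W U V UV : EtSpOver X) (j : U ⟶ W) (f : V ⟶ W) (p : UV ⟶ U) (q : UV ⟶ V),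
      B W → IsQuasiCompactSp U.obj.left.obj →
      (∃ T : Over S, IsAffine T.left ∧ Nonempty ((yon S).obj T ≅ V.obj.left.obj)) →
      IsElemDistSq j.hom.left.hom f.hom.left.hom →
      IsPullback p.hom.left.hom q.hom.left.hom j.hom.left.hom f.hom.left.hom →
      P U → P V → P UV → P W) :
    ∀ W, B W → P W := by
  classical
  -- quasi-compact opens of affine objects
  have aff : ∀ (E : EtSpOver X) (A : Over S), IsAffine A.left → ((yon S).obj A ≅ E.obj.left.obj) →
      ∀ (U : EtSpOver X) (k : U ⟶ E), RepWith @IsOpenImmersion k.hom.left.hom →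
      IsCompact (Set.range (Points.map k.hom.left.hom)) → P U := by
    intro E A hA e U k hk hkc
    have hBE := (h3 E A hA ⟨e⟩).1
    let c := Points.ofPt e.hom
    have hce : RepWith @IsOpenImmersion e.hom := repWith_of_isIso _ _
    have hci : Function.Injective c := fun x y h => by
      refine (Points.schemeEquiv A).injective (injective_map_of_mono e.hom ?_)
      exact (Points.ofPt_eq_map_ofScheme _ x).symm.trans (h.trans (Points.ofPt_eq_map_ofScheme _ y))
    have hcs : Function.Surjective c := surjective_ofPt e.hom (repWith_of_isIso _ _)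
    have H : ∀ (s : Finset A.left.affineOpens) (C : A.left.affineOpens) (U : EtSpOver X) (k : U ⟶ E),
        RepWith @IsOpenImmersion k.hom.left.hom →
        Set.range (Points.map k.hom.left.hom) = c '' ((⋃ i ∈ s, (i.1 : Set A.left)) ∩ C.1) → P U := by
      intro s
      induction s using Finset.induction_on with
      | empty =>
        intro C U k hk hkr
        simp only [Finset.notMem_empty, Set.iUnion_of_empty, Set.iUnion_empty, Set.empty_inter,
          Set.image_empty, Set.range_eq_empty_iff] at hkr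
        obtain ⟨T, hT, hT'⟩ := exists_affine_of_isEmpty U.obj.left.property hkr
        exact (h3 U T hT hT').2
      | insert i s _ ih =>
        intro C U k hk hkr
        let D : A.left.affineOpens := ⟨i.1 ⊓ C.1, i.2.inf C.2⟩
        have : IsAffine (Over.mk (D.1.ι ≫ A.hom)).left := D.2
        let f := (yon S).map (opHom A D.1) ≫ e.hom
        have hfo : RepWith @IsOpenImmersion f := RepWith.comp (repWith_opHom A D.1) hce
        have := mono_openImm hfo
        have hfr : Set.range (Points.ofPt f) = c '' D.1 := range_opHom_comp D.1 e.hom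
        have hOopen : IsOpen (c '' ((⋃ i ∈ s, (i.1 : Set A.left)) ∩ C.1)) :=
          isOpenMap_ofPt e.hom (repWith_etale hce) _ ((isOpen_biUnion fun i _ => i.1.2).inter C.1.2)
        refine step B P h2 h3 h4 hBE k hk hOopen ?_ f (repWith_etale hfo) ?_ (uniq_of_mono _ f)
          (fun U' k' hk' hr' => ih C U' k' hk' hr') fun E' g e' heg U' k' hk' hr' => ?_
        · refine IsCompact.image ?_ (Points.continuous_ofPt e.hom)
          rw [Set.iUnion₂_inter]
          exact s.finite_toSet.isCompact_biUnion fun j _ => (j.2.inf C.2).isCompact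
        · rw [hkr, hfr, Finset.set_biUnion_insert, Set.union_inter_distrib_right, Set.image_union, Set.union_comm]
          rfl
        · have hg : RepWith @IsOpenImmersion g.hom.left.hom := by
            rw [show g.hom.left.hom = e'.inv ≫ f from (Iso.eq_inv_comp e').2 heg]
            exact RepWith.comp (repWith_of_isIso _ _) hfo
          refine ih D U' (k' ≫ g) (RepWith.comp hk' hg) ?_
          have ecomp : Points.map (k' ≫ g).hom.left.hom = Points.map g.hom.left.hom ∘ Points.map k'.hom.left.hom :=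
            funext fun x => Points.map_comp _ _ x
          have hgr : Set.range (Points.map g.hom.left.hom) = c '' D.1 := by
            rw [← hfr, ← range_map_yon f, ← heg]
            ext x
            constructor
            · rintro ⟨z, rfl⟩
              exact ⟨Points.map e'.inv z, by rw [← Points.map_comp, Iso.inv_hom_id_assoc]⟩
            · rintro ⟨z, rfl⟩
              exact ⟨_, (Points.map_comp e'.hom g.hom.left.hom z).symm⟩
          rw [ecomp, Set.range_comp, hr', Set.image_preimage_eq_inter_range, hgr, ← Set.image_inter hci]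
          congr 1
          ext x
          exact ⟨fun h => ⟨h.1.1, h.2⟩, fun h => ⟨⟨h.1, h.2.2⟩, h.2⟩⟩
    obtain ⟨R, hR⟩ : ∃ R, c '' R = Set.range (Points.map k.hom.left.hom) :=
      ⟨_, Set.image_preimage_eq _ hcs⟩
    have hRo : IsOpen R := by
      rw [← Set.preimage_image_eq R hci, hR]
      exact (isOpen_range_map U.obj.left.property hk).preimage (Points.continuous_ofPt e.hom)
    have hRc : IsCompact R := by
      have he : Topology.IsEmbedding c := by
        have hc' : c = Points.map e.hom ∘ (Points.schemeHomeo A) := funext fun x => Points.ofPt_eq_map_ofScheme _ x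
        rw [hc']
        exact (isEmbedding_map_of_immersion E.obj.left.property (repWith_of_isIso _ _)).1.comp
          (Points.schemeHomeo A).isEmbedding
      exact he.isCompact_iff.2 (hR.symm ▸ hkc)
    obtain ⟨σ, hσ⟩ := hRc.elim_finite_subcover (fun i : {i : A.left.affineOpens // (i.1 : Set A.left) ⊆ R} =>
      (i.1.1 : Set A.left)) (fun i => i.1.1.2) (fun x hx => by
        obtain ⟨_, ⟨D, hD, rfl⟩, hxD, hle⟩ := A.left.isBasis_affineOpens.exists_subset_of_mem_open hx hRo
        exact Set.mem_iUnion.2 ⟨⟨⟨D, hD⟩, hle⟩, hxD⟩)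
    refine H (σ.image Subtype.val) ⟨⊤, isAffineOpen_top A.left⟩ U k hk ?_
    rw [← hR]
    congr 1
    refine Set.Subset.antisymm (fun x hx => ⟨?_, trivial⟩) ?_
    · obtain ⟨i, hi, hx'⟩ := Set.mem_iUnion₂.1 (hσ hx)
      exact Set.mem_iUnion₂.2 ⟨i.1, Finset.mem_image.2 ⟨i, hi, rfl⟩, hx'⟩
    · rintro x ⟨hx, -⟩
      obtain ⟨i, hi, hx'⟩ := Set.mem_iUnion₂.1 hx
      obtain ⟨i', -, rfl⟩ := Finset.mem_image.1 hi
      exact i'.2 hx'
  intro W hW
  obtain ⟨hWc, hWs⟩ := h1 W hW
  have key := opens_induction W.obj.left hWc hWs (fun O => ∀ (U : EtSpOver X) (k : U ⟶ W),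
    RepWith @IsOpenImmersion k.hom.left.hom → Set.range (Points.map k.hom.left.hom) = O → P U) ?_ ?_
  · exact key W (𝟙 W) (repWith_of_isIso _ _)
      (Set.range_eq_univ.2 fun x => ⟨x, Points.map_id x⟩)
  · intro U k hk hr
    obtain ⟨T, hT, hT'⟩ := exists_affine_of_isEmpty U.obj.left.property (Set.range_eq_empty_iff.1 hr)
    exact (h3 U T hT hT').2
  · intro O V f hV hf hOo hOc hu hQ U k hk hr
    refine step B P h2 h3 h4 hW k hk hOo hOc f hf hr hu hQ fun E g e heg U' k' hk' hr' => ?_
    refine aff E V hV e U' k' hk' (hr'.symm ▸ ?_)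
    have hc := isCompact_preimage W.obj.left.property hWs f hOo hOc
    have : Points.map g.hom.left.hom ⁻¹' O = Points.map e.hom '' (Points.map f ⁻¹' O) := by
      rw [← heg]
      ext z
      constructor
      · intro hz
        refine ⟨Points.map e.inv z, ?_, ?_⟩
        · show Points.map (e.hom ≫ g.hom.left.hom) (Points.map e.inv z) ∈ O
          rw [← Points.map_comp, Iso.inv_hom_id_assoc]
          exact hz
        · rw [← Points.map_comp, Iso.inv_hom_id, Points.map_id]
      · rintro ⟨y, hy, rfl⟩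
        show Points.map g.hom.left.hom (Points.map e.hom y) ∈ O
        rw [← Points.map_comp]
        exact hy
    rw [this]
    exact hc.image (Points.continuous_map _)

end Site

end Groth.Agent.AlgSpLib.Induct
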