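import Groth.Agent.AlgSpLib.FppfSpace
import Groth.Agent.EGA43.Limit.Basic
import Mathlib.RingTheory.Flat.Basic

/-!
Flat, locally of finite type, locally of finite presentation descend along surjections of fppf
sheaves on the source.
-/

universe u

open CategoryTheory CategoryTheory.Limits AlgebraicGeometry
open AlgSp

noncomputable section

namespace Groth.Agent.AlgSpLib

set_option backward.isDefEq.respectTransparency.types false

/-- `R → A` is flat if `R → A → B` is flat and `A → B` has a retraction up to isomorphism. -/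
theorem ringHom_flat_of_retract {R A B A' : Type u} [CommRing R] [CommRing A] [CommRing B]
    [CommRing A'] (φ : R →+* A) (ψ : A →+* B) (σ : B →+* A')
    (hb : Function.Bijective (σ.comp ψ)) (h : (ψ.comp φ).Flat) : φ.Flat := by
  let e := RingEquiv.ofBijective (σ.comp ψ) hb
  let r : B →+* A := e.symm.toRingHom.comp σ
  have hr : ∀ x, r (ψ x) = x := fun x => e.symm_apply_apply x
  algebraize [φ, ψ, ψ.comp φ]
  have hfl : Module.Flat R B := h
  let r' : B →ₐ[R] A := { r with commutes' := fun x => hr (φ x) }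
  rw [← RingHom.algebraMap_toAlgebra φ, RingHom.flat_algebraMap_iff]
  exact Module.Flat.of_retract (IsScalarTower.toAlgHom R A B).toLinearMap r'.toLinearMap
    (LinearMap.ext hr)

variable {W Q B : Scheme.{u}}

theorem flat_of_retract (s : W ⟶ Q) (p : Q ⟶ W) (hs : s ≫ p = 𝟙 W) (m : W ⟶ B)
    (h : Flat (p ≫ m)) : Flat m := by
  rw [Flat.iff_flat_stalkMap] at h ⊢
  intro w
  obtain ⟨w, rfl⟩ : ∃ w', w = p (s w') := ⟨w, by
    rw [← Scheme.Hom.comp_apply, hs]; rfl⟩
  have h1 := h (s w)
  rw [Scheme.Hom.stalkMap_comp] at h1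
  have : IsIso ((s ≫ p).stalkMap w) := by rw [hs]; infer_instance
  have hb : IsIso (p.stalkMap (s w) ≫ s.stalkMap w) := by rwa [← Scheme.Hom.stalkMap_comp]
  exact ringHom_flat_of_retract _ (p.stalkMap (s w)).hom (s.stalkMap w).hom
    (ConcreteCategory.bijective_of_isIso (p.stalkMap (s w) ≫ s.stalkMap w)) h1

theorem lft_of_retract (s : W ⟶ Q) (p : Q ⟶ W) (hs : s ≫ p = 𝟙 W) (m : W ⟶ B)
    (h : LocallyOfFiniteType (p ≫ m)) : LocallyOfFiniteType m := by
  have : LocallyOfFiniteType (s ≫ p) := by rw [hs]; infer_instance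
  have := locallyOfFiniteType_of_comp s p
  have e : m = s ≫ (p ≫ m) := by rw [← Category.assoc, hs, Category.id_comp]
  rw [e]
  infer_instance

theorem lfp_of_retract (s : W ⟶ Q) (p : Q ⟶ W) (hs : s ≫ p = 𝟙 W) (m : W ⟶ B)
    (h : LocallyOfFinitePresentation (p ≫ m)) : LocallyOfFinitePresentation m := by
  have : LocallyOfFiniteType m := lft_of_retract s p hs m inferInstance
  have := EGA43.Limit.locallyOfFinitePresentation_of_comp p m
  have : LocallyOfFinitePresentation (s ≫ p) := by rw [hs]; infer_instance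
  have := EGA43.Limit.locallyOfFinitePresentation_of_comp s p
  have e : m = s ≫ (p ≫ m) := by rw [← Category.assoc, hs, Category.id_comp]
  rw [e]
  infer_instance

variable {S : Scheme.{u}} {X Y Z : Sp S} {P : MorphismProperty Scheme.{u}}

/-- a morphism onto `Y` which is surjective as a map of sheaves lifts fppf locally -/
theorem exists_fppf_lift (g : X ⟶ Y) (hg : Sheaf.IsLocallySurjective g) {U : Over S}
    (a : (yon S).obj U ⟶ Y) (x : U.left) :
    ∃ (W : Over S) (c : W ⟶ U), Flat c.left ∧ LocallyOfFinitePresentation c.left ∧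
      x ∈ Set.range c.left ∧ ∃ t : (yon S).obj W ⟶ X, t ≫ g = (yon S).map c ≫ a := by
  obtain ⟨R', hR', hle⟩ := exists_precoverage_of_mem (T := U)
    (R := Presheaf.imageSieve g.hom (GrothendieckTopology.uliftYonedaEquiv.{u + 1} (J S) a))
    (Presheaf.imageSieve_mem (J S) g.hom _)
  rw [Scheme.fppfPrecoverage_eq_inf] at hR'
  obtain ⟨E, rfl⟩ := R'.exists_eq_preZeroHypercover
  have h1 := (Scheme.presieve₀_mem_precoverage_iff E).1 hR'.1
  have h2 := (Scheme.presieve₀_mem_precoverage_iff E).1 hR'.2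
  obtain ⟨i, y, hy⟩ := h1.1 x
  exact ⟨Over.mk (E.f i ≫ U.hom), Over.homMk (E.f i), h1.2 i, h2.2 i, ⟨y, hy⟩,
    (imageSieve_iff g a _).1 (hle _ (Presieve.ofArrows.mk i))⟩

theorem locP_of_comp_of_isLocallySurjective (hP : EtLocal P)
    (hle : (@Flat ⊓ @LocallyOfFinitePresentation : MorphismProperty Scheme.{u}) ≤ P)
    (hPs : ∀ {ι : Type u} {A : ι → Scheme.{u}} {B : Scheme.{u}} (k : ∀ i, A i ⟶ B),
      (∀ i, P (k i)) → P (Sigma.desc k))
    (hd : ∀ {A' A B : Scheme.{u}} (c : A' ⟶ A) (k : A ⟶ B), Flat c →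
      LocallyOfFinitePresentation c → Surjective c → P (c ≫ k) → P k)
    (hr : ∀ {W Q B : Scheme.{u}} (s : W ⟶ Q) (p : Q ⟶ W), s ≫ p = 𝟙 W → ∀ m : W ⟶ B,
      P (p ≫ m) → P m)
    (hX : IsAlgSpace X) (hY : IsAlgSpace Y) (g : X ⟶ Y) (hg : Sheaf.IsLocallySurjective g)
    {h : Y ⟶ Z} (hP' : LocP P (g ≫ h)) : LocP P h := by
  have := hP.comp
  intro U V a b l ha hb w
  choose W c hcf hcp hcs t ht using exists_fppf_lift g hg a
  let π : (∐ fun x => (W x).left) ⟶ U.left := Sigma.desc fun x => (c x).left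
  refine hd π l.left (IsZariskiLocalAtSource.sigmaDesc hcf) (IsZariskiLocalAtSource.sigmaDesc hcp)
    ⟨fun x => ?_⟩ ?_
  · obtain ⟨y, hy⟩ := hcs x
    exact ⟨Sigma.ι (fun x => (W x).left) x y, by
      rw [← Scheme.Hom.comp_apply, Sigma.ι_desc]; exact hy⟩
  · rw [show π ≫ l.left = Sigma.desc fun x => (c x).left ≫ l.left from
      Sigma.hom_ext _ _ fun x => by simp [π]]
    refine hPs _ fun x => ?_
    have sqQ := IsPullback.of_hasPullback g a
    have hQ : IsAlgSpace (pullback g a) :=
      isAlgSpace_of_isPullback hY.diag hX (IsAlgSpace.yon_obj U) sqQ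
    obtain ⟨X', e, hee, hes⟩ := hQ.atlas
    obtain ⟨k, hk⟩ := (yon S).map_surjective (e ≫ pullback.snd g a)
    have hPk : P (k.left ≫ l.left) := by
      rw [← Over.comp_left]
      refine hP' (e ≫ pullback.fst g a) b (k ≫ l) (RepWith.comp hee (RepWith.baseChange sqQ.flip ha))
        hb ?_
      rw [Category.assoc, ← Category.assoc (pullback.fst g a), pullback.condition, Category.assoc, w,
        ← Category.assoc e, ← hk, ← Category.assoc, ← Functor.map_comp]
    let s : (yon S).obj (W x) ⟶ pullback g a := sqQ.lift (t x) ((yon S).map (c x)) (ht x)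
    have he := hQ.representable_from_yon e
    have sq := he.isPullback' s
    have hπe : Etale (he.snd s).left := hee.property_snd s
    have hπs : Surjective (he.snd s).left := hes.property _ _ _ (he.isPullback s)
    have hcomp : he.fst' s ≫ k = he.snd s ≫ c x := (yon S).map_injective (by
      rw [Functor.map_comp, hk, ← Category.assoc, sq.w, Category.assoc, sqQ.lift_snd,
        Functor.map_comp])
    refine hP.descend (he.snd s).left _ hπe hπs ?_
    let c' := (he.snd s).left ≫ (c x).left
    have : Flat c' := MorphismProperty.comp_mem _ _ _ (etale_le_flat _ _ _ hπe) (hcf x)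
    have : LocallyOfFinitePresentation c' :=
      MorphismProperty.comp_mem _ _ _ (etale_le_lfp _ _ _ hπe) (hcp x)
    rw [← Category.assoc]
    refine hr (pullback.lift (f := k.left) (g := c') (he.fst' s).left (𝟙 _) ?_) (pullback.snd k.left c')
      (pullback.lift_snd _ _ _) _ ?_
    · rw [← Over.comp_left, hcomp, Over.comp_left, Category.id_comp]
    · rw [← Category.assoc, ← pullback.condition, Category.assoc]
      exact MorphismProperty.comp_mem _ _ _ (hle _ ⟨inferInstance, inferInstance⟩) hPk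

end Groth.Agent.AlgSpLib
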