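import Groth.Agent.AbCubeLib.EffCartierCompl

/-!
# The reduced complement of an affine open is an effective Cartier divisor at factorial points

The variant of `AbCubeLib.exists_effCartier_compl` (whose proof this follows) naming the ideal sheaf.
-/

set_option autoImplicit false
set_option backward.isDefEq.respectTransparency false

universe u

open CategoryTheory AlgebraicGeometry Opposite TopologicalSpace
open Groth.Agent.AbCubeLib

namespace Groth.Agent.AlgSpLib

variable {X : Scheme.{u}}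

/-- The vanishing ideal of the complement of a dense affine open is an effective Cartier ideal, the local rings
outside being factorial. -/
theorem isEffCartier_vanishingIdeal_compl [IsLocallyNoetherian X]
    (hΔ : ∀ V W : X.Opens, IsAffineOpen V → IsAffineOpen W → IsAffineOpen (V ⊓ W)) {U : X.Opens}
    (hU : IsAffineOpen U) (hdense : Dense (U : Set X))
    (hufd : ∀ x : X, x ∉ U → IsDomain (X.presheaf.stalk x) ∧ UniqueFactorizationMonoid (X.presheaf.stalk x)) :
    BlowUp.IsEffCartierIdeal (Scheme.IdealSheafData.vanishingIdeal ⟨(U : Set X)ᶜ, U.isOpen.isClosed_compl⟩) := by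
  classical
  let Z : Closeds X := ⟨(U : Set X)ᶜ, U.isOpen.isClosed_compl⟩
  show BlowUp.IsEffCartierIdeal (Scheme.IdealSheafData.vanishingIdeal Z)
  intro x
  by_cases hxU : x ∈ U
  · obtain ⟨W, hW, hxW, hWU⟩ := exists_isAffineOpen_mem_and_subset (x := x) (U := U) hxU
    refine ⟨⟨W, hW⟩, hxW, 1, Submonoid.one_mem _, ?_⟩
    rw [Scheme.IdealSheafData.vanishingIdeal_ideal, show hW.fromSpec ⁻¹' (Z : Set X) = ∅ from
      Set.eq_empty_of_forall_notMem fun q hq => hq (hWU (hW.range_fromSpec.le ⟨q, rfl⟩)),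
      PrimeSpectrum.vanishingIdeal_empty, Ideal.span_singleton_one]
  obtain ⟨hdom, hfac⟩ := hufd x hxU
  obtain ⟨W, hxW, hW, -, hdomW⟩ := UfdExt24.exists_domain_nhd (X := X) (x := x) (V := ⊤) trivial
  let R : Type u := Γ(X, W)
  have : IsNoetherianRing Γ(X, W) := IsLocallyNoetherian.component_noetherian ⟨W, hW⟩
  let A : CommRingCat.{u} := X.presheaf.stalk x
  let _ := X.presheaf.algebra_section_stalk (⟨x, hxW⟩ : W)
  have hloc := hW.isLocalization_stalk ⟨x, hxW⟩
  let p := (hW.primeIdealOf ⟨x, hxW⟩).asIdeal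
  let φ : Γ(X, W) →+* X.presheaf.stalk x := algebraMap Γ(X, W) (X.presheaf.stalk x)
  let j : Spec A ⟶ X := Spec.map (X.presheaf.germ W x hxW) ≫ hW.fromSpec
  let V : (Spec A).Opens := j ⁻¹ᵁ U
  have hVaff : IsAffineOpen V := by
    have h1 : IsAffineOpen (hW.fromSpec ⁻¹ᵁ (U ⊓ W)) :=
      (hΔ U W hU hW).preimage_of_isOpenImmersion hW.fromSpec
        (inf_le_right.trans (SetLike.coe_subset_coe.1 hW.range_fromSpec.ge))
    have h2 : hW.fromSpec ⁻¹ᵁ (U ⊓ W) = hW.fromSpec ⁻¹ᵁ U :=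
      Opens.ext (Set.ext fun q => ⟨fun h => h.1, fun h => ⟨h, hW.range_fromSpec.le ⟨q, rfl⟩⟩⟩)
    exact (h2 ▸ h1).preimage (Spec.map (X.presheaf.germ W x hxW))
  have hφinj : Function.Injective φ :=
    IsLocalization.injective (X.presheaf.stalk x) p.primeCompl_le_nonZeroDivisors
  have hVne : (V : Set (Spec A)).Nonempty := by
    obtain ⟨z, hzW, hzU⟩ := hdense.inter_open_nonempty (W : Set X) W.isOpen ⟨x, hxW⟩
    obtain ⟨q, rfl⟩ := hW.range_fromSpec.ge hzW
    refine ⟨(⊥ : PrimeSpectrum A), ?_⟩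
    show hW.fromSpec (Spec.map (X.presheaf.germ W x hxW) (⊥ : PrimeSpectrum A)) ∈ U
    have hbot : Spec.map (X.presheaf.germ W x hxW) (⊥ : PrimeSpectrum A) = (⊥ : PrimeSpectrum Γ(X, W)) := by
      refine PrimeSpectrum.ext ?_
      show Ideal.comap (X.presheaf.germ W x hxW).hom (⊥ : Ideal A) = ⊥
      exact (RingHom.injective_iff_ker_eq_bot φ).1 hφinj
    rw [hbot]
    have hq : (⊥ : PrimeSpectrum Γ(X, W)) ⤳ q := (PrimeSpectrum.le_iff_specializes _ _).1 bot_le
    exact hq.mem_open (hW.fromSpec ⁻¹ᵁ U).isOpen hzU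
  obtain ⟨f, hf0, hrad, hVf⟩ := exists_eq_basicOpen_of_affine_spec A hVaff hVne
  let J : Ideal Γ(X, W) := (Scheme.IdealSheafData.vanishingIdeal Z).ideal ⟨W, hW⟩
  have hJ : ∀ q : PrimeSpectrum Γ(X, W), J ≤ q.asIdeal ↔ hW.fromSpec q ∉ U := by
    intro q
    have hcl : IsClosed (hW.fromSpec ⁻¹' (Z : Set X)) := Z.isClosed.preimage hW.fromSpec.continuous
    have h1 : q ∈ PrimeSpectrum.zeroLocus (J : Set Γ(X, W)) ↔ q ∈ hW.fromSpec ⁻¹' (Z : Set X) := by
      show q ∈ PrimeSpectrum.zeroLocus (((Scheme.IdealSheafData.vanishingIdeal Z).ideal ⟨W, hW⟩ : Ideal Γ(X, W)) : Set Γ(X, W)) ↔ _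
      rw [Scheme.IdealSheafData.vanishingIdeal_ideal, PrimeSpectrum.zeroLocus_vanishingIdeal_eq_closure,
        hcl.closure_eq]
    exact h1
  have hQV : ∀ Q : PrimeSpectrum A, Q ∉ V ↔ J ≤ Q.asIdeal.comap φ := fun Q =>
    ((hJ (Spec.map (X.presheaf.germ W x hxW) Q)).symm)
  have hmemV : ∀ Q : PrimeSpectrum A, Q ∉ V ↔ f ∈ Q.asIdeal := fun Q => by
    rw [show (Q ∈ V ↔ Q ∈ (V : Set (Spec A))) from Iff.rfl, hVf]
    exact not_not
  -- numerator of the generator
  obtain ⟨⟨r, s₀⟩, hrs⟩ := IsLocalization.surj p.primeCompl f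
  have hs₀ : IsUnit (φ s₀.1) := IsLocalization.map_units (X.presheaf.stalk x) s₀
  have hfr : ∀ z : A, f ∣ z ↔ φ r ∣ z := fun z => by
    rw [← show f * φ s₀.1 = φ r from hrs, hs₀.mul_right_dvd]
  have hdiv : ∀ g ∈ J, f ∣ φ g := fun g hg => by
    have h1 : φ g ∈ (Ideal.span {f}).radical := by
      rw [Ideal.radical_eq_sInf]
      refine Submodule.mem_sInf.2 fun Q ⟨hQ, hQp⟩ => ?_
      exact (hQV ⟨Q, hQp⟩).1 ((hmemV ⟨Q, hQp⟩).2 (hQ (Ideal.mem_span_singleton_self f))) hg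
    obtain ⟨n, hn⟩ := h1
    exact hrad _ n (Ideal.mem_span_singleton.1 hn)
  obtain ⟨t, ht, htr⟩ : ∃ t ∉ p, t * r ∈ J := by
    have h1 : f ∈ (J.map φ).radical := by
      rw [Ideal.radical_eq_sInf]
      refine Submodule.mem_sInf.2 fun Q ⟨hQ, hQp⟩ => ?_
      exact (hmemV ⟨Q, hQp⟩).1 ((hQV ⟨Q, hQp⟩).2 (Ideal.map_le_iff_le_comap.1 hQ))
    have hJr : J.radical = J := by
      have : J.IsRadical := by
        show ((Scheme.IdealSheafData.vanishingIdeal Z).ideal ⟨W, hW⟩).IsRadical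
        rw [Scheme.IdealSheafData.vanishingIdeal_ideal]
        exact PrimeSpectrum.isRadical_vanishingIdeal _
      exact this.radical
    rw [← IsLocalization.map_radical p.primeCompl (X.presheaf.stalk x) J, hJr] at h1
    have h2 : φ r ∈ J.map φ := by rw [← show f * φ s₀.1 = φ r from hrs]; exact Ideal.mul_mem_right _ _ h1
    obtain ⟨⟨⟨a, ha⟩, t⟩, hat⟩ := (IsLocalization.mem_map_algebraMap_iff p.primeCompl (X.presheaf.stalk x)).1 h2
    refine ⟨t, t.2, ?_⟩
    rw [← hφinj (a₁ := r * t) (a₂ := a) (by rw [map_mul]; exact hat)] at ha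
    rwa [mul_comm]
  obtain ⟨G, hG⟩ := (isNoetherianRing_iff_ideal_fg _).1 inferInstance J
  have hgen : ∀ g ∈ G, ∃ s ∉ p, r ∣ s * g := fun g hg => by
    obtain ⟨z, hz⟩ := (hfr _).1 (hdiv g (hG ▸ Submodule.subset_span hg))
    obtain ⟨⟨c, s⟩, hcs⟩ := IsLocalization.surj p.primeCompl z
    refine ⟨s, s.2, c, hφinj ?_⟩
    rw [map_mul, map_mul, hz, ← show z * φ s = φ c from hcs]
    ring
  choose! sg hsg hdvd using hgen
  let s : Γ(X, W) := t * ∏ g ∈ G, sg g
  have hs : s ∉ p := fun h =>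
    (p.primeCompl.mul_mem (show t ∈ p.primeCompl from ht) (Submonoid.prod_mem p.primeCompl fun g hg => hsg g hg)) h
  have hxs : x ∈ X.basicOpen s :=
    (X.mem_basicOpen (U := W) s x hxW).2 (IsLocalization.map_units (X.presheaf.stalk x) (⟨s, hs⟩ : p.primeCompl))
  let ρ : Γ(X, W) →+* Γ(X, X.basicOpen s) := (X.presheaf.map (homOfLE (X.basicOpen_le s)).op).hom
  letI : Algebra Γ(X, W) Γ(X, X.basicOpen s) := ρ.toAlgebra
  have : IsLocalization.Away s Γ(X, X.basicOpen s) := hW.isLocalization_of_eq_basicOpen s _ rfl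
  have hs0 : s ≠ 0 := fun h => hs (h ▸ p.zero_mem)
  have hρs : IsUnit (ρ s) := IsLocalization.map_units Γ(X, X.basicOpen s) (⟨s, Submonoid.mem_powers s⟩ : Submonoid.powers s)
  have : IsDomain Γ(X, X.basicOpen s) :=
    IsLocalization.isDomain_of_le_nonZeroDivisors (R := Γ(X, W)) _ (powers_le_nonZeroDivisors_of_noZeroDivisors hs0)
  have hr0 : r ≠ 0 := fun h => hf0 (by
    have := hrs
    rw [h, map_zero] at this
    exact hs₀.mul_left_eq_zero.1 this)
  refine ⟨⟨X.basicOpen s, hW.basicOpen s⟩, hxs, ρ r, mem_nonZeroDivisors_of_ne_zero fun h => hr0 ?_, ?_⟩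
  · exact IsLocalization.injective Γ(X, X.basicOpen s) (powers_le_nonZeroDivisors_of_noZeroDivisors hs0)
      (h.trans (map_zero _).symm)
  · rw [← (Scheme.IdealSheafData.vanishingIdeal Z).map_ideal (U := ⟨X.basicOpen s, hW.basicOpen s⟩)
      (V := ⟨W, hW⟩) (X.basicOpen_le s)]
    refine le_antisymm ?_ ?_
    · show J.map ρ ≤ _
      rw [← hG, Ideal.map_span, Ideal.span_le]
      rintro _ ⟨g, hg, rfl⟩
      have hu : IsUnit (ρ (sg g)) :=
        isUnit_of_dvd_unit (map_dvd ρ ((Finset.dvd_prod_of_mem sg hg).trans (dvd_mul_left _ t))) hρs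
      show ρ g ∈ Ideal.span {ρ r}
      rw [Ideal.mem_span_singleton, ← hu.dvd_mul_left, ← map_mul]
      exact map_dvd ρ (hdvd g hg)
    · rw [Ideal.span_le, Set.singleton_subset_iff]
      have hu : IsUnit (ρ t) := isUnit_of_dvd_unit (map_dvd ρ (dvd_mul_right t _)) hρs
      show ρ r ∈ J.map ρ
      rw [← Ideal.unit_mul_mem_iff_mem _ hu, ← map_mul]
      exact Ideal.mem_map_of_mem ρ htr

end Groth.Agent.AlgSpLib
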