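import Groth.Agent.AlgSpLib.FlatFibre
import Groth.Agent.Desc19b.FlatOverBC

/-!
The flat locus of a morphism over a base and its base change.
-/

universe u

open CategoryTheory CategoryTheory.Limits AlgebraicGeometry
open AlgSp

noncomputable section

namespace Groth.Agent.AlgSpLib

set_option backward.isDefEq.respectTransparency.types false

/-- flatness over the base of a map of schemes over a base is insensitive to base change -/
theorem flat_stalkMap_iff_baseChange {U V W U' V' W' : Scheme.{u}} (h : U ⟶ V) (k : V ⟶ W) (ι : W' ⟶ W)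
    {pU : U' ⟶ U} {qU : U' ⟶ W'} (sqU : IsPullback pU qU (h ≫ k) ι)
    {pV : V' ⟶ V} {qV : V' ⟶ W'} (sqV : IsPullback pV qV k ι)
    (h' : U' ⟶ V') (w₁ : h' ≫ pV = pU ≫ h) (w₂ : h' ≫ qV = qU)
    [LocallyOfFiniteType k] [LocallyOfFinitePresentation (h ≫ k)] [Flat (h ≫ k)] (u' : ↥U') :
    (h'.stalkMap u').hom.Flat ↔ (h.stalkMap (pU u')).hom.Flat := by
  have sqh : IsPullback pU h' h pV := IsPullback.of_bot (by rw [w₂]; exact sqU) w₁.symm sqV
  refine ⟨fun H => ?_, fun H => ?_⟩
  swap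
  · have e : pV (h' u') = h (pU u') := by rw [← Scheme.Hom.comp_apply, w₁, Scheme.Hom.comp_apply]
    exact Desc19b.flat_stalkMap_baseChange pV pU h' h sqh.flip u' H
  let s' : ↥W' := qU u'
  let s : ↥W := ι s'
  let ρ : Spec (W'.residueField s') ⟶ Spec (W.residueField s) := Spec.map (ι.residueFieldMap s')
  have hρ : ρ ≫ W.fromSpecResidueField s = W'.fromSpecResidueField s' ≫ ι :=
    Scheme.Hom.SpecMap_residueFieldMap_fromSpecResidueField _ _
  have : Flat ρ := by
    let := (ι.residueFieldMap s').hom.toAlgebra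
    refine HasRingHomProperty.Spec_iff.2 ?_
    show Module.Flat (W.residueField s) (W'.residueField s')
    infer_instance
  let U'' := qU.fiber s'
  let V'' := qV.fiber s'
  let πU : U'' ⟶ (h ≫ k).fiber s := pullback.lift (qU.fiberι s' ≫ pU) (qU.fiberToSpecResidueField s' ≫ ρ) (by
    rw [Category.assoc, sqU.w, ← Category.assoc, Scheme.Hom.fiber_fac, Category.assoc, Category.assoc, hρ])
  let πV : V'' ⟶ k.fiber s := pullback.lift (qV.fiberι s' ≫ pV) (qV.fiberToSpecResidueField s' ≫ ρ) (by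
    rw [Category.assoc, sqV.w, ← Category.assoc, Scheme.Hom.fiber_fac, Category.assoc, Category.assoc, hρ])
  have hπU1 : πU ≫ (h ≫ k).fiberι s = qU.fiberι s' ≫ pU := pullback.lift_fst _ _ _
  have hπU2 : πU ≫ (h ≫ k).fiberToSpecResidueField s = qU.fiberToSpecResidueField s' ≫ ρ := pullback.lift_snd _ _ _
  have hπV1 : πV ≫ k.fiberι s = qV.fiberι s' ≫ pV := pullback.lift_fst _ _ _
  have hπV2 : πV ≫ k.fiberToSpecResidueField s = qV.fiberToSpecResidueField s' ≫ ρ := pullback.lift_snd _ _ _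
  have sqπU : IsPullback πU (qU.fiberToSpecResidueField s') ((h ≫ k).fiberToSpecResidueField s) ρ := by
    refine IsPullback.of_right (h₁₂ := (h ≫ k).fiberι s) ?_ hπU2 (IsPullback.of_hasPullback (h ≫ k) _)
    rw [hπU1, hρ]
    exact (IsPullback.of_hasPullback qU (W'.fromSpecResidueField s')).paste_horiz sqU
  have sqπV : IsPullback πV (qV.fiberToSpecResidueField s') (k.fiberToSpecResidueField s) ρ := by
    refine IsPullback.of_right (h₁₂ := k.fiberι s) ?_ hπV2 (IsPullback.of_hasPullback k _)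
    rw [hπV1, hρ]
    exact (IsPullback.of_hasPullback qV (W'.fromSpecResidueField s')).paste_horiz sqV
  have : Flat πU := MorphismProperty.of_isPullback (P := @Flat) sqπU.flip ‹Flat ρ›
  have : Flat πV := MorphismProperty.of_isPullback (P := @Flat) sqπV.flip ‹Flat ρ›
  let h'' : U'' ⟶ V'' := pullback.lift (qU.fiberι s' ≫ h') (qU.fiberToSpecResidueField s') (by
    rw [Category.assoc, w₂, Scheme.Hom.fiber_fac])
  have h1'' : h'' ≫ qV.fiberι s' = qU.fiberι s' ≫ h' := pullback.lift_fst _ _ _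
  have h2'' : h'' ≫ qV.fiberToSpecResidueField s' = qU.fiberToSpecResidueField s' := pullback.lift_snd _ _ _
  have sq'' : IsPullback (qU.fiberι s') h'' h' (qV.fiberι s') := by
    refine IsPullback.of_bot (v₂₁ := qV.fiberToSpecResidueField s') ?_ h1''.symm (IsPullback.of_hasPullback qV _)
    rw [h2'', w₂]
    exact IsPullback.of_hasPullback qU _
  let z'' : ↥U'' := qU.asFiber u'
  have hz : qU.fiberι s' z'' = u' := qU.fiberι_asFiber u'
  have h1 : (h''.stalkMap z'').hom.Flat := by
    refine Desc19b.flat_stalkMap_baseChange (qV.fiberι s') (qU.fiberι s') h'' h' sq''.flip z'' ?_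
    rw [hz]; exact H
  have m1 : EGA43.Cons.fibMap h k s ≫ k.fiberι s = (h ≫ k).fiberι s ≫ h := EGA43.Cons.fibMap_fiberι h k s
  have m2 : EGA43.Cons.fibMap h k s ≫ k.fiberToSpecResidueField s = (h ≫ k).fiberToSpecResidueField s :=
    pullback.lift_snd _ _ _
  have wπ : πU ≫ EGA43.Cons.fibMap h k s = h'' ≫ πV := by
    refine (IsPullback.of_hasPullback k (W.fromSpecResidueField s)).hom_ext ?_ ?_
    · exact (Category.assoc _ _ _).trans ((congrArg (πU ≫ ·) m1).trans ((Category.assoc _ _ _).symm.trans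
        ((congrArg (· ≫ h) hπU1).trans (Eq.trans (by simp only [Category.assoc, ← w₁, reassoc_of% h1''])
          ((congrArg (h'' ≫ ·) hπV1).symm.trans (Category.assoc _ _ _).symm)))))
    · exact (Category.assoc _ _ _).trans ((congrArg (πU ≫ ·) m2).trans (hπU2.trans (Eq.trans
        (by rw [← Category.assoc, h2'']) ((congrArg (h'' ≫ ·) hπV2).symm.trans (Category.assoc _ _ _).symm))))
  have h2 : ((πU ≫ EGA43.Cons.fibMap h k s).stalkMap z'').hom.Flat := by
    rw [wπ, Scheme.Hom.stalkMap_comp]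
    exact RingHom.Flat.comp (Flat.stalkMap πV (h'' z'')) h1
  rw [Desc19b.flat_stalkMap_comp_iff _ _ _ (Flat.stalkMap πU z''), EGA43.Cons.flat_stalkMap_fibMap_iff] at h2
  have e : (h ≫ k).fiberι s (πU z'') = pU u' := by
    rw [← Scheme.Hom.comp_apply, show πU ≫ (h ≫ k).fiberι s = qU.fiberι s' ≫ pU from pullback.lift_fst _ _ _,
      Scheme.Hom.comp_apply, hz]
  rw [e] at h2
  exact (EGA43.Cons.flat_stalkMap_of_isFibFlatMorAt h k (pU u') (Flat.stalkMap _ _) h2).1

variable {S : Scheme.{u}} {X Y Z X' Y' Z' : Sp S}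

theorem isOpen_flatLocus (hX : IsAlgSpace X) (hY : IsAlgSpace Y) {f : X ⟶ Y} {g : Y ⟶ Z} (C : Charts f g)
    [LocallyOfFiniteType C.k.left] [LocallyOfFinitePresentation (C.h.left ≫ C.k.left)] :
    IsOpen {x : Points X | IsFlatAtMor f x} := by
  have : LocallyOfFinitePresentation C.h.left :=
    EGA43.Limit.locallyOfFinitePresentation_of_comp C.h.left C.k.left
  have e : {x : Points X | IsFlatAtMor f x} =
      Points.ofPt C.a '' {u | (C.h.left.stalkMap u).hom.Flat} := by
    ext x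
    obtain ⟨u, rfl⟩ := surjective_ofPt C.a C.a_surj x
    have key := fun u => isFlatAtMor_iff hX hY f C.a C.b C.h C.a_etale C.b_etale C.wf u
    exact ⟨fun hx => ⟨u, (key u).1 hx, rfl⟩, fun ⟨v, hv, e⟩ => e ▸ (key v).2 hv⟩
  rw [e]
  exact isOpenMap_ofPt C.a C.a_etale _ (EGA43.FlatDescent.isOpen_flat_stalkMap C.h.left)

theorem flatLocus_baseChange (hX : IsAlgSpace X) (hY : IsAlgSpace Y) (hZ : IsAlgSpace Z)
    (hX' : IsAlgSpace X') (hY' : IsAlgSpace Y') (hZ' : IsAlgSpace Z') {f : X ⟶ Y} {g : Y ⟶ Z} (C : Charts f g)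
    [LocallyOfFiniteType C.k.left] [LocallyOfFinitePresentation (C.h.left ≫ C.k.left)]
    [Flat (C.h.left ≫ C.k.left)] {γ : Z' ⟶ Z} {f' : X' ⟶ Y'} {g' : Y' ⟶ Z'} {pX : X' ⟶ X} {pY : Y' ⟶ Y}
    (sq₁ : IsPullback pY g' g γ) (sq₂ : IsPullback pX f' f pY) :
    {x' : Points X' | IsFlatAtMor f' x'} = Points.map pX ⁻¹' {x | IsFlatAtMor f x} := by
  have sqW := IsPullback.of_hasPullback γ C.c
  obtain ⟨W', δ, hδe, hδs⟩ := (isAlgSpace_of_isPullback hZ.diag hZ' (IsAlgSpace.yon_obj C.W) sqW).atlas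
  obtain ⟨ι, hι⟩ := (yon S).map_surjective (δ ≫ pullback.snd γ C.c)
  let d := δ ≫ pullback.fst γ C.c
  have hde : RepWith @Etale d := RepWith.comp hδe (RepWith.baseChange sqW.flip C.c_etale)
  have hds : RepWith @Surjective d := RepWith.comp hδs (RepWith.baseChange sqW.flip C.c_surj)
  have hd : d ≫ γ = (yon S).map ι ≫ C.c := by
    rw [hι, Category.assoc, Category.assoc, pullback.condition]
  clear_value d
  have sqdY := IsPullback.of_hasPullback g' d
  have sqdX := IsPullback.of_hasPullback (f' ≫ g') d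
  have sqTY := sqdY.paste_horiz sq₁
  have sqTX := sqdX.paste_horiz (sq₂.paste_vert sq₁)
  rw [hd] at sqTY sqTX
  let U' : Over S := Over.mk (pullback.fst (C.h ≫ C.k).left ι.left ≫ C.U.hom)
  let pU : U' ⟶ C.U := Over.homMk (pullback.fst (C.h ≫ C.k).left ι.left)
  let qU : U' ⟶ W' := Over.homMk (pullback.snd (C.h ≫ C.k).left ι.left) (by
    show _ = pullback.fst (C.h ≫ C.k).left ι.left ≫ C.U.hom
    rw [← Over.w ι, ← Over.w (C.h ≫ C.k), pullback.condition_assoc])
  have sqU : IsPullback pU qU (C.h ≫ C.k) ι :=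
    IsPullback.of_map (Over.forget S) (Over.OverMorphism.ext pullback.condition)
      (IsPullback.of_hasPullback (C.h ≫ C.k).left ι.left)
  let V' : Over S := Over.mk (pullback.fst C.k.left ι.left ≫ C.V.hom)
  let pV : V' ⟶ C.V := Over.homMk (pullback.fst C.k.left ι.left)
  let qV : V' ⟶ W' := Over.homMk (pullback.snd C.k.left ι.left) (by
    show _ = pullback.fst C.k.left ι.left ≫ C.V.hom
    rw [← Over.w ι, ← Over.w C.k, pullback.condition_assoc])
  have sqV : IsPullback pV qV C.k ι :=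
    IsPullback.of_map (Over.forget S) (Over.OverMorphism.ext pullback.condition)
      (IsPullback.of_hasPullback C.k.left ι.left)
  obtain ⟨aT, hX1, hX2, hX3⟩ := exists_baseChange_chart C.ψX_snd sqU sqTX C.ψX_etale
  obtain ⟨aT', hX1', hX2', hXs⟩ := exists_baseChange_chart C.ψX_snd sqU sqTX C.ψX_surj
  obtain rfl : aT' = aT := sqTX.hom_ext (hX1'.trans hX1.symm) (hX2'.trans hX2.symm)
  obtain ⟨bT, hY1, hY2, hY3⟩ := exists_baseChange_chart C.ψY_snd sqV sqTY C.ψY_etale
  rw [C.ψX_fst] at hX1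
  rw [C.ψY_fst] at hY1
  let a' := aT' ≫ pullback.fst (f' ≫ g') d
  let b' := bT ≫ pullback.fst g' d
  let h' : U' ⟶ V' := sqV.lift (pU ≫ C.h) qU (by rw [Category.assoc]; exact sqU.w)
  have ha'X : a' ≫ pX = (yon S).map pU ≫ C.a := by rw [Category.assoc]; exact hX1
  have hw : a' ≫ f' = (yon S).map h' ≫ b' := by
    refine sq₁.hom_ext ?_ ?_
    · rw [Category.assoc, ← sq₂.w, ← Category.assoc, ha'X, Category.assoc, C.wf, ← Category.assoc,
        ← Functor.map_comp, Category.assoc, Category.assoc bT, hY1, ← Category.assoc, ← Functor.map_comp,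
        sqV.lift_fst]
    · rw [Category.assoc, Category.assoc aT', pullback.condition, ← Category.assoc, hX2, Category.assoc,
        Category.assoc bT, pullback.condition, ← Category.assoc bT, hY2, ← Category.assoc, ← Functor.map_comp,
        sqV.lift_snd]
  have ha'e : RepWith @Etale a' := RepWith.comp hX3 (RepWith.baseChange sqdX.flip hde)
  have ha's : RepWith @Surjective a' := RepWith.comp hXs (RepWith.baseChange sqdX.flip hds)
  have hb'e : RepWith @Etale b' := RepWith.comp hY3 (RepWith.baseChange sqdY.flip hde)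
  ext x'
  obtain ⟨u', rfl⟩ := surjective_ofPt a' ha's x'
  show IsFlatAtMor f' _ ↔ IsFlatAtMor f (Points.map pX _)
  rw [Points.map_ofPt, ha'X, ofPt_map, isFlatAtMor_iff hX' hY' f' a' b' h' ha'e hb'e hw u',
    isFlatAtMor_iff hX hY f C.a C.b C.h C.a_etale C.b_etale C.wf]
  have : LocallyOfFinitePresentation (C.h ≫ C.k).left :=
    inferInstanceAs (LocallyOfFinitePresentation (C.h.left ≫ C.k.left))
  exact flat_stalkMap_iff_baseChange C.h.left C.k.left ι.left (sqU.map (Over.forget S))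
    (sqV.map (Over.forget S)) h'.left (congrArg (fun t : U' ⟶ C.V => t.left) (sqV.lift_fst _ _ _))
    (congrArg (fun t : U' ⟶ W' => t.left) (sqV.lift_snd _ _ _)) u'

end Groth.Agent.AlgSpLib
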