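import Groth.Prelude.Def_AlgSpInf

/-!
Formal properties of formally smooth / etale / unramified morphisms of fppf sheaves.
-/

universe u

open CategoryTheory CategoryTheory.Limits AlgebraicGeometry
open AlgSp

noncomputable section

namespace Groth.Agent.AlgSpLib

variable {S : Scheme.{u}} {F G H P : Sp S}

theorem hasUniqLift_iff {f : F ⟶ G} (sq : InfSq f) : sq.HasUniqLift ↔ sq.HasLift ∧ sq.HasUniq := by
  constructor
  · rintro ⟨l, hl, hu⟩
    exact ⟨⟨l, hl⟩, fun l₁ l₂ h1 h2 h3 h4 => (hu l₁ ⟨h1, h2⟩).trans (hu l₂ ⟨h3, h4⟩).symm⟩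
  · rintro ⟨⟨l, hl⟩, hu⟩
    exact ⟨l, hl, fun l' hl' => hu l' l hl'.1 hl'.2 hl.1 hl.2⟩

theorem formallyEtale_iff (f : F ⟶ G) :
    IsFormallyEtaleMor f ↔ IsFormallySmoothMor f ∧ IsFormallyUnramifiedMor f :=
  ⟨fun h => ⟨fun sq => ((hasUniqLift_iff sq).1 (h sq)).1, fun sq => ((hasUniqLift_iff sq).1 (h sq)).2⟩,
    fun h sq => (hasUniqLift_iff sq).2 ⟨h.1 sq, h.2 sq⟩⟩

theorem isFormallyUnramifiedMor_comp {a : F ⟶ G} {b : G ⟶ H} (ha : IsFormallyUnramifiedMor a)
    (hb : IsFormallyUnramifiedMor b) : IsFormallyUnramifiedMor (a ≫ b) := by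
  intro sq l l' h1 h2 h3 h4
  have e : l ≫ a = l' ≫ a := hb
    { A := sq.A, I := sq.I, sq_zero := sq.sq_zero, str := sq.str, top := sq.top ≫ a, bot := sq.bot
      comm := by rw [Category.assoc]; exact sq.comm }
    (l ≫ a) (l' ≫ a) ((Category.assoc _ _ _).symm.trans (congrArg (· ≫ a) h1))
    ((Category.assoc _ _ _).trans h2) ((Category.assoc _ _ _).symm.trans (congrArg (· ≫ a) h3))
    ((Category.assoc _ _ _).trans h4)
  exact ha
    { A := sq.A, I := sq.I, sq_zero := sq.sq_zero, str := sq.str, top := sq.top, bot := l ≫ a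
      comm := by rw [← Category.assoc]; exact congrArg (· ≫ a) h1.symm }
    l l' h1 rfl h3 e.symm

theorem formallySmooth_comp {a : F ⟶ G} {b : G ⟶ H} (ha : IsFormallySmoothMor a)
    (hb : IsFormallySmoothMor b) : IsFormallySmoothMor (a ≫ b) := by
  intro sq
  obtain ⟨m, h1, h2⟩ := hb
    { A := sq.A, I := sq.I, sq_zero := sq.sq_zero, str := sq.str, top := sq.top ≫ a, bot := sq.bot
      comm := by rw [Category.assoc]; exact sq.comm }
  obtain ⟨l, h3, h4⟩ := ha
    { A := sq.A, I := sq.I, sq_zero := sq.sq_zero, str := sq.str, top := sq.top, bot := m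
      comm := h1.symm }
  exact ⟨l, h3, (Category.assoc _ _ _).symm.trans ((congrArg (· ≫ b) h4).trans h2)⟩

theorem isFormallyUnramifiedMor_of_comp {a : F ⟶ G} {b : G ⟶ H}
    (h : IsFormallyUnramifiedMor (a ≫ b)) : IsFormallyUnramifiedMor a := by
  intro sq l l' h1 h2 h3 h4
  exact h
    { A := sq.A, I := sq.I, sq_zero := sq.sq_zero, str := sq.str, top := sq.top, bot := sq.bot ≫ b
      comm := by rw [← Category.assoc, sq.comm, Category.assoc] }
    l l' h1 ((Category.assoc _ _ _).symm.trans (congrArg (· ≫ b) h2)) h3 ((Category.assoc _ _ _).symm.trans (congrArg (· ≫ b) h4))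

theorem formallySmooth_of_comp {a : F ⟶ G} {b : G ⟶ H} (hb : IsFormallyUnramifiedMor b)
    (h : IsFormallySmoothMor (a ≫ b)) : IsFormallySmoothMor a := by
  intro sq
  obtain ⟨l, h1, h2⟩ := h
    { A := sq.A, I := sq.I, sq_zero := sq.sq_zero, str := sq.str, top := sq.top, bot := sq.bot ≫ b
      comm := by rw [← Category.assoc, sq.comm, Category.assoc] }
  refine ⟨l, h1, hb
    { A := sq.A, I := sq.I, sq_zero := sq.sq_zero, str := sq.str, top := sq.top ≫ a, bot := sq.bot ≫ b
      comm := by rw [Category.assoc, ← Category.assoc, sq.comm, Category.assoc] }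
    (l ≫ a) sq.bot ((Category.assoc _ _ _).symm.trans (congrArg (· ≫ a) h1))
    ((Category.assoc _ _ _).trans h2) sq.comm.symm rfl⟩

theorem formallySmooth_baseChange {a : F ⟶ G} {b : H ⟶ G} {b' : P ⟶ F} {a' : P ⟶ H}
    (hP : IsPullback b' a' a b) (ha : IsFormallySmoothMor a) : IsFormallySmoothMor a' := by
  intro sq
  obtain ⟨l, h1, h2⟩ := ha
    { A := sq.A, I := sq.I, sq_zero := sq.sq_zero, str := sq.str, top := sq.top ≫ b', bot := sq.bot ≫ b
      comm := by rw [Category.assoc, hP.w, ← Category.assoc, sq.comm, Category.assoc] }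
  refine ⟨hP.lift l sq.bot h2, hP.hom_ext ?_ ?_, hP.lift_snd _ _ _⟩
  · rw [Category.assoc, hP.lift_fst]; exact h1
  · rw [Category.assoc, hP.lift_snd]; exact sq.comm.symm

theorem formallyUnramified_baseChange {a : F ⟶ G} {b : H ⟶ G} {b' : P ⟶ F} {a' : P ⟶ H}
    (hP : IsPullback b' a' a b) (ha : IsFormallyUnramifiedMor a) : IsFormallyUnramifiedMor a' := by
  intro sq l l' h1 h2 h3 h4
  refine hP.hom_ext (ha
    { A := sq.A, I := sq.I, sq_zero := sq.sq_zero, str := sq.str, top := sq.top ≫ b', bot := sq.bot ≫ b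
      comm := by rw [Category.assoc, hP.w, ← Category.assoc, sq.comm, Category.assoc] }
    (l ≫ b') (l' ≫ b') ((Category.assoc _ _ _).symm.trans (congrArg (· ≫ b') h1))
    ((Category.assoc _ _ _).trans ((congrArg (l ≫ ·) hP.w).trans ((Category.assoc _ _ _).symm.trans (congrArg (· ≫ b) h2))))
    ((Category.assoc _ _ _).symm.trans (congrArg (· ≫ b') h3))
    ((Category.assoc _ _ _).trans ((congrArg (l' ≫ ·) hP.w).trans ((Category.assoc _ _ _).symm.trans (congrArg (· ≫ b) h4))))) (h2.trans h4.symm)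

end Groth.Agent.AlgSpLib
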