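import Groth.Agent.AlgSpLib.LqfScheme
import Groth.Agent.AlgSpLib.MorMore
import Groth.Agent.AlgSpLib.MorMore3
import Groth.Agent.AlgSpLib.MorSep
import Groth.Agent.AlgSpLib.FpqcBaseLocP
import Groth.Agent.AlgSpLib.Formally
import Groth.Agent.AlgSpLib.EtLocalInst

/-!
Monomorphisms locally of finite type: representable, separated, locally quasi-finite, unramified.
-/

universe u

open CategoryTheory CategoryTheory.Limits AlgebraicGeometry
open AlgSp

noncomputable section

namespace Groth.Agent.AlgSpLib

set_option backward.isDefEq.respectTransparency.types false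

variable {S : Scheme.{u}}

theorem lqf_of_unramified {A B : Scheme.{u}} (h : A ⟶ B) [LocallyOfFiniteType h] [FormallyUnramified h] :
    LocallyQuasiFinite h := by
  rw [HasRingHomProperty.eq_affineLocally @LocallyQuasiFinite, affineLocally_iff_forall_isAffineOpen]
  intro U hU V hV e
  have h1 := HasRingHomProperty.appLE @LocallyOfFiniteType h ‹_› ⟨U, hU⟩ ⟨V, hV⟩ e
  have h2 := HasRingHomProperty.appLE @FormallyUnramified h ‹_› ⟨U, hU⟩ ⟨V, hV⟩ e
  algebraize [(h.appLE U V e).hom]
  exact ⟨fun p hp => Algebra.FormallyUnramified.finite_of_free _ _⟩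

variable {X Y : Sp S} {f : X ⟶ Y}

theorem unramified_of_mono_lft (hX : IsAlgSpace X) (hY : IsAlgSpace Y) [Mono f]
    (hl : LocP @LocallyOfFiniteType f) : LocP (@LocallyOfFiniteType ⊓ @FormallyUnramified) f :=
  locP_unramified_of_diagonal hX hY hl (repWith_of_isIso _ (pullback.diagonal f))

theorem mono_of_unramified_univInjective (hX : IsAlgSpace X) (hY : IsAlgSpace Y)
    (hu : LocP (@LocallyOfFiniteType ⊓ @FormallyUnramified) f) (hi : IsUnivInjectiveMor f) : Mono f := by
  have hd := repWith_diagonal_of_unramified hX hY hu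
  have hs : RepWith @Surjective (pullback.diagonal f) :=
    repWith_surjective_of_surjective_map hd.1 (surjective_diagonal_of_univInjective hX hi)
  refine (mono_iff_repWith_diagonal f).2 ⟨hd.1, fun U V g fst snd sq => ?_⟩
  have h1 : IsOpenImmersion snd.left := hd.2 g fst snd sq
  have h2 : Surjective snd.left := hs.2 g fst snd sq
  exact (isIso_iff_isOpenImmersion_and_epi_base _).2
    ⟨h1, (TopCat.epi_iff_surjective _).2 snd.left.surjective⟩

theorem mono_lft_package (hX : IsAlgSpace X) (hY : IsAlgSpace Y) [Mono f]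
    (hl : LocP @LocallyOfFiniteType f) :
    Representable f ∧ IsSeparatedMor f ∧ LocP (@LocallyQuasiFinite ⊓ @LocallyOfFiniteType) f := by
  have hq : LocP (@LocallyQuasiFinite ⊓ @LocallyOfFiniteType) f :=
    locP_mono (fun _ _ g (h : (@LocallyOfFiniteType ⊓ @FormallyUnramified : MorphismProperty _) g) => by
      have := h.1; have := h.2; exact ⟨lqf_of_unramified g, h.1⟩) (unramified_of_mono_lft hX hY hl)
  exact ⟨representable_of_lqf_separated' hX hY f (isSeparatedMor_of_mono f) hq, isSeparatedMor_of_mono f, hq⟩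

theorem univInjective_of_mono (hX : IsAlgSpace X) [Mono f] : IsUnivInjectiveMor f :=
  univInjective_of_surjective_diagonal hX fun w =>
    ⟨Points.map (inv (pullback.diagonal f)) w, by rw [← Points.map_comp, IsIso.inv_hom_id, Points.map_id]⟩

theorem formallyUnramified_of_mono [Mono f] : IsFormallyUnramifiedMor f :=
  fun sq l l' _ h2 _ h4 => (cancel_mono f).1 (h2.trans h4.symm)

/-- representable formally unramified morphisms have unique lifts -/
theorem isFormallyUnramifiedMor_of_repWith (hf : RepWith @FormallyUnramified f) :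
    IsFormallyUnramifiedMor f := by
  intro sq l l' h1 h2 h3 h4
  let T' : Over S := Over.mk sq.str
  let π := CommRingCat.ofHom (Ideal.Quotient.mk sq.I)
  let i : Over.mk (Spec.map π ≫ sq.str) ⟶ T' := Over.homMk (Spec.map π) rfl
  let a : T' ⟶ hf.rep.pullback sq.bot := hf.rep.lift l (𝟙 T') (by simpa using h2)
  let a' : T' ⟶ hf.rep.pullback sq.bot := hf.rep.lift l' (𝟙 T') (by simpa using h4)
  have ea : i ≫ a = i ≫ a' := hf.rep.hom_ext
    (by simp only [Functor.map_comp, Category.assoc, a, a', Functor.relativelyRepresentable.lift_fst]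
        exact h1.trans h3.symm)
    (by simp [a, a'])
  have : FormallyUnramified (hf.rep.snd sq.bot).left := hf.property_snd _
  have hker : IsNilpotent (Spec.map π).ker := by
    refine ⟨2, Scheme.IdealSheafData.ext_of_isAffine ?_⟩
    rw [Scheme.IdealSheafData.ideal_pow, Pi.pow_apply, Scheme.Hom.ker_apply]
    have hle : RingHom.ker ((Spec.map π).app ⊤).hom ≤ sq.I.map (Scheme.ΓSpecIso (.of sq.A)).inv.hom := by
      intro x hx
      have h5 := congr($(Scheme.ΓSpecIso_naturality π) x)
      simp only [CommRingCat.hom_comp, RingHom.comp_apply] at h5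
      have h6 : (Scheme.ΓSpecIso (.of sq.A)).hom x ∈ sq.I := Ideal.Quotient.eq_zero_iff_mem.1
        (h5.symm.trans ((congrArg _ (show (Spec.map π).appTop x = 0 from hx)).trans (map_zero _)))
      simpa using Ideal.mem_map_of_mem (Scheme.ΓSpecIso (.of sq.A)).inv.hom h6
    refine le_bot_iff.1 ((Ideal.pow_right_mono hle 2).trans ?_)
    rw [← Ideal.map_pow, sq.sq_zero, Ideal.map_bot]
  have : IsClosedImmersion (Spec.map π) := IsClosedImmersion.spec_of_surjective _ Ideal.Quotient.mk_surjective
  have e : a.left = a'.left := FormallyUnramified.hom_ext (Spec.map π) hker (hf.rep.snd sq.bot).left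
    (congrArg (fun k => k.left) ea) (by rw [← Over.comp_left, ← Over.comp_left]; simp [a, a'])
  have e' : a = a' := Over.OverMorphism.ext e
  calc l = (yon S).map a ≫ hf.rep.fst sq.bot := (Functor.relativelyRepresentable.lift_fst _ _ _ _).symm
    _ = (yon S).map a' ≫ hf.rep.fst sq.bot := by rw [e']
    _ = l' := Functor.relativelyRepresentable.lift_fst _ _ _ _

/-- the lifting condition on a morphism of schemes -/
theorem formallyUnramified_left_of_mor {U V : Over S} (h : U ⟶ V)
    (hh : IsFormallyUnramifiedMor ((yon S).map h)) : FormallyUnramified h.left := by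
  refine FormallyUnramified.of_hom_ext _ fun R R' φ hφ hker g₁ g₂ he hw => ?_
  let I := RingHom.ker φ.hom
  let π := CommRingCat.ofHom (Ideal.Quotient.mk I)
  let eI : CommRingCat.of (R ⧸ I) ≅ R' := (RingHom.quotientKerEquivOfSurjective hφ).toCommRingCatIso
  have hπ : π ≫ eI.hom = φ := CommRingCat.hom_ext (RingHom.ext fun _ => rfl)
  have he' : Spec.map π ≫ g₁ = Spec.map π ≫ g₂ := by
    rw [← cancel_epi (Spec.map eI.hom), ← Spec.map_comp_assoc, ← Spec.map_comp_assoc, hπ]
    exact he
  let str := g₁ ≫ U.hom
  let G₁ : Over.mk str ⟶ U := Over.homMk g₁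
  let G₂ : Over.mk str ⟶ U := Over.homMk g₂ (by
    show g₂ ≫ U.hom = g₁ ≫ U.hom
    rw [← Over.w h, ← Category.assoc, ← hw, Category.assoc])
  let i : Over.mk (Spec.map π ≫ str) ⟶ Over.mk str := Over.homMk (Spec.map π) rfl
  let sq : InfSq ((yon S).map h) :=
    { A := R, I := I, sq_zero := hker, str := str, top := (yon S).map (i ≫ G₁)
      bot := (yon S).map (G₁ ≫ h)
      comm := by rw [← Functor.map_comp, ← Functor.map_comp, Category.assoc] }
  have hG : i ≫ G₂ = i ≫ G₁ := Over.OverMorphism.ext he'.symm
  have hG' : G₂ ≫ h = G₁ ≫ h := Over.OverMorphism.ext hw.symm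
  have := hh sq ((yon S).map G₁) ((yon S).map G₂) (Functor.map_comp _ _ _).symm (Functor.map_comp _ _ _).symm
    ((Functor.map_comp _ _ _).symm.trans (congrArg _ hG)) ((Functor.map_comp _ _ _).symm.trans (congrArg _ hG'))
  exact congrArg (fun k : Over.mk str ⟶ U => k.left) ((yon S).map_injective this)

theorem locP_formallyUnramified_of_mor (hf : IsFormallyUnramifiedMor f) : LocP @FormallyUnramified f := by
  intro U V a b h ha _ w
  refine formallyUnramified_left_of_mor h (isFormallyUnramifiedMor_of_comp (b := b) ?_)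
  rw [← w]
  exact isFormallyUnramifiedMor_comp (isFormallyUnramifiedMor_of_repWith
    (RepWith.mono (fun _ _ g (_ : Etale g) => (inferInstance : FormallyUnramified g)) ha)) hf

theorem closedImmersion_of_univClosed_mono_lft (hX : IsAlgSpace X) (hY : IsAlgSpace Y) [Mono f]
    (hc : IsUnivClosedMor f) (hl : LocP @LocallyOfFiniteType f) : RepWith @IsClosedImmersion f := by
  have hr := (mono_lft_package hX hY hl).1
  refine RepWith.mono (P := (@UniversallyClosed ⊓ @LocallyOfFiniteType) ⊓ MorphismProperty.monomorphisms Scheme.{u})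
    (fun A B g h => ?_) (RepWith.and (RepWith.and ((repWith_universallyClosed_iff hr).2 hc)
      ((repWith_iff_locP etLocal_lft hX hY hr).2 hl)) (repWith_monomorphisms_of_mono hr))
  have : UniversallyClosed g := h.1.1
  have : LocallyOfFiniteType g := h.1.2
  have : Mono g := h.2
  exact (IsClosedImmersion.iff_isProper_and_mono g).2 ⟨{}, this⟩

end Groth.Agent.AlgSpLib
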