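import Groth.Agent.Stk19b.UnramPt
import Groth.Agent.AlgSpLib.FlatLocus
import Groth.Agent.AlgSpLib.MonoLft
import Groth.Agent.AlgSpLib.MorMore
import Groth.Agent.AlgSpLib.LocPMore

/-!
Loci in a base over which a morphism acquires a property.
-/

universe u

open CategoryTheory CategoryTheory.Limits AlgebraicGeometry
open AlgSp

noncomputable section

namespace Groth.Agent.AlgSpLib

set_option backward.isDefEq.respectTransparency.types false

variable {S : Scheme.{u}} {X Y Z : Sp S}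

theorem isClosedMap_of_univClosed {F G : Sp S} (hG : IsAlgSpace G) {f : F ⟶ G} (hf : IsUnivClosedMor f) :
    IsClosedMap (Points.map f) :=
  hf hG (𝟙 G) (𝟙 F) f (IsPullback.of_horiz_isIso ⟨by simp⟩)

theorem lft_of_comp (hX : IsAlgSpace X) (hY : IsAlgSpace Y) (hZ : IsAlgSpace Z) {f : X ⟶ Y} {q : Y ⟶ Z}
    (h : LocP @LocallyOfFiniteType (f ≫ q)) : LocP @LocallyOfFiniteType f :=
  locP_of_comp' (Q := fun _ _ _ => True) etLocal_lft hX hY hZ (fun A B C a b (hab : LocallyOfFiniteType (a ≫ b)) _ =>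
    (locallyOfFiniteType_of_comp a b : LocallyOfFiniteType a)) h (fun _ _ _ _ _ _ _ _ => trivial)

theorem unram_set_eq (hX : IsAlgSpace X) (hY : IsAlgSpace Y) {f : X ⟶ Y}
    (hf : LocP @LocallyOfFiniteType f) :
    {x : Points X | HasAtMor (fun U _ h u => ∃ W : U.Opens, u ∈ W ∧ LocallyOfFiniteType (W.ι ≫ h) ∧
        FormallyUnramified (W.ι ≫ h)) f x} = {x | Stk19b.UnramPt.IsUnramAt f x} := by
  ext x
  constructor
  · rintro ⟨U, V, a, b, h, u, ha, hb, w, e, W, hu, -, hW⟩
    exact ⟨U, V, a, b, h, u, ha, hb, w, e, W, hu, hW⟩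
  · rintro ⟨U, V, a, b, h, u, ha, hb, w, e, W, hu, hW⟩
    have : LocallyOfFiniteType h.left := hf a b h ha hb w
    exact ⟨U, V, a, b, h, u, ha, hb, w, e, W, hu, inferInstance, hW⟩

/-- from a pointwise criterion to an open subspace representing it -/
theorem exists_where {X Y Z : Space S} (f : X ⟶ Y) (q : Y ⟶ Z) (W₀ : Set (Points Z.obj)) (hW : IsOpen W₀)
    (Q : ∀ (X' Y' : Sp S), (X' ⟶ Y') → Prop)
    (h : ∀ (Z' Y' X' : Sp S), IsAlgSpace Z' → IsAlgSpace Y' → IsAlgSpace X' →
      ∀ (g : Z' ⟶ Z.obj) (gY : Y' ⟶ Y.obj) (q' : Y' ⟶ Z'), IsPullback gY q' q.hom g →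
      ∀ (gX : X' ⟶ X.obj) (f' : X' ⟶ Y'), IsPullback gX f' f.hom gY →
        ((∀ z', Points.map g z' ∈ W₀) ↔ Q X' Y' f')) :
    ∃ (W : Space S) (w : W ⟶ Z), RepWith @IsOpenImmersion w.hom ∧
      ∀ (Z' : Space S) (g : Z' ⟶ Z),
        (∃ k : Z' ⟶ W, k ≫ w = g) ↔
          ∀ (Y' : Space S) (gY : Y' ⟶ Y) (q' : Y' ⟶ Z'), IsPullback gY.hom q'.hom q.hom g.hom →
            ∀ (X' : Space S) (gX : X' ⟶ X) (f' : X' ⟶ Y'), IsPullback gX.hom f'.hom f.hom gY.hom →
              Q X'.obj Y'.obj f'.hom := by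
  refine ⟨⟨openSubspace Z.obj W₀, isAlgSpace_openSubspace Z.property hW⟩,
    ObjectProperty.homMk (openSubspaceι Z.obj W₀), repWith_openSubspaceι Z.obj hW, fun Z' g => ?_⟩
  have key : (∃ k : Z' ⟶ (⟨openSubspace Z.obj W₀, isAlgSpace_openSubspace Z.property hW⟩ : Space S),
      k ≫ ObjectProperty.homMk (openSubspaceι Z.obj W₀) = g) ↔ ∀ z', Points.map g.hom z' ∈ W₀ := by
    constructor
    · rintro ⟨k, rfl⟩ z'
      exact (range_openSubspaceι Z.obj W₀).le ⟨_, (Points.map_comp k.hom (openSubspaceι Z.obj W₀) z').symm⟩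
    · intro hz
      obtain ⟨k, hk⟩ := (exists_lift_iff_range_subset (repWith_openSubspaceι Z.obj hW) g.hom).2
        (by rw [range_openSubspaceι]; rintro _ ⟨z, rfl⟩; exact hz z)
      exact ⟨ObjectProperty.homMk k, ObjectProperty.hom_ext _ hk⟩
  rw [key]
  refine ⟨fun hz Y' gY q' sq₁ X' gX f' sq₂ =>
    (h _ _ _ Z'.property Y'.property X'.property g.hom gY.hom q'.hom sq₁ gX.hom f'.hom sq₂).1 hz, fun H => ?_⟩
  have sq₁ := IsPullback.of_hasPullback q.hom g.hom
  have hY' := isAlgSpace_of_isPullback Z.property.diag Y.property Z'.property sq₁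
  let Y' : Space S := ⟨_, hY'⟩
  have sq₂ := IsPullback.of_hasPullback f.hom (pullback.fst q.hom g.hom)
  have hX' := isAlgSpace_of_isPullback Y.property.diag X.property hY' sq₂
  let X' : Space S := ⟨_, hX'⟩
  exact (h _ _ _ Z'.property hY' hX' g.hom _ _ sq₁ _ _ sq₂).2
    (H Y' (ObjectProperty.homMk (pullback.fst q.hom g.hom)) (ObjectProperty.homMk (pullback.snd q.hom g.hom))
      sq₁ X' (ObjectProperty.homMk (pullback.fst f.hom _)) (ObjectProperty.homMk (pullback.snd f.hom _)) sq₂)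

variable {f : X ⟶ Y} {q : Y ⟶ Z}
variable {Z' Y' X' : Sp S} {g : Z' ⟶ Z} {gY : Y' ⟶ Y} {q' : Y' ⟶ Z'} {gX : X' ⟶ X} {f' : X' ⟶ Y'}

/-- the self fibre product of a base change -/
theorem isPullback_pullback_self (sq₂ : IsPullback gX f' f gY) :
    IsPullback (pullback.map f' f' f f gX gX gY sq₂.w.symm sq₂.w.symm) (pullback.snd f' f' ≫ f')
      (pullback.snd f f ≫ f) gY := by
  let φ := pullback.map f' f' f f gX gX gY sq₂.w.symm sq₂.w.symm
  have h₀ : φ ≫ pullback.fst f f = pullback.fst f' f' ≫ gX := pullback.lift_fst _ _ _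
  have h₁ : φ ≫ pullback.snd f f = pullback.snd f' f' ≫ gX := pullback.lift_snd _ _ _
  refine ⟨⟨?_⟩, ⟨PullbackCone.IsLimit.mk _
    (fun c => pullback.lift (sq₂.lift (c.fst ≫ pullback.fst f f) c.snd ?_)
      (sq₂.lift (c.fst ≫ pullback.snd f f) c.snd ?_) ?_) (fun c => ?_) (fun c => ?_)
    (fun c m k1 k2 => ?_)⟩⟩
  · show φ ≫ _ = _
    rw [reassoc_of% h₁, sq₂.w, Category.assoc]
  · rw [Category.assoc, pullback.condition]; exact c.condition
  · rw [Category.assoc]; exact c.condition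
  · rw [sq₂.lift_snd, sq₂.lift_snd]
  · show _ ≫ φ = _
    apply pullback.hom_ext
    · rw [Category.assoc, h₀, ← Category.assoc, pullback.lift_fst, sq₂.lift_fst]
    · rw [Category.assoc, h₁, ← Category.assoc, pullback.lift_snd, sq₂.lift_fst]
  · rw [← Category.assoc, pullback.lift_snd, sq₂.lift_snd]
  · have ha : m ≫ φ = c.fst := k1
    apply pullback.hom_ext
    · rw [pullback.lift_fst]
      apply sq₂.hom_ext
      · rw [sq₂.lift_fst, Category.assoc, ← h₀, ← Category.assoc, ha]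
      · rw [sq₂.lift_snd, Category.assoc, pullback.condition]; exact k2
    · rw [pullback.lift_snd]
      apply sq₂.hom_ext
      · rw [sq₂.lift_fst, Category.assoc, ← h₁, ← Category.assoc, ha]
      · rw [sq₂.lift_snd, Category.assoc]; exact k2

theorem isClosedMap_map_iso {F G : Sp S} (e : F ≅ G) : IsClosedMap (Points.map e.hom) :=
  IsClosedMap.of_inverse (Points.continuous_map e.inv)
    (fun x => by rw [← Points.map_comp, e.inv_hom_id, Points.map_id])
    (fun x => by rw [← Points.map_comp, e.hom_inv_id, Points.map_id])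

/-- a pointwise condition on the source, closed downstairs -/
theorem forall_map_iff (sq₁ : IsPullback gY q' q g) (sq₂ : IsPullback gX f' f gY) (A : Set (Points X)) :
    (∀ z', Points.map g z' ∈ (Points.map (f ≫ q) '' Aᶜ)ᶜ) ↔ ∀ x', Points.map gX x' ∈ A := by
  constructor
  · intro h x'
    by_contra hx
    refine h (Points.map (f' ≫ q') x') ⟨_, hx, ?_⟩
    rw [← Points.map_comp, ← Points.map_comp, (sq₂.paste_vert sq₁).w]
  · rintro h z' ⟨x, hx, e⟩
    obtain ⟨x', rfl, -⟩ := exists_point_of_isPullback (sq₂.paste_vert sq₁) e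
    exact hx (h x')

/-! ### unramified -/

def unramBase (f : X ⟶ Y) (q : Y ⟶ Z) : Set (Points Z) :=
  (Points.map (f ≫ q) '' {x | Stk19b.UnramPt.IsUnramAt f x}ᶜ)ᶜ

theorem isOpen_unramBase (hX : IsAlgSpace X) (hY : IsAlgSpace Y) (hp : IsClosedMap (Points.map (f ≫ q))) :
    IsOpen (unramBase f q) :=
  (hp _ (Stk19b.UnramPt.isOpen_unram hX hY f).isClosed_compl).isOpen_compl

theorem unramBase_iff (hX : IsAlgSpace X) (hY : IsAlgSpace Y) (hY' : IsAlgSpace Y') (hX' : IsAlgSpace X')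
    (hl : LocP @LocallyOfFiniteType f) (sq₁ : IsPullback gY q' q g) (sq₂ : IsPullback gX f' f gY) :
    (∀ z', Points.map g z' ∈ unramBase f q) ↔ LocP (@LocallyOfFiniteType ⊓ @FormallyUnramified) f' := by
  rw [Stk19b.UnramPt.locP_unram_iff hX' hY' (locP_of_isPullback etLocal_lft hX hY hX' sq₂ hl)]
  refine (forall_map_iff sq₁ sq₂ _).trans (forall_congr' fun x' => ?_)
  exact (Stk19b.UnramPt.isUnramAt_baseChange hX hY hY' hX' sq₂ hl x').symm

/-! ### flat -/

def flatBase (f : X ⟶ Y) (q : Y ⟶ Z) : Set (Points Z) :=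
  (Points.map (f ≫ q) '' {x | IsFlatAtMor f x}ᶜ)ᶜ

section flat

variable (hX : IsAlgSpace X) (hY : IsAlgSpace Y) (hZ : IsAlgSpace Z)
variable (hp1 : LocP @LocallyOfFinitePresentation (f ≫ q)) (hp2 : LocP @Flat (f ≫ q))
variable (hq : LocP @LocallyOfFiniteType q)

include hX hY hZ hp1 hq in
theorem isOpen_flatAt : IsOpen {x | IsFlatAtMor f x} := by
  obtain ⟨C⟩ := nonempty_charts hX hY hZ f q
  have : LocallyOfFiniteType C.k.left := lft_chart C hq
  have : LocallyOfFinitePresentation (C.h.left ≫ C.k.left) := lfp_flat_chart C hp1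
  exact isOpen_flatLocus hX hY C

include hX hY hZ hp1 hq in
theorem isOpen_flatBase (hp : IsClosedMap (Points.map (f ≫ q))) : IsOpen (flatBase f q) :=
  (hp _ (isOpen_flatAt hX hY hZ hp1 hq).isClosed_compl).isOpen_compl

include hX hY hZ hp1 hp2 hq in
theorem flatBase_iff (hZ' : IsAlgSpace Z') (hY' : IsAlgSpace Y') (hX' : IsAlgSpace X')
    (sq₁ : IsPullback gY q' q g) (sq₂ : IsPullback gX f' f gY) :
    (∀ z', Points.map g z' ∈ flatBase f q) ↔ LocP @Flat f' := by
  obtain ⟨C⟩ := nonempty_charts hX hY hZ f q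
  have : LocallyOfFiniteType C.k.left := lft_chart C hq
  have : LocallyOfFinitePresentation (C.h.left ≫ C.k.left) := lfp_flat_chart C hp1
  have : Flat (C.h.left ≫ C.k.left) := lfp_flat_chart C hp2
  rw [locP_flat_iff_forall_isFlatAtMor]
  refine (forall_map_iff sq₁ sq₂ _).trans (forall_congr' fun x' => ?_)
  exact (Set.ext_iff.1 (flatLocus_baseChange hX hY hZ hX' hY' hZ' C sq₁ sq₂) x').symm

include hX hY hZ hp1 hq in
theorem isOpen_image_flatAt : IsOpen (Points.map f '' {x | IsFlatAtMor f x}) := by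
  obtain ⟨C⟩ := nonempty_charts hX hY hZ f q
  have : LocallyOfFiniteType C.k.left := lft_chart C hq
  have : LocallyOfFinitePresentation (C.h.left ≫ C.k.left) := lfp_flat_chart C hp1
  have : LocallyOfFinitePresentation C.h.left :=
    EGA43.Limit.locallyOfFinitePresentation_of_comp C.h.left C.k.left
  let O : C.U.left.Opens := ⟨{u | (C.h.left.stalkMap u).hom.Flat},
    EGA43.FlatDescent.isOpen_flat_stalkMap C.h.left⟩
  have : Flat (O.ι ≫ C.h.left) := (Flat.iff_flat_stalkMap _).2 fun u => by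
    rw [Scheme.Hom.stalkMap_comp]
    exact RingHom.Flat.comp (show (C.h.left.stalkMap (O.ι u)).hom.Flat from u.2) (Flat.stalkMap O.ι u)
  have e : Points.map f '' {x | IsFlatAtMor f x} = Points.ofPt C.b '' Set.range (O.ι ≫ C.h.left) := by
    ext y
    constructor
    · rintro ⟨x, hx, rfl⟩
      obtain ⟨u, rfl⟩ := surjective_ofPt C.a C.a_surj x
      refine ⟨C.h.left u, ⟨⟨u, (isFlatAtMor_iff hX hY f C.a C.b C.h C.a_etale C.b_etale C.wf u).1 hx⟩, rfl⟩, ?_⟩
      rw [Points.map_ofPt, C.wf, ofPt_map]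
    · rintro ⟨_, ⟨u, rfl⟩, rfl⟩
      refine ⟨_, (isFlatAtMor_iff hX hY f C.a C.b C.h C.a_etale C.b_etale C.wf (O.ι u)).2 u.2, ?_⟩
      rw [Points.map_ofPt, C.wf, ofPt_map]
      rfl
  rw [e]
  exact isOpenMap_ofPt C.b C.b_etale _ (O.ι ≫ C.h.left).isOpenMap.isOpen_range

end flat

/-- flat and surjective -/
def flatSurjBase (f : X ⟶ Y) (q : Y ⟶ Z) : Set (Points Z) :=
  flatBase f q ∩ (Points.map q '' (Points.map f '' {x | IsFlatAtMor f x})ᶜ)ᶜ

theorem flatSurjBase_iff (hX : IsAlgSpace X) (hY : IsAlgSpace Y) (hZ : IsAlgSpace Z)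
    (hp1 : LocP @LocallyOfFinitePresentation (f ≫ q)) (hp2 : LocP @Flat (f ≫ q))
    (hq : LocP @LocallyOfFiniteType q) (hZ' : IsAlgSpace Z') (hY' : IsAlgSpace Y') (hX' : IsAlgSpace X')
    (sq₁ : IsPullback gY q' q g) (sq₂ : IsPullback gX f' f gY) :
    (∀ z', Points.map g z' ∈ flatSurjBase f q) ↔ (IsSurjectiveMor f' ∧ LocP @Flat f') := by
  have hfl := flatBase_iff hX hY hZ hp1 hp2 hq hZ' hY' hX' sq₁ sq₂
  constructor
  · intro h
    refine ⟨fun y' => ?_, hfl.1 fun z' => (h z').1⟩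
    by_contra hne
    refine (h (Points.map q' y')).2 ⟨Points.map gY y', ?_, by rw [← Points.map_comp, ← Points.map_comp, sq₁.w]⟩
    rintro ⟨x, -, hx⟩
    obtain ⟨x', -, hx'⟩ := exists_point_of_isPullback sq₂ hx
    exact hne ⟨x', hx'⟩
  · rintro ⟨hs, hf⟩ z'
    refine ⟨hfl.2 hf z', ?_⟩
    rintro ⟨y, hy, e⟩
    obtain ⟨y', rfl, -⟩ := exists_point_of_isPullback sq₁ e
    obtain ⟨x', rfl⟩ := hs y'
    refine hy ⟨Points.map gX x', ?_, by rw [← Points.map_comp, ← Points.map_comp, sq₂.w]⟩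
    exact (forall_map_iff sq₁ sq₂ _).1 (hfl.2 hf) x'

theorem isOpen_flatSurjBase (hX : IsAlgSpace X) (hY : IsAlgSpace Y) (hZ : IsAlgSpace Z)
    (hp1 : LocP @LocallyOfFinitePresentation (f ≫ q))
    (hq : LocP @LocallyOfFiniteType q) (hpc : IsClosedMap (Points.map (f ≫ q)))
    (hqc : IsClosedMap (Points.map q)) : IsOpen (flatSurjBase f q) :=
  (isOpen_flatBase hX hY hZ hp1 hq hpc).inter
    (hqc _ (isOpen_image_flatAt hX hY hZ hp1 hq).isClosed_compl).isOpen_compl

/-! ### unramified and universally injective -/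

def unramInjBase (f : X ⟶ Y) (q : Y ⟶ Z) : Set (Points Z) :=
  unramBase f q ∩ (Points.map (pullback.snd f f ≫ f ≫ q) ''
    (Points.map (pullback.diagonal f) '' {x | Stk19b.UnramPt.IsUnramAt f x})ᶜ)ᶜ

theorem isOpen_image_diagonal (hX : IsAlgSpace X) (hY : IsAlgSpace Y) (hl : LocP @LocallyOfFiniteType f) :
    IsOpen (Points.map (pullback.diagonal f) '' {x | Stk19b.UnramPt.IsUnramAt f x}) := by
  have ho := Stk19b.UnramPt.isOpen_unram hX hY f
  let j := openSubspaceι X {x | Stk19b.UnramPt.IsUnramAt f x}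
  have hj : RepWith @IsOpenImmersion j := repWith_openSubspaceι X ho
  have hX₁ := isAlgSpace_openSubspace hX ho
  have : Mono j := mono_of_repWith (fun _ _ g (_ : IsOpenImmersion g) => inferInstance) hj
  have hlj : LocP @LocallyOfFiniteType (j ≫ f) :=
    locP_comp etLocal_lft hX₁ hX hY (locP_of_repWith etLocal_lft hX₁
      (RepWith.mono (fun _ _ g (_ : IsOpenImmersion g) => (inferInstance : LocallyOfFiniteType g)) hj)) hl
  have hu : LocP (@LocallyOfFiniteType ⊓ @FormallyUnramified) (j ≫ f) := by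
    refine (Stk19b.UnramPt.locP_unram_iff hX₁ hY hlj).2 fun x => ?_
    have hx : Stk19b.UnramPt.IsUnramAt f (Points.map j x) := (range_openSubspaceι X _).le ⟨x, rfl⟩
    obtain ⟨V, b, hbe, hbs⟩ := hY.atlas
    obtain ⟨U, a, h, hae, has, w⟩ := exists_chart_over hX₁ hY (j ≫ f) b hbe hbs
    obtain ⟨u, rfl⟩ := surjective_ofPt a has x
    have haj : RepWith @Etale (a ≫ j) := RepWith.comp hae
      (RepWith.mono (fun _ _ g (_ : IsOpenImmersion g) => (inferInstance : Etale g)) hj)
    refine (Stk19b.UnramPt.isUnramAt_iff hX₁ hY (j ≫ f) a b h hae hbe w u).2 ?_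
    exact (Stk19b.UnramPt.isUnramAt_iff hX hY f (a ≫ j) b h haj hbe (by rw [Category.assoc, w]) u).1
      (Points.map_ofPt a j u ▸ hx)
  have hd := repWith_diagonal_of_unramified hX₁ hY hu
  let m := pullback.map (j ≫ f) (j ≫ f) f f j j (𝟙 Y) (Category.comp_id _) (Category.comp_id _)
  have hm : RepWith @IsOpenImmersion m :=
    MorphismProperty.pullbackMap (P := RepWith @IsOpenImmersion) hj hj rfl rfl
  have e : j ≫ pullback.diagonal f = pullback.diagonal (j ≫ f) ≫ m := by
    apply pullback.hom_ext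
    · rw [Category.assoc, Category.assoc, pullback.diagonal_fst, show m ≫ pullback.fst f f =
        pullback.fst (j ≫ f) (j ≫ f) ≫ j from pullback.lift_fst _ _ _, pullback.diagonal_fst_assoc, Category.comp_id]
    · rw [Category.assoc, Category.assoc, pullback.diagonal_snd, show m ≫ pullback.snd f f =
        pullback.snd (j ≫ f) (j ≫ f) ≫ j from pullback.lift_snd _ _ _, pullback.diagonal_snd_assoc, Category.comp_id]
  have hr : Points.map (pullback.diagonal f) '' {x | Stk19b.UnramPt.IsUnramAt f x} =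
      Set.range (Points.map (pullback.diagonal (j ≫ f) ≫ m)) := by
    rw [← e]
    ext z
    constructor
    · rintro ⟨x, hx, rfl⟩
      obtain ⟨x₁, rfl⟩ := (range_openSubspaceι X _).ge hx
      exact ⟨x₁, Points.map_comp _ _ _⟩
    · rintro ⟨x₁, rfl⟩
      exact ⟨_, (range_openSubspaceι X _).le ⟨x₁, rfl⟩, (Points.map_comp _ _ _).symm⟩
  rw [hr]
  refine (isOpenMap_map_of_isEtaleMor hX₁ fun U φ hφ => RepWith.comp hφ ?_).isOpen_range
  exact RepWith.mono (fun _ _ g (_ : IsOpenImmersion g) => (inferInstance : Etale g)) (RepWith.comp hd hm)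

theorem isOpen_unramInjBase (hX : IsAlgSpace X) (hY : IsAlgSpace Y) (hl : LocP @LocallyOfFiniteType f)
    (hp : IsClosedMap (Points.map (f ≫ q))) (hpp : IsClosedMap (Points.map (pullback.snd f f ≫ f ≫ q))) :
    IsOpen (unramInjBase f q) :=
  (isOpen_unramBase hX hY hp).inter (hpp _ (isOpen_image_diagonal hX hY hl).isClosed_compl).isOpen_compl

theorem unramInjBase_iff (hX : IsAlgSpace X) (hY : IsAlgSpace Y) (hY' : IsAlgSpace Y') (hX' : IsAlgSpace X')
    (hl : LocP @LocallyOfFiniteType f) (sq₁ : IsPullback gY q' q g) (sq₂ : IsPullback gX f' f gY) :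
    (∀ z', Points.map g z' ∈ unramInjBase f q) ↔
      (LocP (@LocallyOfFiniteType ⊓ @FormallyUnramified) f' ∧ IsUnivInjectiveMor f') := by
  have hu := unramBase_iff hX hY hY' hX' hl sq₁ sq₂
  let φ := pullback.map f' f' f f gX gX gY sq₂.w.symm sq₂.w.symm
  have sqd : IsPullback gX (pullback.diagonal f') (pullback.diagonal f) φ := isPullback_diagonal_map sq₂
  have sqp : IsPullback φ (pullback.snd f' f' ≫ f') (pullback.snd f f ≫ f) gY :=
    isPullback_pullback_self sq₂
  constructor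
  · intro h
    refine ⟨hu.1 fun z' => (h z').1, univInjective_of_surjective_diagonal hX' fun w => ?_⟩
    by_contra hne
    refine (h (Points.map ((pullback.snd f' f' ≫ f') ≫ q') w)).2 ⟨Points.map φ w, ?_, ?_⟩
    · rintro ⟨x, -, hx⟩
      obtain ⟨x', -, hx'⟩ := exists_point_of_isPullback sqd hx
      exact hne ⟨x', hx'⟩
    · rw [← Points.map_comp, ← Points.map_comp, ← (sqp.paste_vert sq₁).w]
      simp only [Category.assoc]
  · rintro ⟨hun, hi⟩ z'
    refine ⟨hu.2 hun z', ?_⟩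
    rintro ⟨z, hz, e⟩
    rw [← Category.assoc] at e
    obtain ⟨w, rfl, -⟩ := exists_point_of_isPullback (sqp.paste_vert sq₁) e
    obtain ⟨x', rfl⟩ := surjective_diagonal_of_univInjective hX' hi w
    refine hz ⟨Points.map gX x', ?_, by rw [← Points.map_comp, ← Points.map_comp, sqd.w]⟩
    exact (forall_map_iff sq₁ sq₂ _).1 (hu.2 hun) x'

/-! ### closed immersions -/

theorem isUnivClosedMor_of_comp_separated (hX : IsAlgSpace X) (hY : IsAlgSpace Y) (hZ : IsAlgSpace Z)
    (hp : IsUnivClosedMor (f ≫ q)) (hq : IsSeparatedMor q) : IsUnivClosedMor f := by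
  intro T P hT g fst snd sq
  have sqZ := IsPullback.of_hasPullback (f ≫ q) (g ≫ q)
  have hPZ := isAlgSpace_of_isPullback hZ.diag hX hT sqZ
  let ι := pullback.map f g (f ≫ q) (g ≫ q) (𝟙 _) (𝟙 _) q (Category.id_comp _).symm (Category.id_comp _).symm
  have hι : RepWith @IsClosedImmersion ι :=
    RepWith.baseChange (pullback_map_diagonal_isPullback f g q) hq
  have hιc : IsClosedMap (Points.map ι) := isClosedMap_of_univClosed hPZ
    ((repWith_universallyClosed_iff hι.1).1
      (RepWith.mono (fun _ _ a (_ : IsClosedImmersion a) => (inferInstance : UniversallyClosed a)) hι))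
  have hsnd : IsClosedMap (Points.map (pullback.snd (f ≫ q) (g ≫ q))) := hp hT (g ≫ q) _ _ sqZ
  have e : snd = sq.isoPullback.hom ≫ ι ≫ pullback.snd (f ≫ q) (g ≫ q) := by
    rw [show ι ≫ pullback.snd (f ≫ q) (g ≫ q) = pullback.snd f g from
      (pullback.lift_snd _ _ _).trans (Category.comp_id _), IsPullback.isoPullback_hom_snd]
  have he : IsClosedMap (Points.map sq.isoPullback.hom) := isClosedMap_map_iso sq.isoPullback
  rw [e]
  intro A hA
  have := hsnd _ (hιc _ (he _ hA))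
  rw [Set.image_image, Set.image_image] at this
  simp only [← Points.map_comp] at this
  exact this

theorem closedImmersion_iff (hX : IsAlgSpace X) (hY : IsAlgSpace Y) (hl : LocP @LocallyOfFiniteType f)
    (hc : IsUnivClosedMor f) :
    RepWith @IsClosedImmersion f ↔
      (LocP (@LocallyOfFiniteType ⊓ @FormallyUnramified) f ∧ IsUnivInjectiveMor f) := by
  refine ⟨fun h => ?_, fun h => ?_⟩
  · have : Mono f := mono_of_repWith (fun _ _ g (_ : IsClosedImmersion g) => inferInstance) h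
    exact ⟨unramified_of_mono_lft hX hY hl, univInjective_of_mono hX⟩
  · have := mono_of_unramified_univInjective hX hY h.1 h.2
    exact closedImmersion_of_univClosed_mono_lft hX hY hc hl



theorem isUnivClosedMor_bc {F G G' F' : Sp S} {a : F' ⟶ F} {b : F' ⟶ G'} {h : F ⟶ G} {k : G' ⟶ G}
    (sq : IsPullback a b h k) (hc : IsUnivClosedMor h) : IsUnivClosedMor b :=
  fun _ _ hT m fst snd s => hc hT (m ≫ k) (fst ≫ a) snd (s.paste_horiz sq)

theorem isClosedMap_snd_self (hY : IsAlgSpace Y) (hX : IsAlgSpace X) (hc : IsUnivClosedMor f)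
    (hp : IsClosedMap (Points.map (f ≫ q))) :
    IsClosedMap (Points.map (pullback.snd f f ≫ f ≫ q)) := by
  have h1 : IsClosedMap (Points.map (pullback.snd f f)) :=
    hc hX f _ _ (IsPullback.of_hasPullback f f)
  intro A hA
  have := hp _ (h1 _ hA)
  rw [Set.image_image] at this
  simp only [← Points.map_comp] at this
  exact this

theorem isIso_of_closedImmersion_flat (hX : IsAlgSpace X) (hY : IsAlgSpace Y)
    (hi : RepWith @IsClosedImmersion f) (hfl : LocP @Flat f)
    (hfp : LocP @LocallyOfFinitePresentation f) (hs : IsSurjectiveMor f) : IsIso f := by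
  refine isIso_of_repWith_isomorphisms (RepWith.mono
    (P := ((@IsClosedImmersion ⊓ @Flat) ⊓ @LocallyOfFinitePresentation) ⊓ @Surjective) (fun A B g h => ?_)
    (RepWith.and (RepWith.and (RepWith.and hi ((repWith_iff_locP etLocal_flat hX hY hi.1).2 hfl))
      ((repWith_iff_locP etLocal_lfp hX hY hi.1).2 hfp)) (repWith_surjective_of_surjective_map hi.1 hs)))
  obtain ⟨⟨⟨h1, h2⟩, h3⟩, h4⟩ := h
  exact Flat.isIso_of_surjective_of_mono g

theorem isIso_iff_conds (hX : IsAlgSpace X) (hY : IsAlgSpace Y)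
    (hfp : LocP @LocallyOfFinitePresentation f) (hc : IsUnivClosedMor f) :
    IsIso f ↔ ((IsSurjectiveMor f ∧ LocP @Flat f) ∧
      (LocP (@LocallyOfFiniteType ⊓ @FormallyUnramified) f ∧ IsUnivInjectiveMor f)) := by
  have hl : LocP @LocallyOfFiniteType f :=
    locP_mono (fun _ _ g (_ : LocallyOfFinitePresentation g) => (inferInstance : LocallyOfFiniteType g)) hfp
  rw [← closedImmersion_iff hX hY hl hc]
  refine ⟨fun h => ⟨⟨fun y => ⟨Points.map (inv f) y, by rw [← Points.map_comp, IsIso.inv_hom_id, Points.map_id]⟩,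
    locP_of_repWith etLocal_flat hX (repWith_of_isIso _ f)⟩, repWith_of_isIso _ f⟩, fun h => ?_⟩
  exact isIso_of_closedImmersion_flat hX hY h.2 h.1.2 hfp h.1.1

theorem lfp_of_comp (hX : IsAlgSpace X) (hY : IsAlgSpace Y) (hZ : IsAlgSpace Z)
    (h : LocP @LocallyOfFinitePresentation (f ≫ q)) (hq : LocP @LocallyOfFiniteType q) :
    LocP @LocallyOfFinitePresentation f :=
  locP_of_comp' etLocal_lfp hX hY hZ (fun A B C a b (hab : LocallyOfFinitePresentation (a ≫ b))
    (hb : LocallyOfFiniteType b) => EGA43.Limit.locallyOfFinitePresentation_of_comp a b) h hq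

end Groth.Agent.AlgSpLib
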