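import Groth.Agent.AlgSpLib.QuasiAffineFactor
import Groth.Agent.AlgSpLib.WhereLocus

/-!
Affine morphisms locally of finite type are closed immersions into affine spaces of finitely presented modules.
-/

universe u

open CategoryTheory CategoryTheory.Limits AlgebraicGeometry Opposite TopologicalSpace
open AlgSp

noncomputable section

set_option linter.style.haveILetI false

namespace Groth.Agent.AlgSpLib.AffineLftClosed

open Groth.Agent.AlgSpLib.QCohEt Groth.Agent.AlgSpLib.SerreAff RelSpecSp LimitSep VCart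

set_option backward.isDefEq.respectTransparency.types false
set_option backward.isDefEq.respectTransparency false

variable {S : Scheme.{u}}

theorem surjective_of_finset {R A B : Type u} [CommRing R] [CommRing A] [CommRing B] (σ : R →+* A) (ev : A →+* B)
    (t : Finset B) (ht : letI := (ev.comp σ).toAlgebra; Algebra.adjoin R (t : Set B) = ⊤)
    (hev : ∀ b ∈ t, b ∈ Set.range ev) : Function.Surjective ev := by
  letI := (ev.comp σ).toAlgebra
  let B' : Subalgebra R B :=
    { ev.range.toSubsemiring with algebraMap_mem' := fun r => ⟨σ r, rfl⟩ }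
  have : Algebra.adjoin R (t : Set B) ≤ B' := Algebra.adjoin_le fun b hb => hev b hb
  intro b
  exact this (ht.symm ▸ Algebra.mem_top)

/-- an affine morphism locally of finite type is a closed immersion followed by one of finite presentation -/
theorem exists_closed_factor_affine [QuasiSeparatedSpace ↥S] {X : Sp S} (hX : IsAlgSpace X) {Y : AlgSp.Space S}
    {ν : X ⟶ Y.obj} (haff : IsAffineMor ν) (hlft : LocP @LocallyOfFiniteType ν) (hqc : IsQuasiCompactSp Y.obj)
    (hqs : IsQuasiSeparatedSp Y.obj) :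
    ∃ (V : AlgSp.Space S) (π : V.obj ⟶ Y.obj) (i : X ⟶ V.obj), i ≫ π = ν ∧ RepWith @IsClosedImmersion i ∧
      IsFinitePresentationMor π ∧ IsAffineMor π ∧ IsQuasiCompactSp V.obj ∧ IsQuasiSeparatedSp V.obj := by
  classical
  haveI := compactSpace_points_of_isQuasiCompactSp hqc
  obtain ⟨B, b, hB, hbe, hbs⟩ := Groth.Agent.AlgSpLib.exists_affine_chart Y.property
  let E₀ : EtOver Y.obj := EtOver.mk b hbe
  have h₀ : IsAff E₀ := hB
  have hs₀ : RepWith @Surjective E₀.obj.hom := hbs
  have hr : Representable ν := ((isAffineMor_iff_repWith _).1 haff).1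
  haveI : IsAffine E₀.obj.left.left := h₀
  haveI hWaff : IsAffine (EtOver.bcObj hr E₀).obj.left.left := @isAff_bcObj _ _ _ _ hr haff E₀ h₀
  have hrep : RepWith @LocallyOfFiniteType ν := (repWith_iff_locP etLocal_lft hX Y.property hr).2 hlft
  haveI : LocallyOfFiniteType (EtOver.bcπ hr E₀).left := hrep.property _ _ _ (hr.isPullback E₀.obj.hom)
  have hft : (EtOver.bcπ hr E₀).left.appTop.hom.FiniteType :=
    HasRingHomProperty.appTop (P := @LocallyOfFiniteType) _ inferInstance
  obtain ⟨g⟩ := exists_gens hr haff hqc hqs E₀ h₀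
  obtain ⟨t, ht⟩ : ∃ t : Finset (Kap hr E₀), letI := (EtOver.bcπ hr E₀).left.appTop.hom.toAlgebra
      Algebra.adjoin (R0 E₀) (t : Set (Kap hr E₀)) = ⊤ := by
    letI := (EtOver.bcπ hr E₀).left.appTop.hom.toAlgebra
    exact (show Algebra.FiniteType (R0 E₀) (Kap hr E₀) from hft).out
  have hsurj : Function.Surjective (evA (g.FM t) hr (g.pA t) E₀ h₀).hom := by
    refine surjective_of_finset (strA (g.FM t) E₀ h₀).hom _ t ?_ fun b hb => g.exists_evA_eq t h₀ hb
    have e : (evA (g.FM t) hr (g.pA t) E₀ h₀).hom.comp (strA (g.FM t) E₀ h₀).hom =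
        (EtOver.bcπ hr E₀).left.appTop.hom :=
      congrArg (fun φ => φ.hom) (strA_evA (g.FM t) hr (g.pA t) E₀ h₀)
    rw [e]
    exact ht
  have hcl : IsClosedImmersion (chartMap (g.FM t) hr (g.pA t) E₀ h₀).left := by
    show IsClosedImmersion ((EtOver.bcObj hr E₀).obj.left.left.toSpecΓ ≫ Spec.map (evA (g.FM t) hr (g.pA t) E₀ h₀))
    haveI : IsClosedImmersion (Spec.map (evA (g.FM t) hr (g.pA t) E₀ h₀)) :=
      IsClosedImmersion.spec_of_surjective _ hsurj
    infer_instance
  have hVaff := isAffineMor_VS (g.FM t) (E₀ := E₀) h₀ hs₀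
  have hq₁ : RepWith @Etale (q (data (g.FM t)) E₀ h₀) :=
    RepWith.baseChange (isPullback_q (data (g.FM t)) E₀ h₀).flip E₀.property
  have hq₂ : RepWith @Surjective (q (data (g.FM t)) E₀ h₀) :=
    RepWith.baseChange (isPullback_q (data (g.FM t)) E₀ h₀).flip hs₀
  have hrep' : Representable (g.x t) :=
    (repWith_of_comp ⊤ (b := g.τ t)
      (show RepWith ⊤ (g.x t ≫ g.τ t) by rw [g.x_τ]; exact ⟨hr, fun _ _ _ _ _ _ => trivial⟩)
      (RepWith.mono le_top (diag_separated hVaff))).1
  have hcl' : RepWith @IsClosedImmersion (g.x t) := by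
    have := isLocallySurjective_of_etale hq₁ hq₂
    exact repWith_of_isLocallySurjective hrep' (q (data (g.FM t)) E₀ h₀)
      (isPullback_toV (g.FM t) hr (g.pA t) E₀ h₀) _ ((AlgSp.repWith_yon_map_iff _ _).2 hcl)
  exact ⟨VS (g.FM t) (E₀ := E₀) h₀ hs₀, g.τ t, g.x t, g.x_τ t, hcl',
    isFinitePresentationMor_VS (g.FM t) h₀ hs₀ (g.fp_GA t E₀ h₀), hVaff,
    isQuasiCompactSp_VS (g.FM t) h₀ hs₀, isQuasiSeparatedSp_of_affineMor hVaff hqs⟩

/-- composites of morphisms of finite presentation -/
theorem fp_comp {U V X : Sp S} (hU : IsAlgSpace U) (hV : IsAlgSpace V) (hX : IsAlgSpace X) {f : U ⟶ V} {g : V ⟶ X}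
    (hf : IsFinitePresentationMor f) (hg : IsFinitePresentationMor g) : IsFinitePresentationMor (f ≫ g) :=
  ⟨locP_comp etLocal_lfp hU hV hX hf.1 hg.1, isQuasiCompactMor_comp hU hV hX hf.2.1 hg.2.1,
    isQuasiSeparatedMor_comp hf.2.2 hg.2.2⟩

end Groth.Agent.AlgSpLib.AffineLftClosed
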