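import Groth.Agent.AlgSpLib.ChevMain
import Groth.Agent.AlgSpLib.FpqcBaseAffine2
import Groth.Agent.AlgSpLib.OpenCoverScheme
import Groth.Agent.AlgSpLib.WhereLocus

/-!
Integral bijective morphisms from schemes have schemes as targets.
-/

universe u

open CategoryTheory CategoryTheory.Limits AlgebraicGeometry Opposite
open AlgSp

noncomputable section

set_option linter.style.haveILetI false

namespace Groth.Agent.AlgSpLib.ChevGen

open Groth.Agent.AlgSpLib

set_option backward.isDefEq.respectTransparency.types false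
set_option backward.isDefEq.respectTransparency false

variable {S : Scheme.{u}}

/-- integral morphisms are universally closed -/
theorem isUnivClosedMor_of_integral {F G : Sp S} {f : F ⟶ G} (h : IsIntegralMor f) : IsUnivClosedMor f := by
  have h1 := (isIntegralMor_iff_repWith f).1 h
  exact (repWith_universallyClosed_iff h1.1).1
    (RepWith.mono (fun _ _ q (_ : IsIntegralHom q) => (inferInstance : UniversallyClosed q)) h1)

/-- a universally closed bijection from a scheme has a scheme as target -/
theorem exists_scheme_of_bijective {Y : AlgSp.Space S} {T : Over S} (f : (yon S).obj T ⟶ Y.obj)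
    (huc : IsUnivClosedMor f) (hbij : Function.Bijective (Points.ofPt f)) :
    ∃ G : Over S, Nonempty ((yon S).obj G ≅ Y.obj) := by
  let W : T.left.affineOpens → Set (Points Y.obj) := fun U => (Points.ofPt f '' (U.1 : Set T.left)ᶜ)ᶜ
  have hW : ∀ U, IsOpen (W U) := fun U => by
    refine IsClosed.isOpen_compl (self := ?_)
    have e : Points.ofPt f = Points.map f ∘ Points.schemeHomeo T :=
      funext fun t => Points.ofPt_eq_map_ofScheme f t
    rw [e, Set.image_comp]
    exact isClosedMap_of_univClosed Y.property huc _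
      ((Points.schemeHomeo T).isClosedMap _ U.1.2.isClosed_compl)
  have hpre : ∀ U t, Points.ofPt f t ∈ W U ↔ t ∈ U.1 := fun U t => by
    refine ⟨fun h => by_contra fun hn => h ⟨t, hn, rfl⟩, fun h ⟨t', ht', e⟩ => ht' ?_⟩
    rw [hbij.1 e]
    exact h
  have key : ∀ U : T.left.affineOpens, ∃ G : Over S,
      Nonempty ((yon S).obj G ≅ openSubspace Y.obj (W U)) := fun U => by
    let T' : Over S := Over.mk (U.1.ι ≫ T.hom)
    haveI : IsAffine T'.left := U.2
    let ι' : T' ⟶ T := Over.homMk U.1.ι
    obtain ⟨fU, hfU⟩ := (exists_lift_openSubspace_iff (W U) ((yon S).map ι' ≫ f)).2 fun t => by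
      rw [ofPt_map]
      exact (hpre U _).2 t.2
    haveI : Mono ι' := (Over.forget S).mono_of_mono_map (inferInstanceAs (Mono U.1.ι))
    have sq : IsPullback ((yon S).map ι') fU f (openSubspaceι Y.obj (W U)) := by
      refine isPullback_of_yon hfU.symm fun K x y e => ?_
      obtain ⟨x₀, rfl⟩ := (yon S).map_surjective x
      have hr : Set.range x₀.left ⊆ Set.range U.1.ι := by
        rintro _ ⟨k, rfl⟩
        have h := (exists_lift_openSubspace_iff (W U) _).1 ⟨y, e.symm⟩ k
        rw [ofPt_map, hpre] at h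
        exact Scheme.Opens.range_ι U.1 ▸ h
      let m : K ⟶ T' := Over.homMk (IsOpenImmersion.lift U.1.ι x₀.left hr)
        (by simp [T', IsOpenImmersion.lift_fac_assoc])
      have hm : m ≫ ι' = x₀ := Over.OverMorphism.ext (IsOpenImmersion.lift_fac _ _ _)
      refine ⟨(yon S).map m, ⟨by rw [← Functor.map_comp, hm], (cancel_mono (openSubspaceι Y.obj (W U))).1 ?_⟩, ?_⟩
      · rw [Category.assoc, hfU, ← Functor.map_comp_assoc, hm, e]
      · rintro z ⟨hz, -⟩
        obtain ⟨z, rfl⟩ := (yon S).map_surjective z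
        rw [← Functor.map_comp] at hz
        have := (yon S).map_injective hz
        rw [← hm, cancel_mono] at this
        rw [this]
    have hsurj : IsSurjectiveMor fU := fun v => by
      obtain ⟨t, ht⟩ := hbij.2 (Points.map (openSubspaceι Y.obj (W U)) v)
      have htU : t ∈ U.1 := (hpre U t).1 (ht ▸ (range_openSubspaceι Y.obj (W U)).le ⟨v, rfl⟩)
      refine ⟨Points.schemeEquiv T' (⟨t, htU⟩ : U.1), injective_map_of_mono (openSubspaceι Y.obj (W U)) ?_⟩
      rw [← Points.map_comp, hfU, ← ht]
      exact (Points.ofPt_eq_map_ofScheme ((yon S).map ι' ≫ f) _).symm.trans (ofPt_map ι' f _)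
    obtain ⟨G, -, e⟩ := exists_affine_of_univClosed
      (X := ⟨openSubspace Y.obj (W U), isAlgSpace_openSubspace Y.property (hW U)⟩) fU hsurj
      (isUnivClosedMor_of_isPullback sq huc)
    exact ⟨G, e⟩
  choose G e using key
  refine exists_iso_yon_of_openCover (fun U => (e U).some.hom ≫ openSubspaceι Y.obj (W U))
    (fun U => RepWith.comp (repWith_of_isIso @IsOpenImmersion _) (repWith_openSubspaceι Y.obj (hW U))) fun y => ?_
  obtain ⟨t, rfl⟩ := hbij.2 y
  obtain ⟨_, ⟨U, hU, rfl⟩, ht, -⟩ :=
    T.left.isBasis_affineOpens.exists_subset_of_mem_open (Set.mem_univ t) isOpen_univ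
  obtain ⟨v, hv⟩ := (range_openSubspaceι Y.obj (W ⟨U, hU⟩)).symm.le ((hpre ⟨U, hU⟩ t).2 ht)
  exact ⟨⟨U, hU⟩, Points.map (e ⟨U, hU⟩).some.inv v, by rw [← Points.map_comp, Iso.inv_hom_id_assoc, hv]⟩

end Groth.Agent.AlgSpLib.ChevGen
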