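import Groth.Agent.AlgSpLib.Basic
import Mathlib.CategoryTheory.Adjunction.Unique

/-!
Change of the base scheme `g : S ⟶ S'`: the left adjoint `j_!` of restriction identifies sheaves over `S` with
sheaves over `S'` equipped with a morphism to `h_S`.
-/

universe u

open CategoryTheory CategoryTheory.Limits AlgebraicGeometry Opposite
open AlgSp

noncomputable section

namespace Groth.Agent.AlgSpLib.BaseSch

set_option backward.isDefEq.respectTransparency.types false

variable {S S' : Scheme.{u}} (g : S ⟶ S') (F : Sp S)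

/-- sections of `j_! F` -/
def Sec (T : Over S') : Type (u + 1) :=
  Σ φ : T ⟶ Over.mk g, F.obj.obj (op (Over.mk (φ.left : T.left ⟶ S)))

variable {g F}

/-- the morphism over `S` induced by a morphism over `S'` -/
def res {T₁ T₂ : Over S'} (f : T₂ ⟶ T₁) (φ : T₁ ⟶ Over.mk g) :
    Over.mk ((f ≫ φ).left : T₂.left ⟶ S) ⟶ Over.mk (φ.left : T₁.left ⟶ S) :=
  Over.homMk f.left rfl

theorem sec_ext {T : Over S'} {a b : Sec g F T} (h : a.1 = b.1)
    (h' : F.obj.map (Over.homMk (𝟙 T.left) (by simp [h]) :
      Over.mk (b.1.left : T.left ⟶ S) ⟶ Over.mk (a.1.left : T.left ⟶ S)).op a.2 = b.2) : a = b := by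
  obtain ⟨φ, x⟩ := a
  obtain ⟨φ', x'⟩ := b
  obtain rfl : φ = φ' := h
  refine congrArg (Sigma.mk φ) ?_
  refine Eq.trans ?_ h'
  dsimp only
  rw [show (Over.homMk (𝟙 T.left) (by simp) : Over.mk (φ.left : T.left ⟶ S) ⟶ Over.mk (φ.left : T.left ⟶ S))
    = 𝟙 _ from rfl, op_id, Functor.map_id_apply]

/-- restriction of sections -/
def secMap {T₁ T₂ : Over S'} (f : T₂ ⟶ T₁) (a : Sec g F T₁) : Sec g F T₂ :=
  ⟨f ≫ a.1, F.obj.map (res f a.1).op a.2⟩

theorem map_homMk_eq {X Y Z : Over S} (p : Z ⟶ Y) (q : Y ⟶ X) (r : Z ⟶ X) (h : p.left ≫ q.left = r.left)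
    (x : F.obj.obj (op X)) : F.obj.map p.op (F.obj.map q.op x) = F.obj.map r.op x := by
  rw [← Functor.map_comp_apply, ← op_comp]
  exact congrArg (fun k => F.obj.map (Quiver.Hom.op k) x) (Over.OverMorphism.ext h)

variable (g F)

/-- `j_! F` as a presheaf -/
def pre : (Over S')ᵒᵖ ⥤ Type (u + 1) where
  obj T := Sec g F T.unop
  map {T₁ T₂} f := TypeCat.ofHom (fun a => secMap f.unop a)
  map_id T := by
    ext a
    refine sec_ext (Category.id_comp _) ?_
    exact (map_homMk_eq _ _ (𝟙 _) (Category.id_comp _) a.2).trans (Functor.map_id_apply _ _ _)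
  map_comp {T₁ T₂ T₃} f f' := by
    ext a
    refine sec_ext (Category.assoc _ _ _) ?_
    let r : Over.mk ((f'.unop ≫ f.unop ≫ a.1).left : T₃.unop.left ⟶ S) ⟶ Over.mk (a.1.left : T₁.unop.left ⟶ S) :=
      Over.homMk (f'.unop.left ≫ f.unop.left) (by simp)
    refine (map_homMk_eq _ _ r ?_ a.2).trans (map_homMk_eq _ _ r ?_ a.2).symm
    · exact Category.id_comp _
    · rfl

variable {g F}

/-- the canonical morphism `Z ⟶ S` over `S'` -/
def can (g : S ⟶ S') (Z : Over S) : (Over.map g).obj Z ⟶ Over.mk g := Over.homMk Z.hom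

/-- evaluation of a section at a scheme over `S` -/
def val {T : Over S'} (a : Sec g F T) {Z : Over S} (q : Z.left ⟶ T.left) (hq : q ≫ a.1.left = Z.hom) :
    F.obj.obj (op Z) :=
  F.obj.map (Over.homMk q hq : Z ⟶ Over.mk (a.1.left : T.left ⟶ S)).op a.2

theorem val_congr {T : Over S'} {a b : Sec g F T} (h : a = b) {Z : Over S} {q : Z.left ⟶ T.left}
    (hq : q ≫ a.1.left = Z.hom) : val a q hq = val b q (h ▸ hq) := by
  subst h; rfl

theorem val_secMap {T₁ T₂ : Over S'} (f : T₂ ⟶ T₁) (a : Sec g F T₁) {Z : Over S} (q : Z.left ⟶ T₂.left)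
    (hq : q ≫ (secMap f a).1.left = Z.hom) :
    val (secMap f a) q hq = val a (q ≫ f.left) (by rw [Category.assoc]; exact hq) :=
  map_homMk_eq (Over.homMk q hq : Z ⟶ Over.mk ((f ≫ a.1).left : T₂.left ⟶ S)) (res f a.1)
    (Over.homMk (q ≫ f.left) (by rw [Category.assoc]; exact hq) : Z ⟶ Over.mk (a.1.left : T₁.left ⟶ S)) rfl a.2

theorem map_val {T : Over S'} (a : Sec g F T) {Z W : Over S} (k : W ⟶ Z) (q : Z.left ⟶ T.left)
    (hq : q ≫ a.1.left = Z.hom) :
    F.obj.map k.op (val a q hq) = val a (k.left ≫ q) (by rw [Category.assoc, hq, Over.w]) :=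
  map_homMk_eq _ _ _ rfl a.2

theorem sec_ext_val {T : Over S'} {a b : Sec g F T} (h : a.1 = b.1)
    (h' : val a (Z := Over.mk (a.1.left : T.left ⟶ S)) (𝟙 T.left) (Category.id_comp _) =
      val b (Z := Over.mk (a.1.left : T.left ⟶ S)) (𝟙 T.left) (by simp [h])) : a = b := by
  obtain ⟨φ, x⟩ := a
  obtain ⟨φ', x'⟩ := b
  obtain rfl : φ = φ' := h
  have e : (Over.homMk (𝟙 T.left) (Category.id_comp _) :
      Over.mk (φ.left : T.left ⟶ S) ⟶ Over.mk (φ.left : T.left ⟶ S)) = 𝟙 _ := rfl
  refine congrArg (Sigma.mk φ) ?_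
  dsimp only [val] at h'
  rw [e, op_id, Functor.map_id_apply, Functor.map_id_apply] at h'
  exact h'

variable (g F)

theorem isSheaf_pre : Presieve.IsSheaf (J S') (pre g F) := by
  intro T R hR x hx
  rw [Presieve.compatible_iff_sieveCompatible] at hx
  have hY := ((isSheaf_iff_isSheaf_of_type _ _).1 ((yon S').obj (Over.mk g)).property) R hR
  obtain ⟨⟨φ⟩, hφ, hφu⟩ := hY (fun _ f hf => ULift.up (x f hf).1)
    (Presieve.compatible_iff_sieveCompatible _ |>.2 fun Y Z f k hf => by
      refine ULift.ext _ _ ?_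
      show (x (k ≫ f) _).1 = k ≫ (x f hf).1
      rw [hx f k hf]
      rfl)
  have hφ' : ∀ {Y : Over S'} (f : Y ⟶ T) (hf : R f), f ≫ φ = (x f hf).1 := fun f hf =>
    congrArg ULift.down (hφ f hf)
  let X₀ : Over S := Over.mk (φ.left : T.left ⟶ S)
  let dn : ∀ {Z : Over S}, (Z ⟶ X₀) → ((Over.map g).obj Z ⟶ T) := fun {Z} h => Over.homMk h.left (by
    show h.left ≫ T.hom = Z.hom ≫ g
    rw [← Over.w φ, ← Category.assoc]
    exact congrArg (· ≫ g) (Over.w h))
  let R₀ : Sieve X₀ :=
    { arrows := fun Z h => R (dn h)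
      downward_closed := fun {Z W h} hh k => by
        convert R.downward_closed hh ((Over.map g).map k) using 1
        exact Over.OverMorphism.ext rfl }
  have hR₀ : R₀ ∈ (J S) X₀ := by
    rw [J_eq, GrothendieckTopology.mem_over_iff]
    rw [J_eq, GrothendieckTopology.mem_over_iff] at hR
    refine GrothendieckTopology.superset_covering _ (fun Y f hf => ?_) hR
    rw [Sieve.overEquiv_iff] at hf ⊢
    show R (dn _)
    let i : (Over.map g).obj (Over.mk (f ≫ X₀.hom)) ⟶ Over.mk (f ≫ T.hom) := Over.homMk (𝟙 Y) (by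
      show 𝟙 Y ≫ f ≫ T.hom = (f ≫ φ.left) ≫ g
      rw [Category.id_comp, Category.assoc, ← Over.w φ]
      rfl)
    convert R.downward_closed hf i using 1
    exact Over.OverMorphism.ext (Category.id_comp _).symm
  have hq : ∀ {Z : Over S} (h : Z ⟶ X₀) (hh : R₀ h), 𝟙 _ ≫ (x (dn h) hh).1.left = Z.hom := fun h hh => by
    rw [Category.id_comp, ← hφ' (dn h) hh]
    exact Over.w h
  have hF := ((isSheaf_iff_isSheaf_of_type _ _).1 F.property) R₀ hR₀
  obtain ⟨z, hz, hzu⟩ := hF (fun Z h hh => val (x (dn h) hh) (Z := Z) (𝟙 _) (hq h hh))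
    (Presieve.compatible_iff_sieveCompatible _ |>.2 fun Z W h k hh => by
      have e : (Over.map g).map k ≫ dn h = dn (k ≫ h) := Over.OverMorphism.ext rfl
      have e2 : x (dn (k ≫ h)) (R₀.downward_closed hh k) = secMap ((Over.map g).map k) (x (dn h) hh) := by
        refine Eq.trans ?_ (hx (dn h) ((Over.map g).map k) hh)
        congr 1
      refine (val_congr e2 _).trans ((val_secMap _ _ _ _).trans (Eq.trans ?_ (map_val _ k _ _).symm))
      congr 1
      )
  have key : ∀ (t : Sec g F T), (∀ {Y : Over S'} (f : Y ⟶ T) (hf : R f), secMap f t = x f hf) →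
      ∃ h : t.1 = φ, val t (Z := X₀) (𝟙 _) (by rw [h]; exact Category.id_comp _) = z := by
    intro t ht
    have h : t.1 = φ := congrArg ULift.down (hφu (ULift.up t.1) fun Y f hf =>
      ULift.ext _ _ (congrArg Sigma.fst (ht f hf)))
    refine ⟨h, hzu _ fun Z k hk => ?_⟩
    refine (map_val _ k _ _).trans (Eq.trans ?_ ((val_secMap (dn k) t (𝟙 _) _).symm.trans
      (val_congr (ht (dn k) hk) (by
        show 𝟙 _ ≫ (dn k ≫ t.1).left = _
        rw [h, Category.id_comp]; exact Over.w k))))
    congr 1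
  have hpre : ∀ {Y : Over S'} (f : Y ⟶ T) (hf : R f), secMap f ⟨φ, z⟩ = x f hf := by
    intro Y f hf
    refine sec_ext_val (hφ' f hf) ?_
    let h : Over.mk ((f ≫ φ).left : Y.left ⟶ S) ⟶ X₀ := res f φ
    let i : (Over.map g).obj (Over.mk ((f ≫ φ).left : Y.left ⟶ S)) ⟶ Y := Over.homMk (𝟙 _) (by
      show 𝟙 _ ≫ Y.hom = (f.left ≫ φ.left) ≫ g
      rw [Category.id_comp, Category.assoc, ← Over.w f, ← Over.w φ]
      rfl)
    have e : i ≫ f = dn h := Over.OverMorphism.ext (Category.id_comp _)
    have hh : R₀ h := by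
      show R (dn h)
      rw [← e]; exact R.downward_closed hf i
    have e2 : x (dn h) hh = secMap i (x f hf) := by
      refine Eq.trans ?_ (hx f i hf)
      congr 1
    refine Eq.trans ?_ ((hz h hh).trans ((val_congr e2 _).trans (val_secMap _ _ _ _) |>.trans ?_))
    · exact (map_homMk_eq _ _ h (Category.id_comp _) z)
    · congr 1
  refine ⟨⟨φ, z⟩, fun Y f hf => hpre f hf, fun t ht => ?_⟩
  obtain ⟨h, hh⟩ := key t fun f hf => ht f hf
  refine sec_ext h ?_
  exact hh

/-- `j_! F` -/
def shriekObj : Sp S' := ⟨pre g F, (isSheaf_iff_isSheaf_of_type _ _).2 (isSheaf_pre g F)⟩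

variable {F}

/-- `j_!` -/
def shriek : Sp S ⥤ Sp S' where
  obj F := shriekObj g F
  map {F G} α := ⟨{
    app := fun T => TypeCat.ofHom fun (a : Sec g F T.unop) => (⟨a.1, α.hom.app _ a.2⟩ : Sec g G T.unop)
    naturality := fun {T₁ T₂} f => by
      ext a
      exact congrArg (Sigma.mk (f.unop ≫ a.1)) (NatTrans.naturality_apply α.hom _ a.2) }⟩

/-- the structure map `j_! F ⟶ h_S` -/
def proj (F : Sp S) : (shriek g).obj F ⟶ (yon S').obj (Over.mk g) :=
  ⟨{ app := fun T => TypeCat.ofHom fun (a : Sec g F T.unop) => ULift.up a.1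
     naturality := fun _ _ _ => rfl }⟩

theorem shriek_map_proj {F G : Sp S} (α : F ⟶ G) : (shriek g).map α ≫ proj g G = proj g F := rfl

/-- sheaves over `S` as sheaves over `S'` with a map to `h_S` -/
def toOver : Sp S ⥤ Over ((yon S').obj (Over.mk g)) where
  obj F := Over.mk (proj g F)
  map α := Over.homMk ((shriek g).map α) (shriek_map_proj g α)

/-- a scheme over `S'` with a map to `S`, compared with its image under `Over.map g` -/
def toMap {T : Over S'} (φ : T ⟶ Over.mk g) : T ⟶ (Over.map g).obj (Over.mk (φ.left : T.left ⟶ S)) :=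
  Over.homMk (𝟙 _) (by
    show 𝟙 _ ≫ φ.left ≫ g = T.hom
    rw [Category.id_comp, ← Over.w φ]
    rfl)

/-- the inverse of `toMap` -/
def fromMap {T : Over S'} (φ : T ⟶ Over.mk g) : (Over.map g).obj (Over.mk (φ.left : T.left ⟶ S)) ⟶ T :=
  Over.homMk (𝟙 _) (by
    show 𝟙 _ ≫ T.hom = φ.left ≫ g
    rw [Category.id_comp, ← Over.w φ]
    rfl)

/-- the tautological section over a scheme over `S` -/
def inc (F : Sp S) (Z : Over S) (x : F.obj.obj (op Z)) : Sec g F ((Over.map g).obj Z) :=
  ⟨can g Z, F.obj.map (Over.homMk (𝟙 _) (Category.id_comp _) : Over.mk ((can g Z).left : Z.left ⟶ S) ⟶ Z).op x⟩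

theorem val_inc (Z : Over S) (x : F.obj.obj (op Z)) :
    val (inc g F Z x) (Z := Z) (𝟙 _) (Category.id_comp _) = x :=
  (map_homMk_eq _ _ (𝟙 Z) (Category.id_comp _) x).trans (Functor.map_id_apply _ _ _)

theorem secMap_toMap_inc {T : Over S'} (a : Sec g F T) :
    secMap (toMap g a.1) (inc g F (Over.mk (a.1.left : T.left ⟶ S)) a.2) = a := by
  refine sec_ext (Over.OverMorphism.ext (Category.id_comp _)) ?_
  refine (congrArg _ (map_homMk_eq _ _ (Over.homMk (𝟙 _) (by simp)) ?_ a.2)).trans
    ((map_homMk_eq _ _ (𝟙 _) ?_ a.2).trans (Functor.map_id_apply _ _ _))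
  · exact Category.id_comp _
  · exact Category.id_comp _

theorem inc_map {Z W : Over S} (k : W ⟶ Z) (x : F.obj.obj (op Z)) :
    inc g F W (F.obj.map k.op x) = secMap ((Over.map g).map k) (inc g F Z x) := by
  refine sec_ext (Over.OverMorphism.ext (Over.w k).symm) ?_
  let r : Over.mk (((Over.map g).map k ≫ can g Z).left : W.left ⟶ S) ⟶ Z :=
    Over.homMk k.left rfl
  refine ((congrArg _ (map_homMk_eq _ k (Over.homMk k.left (by simp)) (Category.id_comp _) x)).trans
    (map_homMk_eq _ _ r ?_ x)).trans (map_homMk_eq _ _ r ?_ x).symm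
  · exact Category.id_comp _
  · exact Category.comp_id _

variable {g}

theorem shriek_hom_ext {G : Sp S'} {β β' : (shriek g).obj F ⟶ G}
    (h : ∀ (Z : Over S) (x : F.obj.obj (op Z)), β.hom.app _ (inc g F Z x) = β'.hom.app _ (inc g F Z x)) :
    β = β' := by
  refine Sheaf.hom_ext (NatTrans.ext (funext fun T => ?_))
  ext a
  change Sec g F T.unop at a
  have h1 := NatTrans.naturality_apply β.hom (toMap g a.1).op (inc g F _ a.2)
  have h2 := NatTrans.naturality_apply β'.hom (toMap g a.1).op (inc g F _ a.2)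
  have e : ((shriek g).obj F).obj.map (toMap g a.1).op (inc g F _ a.2) = a := secMap_toMap_inc g a
  rw [e] at h1 h2
  exact h1.trans ((congrArg _ (h _ _)).trans h2.symm)

variable (g)

/-- `Hom(j_! F, G) ≃ Hom(F, j⁻¹ G)` -/
def homEquiv (F : Sp S) (G : Sp S') :
    ((shriek g).obj F ⟶ G) ≃ (F ⟶ (Scheme.fppfTopology.overMapPullback (Type (u + 1)) g).obj G) where
  toFun β := ⟨{
    app := fun Z => TypeCat.ofHom fun x => β.hom.app _ (inc g F Z.unop x)
    naturality := fun {Z W} k => by
      ext x
      exact (congrArg (β.hom.app _) (inc_map g k.unop x)).trans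
        (NatTrans.naturality_apply β.hom ((Over.map g).map k.unop).op (inc g F Z.unop x)) }⟩
  invFun α := ⟨{
    app := fun T => TypeCat.ofHom fun (a : Sec g F T.unop) => G.obj.map (toMap g a.1).op (α.hom.app _ a.2)
    naturality := fun {T₁ T₂} f => by
      ext a
      change Sec g F T₁.unop at a
      refine (congrArg (G.obj.map (toMap g (f.unop ≫ a.1)).op)
        (NatTrans.naturality_apply α.hom (res f.unop a.1).op a.2)).trans ?_
      show G.obj.map _ (G.obj.map ((Over.map g).map (res f.unop a.1)).op _) = G.obj.map f (G.obj.map _ _)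
      rw [← Functor.map_comp_apply, ← Functor.map_comp_apply]
      refine congrArg (fun k => G.obj.map k (α.hom.app _ a.2)) (Quiver.Hom.unop_inj (Over.OverMorphism.ext ?_))
      exact (Category.id_comp _).trans (Category.comp_id _).symm }⟩
  left_inv β := shriek_hom_ext fun Z x => by
    show G.obj.map _ (β.hom.app _ (inc g F _ (inc g F Z x).2)) = β.hom.app _ (inc g F Z x)
    refine (NatTrans.naturality_apply β.hom (toMap g (inc g F Z x).1).op _).symm.trans ?_
    exact congrArg _ (secMap_toMap_inc g (inc g F Z x))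
  right_inv α := by
    refine Sheaf.hom_ext (NatTrans.ext (funext fun Z => ?_))
    ext x
    let i : Over.mk ((can g Z.unop).left : Z.unop.left ⟶ S) ⟶ Z.unop := Over.homMk (𝟙 _) (Category.id_comp _)
    show G.obj.map (toMap g (can g Z.unop)).op (α.hom.app _ (F.obj.map i.op x)) = α.hom.app Z x
    refine (congrArg _ (NatTrans.naturality_apply α.hom i.op x)).trans ?_
    show G.obj.map _ (G.obj.map ((Over.map g).map i).op _) = _
    rw [← Functor.map_comp_apply]
    refine Eq.trans (congrArg (fun k => G.obj.map k (α.hom.app Z x))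
      (Quiver.Hom.unop_inj (Over.OverMorphism.ext ?_) : _ = 𝟙 (op ((Over.map g).obj Z.unop)))) (Functor.map_id_apply _ _ _)
    exact Category.id_comp _

/-- `j_! ⊣ j⁻¹` -/
def adj : shriek g ⊣ Scheme.fppfTopology.overMapPullback (Type (u + 1)) g :=
  Adjunction.mkOfHomEquiv
    { homEquiv := homEquiv g
      homEquiv_naturality_left_symm := fun α β => by
        refine shriek_hom_ext fun Z x => ?_
        rfl
      homEquiv_naturality_right := fun β γ => rfl }

/-- Mathlib's left adjoint agrees with the explicit one -/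
def shriekIso : (Over.map g).sheafPullback (Type (u + 1)) (J S) (J S') ≅ shriek g :=
  ((Over.map g).sheafAdjunctionContinuous (Type (u + 1)) (J S) (J S')).leftAdjointUniq (adj g)

instance : (toOver g).Faithful where
  map_injective {F G} α α' h := by
    have h' : (shriek g).map α = (shriek g).map α' := congrArg (fun k => k.left) h
    refine Sheaf.hom_ext (NatTrans.ext (funext fun Z => ?_))
    ext x
    have := congrArg (fun k : _ ⟶ (shriek g).obj G => k.hom.app _ (inc g F Z.unop x)) h'
    have e : ∀ β : F ⟶ G, (⟨can g Z.unop, β.hom.app _ (inc g F Z.unop x).2⟩ : Sec g G _) = inc g G Z.unop (β.hom.app Z x) :=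
      fun β => congrArg (Sigma.mk _) (NatTrans.naturality_apply β.hom _ x)
    have := ((e α).symm.trans (this.trans (e α')))
    exact (val_inc g Z.unop _).symm.trans ((val_congr this _).trans (val_inc g Z.unop _))

theorem fst_eq {F G : Sp S} {b : (shriek g).obj F ⟶ (shriek g).obj G} (hb0 : b ≫ proj g G = proj g F)
    {T : Over S'} (a : Sec g F T) : (b.hom.app (op T) a : Sec g G T).1 = a.1 := by
  have h := ConcreteCategory.congr_hom (congrArg (fun k : (shriek g).obj F ⟶ _ => k.hom.app (op T)) hb0) a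
  exact congrArg ULift.down h

theorem exists_preimage {F G : Sp S} (b : (shriek g).obj F ⟶ (shriek g).obj G)
    (hb0 : b ≫ proj g G = proj g F) : ∃ α : F ⟶ G, (shriek g).map α = b := by
  let bb : ∀ {T : Over S'}, Sec g F T → Sec g G T := fun {T} a => b.hom.app (op T) a
  have hbn : ∀ {T₁ T₂ : Over S'} (f : T₂ ⟶ T₁) (a : Sec g F T₁), bb (secMap f a) = secMap f (bb a) :=
    fun f a => NatTrans.naturality_apply b.hom f.op a
  have hq : ∀ {Z : Over S} (x : F.obj.obj (op Z)), 𝟙 _ ≫ (bb (inc g F Z x)).1.left = Z.hom := fun {Z} x => by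
    rw [Category.id_comp, fst_eq g hb0]; rfl
  let m : F.obj ⟶ G.obj :=
    { app := fun Z => TypeCat.ofHom fun x => val (bb (inc g F Z.unop x)) (𝟙 _) (hq x)
      naturality := fun {Z W} k => by
        ext x
        have e : bb (inc g F W.unop (F.obj.map k.unop.op x)) = secMap ((Over.map g).map k.unop) (bb (inc g F Z.unop x)) :=
          (congrArg bb (inc_map g k.unop x)).trans (hbn _ _)
        show val (bb (inc g F W.unop (F.obj.map k.unop.op x))) (𝟙 _) (hq _) =
          G.obj.map k.unop.op (val (bb (inc g F Z.unop x)) (𝟙 _) (hq x))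
        refine (val_congr e _).trans ((val_secMap _ _ _ _).trans (Eq.trans ?_ (map_val _ _ _ _).symm))
        congr 1 }
  refine ⟨⟨m⟩, shriek_hom_ext fun Z x => ?_⟩
  let i : Over.mk ((can g Z).left : Z.left ⟶ S) ⟶ Z := Over.homMk (𝟙 _) (Category.id_comp _)
  refine sec_ext_val (fst_eq g hb0 (inc g F Z x)).symm ?_
  have e : bb (inc g F _ (F.obj.map i.op x)) = secMap ((Over.map g).map i) (bb (inc g F Z x)) :=
    (congrArg bb (inc_map g i x)).trans (hbn _ _)
  show G.obj.map _ (val (bb (inc g F _ (F.obj.map i.op x))) (𝟙 _) (hq _)) =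
    val (bb (inc g F Z x)) (Z := Over.mk ((can g Z).left : Z.left ⟶ S)) (𝟙 _) _
  refine (map_val _ _ _ _).trans ((val_congr e _).trans ((val_secMap _ _ _ _).trans ?_))
  congr 1

instance : (toOver g).Full where
  map_surjective {F G} β := by
    obtain ⟨α, hα⟩ := exists_preimage g β.left (Over.w β)
    exact ⟨α, Over.OverMorphism.ext hα⟩

instance : (toOver g).EssSurj where
  mem_essImage G := by
    let θ : ∀ {T : Over S'}, G.left.obj.obj (op T) → (T ⟶ Over.mk g) := fun {T} y => ULift.down (G.hom.hom.app (op T) y)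
    have hθ : ∀ {T₁ T₂ : Over S'} (f : T₂ ⟶ T₁) (y : G.left.obj.obj (op T₁)),
        θ (G.left.obj.map f.op y) = f ≫ θ y := fun f y =>
      congrArg ULift.down (NatTrans.naturality_apply G.hom.hom f.op y)
    let P : (Over S)ᵒᵖ ⥤ Type (u + 1) :=
      { obj := fun Z => { y : G.left.obj.obj (op ((Over.map g).obj Z.unop)) // θ y = can g Z.unop }
        map := fun {Z W} k => TypeCat.ofHom fun y => ⟨G.left.obj.map ((Over.map g).map k.unop).op y.1, by
          rw [hθ, y.2]; exact Over.OverMorphism.ext (Over.w k.unop)⟩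
        map_id := fun Z => by
          ext y
          exact (congrArg (fun k => G.left.obj.map k y.1) (congrArg Quiver.Hom.op ((Over.map g).map_id _))).trans
            (Functor.map_id_apply _ _ _)
        map_comp := fun k k' => by
          ext y
          exact (congrArg (fun k => G.left.obj.map k y.1) (congrArg Quiver.Hom.op ((Over.map g).map_comp _ _))).trans
            (Functor.map_comp_apply _ _ _ _) }
    have hP : Presieve.IsSheaf (J S) P := by
      intro Z R hR x hx
      have hG := (isSheaf_iff_isSheaf_of_type _ _).1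
        ((Scheme.fppfTopology.overMapPullback (Type (u + 1)) g).obj G.left).property R hR
      obtain ⟨y, hy, hyu⟩ := hG (fun W f hf => (x f hf).1)
        (fun W₁ W₂ V g₁ g₂ f₁ f₂ h₁ h₂ e => congrArg Subtype.val (hx g₁ g₂ h₁ h₂ e))
      have hs := (isSheaf_iff_isSheaf_of_type _ _).1
        ((Scheme.fppfTopology.overMapPullback (Type (u + 1)) g).obj ((yon S').obj (Over.mk g))).property R hR
      have h1 : θ y = can g Z := congrArg ULift.down (hs.isSeparatedFor.ext
        (t₁ := ULift.up (θ y)) (t₂ := ULift.up (can g Z)) fun W f hf => ULift.ext _ _ (by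
          show (Over.map g).map f ≫ θ y = (Over.map g).map f ≫ can g Z
          rw [← hθ, show G.left.obj.map ((Over.map g).map f).op y = (x f hf).1 from hy f hf, (x f hf).2]
          exact Over.OverMorphism.ext (Over.w f).symm))
      exact ⟨⟨y, h1⟩, fun W f hf => Subtype.ext (hy f hf),
        fun t ht => Subtype.ext (hyu t.1 fun W f hf => congrArg Subtype.val (ht f hf))⟩
    let F₀ : Sp S := ⟨P, (isSheaf_iff_isSheaf_of_type _ _).2 hP⟩
    let α : (shriek g).obj F₀ ⟶ G.left := (homEquiv g F₀ G.left).symm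
      ⟨{ app := fun Z => TypeCat.ofHom fun y => y.1, naturality := fun _ _ _ => rfl }⟩
    have hα : ∀ (T : Over S') (a : Sec g F₀ T), α.hom.app (op T) a = G.left.obj.map (toMap g a.1).op a.2.1 :=
      fun T a => rfl
    have hα' : ∀ (T : Over S') (a : Sec g F₀ T), θ (α.hom.app (op T) a) = a.1 := fun T a => by
      rw [hα, hθ, a.2.2]
      exact Over.OverMorphism.ext (Category.id_comp _)
    have hiso : IsIso α.hom := by
      refine @NatIso.isIso_of_isIso_app _ _ _ _ _ _ α.hom fun T => (isIso_iff_bijective _).2 ?_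
      obtain ⟨T⟩ := T
      refine ⟨fun a b e => ?_, fun y => ?_⟩
      · have h : a.1 = b.1 := by rw [← hα' T a, ← hα' T b]; exact congrArg θ e
        obtain ⟨φ, y⟩ := a
        obtain ⟨φ', y'⟩ := b
        obtain rfl : φ = φ' := h
        refine congrArg (Sigma.mk φ) (Subtype.ext ?_)
        have h2 : ∀ z : G.left.obj.obj (op ((Over.map g).obj (Over.mk (φ.left : T.left ⟶ S)))),
            G.left.obj.map (fromMap g φ).op (G.left.obj.map (toMap g φ).op z) = z := fun z => by
          rw [← Functor.map_comp_apply, ← op_comp]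
          exact (congrArg (fun k => G.left.obj.map (Quiver.Hom.op k) z)
            (Over.OverMorphism.ext (Category.id_comp _) : fromMap g φ ≫ toMap g φ = 𝟙 _)).trans
            (Functor.map_id_apply _ _ _)
        exact (h2 _).symm.trans ((congrArg _ e).trans (h2 _))
      · refine ⟨⟨θ y, ⟨G.left.obj.map (fromMap g (θ y)).op y, ?_⟩⟩, ?_⟩
        · rw [hθ]; exact Over.OverMorphism.ext (Category.id_comp _)
        · show G.left.obj.map (toMap g (θ y)).op (G.left.obj.map (fromMap g (θ y)).op y) = y
          rw [← Functor.map_comp_apply, ← op_comp]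
          exact (congrArg (fun k => G.left.obj.map (Quiver.Hom.op k) y)
            (Over.OverMorphism.ext (Category.id_comp _) : toMap g (θ y) ≫ fromMap g (θ y) = 𝟙 _)).trans
            (Functor.map_id_apply _ _ _)
    have : IsIso ((sheafToPresheaf _ _).map α) := hiso
    have hI : IsIso α := isIso_of_reflects_iso α (sheafToPresheaf _ _)
    refine ⟨F₀, ⟨Over.isoMk (@asIso _ _ _ _ α hI) (Sheaf.hom_ext (NatTrans.ext (funext fun T => ?_)))⟩⟩
    ext a
    exact ULift.ext _ _ (hα' T.unop a)

instance : (toOver g).IsEquivalence where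

theorem isPullback_shriek_iff {A B C D : Sp S} {f : A ⟶ B} {h : A ⟶ C} {k : B ⟶ D} {l : C ⟶ D} :
    IsPullback ((shriek g).map f) ((shriek g).map h) ((shriek g).map k) ((shriek g).map l) ↔
      IsPullback f h k l := by
  constructor
  · intro sq
    have w : f ≫ k = h ≫ l := (toOver g).map_injective (Over.OverMorphism.ext
      (((shriek g).map_comp f k).trans (sq.w.trans ((shriek g).map_comp h l).symm)))
    exact IsPullback.of_map (toOver g) w (IsPullback.of_map (Over.forget _)
      (by rw [← Functor.map_comp, ← Functor.map_comp, w]) sq)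
  · intro sq
    exact (sq.map (toOver g)).map (Over.forget _)

/-- `j_!` of a representable sheaf -/
def shriekYonIso (X : Over S) : (shriek g).obj ((yon S).obj X) ≅ (yon S').obj ((Over.map g).obj X) :=
  (fullyFaithfulSheafToPresheaf _ _).preimageIso (NatIso.ofComponents
    (fun T => Equiv.toIso
      { toFun := fun a => ULift.up (Over.homMk a.2.down.left (by
          show a.2.down.left ≫ X.hom ≫ g = T.unop.hom
          rw [← Category.assoc, Over.w a.2.down]
          exact Over.w a.1))
        invFun := fun ψ => ⟨ψ.down ≫ can g X, ULift.up (Over.homMk ψ.down.left rfl)⟩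
        left_inv := fun a => by
          have h : (Over.homMk a.2.down.left (by
              show a.2.down.left ≫ X.hom ≫ g = T.unop.hom
              rw [← Category.assoc, Over.w a.2.down]
              exact Over.w a.1) : T.unop ⟶ (Over.map g).obj X) ≫ can g X = a.1 :=
            Over.OverMorphism.ext (Over.w a.2.down)
          refine sec_ext h ?_
          exact ULift.ext _ _ (Over.OverMorphism.ext (Category.id_comp _))
        right_inv := fun ψ => ULift.ext _ _ (Over.OverMorphism.ext rfl) })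
    (fun {T₁ T₂} k => by
      ext a
      exact ULift.ext _ _ (Over.OverMorphism.ext rfl)))

theorem shriekYonIso_natural {X Y : Over S} (k : X ⟶ Y) :
    (shriek g).map ((yon S).map k) ≫ (shriekYonIso g Y).hom =
      (shriekYonIso g X).hom ≫ (yon S').map ((Over.map g).map k) := by
  refine Sheaf.hom_ext (NatTrans.ext (funext fun T => ?_))
  ext a
  exact ULift.ext _ _ (Over.OverMorphism.ext rfl)

theorem shriekYonIso_hom_can (X : Over S) :
    (shriekYonIso g X).hom ≫ (yon S').map (can g X) = proj g ((yon S).obj X) := by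
  refine Sheaf.hom_ext (NatTrans.ext (funext fun T => ?_))
  ext a
  refine ULift.ext _ _ (Over.OverMorphism.ext ?_)
  exact Over.w a.2.down

variable {g}

theorem can_fromMap {T : Over S'} (φ : T ⟶ Over.mk g) :
    fromMap g φ ≫ φ = can g (Over.mk (φ.left : T.left ⟶ S)) :=
  Over.OverMorphism.ext (Category.id_comp _)

theorem toMap_fromMap {T : Over S'} (φ : T ⟶ Over.mk g) : toMap g φ ≫ fromMap g φ = 𝟙 _ :=
  Over.OverMorphism.ext (Category.id_comp _)

instance isIso_fromMap {T : Over S'} (φ : T ⟶ Over.mk g) : IsIso (fromMap g φ) :=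
  ⟨toMap g φ, Over.OverMorphism.ext (Category.id_comp _), toMap_fromMap φ⟩

instance isIso_toMap {T : Over S'} (φ : T ⟶ Over.mk g) : IsIso (toMap g φ) :=
  ⟨fromMap g φ, toMap_fromMap φ, Over.OverMorphism.ext (Category.id_comp _)⟩

/-- morphisms from schemes into `j_! G` come from schemes over `S` -/
theorem exists_lift_over {G : Sp S} {T : Over S'} (φ : T ⟶ Over.mk g) (t : (yon S').obj T ⟶ (shriek g).obj G)
    (ht : t ≫ proj g G = (yon S').map φ) :
    ∃ t₀ : (yon S).obj (Over.mk (φ.left : T.left ⟶ S)) ⟶ G,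
      (shriek g).map t₀ = (shriekYonIso g _).hom ≫ (yon S').map (fromMap g φ) ≫ t :=
  exists_preimage g _ (by
    rw [Category.assoc, Category.assoc, ht, ← Functor.map_comp, can_fromMap, shriekYonIso_hom_can])

theorem eq_of_lift {G : Sp S} {T : Over S'} {φ : T ⟶ Over.mk g} {t : (yon S').obj T ⟶ (shriek g).obj G}
    {t₀ : (yon S).obj (Over.mk (φ.left : T.left ⟶ S)) ⟶ G}
    (h : (shriek g).map t₀ = (shriekYonIso g _).hom ≫ (yon S').map (fromMap g φ) ≫ t) :
    t = (yon S').map (toMap g φ) ≫ (shriekYonIso g _).inv ≫ (shriek g).map t₀ := by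
  rw [h, Iso.inv_hom_id_assoc, ← Category.assoc, ← Functor.map_comp, toMap_fromMap]
  exact (Category.id_comp t).symm

/-- squares of `j_!` with representable corners -/
theorem isPullback_chart_iff {F G : Sp S} {f : F ⟶ G} {T W : Over S} {w : W ⟶ T}
    {fst : (yon S).obj W ⟶ F} {t : (yon S).obj T ⟶ G} :
    IsPullback ((shriekYonIso g W).inv ≫ (shriek g).map fst) ((yon S').map ((Over.map g).map w))
        ((shriek g).map f) ((shriekYonIso g T).inv ≫ (shriek g).map t) ↔
      IsPullback fst ((yon S).map w) f t := by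
  rw [← isPullback_shriek_iff g]
  have e := shriekYonIso_natural g w
  constructor
  · intro sq
    exact sq.of_iso (shriekYonIso g W).symm (Iso.refl _) (shriekYonIso g T).symm (Iso.refl _)
      (by simp) (by rw [Iso.symm_hom, Iso.symm_hom, Iso.eq_inv_comp, ← Category.assoc, ← e]; simp)
      (by simp) (by simp)
  · intro sq
    exact sq.of_iso (shriekYonIso g W) (Iso.refl _) (shriekYonIso g T) (Iso.refl _)
      (by simp) e (by simp) (by simp)

theorem isPullback_over {F G : Sp S} {f : F ⟶ G} {T' V' : Over S'} {φ : T' ⟶ Over.mk g} {w : V' ⟶ T'}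
    {fst : (yon S').obj V' ⟶ (shriek g).obj F} {t : (yon S').obj T' ⟶ (shriek g).obj G}
    (ht : t ≫ proj g G = (yon S').map φ) (sq : IsPullback fst ((yon S').map w) ((shriek g).map f) t)
    {t₀ : (yon S).obj (Over.mk (φ.left : T'.left ⟶ S)) ⟶ G}
    (h₀ : (shriek g).map t₀ = (shriekYonIso g _).hom ≫ (yon S').map (fromMap g φ) ≫ t) :
    ∃ fst₀ : (yon S).obj (Over.mk ((w ≫ φ).left : V'.left ⟶ S)) ⟶ F,
      IsPullback fst₀ ((yon S).map (res w φ)) f t₀ := by
  have hV : fst ≫ proj g F = (yon S').map (w ≫ φ) := by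
    rw [← shriek_map_proj g f, ← Category.assoc, sq.w, Category.assoc, ht, ← Functor.map_comp]
  obtain ⟨fst₀, hf₀⟩ := exists_lift_over (w ≫ φ) fst hV
  refine ⟨fst₀, (isPullback_chart_iff (g := g)).1 ?_⟩
  rw [hf₀, h₀, Iso.inv_hom_id_assoc, Iso.inv_hom_id_assoc]
  refine sq.of_iso ((yon S').mapIso (asIso (toMap g (w ≫ φ)))) (Iso.refl _) ((yon S').mapIso (asIso (toMap g φ)))
    (Iso.refl _) ?_ ?_ (by simp) ?_
  · simp only [Functor.mapIso_hom, asIso_hom, Iso.refl_hom, Category.comp_id]
    rw [← Category.assoc, ← Functor.map_comp, toMap_fromMap]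
    exact (Category.id_comp fst).symm
  · simp only [Functor.mapIso_hom, asIso_hom]
    rw [← Functor.map_comp, ← Functor.map_comp]
    exact congrArg _ (Over.OverMorphism.ext ((Category.comp_id _).trans (Category.id_comp _).symm))
  · simp only [Functor.mapIso_hom, asIso_hom, Iso.refl_hom, Category.comp_id]
    rw [← Category.assoc, ← Functor.map_comp, toMap_fromMap]
    exact (Category.id_comp t).symm

theorem representable_shriek_iff {F G : Sp S} (f : F ⟶ G) :
    Representable ((shriek g).map f) ↔ Representable f := by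
  constructor
  · intro hf T t
    let t' := (shriekYonIso g T).inv ≫ (shriek g).map t
    obtain ⟨V', w, fst, sq⟩ : ∃ (V' : Over S') (w : V' ⟶ (Over.map g).obj T) (fst : (yon S').obj V' ⟶ _),
        IsPullback fst ((yon S').map w) ((shriek g).map f) t' :=
      ⟨_, hf.snd t', hf.fst t', hf.isPullback t'⟩
    have ht : t' ≫ proj g G = (yon S').map (can g T) := by
      rw [Category.assoc, shriek_map_proj, Iso.inv_comp_eq, shriekYonIso_hom_can]
    have hV : fst ≫ proj g F = (yon S').map (w ≫ can g T) := by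
      rw [← shriek_map_proj g f, ← Category.assoc, sq.w, Category.assoc, ht, ← Functor.map_comp]
    obtain ⟨fst₀, hf₀⟩ := exists_lift_over (w ≫ can g T) fst hV
    let w₀ : Over.mk ((w ≫ can g T).left : V'.left ⟶ S) ⟶ T := Over.homMk w.left rfl
    refine ⟨_, w₀, fst₀, (isPullback_chart_iff (g := g)).1 ?_⟩
    rw [hf₀, Iso.inv_hom_id_assoc]
    refine sq.of_iso ((yon S').mapIso (asIso (toMap g (w ≫ can g T)))) (Iso.refl _) (Iso.refl _) (Iso.refl _)
      ?_ ?_ (by simp) (by simp [t'])
    · simp only [Functor.mapIso_hom, asIso_hom, Iso.refl_hom, Category.comp_id]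
      rw [← Category.assoc, ← Functor.map_comp, toMap_fromMap]
      exact (Category.id_comp fst).symm
    · simp only [Functor.mapIso_hom, asIso_hom, Iso.refl_hom, Category.comp_id]
      rw [← Functor.map_comp]
      exact congrArg _ (Over.OverMorphism.ext (Category.id_comp _).symm)
  · intro hf T' t
    obtain ⟨φ, hφ⟩ := (yon S').map_surjective (t ≫ proj g G)
    obtain ⟨t₀, h₀⟩ := exists_lift_over φ t hφ.symm
    refine ⟨(Over.map g).obj (hf.pullback t₀), (Over.map g).map (hf.snd t₀) ≫ fromMap g φ,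
      (shriekYonIso g _).inv ≫ (shriek g).map (hf.fst t₀), ?_⟩
    refine ((isPullback_chart_iff (g := g)).2 (hf.isPullback t₀)).of_iso (Iso.refl _) (Iso.refl _)
      ((yon S').mapIso (asIso (fromMap g φ))) (Iso.refl _) (by simp) (by simp [Functor.map_comp]) (by simp) ?_
    simp only [Functor.mapIso_hom, asIso_hom, Iso.refl_hom, Category.comp_id, h₀, Iso.inv_hom_id_assoc]

theorem repWith_shriek_iff (P : MorphismProperty Scheme.{u}) {F G : Sp S} (f : F ⟶ G) :
    RepWith P ((shriek g).map f) ↔ RepWith P f := by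
  rw [repWith_iff, repWith_iff, representable_shriek_iff]
  refine and_congr Iff.rfl ⟨fun h T V t fst snd sq => ?_, fun h T' V' t fst snd sq => ?_⟩
  · exact h _ _ ((Over.map g).map snd) ((isPullback_chart_iff (g := g)).2 sq)
  · obtain ⟨φ, hφ⟩ := (yon S').map_surjective (t ≫ proj g G)
    obtain ⟨t₀, h₀⟩ := exists_lift_over φ t hφ.symm
    obtain ⟨fst₀, sq₀⟩ := isPullback_over hφ.symm sq h₀
    exact h _ _ _ sq₀

theorem isAlgSpace_shriek_iff (F : Sp S) : IsAlgSpace ((shriek g).obj F) ↔ IsAlgSpace F := by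
  constructor
  · intro h
    refine ⟨representable_diag_iff.2 fun U t => (representable_shriek_iff (g := g) t).1 ?_, ?_⟩
    · rw [← Iso.hom_inv_id_assoc (shriekYonIso g U) ((shriek g).map t)]
      exact MorphismProperty.RespectsIso.precomp _ _ _ (h.representable_from_yon _)
    · obtain ⟨U, p, h1, h2⟩ := h.atlas
      obtain ⟨φ, hφ⟩ := (yon S').map_surjective (p ≫ proj g F)
      obtain ⟨p₀, h₀⟩ := exists_lift_over φ p hφ.symm
      have key : ∀ (P : MorphismProperty Scheme.{u}) [P.IsStableUnderBaseChange], RepWith P p → RepWith P p₀ := by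
        intro P _ hp
        rw [← repWith_shriek_iff (g := g), h₀]
        exact MorphismProperty.RespectsIso.precomp _ _ _ (MorphismProperty.RespectsIso.precomp _ _ _ hp)
      exact ⟨_, p₀, key _ h1, key _ h2⟩
  · intro h
    refine ⟨representable_diag_iff.2 fun U t => ?_, ?_⟩
    · obtain ⟨φ, hφ⟩ := (yon S').map_surjective (t ≫ proj g F)
      obtain ⟨t₀, h₀⟩ := exists_lift_over φ t hφ.symm
      rw [eq_of_lift h₀]
      exact MorphismProperty.RespectsIso.precomp _ _ _ (MorphismProperty.RespectsIso.precomp _ _ _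
        ((representable_shriek_iff t₀).2 (h.representable_from_yon t₀)))
    · obtain ⟨U, p, h1, h2⟩ := h.atlas
      exact ⟨(Over.map g).obj U, (shriekYonIso g U).inv ≫ (shriek g).map p,
        MorphismProperty.RespectsIso.precomp _ _ _ ((repWith_shriek_iff _ p).2 h1),
        MorphismProperty.RespectsIso.precomp _ _ _ ((repWith_shriek_iff _ p).2 h2)⟩

variable (g)

theorem isAlgSpace_restrict_iff (G : Sp S') :
    IsAlgSpace ((Scheme.fppfTopology.overMapPullback (Type (u + 1)) g).obj G) ↔
      IsAlgSpace ((yon S').obj (Over.mk g) ⨯ G) := by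
  let F₀ := (Scheme.fppfTopology.overMapPullback (Type (u + 1)) g).obj G
  let c : (shriek g).obj F₀ ⟶ G := (adj g).counit.app G
  rw [← isAlgSpace_shriek_iff (g := g)]
  refine isAlgSpace_iff_of_iso ((BinaryFan.IsLimit.mk (BinaryFan.mk (proj g F₀) c)
    (fun {H} a b => ⟨{
      app := fun T => TypeCat.ofHom fun y => (⟨(a.hom.app T y).down,
        G.obj.map (fromMap g (a.hom.app T y).down).op (b.hom.app T y)⟩ : Sec g F₀ T.unop)
      naturality := fun {T₁ T₂} k => by
        ext y
        have ha := congrArg ULift.down (NatTrans.naturality_apply a.hom k y)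
        refine sec_ext ha ?_
        show G.obj.map ((Over.map g).map _).op (G.obj.map _ (b.hom.app T₂ (H.obj.map k y))) =
          G.obj.map ((Over.map g).map (res k.unop (a.hom.app T₁ y).down)).op (G.obj.map _ (b.hom.app T₁ y))
        rw [NatTrans.naturality_apply b.hom k y, ← Functor.map_comp_apply, ← Functor.map_comp_apply,
          ← Functor.map_comp_apply]
        exact congrArg (fun q => G.obj.map q (b.hom.app T₁ y)) (Quiver.Hom.unop_inj (Over.OverMorphism.ext
          (((Category.assoc _ _ _).trans (Category.id_comp _)).trans ((Category.id_comp _).trans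
            (Category.comp_id _).symm)))) }⟩)
    (fun a b => rfl) (fun {H} a b => ?_) (fun {H} a b m h1 h2 => ?_)).conePointUniqueUpToIso (limit.isLimit (pair ((yon S').obj (Over.mk g)) G)))
  · refine Sheaf.hom_ext (NatTrans.ext (funext fun T => ?_))
    ext y
    show G.obj.map (toMap g (a.hom.app T y).down).op (G.obj.map (fromMap g _).op (b.hom.app T y)) = b.hom.app T y
    rw [← Functor.map_comp_apply, ← op_comp, toMap_fromMap, op_id, Functor.map_id_apply]
  · subst h1 h2
    refine Sheaf.hom_ext (NatTrans.ext (funext fun T => ?_))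
    ext y
    change (m.hom.app T y : Sec g F₀ T.unop) =
      ⟨(m.hom.app T y : Sec g F₀ T.unop).1, G.obj.map (fromMap g (m.hom.app T y : Sec g F₀ T.unop).1).op
        (G.obj.map (toMap g (m.hom.app T y : Sec g F₀ T.unop).1).op (m.hom.app T y : Sec g F₀ T.unop).2)⟩
    refine congrArg (Sigma.mk _) ?_
    rw [← Functor.map_comp_apply, ← op_comp]
    exact ((congrArg (fun q => G.obj.map (Quiver.Hom.op q) _)
      (Over.OverMorphism.ext (Category.id_comp _) : fromMap g _ ≫ toMap g _ = 𝟙 _)).trans
        (Functor.map_id_apply _ _ _)).symm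

/-- `j_!` as a functor to algebraic spaces over `h_S` -/
def spaceFunctor : Space S ⥤ Over ((ofScheme S').obj (Over.mk g)) where
  obj F := Over.mk (ObjectProperty.homMk (proj g F.obj) :
    (⟨(shriek g).obj F.obj, (isAlgSpace_shriek_iff F.obj).2 F.property⟩ : Space S') ⟶ (ofScheme S').obj (Over.mk g))
  map α := Over.homMk ⟨(shriek g).map α.hom⟩ (ObjectProperty.hom_ext _ (shriek_map_proj g α.hom))
  map_id F := Over.OverMorphism.ext (ObjectProperty.hom_ext _ ((shriek g).map_id _))
  map_comp α β := Over.OverMorphism.ext (ObjectProperty.hom_ext _ ((shriek g).map_comp α.hom β.hom))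

instance : (spaceFunctor g).Faithful where
  map_injective {F G} α β h := ObjectProperty.hom_ext _ ((toOver g).map_injective
    (Over.OverMorphism.ext (congrArg (fun k => k.left.hom) h)))

instance : (spaceFunctor g).Full where
  map_surjective {F G} β := by
    obtain ⟨α, hα⟩ := exists_preimage g β.left.hom (congrArg (fun k => k.hom) (Over.w β))
    exact ⟨⟨α⟩, Over.OverMorphism.ext (ObjectProperty.hom_ext _ hα)⟩

instance : (spaceFunctor g).EssSurj where
  mem_essImage G := by
    obtain ⟨F, ⟨e⟩⟩ := Functor.EssSurj.mem_essImage (F := toOver g) (Over.mk G.hom.hom)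
    let e' : (shriek g).obj F ≅ G.left.obj := (Over.forget _).mapIso e
    have hF : IsAlgSpace F := (isAlgSpace_shriek_iff (g := g) F).1 (G.left.property.of_iso e'.symm)
    exact ⟨⟨F, hF⟩, ⟨Over.isoMk (ObjectProperty.isoMk _ e') (ObjectProperty.hom_ext _ (Over.w e.hom))⟩⟩

instance : (spaceFunctor g).IsEquivalence where

end Groth.Agent.AlgSpLib.BaseSch
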