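import Groth.Agent.AlgSpLib.SerreAffineGen

/-!
Sections of the product of a module with an ideal.
-/

universe u

open CategoryTheory CategoryTheory.Limits AlgebraicGeometry Opposite
open AlgSp

noncomputable section

set_option linter.style.haveILetI false

namespace Groth.Agent.AlgSpLib.ChevGen

open Groth.Agent.AlgSpLib Groth.Agent.AlgSpLib.QCohEt Groth.Agent.AlgSpLib.SerreAff

set_option backward.isDefEq.respectTransparency.types false
set_option backward.isDefEq.respectTransparency false

section aux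

variable {S : Scheme.{u}} {X : Sp S} (M : ModEt X) [M.IsQuasicoherent] (J : IdealEt X) (hJ : J.IsQCoh)

theorem eq_zero_of_mem_idealSub (W : EtOver X) (hW : IsAff W) (h : J.ideal W hW = ⊥) (x : Sec M W)
    (hx : x ∈ (idealSub M J hJ).P W hW) : x = 0 := by
  have h0 : upIdeal W (J.ideal W hW) = ⊥ := by rw [h, upIdeal, Ideal.map_bot]
  change x ∈ upIdeal W (J.ideal W hW) • (⊤ : Submodule (ΓE W) (Sec M W)) at hx
  refine Submodule.smul_induction_on hx (fun a ha m _ => ?_) fun y z hy hz => by rw [hy, hz, add_zero]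
  rw [h0, Ideal.mem_bot] at ha
  rw [ha, zero_smul]

theorem smul_mem_idealSub (W : EtOver X) (hW : IsAff W) (a : Γ(W.obj.left.left, ⊤)) (ha : a ∈ J.ideal W hW)
    (x : Sec M W) : ((upΓ W a : ΓE W) • x) ∈ (idealSub M J hJ).P W hW :=
  Submodule.smul_mem_smul (R := ΓE W) (M := Sec M W) (I := upIdeal W (J.ideal W hW)) (N := ⊤)
    (Ideal.mem_map_of_mem _ ha) trivial

end aux

end Groth.Agent.AlgSpLib.ChevGen
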