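import Groth.Agent.AlgSpLib.EffCartierSub

/-!
Quasi-coherent ideals on the small etale site and the closed subspaces they cut out.
-/

universe u

open CategoryTheory CategoryTheory.Limits AlgebraicGeometry
open AlgSp

noncomputable section

namespace Groth.Agent.AlgSpLib

set_option backward.isDefEq.respectTransparency.types false

variable {S : Scheme.{u}} {X Z Z' F : Sp S}

theorem le_ker_iff_appTop {W U : Scheme.{u}} [IsAffine U] (f : W ⟶ U) (J : U.IdealSheafData) :
    J ≤ f.ker ↔ J.ideal ⟨⊤, isAffineOpen_top U⟩ ≤ RingHom.ker f.appTop.hom := by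
  refine ⟨fun h => (h _).trans (f.ideal_ker_le _), fun h => ?_⟩
  refine Scheme.IdealSheafData.le_ofIdeals_iff.2 fun O => ?_
  rw [← J.map_ideal (U := O) (V := ⟨⊤, isAffineOpen_top U⟩) (show O.1 ≤ ⊤ from le_top), Ideal.map_le_iff_le_comap]
  intro x hx
  rw [Ideal.mem_comap, RingHom.mem_ker]
  have := congr($(f.naturality (homOfLE (le_top : O.1 ≤ ⊤)).op) x)
  simp only [ConcreteCategory.comp_apply] at this
  erw [this, RingHom.mem_ker.1 (h hx)]
  exact map_zero _

theorem appLE_top_comap {W U : Scheme.{u}} [IsAffine W] [IsAffine U] (g : W ⟶ U) (J : U.IdealSheafData) :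
    (J.comap g).ideal ⟨⊤, isAffineOpen_top W⟩ =
      (J.ideal ⟨⊤, isAffineOpen_top U⟩).map g.appTop.hom := by
  rw [ProjLib.comap_ideal_eq J g ⟨⊤, isAffineOpen_top U⟩ ⟨⊤, isAffineOpen_top W⟩ le_rfl]
  congr 2
  exact g.appLE_eq_app

theorem isIso_ι_appLE {V : Scheme.{u}} (U : V.Opens) (h : (⊤ : U.toScheme.Opens) ≤ U.ι ⁻¹ᵁ U) :
    IsIso (U.ι.appLE U ⊤ h) := by
  have := U.ι.isIso_app U (by rw [Scheme.Opens.opensRange_ι])
  have e : U.ι ⁻¹ᵁ U = ⊤ := le_antisymm le_top h
  rw [Scheme.Hom.appLE]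
  have : IsIso (U.toScheme.presheaf.map (homOfLE h).op) := by
    have : IsIso (homOfLE h) := ⟨homOfLE e.le, rfl, rfl⟩
    infer_instance
  infer_instance

/-- the affine open of a chart as an object of the small etale site -/
def affineObj {V : Over S} (p : (yon S).obj V ⟶ X) (he : RepWith @Etale p) (U : V.left.affineOpens) : EtOver X :=
  EtOver.mk ((yon S).map (Over.homMk U.1.ι rfl : Over.mk (U.1.ι ≫ V.hom) ⟶ V) ≫ p)
    (RepWith.comp ((repWith_yon_map_iff _ _).2 (inferInstanceAs (Etale U.1.ι))) he)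

instance {V : Over S} (p : (yon S).obj V ⟶ X) (he : RepWith @Etale p) (U : V.left.affineOpens) :
    IsAffine (affineObj p he U).obj.left.left := U.2

/-- the ideal sheaf of a quasi-coherent family on a chart -/
def chartOfEt {V : Over S} (p : (yon S).obj V ⟶ X) (he : RepWith @Etale p) (I : IdealEt X) (hI : I.IsQCoh) :
    V.left.IdealSheafData where
  ideal U := (I.ideal (affineObj p he U) inferInstance).comap
    (U.1.ι.appLE U.1 ⊤ (by rw [Scheme.Opens.ι_preimage_self])).hom
  map_ideal_basicOpen U f := by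
    let O := V.left.affineBasicOpen f
    have hOU : O.1 ≤ U.1 := V.left.basicOpen_le f
    let κ : (affineObj p he O) ⟶ (affineObj p he U) :=
      EtOver.homMk (Over.homMk (V.left.homOfLE hOU) (by
        show V.left.homOfLE hOU ≫ U.1.ι ≫ V.hom = O.1.ι ≫ V.hom
        rw [Scheme.homOfLE_ι_assoc])) (by
        show (yon S).map _ ≫ (yon S).map _ ≫ p = (yon S).map _ ≫ p
        rw [← Functor.map_comp_assoc]
        congr 2
        exact Over.OverMorphism.ext (Scheme.homOfLE_ι _ hOU))
    let αU := U.1.ι.appLE U.1 ⊤ (by rw [Scheme.Opens.ι_preimage_self])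
    let αO := O.1.ι.appLE O.1 ⊤ (by rw [Scheme.Opens.ι_preimage_self])
    have hbU : Function.Bijective αU.hom := by
      have := isIso_ι_appLE U.1 (by rw [Scheme.Opens.ι_preimage_self])
      exact ConcreteCategory.bijective_of_isIso αU
    have hbO : Function.Bijective αO.hom := by
      have := isIso_ι_appLE O.1 (by rw [Scheme.Opens.ι_preimage_self])
      exact ConcreteCategory.bijective_of_isIso αO
    have hnat : V.left.presheaf.map (homOfLE hOU).op ≫ αO = αU ≫ (V.left.homOfLE hOU).appTop := by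
      show _ ≫ O.1.ι.appLE O.1 ⊤ _ = U.1.ι.appLE U.1 ⊤ _ ≫ (V.left.homOfLE hOU).app ⊤
      rw [Scheme.Hom.map_appLE, Scheme.Hom.app_eq_appLE, Scheme.Hom.appLE_comp_appLE]
      simp only [Scheme.homOfLE_ι]
      rfl
    show ((I.ideal (affineObj p he U) inferInstance).comap αU.hom).map (V.left.presheaf.map (homOfLE hOU).op).hom =
      (I.ideal (affineObj p he O) inferInstance).comap αO.hom
    refine (Ideal.comap_map_of_bijective αO.hom hbO).symm.trans ?_
    congr 1
    rw [Ideal.map_map, ← CommRingCat.hom_comp, hnat, CommRingCat.hom_comp, ← Ideal.map_map]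
    erw [Ideal.map_comap_of_surjective _ hbU.2]
    exact le_antisymm (I.map_le κ inferInstance inferInstance) (hI κ inferInstance inferInstance)

theorem chartOfEt_comap_ι {V : Over S} (p : (yon S).obj V ⟶ X) (he : RepWith @Etale p) (I : IdealEt X)
    (hI : I.IsQCoh) (U : V.left.affineOpens) [IsAffine U.1.toScheme] :
    ((chartOfEt p he I hI).comap U.1.ι).ideal ⟨⊤, isAffineOpen_top U.1.toScheme⟩ =
      I.ideal (affineObj p he U) inferInstance := by
  rw [ProjLib.comap_ideal_eq _ U.1.ι U ⟨⊤, isAffineOpen_top _⟩ (by rw [Scheme.Opens.ι_preimage_self])]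
  show Ideal.map _ (Ideal.comap _ _) = _
  refine Ideal.map_comap_of_surjective _ ?_ _
  have := isIso_ι_appLE U.1 (by rw [Scheme.Opens.ι_preimage_self])
  exact (ConcreteCategory.bijective_of_isIso (U.1.ι.appLE U.1 ⊤ _)).2

theorem chartOfEt_comap_ideal {V : Over S} (p : (yon S).obj V ⟶ X) (he : RepWith @Etale p) (I : IdealEt X)
    (hI : I.IsQCoh) (E : EtOver X) [hE : IsAffine E.obj.left.left] (g : E.obj.left ⟶ V)
    (hg : (yon S).map g ≫ p = E.obj.hom) (U : V.left.affineOpens) (hU : Set.range g.left ⊆ (U.1 : Set V.left)) :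
    ((chartOfEt p he I hI).comap g.left).ideal ⟨⊤, isAffineOpen_top E.obj.left.left⟩ = I.ideal E hE := by
  have : IsAffine U.1.toScheme := U.2
  let g' := IsOpenImmersion.lift U.1.ι g.left (by rw [Scheme.Opens.range_ι]; exact hU)
  have hfac : g' ≫ U.1.ι = g.left := IsOpenImmersion.lift_fac _ _ _
  let κ : E ⟶ affineObj p he U :=
    EtOver.homMk (Over.homMk g' (by
      show g' ≫ U.1.ι ≫ V.hom = _
      rw [reassoc_of% hfac]; exact Over.w g)) (by
      show (yon S).map _ ≫ (yon S).map _ ≫ p = _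
      rw [← Functor.map_comp_assoc, ← hg]
      congr 2
      exact Over.OverMorphism.ext hfac)
  rw [← hfac, Scheme.IdealSheafData.comap_comp, appLE_top_comap g', chartOfEt_comap_ι]
  exact le_antisymm (I.map_le κ inferInstance hE) (hI κ inferInstance hE)

/-- ideals of two charts agree on common etale refinements -/
theorem chartOfEt_comap_eq {V V' T : Over S} {p : (yon S).obj V ⟶ X} (he : RepWith @Etale p)
    {p' : (yon S).obj V' ⟶ X} (he' : RepWith @Etale p') (I : IdealEt X) (hI : I.IsQCoh) (x : T ⟶ V) (y : T ⟶ V')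
    [Etale x.left] (e : (yon S).map x ≫ p = (yon S).map y ≫ p') :
    (chartOfEt p he I hI).comap x.left = (chartOfEt p' he' I hI).comap y.left := by
  let C := {O : T.left.affineOpens // (∃ U : V.left.affineOpens, O.1 ≤ x.left ⁻¹ᵁ U.1) ∧
    ∃ U : V'.left.affineOpens, O.1 ≤ y.left ⁻¹ᵁ U.1}
  have hz : ∀ z : T.left, ∃ (O : C) (w : O.1.1.toScheme), O.1.1.ι w = z := fun z => by
    obtain ⟨_, ⟨U, hU, rfl⟩, h1, -⟩ :=
      V.left.isBasis_affineOpens.exists_subset_of_mem_open (Set.mem_univ (x.left z)) isOpen_univ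
    obtain ⟨_, ⟨U', hU', rfl⟩, h2, -⟩ :=
      V'.left.isBasis_affineOpens.exists_subset_of_mem_open (Set.mem_univ (y.left z)) isOpen_univ
    obtain ⟨_, ⟨O, hO, rfl⟩, h3, hle⟩ := T.left.isBasis_affineOpens.exists_subset_of_mem_open
      (show z ∈ x.left ⁻¹ᵁ U ⊓ y.left ⁻¹ᵁ U' from ⟨h1, h2⟩) (x.left ⁻¹ᵁ U ⊓ y.left ⁻¹ᵁ U').2
    exact ⟨⟨⟨O, hO⟩, ⟨⟨U, hU⟩, fun w hw => (hle hw).1⟩, ⟨⟨U', hU'⟩, fun w hw => (hle hw).2⟩⟩, ⟨z, h3⟩, rfl⟩
  have key : ∀ O : C, ((chartOfEt p he I hI).comap x.left).comap O.1.1.ι =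
      ((chartOfEt p' he' I hI).comap y.left).comap O.1.1.ι := by
    rintro ⟨O, ⟨U, h1⟩, ⟨U', h2⟩⟩
    have : IsAffine O.1.toScheme := O.2
    let o : Over.mk (O.1.ι ≫ T.hom) ⟶ T := Over.homMk O.1.ι
    have : Etale (o ≫ x).left := inferInstanceAs (Etale (O.1.ι ≫ x.left))
    let E : EtOver X := EtOver.mk ((yon S).map (o ≫ x) ≫ p)
      (RepWith.comp ((repWith_yon_map_iff _ _).2 this) he)
    have hE : IsAffine E.obj.left.left := O.2
    have : IsAffine (Over.mk (O.1.ι ≫ T.hom)).left := O.2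
    rw [← Scheme.IdealSheafData.comap_comp, ← Scheme.IdealSheafData.comap_comp]
    refine Scheme.IdealSheafData.ext_of_isAffine ?_
    refine (chartOfEt_comap_ideal p he I hI E (o ≫ x) rfl U ?_).trans
      (chartOfEt_comap_ideal p' he' I hI E (o ≫ y) ?_ U' ?_).symm
    · rintro _ ⟨w, rfl⟩; exact h1 w.2
    · show (yon S).map (o ≫ y) ≫ p' = (yon S).map (o ≫ x) ≫ p
      rw [Functor.map_comp_assoc, Functor.map_comp_assoc, e]
    · rintro _ ⟨w, rfl⟩; exact h2 w.2
  exact le_antisymm (Desc19b.idealSheafData_le_of_family (fun O : C => O.1.1.ι) hz fun O => (key O).le)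
    (Desc19b.idealSheafData_le_of_family (fun O : C => O.1.1.ι) hz fun O => (key O).ge)

theorem exists_isCutOutBy (hX : IsAlgSpace X) (I : IdealEt X) (hI : I.IsQCoh) :
    ∃ (Z : Sp S) (i : Z ⟶ X), IsAlgSpace Z ∧ IsCutOutBy I i := by
  obtain ⟨V, p, he, hs⟩ := hX.atlas
  have hinv : ∀ (T : Over S) (x y : T ⟶ V), (yon S).map x ≫ p = (yon S).map y ≫ p →
      (chartOfEt p he I hI).comap x.left = (chartOfEt p he I hI).comap y.left := by
    intro T x y e
    have sqR := he.1.isPullback' p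
    obtain ⟨r, rfl, rfl⟩ := (exists_of_isPullback_yon sqR x y).1 e
    rw [Over.comp_left, Over.comp_left, Scheme.IdealSheafData.comap_comp, Scheme.IdealSheafData.comap_comp]
    congr 1
    have hR := isPresentation_of_isPullback he hs sqR
    have := hR.eqvRel.etale_left
    have := hR.eqvRel.etale_right
    exact chartOfEt_comap_eq he he I hI _ _ sqR.w
  obtain ⟨Z, i, hi, hZ, h⟩ := exists_closedSub hX he hs _ hinv
  refine ⟨Z, i, hZ, hi, IdealEt.ext (funext fun E => funext fun hE => ?_)⟩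
  rw [idealOfRep_eq_chartIdeal hi E hE]
  have hK : (chartOfEt E.obj.hom E.property I hI) = chartIdeal hi E.obj.hom := by
    have sq := he.1.isPullback E.obj.hom
    obtain ⟨r, hr⟩ := (yon S).map_surjective (he.1.fst E.obj.hom)
    have hsq : IsPullback ((yon S).map r) ((yon S).map (he.1.snd E.obj.hom)) p E.obj.hom := hr ▸ sq
    have : Etale r.left := E.property.property p _ _ hsq.flip
    have : Etale (he.1.snd E.obj.hom).left := he.property_snd _
    have : Surjective (he.1.snd E.obj.hom).left := hs.property E.obj.hom _ _ sq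
    refine Desc19b.idealSheafData_comap_injective (he.1.snd E.obj.hom).left ?_
    show Scheme.IdealSheafData.comap _ _ = Scheme.IdealSheafData.comap _ _
    rw [← chartOfEt_comap_eq he E.property I hI r _ hsq.w, ← chartIdeal_comp, ← hsq.w, chartIdeal_comp, h]
  have := hE
  have e := chartOfEt_comap_ideal E.obj.hom E.property I hI E (𝟙 _) (by rw [(yon S).map_id, Category.id_comp])
    ⟨⊤, isAffineOpen_top _⟩ (fun _ _ => trivial)
  rw [Over.id_left, Scheme.IdealSheafData.comap_id, hK] at e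
  exact e

/-- factoring between closed subspaces read on the etale site -/
theorem le_iff_factors (hX : IsAlgSpace X) {i : Z ⟶ X} {i' : Z' ⟶ X} {I I' : IdealEt X}
    (h : IsCutOutBy I i) (h' : IsCutOutBy I' i') : I ≤ I' ↔ ∃ k, k ≫ i = i' := by
  constructor
  · intro hle
    obtain ⟨V, p, he, hs⟩ := hX.atlas
    refine (factors_closed_iff h'.1 h.1 he hs).2 ?_
    refine Desc19b.idealSheafData_le_of_family (fun U : V.left.affineOpens => U.1.ι) (fun v => ?_) fun U => ?_
    · obtain ⟨_, ⟨U, hU, rfl⟩, hv, -⟩ :=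
        V.left.isBasis_affineOpens.exists_subset_of_mem_open (Set.mem_univ v) isOpen_univ
      exact ⟨⟨U, hU⟩, ⟨v, hv⟩, rfl⟩
    · have : IsAffine U.1.toScheme := U.2
      let E := affineObj p he U
      rw [← chartIdeal_comap_open, ← chartIdeal_comap_open]
      have hE : IsAffine E.obj.left.left := U.2
      show chartIdeal h.1 E.obj.hom ≤ chartIdeal h'.1 E.obj.hom
      refine Scheme.IdealSheafData.le_of_isAffine ?_
      rw [← idealOfRep_eq_chartIdeal h.1 E hE, ← idealOfRep_eq_chartIdeal h'.1 E hE, h.2, h'.2]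
      exact hle E hE
  · rintro ⟨k, hk⟩ E hE
    rw [← h.2, ← h'.2, idealOfRep_eq_chartIdeal h.1 E hE, idealOfRep_eq_chartIdeal h'.1 E hE]
    have sq := h'.1.1.isPullback E.obj.hom
    exact (factors_comp_iff h.1 (h'.1.1.snd E.obj.hom) E.obj.hom).1
      ⟨h'.1.1.fst E.obj.hom ≫ k, by rw [Category.assoc, hk, sq.w]⟩ _

/-- points of a closed subspace in terms of the ideals on the etale site -/
theorem factors_iff_le_idealOfRep (hX : IsAlgSpace X) {i : Z ⟶ X} {I : IdealEt X} (hZ : IsCutOutBy I i)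
    {h : F ⟶ X} (hh : Representable h) : (∃ k, k ≫ i = h) ↔ I ≤ idealOfRep hh := by
  constructor
  · rintro ⟨k, hk⟩ E hE
    rw [← hZ.2, idealOfRep_eq_chartIdeal hZ.1 E hE]
    have := hE
    refine (le_ker_iff_appTop (EtOver.bcπ hh E).left _).1 ?_
    have sq := hh.isPullback E.obj.hom
    exact (factors_comp_iff hZ.1 (EtOver.bcπ hh E) E.obj.hom).1
      ⟨hh.fst E.obj.hom ≫ k, by rw [Category.assoc, hk]; exact sq.w⟩
  · intro hle
    obtain ⟨V, p, he, hs⟩ := hX.atlas
    have sq := hh.isPullback p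
    refine (factors_iff_of_chart hZ.1 (RepWith.baseChange sq.flip he) (RepWith.baseChange sq.flip hs)
      (hh.snd p) sq.w).2 ((comap_eq_bot_iff_le_ker _ _).1 (le_bot_iff.1 ?_))
    let g := (hh.snd p).left
    refine Desc19b.idealSheafData_le_of_family (fun U : V.left.affineOpens => (g ⁻¹ᵁ U.1).ι) (fun w => ?_) fun U => ?_
    · obtain ⟨_, ⟨U, hU, rfl⟩, hv, -⟩ :=
        V.left.isBasis_affineOpens.exists_subset_of_mem_open (Set.mem_univ (g w)) isOpen_univ
      exact ⟨⟨U, hU⟩, ⟨w, hv⟩, rfl⟩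
    · let E := affineObj p he U
      have hE : IsAffine E.obj.left.left := U.2
      let W' : Over S := Over.mk ((g ⁻¹ᵁ U.1).ι ≫ (hh.pullback p).hom)
      let w : W' ⟶ hh.pullback p := Over.homMk (g ⁻¹ᵁ U.1).ι
      let κ : W' ⟶ E.obj.left := Over.homMk (g ∣_ U.1) (by
        show (g ∣_ U.1) ≫ U.1.ι ≫ V.hom = _
        rw [morphismRestrict_ι_assoc, Over.w (hh.snd p)]; rfl)
      let u : E.obj.left ⟶ V := Over.homMk U.1.ι rfl
      have hwu : w ≫ hh.snd p = κ ≫ u := Over.OverMorphism.ext (morphismRestrict_ι g U.1).symm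
      have e1 : ((yon S).map w ≫ hh.fst p) ≫ h = (yon S).map κ ≫ E.obj.hom := by
        show ((yon S).map w ≫ hh.fst p) ≫ h = (yon S).map κ ≫ (yon S).map u ≫ p
        rw [Category.assoc, sq.w, ← Functor.map_comp_assoc, hwu, Functor.map_comp_assoc]
      obtain ⟨k, hk⟩ := (yon S).map_surjective ((hh.isPullback E.obj.hom).lift _ _ e1)
      have hk' : k ≫ hh.snd E.obj.hom = κ := (yon S).map_injective (by
        rw [Functor.map_comp, hk, (hh.isPullback E.obj.hom).lift_snd])
      have hker : chartIdeal hZ.1 E.obj.hom ≤ κ.left.ker := by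
        refine le_trans ?_ ((hk' ▸ Scheme.Hom.le_ker_comp k.left (hh.snd E.obj.hom).left :
          (hh.snd E.obj.hom).left.ker ≤ κ.left.ker))
        refine (le_ker_iff_appTop _ _).2 ?_
        rw [← idealOfRep_eq_chartIdeal hZ.1 E hE, hZ.2]
        exact hle E hE
      rw [Scheme.IdealSheafData.comap_bot, le_bot_iff, ← Scheme.IdealSheafData.comap_comp,
        show (g ⁻¹ᵁ U.1).ι ≫ g = κ.left ≫ u.left from (morphismRestrict_ι g U.1).symm,
        Scheme.IdealSheafData.comap_comp]
      change ((chartIdeal hZ.1 p).comap U.1.ι).comap κ.left = ⊥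
      rw [← chartIdeal_comap_open]
      exact (comap_eq_bot_iff_le_ker _ _).2 hker

/-- the ideal of a closed subspace is quasi-coherent -/
theorem isQCoh_idealOfRep {i : Z ⟶ X} (hi : RepWith @IsClosedImmersion i) : (idealOfRep hi.1).IsQCoh := by
  intro E E' g hE hE'
  rw [idealOfRep_eq_chartIdeal hi E hE, idealOfRep_eq_chartIdeal hi E' hE', ← EtOver.w g, chartIdeal_comp,
    appLE_top_comap]

theorem eq_of_isAffine_le {i : Z ⟶ X} (hi : RepWith @IsClosedImmersion i) {i' : Z' ⟶ X}
    (hi' : RepWith @IsClosedImmersion i') (h : idealOfRep hi.1 = idealOfRep hi'.1) {V : Over S}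
    {p : (yon S).obj V ⟶ X} (he : RepWith @Etale p) : chartIdeal hi p = chartIdeal hi' p := by
  refine chartIdeal_eq_ext fun U => ?_
  let E := affineObj p he U
  have hE : IsAffine E.obj.left.left := U.2
  rw [← chartIdeal_comap_open, ← chartIdeal_comap_open]
  have : IsAffine (Over.mk (U.1.ι ≫ V.hom)).left := U.2
  refine Scheme.IdealSheafData.ext_of_isAffine ?_
  show (chartIdeal hi E.obj.hom).ideal _ = (chartIdeal hi' E.obj.hom).ideal _
  exact (idealOfRep_eq_chartIdeal hi E hE).symm.trans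
    ((congrArg (fun I => IdealEt.ideal I E hE) h).trans (idealOfRep_eq_chartIdeal hi' E hE))

/-- scheme theoretic images of representable quasi-compact maps are cut out by the kernel -/
theorem idealOfRep_eq_of_isSchImage (hF : IsAlgSpace F) (hX : IsAlgSpace X) {f : F ⟶ X} (hf : Representable f)
    (hqc : IsQuasiCompactMor f) {i : Z ⟶ X} (hi : IsSchImage f i) : idealOfRep hi.1.1 = idealOfRep hf := by
  obtain ⟨C, hC⟩ := exists_imgChart_qc hF hX f hqc
  refine IdealEt.ext (funext fun E => funext fun hE => ?_)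
  rw [idealOfRep_eq_chartIdeal hi.1 E hE]
  have hq := (repWith_quasiCompact_iff hF hX hf).2 hqc
  have : QuasiCompact (hf.snd E.obj.hom).left := hq.property_snd _
  have e : chartIdeal hi.1 E.obj.hom = (hf.snd E.obj.hom).left.ker := by
    have sqR := C.he.1.isPullback E.obj.hom
    obtain ⟨r, hr⟩ := (yon S).map_surjective (C.he.1.fst E.obj.hom)
    have hsq : IsPullback ((yon S).map r) ((yon S).map (C.he.1.snd E.obj.hom)) C.p E.obj.hom := hr ▸ sqR
    let q := C.he.1.snd E.obj.hom
    have : Etale r.left := E.property.property C.p _ _ hsq.flip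
    have : Etale q.left := C.he.property_snd _
    have : Surjective q.left := C.hs.property E.obj.hom _ _ sqR
    refine Desc19b.idealSheafData_comap_injective q.left ?_
    show Scheme.IdealSheafData.comap _ _ = Scheme.IdealSheafData.comap _ _
    rw [← chartIdeal_comp, ← hsq.w, chartIdeal_comp, chartIdeal_of_isSchImage hF hX C hC hi,
      ← Desc19b.ker_pullback_snd_of_flat]
    have sqE := hf.isPullback E.obj.hom
    let W : Over S := Over.mk (pullback.fst (hf.snd E.obj.hom).left q.left ≫ (hf.pullback E.obj.hom).hom)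
    let x : W ⟶ hf.pullback E.obj.hom := Over.homMk (pullback.fst (hf.snd E.obj.hom).left q.left)
    let y : W ⟶ C.he.1.pullback E.obj.hom := Over.homMk (pullback.snd (hf.snd E.obj.hom).left q.left) (by
      show pullback.snd _ q.left ≫ _ = pullback.fst (hf.snd E.obj.hom).left q.left ≫ _
      rw [← Over.w (hf.snd E.obj.hom), ← Over.w q, pullback.condition_assoc])
    have sqW : IsPullback x y (hf.snd E.obj.hom) q :=
      IsPullback.of_map (Over.forget S) (Over.OverMorphism.ext pullback.condition)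
        (IsPullback.of_hasPullback _ q.left)
    have sq' : IsPullback ((yon S).map x ≫ hf.fst E.obj.hom) ((yon S).map y) f ((yon S).map r ≫ C.p) := by
      rw [hsq.w]; exact (sqW.map (yon S)).paste_horiz sqE
    exact C.comap_ker hC r sq' (repWith_id _ _) (repWith_id _ _) (h' := y) (Category.id_comp _)
  rw [e, Scheme.Hom.ker_apply]
  rfl

theorem isSchImage_iff_isCutOutBy (hF : IsAlgSpace F) (hX : IsAlgSpace X) {f : F ⟶ X} (hf : Representable f)
    (hqc : IsQuasiCompactMor f) :
    (idealOfRep hf).IsQCoh ∧ ∀ (Z : Sp S) (i : Z ⟶ X), IsSchImage f i ↔ IsCutOutBy (idealOfRep hf) i := by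
  obtain ⟨Z₀, i₀, -, h₀⟩ := exists_isSchImage hF hX f
  have e₀ := idealOfRep_eq_of_isSchImage hF hX hf hqc h₀
  refine ⟨e₀ ▸ isQCoh_idealOfRep h₀.1, fun Z i => ⟨fun h => ⟨h.1, idealOfRep_eq_of_isSchImage hF hX hf hqc h⟩,
    fun ⟨hi, e⟩ => ?_⟩⟩
  obtain ⟨C, hC⟩ := exists_imgChart_qc hF hX f hqc
  refine isSchImage_of_chartIdeal_eq C hi ?_
  rw [eq_of_isAffine_le hi h₀.1 (e.trans e₀.symm) C.he, chartIdeal_of_isSchImage hF hX C hC h₀]

end Groth.Agent.AlgSpLib
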