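import Groth.Agent.EtCechLib.Colim
import Mathlib.Algebra.Category.Grp.Adjunctions
import Mathlib.CategoryTheory.Limits.Yoneda
import Mathlib.CategoryTheory.Limits.Constructions.FiniteProductsOfBinaryProducts
import Mathlib.CategoryTheory.Preadditive.Yoneda.Basic

/-!
# Cohomology on sites covered by one object, without a final object

Čech cochains for the family `U` over the (absent) final object are formed in presheaves of sets; a presheaf of
groups is extended to presheaves of sets by `X ↦ Hom(free X, F)`.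
-/

set_option autoImplicit false
set_option linter.all false
set_option backward.isDefEq.respectTransparency.types false
set_option backward.isDefEq.respectTransparency false
set_option maxHeartbeats 1000000

universe u

open CategoryTheory CategoryTheory.Limits CategoryTheory.Abelian Opposite
open Groth.Agent.SiteCoh Groth.Agent.EtCechLib

noncomputable section

namespace Groth.Agent.AlgSpLib.WeakFinal

variable {C : Type (u + 1)} [Category.{u} C]

/-- free abelian presheaves -/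
abbrev freeP : (Cᵒᵖ ⥤ Type (u + 1)) ⥤ (Cᵒᵖ ⥤ AddCommGrpCat.{u + 1}) :=
  (Functor.whiskeringRight _ _ _).obj AddCommGrpCat.free

/-- extension of presheaves of groups to presheaves of sets -/
abbrev R (F : Cᵒᵖ ⥤ AddCommGrpCat.{u + 1}) : (Cᵒᵖ ⥤ Type (u + 1))ᵒᵖ ⥤ AddCommGrpCat.{u + 1} :=
  freeP.op ⋙ preadditiveYoneda.obj F

/-- functoriality -/
abbrev Rmap {F F' : Cᵒᵖ ⥤ AddCommGrpCat.{u + 1}} (f : F ⟶ F') : R F ⟶ R F' :=
  Functor.whiskerLeft freeP.op (preadditiveYoneda.map f)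

variable {F F' : Cᵒᵖ ⥤ AddCommGrpCat.{u + 1}} {X Y : Cᵒᵖ ⥤ Type (u + 1)}

/-- evaluation of a generalised section -/
def sec (m : (R F).obj (op X)) (c : Cᵒᵖ) (x : X.obj c) : F.obj c :=
  (m : freeP.obj X ⟶ F).app c (FreeAbelianGroup.of x)

theorem sec_nat (m : (R F).obj (op X)) {c d : Cᵒᵖ} (h : c ⟶ d) (x : X.obj c) :
    sec m d (X.map h x) = F.map h (sec m c x) := by
  refine Eq.trans ?_ (NatTrans.naturality_apply (m : freeP.obj X ⟶ F) h (FreeAbelianGroup.of x))
  show _ = (m : freeP.obj X ⟶ F).app d (FreeAbelianGroup.map _ (FreeAbelianGroup.of x))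
  rw [FreeAbelianGroup.map_of_apply]
  rfl

theorem sec_ext {m m' : (R F).obj (op X)} (h : ∀ c x, sec m c x = sec m' c x) : m = m' :=
  NatTrans.ext (funext fun c => AddCommGrpCat.hom_ext (FreeAbelianGroup.lift_ext _ _ fun x => h c x))

/-- the section with given values -/
def mkR (φ : ∀ c, X.obj c → F.obj c) (hφ : ∀ {c d : Cᵒᵖ} (h : c ⟶ d) (x : X.obj c), φ d (X.map h x) = F.map h (φ c x)) :
    (R F).obj (op X) :=
  ({ app := fun c => AddCommGrpCat.ofHom (FreeAbelianGroup.lift (φ c))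
     naturality := fun c d h => AddCommGrpCat.hom_ext (FreeAbelianGroup.lift_ext _ _ fun x => by
       show FreeAbelianGroup.lift (φ d) (FreeAbelianGroup.map _ (FreeAbelianGroup.of x)) =
         F.map h (FreeAbelianGroup.lift (φ c) (FreeAbelianGroup.of x))
       rw [FreeAbelianGroup.map_of_apply, FreeAbelianGroup.lift_apply_of, FreeAbelianGroup.lift_apply_of]
       exact hφ h x) } : freeP.obj X ⟶ F)

theorem sec_mkR (φ : ∀ c, X.obj c → F.obj c) (hφ) (c : Cᵒᵖ) (x : X.obj c) :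
    sec (mkR φ hφ) c x = φ c x := FreeAbelianGroup.lift_apply_of _ _

theorem sec_map (g : Y ⟶ X) (m : (R F).obj (op X)) (c : Cᵒᵖ) (y : Y.obj c) :
    sec ((R F).map g.op m) c y = sec m c (g.app c y) := by
  show (m : freeP.obj X ⟶ F).app c (FreeAbelianGroup.map _ (FreeAbelianGroup.of y)) = _
  rw [FreeAbelianGroup.map_of_apply]
  rfl

theorem sec_Rmap (f : F ⟶ F') (m : (R F).obj (op X)) (c : Cᵒᵖ) (x : X.obj c) :
    sec ((Rmap f).app (op X) m) c x = f.app c (sec m c x) := rfl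

theorem sec_add (m m' : (R F).obj (op X)) (c : Cᵒᵖ) (x : X.obj c) :
    sec (m + m') c x = sec m c x + sec m' c x := rfl

/-! ### Cofree presheaves -/

variable (I : Cᵒᵖ ⥤ AddCommGrpCat.{u + 1})

/-- the cofree presheaf on presheaves of sets -/
def Q : (Cᵒᵖ ⥤ Type (u + 1))ᵒᵖ ⥤ AddCommGrpCat.{u + 1} where
  obj X := AddCommGrpCat.of (∀ f : (Σ V : C, X.unop.obj (op V)), I.obj (op f.1))
  map g := AddCommGrpCat.ofHom
    (AddMonoidHom.mk' (fun ψ f => ψ ⟨f.1, g.unop.app (op f.1) f.2⟩) fun _ _ => rfl)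
  map_id X := by ext ψ f; rfl
  map_comp g h := by ext ψ f; rfl

/-- the cofree presheaf on the site -/
def cof : Cᵒᵖ ⥤ AddCommGrpCat.{u + 1} where
  obj X := AddCommGrpCat.of (∀ f : (V : C) × (V ⟶ X.unop), I.obj (op f.1))
  map g := AddCommGrpCat.ofHom
    (AddMonoidHom.mk' (fun φ f => φ ⟨f.1, f.2 ≫ g.unop⟩) fun _ _ => rfl)
  map_id X := by ext φ f; exact congrArg (β := I.obj (op f.1)) (fun m : f.1 ⟶ X.unop => φ ⟨f.1, m⟩) (Category.comp_id f.2)
  map_comp {X Y Z} g h := by ext φ f; exact congrArg (β := I.obj (op f.1)) (fun m : f.1 ⟶ X.unop => φ ⟨f.1, m⟩) (Category.assoc f.2 h.unop g.unop).symm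

/-- the embedding -/
def toCof : I ⟶ cof I where
  app X := AddCommGrpCat.ofHom
    (AddMonoidHom.mk' (fun x f => I.map f.2.op x) fun x y => funext fun f => map_add _ x y)
  naturality X Y g := by
    ext x
    funext f
    exact (ConcreteCategory.congr_hom (I.map_comp g f.2.op) x).symm

instance : Mono (toCof I) := by
  rw [NatTrans.mono_iff_mono_app]
  intro X
  rw [AddCommGrpCat.mono_iff_injective]
  intro x y h
  have := congrFun h ⟨X.unop, 𝟙 X.unop⟩
  change I.map (𝟙 X.unop).op x = I.map (𝟙 X.unop).op y at this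
  simpa using this

/-- the extension embeds into the cofree presheaf -/
def toQ : R I ⟶ Q I where
  app X := AddCommGrpCat.ofHom
    (AddMonoidHom.mk' (fun m f => sec (X := X.unop) m (op f.1) f.2) fun m m' => rfl)
  naturality X Y g := by
    ext m
    funext f
    exact sec_map g.unop m (op f.1) f.2

variable (r : cof I ⟶ I)

/-- the retraction on values -/
def retVal (X : Cᵒᵖ ⥤ Type (u + 1)) (ψ : (Q I).obj (op X)) (c : Cᵒᵖ) (x : X.obj c) : I.obj c :=
  r.app c (fun f : (V : C) × (V ⟶ c.unop) => ψ ⟨f.1, X.map f.2.op x⟩)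

theorem retVal_nat (ψ : (Q I).obj (op X)) {c d : Cᵒᵖ} (h : c ⟶ d) (x : X.obj c) :
    retVal I r X ψ d (X.map h x) = I.map h (retVal I r X ψ c x) := by
  rw [retVal, retVal, ← NatTrans.naturality_apply]
  refine congrArg (r.app d) (funext fun f => ?_)
  show ψ ⟨f.1, X.map f.2.op (X.map h x)⟩ = ψ ⟨f.1, X.map (f.2 ≫ h.unop).op x⟩
  rw [op_comp, Quiver.Hom.op_unop, Functor.map_comp]
  rfl

/-- the retraction -/
def retQ : Q I ⟶ R I where
  app X := AddCommGrpCat.ofHom (AddMonoidHom.mk'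
    (fun ψ => mkR (retVal I r X.unop ψ) (retVal_nat I r ψ)) fun ψ ψ' => sec_ext fun c x => by
      rw [sec_add, sec_mkR, sec_mkR, sec_mkR, retVal, retVal, retVal, ← map_add]
      rfl)
  naturality X Y g := by
    ext ψ
    refine sec_ext (X := Y.unop) fun c x => ?_
    refine (sec_mkR (retVal I r Y.unop _) (retVal_nat I r _) c x).trans (Eq.trans ?_ (sec_map g.unop _ c x).symm)
    refine Eq.trans ?_ (sec_mkR (retVal I r X.unop ψ) (retVal_nat I r ψ) c _).symm
    refine congrArg (r.app c) (funext fun f => ?_)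
    show ψ ⟨f.1, g.unop.app (op f.1) (Y.unop.map f.2.op x)⟩ = _
    rw [NatTrans.naturality_apply]

theorem toQ_retQ (hr : toCof I ≫ r = 𝟙 I) : toQ I ≫ retQ I r = 𝟙 (R I) := by
  ext X m
  refine sec_ext (X := X.unop) fun c x => (sec_mkR (retVal I r X.unop _) (retVal_nat I r _) c x).trans ?_
  refine Eq.trans (congrArg (r.app c) (funext fun f => sec_nat (X := X.unop) m f.2.op x)) ?_
  exact ConcreteCategory.congr_hom (NatTrans.congr_app hr c) (sec (X := X.unop) m c x)

/-- Čech complexes of cofree presheaves are exact. -/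
theorem isZero_homology_Q {ι : Type (u + 1)} (W : ι → (Cᵒᵖ ⥤ Type (u + 1))) (p : ℕ) :
    IsZero ((Cech.cx (Q I) W).homology (p + 1)) := by
  classical
  rw [Cech.isZero_homology_succ_iff]
  intro x hx
  let pt : ∀ V : C, (uliftYoneda.{u + 1}.obj V).obj (op V) := fun V => ULift.up (𝟙 V)
  let cone (V : C) (s₀ : (i : ι) × (uliftYoneda.{u + 1}.obj V ⟶ W i))
      (s : Fin (p + 1) → (i : ι) × (uliftYoneda.{u + 1}.obj V ⟶ W i)) : I.obj (op V) :=
    Cech.val (Q I) W x (Fin.cons s₀ s) ⟨V, pt V⟩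
  let pick (V : C) (s : Fin (p + 1) → (i : ι) × (uliftYoneda.{u + 1}.obj V ⟶ W i)) :
      (i : ι) × (uliftYoneda.{u + 1}.obj V ⟶ W i) :=
    @Classical.choice _ (⟨s 0⟩ : Nonempty ((i : ι) × (uliftYoneda.{u + 1}.obj V ⟶ W i)))
  refine ⟨Cech.mk (Q I) W fun b (f : Σ V : C, (Cech.inter W b : Cᵒᵖ ⥤ Type (u + 1)).obj (op V)) =>
    let s : Fin (p + 1) → (i : ι) × (uliftYoneda.{u + 1}.obj f.1 ⟶ W i) :=
      fun k => ⟨b k, uliftYonedaEquiv.{u + 1}.symm f.2 ≫ Pi.π (fun k => W (b k)) k⟩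
    cone f.1 (pick f.1 s) s, ?_⟩
  refine Cech.ext _ W fun a => funext fun f => ?_
  obtain ⟨V, v⟩ := f
  let φ : uliftYoneda.{u + 1}.obj V ⟶ Cech.inter W a := uliftYonedaEquiv.{u + 1}.symm v
  have hφ : φ.app (op V) (pt V) = v := uliftYonedaEquiv.{u + 1}.apply_symm_apply v
  let s : Fin (p + 2) → (i : ι) × (uliftYoneda.{u + 1}.obj V ⟶ W i) :=
    fun k => ⟨a k, φ ≫ Pi.π (fun k => W (a k)) k⟩
  let s₀ : (i : ι) × (uliftYoneda.{u + 1}.obj V ⟶ W i) :=
    @Classical.choice _ (⟨s 0⟩ : Nonempty ((i : ι) × (uliftYoneda.{u + 1}.obj V ⟶ W i)))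
  have hcocycle := Cech.val_d (Q I) W x (Fin.cons s₀ s)
  rw [hx, Fin.sum_univ_succ] at hcocycle
  let evV : (Q I).obj (op (uliftYoneda.{u + 1}.obj V)) →+ I.obj (op V) :=
    AddMonoidHom.mk' (fun φ => φ ⟨V, pt V⟩) fun _ _ => rfl
  have h₀ := congrArg evV hcocycle
  have hval0 : Cech.val (Q I) W (0 : (Cech.cx (Q I) W).X (p + 2)) (Fin.cons s₀ s) = 0 := by
    rw [Cech.val, map_zero, map_zero]
  rw [hval0, map_zero, map_add, map_sum] at h₀
  rw [Cech.ev_d]
  let evf : (Q I).obj (op (Cech.inter W a)) →+ I.obj (op V) :=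
    AddMonoidHom.mk' (fun ψ => ψ ⟨V, v⟩) fun _ _ => rfl
  have key : ∀ (g : Fin (p + 2) → (Q I).obj (op (Cech.inter W a))),
      (∑ j, g j) ⟨V, v⟩ = ∑ j, evf (g j) := fun g => map_sum evf g Finset.univ
  refine (key _).trans ?_
  have e₁ : evV (Cech.val (Q I) W x s) = evf (Cech.ev (Q I) W a x) := by
    have := congrArg evV (Cech.map_ev (Q I) W x a φ).symm
    refine this.trans ?_
    change Cech.ev (Q I) W a x ⟨V, φ.app (op V) (pt V)⟩ = Cech.ev (Q I) W a x ⟨V, v⟩
    rw [hφ]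
  refine Eq.trans ?_ e₁
  have e₀ : (Fin.cons s₀ s : Fin (p + 3) → (i : ι) × (uliftYoneda.{u + 1}.obj V ⟶ W i)) ∘
      (0 : Fin (p + 3)).succAbove = s :=
    funext fun k => by simp
  rw [e₀, Fin.val_zero, pow_zero, one_zsmul] at h₀
  rw [eq_neg_of_add_eq_zero_left h₀.symm, ← Finset.sum_neg_distrib]
  refine Finset.sum_congr rfl fun j _ => ?_
  have e₂ : (Fin.cons s₀ s : Fin (p + 3) → (i : ι) × (uliftYoneda.{u + 1}.obj V ⟶ W i)) ∘ j.succ.succAbove =
      Fin.cons s₀ (s ∘ j.succAbove) := funext fun k => by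
    cases k using Fin.cases <;> simp
  rw [map_zsmul, map_zsmul, e₂, Fin.val_succ, pow_succ', neg_one_mul, neg_smul, neg_neg]
  refine congrArg (fun z => (-1 : ℤ) ^ (j : ℕ) • z) ?_
  change (Cech.ev (Q I) W (a ∘ j.succAbove) (Cech.mk _ W _)) ⟨V, (Cech.face W a j).app (op V) v⟩ = _
  erw [Cech.ev_mk]
  have e₄ : uliftYonedaEquiv.{u + 1}.symm ((Cech.face W a j).app (op V) v) = φ ≫ Cech.face W a j := by
    rw [Equiv.symm_apply_eq, uliftYonedaEquiv_comp, Equiv.apply_symm_apply]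
  have e₃ : (fun k => (⟨a (j.succAbove k),
      uliftYonedaEquiv.{u + 1}.symm ((Cech.face W a j).app (op V) v) ≫ Pi.π (fun k => W (a (j.succAbove k))) k⟩ :
        (i : ι) × (uliftYoneda.{u + 1}.obj V ⟶ W i))) =
      s ∘ j.succAbove := funext fun k => by
    refine Sigma.ext rfl (heq_of_eq ?_)
    rw [e₄, Category.assoc]
    exact congrArg (fun m => φ ≫ m) (Pi.lift_π _ _)
  exact congrArg (fun t => cone V s₀ t) e₃

/-- Čech complexes of extensions of injective presheaves are exact. -/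
theorem isZero_homology_R [Injective I] {ι : Type (u + 1)} (W : ι → (Cᵒᵖ ⥤ Type (u + 1))) (p : ℕ) :
    IsZero ((Cech.cx (R I) W).homology (p + 1)) :=
  Cech.isZero_homology_of_retract W (toQ I) (retQ I (Injective.factorThru (𝟙 I) (toCof I)))
    (toQ_retQ I _ (Injective.comp_factorThru _ _)) p (isZero_homology_Q I W p)

/-! ### Values at representables -/

/-- the value at an object -/
def at' {c : C} : (R F).obj (op (uliftYoneda.{u + 1}.obj c)) →+ F.obj (op c) :=
  AddMonoidHom.mk' (fun m => sec m (op c) (ULift.up (𝟙 c))) fun m m' => rfl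

theorem bijective_at' {c : C} : Function.Bijective (at' (F := F) (c := c)) := by
  refine ⟨fun m m' h => sec_ext fun d x => ?_, fun y => ?_⟩
  · have hx : (uliftYoneda.{u + 1}.obj c).map x.down.op (ULift.up (𝟙 c)) = x :=
      ULift.ext _ _ (Category.comp_id x.down)
    rw [← hx]
    exact (sec_nat m _ _).trans ((congrArg (F.map _) h).trans (sec_nat m' _ _).symm)
  · refine ⟨mkR (fun d x => F.map x.down.op y) fun {d e} h x => ?_, ?_⟩
    · show F.map (h.unop ≫ x.down).op y = _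
      rw [op_comp, Functor.map_comp]
      rfl
    · rw [at', AddMonoidHom.mk'_apply]
      erw [sec_mkR]

      show F.map (𝟙 c).op y = y
      rw [op_id, F.map_id]
      rfl

theorem at'_map {c d : C} (f : d ⟶ c) (m : (R F).obj (op (uliftYoneda.{u + 1}.obj c))) :
    at' ((R F).map (uliftYoneda.{u + 1}.map f).op m) = F.map f.op (at' m) := by
  refine (sec_map _ _ _ _).trans ?_
  refine Eq.trans ?_ (sec_nat m f.op _)
  exact congrArg (sec m (op d)) (ULift.ext _ _ ((Category.id_comp f).trans (Category.comp_id f).symm))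

theorem at'_Rmap {c : C} (g : F ⟶ F') (m : (R F).obj (op (uliftYoneda.{u + 1}.obj c))) :
    at' ((Rmap g).app (op _) m) = g.app (op c) (at' m) := rfl

/-- being isomorphic to a representable of a given class -/
def IsRep (B : C → Prop) (X : Cᵒᵖ ⥤ Type (u + 1)) : Prop :=
  ∃ c : C, B c ∧ Nonempty (X ≅ uliftYoneda.{u + 1}.obj c)

/-- transport to a representing object -/
def toRep {c : C} (e : X ≅ uliftYoneda.{u + 1}.obj c) : (R F).obj (op X) →+ F.obj (op c) :=
  (at' (F := F)).comp ((R F).map e.inv.op).hom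

theorem bijective_toRep {c : C} (e : X ≅ uliftYoneda.{u + 1}.obj c) : Function.Bijective (toRep (F := F) e) := by
  have h1 : Function.Bijective ((R F).map e.inv.op) := by
    refine Function.bijective_iff_has_inverse.2 ⟨(R F).map e.hom.op, fun m => ?_, fun m => ?_⟩
    · exact sec_ext fun d x => ((sec_map e.hom _ d x).trans (sec_map e.inv m d _)).trans
        (congrArg (sec m d) (ConcreteCategory.congr_hom (NatTrans.congr_app e.hom_inv_id d) x))
    · exact sec_ext fun d x => ((sec_map e.inv _ d x).trans (sec_map e.hom m d _)).trans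
        (congrArg (sec m d) (ConcreteCategory.congr_hom (NatTrans.congr_app e.inv_hom_id d) x))
  show Function.Bijective (fun m => at' (F := F) (c := c) ((R F).map e.inv.op m))
  exact Function.Bijective.comp (g := at' (F := F) (c := c)) (bijective_at' (F := F) (c := c)) h1

theorem toRep_Rmap {c : C} (e : X ≅ uliftYoneda.{u + 1}.obj c) (g : F ⟶ F') (m : (R F).obj (op X)) :
    toRep e ((Rmap g).app (op X) m) = g.app (op c) (toRep e m) :=
  (congrArg at' (NatTrans.naturality_apply (Rmap g) e.inv.op m).symm).trans (at'_Rmap g _)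

theorem surjective_Rmap {B : C → Prop} (g : F ⟶ F') (hg : ∀ c, B c → Function.Surjective (g.app (op c)))
    (hX : IsRep B X) : Function.Surjective ((Rmap g).app (op X)) := fun m => by
  obtain ⟨c, hc, ⟨e⟩⟩ := hX
  obtain ⟨y, hy⟩ := hg c hc (toRep e m)
  obtain ⟨n, rfl⟩ := (bijective_toRep e).2 y
  exact ⟨n, (bijective_toRep e).1 ((toRep_Rmap e g n).trans hy)⟩

variable [HasBinaryProducts C] {U : C} {B : C → Prop}

theorem isRep_prod_n (hU : B U) (hB : ∀ c, B c → B (U ⨯ c)) :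
    ∀ n : ℕ, IsRep B (∏ᶜ fun _ : Fin (n + 1) => uliftYoneda.{u + 1}.obj U) := by
  intro n
  induction n with
  | zero =>
    haveI : Unique (Fin (0 + 1)) := inferInstanceAs (Unique (Fin 1))
    exact ⟨U, hU, ⟨productUniqueIso _⟩⟩
  | succ n ih =>
    obtain ⟨c, hc, ⟨e⟩⟩ := ih
    refine ⟨U ⨯ c, hB c hc, ⟨?_⟩⟩
    let c₁ : Fan fun _ : Fin (n + 1) => uliftYoneda.{u + 1}.obj U :=
      Fan.mk _ (Pi.π fun _ : Fin (n + 1) => uliftYoneda.{u + 1}.obj U)
    let t₂ := prodIsProd (uliftYoneda.{u + 1}.obj U) c₁.pt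
    exact (productIsProduct _).conePointUniqueUpToIso (extendFanIsLimit _ (productIsProduct _) t₂) ≪≫
      prod.mapIso (Iso.refl _) e ≪≫ (PreservesLimitPair.iso uliftYoneda.{u + 1} U c).symm

/-! ### Global sections, gluing along the weakly final object -/

variable {J : GrothendieckTopology C}

/-- the constant presheaf -/
abbrev ZP : Cᵒᵖ ⥤ AddCommGrpCat.{u + 1} :=
  (Functor.const Cᵒᵖ).obj (AddCommGrpCat.of (ULift.{u + 1} ℤ))

omit [HasBinaryProducts C] in
theorem ZP_nat (a : ZP ⟶ F) {c d : C} (f : d ⟶ c) :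
    a.app (op d) (ULift.up 1) = F.map f.op (a.app (op c) (ULift.up 1)) :=
  NatTrans.naturality_apply a f.op (ULift.up 1)

/-- the section given by a map out of the constant presheaf -/
def hat (a : ZP ⟶ F) (X : Cᵒᵖ ⥤ Type (u + 1)) : (R F).obj (op X) :=
  mkR (fun c _ => a.app c (ULift.up 1)) fun h _ => ZP_nat a h.unop

omit [HasBinaryProducts C] in
theorem hat_map (a : ZP ⟶ F) (g : Y ⟶ X) : (R F).map g.op (hat a X) = hat a Y :=
  sec_ext fun c y => (sec_map g _ c y).trans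
    ((sec_mkR (fun d _ => a.app d (ULift.up 1)) (fun h _ => ZP_nat a h.unop) c (g.app c y)).trans
      (sec_mkR (fun d _ => a.app d (ULift.up 1)) (fun h _ => ZP_nat a h.unop) c y).symm)

variable (J) in
/-- `U` covers every object after taking products -/
def IsWeakFinal (U : C) : Prop :=
  ∀ c : C, Sieve.ofArrows (fun _ : PUnit.{u + 2} => c ⨯ U) (fun _ => (prod.fst : c ⨯ U ⟶ c)) ∈ J c

variable [HasSheafify J AddCommGrpCat.{u + 1}] [J.WEqualsLocallyBijective AddCommGrpCat.{u + 1}]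

theorem global_ext (hU : IsWeakFinal J U) {G : Sheaf J AddCommGrpCat.{u + 1}} {a b : ZP ⟶ G.obj}
    (h : a.app (op U) (ULift.up 1) = b.app (op U) (ULift.up 1)) : a = b := by
  refine NatTrans.ext (funext fun c => AddCommGrpCat.hom_ext ((uliftZMultiplesHom _).symm.injective ?_))
  refine EtCechLib.ext_of_cover G _ (hU c.unop) fun _ => ?_
  show G.obj.map _ (a.app c (ULift.up 1)) = G.obj.map _ (b.app c (ULift.up 1))
  rw [← ZP_nat a, ← ZP_nat b, ZP_nat a (prod.snd : c.unop ⨯ U ⟶ U), ZP_nat b (prod.snd : c.unop ⨯ U ⟶ U), h]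

theorem exists_global (hU : IsWeakFinal J U) {G : Sheaf J AddCommGrpCat.{u + 1}} (t : G.obj.obj (op U))
    (ht : G.obj.map (prod.fst : U ⨯ U ⟶ U).op t = G.obj.map (prod.snd : U ⨯ U ⟶ U).op t) :
    ∃ a : ZP ⟶ G.obj, a.app (op U) (ULift.up 1) = t := by
  have heq : ∀ (Z : C) (p q : Z ⟶ U), G.obj.map p.op t = G.obj.map q.op t := fun Z p q => by
    have := congrArg (G.obj.map (prod.lift p q).op) ht
    rwa [← ConcreteCategory.comp_apply, ← ConcreteCategory.comp_apply, ← Functor.map_comp, ← Functor.map_comp,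
      ← op_comp, ← op_comp, prod.lift_fst, prod.lift_snd] at this
  choose s hs huniq using fun c : C => existsUnique_amalgamation G _ (hU c)
    (fun _ => G.obj.map (prod.snd : c ⨯ U ⟶ U).op t) fun _ _ Z gi gj _ => by
      rw [← ConcreteCategory.comp_apply, ← ConcreteCategory.comp_apply, ← Functor.map_comp, ← Functor.map_comp,
        ← op_comp, ← op_comp]
      exact heq Z _ _
  have hnat : ∀ {c d : C} (f : d ⟶ c), G.obj.map f.op (s c) = s d := fun {c d} f => by
    refine huniq d _ fun _ => ?_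
    rw [← hs d ⟨⟩]
    show G.obj.map _ (G.obj.map f.op (s c)) = G.obj.map _ (s d)
    rw [hs d ⟨⟩, ← ConcreteCategory.comp_apply, ← Functor.map_comp, ← op_comp,
      show (prod.fst : d ⨯ U ⟶ d) ≫ f = prod.map f (𝟙 U) ≫ prod.fst by simp, op_comp, Functor.map_comp,
      ConcreteCategory.comp_apply, hs c ⟨⟩, ← ConcreteCategory.comp_apply, ← Functor.map_comp, ← op_comp]
    exact heq _ _ _
  refine ⟨{ app := fun c => AddCommGrpCat.ofHom (uliftZMultiplesHom _ (s c.unop))
            naturality := fun c d f => AddCommGrpCat.hom_ext ((uliftZMultiplesHom _).symm.injective ?_) }, ?_⟩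
  · show (1 : ℤ) • s d.unop = G.obj.map f ((1 : ℤ) • s c.unop)
    rw [one_zsmul, one_zsmul]
    exact (hnat f.unop).symm
  · show (1 : ℤ) • s U = t
    rw [one_zsmul]
    refine EtCechLib.ext_of_cover G _ (hU U) fun _ => ?_
    rw [hs U ⟨⟩]
    exact heq _ _ _

variable [∀ U : C, HasFiniteProducts (Over U)] (𝔅 : Basis.{u + 1} J) (U) in
/-- acyclicity for the basis and for the cover by `U` -/
def Acyclic (F : Sheaf J AddCommGrpCat.{u + 1}) : Prop :=
  𝔅.Acyclic F ∧ ∀ p : ℕ,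
    IsZero ((Cech.cx (R F.obj) (fun _ : PUnit.{u + 2} => uliftYoneda.{u + 1}.obj U)).homology (p + 1))

variable [∀ U : C, HasFiniteProducts (Over U)] {𝔅 : Basis.{u + 1} J}

theorem isRep_inter (hBU : 𝔅.B U) (hB : ∀ c, 𝔅.B c → 𝔅.B (U ⨯ c)) {p : ℕ} (a : Fin (p + 1) → PUnit.{u + 2}) :
    IsRep 𝔅.B (Cech.inter (fun _ : PUnit.{u + 2} => uliftYoneda.{u + 1}.obj U) a) :=
  isRep_prod_n hBU hB p

theorem exact_R {S : ShortComplex (Sheaf J AddCommGrpCat.{u + 1})} (hS : S.ShortExact)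
    (X : Cᵒᵖ ⥤ Type (u + 1)) (m : (R S.X₂.obj).obj (op X)) (hm : (Rmap S.g.hom).app (op X) m = 0) :
    ∃ n, (Rmap S.f.hom).app (op X) n = m := by
  choose φ hφ using fun c x => sections_exact hS (Opposite.unop c) (sec m c x)
    (((sec_Rmap S.g.hom m c x).symm.trans (congrArg (fun n => sec n c x) hm)).trans rfl)
  haveI := hS.mono_f
  exact ⟨mkR φ fun {c d} h x => sections_injective S.f d.unop (by
      rw [hφ, NatTrans.naturality_apply, hφ, sec_nat]),
    sec_ext fun c x => ((sec_Rmap _ _ c x).trans (congrArg _ (sec_mkR _ _ c x))).trans (hφ c x)⟩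

theorem injective_Rmap {G G' : Sheaf J AddCommGrpCat.{u + 1}} (g : G ⟶ G') [Mono g] (X : Cᵒᵖ ⥤ Type (u + 1)) :
    Function.Injective ((Rmap g.hom).app (op X)) := fun m m' h =>
  sec_ext fun c x => sections_injective g c.unop (congrArg (fun n => sec n c x) h)

theorem acyclic_X₃ (hBU : 𝔅.B U) (hB : ∀ c, 𝔅.B c → 𝔅.B (U ⨯ c))
    {S : ShortComplex (Sheaf J AddCommGrpCat.{u + 1})} (hS : S.ShortExact)
    (h₁ : Acyclic U 𝔅 S.X₁) (h₂ : Acyclic U 𝔅 S.X₂) : Acyclic U 𝔅 S.X₃ :=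
  ⟨𝔅.acyclic_X₃ hS h₁.1 h₂.1, fun p =>
    haveI := hS.mono_f
    Cech.isZero_homology_of_exact _ (Rmap S.f.hom) (Rmap S.g.hom)
      (fun a => injective_Rmap S.f _)
      (fun a => surjective_Rmap S.g.hom (fun c hc => 𝔅.surjective_sections hS h₁.1 hc) (isRep_inter hBU hB a))
      (fun a m hm => exact_R hS _ m hm)
      (by
        ext X m
        refine sec_ext (X := X.unop) fun c x => ?_
        exact sections_comp_eq_zero _ _) p (h₂.2 p) (h₁.2 (p + 1))⟩

theorem acyclic_of_injective [LocallySmall.{u + 1} C] (I : Sheaf J AddCommGrpCat.{u + 1}) [Injective I] :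
    Acyclic U 𝔅 I :=
  ⟨𝔅.acyclic_of_injective I, fun p => haveI := injective_obj I; isZero_homology_R I.obj _ p⟩

/-- maps out of the constant presheaf lift along maps surjective on the basis with acyclic kernel -/
theorem exists_lift (hU : IsWeakFinal J U) (hBU : 𝔅.B U) (hB : ∀ c, 𝔅.B c → 𝔅.B (U ⨯ c))
    {S : ShortComplex (Sheaf J AddCommGrpCat.{u + 1})} (hS : S.ShortExact) (h₁ : Acyclic U 𝔅 S.X₁)
    (x : ZP ⟶ S.X₃.obj) : ∃ a : ZP ⟶ S.X₂.obj, a ≫ S.g.hom = x := by
  let W : PUnit.{u + 2} → (Cᵒᵖ ⥤ Type (u + 1)) := fun _ => uliftYoneda.{u + 1}.obj U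
  let φ := Rmap S.f.hom
  let ψ := Rmap S.g.hom
  haveI := hS.mono_f
  obtain ⟨y₀, hy₀⟩ := surjective_Rmap S.g.hom (fun c hc => 𝔅.surjective_sections hS h₁.1 hc)
    ⟨U, hBU, ⟨Iso.refl _⟩⟩ (hat x (uliftYoneda.{u + 1}.obj U))
  let c₀ : (Cech.cx (R S.X₂.obj) W).X 0 :=
    Cech.mk _ W fun a => (R S.X₂.obj).map (Pi.π (fun k => W (a k)) 0).op y₀
  have hψc : ∀ (Z : Cᵒᵖ ⥤ Type (u + 1)) (t : Fin 1 → (i : PUnit.{u + 2}) × (Z ⟶ W i)),
      ψ.app (op Z) (Cech.val (R S.X₂.obj) W c₀ t) = hat x Z := fun Z t => by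
    rw [Cech.val, Cech.ev_mk, NatTrans.naturality_apply, NatTrans.naturality_apply]
    show (R S.X₃.obj).map _ ((R S.X₃.obj).map _ ((Rmap S.g.hom).app _ y₀)) = _
    rw [hy₀]
    erw [hat_map, hat_map]
  choose e he using fun a : Fin 2 → PUnit.{u + 2} => exact_R hS (Cech.inter W a)
    (Cech.ev (R S.X₂.obj) W a ((Cech.cx (R S.X₂.obj) W).d 0 1 c₀)) (by
      rw [Cech.ev_eq_val_taut, Cech.val_d, map_sum, Fin.sum_univ_two]
      rw [map_zsmul, map_zsmul, hψc, hψc]
      simp only [Fin.val_zero, pow_zero, one_zsmul, Fin.val_one, pow_one, neg_smul, add_neg_cancel])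
  have he' : Cech.map W φ (Cech.mk _ W e) = (Cech.cx (R S.X₂.obj) W).d 0 1 c₀ :=
    Cech.ext _ W fun a => by rw [Cech.ev_map, Cech.ev_mk]; exact he a
  obtain ⟨b, hb⟩ := (Cech.isZero_homology_succ_iff _ W 0).1 (h₁.2 0) (Cech.mk _ W e)
    (Cech.map_injective W φ (fun a => injective_Rmap S.f _) (by
      rw [Cech.map_d, he', Cech.map_eq_zero, ← ConcreteCategory.comp_apply, HomologicalComplex.d_comp_d]
      rfl))
  let c' := c₀ - Cech.map W φ b
  have hc' : (Cech.cx (R S.X₂.obj) W).d 0 1 c' = 0 := by rw [map_sub, ← Cech.map_d, hb, he', sub_self]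
  let s' : (R S.X₂.obj).obj (op (uliftYoneda.{u + 1}.obj U)) :=
    Cech.val (R S.X₂.obj) W c' (fun _ => ⟨⟨⟩, 𝟙 _⟩)
  have hs' : ψ.app (op _) s' = hat x (uliftYoneda.{u + 1}.obj U) := by
    show ψ.app _ ((R S.X₂.obj).map _ (Cech.ev (R S.X₂.obj) W _ (c₀ - Cech.map W φ b))) = _
    rw [map_sub, map_sub, map_sub]
    refine (congrArg₂ (· - ·) (hψc _ (fun _ => ⟨⟨⟩, 𝟙 _⟩)) ?_).trans (sub_zero _)
    rw [Cech.ev_map, NatTrans.naturality_apply]
    refine (congrArg _ (sec_ext fun c z => ?_)).trans (map_zero _)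
    exact sections_comp_eq_zero _ _
  let p₀ := uliftYoneda.{u + 1}.map (prod.fst : U ⨯ U ⟶ U)
  let p₁ := uliftYoneda.{u + 1}.map (prod.snd : U ⨯ U ⟶ U)
  have hpq : (R S.X₂.obj).map p₀.op s' = (R S.X₂.obj).map p₁.op s' := by
    have := Cech.val_d (R S.X₂.obj) W c'
      (Fin.cons ⟨⟨⟩, p₁⟩ fun _ : Fin 1 => (⟨⟨⟩, p₀⟩ : (i : PUnit.{u + 2}) × (_ ⟶ W i)))
    rw [hc', Fin.sum_univ_two] at this
    simp only [Fin.val_zero, pow_zero, one_zsmul, Fin.val_one, pow_one, neg_smul,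
      Cech.val, map_zero] at this
    have h' := eq_of_sub_eq_zero ((sub_eq_add_neg _ _).trans this.symm)
    refine (Cech.map_val (R S.X₂.obj) W c' p₀ _).trans
      (Eq.trans ?_ (Cech.map_val (R S.X₂.obj) W c' p₁ _).symm)
    simp only [Category.comp_id]
    refine Eq.trans ?_ (h'.trans ?_)
    · exact congrArg (Cech.val (R S.X₂.obj) W c') (funext fun k => by fin_cases k; rfl)
    · exact congrArg (Cech.val (R S.X₂.obj) W c') (funext fun k => by fin_cases k; rfl)
  let ts : S.X₂.obj.obj (op U) := at' (F := S.X₂.obj) (c := U) s'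
  obtain ⟨a, ha⟩ := exists_global hU ts
    ((at'_map (F := S.X₂.obj) (prod.fst : U ⨯ U ⟶ U) s').symm.trans
      ((congrArg (fun z => at' (F := S.X₂.obj) (c := U ⨯ U) z) hpq).trans (at'_map (F := S.X₂.obj) (prod.snd : U ⨯ U ⟶ U) s')))
  refine ⟨a, global_ext hU ?_⟩
  show S.g.hom.app (op U) (a.app (op U) (ULift.up 1)) = _
  rw [ha]
  refine (at'_Rmap (F := S.X₂.obj) S.g.hom s').symm.trans ((congrArg (fun z => at' (F := S.X₃.obj) (c := U) z) hs').trans ?_)
  show sec (hat x (uliftYoneda.{u + 1}.obj U)) (op U) (ULift.up (𝟙 U)) = _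
  rw [hat, sec_mkR]

variable {Λ : Type (u + 1)} [SmallCategory Λ] [IsFiltered Λ] {D : Λ ⥤ Sheaf J AddCommGrpCat.{u + 1}}
  (c : Cocone D) (hc : IsColimit c)
  (hfin : ∀ (U : C) (ι : Type (u + 1)) (Y : ι → Over U), 𝔅.Cov U ι Y → Finite ι)

include hc hfin in
theorem exists_stage_R (hX : IsRep 𝔅.B X) (m : (R c.pt.obj).obj (op X)) :
    ∃ (k : Λ) (t : (R (D.obj k).obj).obj (op X)), (Rmap (c.ι.app k).hom).app (op X) t = m := by
  obtain ⟨d, hd, ⟨e⟩⟩ := hX
  obtain ⟨k, y, hy⟩ := 𝔅.exists_stage hfin c hc hd (toRep e m)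
  obtain ⟨n, rfl⟩ := (bijective_toRep e).2 y
  exact ⟨k, n, (bijective_toRep e).1 ((toRep_Rmap e _ n).trans hy)⟩

include hc hfin in
theorem exists_eq_stage_R (hX : IsRep 𝔅.B X) {j : Λ} (t : (R (D.obj j).obj).obj (op X))
    (ht : (Rmap (c.ι.app j).hom).app (op X) t = 0) :
    ∃ (k : Λ) (a : j ⟶ k), (Rmap (D.map a).hom).app (op X) t = 0 := by
  obtain ⟨d, hd, ⟨e⟩⟩ := hX
  obtain ⟨k, a, hk⟩ := 𝔅.exists_eq_stage hfin c hc hd (toRep e t) (by rw [← toRep_Rmap, ht, map_zero])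
  exact ⟨k, a, (bijective_toRep e).1 (((toRep_Rmap e _ t).trans hk).trans (map_zero _).symm)⟩

include hc hfin in
theorem acyclic_colimit (hBU : 𝔅.B U) (hB : ∀ c, 𝔅.B c → 𝔅.B (U ⨯ c)) (hD : ∀ i, Acyclic U 𝔅 (D.obj i)) :
    Acyclic U 𝔅 c.pt := by
  refine ⟨𝔅.acyclic_colimit hfin c hc fun i => (hD i).1, fun p => ?_⟩
  let Y : PUnit.{u + 2} → (Cᵒᵖ ⥤ Type (u + 1)) := fun _ => uliftYoneda.{u + 1}.obj U
  rw [Cech.isZero_homology_succ_iff]
  intro x hx
  choose j t ht using fun a => exists_stage_R c hc hfin (isRep_inter hBU hB a)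
    (Cech.ev (R c.pt.obj) Y a x)
  obtain ⟨j₀, ⟨m⟩⟩ := exists_common_obj j
  let φ : ∀ i, R (D.obj i).obj ⟶ R c.pt.obj := fun i => Rmap (c.ι.app i).hom
  let ψ : ∀ {i k : Λ}, (i ⟶ k) → (R (D.obj i).obj ⟶ R (D.obj k).obj) := fun a => Rmap (D.map a).hom
  have hc' : ∀ {i k : Λ} (a : i ⟶ k) {X : Cᵒᵖ ⥤ Type (u + 1)} (z : (R (D.obj i).obj).obj (op X)),
      (φ k).app (op X) ((ψ a).app (op X) z) = (φ i).app (op X) z := fun {i k} a X z =>
    sec_ext fun b y =>
      ConcreteCategory.congr_hom (congrArg (fun h : D.obj i ⟶ c.pt => h.hom.app b) (c.w a)) _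
  have hcomp : ∀ {i k l : Λ} (a : i ⟶ k) (e : k ⟶ l) {X : Cᵒᵖ ⥤ Type (u + 1)}
      (z : (R (D.obj i).obj).obj (op X)),
      (ψ (a ≫ e)).app (op X) z = (ψ e).app (op X) ((ψ a).app (op X) z) := fun a e X z =>
    sec_ext fun b y => by
      show (D.map (a ≫ e)).hom.app b _ = (D.map e).hom.app b ((D.map a).hom.app b _)
      rw [D.map_comp]
      rfl
  let z₀ : (Cech.cx (R (D.obj j₀).obj) Y).X (p + 1) :=
    Cech.mk _ Y fun a => (ψ (m a)).app _ (t a)
  have hz₀ : Cech.map Y (φ j₀) z₀ = x := Cech.ext _ _ fun a => by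
    rw [Cech.ev_map, Cech.ev_mk, hc']
    exact ht a
  let d₀ := (Cech.cx (R (D.obj j₀).obj) Y).d (p + 1) (p + 2) z₀
  have hd₀ : ∀ b, ∃ (k : Λ) (a : j₀ ⟶ k),
      (ψ a).app (op (Cech.inter Y b)) (Cech.ev _ Y b d₀) = 0 := fun b => by
    refine exists_eq_stage_R c hc hfin (isRep_inter hBU hB b) _ ?_
    show (φ j₀).app (op (Cech.inter Y b)) _ = 0
    rw [← Cech.ev_map, Cech.map_d, hz₀, hx, map_zero]
  obtain ⟨k, a, hk⟩ := exists_common_stage (κ := Fin (p + 1 + 1 + 1) → PUnit.{u + 2})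
    (fun b k a => (ψ a).app (op (Cech.inter Y b)) (Cech.ev _ Y b d₀) = 0)
    (fun b k a l e h => by rw [hcomp, h, map_zero])
    hd₀
  obtain ⟨y, hy⟩ := (Cech.isZero_homology_succ_iff _ Y p).1 ((hD k).2 p) (Cech.map Y (ψ a) z₀) (by
    rw [← Cech.map_d]
    exact Cech.ext _ _ fun b => by rw [Cech.ev_map, map_zero]; exact hk b)
  exact ⟨Cech.map Y (φ k) y, by
    rw [← Cech.map_d, hy, ← hz₀]
    exact Cech.ext _ _ fun b => by rw [Cech.ev_map, Cech.ev_map, Cech.ev_map, hc']⟩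

variable [LocallySmall.{u + 1} C] [IsGrothendieckAbelian.{u + 1} (Sheaf J AddCommGrpCat.{u + 1})]
  [HasExt.{u + 1} (Sheaf J AddCommGrpCat.{u + 1})]

include hfin in
/-- Cohomology of a site covered by one object of a finite basis commutes with filtered colimits. -/
theorem preservesColimitsOfShape_H (hU : IsWeakFinal J U) (hBU : 𝔅.B U) (hB : ∀ c, 𝔅.B c → 𝔅.B (U ⨯ c))
    (n : ℕ) : PreservesColimitsOfShape Λ ((extFunctor.{u + 1} n).obj
      (op ((constantSheaf J AddCommGrpCat.{u + 1}).obj (AddCommGrpCat.of (ULift.{u + 1} ℤ))))) := by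
  let adj := sheafificationAdjunction J AddCommGrpCat.{u + 1}
  let Z := (constantSheaf J AddCommGrpCat.{u + 1}).obj (AddCommGrpCat.of (ULift.{u + 1} ℤ))
  refine CohColim.preservesColimitsOfShape_ext (fun D => ?_) (fun D hD p => ?_) n
  · refine CohColim.extSurj_and_extInj_zero D (fun a => ?_) (fun i b hb => ?_)
    · let a' : ZP ⟶ (colimit D).obj := adj.homEquiv _ _ a
      let cD := colimit.cocone D
      obtain ⟨j, t, ht⟩ := 𝔅.exists_stage hfin cD (colimit.isColimit D) hBU (a'.app (op U) (ULift.up 1))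
      obtain ⟨k, f, hk⟩ := 𝔅.exists_eq_stage hfin cD (colimit.isColimit D) (hB U hBU) (j := j)
        ((D.obj j).obj.map (prod.fst : U ⨯ U ⟶ U).op t - (D.obj j).obj.map (prod.snd : U ⨯ U ⟶ U).op t) (by
          rw [map_sub, sub_eq_zero, NatTrans.naturality_apply, NatTrans.naturality_apply, ht]
          exact (ZP_nat a' _).symm.trans (ZP_nat a' _))
      obtain ⟨b, hb⟩ := exists_global hU ((D.map f).hom.app (op U) t) (by
        rw [← NatTrans.naturality_apply, ← NatTrans.naturality_apply, ← sub_eq_zero, ← map_sub]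
        exact hk)
      refine ⟨k, (adj.homEquiv _ _).symm b, (adj.homEquiv _ _).injective ?_⟩
      rw [Adjunction.homEquiv_naturality_right, Equiv.apply_symm_apply]
      refine global_ext hU ?_
      show (cD.ι.app k).hom.app (op U) (b.app (op U) (ULift.up 1)) = a'.app (op U) (ULift.up 1)
      rw [hb, ← ht]
      exact ConcreteCategory.congr_hom (congrArg (fun h : D.obj j ⟶ cD.pt => h.hom.app (op U)) (cD.w f)) _
    · let b' : ZP ⟶ (D.obj i).obj := adj.homEquiv _ _ b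
      have hz : ∀ F : Sheaf J AddCommGrpCat.{u + 1}, adj.homEquiv ZP F 0 = 0 := fun F => by
        rw [Adjunction.homEquiv_unit]
        show adj.unit.app _ ≫ (0 : Z ⟶ F).hom = 0
        exact comp_zero
      have h0 : b' ≫ (colimit.ι D i).hom = 0 := by
        have := congrArg (adj.homEquiv _ _) hb
        rw [Adjunction.homEquiv_naturality_right] at this
        exact this.trans (hz _)
      obtain ⟨k, f, hk⟩ := 𝔅.exists_eq_stage hfin (colimit.cocone D) (colimit.isColimit D) hBU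
        (b'.app (op U) (ULift.up 1)) (ConcreteCategory.congr_hom (NatTrans.congr_app h0 (op U)) (ULift.up 1))
      refine ⟨k, f, (adj.homEquiv _ _).injective ?_⟩
      rw [Adjunction.homEquiv_naturality_right, hz]
      exact global_ext hU hk
  · refine subsingleton_ext_of_class (Acyclic U 𝔅) (fun Y => Y = Z)
      (fun G hG => ⟨_, _, _, _, (injEmbed G).zero, inferInstanceAs (Injective (Injective.under G)),
        injEmbed_shortExact G,
        (haveI : Injective (injEmbed G).X₂ := inferInstanceAs (Injective (Injective.under G))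
         acyclic_X₃ hBU hB (injEmbed_shortExact G) hG (acyclic_of_injective _)),
        fun Y hY a => ?_⟩)
      (X := Z) rfl (acyclic_colimit (colimit.cocone D) (colimit.isColimit D) hfin hBU hB
        fun i => haveI := hD i; acyclic_of_injective (D.obj i)) p
    subst hY
    obtain ⟨b, hb⟩ := exists_lift hU hBU hB (injEmbed_shortExact G) hG (adj.homEquiv _ _ a)
    refine ⟨(adj.homEquiv _ _).symm b, (adj.homEquiv _ _).injective ?_⟩
    rw [Adjunction.homEquiv_naturality_right, Equiv.apply_symm_apply]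
    exact hb

end Groth.Agent.AlgSpLib.WeakFinal
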