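import Groth.Agent.AlgSpLib.QCohEtSub

/-!
Sections of quasi-coherent modules killed by finitely generated ideals.
-/

universe u

open CategoryTheory CategoryTheory.Limits AlgebraicGeometry Opposite TensorProduct
open AlgSp

noncomputable section

set_option linter.style.haveILetI false

namespace Groth.Agent.AlgSpLib.QCohEt

set_option backward.isDefEq.respectTransparency.types false
set_option backward.isDefEq.respectTransparency false

theorem piRight_lTensor_pi {A : Type*} [CommRing A] {R M ι : Type*} [Fintype ι] [DecidableEq ι] [AddCommGroup R]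
    [Module A R] [AddCommGroup M] [Module A M] (f : ι → (M →ₗ[A] M)) (w : R ⊗[A] M) (i : ι) :
    TensorProduct.piRight A A R (fun _ : ι => M) (LinearMap.lTensor R (LinearMap.pi f) w) i =
      LinearMap.lTensor R (f i) w := by
  induction w using TensorProduct.induction_on with
  | zero => simp
  | tmul r m => simp
  | add x y hx hy => simp only [map_add, Pi.add_apply, hx, hy]

variable {S : Scheme.{u}} {X : Sp S} (F : ModEt X)

/-- the sections killed by an ideal -/
def annSub (E : EtOver X) (I : Ideal (ΓE E)) : Submodule (ΓE E) (Sec F E) where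
  carrier := {s | ∀ a ∈ I, a • s = 0}
  add_mem' {x y} hx hy a ha := by rw [smul_add, hx a ha, hy a ha, add_zero]
  zero_mem' a _ := smul_zero a
  smul_mem' r x hx a ha := (smul_smul a r x).trans ((congrArg (· • x) (mul_comm a r)).trans
    ((smul_smul r a x).symm.trans ((congrArg (r • ·) (hx a ha)).trans (smul_zero r))))

theorem mem_annSub {E : EtOver X} {I : Ideal (ΓE E)} {s : Sec F E} :
    s ∈ annSub F E I ↔ ∀ a ∈ I, a • s = 0 := Iff.rfl

theorem span_annSub [F.IsQuasicoherent] {E W : EtOver X} [IsAff E] [IsAff W] (g : W ⟶ E) (I : Ideal (ΓE E))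
    (hI : I.FG) :
    Submodule.span (ΓE W) (mapSec F g '' (annSub F E I : Set (Sec F E))) = annSub F W (I.map (ΓMap g).hom) := by
  refine le_antisymm (Submodule.span_le.2 ?_) fun z hz => ?_
  · rintro _ ⟨s, hs, rfl⟩ a ha
    refine Submodule.span_induction (p := fun b _ => b • mapSec F g s = 0) ?_ (zero_smul _ _)
      (fun x y _ _ hx hy => by rw [add_smul, hx, hy, add_zero])
      (fun r x _ hx => by rw [smul_eq_mul, mul_smul, hx, smul_zero]) ha
    rintro _ ⟨b, hb, rfl⟩
    rw [← mapSec_smul, hs b hb, map_zero]
  · classical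
    obtain ⟨t, ht⟩ := hI
    let φ : Sec F E →ₗ[ΓE E] (↥(t : Set (ΓE E)) → Sec F E) :=
      LinearMap.pi fun a => (a : ΓE E) • LinearMap.id
    have hexact : Function.Exact (LinearMap.ker φ).subtype φ := LinearMap.exact_subtype_ker_map φ
    let V : Over E := Over.mk g
    haveI : IsAff V.left := (inferInstance : IsAff W)
    haveI : Module.Flat (ΓE E) (ΓE V.left) := flat_ΓMap g
    obtain ⟨y, hy⟩ := (isBC F E V inferInstance).surjective z
    have hsmul : ∀ (a : ΓE E) (w : ΓE V.left ⊗[ΓE E] Sec F E),
        bcMap F E V (LinearMap.lTensor (ΓE V.left) (a • LinearMap.id : Sec F E →ₗ[ΓE E] Sec F E) w) =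
          (ΓMap g).hom a • bcMap F E V w := fun a w => by
      induction w using TensorProduct.induction_on with
      | zero => simp only [map_zero]; exact (smul_zero _).symm
      | tmul r m =>
        rw [LinearMap.lTensor_tmul]
        refine (bcMap_tmul F E V r _).trans ?_
        refine (congrArg (r • ·) (mapSec_smul F g a m)).trans ?_
        refine (smul_comm _ _ _).trans ?_
        exact congrArg ((ΓMap g).hom a • ·) (bcMap_tmul F E V r m).symm
      | add x y hx hy => simp only [map_add, hx, hy]; exact (smul_add _ _ _).symm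
    have hzero : LinearMap.lTensor (ΓE V.left) φ y = 0 := by
      refine (TensorProduct.piRight (ΓE E) (ΓE E) (ΓE V.left)
        (fun _ : ↥(t : Set (ΓE E)) => (Sec F E : Type (u + 1)))).injective ?_
      rw [map_zero]
      funext a
      refine (isBC F E V inferInstance).injective ?_
      rw [Pi.zero_apply, map_zero]
      rw [piRight_lTensor_pi, hsmul, hy]
      exact hz _ (Ideal.mem_map_of_mem _ (ht ▸ Ideal.subset_span a.2))
    obtain ⟨w, rfl⟩ := (Module.Flat.lTensor_exact (ΓE V.left) hexact y).1 hzero
    rw [← hy]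
    clear hy hzero hz
    induction w using TensorProduct.induction_on with
    | zero => simp only [map_zero]; exact zero_mem _
    | tmul r m =>
      rw [LinearMap.lTensor_tmul]
      refine (bcMap_tmul F E V r _).symm ▸ Submodule.smul_mem _ r (Submodule.subset_span ⟨m.val, ?_, rfl⟩)
      intro a ha
      rw [← ht] at ha
      refine Submodule.span_induction (p := fun b _ => b • m.val = 0) (fun b hb => congrFun m.property ⟨b, hb⟩)
        (zero_smul _ _) (fun x y _ _ hx hy => by rw [add_smul, hx, hy, add_zero])
        (fun r x _ hx => by rw [smul_eq_mul, mul_smul, hx, smul_zero]) ha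
    | add x y hx hy => simp only [map_add]; exact add_mem hx hy

/-- a global function in the ring of an object -/
theorem upΓ_map (E : EtOver X) {I : Ideal Γ(E.obj.left.left, ⊤)} (s : Sec F E) :
    (∀ a ∈ I, (upΓ E a) • (show sectModEt F E from s) = 0) ↔
      s ∈ annSub F E (I.map (ULift.ringEquiv.symm.toRingHom : Γ(E.obj.left.left, ⊤) →+* ΓE E)) := by
  constructor
  · intro h a ha
    obtain ⟨b, hb, rfl⟩ := (Ideal.mem_map_iff_of_surjective _ ULift.ringEquiv.symm.surjective).1 ha
    exact h b hb
  · exact fun h a ha => h _ (Ideal.mem_map_of_mem _ ha)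

/-- the ideal in the ring of an object attached to an ideal of global functions -/
abbrev upIdeal (E : EtOver X) (I : Ideal Γ(E.obj.left.left, ⊤)) : Ideal (ΓE E) :=
  I.map (ULift.ringEquiv.symm.toRingHom : Γ(E.obj.left.left, ⊤) →+* ΓE E)

theorem upIdeal_map {E W : EtOver X} (g : W ⟶ E) (I : Ideal Γ(E.obj.left.left, ⊤)) :
    (upIdeal E I).map (ΓMap g).hom = upIdeal W (I.map g.hom.left.left.appTop.hom) := by
  rw [upIdeal, upIdeal, Ideal.map_map, Ideal.map_map]
  rfl

theorem upIdeal_fg (E : EtOver X) {I : Ideal Γ(E.obj.left.left, ⊤)} (h : I.FG) : (upIdeal E I).FG := h.map _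

end Groth.Agent.AlgSpLib.QCohEt
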