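import Groth.Agent.AlgSpLib.QCohEtFinite
import Groth.Agent.AlgSpLib.QCohEtAnn
import Groth.Agent.EtCechLib.Cartan
import Groth.Agent.AdeqLib.CechAlg

/-!
Cech exactness of quasi-coherent modules for finite affine coverings.
-/

universe u

open CategoryTheory CategoryTheory.Limits AlgebraicGeometry Opposite TensorProduct
open AlgSp

noncomputable section

set_option linter.style.haveILetI false

namespace Groth.Agent.AlgSpLib.QCohEt

set_option backward.isDefEq.respectTransparency.types false
set_option backward.isDefEq.respectTransparency false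

open Groth.Agent.SiteCoh

variable {S : Scheme.{u}} {X : Sp S}

instance hasFiniteProducts_over (E : EtOver X) : HasFiniteProducts (Over E) :=
  haveI : HasBinaryProducts (Over E) := Over.ConstructProducts.over_binaryProduct_of_pullback
  hasFiniteProducts_of_has_binary_and_terminal

/-- products over an affine object of affine objects are affine -/
theorem isAff_piObj {E : EtOver X} [IsAff E] : ∀ (n : ℕ) (a : Fin n → Over E),
    (∀ k, IsAff (a k).left) → IsAff (∏ᶜ a).left := by
  intro n
  induction n with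
  | zero =>
    intro a _
    let i : (∏ᶜ a) ≅ Over.mk (𝟙 E) :=
      { hom := Over.homMk (∏ᶜ a).hom (Category.comp_id _)
        inv := Pi.lift fun k => k.elim0
        hom_inv_id := Pi.hom_ext _ _ fun k => k.elim0
        inv_hom_id := Over.OverMorphism.ext ((Category.comp_id _).symm.trans (Over.w _)) }
    haveI : IsIso i.hom := i.isIso_hom
    haveI : IsIso i.hom.left.hom.left.left := (Over.forget E ⋙ EtOver.toScheme X).map_isIso i.hom
    haveI : IsAffine (Over.mk (𝟙 E)).left.obj.left.left := (inferInstance : IsAff E)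
    exact IsAffine.of_isIso i.hom.left.hom.left.left
  | succ n ih =>
    intro a ha
    let T := ∏ᶜ fun k : Fin n => a k.succ
    haveI : IsAff T.left := ih _ fun k => ha _
    haveI := ha 0
    let V : Over E := Over.mk (EtOver.pullbackFst (a 0).hom T.hom ≫ (a 0).hom)
    let q₁ : V ⟶ a 0 := Over.homMk (EtOver.pullbackFst (a 0).hom T.hom) rfl
    let q₂ : V ⟶ T := Over.homMk (EtOver.pullbackSnd (a 0).hom T.hom) (EtOver.pullback_condition _ _).symm
    let r : (∏ᶜ a) ⟶ T := Pi.lift fun k => Pi.π a k.succ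
    let f : (∏ᶜ a) ⟶ V := Over.homMk
      ((EtOver.isPullback (a 0).hom T.hom).lift (Pi.π a 0).left r.left ((Over.w _).trans (Over.w r).symm))
      (by
        change (EtOver.isPullback (a 0).hom T.hom).lift _ _ _ ≫ EtOver.pullbackFst _ _ ≫ (a 0).hom = _
        rw [IsPullback.lift_fst_assoc]
        exact Over.w _)
    have hf₁ : f ≫ q₁ = Pi.π a 0 := Over.OverMorphism.ext ((EtOver.isPullback _ _).lift_fst _ _ _)
    have hf₂ : f ≫ q₂ = r := Over.OverMorphism.ext ((EtOver.isPullback _ _).lift_snd _ _ _)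
    let g : V ⟶ ∏ᶜ a := Pi.lift (Fin.cons (α := fun k => V ⟶ a k) q₁ fun k => q₂ ≫ Pi.π (fun k : Fin n => a k.succ) k)
    have hfg : f ≫ g = 𝟙 _ := Pi.hom_ext _ _ fun k => by
      rw [Category.assoc, Pi.lift_π, Category.id_comp]
      induction k using Fin.cases with
      | zero => rw [Fin.cons_zero, hf₁]
      | succ k => rw [Fin.cons_succ, ← Category.assoc, hf₂, Pi.lift_π]
    have hgf : g ≫ f = 𝟙 _ := by
      refine Over.OverMorphism.ext ((EtOver.isPullback (a 0).hom T.hom).hom_ext ?_ ?_)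
      · have : (g ≫ f) ≫ q₁ = 𝟙 _ ≫ q₁ := by rw [Category.assoc, hf₁, Pi.lift_π, Fin.cons_zero, Category.id_comp]
        exact congrArg CommaMorphism.left this
      · have : (g ≫ f) ≫ q₂ = 𝟙 _ ≫ q₂ := by
          rw [Category.assoc, hf₂, Category.id_comp]
          exact Pi.hom_ext _ _ fun k => by rw [Category.assoc, Pi.lift_π, Pi.lift_π, Fin.cons_succ]
        exact congrArg CommaMorphism.left this
    haveI : IsIso f := ⟨g, hfg, hgf⟩
    haveI : IsAff (EtOver.pullbackObj (a 0).hom T.hom) := isAff_pullbackObj _ _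
    haveI : IsAffine V.left.obj.left.left := ‹IsAff (EtOver.pullbackObj (a 0).hom T.hom)›
    haveI : IsIso f.left.hom.left.left := (Over.forget E ⋙ EtOver.toScheme X).map_isIso f
    exact IsAffine.of_isIso f.left.hom.left.left

/-- membership in a range may be tested on a jointly surjective family of flat algebras -/
theorem mem_range_of_cover {A : Type (u + 1)} [CommRing A] {ι : Type (u + 1)} [Finite ι] (B : ι → Type (u + 1))
    [∀ j, CommRing (B j)] [∀ j, Algebra A (B j)] [∀ j, Module.Flat A (B j)]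
    (hB : ∀ p : Ideal A, p.IsPrime → ∃ (j : ι) (q : Ideal (B j)), q.IsPrime ∧ q.comap (algebraMap A (B j)) = p)
    {M N : Type (u + 1)} [AddCommGroup M] [Module A M] [AddCommGroup N] [Module A N] (D : M →ₗ[A] N) (y : N)
    (h : ∀ j, (1 : B j) ⊗ₜ[A] y ∈ LinearMap.range (D.lTensor (B j))) : y ∈ LinearMap.range D := by
  obtain ⟨n, ⟨e⟩⟩ := Finite.exists_equiv_fin ι
  rw [← Submodule.Quotient.mk_eq_zero]
  refine eq_zero_of_forall_one_tmul (fun k : Fin n => B (e.symm k))
    (fun p hp => by
      obtain ⟨j, hj⟩ := hB p hp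
      obtain ⟨k, rfl⟩ := e.symm.surjective j
      exact ⟨k, hj⟩) _ fun k => ?_
  obtain ⟨t, ht⟩ := h (e.symm k)
  change (LinearMap.range D).mkQ.lTensor (B (e.symm k)) ((1 : B (e.symm k)) ⊗ₜ[A] y) = 0
  rw [← ht, ← LinearMap.lTensor_comp_apply, LinearMap.range_mkQ_comp, LinearMap.lTensor_zero, LinearMap.zero_apply]

variable (M : ModEt X) {E : EtOver X} {ι : Type (u + 1)} (W : ι → Over E)

/-- sections over an intersection -/
abbrev ISec {p : ℕ} (a : Fin (p + 1) → ι) : Type (u + 1) := Sec M (Cech.inter W a).left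

instance moduleISec {p : ℕ} (a : Fin (p + 1) → ι) : Module (ΓE E) (ISec M W a) :=
  secModule M (Cech.inter W a).hom

/-- restriction along a face -/
def faceLin {p : ℕ} (a : Fin (p + 2) → ι) (j : Fin (p + 2)) :
    ISec M W (a ∘ j.succAbove) →ₗ[ΓE E] ISec M W a :=
  mapSecLin M (Cech.inter W (a ∘ j.succAbove)).hom (Cech.face W a j).left (Cech.inter W a).hom (Over.w _)

/-- the differential -/
def cechLin (p : ℕ) : (∀ b : Fin (p + 1) → ι, ISec M W b) →ₗ[ΓE E] ∀ a : Fin (p + 2) → ι, ISec M W a :=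
  LinearMap.pi fun a => ∑ j : Fin (p + 2), ((-1 : ℤ) ^ (j : ℕ)) •
    (faceLin M W a j).comp (LinearMap.proj (a ∘ j.succAbove))

/-- the presheaf on objects over `E` -/
abbrev overPsh (E : EtOver X) : (Over E)ᵒᵖ ⥤ AddCommGrpCat.{u + 1} :=
  EtCechLib.pullPsh (Over.forget E) ((toAbEt X).obj M)

/-- the pullback of an intersection -/
abbrev consV (i : ι) {q : ℕ} (a : Fin (q + 1) → ι) : Over E :=
  Over.mk (EtOver.pullbackFst (W i).hom (Cech.inter W a).hom ≫ (W i).hom)

/-- first projection -/
def consFst (i : ι) {q : ℕ} (a : Fin (q + 1) → ι) : consV W i a ⟶ W i :=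
  Over.homMk (EtOver.pullbackFst (W i).hom (Cech.inter W a).hom) rfl

/-- second projection -/
def consSnd (i : ι) {q : ℕ} (a : Fin (q + 1) → ι) : consV W i a ⟶ Cech.inter W a :=
  Over.homMk (EtOver.pullbackSnd (W i).hom (Cech.inter W a).hom) (EtOver.pullback_condition _ _).symm

/-- the extended tuple -/
def consTup (i : ι) {q : ℕ} (a : Fin (q + 1) → ι) : Fin (q + 2) → (k : ι) × (consV W i a ⟶ W k) :=
  Fin.cons ⟨i, consFst W i a⟩ fun k => ⟨a k, consSnd W i a ≫ Pi.π (fun k => W (a k)) k⟩

/-- the map between pullbacks of intersections -/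
def consFace (i : ι) {q : ℕ} (a : Fin (q + 2) → ι) (j : Fin (q + 2)) : consV W i a ⟶ consV W i (a ∘ j.succAbove) :=
  Over.homMk (pbMap (W i) (Cech.inter W (a ∘ j.succAbove)).hom (Cech.face W a j).left (Cech.inter W a).hom (Over.w _))
    (by
      change pbMap _ _ _ _ _ ≫ EtOver.pullbackFst _ _ ≫ (W i).hom = _
      rw [pbMap, IsPullback.lift_fst_assoc]
      rfl)

theorem consTup_face (i : ι) {q : ℕ} (a : Fin (q + 2) → ι) (j : Fin (q + 2)) :
    (fun k => (⟨(consTup W i (a ∘ j.succAbove) k).1, consFace W i a j ≫ (consTup W i (a ∘ j.succAbove) k).2⟩ :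
      (k : ι) × (consV W i a ⟶ W k))) = consTup W i a ∘ j.succ.succAbove := by
  funext k
  induction k using Fin.cases with
  | zero =>
    rw [Function.comp_apply, Fin.succ_succAbove_zero, consTup, consTup, Fin.cons_zero, Fin.cons_zero]
    exact congrArg (Sigma.mk i) (Over.OverMorphism.ext ((EtOver.isPullback _ _).lift_fst _ _ _))
  | succ k =>
    rw [Function.comp_apply, Fin.succ_succAbove_succ, consTup, consTup, Fin.cons_succ, Fin.cons_succ]
    refine congrArg (Sigma.mk (a (j.succAbove k))) ?_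
    rw [← Category.assoc, show consFace W i a j ≫ consSnd W i (a ∘ j.succAbove) = consSnd W i a ≫ Cech.face W a j from
      Over.OverMorphism.ext ((EtOver.isPullback _ _).lift_snd _ _ _), Category.assoc]
    exact congrArg (fun z => consSnd W i a ≫ z) (Pi.lift_π _ k)

/-- sections of the presheaf over `E` as sections of the module -/
def toSec {V : Over E} : (overPsh M E).obj (op V) →+ Sec M V.left where
  toFun z := z
  map_zero' := rfl
  map_add' _ _ := rfl

theorem toSec_map {V V' : Over E} (g : V' ⟶ V) (z : (overPsh M E).obj (op V)) :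
    toSec M ((overPsh M E).map g.op z) = mapSec M g.left (toSec M z) := rfl

/-- the component of a cochain on an extended tuple -/
def consVal (i : ι) {q : ℕ} (x : (Cech.cx (overPsh M E) W).X (q + 1)) (a : Fin (q + 1) → ι) :
    Sec M (EtOver.pullbackObj (W i).hom (Cech.inter W a).hom) :=
  toSec M (V := consV W i a) (Cech.val (overPsh M E) W (V := consV W i a) x (consTup W i a))

theorem betaMap_one_tmul (i : ι) {q : ℕ} (x : (Cech.cx (overPsh M E) W).X (q + 1)) (a : Fin (q + 2) → ι) :
    betaMap M (W i) (Cech.inter W a).hom ((1 : ΓE (W i).left) ⊗ₜ[ΓE E] (show ISec M W a from toSec M (V := Cech.inter W a) (Cech.ev (overPsh M E) W a x))) =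
      toSec M (V := consV W i a) (Cech.val (overPsh M E) W (V := consV W i a) x (consTup W i a ∘ (0 : Fin (q + 3)).succAbove)) := by
  have e₀ : consTup W i a ∘ (0 : Fin (q + 3)).succAbove =
      fun k => ⟨a k, consSnd W i a ≫ Pi.π (fun k => W (a k)) k⟩ :=
    funext fun k => by rw [Function.comp_apply, Fin.succAbove_zero, consTup, Fin.cons_succ]
  rw [e₀]
  refine Eq.trans ?_ (congrArg (toSec M (V := consV W i a)) (Cech.map_ev (overPsh M E) W x a (consSnd W i a)))
  rw [betaMap_tmul, map_one, one_smul, toSec_map]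
  rfl

theorem betaMap_faceLin (i : ι) {q : ℕ} (x : (Cech.cx (overPsh M E) W).X (q + 1)) (a : Fin (q + 2) → ι)
    (j : Fin (q + 2)) (t : ΓE (W i).left ⊗[ΓE E] ISec M W (a ∘ j.succAbove))
    (ht : betaMap M (W i) (Cech.inter W (a ∘ j.succAbove)).hom t = consVal M W i x (a ∘ j.succAbove)) :
    betaMap M (W i) (Cech.inter W a).hom ((faceLin M W a j).lTensor (ΓE (W i).left) t) =
      toSec M (V := consV W i a) (Cech.val (overPsh M E) W (V := consV W i a) x (consTup W i a ∘ j.succ.succAbove)) := by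
  rw [← consTup_face W i a j, ← Cech.map_val (overPsh M E) W x (consFace W i a j), toSec_map]
  refine (betaMap_mapSecLin M (W i) (Cech.inter W (a ∘ j.succAbove)).hom (Cech.face W a j).left
    (Cech.inter W a).hom (Over.w _) t).trans ?_
  rw [ht, consVal]
  rfl

theorem val_eq_sum (i : ι) {q : ℕ} (x : (Cech.cx (overPsh M E) W).X (q + 1))
    (hx : (Cech.cx (overPsh M E) W).d (q + 1) (q + 2) x = 0) (a : Fin (q + 2) → ι) :
    Cech.val (overPsh M E) W (V := consV W i a) x (consTup W i a ∘ (0 : Fin (q + 3)).succAbove) =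
      ∑ j : Fin (q + 2), ((-1 : ℤ) ^ (j : ℕ)) • Cech.val (overPsh M E) W (V := consV W i a) x (consTup W i a ∘ j.succ.succAbove) := by
  have hzero : Cech.val (overPsh M E) W (V := consV W i a) ((Cech.cx (overPsh M E) W).d (q + 1) (q + 2) x) (consTup W i a) = 0 := by
    rw [hx, Cech.val, map_zero, map_zero]
  rw [Cech.val_d, Fin.sum_univ_succ, Fin.val_zero, pow_zero, one_zsmul] at hzero
  have hs : ∀ j : Fin (q + 2), (-1 : ℤ) ^ ((j.succ : Fin (q + 3)) : ℕ) = - (-1 : ℤ) ^ (j : ℕ) := fun j => by
    rw [Fin.val_succ, pow_succ, mul_neg_one]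
  simp only [hs, neg_smul, Finset.sum_neg_distrib] at hzero
  exact eq_of_sub_eq_zero ((sub_eq_add_neg _ _).trans hzero)

/-- cocycles on finite affine coverings are coboundaries -/
theorem exists_coboundary [M.IsQuasicoherent] [IsAff E] [Finite ι] (hW : ∀ i, IsAff (W i).left)
    (hcov : ∀ x, ∃ i, x ∈ Set.range (W i).hom.hom.left.left) (p : ℕ) (x : (Cech.cx (overPsh M E) W).X (p + 1))
    (hx : (Cech.cx (overPsh M E) W).d (p + 1) (p + 2) x = 0) :
    ∃ y, (Cech.cx (overPsh M E) W).d p (p + 1) y = x := by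
  haveI := hW
  haveI hI : ∀ {q : ℕ} (a : Fin (q + 1) → ι), IsAff (Cech.inter W a).left :=
    fun a => isAff_piObj _ _ fun k => hW _
  haveI : ∀ i, Module.Flat (ΓE E) (ΓE (W i).left) := fun i => flat_ΓMap (W i).hom
  let y₀ : ∀ a : Fin (p + 2) → ι, ISec M W a := fun a => toSec M (V := Cech.inter W a) (Cech.ev (overPsh M E) W a x)
  suffices h : y₀ ∈ LinearMap.range (cechLin M W p) by
    obtain ⟨b, hb⟩ := h
    refine ⟨Cech.mk (overPsh M E) W fun c => b c, Cech.ext _ W fun a => ?_⟩
    have e := congrFun hb a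
    rw [cechLin, LinearMap.pi_apply, LinearMap.sum_apply] at e
    rw [Cech.ev_d]
    refine (show Function.Injective (toSec M (V := Cech.inter W a)) from fun _ _ h => h) ?_
    rw [map_sum (toSec M (V := Cech.inter W a))]
    refine Eq.trans (Finset.sum_congr rfl fun j _ => ?_) e
    rw [map_zsmul, LinearMap.smul_apply, Cech.ev_mk, toSec_map]
    rfl
  refine mem_range_of_cover (fun i => ΓE (W i).left)
    (fun q hq => exists_comap_eq (fun i => (W i).hom) hcov q hq) (cechLin M W p) y₀ fun i => ?_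
  have hβ : ∀ {q : ℕ} (a : Fin (q + 1) → ι), Function.Bijective (betaMap M (W i) (Cech.inter W a).hom) :=
    fun a => bijective_betaMap M (W i) (Cech.inter W a).hom (isBC M _)
  choose t ht using fun b : Fin (p + 1) → ι => (hβ b).surjective (consVal M W i x b)
  obtain ⟨Y, hY⟩ := AdeqLib.exists_pi_components (R := ΓE E) (C := ΓE (W i).left)
    (N := fun b : Fin (p + 1) → ι => ISec M W b) t
  refine ⟨Y, AdeqLib.pi_components_ext fun a => (hβ a).injective ?_⟩
  rw [LinearMap.lTensor_tmul, LinearMap.proj_apply, betaMap_one_tmul, val_eq_sum M W i x hx a, map_sum (toSec M),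
    ← LinearMap.lTensor_comp_apply, cechLin, LinearMap.proj_pi, AdeqLib.lTensor_fsum, LinearMap.sum_apply, map_sum]
  refine Finset.sum_congr rfl fun j _ => ?_
  rw [AdeqLib.lTensor_zsmul, LinearMap.smul_apply, map_zsmul, LinearMap.lTensor_comp_apply, hY]
  rw [map_zsmul (toSec M)]
  exact congrArg (fun z => ((-1 : ℤ) ^ (j : ℕ)) • z) (betaMap_faceLin M W i x a j _ (ht _))

end Groth.Agent.AlgSpLib.QCohEt
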