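import Groth.Agent.AlgSpLib.QCohEtPush
import Groth.Agent.AlgSpLib.PointsCompact
import Groth.Agent.AlgSpLib.Diag

/-!
Direct images of quasi-coherent modules along quasi-compact quasi-separated representable morphisms.
-/

universe u

open CategoryTheory CategoryTheory.Limits AlgebraicGeometry Opposite TensorProduct
open AlgSp

noncomputable section

set_option linter.style.haveILetI false

namespace Groth.Agent.AlgSpLib.QCohEt

set_option backward.isDefEq.respectTransparency.types false
set_option backward.isDefEq.respectTransparency false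

theorem bijective_of_isPullback {S : Scheme.{u}} {X Y : Sp S} {E W : EtOver Y} {U V : EtOver X}
    [IsAffine E.obj.left.left] [IsAffine W.obj.left.left] [IsAffine U.obj.left.left]
    {g : W.obj.left.left ⟶ E.obj.left.left} {a : U.obj.left.left ⟶ E.obj.left.left}
    {b : V.obj.left.left ⟶ W.obj.left.left} {v : V.obj.left.left ⟶ U.obj.left.left} (h : IsPullback v b a g)
    [Algebra (ΓE E) (ΓE W)] [Algebra (ΓE E) (ΓE U)] [Algebra (ΓE E) (ΓE V)]
    (l : ΓE W →ₐ[ΓE E] ΓE V) (r : ΓE U →ₐ[ΓE E] ΓE V)
    (hgE : algebraMap (ΓE E) (ΓE W) = (ULift.ringEquiv.symm.toRingHom.comp g.appTop.hom).comp ULift.ringEquiv.toRingHom)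
    (haE : algebraMap (ΓE E) (ΓE U) = (ULift.ringEquiv.symm.toRingHom.comp a.appTop.hom).comp ULift.ringEquiv.toRingHom)
    (hl : l.toRingHom = (ULift.ringEquiv.symm.toRingHom.comp b.appTop.hom).comp ULift.ringEquiv.toRingHom)
    (hr : r.toRingHom = (ULift.ringEquiv.symm.toRingHom.comp v.appTop.hom).comp ULift.ringEquiv.toRingHom) :
    Function.Bijective (Algebra.TensorProduct.productMap l r) := by
  let R := Γ(E.obj.left.left, ⊤)
  let A := Γ(W.obj.left.left, ⊤)
  let B := Γ(U.obj.left.left, ⊤)
  let φ₁ : R ⟶ A := g.appTop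
  let φ₂ : R ⟶ B := a.appTop
  letI := φ₁.hom.toAlgebra
  letI := φ₂.hom.toAlgebra
  have sq : IsPushout φ₁ φ₂ b.appTop v.appTop := isPushout_appTop_of_isPullback h.flip
  have sqT := CommRingCat.isPushout_tensorProduct R A B
  let χ := (sqT.isoIsPushout _ _ sq).hom
  have hχ : Function.Bijective χ.hom := ConcreteCategory.bijective_of_isIso χ
  letI : Algebra R (ΓE W ⊗[ΓE E] ΓE U) :=
    ((algebraMap (ΓE E) (ΓE W ⊗[ΓE E] ΓE U)).comp ULift.ringEquiv.symm.toRingHom).toAlgebra
  let i₁ : A →ₐ[R] ΓE W ⊗[ΓE E] ΓE U :=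
    { ((Algebra.TensorProduct.includeLeftRingHom (R := ΓE E) (A := ΓE W) (B := ΓE U)).comp
        ((ULift.ringEquiv (R := A)).symm.toRingHom : A →+* ΓE W)) with
      commutes' := fun x =>
        (congrArg (fun z : ΓE W => z ⊗ₜ[ΓE E] (1 : ΓE U)) (RingHom.congr_fun hgE (ULift.up x))).symm }
  let i₂ : B →ₐ[R] ΓE W ⊗[ΓE E] ΓE U :=
    { ((Algebra.TensorProduct.includeRight (R := ΓE E) (A := ΓE W) (B := ΓE U)).toRingHom.comp
        (ULift.ringEquiv (R := B)).symm.toRingHom) with
      commutes' := fun x => (congrArg (Algebra.TensorProduct.includeRight (R := ΓE E) (A := ΓE W) (B := ΓE U))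
        (RingHom.congr_fun haE (ULift.up x))).symm.trans ((Algebra.TensorProduct.includeRight (R := ΓE E) (A := ΓE W)
        (B := ΓE U)).commutes (ULift.up x)) }
  let κ := Algebra.TensorProduct.productMap i₁ i₂
  have hκ : ∀ t, ∃ y, κ y = t := fun t => by
    induction t with
    | zero => exact ⟨0, map_zero _⟩
    | tmul a b =>
      refine ⟨(show A from a.down) ⊗ₜ[R] (show B from b.down), ?_⟩
      rw [Algebra.TensorProduct.productMap_apply_tmul]
      show (a ⊗ₜ[ΓE E] (1 : ΓE U)) * ((1 : ΓE W) ⊗ₜ[ΓE E] b) = _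
      rw [Algebra.TensorProduct.tmul_mul_tmul, mul_one, one_mul]
    | add x y hx hy =>
      obtain ⟨x', rfl⟩ := hx; obtain ⟨y', rfl⟩ := hy
      exact ⟨x' + y', map_add _ _ _⟩
  have key : ∀ y, Algebra.TensorProduct.productMap l r (κ y) = ULift.up (χ.hom y) := fun y => by
    induction y with
    | zero => simp only [map_zero]; rfl
    | tmul p q =>
      rw [Algebra.TensorProduct.productMap_apply_tmul, map_mul]
      change Algebra.TensorProduct.productMap l r ((ULift.up p : ΓE W) ⊗ₜ 1) *
        Algebra.TensorProduct.productMap l r ((1 : ΓE W) ⊗ₜ (ULift.up q : ΓE U)) = _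
      rw [Algebra.TensorProduct.productMap_apply_tmul, Algebra.TensorProduct.productMap_apply_tmul, map_one,
        map_one, mul_one, one_mul, show l (ULift.up p) = ULift.up (b.appTop p) from DFunLike.congr_fun hl _,
        show r (ULift.up q) = ULift.up (v.appTop q) from DFunLike.congr_fun hr _,
        show p ⊗ₜ[R] q = (p ⊗ₜ 1) * ((1 : A) ⊗ₜ q) by
          rw [Algebra.TensorProduct.tmul_mul_tmul, mul_one, one_mul], map_mul]
      exact congrArg ULift.up (congrArg₂ (· * ·) (ConcreteCategory.congr_hom (sqT.inl_isoIsPushout_hom _ _ sq) p).symm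
        (ConcreteCategory.congr_hom (sqT.inr_isoIsPushout_hom _ _ sq) q).symm)
    | add x y hx hy => simp only [map_add, hx, hy]; rfl
  refine ⟨(injective_iff_map_eq_zero _).2 fun x hx => ?_, fun c => ?_⟩
  · obtain ⟨y, rfl⟩ := hκ x
    rw [key] at hx
    rw [hχ.1 ((congrArg ULift.down hx).trans (map_zero χ.hom).symm), map_zero]
  · obtain ⟨y, hy⟩ := hχ.2 c.down
    exact ⟨κ y, (key y).trans (congrArg ULift.up hy)⟩

variable {S : Scheme.{u}} {X Y : Sp S} {f : X ⟶ Y} (hf : Representable f)

theorem compactSpace_bcObj (hqc : IsQuasiCompactMor f) (E : EtOver Y) [IsAff E] :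
    CompactSpace (EtOver.bcObj hf E).obj.left.left := by
  haveI : IsAffine E.obj.left.left := (inferInstance : IsAff E)
  haveI : CompactSpace (Points ((yon S).obj E.obj.left)) := (Points.schemeHomeo E.obj.left).compactSpace
  have hqs := hqc (IsAlgSpace.yon_obj E.obj.left)
    ((isQuasiCompactSp_iff_compactSpace (IsAlgSpace.yon_obj E.obj.left)).2 inferInstance) _ _ _
    (hf.isPullback E.obj.hom)
  haveI : CompactSpace (Points ((yon S).obj (hf.pullback E.obj.hom))) :=
    (isQuasiCompactSp_iff_compactSpace (IsAlgSpace.yon_obj _)).1 hqs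
  exact (Points.schemeHomeo (hf.pullback E.obj.hom)).symm.compactSpace

theorem quasiSeparatedSpace_bcObj (hqs : IsQuasiSeparatedMor f) (E : EtOver Y) [IsAff E] :
    QuasiSeparatedSpace (EtOver.bcObj hf E).obj.left.left := by
  haveI : IsAffine E.obj.left.left := (inferInstance : IsAff E)
  have h : QuasiSeparated (hf.snd E.obj.hom).left := by
    rw [quasiSeparated_eq_diagonal_is_quasiCompact]
    exact ((repWith_diagonal_iff hf).1 hqs).2 _ _ _ (hf.isPullback E.obj.hom)
  exact quasiSeparatedSpace_of_quasiSeparated (hf.snd E.obj.hom).left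

theorem exists_finite_affine_cover (P : EtOver X) [CompactSpace P.obj.left.left] :
    ∃ (ι : Type) (_ : Finite ι) (Z : ι → EtOver X) (g : ∀ i, Z i ⟶ P),
      (∀ i, IsAff (Z i)) ∧ ∀ x, ∃ i, x ∈ Set.range (g i).hom.left.left := by
  obtain ⟨ι, Z, g, hZ, hc⟩ := exists_affine_cover P
  have hop : ∀ i, IsOpen (Set.range (g i).hom.left.left) := fun i => by
    have := EtOver.etale_left (g i)
    exact (g i).hom.left.left.isOpenMap.isOpen_range
  obtain ⟨t, ht⟩ := (isCompact_univ (X := P.obj.left.left)).elim_finite_subcover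
    (fun i => Set.range (g i).hom.left.left) hop fun x _ => Set.mem_iUnion.2 (hc x)
  refine ⟨Fin t.card, inferInstance, fun i => Z (t.equivFin.symm i), fun i => g (t.equivFin.symm i),
    fun i => hZ _, fun x => ?_⟩
  obtain ⟨y, hy, hxy⟩ := Set.mem_iUnion₂.1 (ht (Set.mem_univ x))
  exact ⟨t.equivFin ⟨y, hy⟩, (congrArg (fun v : ↥t => x ∈ Set.range (g v.1).hom.left.left)
    (t.equivFin.symm_apply_apply ⟨y, hy⟩)).mpr hxy⟩

theorem compactSpace_pullbackObj {P U V : EtOver X} [QuasiSeparatedSpace P.obj.left.left] (a : U ⟶ P) (b : V ⟶ P)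
    [IsAff U] [IsAff V] : CompactSpace (EtOver.pullbackObj a b).obj.left.left := by
  haveI : IsAffine U.obj.left.left := (inferInstance : IsAff U)
  haveI : IsAffine V.obj.left.left := (inferInstance : IsAff V)
  have sq : IsPullback (EtOver.pullbackFst a b).hom.left.left (EtOver.pullbackSnd a b).hom.left.left
      a.hom.left.left b.hom.left.left :=
    (IsPullback.of_hasPullback a.hom.left b.hom.left).map (Over.forget S)
  haveI : QuasiCompact b.hom.left.left := inferInstance
  haveI : QuasiCompact (EtOver.pullbackFst a b).hom.left.left := MorphismProperty.of_isPullback sq.flip inferInstance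
  exact QuasiCompact.compactSpace_of_compactSpace (EtOver.pullbackFst a b).hom.left.left

variable {E : EtOver Y} (W : Over E) {U : EtOver X} (u : U ⟶ EtOver.bcObj hf E)

/-- functions on the base as functions on an object over the base change -/
def pushΓ : ΓE E →+* ΓE U := (ΓMap u).hom.comp (bcΓ hf E)

/-- the base changed object -/
abbrev pushObj : EtOver X := EtOver.pullbackObj (EtOver.bcMap hf W.hom) u

/-- scalars of the base -/
abbrev pushModule (M : ModEt X) : Module (ΓE E) (Sec M U) := Module.compHom _ (pushΓ hf u)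

theorem pushΓ_comm (a : ΓE E) :
    pushΓ hf (EtOver.pullbackFst (EtOver.bcMap hf W.hom) u) ((ΓMap W.hom).hom a) =
      (ΓMap (EtOver.pullbackSnd (EtOver.bcMap hf W.hom) u)).hom (pushΓ hf u a) := by
  have h : bcΓ hf W.left ((ΓMap W.hom).hom a) = (ΓMap (EtOver.bcMap hf W.hom)).hom (bcΓ hf E a) :=
    ConcreteCategory.congr_hom ((bcRingHom hf).hom.naturality W.hom.op) a
  change (ΓMap _).hom (bcΓ hf W.left ((ΓMap W.hom).hom a)) = (ΓMap _).hom ((ΓMap u).hom (bcΓ hf E a))
  rw [h, ← ΓMap_comp, ← ΓMap_comp, EtOver.pullback_condition]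

variable (M : ModEt X)

/-- base change for an object over the base change -/
def pushBeta : letI := pushModule hf u M; ΓE W.left ⊗[ΓE E] Sec M U →+ Sec M (pushObj hf W u) :=
  letI := pushModule hf u M
  TensorProduct.liftAddHom
    { toFun := fun t => (smulSec M (pushObj hf W u) (pushΓ hf (EtOver.pullbackFst (EtOver.bcMap hf W.hom) u) t)).comp
        (mapSec M (EtOver.pullbackSnd (EtOver.bcMap hf W.hom) u))
      map_zero' := by rw [map_zero, map_zero, AddMonoidHom.zero_comp]
      map_add' := fun x y => by rw [map_add, map_add, AddMonoidHom.add_comp] }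
    fun a t m => by
      change pushΓ hf (EtOver.pullbackFst (EtOver.bcMap hf W.hom) u) (((ΓMap W.hom).hom a : ΓE W.left) * t) •
          mapSec M (EtOver.pullbackSnd (EtOver.bcMap hf W.hom) u) m =
        pushΓ hf (EtOver.pullbackFst (EtOver.bcMap hf W.hom) u) t •
          mapSec M (EtOver.pullbackSnd (EtOver.bcMap hf W.hom) u) (pushΓ hf u a • m)
      rw [map_mul, mapSec_smul, ← pushΓ_comm hf W u a, smul_smul, mul_comm]

theorem pushBeta_tmul (t : ΓE W.left) (m : Sec M U) :
    letI := pushModule hf u M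
    pushBeta hf W u M (t ⊗ₜ m) = pushΓ hf (EtOver.pullbackFst (EtOver.bcMap hf W.hom) u) t •
      mapSec M (EtOver.pullbackSnd (EtOver.bcMap hf W.hom) u) m := rfl

/-- restriction as a map over the base -/
def pushLin {U' : EtOver X} (v : U' ⟶ U) (u' : U' ⟶ EtOver.bcObj hf E) (e : v ≫ u = u') :
    letI := pushModule hf u M
    letI := pushModule hf u' M
    Sec M U →ₗ[ΓE E] Sec M U' :=
  letI := pushModule hf u M
  letI := pushModule hf u' M
  { toFun := mapSec M v
    map_add' := map_add _
    map_smul' := fun a m => by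
      change mapSec M v (pushΓ hf u a • m) = pushΓ hf u' a • mapSec M v m
      subst e
      rw [mapSec_smul]
      change (ΓMap v).hom ((ΓMap u).hom (bcΓ hf E a)) • _ = (ΓMap (v ≫ u)).hom (bcΓ hf E a) • _
      rw [ΓMap_comp] }

/-- restriction from the base change -/
def pushRes : letI := pushModule hf u M; Sec ((pushModEt hf).obj M) E →ₗ[ΓE E] Sec M U :=
  letI := pushModule hf u M
  { toFun := fun m => mapSec M u m
    map_add' := map_add (mapSec M u)
    map_smul' := fun a m => mapSec_smul M u (bcΓ hf E a) m }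

/-- the morphism of base changed objects -/
def pushPb {U' : EtOver X} (v : U' ⟶ U) (u' : U' ⟶ EtOver.bcObj hf E) (e : v ≫ u = u') :
    pushObj hf W u' ⟶ pushObj hf W u :=
  (EtOver.isPullback _ u).lift (EtOver.pullbackFst _ u') (EtOver.pullbackSnd _ u' ≫ v)
    (by rw [Category.assoc, e, EtOver.pullback_condition])

theorem pushPb_fst {U' : EtOver X} (v : U' ⟶ U) (u' : U' ⟶ EtOver.bcObj hf E) (e : v ≫ u = u') :
    pushPb hf W u v u' e ≫ EtOver.pullbackFst (EtOver.bcMap hf W.hom) u = EtOver.pullbackFst _ u' :=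
  (EtOver.isPullback _ u).lift_fst _ _ _

theorem pushPb_snd {U' : EtOver X} (v : U' ⟶ U) (u' : U' ⟶ EtOver.bcObj hf E) (e : v ≫ u = u') :
    pushPb hf W u v u' e ≫ EtOver.pullbackSnd (EtOver.bcMap hf W.hom) u = EtOver.pullbackSnd _ u' ≫ v :=
  (EtOver.isPullback _ u).lift_snd _ _ _

theorem pushBeta_pushLin {U' : EtOver X} (v : U' ⟶ U) (u' : U' ⟶ EtOver.bcObj hf E) (e : v ≫ u = u')
    (y : letI := pushModule hf u M; ΓE W.left ⊗[ΓE E] Sec M U) :
    letI := pushModule hf u M
    letI := pushModule hf u' M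
    pushBeta hf W u' M (LinearMap.lTensor (ΓE W.left) (pushLin hf u M v u' e) y) =
      mapSec M (pushPb hf W u v u' e) (pushBeta hf W u M y) := by
  letI := pushModule hf u M
  letI := pushModule hf u' M
  induction y using TensorProduct.induction_on with
  | zero => simp only [map_zero]
  | tmul t m =>
    rw [LinearMap.lTensor_tmul, pushBeta_tmul, pushBeta_tmul, mapSec_smul, ← mapSec_comp, pushPb_snd,
      mapSec_comp]
    refine congrArg (· • mapSec M _ (mapSec M v m)) ?_
    change (ΓMap _).hom (bcΓ hf W.left t) = (ΓMap _).hom ((ΓMap _).hom (bcΓ hf W.left t))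
    rw [← ΓMap_comp, pushPb_fst]
  | add a b ha hb => simp only [map_add, ha, hb]

theorem mapSec_bcMap_push (t : ΓE W.left) (m : Sec ((pushModEt hf).obj M) E) :
    mapSec M (EtOver.pullbackFst (EtOver.bcMap hf W.hom) u) (bcMap ((pushModEt hf).obj M) E W (t ⊗ₜ m)) =
      pushΓ hf (EtOver.pullbackFst (EtOver.bcMap hf W.hom) u) t •
        mapSec M (EtOver.pullbackFst (EtOver.bcMap hf W.hom) u ≫ EtOver.bcMap hf W.hom)
          (show Sec M (EtOver.bcObj hf E) from m) :=
  (mapSec_smul M (EtOver.pullbackFst (EtOver.bcMap hf W.hom) u) (bcΓ hf W.left t)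
    (mapSec M (EtOver.bcMap hf W.hom) (show Sec M (EtOver.bcObj hf E) from m))).trans
    (congrArg (pushΓ hf (EtOver.pullbackFst (EtOver.bcMap hf W.hom) u) t • ·)
      (mapSec_comp M (EtOver.pullbackFst (EtOver.bcMap hf W.hom) u) (EtOver.bcMap hf W.hom) _).symm)

theorem pushBeta_tmul_pushRes (t : ΓE W.left) (m : Sec ((pushModEt hf).obj M) E) :
    letI := pushModule hf u M
    pushBeta hf W u M (t ⊗ₜ pushRes hf u M m) =
      pushΓ hf (EtOver.pullbackFst (EtOver.bcMap hf W.hom) u) t •
        mapSec M (EtOver.pullbackFst (EtOver.bcMap hf W.hom) u ≫ EtOver.bcMap hf W.hom)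
          (show Sec M (EtOver.bcObj hf E) from m) := by
  rw [EtOver.pullback_condition, mapSec_comp]
  rfl

theorem pushBeta_pushRes (x : ΓE W.left ⊗[ΓE E] Sec ((pushModEt hf).obj M) E) :
    letI := pushModule hf u M
    pushBeta hf W u M (LinearMap.lTensor (ΓE W.left) (pushRes hf u M) x) =
      mapSec M (EtOver.pullbackFst (EtOver.bcMap hf W.hom) u) (bcMap ((pushModEt hf).obj M) E W x) := by
  letI := pushModule hf u M
  induction x using TensorProduct.induction_on with
  | zero =>
    exact ((congrArg (pushBeta hf W u M) (LinearMap.lTensor (ΓE W.left) (pushRes hf u M)).map_zero).trans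
      (pushBeta hf W u M).map_zero).trans ((congrArg (mapSec M (EtOver.pullbackFst (EtOver.bcMap hf W.hom) u))
        (bcMap ((pushModEt hf).obj M) E W).map_zero).trans (mapSec M _).map_zero).symm
  | tmul t m =>
    exact (pushBeta_tmul_pushRes hf W u M t m).trans (mapSec_bcMap_push hf W u M t m).symm
  | add a b ha hb =>
    exact ((congrArg (pushBeta hf W u M) ((LinearMap.lTensor (ΓE W.left) (pushRes hf u M)).map_add a b)).trans
      ((pushBeta hf W u M).map_add _ _)).trans ((congrArg₂ (· + ·) ha hb).trans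
      (((congrArg (mapSec M (EtOver.pullbackFst (EtOver.bcMap hf W.hom) u))
        ((bcMap ((pushModEt hf).obj M) E W).map_add a b)).trans ((mapSec M _).map_add _ _)).symm))

theorem bijective_pushBeta [M.IsQuasicoherent] [IsAff E] [IsAff W.left] [IsAff U] :
    Function.Bijective (pushBeta hf W u M) := by
  haveI : IsAffine W.left.obj.left.left := (inferInstance : IsAff W.left)
  haveI : IsAffine U.obj.left.left := (inferInstance : IsAff U)
  haveI : IsAffine E.obj.left.left := (inferInstance : IsAff E)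
  let V : Over U := Over.mk (EtOver.pullbackSnd (EtOver.bcMap hf W.hom) u)
  have sq : IsPullback (EtOver.pullbackSnd (EtOver.bcMap hf W.hom) u).hom.left.left
      ((EtOver.pullbackFst (EtOver.bcMap hf W.hom) u).hom.left.left ≫ (hf.snd W.left.obj.hom).left)
      (u.hom.left.left ≫ (hf.snd E.obj.hom).left) W.hom.hom.left.left :=
    ((IsPullback.of_hasPullback (EtOver.bcMap hf W.hom).hom.left u.hom.left).map (Over.forget S)).flip.paste_vert
      (EtOver.isPullback_bcMap_left hf W.hom)
  haveI hV : IsAff V.left := IsAffine.of_isPullback sq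
  letI := pushModule hf u M
  letI := (pushΓ hf u).toAlgebra
  letI : Algebra (ΓE W.left) (ΓE V.left) := (pushΓ hf (EtOver.pullbackFst (EtOver.bcMap hf W.hom) u)).toAlgebra
  letI : Algebra (ΓE E) (ΓE V.left) :=
    ((pushΓ hf (EtOver.pullbackFst (EtOver.bcMap hf W.hom) u)).comp (ΓMap W.hom).hom).toAlgebra
  haveI : IsScalarTower (ΓE E) (ΓE U) (ΓE V.left) := IsScalarTower.of_algebraMap_eq fun a => pushΓ_comm hf W u a
  haveI : IsScalarTower (ΓE E) (ΓE U) (Sec M U) := IsScalarTower.of_algebraMap_smul fun a m => rfl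
  letI := (ΓMap W.hom).hom.toAlgebra
  let l : ΓE W.left →ₐ[ΓE E] ΓE V.left :=
    { pushΓ hf (EtOver.pullbackFst (EtOver.bcMap hf W.hom) u) with commutes' := fun a => rfl }
  have hb : Function.Bijective (Algebra.TensorProduct.productMap l (IsScalarTower.toAlgHom (ΓE E) (ΓE U) (ΓE V.left))) :=
    bijective_of_isPullback (V := V.left) sq l (IsScalarTower.toAlgHom (ΓE E) (ΓE U) (ΓE V.left)) rfl rfl rfl rfl
  let φ : ΓE W.left ⊗[ΓE E] Sec M U →+ ΓE V.left ⊗[ΓE U] Sec M U := TensorProduct.liftAddHom
    { toFun := fun t =>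
        { toFun := fun m => l t ⊗ₜ[ΓE U] m
          map_zero' := TensorProduct.tmul_zero _ _
          map_add' := fun x y => TensorProduct.tmul_add _ x y }
      map_zero' := AddMonoidHom.ext fun m => by
        change l 0 ⊗ₜ[ΓE U] m = 0
        rw [map_zero, TensorProduct.zero_tmul]
      map_add' := fun x y => AddMonoidHom.ext fun m => by
        change l (x + y) ⊗ₜ[ΓE U] m = l x ⊗ₜ[ΓE U] m + l y ⊗ₜ[ΓE U] m
        rw [map_add, TensorProduct.add_tmul] }
    fun a t m => by
      change l (a • t) ⊗ₜ[ΓE U] m = l t ⊗ₜ[ΓE U] (pushΓ hf u a • m)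
      rw [map_smul, ← IsScalarTower.algebraMap_smul (ΓE U) a (l t)]
      exact ((TensorProduct.mk (ΓE U) (ΓE V.left) (Sec M U)).map_smul₂ _ (l t) m).trans
        ((TensorProduct.mk (ΓE U) (ΓE V.left) (Sec M U) (l t)).map_smul _ m).symm
  have hφ := bijective_twoStep l hb φ fun t m => rfl
  have e : pushBeta hf W u M = (bcMap M U V).comp φ := by
    ext x
    induction x using TensorProduct.induction_on with
    | zero => exact (map_zero _).trans (map_zero _).symm
    | tmul t m => rfl
    | add y z hy hz => exact (map_add _ _ _).trans ((congrArg₂ (· + ·) hy hz).trans (map_add _ _ _).symm)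
  rw [e]
  exact (isBC M U V hV).comp hφ

theorem injective_pushBeta [M.IsQuasicoherent] [IsAff E] [IsAff W.left] [CompactSpace U.obj.left.left] :
    Function.Injective (pushBeta hf W u M) := by
  letI := pushModule hf u M
  obtain ⟨ι, hι, Z, g, hZ, hc⟩ := exists_finite_affine_cover U
  haveI := hι
  haveI := hZ
  haveI : Module.Flat (ΓE E) (ΓE W.left) := flat_ΓMap W.hom
  letI := fun j => pushModule hf (g j ≫ u) M
  refine (injective_iff_map_eq_zero _).2 fun x hx => ?_
  refine flat_separated (fun j => pushLin hf u M (g j) (g j ≫ u) rfl)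
    (fun s hs => mapSec_ext M g hc s 0 fun j => (hs j).trans (map_zero _).symm) x fun j => ?_
  refine (bijective_pushBeta hf W (g j ≫ u) M).injective ?_
  rw [pushBeta_pushLin, hx, map_zero, map_zero]

/-- direct images along quasi-compact quasi-separated morphisms satisfy base change -/
theorem isBC_push_qcqs (hqc : IsQuasiCompactMor f) (hqs : IsQuasiSeparatedMor f) [M.IsQuasicoherent] (E : EtOver Y)
    [IsAff E] : IsBC ((pushModEt hf).obj M) E := by
  intro W hW
  haveI := hW
  let P := EtOver.bcObj hf E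
  haveI : CompactSpace P.obj.left.left := compactSpace_bcObj hf hqc E
  haveI : QuasiSeparatedSpace P.obj.left.left := quasiSeparatedSpace_bcObj hf hqs E
  obtain ⟨ι, hfin, Z, g, hZ, hcov⟩ := exists_finite_affine_cover P
  haveI := hfin
  haveI := hZ
  haveI : Module.Flat (ΓE E) (ΓE W.left) := flat_ΓMap W.hom
  let h₂ := fun j k => EtOver.pullbackFst (g j) (g k) ≫ g j
  letI := fun j => pushModule hf (g j) M
  letI := fun j k => pushModule hf (h₂ j k) M
  have hcovW := exists_range_pullbackFst (EtOver.bcMap hf W.hom) g hcov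
  refine ⟨(injective_iff_map_eq_zero _).2 fun x hx => ?_, fun m => ?_⟩
  · refine flat_separated (fun j => pushRes hf (g j) M)
      (fun s hs => mapSec_ext M g hcov s 0 fun j => (hs j).trans (map_zero _).symm) x fun j => ?_
    refine (bijective_pushBeta hf W (g j) M).injective ?_
    refine (pushBeta_pushRes hf W (g j) M x).trans ?_
    exact ((congrArg (mapSec M (EtOver.pullbackFst (EtOver.bcMap hf W.hom) (g j))) hx).trans
      (mapSec M (EtOver.pullbackFst (EtOver.bcMap hf W.hom) (g j))).map_zero).trans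
        (pushBeta hf W (g j) M).map_zero.symm
  · let m' : Sec M (EtOver.bcObj hf W.left) := m
    choose y hy using fun j => (bijective_pushBeta hf W (g j) M).surjective
      (mapSec M (EtOver.pullbackFst (EtOver.bcMap hf W.hom) (g j)) m')
    have hcond : ∀ j k, EtOver.pullbackSnd (g j) (g k) ≫ g k = h₂ j k := fun j k =>
      (EtOver.pullback_condition _ _).symm
    obtain ⟨x, hx⟩ := flat_glue (fun j => pushRes hf (g j) M)
      (fun j k => pushLin hf (g j) M (EtOver.pullbackFst (g j) (g k)) (h₂ j k) rfl)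
      (fun j k => pushLin hf (g k) M (EtOver.pullbackSnd (g j) (g k)) (h₂ j k) (hcond j k))
      (fun s hs => exists_mapSec_eq M g hcov s hs)
      (fun j k s => by
        change mapSec M _ (mapSec M (g j) s) = mapSec M _ (mapSec M (g k) s)
        rw [← mapSec_comp, ← mapSec_comp, EtOver.pullback_condition])
      y fun j k => by
        haveI := compactSpace_pullbackObj (g j) (g k)
        refine (injective_pushBeta hf W (h₂ j k) M) ?_
        rw [pushBeta_pushLin, pushBeta_pushLin, hy, hy, ← mapSec_comp, ← mapSec_comp, pushPb_fst, pushPb_fst]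
    refine ⟨x, mapSec_ext M _ hcovW (bcMap ((pushModEt hf).obj M) E W x) m' fun j => ?_⟩
    rw [← pushBeta_pushRes, hx j, hy j]

end Groth.Agent.AlgSpLib.QCohEt
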