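import Groth.Agent.AlgSpLib.SerreAffineFinal
import Groth.Agent.S10736

/-!
Vanishing of first cohomology of coherent modules suffices on Noetherian spaces.
-/

universe u

open CategoryTheory CategoryTheory.Limits AlgebraicGeometry Opposite TensorProduct
open AlgSp

noncomputable section

set_option linter.style.haveILetI false

namespace Groth.Agent.AlgSpLib.SerreAff

open Groth.Agent.AlgSpLib Groth.Agent.AlgSpLib.QCohEt

set_option backward.isDefEq.respectTransparency.types false
set_option backward.isDefEq.respectTransparency false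

/-- the underlying abelian sheaf functor preserves colimits -/
theorem preservesColimitsOfShape_toAbEt {S : Scheme.{u}} (X : Sp S) (T : Type (u + 1)) [SmallCategory T] :
    PreservesColimitsOfShape T (toAbEt X) where
  preservesColimit {K} := by
    let α := 𝟙 (OEtRing X).obj
    let sh := PresheafOfModules.sheafification.{u + 1} α
    let adj := PresheafOfModules.sheafificationAdjunction.{u + 1} α
    let G := SheafOfModules.forget.{u + 1} (OEtRing X) ⋙ PresheafOfModules.restrictScalars α
    haveI : sh.IsLeftAdjoint := adj.isLeftAdjoint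
    haveI : (presheafToSheaf (etTop X) AddCommGrpCat.{u + 1}).IsLeftAdjoint :=
      (sheafificationAdjunction (etTop X) AddCommGrpCat.{u + 1}).isLeftAdjoint
    haveI : PreservesColimit (K ⋙ G) (sh ⋙ toAbEt X) :=
      preservesColimit_of_natIso _ (PresheafOfModules.sheafificationCompToSheaf.{u + 1} α).symm
    have h : PreservesColimit ((K ⋙ G) ⋙ sh) (toAbEt X) :=
      preservesColimit_of_preserves_colimit_cocone
        (isColimitOfPreserves sh (colimit.isColimit (K ⋙ G)))
        (isColimitOfPreserves (sh ⋙ toAbEt X) (colimit.isColimit (K ⋙ G)))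
    exact preservesColimit_of_iso_diagram _
      ((Functor.associator K G sh) ≪≫ Functor.isoWhiskerLeft K (asIso adj.counit) ≪≫
        Functor.rightUnitor K)

variable {S : Scheme.{u}} [QuasiSeparatedSpace ↥S] (X : AlgSp.Space S) (hqc : IsQuasiCompactSp X.obj)
  (hqs : IsQuasiSeparatedSp X.obj)

/-- the finitely generated quasi-coherent submodules -/
structure FGSub (M : ModEt X.obj) : Type (u + 1) where
  /-- the submodule -/
  sub : QSub M
  /-- it is finitely generated -/
  fg : ∀ E hE, (sub.P E hE).FG

variable {X} in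
instance (M : ModEt X.obj) : Preorder (FGSub X M) where
  le a b := ∀ E hE, a.sub.P E hE ≤ b.sub.P E hE
  le_refl a E hE := le_rfl
  le_trans a b c h h' E hE := (h E hE).trans (h' E hE)

variable {X}

/-- the empty supremum -/
def botFG (M : ModEt X.obj) : FGSub X M where
  sub := QSub.iSup (fun e : Empty => e.elim)
  fg E hE := by
    show (⨆ e : Empty, (e.elim : QSub M).P E hE).FG
    rw [iSup_of_empty]
    exact Submodule.fg_bot

/-- the supremum of two -/
def supFG {M : ModEt X.obj} (a b : FGSub X M) : FGSub X M where
  sub := QSub.iSup (fun c : Bool => bif c then a.sub else b.sub)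
  fg E hE := by
    show (⨆ c : Bool, (bif c then a.sub else b.sub).P E hE).FG
    rw [iSup_bool_eq]
    exact (a.fg E hE).sup (b.fg E hE)

theorem le_supFG_left {M : ModEt X.obj} (a b : FGSub X M) : a ≤ supFG a b := fun E hE =>
  le_iSup (fun c : Bool => (bif c then a.sub else b.sub).P E hE) true

theorem le_supFG_right {M : ModEt X.obj} (a b : FGSub X M) : b ≤ supFG a b := fun E hE =>
  le_iSup (fun c : Bool => (bif c then a.sub else b.sub).P E hE) false

instance (M : ModEt X.obj) : Nonempty (FGSub X M) := ⟨botFG M⟩

instance (M : ModEt X.obj) : IsDirected (FGSub X M) (· ≤ ·) :=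
  ⟨fun a b => ⟨supFG a b, le_supFG_left a b, le_supFG_right a b⟩⟩

theorem exists_inclusion {M : ModEt X.obj} [M.IsQuasicoherent] {a b : FGSub X M} (h : a ≤ b) :
    ∃ l : a.sub.obj ⟶ b.sub.obj, l ≫ b.sub.incl = a.sub.incl :=
  exists_lift a.sub.incl b.sub.incl fun E hE => by
    rw [QSub.range_incl _ hE, QSub.range_incl _ hE]
    exact h E hE

/-- the inclusion between two submodules -/
def inclMap {M : ModEt X.obj} [M.IsQuasicoherent] {a b : FGSub X M} (h : a ≤ b) : a.sub.obj ⟶ b.sub.obj :=
  (exists_inclusion h).choose

theorem inclMap_incl {M : ModEt X.obj} [M.IsQuasicoherent] {a b : FGSub X M} (h : a ≤ b) :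
    inclMap h ≫ b.sub.incl = a.sub.incl := (exists_inclusion h).choose_spec

/-- the system of finitely generated submodules -/
def fgDiagram (M : ModEt X.obj) [M.IsQuasicoherent] : FGSub X M ⥤ ModEt X.obj where
  obj a := a.sub.obj
  map h := inclMap (leOfHom h)
  map_id a := (cancel_mono a.sub.incl).1 ((inclMap_incl (le_refl a)).trans (Category.id_comp _).symm)
  map_comp {a b c} h h' := (cancel_mono c.sub.incl).1 (by
    rw [Category.assoc, inclMap_incl, inclMap_incl, inclMap_incl])

/-- its cocone -/
def fgCocone (M : ModEt X.obj) [M.IsQuasicoherent] : Cocone (fgDiagram M) where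
  pt := M
  ι := { app := fun a => a.sub.incl
         naturality := fun a b h => (inclMap_incl (leOfHom h)).trans (Category.comp_id _).symm }

include hqc hqs in
theorem nonempty_isColimit_fgCocone (M : ModEt X.obj) [M.IsQuasicoherent] : Nonempty (IsColimit (fgCocone M)) :=
  nonempty_isColimit_of_exhaust (fgCocone M) (fun a => QSub.mono_incl a.sub) fun E hE m => by
    obtain ⟨Q, hQ, hm⟩ := exists_fg_containing (X := X) hqc hqs M (fun _ : PUnit.{1} => E) (fun _ => hE) (fun _ => m)
    obtain ⟨z, hz⟩ : m ∈ Set.range (secMap Q.incl E) := by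
      rw [Q.range_incl hE]
      exact hm ⟨⟩
    exact ⟨⟨Q, hQ⟩, z, hz⟩

include hqc hqs in
/-- vanishing for coherent modules gives vanishing for quasi-coherent modules -/
theorem h1Vanish_of_coherent (hN : IsLocNoethSp X.obj)
    (h : ∀ M : ModEt X.obj, M.IsFinitePresentation → Subsingleton (HModEt X.obj M 1)) : H1Vanish X.obj := by
  intro M hM
  haveI := hM
  obtain ⟨hc⟩ := nonempty_isColimit_fgCocone hqc hqs M
  haveI := preservesColimitsOfShape_toAbEt X.obj (FGSub X M)
  haveI := Groth.Agent.S10736.result X hqc hqs (FGSub X M) 1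
  let F := toAbEt X.obj ⋙ HEtF X.obj 1
  haveI : PreservesColimitsOfShape (FGSub X M) F := inferInstanceAs (PreservesColimitsOfShape _ (_ ⋙ _))
  have hF := isColimitOfPreserves F hc
  haveI hsub : ∀ a : FGSub X M, Subsingleton ((fgDiagram M ⋙ F).obj a : Type (u + 1)) := fun a =>
    haveI := a.sub.isQuasicoherent_obj
    haveI := a.sub.isFiniteType_obj a.fg
    h a.sub.obj (isFinitePresentation_of_finiteType a.sub.obj hN)
  have h0 : IsZero (F.mapCocone (fgCocone M)).pt := by
    refine (IsZero.iff_id_eq_zero _).2 (hF.hom_ext fun a => ?_)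
    refine AddCommGrpCat.hom_ext (AddMonoidHom.ext fun z => ?_)
    rw [@Subsingleton.elim _ (hsub a) z 0, map_zero, map_zero]
  exact AddCommGrpCat.subsingleton_of_isZero h0

end Groth.Agent.AlgSpLib.SerreAff
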