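import Groth.Agent.AlgSpLib.SerreChevVanish
import Groth.Agent.AlgSpLib.SerreAffineNoeth
import Groth.Agent.AlgSpLib.CutOut

/-!
First cohomology of quasi-coherent modules supported on affine closed subspaces, with no Noetherian hypothesis.
-/

universe u

open CategoryTheory CategoryTheory.Limits AlgebraicGeometry Opposite TensorProduct
open AlgSp

noncomputable section

set_option linter.style.haveILetI false
set_option linter.unusedSectionVars false

namespace Groth.Agent.AlgSpLib.ChevGen

open Groth.Agent.AlgSpLib Groth.Agent.AlgSpLib.QCohEt Groth.Agent.AlgSpLib.SerreAff Groth.Agent.AlgSpLib.SerreChev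

set_option backward.isDefEq.respectTransparency.types false
set_option backward.isDefEq.respectTransparency false

section ann

variable {S : Scheme.{u}} {X : Sp S} (N : ModEt X) [N.IsQuasicoherent]

/-- the annihilator restricts into the annihilator -/
theorem map_ann_le {E W : EtOver X} [IsAff E] [IsAff W] (g : W ⟶ E) :
    (Module.annihilator (ΓE E) (Sec N E)).map (ΓMap g).hom ≤ Module.annihilator (ΓE W) (Sec N W) := by
  rw [Ideal.map_le_iff_le_comap]
  intro r hr
  rw [Ideal.mem_comap, Module.mem_annihilator]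
  intro z
  let V : Over E := Over.mk g
  haveI : IsAff V.left := (inferInstance : IsAff W)
  obtain ⟨y, rfl⟩ := (isBC N E V inferInstance).surjective z
  induction y using TensorProduct.induction_on with
  | zero => rw [map_zero, smul_zero]
  | tmul a m =>
    rw [bcMap_tmul]
    refine (smul_comm ((ΓMap g).hom r) (show ΓE W from a) (mapSec N g m)).trans ?_
    rw [← mapSec_smul, Module.mem_annihilator.1 hr m, map_zero, smul_zero]
  | add x y hx hy => rw [map_add, smul_add, hx, hy, add_zero]

/-- the annihilator of a finite module commutes with etale localisation -/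
theorem ann_le_map {E W : EtOver X} [IsAff E] [IsAff W] (g : W ⟶ E) [Module.Finite (ΓE E) (Sec N E)] :
    Module.annihilator (ΓE W) (Sec N W) ≤ (Module.annihilator (ΓE E) (Sec N E)).map (ΓMap g).hom := by
  classical
  intro r hr
  obtain ⟨t, ht⟩ := (Module.Finite.fg_top : (⊤ : Submodule (ΓE E) (Sec N E)).FG)
  let φ : ΓE E →ₗ[ΓE E] (↥(t : Set (Sec N E)) → Sec N E) :=
    LinearMap.pi fun x => LinearMap.toSpanSingleton (ΓE E) (Sec N E) x.1
  have hexact : Function.Exact (LinearMap.ker φ).subtype φ := LinearMap.exact_subtype_ker_map φ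
  let V : Over E := Over.mk g
  haveI : IsAff V.left := (inferInstance : IsAff W)
  haveI : Module.Flat (ΓE E) (ΓE V.left) := flat_ΓMap g
  have hzero : LinearMap.lTensor (ΓE V.left) φ ((show ΓE V.left from r) ⊗ₜ (1 : ΓE E)) = 0 := by
    refine (TensorProduct.piRight (ΓE E) (ΓE E) (ΓE V.left)
      (fun _ : ↥(t : Set (Sec N E)) => (Sec N E : Type (u + 1)))).injective ?_
    rw [map_zero, LinearMap.lTensor_tmul]
    funext x
    refine (isBC N E V inferInstance).injective ?_
    rw [Pi.zero_apply, map_zero, TensorProduct.piRight_apply, TensorProduct.piRightHom_tmul, bcMap_tmul]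
    exact Module.mem_annihilator.1 hr _
  obtain ⟨w, hw⟩ := (Module.Flat.lTensor_exact (ΓE V.left) hexact _).1 hzero
  let ε := (TensorProduct.rid (ΓE E) (ΓE V.left)).toLinearMap
  have h1 : ε (LinearMap.lTensor (ΓE V.left) (LinearMap.ker φ).subtype w) = r := by
    rw [hw]
    exact (TensorProduct.rid_tmul _ _).trans (one_smul _ _)
  rw [← h1]
  clear h1 hw hzero hr
  induction w using TensorProduct.induction_on with
  | zero => rw [map_zero, map_zero]; exact zero_mem _
  | tmul a m =>
    rw [LinearMap.lTensor_tmul]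
    refine (TensorProduct.rid_tmul (R := ΓE E) a (m : ΓE E)).symm ▸ ?_
    refine Ideal.mul_mem_right _ _ (Ideal.mem_map_of_mem _ (Module.mem_annihilator.2 fun x => ?_))
    have hx : x ∈ Submodule.span (ΓE E) (t : Set (Sec N E)) := by rw [ht]; trivial
    induction hx using Submodule.span_induction with
    | mem y hy => exact congrFun m.2 ⟨y, hy⟩
    | zero => rw [smul_zero]
    | add a b _ _ ha hb => rw [smul_add, ha, hb, add_zero]
    | smul c a _ ha => rw [smul_comm, ha, smul_zero]
  | add x y hx hy => rw [map_add, map_add]; exact add_mem hx hy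

/-- the annihilator as a family of ideals -/
def annIdeal : IdealEt X where
  ideal E _ := (Module.annihilator (ΓE E) (Sec N E)).comap
    (ULift.ringEquiv.symm.toRingHom : Γ(E.obj.left.left, ⊤) →+* ΓE E)
  map_le {E W} g hE hW := by
    haveI : IsAff E := hE
    haveI : IsAff W := hW
    rw [← Ideal.map_le_iff_le_comap]
    change upIdeal W (Ideal.map _ _) ≤ _
    rw [← upIdeal_map, upIdeal]
    refine le_trans (Ideal.map_mono Ideal.map_comap_le) ?_
    exact map_ann_le N g

theorem upIdeal_annIdeal (E : EtOver X) [IsAff E] :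
    upIdeal E ((annIdeal N).ideal E inferInstance) = Module.annihilator (ΓE E) (Sec N E) :=
  Ideal.map_comap_of_surjective _ ULift.ringEquiv.symm.surjective _

theorem isQCoh_annIdeal (hfin : ∀ E, IsAff E → Module.Finite (ΓE E) (Sec N E)) : (annIdeal N).IsQCoh := by
  intro E W g hE hW
  haveI : IsAff E := hE
  haveI : IsAff W := hW
  haveI := hfin E hE
  intro a ha
  have h1 : (ULift.ringEquiv.symm.toRingHom a : ΓE W) ∈
      upIdeal W ((Ideal.map g.hom.left.left.appTop.hom) ((annIdeal N).ideal E hE)) := by
    rw [← upIdeal_map, upIdeal_annIdeal]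
    exact ann_le_map N g ha
  obtain ⟨b, hb, hba⟩ := (Ideal.mem_map_iff_of_surjective _ ULift.ringEquiv.symm.surjective).1 h1
  exact ULift.ringEquiv.symm.injective hba ▸ hb

/-- points where the annihilator is in the prime lie in the support -/
theorem inSupp_of_ann_le {E : EtOver X} [IsAff E] [Module.Finite (ΓE E) (Sec N E)] {e : E.obj.left.left}
    (h : Module.annihilator (ΓE E) (Sec N E) ≤ primeE E e) : InSupp N E e := by
  classical
  by_contra hns
  obtain ⟨t, ht⟩ := (Module.Finite.fg_top : (⊤ : Submodule (ΓE E) (Sec N E)).FG)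
  choose r hr hrp using fun s : Sec N E => SetLike.not_le_iff_exists.1 fun h => hns ⟨s, h⟩
  have hprod : (∏ s ∈ t, r s) ∈ Module.annihilator (ΓE E) (Sec N E) := Module.mem_annihilator.2 fun x => by
    have hx : x ∈ Submodule.span (ΓE E) (t : Set (Sec N E)) := by rw [ht]; trivial
    induction hx using Submodule.span_induction with
    | mem y hy => rw [← Finset.prod_erase_mul t r hy, mul_smul, CAlgH3.mem_annEl.1 (hr y), smul_zero]
    | zero => rw [smul_zero]
    | add a b _ _ ha hb => rw [smul_add, ha, hb, add_zero]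
    | smul c a _ ha => rw [smul_comm, ha, smul_zero]
  obtain ⟨s, -, hs'⟩ := ((inferInstance : (primeE E e).IsPrime).prod_mem_iff).1 (h hprod)
  exact hrp s hs'

end ann

variable {S : Scheme.{u}} [QuasiSeparatedSpace ↥S] {X : AlgSp.Space S}

/-- every proper closed subspace is an affine scheme -/
def SubAffine (X : AlgSp.Space S) : Prop :=
  ∀ (W : Sp S) (i : W ⟶ X.obj), IsAlgSpace W → RepWith @IsClosedImmersion i → Set.range (Points.map i) ≠ Set.univ →
    ∃ T : Over S, IsAffine T.left ∧ Nonempty ((yon S).obj T ≅ W)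

/-- finite modules supported on a proper closed set have no first cohomology -/
theorem v1_of_finite_suppIn (hqc : IsQuasiCompactSp X.obj) (hsub : SubAffine X) (N : ModEt X.obj) [N.IsQuasicoherent]
    (hfin : ∀ E, IsAff E → Module.Finite (ΓE E) (Sec N E))
    {Z : Set (Points X.obj)} (hZ : Z ≠ Set.univ) (hsupp : SuppIn N Z) : V1 N := by
  obtain ⟨W, i, hW, hi⟩ := exists_isCutOutBy X.property (annIdeal N) (isQCoh_annIdeal N hfin)
  haveI := compactSpace_points_of_isQuasiCompactSp hqc
  obtain ⟨A, a, hA, hae, has⟩ := exists_affine_chart X.property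
  let E₀ : EtOver X.obj := EtOver.mk a hae
  haveI : IsAff E₀ := hA
  haveI := hfin E₀ inferInstance
  have hrange : Set.range (Points.map i) ⊆ Z := fun x hx => by
    obtain ⟨e, rfl⟩ := surjective_ofPt E₀.obj.hom has x
    refine hsupp E₀ inferInstance e (inSupp_of_ann_le N ?_)
    have he : e ∈ E₀.obj.left.left.zeroLocus (U := ⊤)
        ((annIdeal N).ideal E₀ inferInstance : Set Γ(E₀.obj.left.left, ⊤)) := by
      rw [zeroLocus_isCutOutBy hi]
      exact hx
    rw [← upIdeal_annIdeal N E₀, upIdeal, Ideal.map_le_iff_le_comap]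
    intro b hb
    exact (upΓ_mem_primeE E₀ b e).2 ((mem_zeroLocus_iff_le_primeAtPt _ e).1 he hb)
  obtain ⟨T, hT, ⟨θ⟩⟩ := hsub W i hW hi.1 fun h => hZ (Set.univ_subset_iff.1 (h ▸ hrange))
  haveI := hT
  have hi' : RepWith @IsClosedImmersion (θ.hom ≫ i) := RepWith.comp (repWith_of_isIso @IsClosedImmersion θ.hom) hi.1
  have hle : idealOfRep hi'.1 ≤ annIdeal N :=
    (le_iff_factors X.property (i := θ.hom ≫ i) ⟨hi', rfl⟩ hi).2 ⟨θ.inv, θ.inv_hom_id_assoc i⟩
  have hkill : Kills hi' N := fun E hE r hr m => by
    haveI := hE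
    refine Module.mem_annihilator.1 ?_ m
    rw [← upIdeal_annIdeal N E]
    have h2 : r.down ∈ (idealOfRep hi'.1).ideal E hE :=
      (mem_idealOfRep_iff hi'.1 E hE r.down).2 (congrArg ULift.down hr)
    exact Ideal.mem_map_of_mem (upΓ E) (hle E hE h2)
  obtain ⟨G, ⟨e⟩⟩ := exists_iso_push hi' X.property N hkill (IsAlgSpace.yon_obj T)
  haveI : ((pushModEt hi'.1).obj G).IsQuasicoherent :=
    (SheafOfModules.isQuasicoherent (OEtRing X.obj)).prop_of_iso e.symm
      (show SheafOfModules.isQuasicoherent (OEtRing X.obj) N from inferInstanceAs N.IsQuasicoherent)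
  haveI := isQuasicoherent_of_push hi' X.property G
  exact v1_iso e (v1_push X.property hi'.1 (isAffineMor_closed hi') G)

variable (hqc : IsQuasiCompactSp X.obj) (hqs : IsQuasiSeparatedSp X.obj)

include hqc hqs in
/-- vanishing for the finitely generated submodules gives vanishing -/
theorem v1_of_fgSub (M : ModEt X.obj) [M.IsQuasicoherent] (h : ∀ a : FGSub X M, V1 a.sub.obj) : V1 M := by
  obtain ⟨hc⟩ := nonempty_isColimit_fgCocone hqc hqs M
  haveI := preservesColimitsOfShape_toAbEt X.obj (FGSub X M)
  haveI := Groth.Agent.S10736.result X hqc hqs (FGSub X M) 1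
  let F := toAbEt X.obj ⋙ HEtF X.obj 1
  haveI : PreservesColimitsOfShape (FGSub X M) F := inferInstanceAs (PreservesColimitsOfShape _ (_ ⋙ _))
  have hF := isColimitOfPreserves F hc
  haveI hsub : ∀ a : FGSub X M, Subsingleton ((fgDiagram M ⋙ F).obj a : Type (u + 1)) := h
  have h0 : IsZero (F.mapCocone (fgCocone M)).pt := by
    refine (IsZero.iff_id_eq_zero _).2 (hF.hom_ext fun a => ?_)
    refine AddCommGrpCat.hom_ext (AddMonoidHom.ext fun z => ?_)
    rw [@Subsingleton.elim _ (hsub a) z 0, map_zero, map_zero]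
  exact AddCommGrpCat.subsingleton_of_isZero h0

include hqc hqs in
/-- modules supported on a proper closed set have no first cohomology -/
theorem v1_of_suppIn (hsub : SubAffine X) (N : ModEt X.obj) [N.IsQuasicoherent]
    {Z : Set (Points X.obj)} (hZ : Z ≠ Set.univ) (hsupp : SuppIn N Z) : V1 N :=
  v1_of_fgSub hqc hqs N fun a =>
    haveI := a.sub.isQuasicoherent_obj
    v1_of_finite_suppIn hqc hsub a.sub.obj (fun E hE => haveI := hE; a.sub.finite_obj E (a.fg E hE)) hZ
      (hsupp.of_mono a.sub.incl)

end Groth.Agent.AlgSpLib.ChevGen
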