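import Groth.Agent.AlgSpLib.SerreChevStep
import Groth.Agent.AlgSpLib.ChevGenVanish

/-!
Chevalley's argument for quasi-coherent modules on an integral space, with no Noetherian hypothesis.
-/

universe u

open CategoryTheory CategoryTheory.Limits AlgebraicGeometry Opposite TensorProduct
open AlgSp

noncomputable section

set_option linter.style.haveILetI false
set_option linter.unusedSectionVars false

namespace Groth.Agent.AlgSpLib.ChevGen

open Groth.Agent.AlgSpLib Groth.Agent.AlgSpLib.QCohEt Groth.Agent.AlgSpLib.SerreAff Groth.Agent.AlgSpLib.SerreChev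

set_option backward.isDefEq.respectTransparency.types false
set_option backward.isDefEq.respectTransparency false

variable {S : Scheme.{u}} [QuasiSeparatedSpace ↥S] {X : AlgSp.Space S} {C : Over S} [hC : IsAffine C.left]
  {k : (yon S).obj C ⟶ X.obj} (hk : RepWith @IsOpenImmersion k) (hqs : IsQuasiSeparatedSp X.obj)
  {E₀ : EtOver X.obj} [hE₀ : IsAff E₀] (hs : RepWith @Surjective E₀.obj.hom)
  {T : Over S} [hTa : IsAffine T.left] [hTi : IsIntegral T.left] {f : (yon S).obj T ⟶ X.obj} (hf : Representable f)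
  (hfin : IsFiniteMor f) (hη : Points.ofPt f (genericPoint T.left) ∈ OU (k := k))
  (hmin : ∀ u : C.left, Points.ofPt k u = Points.ofPt f (genericPoint T.left) → primeE (EU hk) u = ⊥)
  [hQ : IsDomain (ΓE (EU hk))]
  (hsmall : ∀ (N : ModEt X.obj), N.IsQuasicoherent → ∀ Z, IsClosed Z → Z ≠ Set.univ → SuppIn N Z → V1 N)

include hfin in
theorem isQuasicoherent_AU' : (AU hf).IsQuasicoherent :=
  isQuasicoherent_push hf (isAffineMor_of_fin hfin) _

omit hQ in
include hqs in
/-- the extension of a graph from the open -/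
theorem exists_graph (A P : ModEt X.obj) [A.IsQuasicoherent] [P.IsQuasicoherent] {n : ℕ}
    (a : Fin n → Sec A (EU hk)) (e : Fin n → Sec P (EU hk)) :
    ∃ (G : ModEt X.obj) (p1 : G ⟶ A) (p2 : G ⟶ P), G.IsQuasicoherent ∧
      (∀ i, ∃ y, secMap p1 (EU hk) y = a i ∧ secMap p2 (EU hk) y = e i) ∧
      (∀ (E : EtOver X.obj) (_ : IsAff E) (y : Sec G E), secMap p1 E y = 0 → secMap p2 E y = 0 → y = 0) ∧
      ∀ (E : EtOver X.obj) (_ : IsAff E) (y : Sec G E) (W : EtOver X.obj) (_ : IsAff W)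
        (cW : Over' (OU (k := k)) W) (q : W ⟶ E), ∃ c : Fin n → ΓE W,
          mapSec A q (secMap p1 E y) = ∑ i, c i • mapSec A (toU hk cW) (a i) ∧
          mapSec P q (secMap p2 E y) = ∑ i, c i • mapSec P (toU hk cW) (e i) := by
  haveI := isQuasicoherent_biprod A P
  let v : Fin n → Sec (A ⊞ P) (EU hk) := fun i =>
    secMap (biprod.inl : A ⟶ A ⊞ P) (EU hk) (a i) + secMap (biprod.inr : P ⟶ A ⊞ P) (EU hk) (e i)
  have hfst : ∀ i, secMap (biprod.fst : A ⊞ P ⟶ A) (EU hk) (v i) = a i := fun i => by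
    rw [map_add, ← secMap_comp, ← secMap_comp, secMap_eq biprod.inl_fst, secMap_eq biprod.inr_fst, secMap_zero_hom,
      add_zero]
    rfl
  have hsnd : ∀ i, secMap (biprod.snd : A ⊞ P ⟶ P) (EU hk) (v i) = e i := fun i => by
    rw [map_add, ← secMap_comp, ← secMap_comp, secMap_eq biprod.inl_snd, secMap_eq biprod.inr_snd, secMap_zero_hom,
      zero_add]
    rfl
  let G := extN hk hqs (Submodule.span (ΓE (EU hk)) (Set.range v))
  have hG := G.isQuasicoherent_obj
  refine ⟨G.obj, G.incl ≫ biprod.fst, G.incl ≫ biprod.snd, hG, fun i => ?_, fun E hE y h1 h2 => ?_,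
    fun E hE y W hW cW q => ?_⟩
  · obtain ⟨y, hy⟩ : v i ∈ Set.range (secMap G.incl (EU hk)) := by
      rw [G.range_incl (inferInstance : IsAff (EU hk)), extN_EU]
      exact Submodule.subset_span ⟨i, rfl⟩
    exact ⟨y, by rw [secMap_comp, hy, hfst], by rw [secMap_comp, hy, hsnd]⟩
  · refine G.injective_incl E ?_
    rw [secMap_comp] at h1 h2
    rw [map_zero, ← sum_biprod (A := A) (B := P) E (secMap G.incl E y), h1, h2, map_zero, map_zero, add_zero]
  · have h := (mem_extN hk hqs _ hE _).1 ((G.range_incl hE).subset ⟨y, rfl⟩) W hW cW q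
    rw [span_image_span, ← Set.range_comp, Submodule.mem_span_range_iff_exists_fun] at h
    obtain ⟨c, hc⟩ := h
    have e1 := congrArg (secMap (biprod.fst : A ⊞ P ⟶ A) W) hc.symm
    have e2 := congrArg (secMap (biprod.snd : A ⊞ P ⟶ P) W) hc.symm
    rw [← mapSec_secMap, ← secMap_comp] at e1 e2
    refine ⟨c, e1.trans ?_, e2.trans ?_⟩
    · rw [map_sum]
      refine Finset.sum_congr rfl fun i _ => ?_
      rw [map_smul, Function.comp_apply, ← mapSec_secMap, hfst]
    · rw [map_sum]
      refine Finset.sum_congr rfl fun i _ => ?_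
      rw [map_smul, Function.comp_apply, ← mapSec_secMap, hsnd]

/-- a power of a function vanishing on the support maps into the image -/
theorem exists_pow_killed (g : ΓE (EU hk)) {G : ModEt X.obj} (p1 : G ⟶ AU hf)
    (hC1 : SuppIn (cokernel p1) (Zc hk g)) [Module.Finite (ΓE E₀) (Sec (cokernel p1) E₀)] [IsAff (EtOver.bcObj hf E₀)]
    (b : Γ(T.left, ⊤)) (hbK : ∀ t ∈ T.left.basicOpen b, Points.ofPt f t ∉ Zc hk g) :
    ∃ N : ℕ, ∀ x : ΓE (EtOver.bcObj hf E₀),
      secMap (cokernel.π p1) E₀ (asA hf E₀ (x * bval hf (b ^ N) E₀)) = 0 := by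
  classical
  let ψ₀ := bcΓ hf E₀
  let I : Ideal (ΓE E₀) := Module.annihilator (ΓE E₀) (Sec (cokernel p1) E₀)
  let J : Ideal (ΓE (EtOver.bcObj hf E₀)) :=
    { carrier := {w | ∀ x : ΓE (EtOver.bcObj hf E₀), secMap (cokernel.π p1) E₀ (asA hf E₀ (w * x)) = 0}
      add_mem' := fun {w w'} hw hw' x => by rw [add_mul, map_add, map_add, hw x, hw' x, add_zero]
      zero_mem' := fun x => by rw [zero_mul, map_zero, map_zero]
      smul_mem' := fun c w hw x => by
        rw [smul_eq_mul, mul_comm c w, mul_assoc]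
        exact hw (c * x) }
  have hIJ : I.map ψ₀ ≤ J := Ideal.map_le_iff_le_comap.2 fun r hr x => by
    show secMap (cokernel.π p1) E₀ (asA hf E₀ (ψ₀ r * x)) = 0
    rw [← smul_asA, map_smul]
    exact Module.mem_annihilator.1 hr _
  suffices hrad : bval hf b E₀ ∈ (I.map ψ₀).radical by
    obtain ⟨N, hN'⟩ := hrad
    exact ⟨N, fun x => by rw [mul_comm, bval_pow]; exact hIJ hN' x⟩
  rw [Ideal.radical_eq_sInf, Ideal.mem_sInf]
  rintro q ⟨hq, hqp⟩
  obtain ⟨e, rfl⟩ := exists_primeE_eq (E := EtOver.bcObj hf E₀) q hqp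
  let e0 : E₀.obj.left.left := (EtOver.bcπ hf E₀).left e
  have hI : I ≤ primeE E₀ e0 := fun r hr => by
    by_contra hr'
    have h3 : ψ₀ r ∈ primeE (EtOver.bcObj hf E₀) e := hq (Ideal.mem_map_of_mem _ hr)
    have h4 : e ∈ (EtOver.bcObj hf E₀).obj.left.left.basicOpen (ψ₀ r).down := by
      have h5 : (EtOver.bcπ hf E₀).left ⁻¹ᵁ E₀.obj.left.left.basicOpen r.down =
          (EtOver.bcObj hf E₀).obj.left.left.basicOpen (ψ₀ r).down :=
        Scheme.preimage_basicOpen_top (EtOver.bcπ hf E₀).left r.down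
      rw [← h5]
      exact (mem_basicOpen_iff E₀ r e0).2 hr'
    exact (mem_basicOpen_iff _ (ψ₀ r) e).1 h4 h3
  have hsupp : InSupp (cokernel p1) E₀ e0 := by
    by_contra hns
    obtain ⟨t, ht⟩ := (Module.Finite.fg_top : (⊤ : Submodule (ΓE E₀) (Sec (cokernel p1) E₀)).FG)
    choose r hr hrp using fun s : Sec (cokernel p1) E₀ => SetLike.not_le_iff_exists.1 fun h => hns ⟨s, h⟩
    have hprod : (∏ s ∈ t, r s) ∈ I := Module.mem_annihilator.2 fun x => by
      have hx : x ∈ Submodule.span (ΓE E₀) (t : Set (Sec (cokernel p1) E₀)) := by rw [ht]; trivial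
      induction hx using Submodule.span_induction with
      | mem y hy => rw [← Finset.prod_erase_mul t r hy, mul_smul, CAlgH3.mem_annEl.1 (hr y), smul_zero]
      | zero => rw [smul_zero]
      | add a b _ _ ha hb => rw [smul_add, ha, hb, add_zero]
      | smul c a _ ha => rw [smul_comm, ha, smul_zero]
    obtain ⟨s, -, hs'⟩ := ((inferInstance : (primeE E₀ e0).IsPrime).prod_mem_iff).1 (hI hprod)
    exact hrp s hs'
  have hZ : Points.ofPt f ((toT0 (EtOver.bcObj hf E₀)).hom.left.left e) ∈ Zc hk g := by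
    rw [ofPt_bc hf E₀ e]
    exact hC1 E₀ inferInstance e0 hsupp
  by_contra hne
  have ht : (toT0 (EtOver.bcObj hf E₀)).hom.left.left e ∈ T.left.basicOpen b := by
    refine (mem_basicOpen_iff (T0 T) (ULift.up b) _).2 fun h' => hne ?_
    show (ΓMap (toT0 (EtOver.bcObj hf E₀))).hom (ULift.up b : ΓE (T0 T)) ∈ primeE _ e
    rw [← Ideal.mem_comap, primeE_comap]
    exact h'
  exact hbK _ ht hZ

include hk hqs hs hf hfin hη hmin hsmall in
/-- the rank one torsion free case -/
theorem v1_rankOne (D : ModEt X.obj) [D.IsQuasicoherent] (m : Sec D (EU hk))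
    (hgen : ∀ y : Sec D (EU hk), ∃ c : ΓE (EU hk), c • m = y)
    (hann : ∀ c : ΓE (EU hk), c • m = 0 → c = 0)
    (htf : ∀ (E : EtOver X.obj) (_ : IsAff E) (x : Sec D E),
      (∀ (W : EtOver X.obj) (_ : IsAff W) (_ : Over' (OU (k := k)) W) (g : W ⟶ E), mapSec D g x = 0) → x = 0) :
    V1 D := by
  classical
  have haff := isAffineMor_of_fin hfin
  have hOo : IsOpen (OU (k := k)) := by
    rw [OU, Induct.range_map_yon]
    exact (isOpenMap_ofPt k (EU hk).property).isOpen_range
  haveI := isQuasicoherent_AU' hf hfin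
  obtain ⟨n, a, g, hn, hg, hindA, hspan⟩ := exists_fibre_basis hk hf hfin hη hmin
  let em : Fin n → Sec (vPow D n) (EU hk) := fun i => secMap (vι D i) (EU hk) m
  have hindP : ∀ c : Fin n → ΓE (EU hk), ∑ i, c i • em i = 0 → c = 0 := fun c hc => funext fun j =>
    hann _ ((vπ_sum D (EU hk) c m j).symm.trans ((congrArg _ hc).trans (map_zero _)))
  obtain ⟨G, p1, p2, hG, hlift, hjoint, hmem⟩ :=
    exists_graph hk hqs (AU hf) (vPow D n) (fun i => asA hf (EU hk) (a i)) em
  haveI := hG
  choose vh hvh1 hvh2 using hlift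
  have hp1 : ∀ E, IsAff E → Function.Injective (secMap p1 E) := fun E hE =>
    (injective_iff_map_eq_zero _).2 fun y hy => by
      haveI := hE
      refine hjoint E hE y hy ?_
      rw [← vPow_total D E (secMap p2 E y)]
      refine Finset.sum_eq_zero fun j _ => ?_
      rw [htf E hE (secMap (vπ D j) E (secMap p2 E y)) fun W hW cW q => ?_, map_zero]
      haveI := hW
      obtain ⟨c, hc1, hc2⟩ := hmem E hE y W hW cW q
      rw [hy, map_zero] at hc1
      have hc0 := indep_restrict hk _ hindA (toU hk cW) c hc1.symm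
      rw [mapSec_secMap, hc2, hc0]
      simp only [Pi.zero_apply, zero_smul, Finset.sum_const_zero, map_zero]
  haveI : Mono p1 := mono_of_injective p1 hp1
  haveI : (cokernel p1).IsQuasicoherent := isQuasicoherent_cokernel p1
  haveI : Module.Finite (ΓE E₀) (Sec (cokernel p1) E₀) :=
    haveI : Module.Finite (ΓE E₀) (Sec (AU hf) E₀) := finite_bcΓ hf hfin E₀
    Module.Finite.of_surjective (secMap (cokernel.π p1) E₀) (surjective_cokernel_π p1 E₀)
  have hC1 : SuppIn (cokernel p1) (Zc hk g) := suppIn_Zc hk g fun x => by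
    obtain ⟨z, rfl⟩ := surjective_cokernel_π p1 (EU hk) x
    obtain ⟨c, hc⟩ := hspan z
    have e : g • z = secMap p1 (EU hk) (∑ i, c i • vh i) := by
      rw [map_sum, ← hc]
      exact Finset.sum_congr rfl fun i _ => by rw [map_smul, hvh1]
    rw [← map_smul, e]
    exact secMap_comp_zero (cokernel.condition p1) (EU hk) _
  have hηK : Points.ofPt f (genericPoint T.left) ∉ Zc hk g := by
    obtain ⟨u, hu⟩ : Points.ofPt f (genericPoint T.left) ∈ Set.range (Points.ofPt k) := by
      rw [← Induct.range_map_yon]; exact hη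
    refine fun h => h ⟨u, ?_, hu⟩
    show g ∉ primeE (EU hk) u
    rw [hmin u hu, Ideal.mem_bot]
    exact hg
  obtain ⟨b, hbK, hbη⟩ := (isAffineOpen_top T.left).exists_basicOpen_le
    (V := ⟨(Points.ofPt f ⁻¹' Zc hk g)ᶜ, ((isClosed_Zc hk g).preimage (Points.continuous_ofPt f)).isOpen_compl⟩)
    ⟨genericPoint T.left, hηK⟩ trivial
  have hb : b ≠ 0 := fun h => by
    rw [h, Scheme.basicOpen_zero] at hbη
    exact hbη
  haveI : IsAff (EtOver.bcObj hf E₀) := isAff_bcObj hf haff E₀
  obtain ⟨N, hN'⟩ := exists_pow_killed hk hf g p1 hC1 (E₀ := E₀) b fun t ht => hbK ht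
  have hbN : b ^ N ≠ 0 := pow_ne_zero _ hb
  have hν0 : mulA hf (b ^ N) ≫ cokernel.π p1 = 0 := eq_zero_of_chart X.property _ hs fun x => by
    obtain ⟨x, rfl⟩ := (asA hf E₀).surjective x
    rw [secMap_comp, secMap_mulA]
    exact hN' x
  let l : AU hf ⟶ G := Abelian.monoLift p1 _ hν0
  have hl : l ≫ p1 = mulA hf (b ^ N) := Abelian.monoLift_comp p1 _ hν0
  let ψ : AU hf ⟶ vPow D n := l ≫ p2
  haveI : Mono ψ := mono_of_injective ψ fun E hE => (injective_iff_map_eq_zero _).2 fun x hx => by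
    haveI := hE
    obtain ⟨x, rfl⟩ := (asA hf E).surjective x
    refine (AddEquiv.map_eq_zero_iff _).2 (eq_zero_of_mul hf hη hE (b ^ N) hbN x (fun W hW cW q => ?_) hOo)
    haveI := hW
    obtain ⟨c, hc1, hc2⟩ := hmem E hE (secMap l E (asA hf E x)) W hW cW q
    rw [← secMap_comp l p2, hx, map_zero] at hc2
    have hc0 := indep_restrict hk _ hindP (toU hk cW) c hc2.symm
    rw [← secMap_comp l p1, secMap_eq hl, secMap_mulA, mapSec_asA, hc0] at hc1
    rw [mul_comm]
    refine (AddEquiv.map_eq_zero_iff (asA hf W)).1 (hc1.trans ?_)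
    simp only [Pi.zero_apply, zero_smul, Finset.sum_const_zero]
  haveI : (cokernel ψ).IsQuasicoherent := isQuasicoherent_cokernel ψ
  haveI : IsAff (EtOver.bcObj hf (EU hk)) := isAff_bcObj hf haff (EU hk)
  haveI := isDomain_bcEU hk hf hη
  obtain ⟨c, hc0, β', hβ'⟩ : ∃ c : ΓE (EU hk), c ≠ 0 ∧
      ∃ β', bcΓ hf (EU hk) c = β' * bval hf (b ^ N) (EU hk) := by
    letI : Algebra (ΓE (EU hk)) (ΓE (EtOver.bcObj hf (EU hk))) := (bcΓ hf (EU hk)).toAlgebra
    haveI : Module.Finite (ΓE (EU hk)) (ΓE (EtOver.bcObj hf (EU hk))) := finite_bcΓ hf hfin (EU hk)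
    have hne := Ideal.comap_ne_bot_of_integral_mem (R := ΓE (EU hk))
      (I := Ideal.span {bval hf (b ^ N) (EU hk)}) (bval_ne_zero hk hf hη (b ^ N) hbN)
      (Ideal.mem_span_singleton_self _) (Algebra.IsIntegral.isIntegral _)
    obtain ⟨c, hc, hc0⟩ := Submodule.exists_mem_ne_zero_of_ne_bot hne
    obtain ⟨β', hβ'⟩ := Ideal.mem_span_singleton'.1 (Ideal.mem_comap.1 hc)
    exact ⟨c, hc0, β', hβ'.symm⟩
  have hrange : ∀ i, c • em i ∈ LinearMap.range (secMap ψ (EU hk)) := fun i => by
    refine ⟨asA hf (EU hk) (β' * a i), ?_⟩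
    have e1 : secMap p1 (EU hk) (secMap l (EU hk) (asA hf (EU hk) (β' * a i))) =
        secMap p1 (EU hk) (c • vh i) := by
      rw [← secMap_comp, secMap_eq hl, secMap_mulA, map_smul, hvh1, smul_asA, hβ', mul_right_comm]
    show secMap p2 (EU hk) (secMap l (EU hk) _) = _
    rw [hp1 (EU hk) inferInstance e1, map_smul, hvh2]
  have hV : V1 (vPow D n) := v1_of_mono ψ (v1_push X.property hf haff _) (hsmall _ inferInstance _ (isClosed_Zc hk c)
    (Zc_ne_univ hk hc0) (suppIn_Zc hk c fun x => by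
      obtain ⟨y, rfl⟩ := surjective_cokernel_π ψ (EU hk) x
      obtain ⟨z, hz⟩ : c • y ∈ LinearMap.range (secMap ψ (EU hk)) := by
        rw [← vPow_total D (EU hk) y, Finset.smul_sum]
        refine sum_mem fun i _ => ?_
        obtain ⟨d, hd⟩ := hgen (secMap (vπ D i) (EU hk) y)
        rw [← hd, map_smul, smul_comm]
        exact Submodule.smul_mem _ _ (hrange i)
      rw [← map_smul, ← hz]
      exact secMap_comp_zero (cokernel.condition ψ) (EU hk) z))
  exact v1_retract (vι D ⟨0, hn⟩) (vπ D ⟨0, hn⟩) (vι_vπ_self D ⟨0, hn⟩) hV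

include hk hqs hs hf hfin hη hmin hsmall in
/-- modules generated by one section on the open have no first cohomology -/
theorem v1_cyclic (M : ModEt X.obj) [M.IsQuasicoherent] (m : Sec M (EU hk))
    (hgen : ∀ y : Sec M (EU hk), ∃ c : ΓE (EU hk), c • m = y) : V1 M := by
  let Q0 := extN (F := M) hk hqs ⊥
  haveI := Q0.isQuasicoherent_obj
  haveI : (cokernel Q0.incl).IsQuasicoherent := isQuasicoherent_cokernel Q0.incl
  refine v1_of_mono Q0.incl ?_ ?_
  · refine hsmall _ inferInstance _ (isClosed_Zc hk 1) (Zc_ne_univ hk one_ne_zero) (suppIn_Zc hk 1 fun x => ?_)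
    rw [one_smul]
    refine Q0.injective_incl (EU hk) ?_
    have hx : secMap Q0.incl (EU hk) x ∈ Q0.P (EU hk) inferInstance :=
      (Q0.range_incl (inferInstance : IsAff (EU hk))).subset ⟨x, rfl⟩
    rw [extN_EU, Submodule.mem_bot] at hx
    rw [hx, map_zero]
  by_cases htor : ∃ c : ΓE (EU hk), c ≠ 0 ∧ c • m = 0
  · obtain ⟨c, hc, hcm⟩ := htor
    refine hsmall _ inferInstance _ (isClosed_Zc hk c) (Zc_ne_univ hk hc) (suppIn_Zc hk c fun x => ?_)
    obtain ⟨y, rfl⟩ := surjective_cokernel_π Q0.incl (EU hk) x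
    obtain ⟨d, rfl⟩ := hgen y
    rw [← map_smul, smul_comm, hcm, smul_zero, map_zero]
  have hker : ∀ (E : EtOver X.obj) (hE : IsAff E) (x : Sec M E),
      secMap (cokernel.π Q0.incl) E x = 0 ↔ x ∈ Q0.P E hE := fun E hE x =>
    haveI := hE
    (mem_P_iff Q0 x).symm
  refine v1_rankOne hk hqs hs hf hfin hη hmin hsmall _ (secMap (cokernel.π Q0.incl) (EU hk) m) (fun y => ?_)
    (fun c hc => ?_) fun E hE x hx => ?_
  · obtain ⟨z, rfl⟩ := surjective_cokernel_π Q0.incl (EU hk) y
    obtain ⟨c, rfl⟩ := hgen z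
    exact ⟨c, (map_smul _ c m).symm⟩
  · rw [← map_smul, hker (EU hk) inferInstance, extN_EU, Submodule.mem_bot] at hc
    by_contra hne
    exact htor ⟨c, hne, hc⟩
  · haveI := hE
    obtain ⟨y, rfl⟩ := surjective_cokernel_π Q0.incl E x
    rw [hker E hE, mem_extN_bot hk hqs]
    intro W hW cW q
    haveI := hW
    have h2 : secMap (cokernel.π Q0.incl) W (mapSec M q y) = 0 := by
      rw [← mapSec_secMap]
      exact hx W hW cW q
    have h3 := (mem_extN_bot hk hqs hW _).1 ((hker W hW _).1 h2) W hW cW (𝟙 W)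
    rwa [mapSec_id] at h3

include hk hqs hs hf hfin hη hmin hsmall in
/-- modules finitely generated on the open have no first cohomology -/
theorem v1_of_gens (n : ℕ) : ∀ (M : ModEt X.obj) [M.IsQuasicoherent] (s : Fin n → Sec M (EU hk)),
    (∀ y, y ∈ Submodule.span (ΓE (EU hk)) (Set.range s)) → V1 M := by
  induction n with
  | zero =>
    intro M hM s hgen
    refine hsmall M hM _ (isClosed_Zc hk 1) (Zc_ne_univ hk one_ne_zero) (suppIn_Zc hk 1 fun x => ?_)
    have hx := hgen x
    rw [Set.range_eq_empty, Submodule.span_empty, Submodule.mem_bot] at hx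
    rw [one_smul, hx]
  | succ n ih =>
    intro M hM s hgen
    haveI := hM
    let Q := extN (F := M) hk hqs (Submodule.span (ΓE (EU hk)) (Set.range (s ∘ Fin.castSucc)))
    haveI := Q.isQuasicoherent_obj
    haveI : (cokernel Q.incl).IsQuasicoherent := isQuasicoherent_cokernel Q.incl
    have hlift : ∀ i : Fin n, ∃ z, secMap Q.incl (EU hk) z = s i.castSucc := fun i => by
      have h : s i.castSucc ∈ Set.range (secMap Q.incl (EU hk)) := by
        rw [Q.range_incl (inferInstance : IsAff (EU hk)), extN_EU]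
        exact Submodule.subset_span ⟨i, rfl⟩
      exact h
    choose z hz using hlift
    refine v1_of_mono Q.incl (ih Q.obj z fun y => ?_)
      (v1_cyclic hk hqs hs hf hfin hη hmin hsmall _ (secMap (cokernel.π Q.incl) (EU hk) (s (Fin.last n))) fun y => ?_)
    · have hy : secMap Q.incl (EU hk) y ∈ Q.P (EU hk) inferInstance :=
        (Q.range_incl (inferInstance : IsAff (EU hk))).subset ⟨y, rfl⟩
      rw [extN_EU, Submodule.mem_span_range_iff_exists_fun] at hy
      obtain ⟨c, hc⟩ := hy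
      refine (Submodule.mem_span_range_iff_exists_fun _).2 ⟨c, Q.injective_incl (EU hk) ?_⟩
      rw [map_sum, ← hc]
      exact Finset.sum_congr rfl fun i _ => by rw [map_smul, hz]; rfl
    · obtain ⟨w, rfl⟩ := surjective_cokernel_π Q.incl (EU hk) y
      obtain ⟨c, hc⟩ := (Submodule.mem_span_range_iff_exists_fun _).1 (hgen w)
      refine ⟨c (Fin.last n), ?_⟩
      rw [← hc, map_sum, Fin.sum_univ_castSucc, map_smul]
      have h0 : ∀ i : Fin n, secMap (cokernel.π Q.incl) (EU hk) (c i.castSucc • s i.castSucc) = 0 := fun i => by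
        rw [map_smul, ← hz i]
        exact (congrArg (c i.castSucc • ·) (secMap_comp_zero (cokernel.condition Q.incl) (EU hk) (z i))).trans
          (smul_zero _)
      rw [Finset.sum_eq_zero (fun i _ => h0 i), zero_add]

include hk hqs hs hf hfin hη hmin hsmall in
/-- all quasi-coherent modules have no first cohomology -/
theorem v1_all (hqc : IsQuasiCompactSp X.obj) (M : ModEt X.obj) [M.IsQuasicoherent] : V1 M :=
  v1_of_fgSub hqc hqs M fun a => by
    haveI := a.sub.isQuasicoherent_obj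
    haveI := a.sub.finite_obj (EU hk) (a.fg (EU hk) inferInstance)
    obtain ⟨n, s, hgen⟩ := Module.Finite.exists_fin (R := ΓE (EU hk)) (M := Sec a.sub.obj (EU hk))
    exact v1_of_gens hk hqs hs hf hfin hη hmin hsmall n a.sub.obj s fun y => hgen.symm ▸ Submodule.mem_top

end Groth.Agent.AlgSpLib.ChevGen
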