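import Groth.Agent.AlgSpLib.SerreAffineMain

/-!
Serre's criterion of affineness for algebraic spaces.
-/

universe u

open CategoryTheory CategoryTheory.Limits AlgebraicGeometry Opposite TensorProduct
open AlgSp

noncomputable section

set_option linter.style.haveILetI false

namespace Groth.Agent.AlgSpLib.SerreAff

open Groth.Agent.AlgSpLib Groth.Agent.AlgSpLib.QCohEt

set_option backward.isDefEq.respectTransparency.types false
set_option backward.isDefEq.respectTransparency false

variable {S : Scheme.{u}} [QuasiSeparatedSpace ↥S] (X : AlgSp.Space S) (hqc : IsQuasiCompactSp X.obj)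
  (hqs : IsQuasiSeparatedSp X.obj) (h1 : H1Vanish X.obj) (E₀ : EtOver X.obj) [IsAff E₀]
  (hs : RepWith @Surjective E₀.obj.hom)

/-- sheaves with epimorphisms from a common source with the same kernel pair are isomorphic -/
theorem nonempty_iso_of_kernelPair {U M N R : Sp S} {a b : R ⟶ U} {p : U ⟶ M} {q : U ⟶ N}
    (hp : IsPullback a b p p) (hq : IsPullback a b q q) [Epi p] [Epi q] : Nonempty (M ≅ N) := by
  have : IsRegularEpiCategory (Sp S) := inferInstanceAs (IsRegularEpiCategory (Sheaf (J S) (Type (u + 1))))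
  have : IsRegularEpi p := IsRegularEpiCategory.regularEpiOfEpi p
  have : IsRegularEpi q := IsRegularEpiCategory.regularEpiOfEpi q
  have key : ∀ {M N : Sp S} {p : U ⟶ M} {q : U ⟶ N}, IsPullback a b p p → IsPullback a b q q →
      ∀ {Z : Sp S} (g₁ g₂ : Z ⟶ U), g₁ ≫ p = g₂ ≫ p → g₁ ≫ q = g₂ ≫ q := fun hp hq Z g₁ g₂ e => by
    obtain ⟨l, h1, h2⟩ := hp.exists_lift g₁ g₂ e
    rw [← h1, ← h2, Category.assoc, Category.assoc, hq.w]
  let φ : M ⟶ N := EffectiveEpi.desc p q fun g₁ g₂ e => key hp hq g₁ g₂ e
  let ψ : N ⟶ M := EffectiveEpi.desc q p fun g₁ g₂ e => key hq hp g₁ g₂ e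
  exact ⟨⟨φ, ψ, by rw [← cancel_epi p, EffectiveEpi.fac_assoc, EffectiveEpi.fac, Category.comp_id],
    by rw [← cancel_epi q, EffectiveEpi.fac_assoc, EffectiveEpi.fac, Category.comp_id]⟩⟩

include hs in
theorem alpha_atlas (a : invRing E₀) :
    alpha hs (X.property.representable_from_yon E₀.obj.hom) a = (a : chartRing E₀) := by
  refine injective_pV hs (X.property.representable_from_yon E₀.obj.hom) ?_
  rw [pV_alpha]
  let hh := X.property.representable_from_yon E₀.obj.hom
  have e : (toT0 (EtOver.bcObj hh E₀)).hom.left = (EtOver.prodSnd E₀ E₀).hom.left :=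
    (yon S).map_injective ((map_toT0 _).trans ((hh.map_fst' E₀.obj.hom).symm.trans rfl))
  show (EtOver.prodFst E₀ E₀).hom.left.left.appTop.hom a.1 =
    (toT0 (EtOver.bcObj hh E₀)).hom.left.left.appTop.hom a.1
  exact a.2.trans (congrArg (fun k => k.left.appTop.hom a.1) e).symm

include hqc hqs h1 in
/-- fibre products with the atlas are fibre products over the invariant functions -/
theorem isPullback_fib {V : Over S} [IsAffine V.left] (h : (yon S).obj V ⟶ X.obj) :
    IsPullback (fibFst X E₀ h) (EtOver.bcπ (X.property.representable_from_yon h) E₀).left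
      (V.left.isoSpec.hom ≫ Spec.map (CommRingCat.ofHom (alpha hs (X.property.representable_from_yon h))))
      (chartProj X E₀) := by
  letI := (alpha hs (X.property.representable_from_yon h)).toAlgebra
  haveI := isIso_fibProd X hqc hqs h1 E₀ hs h
  haveI : IsAffine E₀.obj.left.left := (inferInstance : IsAff E₀)
  have sqS := isPullback_SpecMap_of_isPushout _ _ _ _
    (CommRingCat.isPushout_tensorProduct (invRing E₀) Γ(V.left, ⊤) (chartRing E₀))
  have k1 : CommRingCat.ofHom (Algebra.TensorProduct.includeLeftRingHom (R := invRing E₀) (A := Γ(V.left, ⊤))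
      (B := chartRing E₀)) ≫ CommRingCat.ofHom (fibMap X E₀ hs h) = (fibFst X E₀ h).appTop := by
    refine CommRingCat.hom_ext (RingHom.ext fun v => ?_)
    refine (fibMap_tmul X E₀ hs h v 1).trans ?_
    rw [map_one, mul_one]
    rfl
  have k2 : CommRingCat.ofHom (Algebra.TensorProduct.includeRight (R := invRing E₀) (A := Γ(V.left, ⊤))
      (B := chartRing E₀)).toRingHom ≫ CommRingCat.ofHom (fibMap X E₀ hs h) =
      (EtOver.bcπ (X.property.representable_from_yon h) E₀).left.appTop := by
    refine CommRingCat.hom_ext (RingHom.ext fun b => ?_)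
    refine (fibMap_tmul X E₀ hs h 1 b).trans ?_
    rw [map_one, one_mul]
    rfl
  refine IsPullback.of_iso sqS (asIso (fibProd X E₀ hs h)).symm V.left.isoSpec.symm
    E₀.obj.left.left.isoSpec.symm (Iso.refl _) ?_ ?_ ?_ ?_
  · rw [Iso.symm_hom, Iso.symm_hom, asIso_inv, IsIso.eq_inv_comp]
    rw [← cancel_mono V.left.isoSpec.hom, Category.assoc, Category.assoc, Iso.inv_hom_id, Category.comp_id,
      Scheme.isoSpec_hom, Scheme.toSpecΓ_naturality, ← k1]
    unfold fibProd
    rw [Category.assoc, ← Spec.map_comp]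
  · rw [Iso.symm_hom, Iso.symm_hom, asIso_inv, IsIso.eq_inv_comp]
    rw [← cancel_mono E₀.obj.left.left.isoSpec.hom, Category.assoc, Category.assoc, Iso.inv_hom_id,
      Category.comp_id, Scheme.isoSpec_hom, Scheme.toSpecΓ_naturality, ← k2]
    unfold fibProd
    rw [Category.assoc, ← Spec.map_comp]
  · rw [Iso.symm_hom, Iso.refl_hom, Category.comp_id, Iso.inv_hom_id_assoc]
    rfl
  · rw [Iso.symm_hom, Iso.refl_hom, Category.comp_id, chartProj_eq, Iso.inv_hom_id_assoc]
    rfl

include hqc hqs h1 hs in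
theorem isPullback_chartProj :
    IsPullback (fibFst X E₀ E₀.obj.hom) (EtOver.bcπ (X.property.representable_from_yon E₀.obj.hom) E₀).left
      (chartProj X E₀) (chartProj X E₀) := by
  haveI : IsAffine E₀.obj.left.left := (inferInstance : IsAff E₀)
  have h := isPullback_fib X hqc hqs h1 E₀ hs E₀.obj.hom
  have e : alpha hs (X.property.representable_from_yon E₀.obj.hom) = (invRing E₀).subtype :=
    RingHom.ext (alpha_atlas X E₀ hs)
  rw [e, ← chartProj_eq X E₀] at h
  exact h

include hqc hqs h1 hs in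
theorem chartProj_props :
    Etale (chartProj X E₀) ∧ Surjective (chartProj X E₀) := by
  haveI : IsAffine E₀.obj.left.left := (inferInstance : IsAff E₀)
  haveI := faithfullyFlat_invRing X hqc hqs h1 E₀ hs
  have hflat : Flat (Spec.map (CommRingCat.ofHom (invRing E₀).subtype)) :=
    (HasRingHomProperty.Spec_iff (P := @Flat)).2 (show (algebraMap (invRing E₀) (chartRing E₀)).Flat from
      RingHom.flat_algebraMap_iff.2 inferInstance)
  have hsurj : Surjective (Spec.map (CommRingCat.ofHom (invRing E₀).subtype)) :=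
    ⟨PrimeSpectrum.comap_surjective_of_faithfullyFlat (A := invRing E₀) (B := chartRing E₀)⟩
  have h2 : Surjective (chartProj X E₀) := by rw [chartProj_eq]; infer_instance
  haveI := h2
  haveI : Flat (chartProj X E₀) := by rw [chartProj_eq]; infer_instance
  haveI : QuasiCompact (chartProj X E₀) := inferInstance
  exact ⟨MorphismProperty.of_isPullback_of_descendsAlong (P := @Etale)
    (Q := @Surjective ⊓ @Flat ⊓ @QuasiCompact) (isPullback_chartProj X hqc hqs h1 E₀ hs)
    ⟨⟨inferInstance, inferInstance⟩, inferInstance⟩ (etale_fibFst X E₀ E₀.obj.hom), h2⟩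

include hqc hqs h1 hs in
/-- the space is the spectrum of the invariant functions on the atlas -/
theorem exists_iso_yon_affine_aux :
    ∃ T : Over S, IsAffine T.left ∧ Nonempty ((yon S).obj T ≅ X.obj) := by
  obtain ⟨he, hsu⟩ := chartProj_props X hqc hqs h1 E₀ hs
  haveI := he
  haveI := hsu
  haveI : Flat (chartProj X E₀) := etale_le_flat _ _ _ he
  haveI : LocallyOfFinitePresentation (chartProj X E₀) := etale_le_lfp _ _ _ he
  let sq := isPullback_chartProj X hqc hqs h1 E₀ hs
  let hh := X.property.representable_from_yon E₀.obj.hom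
  let a : hh.pullback E₀.obj.hom ⟶ E₀.obj.left := (toT0 (EtOver.bcObj hh E₀)).hom.left
  let b : hh.pullback E₀.obj.hom ⟶ E₀.obj.left := hh.snd E₀.obj.hom
  have hw : ∀ {Z : Scheme.{u}} (g₁ g₂ : Z ⟶ E₀.obj.left.left), g₁ ≫ chartProj X E₀ = g₂ ≫ chartProj X E₀ →
      g₁ ≫ E₀.obj.left.hom = g₂ ≫ E₀.obj.left.hom := fun g₁ g₂ e => by
    obtain ⟨l, h1, h2⟩ := sq.exists_lift g₁ g₂ e
    rw [← h1, ← h2, Category.assoc, Category.assoc]
    exact congrArg (l ≫ ·) ((Over.w a).trans (Over.w b).symm)
  let T : Over S := Over.mk (EffectiveEpi.desc (chartProj X E₀) E₀.obj.left.hom hw)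
  let π : E₀.obj.left ⟶ T := Over.homMk (chartProj X E₀) (EffectiveEpi.fac _ _ hw)
  have sqO : IsPullback a b π π := IsPullback.of_map (Over.forget S) (Over.OverMorphism.ext sq.w) sq
  have sqX : IsPullback ((yon S).map a) ((yon S).map b) E₀.obj.hom E₀.obj.hom := by
    rw [map_toT0]
    exact hh.isPullback E₀.obj.hom
  haveI : Sheaf.IsLocallySurjective E₀.obj.hom := isLocallySurjective_of_etale E₀.property hs
  haveI : Epi E₀.obj.hom := Sheaf.epi_of_isLocallySurjective E₀.obj.hom
  haveI : Sheaf.IsLocallySurjective ((yon S).map π) := isLocallySurjective_of_etale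
    ((repWith_yon_map_iff (P := @Etale) π).2 he) ((repWith_yon_map_iff (P := @Surjective) π).2 hsu)
  haveI : Epi ((yon S).map π) := Sheaf.epi_of_isLocallySurjective ((yon S).map π)
  exact ⟨T, inferInstanceAs (IsAffine (Spec (CommRingCat.of (invRing E₀)))),
    nonempty_iso_of_kernelPair (sqO.map (yon S)) sqX⟩

include hqc hqs in
/-- Serre's criterion of affineness -/
theorem exists_iso_yon_affine (h1 : H1Vanish X.obj) :
    ∃ T : Over S, IsAffine T.left ∧ Nonempty ((yon S).obj T ≅ X.obj) := by
  haveI := compactSpace_points_of_isQuasiCompactSp hqc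
  obtain ⟨U, p, hU, hpe, hps⟩ := exists_affine_chart X.property
  haveI : IsAff (EtOver.mk p hpe) := hU
  exact exists_iso_yon_affine_aux X hqc hqs h1 (EtOver.mk p hpe) hps

omit [QuasiSeparatedSpace ↥S] in
/-- affine schemes over the base are separated spaces -/
theorem isSeparatedSp_of_iso_affine {T : Over S} [IsAffine T.left] {F : Sp S} (e : (yon S).obj T ≅ F) :
    IsSeparatedSp F := by
  obtain ⟨q, -⟩ : ∃ q : F ⟶ (yon S).obj (Over.mk (𝟙 S)), True := ⟨(isTerminal_yon_base S).some.from F, trivial⟩
  refine (repWith_diagonal_iff_diag _ (isTerminal_yon_base S).some q).1 ?_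
  let l : T ⟶ Over.mk (𝟙 S) := Over.homMk T.hom
  have hl : IsSeparatedMor ((yon S).map l) :=
    (isSeparatedMor_yon_map_iff l).2 (inferInstanceAs (IsSeparated T.hom))
  have hq : q = e.inv ≫ (yon S).map l := (isTerminal_yon_base S).some.hom_ext _ _
  rw [hq]
  exact isSeparatedMor_comp (isSeparatedMor_of_mono e.inv) hl

end Groth.Agent.AlgSpLib.SerreAff
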