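import Groth.Agent.AlgSpLib.SerreChevMain
import Groth.Agent.AlgSpLib.ChevGenStep
import Groth.Agent.AlgSpLib.ChevGenIdeal
import Groth.Agent.S10732

/-!
Chevalley's theorem for a finite surjection onto a reduced space all whose proper closed subspaces are affine.
-/

universe u

open CategoryTheory CategoryTheory.Limits AlgebraicGeometry Opposite TopologicalSpace
open AlgSp

noncomputable section

set_option linter.style.haveILetI false
set_option linter.unusedSectionVars false

namespace Groth.Agent.AlgSpLib.ChevGen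

open Groth.Agent.AlgSpLib Groth.Agent.AlgSpLib.QCohEt Groth.Agent.AlgSpLib.SerreAff Groth.Agent.AlgSpLib.SerreChev

set_option backward.isDefEq.respectTransparency.types false
set_option backward.isDefEq.respectTransparency false

variable {S : Scheme.{u}} [QuasiSeparatedSpace ↥S] {X : AlgSp.Space S}

/-- a reduced space covered by two proper closed subsets with affine subspaces has vanishing cohomology -/
theorem v1_of_two_pieces (hqc : IsQuasiCompactSp X.obj) (hqs : IsQuasiSeparatedSp X.obj)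
    (hred : IsReducedSp X.obj) (hsub : SubAffine X) {Z₁ Z₂ : Set (Points X.obj)} (h₁ : IsClosed Z₁)
    (h₂ : IsClosed Z₂) (hu₁ : Z₁ ≠ Set.univ) (hu₂ : Z₂ ≠ Set.univ) (hcov : Z₁ ∪ Z₂ = Set.univ)
    (M : ModEt X.obj) [M.IsQuasicoherent] : V1 M := by
  obtain ⟨Y₁, i₁, hi₁, hir₁, -⟩ := Stk19b.RedInd.exists_isRedInduced X Z₁ h₁
  let J : IdealEt X.obj := idealOfRep hi₁.1
  have hJ := isQCoh_idealOfRep hi₁
  have hzero : ∀ (E : EtOver X.obj) (hE : IsAff E),
      E.obj.left.left.zeroLocus (U := ⊤) (J.ideal E hE : Set Γ(E.obj.left.left, ⊤)) =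
        Points.ofPt E.obj.hom ⁻¹' Z₁ := fun E hE => by
    rw [zeroLocus_isCutOutBy (i := i₁.hom) ⟨hi₁, rfl⟩ E hE, hir₁]
    rfl
  let Q := idealSub M J hJ
  haveI := Q.isQuasicoherent_obj
  haveI : (cokernel Q.incl).IsQuasicoherent := isQuasicoherent_cokernel Q.incl
  refine v1_of_mono Q.incl (v1_of_suppIn hqc hqs hsub _ hu₂ fun E hE e he => ?_)
    (v1_of_suppIn hqc hqs hsub _ hu₁ fun E hE e ⟨s, hs⟩ => ?_)
  · haveI := hE
    by_contra hne
    obtain ⟨W, g, hW, hWU, ⟨w, rfl⟩⟩ := exists_piece_mem E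
      (h₂.isOpen_compl.preimage (Points.continuous_ofPt E.obj.hom)) (e := e) hne
    haveI := hW
    obtain ⟨d, hd⟩ := inSupp_pullback Q.obj g he
    haveI : IsReduced W.obj.left.left := isReduced_chart hred W.obj.hom W.property
    have hJW : J.ideal W hW = ⊥ := by
      refine (Submodule.eq_bot_iff _).2 fun a ha => ?_
      refine (basicOpen_eq_bot_iff (X := W.obj.left.left) (U := ⊤) a).1 (Opens.ext
        (Set.eq_empty_iff_forall_notMem.2 fun p hp => ?_))
      have hp1 : p ∈ W.obj.left.left.zeroLocus (U := ⊤) (J.ideal W hW : Set Γ(W.obj.left.left, ⊤)) := by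
        rw [hzero W hW]
        show Points.ofPt W.obj.hom p ∈ Z₁
        have h2 : Points.ofPt W.obj.hom p ∉ Z₂ := by
          rw [← ofPt_edge_hom g p]
          exact hWU ⟨p, rfl⟩
        exact ((Set.eq_univ_iff_forall.1 hcov) _).resolve_right h2
      exact (Scheme.mem_zeroLocus_iff _ _ _).1 hp1 a ha hp
    have hd0 : d = 0 := Q.injective_incl W (by
      have hx : secMap Q.incl W d ∈ Q.P W hW := (Q.range_incl hW).subset ⟨d, rfl⟩
      rw [eq_zero_of_mem_idealSub M J hJ W hW hJW _ hx, map_zero])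
    refine (inferInstance : (primeE W w).IsPrime).ne_top ((Ideal.eq_top_iff_one _).2 (hd ?_))
    rw [hd0]
    exact CAlgH3.mem_annEl.2 (smul_zero _)
  · haveI := hE
    by_contra hne
    have he : e ∉ E.obj.left.left.zeroLocus (U := ⊤) (J.ideal E hE : Set Γ(E.obj.left.left, ⊤)) := by
      rw [hzero E hE]
      exact hne
    obtain ⟨a, ha, hae⟩ := SetLike.not_le_iff_exists.1 (mt (mem_zeroLocus_iff_le_primeAtPt _ e).2 he)
    refine hae ((upΓ_mem_primeE E a e).1 (hs (CAlgH3.mem_annEl.2 ?_)))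
    obtain ⟨x, rfl⟩ := surjective_cokernel_π Q.incl E s
    rw [← map_smul]
    exact (mem_P_iff Q _).1 (smul_mem_idealSub M J hJ E hE a ha x)

/-- Chevalley's theorem for a finite morphism onto a reduced space with affine proper closed subspaces -/
theorem exists_affine_of_finite (hqc : IsQuasiCompactSp X.obj)
    (hqs : IsQuasiSeparatedSp X.obj) (hred : IsReducedSp X.obj) (hsub : SubAffine X)
    {T : Over S} [IsAffine T.left] {f : (yon S).obj T ⟶ X.obj} (hfin : IsFiniteMor f)
    (hsurj : IsSurjectiveMor f) :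
    ∃ T' : Over S, IsAffine T'.left ∧ Nonempty ((yon S).obj T' ≅ X.obj) := by
  classical
  refine Groth.Agent.S10732.result X hqc hqs fun M hM => ?_
  haveI := hM
  show V1 M
  rcases isEmpty_or_nonempty (Points X.obj) with hemp | ⟨⟨x⟩⟩
  · refine v1_of_isZero (isZero_of_forall M fun E hE s => ?_)
    haveI := hE
    by_contra hs'
    obtain ⟨e, -⟩ := exists_inSupp M hs'
    exact isEmptyElim (Points.ofPt E.obj.hom e)
  by_cases htwo : ∃ Z₁ Z₂ : Set (Points X.obj),
      IsClosed Z₁ ∧ IsClosed Z₂ ∧ Z₁ ≠ Set.univ ∧ Z₂ ≠ Set.univ ∧ Z₁ ∪ Z₂ = Set.univ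
  · obtain ⟨Z₁, Z₂, h₁, h₂, hu₁, hu₂, hcov⟩ := htwo
    exact v1_of_two_pieces hqc hqs hred hsub h₁ h₂ hu₁ hu₂ hcov M
  push_neg at htwo
  have hmeet : ∀ U₁ U₂ : Set (Points X.obj), IsOpen U₁ → IsOpen U₂ → U₁.Nonempty → U₂.Nonempty →
      (U₁ ∩ U₂).Nonempty := fun U₁ U₂ h₁ h₂ hn₁ hn₂ => by
    by_contra hne
    refine htwo U₁ᶜ U₂ᶜ h₁.isClosed_compl h₂.isClosed_compl
      (fun h => hn₁.ne_empty (Set.compl_univ_iff.1 h)) (fun h => hn₂.ne_empty (Set.compl_univ_iff.1 h)) ?_
    rw [← Set.compl_inter, Set.not_nonempty_iff_eq_empty.1 hne, Set.compl_empty]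
  haveI := compactSpace_points_of_isQuasiCompactSp hqc
  obtain ⟨A, a, hA, hae, has⟩ := exists_affine_chart X.property
  let E₀ : EtOver X.obj := EtOver.mk a hae
  haveI : IsAff E₀ := hA
  have hd := isDecent_of_qsep X.property hqs
  haveI := t0Space_points X.property hd
  haveI := quasiSober_points X.property hd
  have hX1 : IsIrreducible (Set.univ : Set (Points X.obj)) :=
    ⟨⟨x, trivial⟩, fun U₁ U₂ h₁ h₂ ⟨a₁, _, ha₁⟩ ⟨a₂, _, ha₂⟩ => by
      obtain ⟨b, hb⟩ := hmeet U₁ U₂ h₁ h₂ ⟨a₁, ha₁⟩ ⟨a₂, ha₂⟩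
      exact ⟨b, trivial, hb⟩⟩
  let z : Points X.obj := hX1.genericPoint
  have hzc : closure {z} = Set.univ := by
    have h := hX1.genericPoint_closure_eq
    rwa [closure_univ] at h
  have hmax : ∀ y, y ⤳ z → y = z := fun y hy =>
    (hy.antisymm (specializes_iff_mem_closure.2 (hzc ▸ Set.mem_univ y))).eq
  obtain ⟨C, k, hC, hk, hz₁⟩ := exists_affine_nbhd_of_maximal X.property hqs z hmax
  rw [Induct.range_map_yon] at hz₁
  obtain ⟨u, hu⟩ := hz₁
  have hke : RepWith @Etale k :=
    RepWith.mono (fun _ _ g (_ : IsOpenImmersion g) => (inferInstance : Etale g)) hk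
  haveI : IsReduced C.left := isReduced_chart hred k hke
  haveI := hC
  haveI := Induct.mono_openImm hk
  have hinj : Function.Injective (Points.ofPt k) := fun p q h => by
    rw [Points.ofPt_eq_map_ofScheme, Points.ofPt_eq_map_ofScheme] at h
    exact (Points.schemeEquiv C).injective (injective_map_of_mono k h)
  haveI : IrreducibleSpace C.left := by
    have h2 : IsIrreducible (Set.univ : Set C.left) := ⟨⟨u, trivial⟩, fun U₁ U₂ h₁ h₂ ⟨a₁, _, ha₁⟩ ⟨a₂, _, ha₂⟩ => by
      obtain ⟨b, ⟨b₁, hb₁, rfl⟩, b₂, hb₂, hb⟩ := hmeet _ _ (isOpenMap_ofPt k hke _ h₁) (isOpenMap_ofPt k hke _ h₂)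
        ⟨_, a₁, ha₁, rfl⟩ ⟨_, a₂, ha₂, rfl⟩
      exact ⟨b₁, trivial, hb₁, hinj hb ▸ hb₂⟩⟩
    exact { isPreirreducible_univ := h2.2, toNonempty := ⟨u⟩ }
  haveI : IsIntegral C.left := isIntegral_of_irreducibleSpace_of_isReduced _
  haveI : IsDomain (ΓE (EU hk)) :=
    haveI : Nonempty C.left := ⟨u⟩
    MulEquiv.isDomain _ (ULift.ringEquiv (R := Γ(C.left, ⊤))).toMulEquiv
  have humax : ∀ p : C.left, p ⤳ u → p = u := fun p hp =>
    hinj ((hmax _ (hu ▸ hp.map (Points.continuous_ofPt k))).trans hu.symm)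
  have hgu : genericPoint C.left = u := humax _ (genericPoint_specializes u)
  have hgen : ∀ c : C.left, Points.ofPt k c = z → primeE (EU hk) c = ⊥ := fun c hc => by
    refine (Submodule.eq_bot_iff _).2 fun g hg => ?_
    by_contra hg0
    have hc' : c = u := hinj (hc.trans hu.symm)
    subst hc'
    have hne : C.left.basicOpen (g.down : Γ(C.left, ⊤)) ≠ ⊥ := fun h =>
      hg0 (ULift.ext _ _ ((basicOpen_eq_bot_iff (X := C.left) (U := ⊤) g.down).1 h))
    obtain ⟨p, hp⟩ : (C.left.basicOpen (g.down : Γ(C.left, ⊤)) : Set C.left).Nonempty :=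
      Set.nonempty_iff_ne_empty.2 fun h' => hne (Opens.ext (h'.trans Opens.coe_bot.symm))
    have hcg := (genericPoint_specializes p).mem_open (C.left.basicOpen (g.down : Γ(C.left, ⊤))).2 hp
    rw [hgu] at hcg
    exact (mem_basicOpen_iff (EU hk) g c).1 hcg hg
  obtain ⟨t, ht⟩ : ∃ t : T.left, Points.ofPt f t = z := by
    obtain ⟨p, hp⟩ := hsurj z
    obtain ⟨t, rfl⟩ := (Points.schemeEquiv T).surjective p
    exact ⟨t, (Points.ofPt_eq_map_ofScheme f t).trans hp⟩
  let I := Scheme.IdealSheafData.vanishingIdeal (X := T.left) ⟨closure {t}, isClosed_closure⟩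
  haveI : IsReduced I.subscheme := Props12.isReduced_subscheme_vanishingIdeal _
  have hIr : Set.range I.subschemeι = closure {t} := by
    rw [Scheme.IdealSheafData.range_subschemeι, Scheme.IdealSheafData.coe_support_vanishingIdeal]
    rfl
  obtain ⟨t', ht'⟩ : t ∈ Set.range I.subschemeι := hIr.symm ▸ subset_closure rfl
  have ht'gen : ∀ q, t' ⤳ q := fun q =>
    I.subschemeι.isClosedEmbedding.isInducing.specializes_iff.1 (by
      rw [ht']
      exact specializes_iff_mem_closure.2 (hIr ▸ ⟨q, rfl⟩))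
  haveI : IrreducibleSpace I.subscheme := by
    have h : (Set.univ : Set I.subscheme) = closure {t'} :=
      (Set.eq_univ_of_forall fun q => (ht'gen q).mem_closure).symm
    have h2 : IsIrreducible (Set.univ : Set I.subscheme) := h ▸ isIrreducible_singleton.closure
    exact { isPreirreducible_univ := h2.2, toNonempty := ⟨t'⟩ }
  haveI : IsIntegral I.subscheme := isIntegral_of_irreducibleSpace_of_isReduced _
  let T' : Over S := Over.mk (I.subschemeι ≫ T.hom)
  haveI : IsAffine T'.left := isAffine_of_isAffineHom I.subschemeι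
  haveI : IsIntegral T'.left := ‹IsIntegral I.subscheme›
  let ι' : T' ⟶ T := Over.homMk I.subschemeι
  let f' : (yon S).obj T' ⟶ X.obj := (yon S).map ι' ≫ f
  have hfin' : IsFiniteMor f' := isFiniteMor_comp_closed
    ((repWith_yon_map_iff (P := @IsClosedImmersion) ι').2 (inferInstanceAs (IsClosedImmersion I.subschemeι))) hfin
  have hη0 : genericPoint T'.left = t' :=
    ((genericPoint_specializes t').antisymm (ht'gen _)).eq
  have hη1 : Points.ofPt f' (genericPoint T'.left) = z := by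
    rw [hη0]
    exact (ofPt_map ι' f t').trans ((congrArg (Points.ofPt f) ht').trans ht)
  have hη : Points.ofPt f' (genericPoint T'.left) ∈ OU (k := k) := by
    rw [hη1, OU, Induct.range_map_yon]
    exact ⟨u, hu⟩
  have hmin : ∀ c : C.left, Points.ofPt k c = Points.ofPt f' (genericPoint T'.left) → primeE (EU hk) c = ⊥ :=
    fun c hc => hgen c (hc.trans hη1)
  have hfr : Representable f' := ((isFiniteMor_iff_repWith f').1 hfin').1
  exact v1_all hk hqs (E₀ := E₀) has hfr hfin' hη hmin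
    (fun N hN Z _ hZu hsupp => haveI := hN; v1_of_suppIn hqc hqs hsub N hZu hsupp) hqc M

end Groth.Agent.AlgSpLib.ChevGen
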