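import Groth.Agent.AlgSpLib.NormAffine
import Groth.Agent.AlgSpLib.MorQC
import Groth.Agent.AlgSpLib.MorSep
import Groth.Agent.AlgSpLib.YonCoprod

/-!
Existence of the relative normalisation of a quasi-compact quasi-separated morphism of algebraic spaces.
-/

universe u

open CategoryTheory CategoryTheory.Limits AlgebraicGeometry Opposite TensorProduct
open AlgSp

noncomputable section

namespace Groth.Agent.AlgSpLib

set_option backward.isDefEq.respectTransparency.types false
set_option backward.isDefEq.respectTransparency false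

variable {S : Scheme.{u}} {A : Type u} [CommRing A] (sA : Spec (CommRingCat.of A) ⟶ S)

theorem exists_oA_iso {W : Over S} [IsAffine W.left] (w : W ⟶ oU sA) :
    ∃ (P : Type u) (_ : CommRing P) (_ : Algebra A P) (i : oA sA P ≅ W), i.hom ≫ w = oStr sA P := by
  obtain ⟨φ, hφ⟩ := Spec.map_surjective (W.left.isoSpec.inv ≫ w.left)
  letI := φ.hom.toAlgebra
  refine ⟨Γ(W.left, ⊤), inferInstance, inferInstance, Over.isoMk W.left.isoSpec.symm ?_, Over.OverMorphism.ext hφ.symm⟩
  show W.left.isoSpec.inv ≫ W.hom = Spec.map φ ≫ sA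
  rw [hφ, Category.assoc]
  exact congrArg (_ ≫ ·) (Over.w w).symm

theorem exists_locNorm_affine {Y : Sp S} (hY : IsAlgSpace Y) (f : Y ⟶ (yon S).obj (oU sA))
    (hqc : IsQuasiCompactMor f) (hqs : IsQuasiSeparatedMor f) :
    ∃ (N : Over S) (ν : N ⟶ oU sA) (f' : Y ⟶ (yon S).obj N), LocNorm f ((yon S).map ν) f' := by
  haveI : CompactSpace ↥(oU sA).left := inferInstanceAs (CompactSpace ↥(Spec (CommRingCat.of A)))
  haveI : CompactSpace (Points Y) := compactSpace_of_isQuasiCompactMor hqc (g := 𝟙 _) (fst := 𝟙 Y) (snd := f)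
    (IsPullback.of_horiz_isIso ⟨by simp⟩)
  obtain ⟨V, p₀, hV, hpe, hps⟩ := exists_affine_chart hY
  haveI := hV
  obtain ⟨v, hv⟩ := (yon S).map_surjective (p₀ ≫ f)
  obtain ⟨P, _, _, iP, hiP⟩ := exists_oA_iso sA v
  let pV := (yon S).map iP.hom ≫ p₀
  have hVe : RepWith @Etale pV := RepWith.comp ((repWith_yon_map_iff @Etale iP.hom).2 (inferInstanceAs (Etale iP.hom.left))) hpe
  have hVs : RepWith @Surjective pV := RepWith.comp ((repWith_yon_map_iff @Surjective iP.hom).2 (inferInstanceAs (Surjective iP.hom.left))) hps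
  have hpV : pV ≫ f = (yon S).map (oStr sA P) := by
    rw [Category.assoc, ← hv, ← Functor.map_comp, hiP]
  obtain ⟨R, w, fst, sqR, -⟩ := exists_yon_of_repWith hVe pV
  -- R is quasi-compact over the product of two copies of the chart
  have sqD := pullback_map_diagonal_isPullback pV pV f
  have hq : IsPullback ((yon S).map (oMap sA (Algebra.TensorProduct.includeLeft : P →ₐ[A] P ⊗[A] P)))
      ((yon S).map (oMap sA (Algebra.TensorProduct.includeRight : P →ₐ[A] P ⊗[A] P))) (pV ≫ f) (pV ≫ f) := by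
    rw [hpV]; exact (isPullback_oA sA).map (yon S)
  let eR := sqR.isoPullback
  obtain ⟨d, hd⟩ := (yon S).map_surjective (eR.hom ≫ pullback.map pV pV (pV ≫ f) (pV ≫ f) (𝟙 _) (𝟙 _) f
    (by simp) (by simp) ≫ hq.isoPullback.inv)
  have hdq : RepWith @QuasiCompact ((yon S).map d) := by
    rw [hd]
    exact RepWith.comp (repWith_of_isIso _ _) (RepWith.comp (RepWith.baseChange sqD hqs) (repWith_of_isIso _ _))
  haveI : QuasiCompact d.left := (repWith_yon_map_iff _ d).1 hdq
  haveI : CompactSpace ↥R.left := by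
    haveI : CompactSpace ↥(oA sA (P ⊗[A] P)).left := inferInstanceAs (CompactSpace ↥(Spec (CommRingCat.of (P ⊗[A] P))))
    exact QuasiCompact.compactSpace_of_compactSpace d.left
  haveI : CompactSpace (Points ((yon S).obj R)) :=
    compactSpace_points_of_isQuasiCompactSp ⟨R, 𝟙 _, repWith_id _ R, repWith_id _ R, inferInstance⟩
  obtain ⟨R', q, hR', hqe, hqsj⟩ := exists_affine_chart (IsAlgSpace.yon_obj R)
  haveI := hR'
  obtain ⟨q, rfl⟩ := (yon S).map_surjective q
  obtain ⟨E, _, _, iE, hiE⟩ := exists_oA_iso sA (q ≫ d ≫ oStr sA (P ⊗[A] P))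
  let e : (yon S).obj (oA sA E) ⟶ pullback pV pV := (yon S).map (iE.hom ≫ q) ≫ eR.hom
  haveI : Epi ((yon S).map q) := epi_of_etale_surjective hqe hqsj
  haveI : Epi e := by
    simp only [e, Functor.map_comp]
    infer_instance
  have hmap : ∀ (pr : pullback pV pV ⟶ (yon S).obj (oA sA P)), pr ≫ pV = pullback.fst pV pV ≫ pV →
      ∃ r : P →ₐ[A] E, e ≫ pr = (yon S).map (oMap sA r) := by
    intro pr hpr
    obtain ⟨m, hm⟩ := (yon S).map_surjective (e ≫ pr)
    obtain ⟨r, hr⟩ := exists_oMap sA m ((yon S).map_injective (by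
      rw [Functor.map_comp, hm, ← hiE, ← hpV, Category.assoc, reassoc_of% hpr]
      simp only [e, Functor.map_comp, Category.assoc, hd, ← hpV]
      congr 2
      rw [← oMap_str sA (Algebra.TensorProduct.includeLeft : P →ₐ[A] P ⊗[A] P), Functor.map_comp,
        hq.isoPullback_inv_fst_assoc, pullback.lift_fst_assoc, ← hpV]
      simp))
    exact ⟨r, by rw [hr, hm]⟩
  obtain ⟨r₁, he₁⟩ := hmap (pullback.fst pV pV) rfl
  obtain ⟨r₂, he₂⟩ := hmap (pullback.snd pV pV) pullback.condition.symm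
  obtain ⟨f', hf'⟩ := locNorm_affine sA f r₁ r₂ pV hVe hVs hpV e he₁ he₂
  exact ⟨_, _, f', hf'⟩

theorem exists_locNorm_of_isAffine {T : Over S} [IsAffine T.left] {Y : Sp S} (hY : IsAlgSpace Y)
    (f : Y ⟶ (yon S).obj T) (hqc : IsQuasiCompactMor f) (hqs : IsQuasiSeparatedMor f) :
    ∃ (N : Over S) (ν : N ⟶ T) (f' : Y ⟶ (yon S).obj N), LocNorm f ((yon S).map ν) f' := by
  let eT : oU (T.left.isoSpec.inv ≫ T.hom) ≅ T := Over.isoMk T.left.isoSpec.symm rfl
  have sq : IsPullback (𝟙 Y) (f ≫ (yon S).map eT.inv) f ((yon S).map eT.hom) :=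
    IsPullback.of_horiz_isIso ⟨by simp [← Functor.map_comp]⟩
  obtain ⟨N, ν, f', H⟩ := exists_locNorm_affine (T.left.isoSpec.inv ≫ T.hom) hY (f ≫ (yon S).map eT.inv)
    (isQuasiCompactMor_of_isPullback hY (IsAlgSpace.yon_obj T) (IsAlgSpace.yon_obj _) sq hqc)
    (isQuasiSeparatedMor_of_isPullback sq hqs)
  refine ⟨N, ν ≫ eT.hom, f', ?_⟩
  refine H.baseChange ((yon S).map eT.inv) (fun T' a ha => RepWith.comp ha ((repWith_yon_map_iff @Smooth eT.inv).2 (inferInstanceAs (Smooth eT.inv.left)))) (nF := 𝟙 _)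
    (IsPullback.of_horiz_isIso ⟨by simp [← Functor.map_comp]⟩) (yF := 𝟙 _) (IsPullback.of_horiz_isIso ⟨by simp⟩)
    (by simp) ?_
  rw [Functor.map_comp, reassoc_of% H.fac, ← Functor.map_comp, eT.inv_hom_id, CategoryTheory.Functor.map_id,
    Category.comp_id]

theorem exists_locNorm_sigma {ι : Type u} (V : ι → Over S) [∀ i, IsAffine (V i).left] {Y : Sp S} (hY : IsAlgSpace Y)
    (f : Y ⟶ (yon S).obj (sigmaOver V)) (hqc : IsQuasiCompactMor f) (hqs : IsQuasiSeparatedMor f) :
    ∃ (N : Over S) (ν : N ⟶ sigmaOver V) (f' : Y ⟶ (yon S).obj N), LocNorm f ((yon S).map ν) f' := by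
  have hYi : ∀ i, IsAlgSpace (pullback f ((yon S).map (sigmaOverι V i))) := fun i =>
    isAlgSpace_pullback (X := ⟨Y, hY⟩) (Y := ⟨_, IsAlgSpace.yon_obj (V i)⟩)
      (Z := ⟨_, IsAlgSpace.yon_obj (sigmaOver V)⟩) f _
  have hloc := fun i => exists_locNorm_of_isAffine (hYi i) (pullback.snd f ((yon S).map (sigmaOverι V i)))
    (isQuasiCompactMor_of_isPullback hY (IsAlgSpace.yon_obj _) (IsAlgSpace.yon_obj _) (IsPullback.of_hasPullback _ _) hqc)
    (isQuasiSeparatedMor_of_isPullback (IsPullback.of_hasPullback _ _) hqs)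
  choose Ni νi fi Hi using hloc
  let ν : sigmaOver Ni ⟶ sigmaOver V := Over.homMk (Limits.Sigma.map fun i => (νi i).left) (Sigma.hom_ext _ _ fun i => by
    show Sigma.ι (fun i => (Ni i).left) i ≫ Limits.Sigma.map (fun i => (νi i).left) ≫ Sigma.desc _ =
      Sigma.ι (fun i => (Ni i).left) i ≫ Sigma.desc _
    rw [Sigma.ι_map_assoc, Sigma.ι_desc, Sigma.ι_desc, Over.w (νi i)])
  have hw : ∀ i, sigmaOverι Ni i ≫ ν = νi i ≫ sigmaOverι V i := fun i =>
    Over.OverMorphism.ext (Sigma.ι_map (fun i => (νi i).left) i)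
  have sq : ∀ i, IsPullback ((yon S).map (sigmaOverι Ni i)) ((yon S).map (νi i)) ((yon S).map ν)
      ((yon S).map (sigmaOverι V i)) := fun i => by
    refine (IsPullback.of_map (Over.forget S) (hw i) ?_).map (yon S)
    refine (IsOpenImmersion.isPullback (νi i).left (sigmaOverι Ni i).left (sigmaOverι V i).left ν.left
      (congrArg (fun m => m.left) (hw i)) ?_).flip
    refine SetLike.coe_injective (Set.ext fun n => ⟨fun hn => ?_, ?_⟩)
    · obtain ⟨j, m, rfl⟩ := exists_mem_range_sigmaOverι Ni n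
      obtain rfl : j = i := by
        by_contra hne
        obtain ⟨v, hv⟩ := hn
        refine (disjoint_opensRange_sigmaι (fun i => (V i).left) j i hne).le_bot ⟨⟨(νi j).left m, ?_⟩, ⟨v, hv⟩⟩
        exact (congrArg (fun q => q.left m) (hw j)).symm
      exact ⟨m, rfl⟩
    · rintro ⟨m, rfl⟩
      exact ⟨(νi i).left m, (congrArg (fun q => q.left m) (hw i)).symm⟩
  have hint : IsIntegralHom ν.left := by
    rw [IsZariskiLocalAtTarget.iff_of_openCover (P := @IsIntegralHom) (sigmaOpenCover fun i => (V i).left)]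
    intro i
    have s1 : IsPullback (sigmaOverι Ni i).left (νi i).left ν.left (Sigma.ι (fun i => (V i).left) i) := by
      refine (IsOpenImmersion.isPullback (νi i).left (sigmaOverι Ni i).left (sigmaOverι V i).left ν.left
        (congrArg (fun m => m.left) (hw i)) ?_).flip
      refine SetLike.coe_injective (Set.ext fun n => ⟨fun hn => ?_, ?_⟩)
      · obtain ⟨j, m, rfl⟩ := exists_mem_range_sigmaOverι Ni n
        obtain rfl : j = i := by
          by_contra hne
          obtain ⟨v, hv⟩ := hn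
          refine (disjoint_opensRange_sigmaι (fun i => (V i).left) j i hne).le_bot ⟨⟨(νi j).left m, ?_⟩, ⟨v, hv⟩⟩
          exact (congrArg (fun q => q.left m) (hw j)).symm
        exact ⟨m, rfl⟩
      · rintro ⟨m, rfl⟩
        exact ⟨(νi i).left m, (congrArg (fun q => q.left m) (hw i)).symm⟩
    exact (MorphismProperty.arrow_mk_iso_iff @IsIntegralHom
      (Arrow.isoMk s1.isoPullback (Iso.refl _) (by simp [sigmaOpenCover]; exact s1.isoPullback_hom_snd))).1 ((repWith_yon_map_iff _ (νi i)).1 (Hi i).int)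
  -- the map from the source
  have key : ∀ ⦃Z : Over S⦄ (x : (yon S).obj Z ⟶ Y), ∃! y : (yon S).obj Z ⟶ (yon S).obj (sigmaOver Ni),
      ∀ (Z' : Over S) (v : Z' ⟶ Z) (i : ι) (x' : (yon S).obj Z' ⟶ pullback f ((yon S).map (sigmaOverι V i))),
        x' ≫ pullback.fst _ _ = (yon S).map v ≫ x →
        x' ≫ fi i ≫ (yon S).map (sigmaOverι Ni i) = (yon S).map v ≫ y := by
    intro Z x
    obtain ⟨z, hz⟩ := (yon S).map_surjective (x ≫ f)
    let O : ι → Z.left.Opens := fun i => z.left ⁻¹ᵁ (sigmaOverι V i).left.opensRange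
    let c : ∀ i, restrictOver Z (O i) ⟶ Z := fun i => restrictOverι Z (O i)
    have hc : ∀ t : Z.left, ∃ i, t ∈ Set.range (c i).left := fun t => by
      obtain ⟨i, hi⟩ := exists_mem_range_sigmaOverι V (z.left t)
      exact ⟨i, by rw [range_restrictOverι]; exact hi⟩
    let zi : ∀ i, restrictOver Z (O i) ⟶ V i := fun i => Over.homMk
      (z.left.resLE _ (O i) le_rfl ≫ (sigmaOverι V i).left.isoOpensRange.inv) (by
        rw [Category.assoc, ← Over.w (sigmaOverι V i), Scheme.Hom.isoOpensRange_inv_comp_assoc,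
          Scheme.Hom.resLE_comp_ι_assoc, Over.w z]
        rfl)
    have hzi : ∀ i, zi i ≫ sigmaOverι V i = c i ≫ z := fun i => Over.OverMorphism.ext (by
      show (z.left.resLE _ (O i) le_rfl ≫ _) ≫ _ = (O i).ι ≫ z.left
      rw [Category.assoc, Scheme.Hom.isoOpensRange_inv_comp, Scheme.Hom.resLE_comp_ι])
    let xi : ∀ i, (yon S).obj (restrictOver Z (O i)) ⟶ pullback f ((yon S).map (sigmaOverι V i)) := fun i =>
      pullback.lift ((yon S).map (c i) ≫ x) ((yon S).map (zi i))
        (by rw [Category.assoc, ← hz, ← Functor.map_comp, ← Functor.map_comp, hzi])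
    have agree : ∀ {W : Over S} {i j : ι} (a : (yon S).obj W ⟶ pullback f ((yon S).map (sigmaOverι V i)))
        (b : (yon S).obj W ⟶ pullback f ((yon S).map (sigmaOverι V j))), a ≫ pullback.fst _ _ = b ≫ pullback.fst _ _ →
        a ≫ fi i ≫ (yon S).map (sigmaOverι Ni i) = b ≫ fi j ≫ (yon S).map (sigmaOverι Ni j) := by
      intro W i j a b e
      obtain ⟨a', ha'⟩ := (yon S).map_surjective (a ≫ pullback.snd _ _)
      obtain ⟨b', hb'⟩ := (yon S).map_surjective (b ≫ pullback.snd _ _)
      have e' : a' ≫ sigmaOverι V i = b' ≫ sigmaOverι V j := (yon S).map_injective (by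
        rw [Functor.map_comp, Functor.map_comp, ha', hb', Category.assoc, Category.assoc, ← pullback.condition,
          ← pullback.condition, reassoc_of% e])
      rcases eq_or_ne i j with rfl | hne
      · haveI : Mono (sigmaOverι V i) := Over.mono_of_mono_left _
        rw [show a = b from (cancel_mono (pullback.fst f ((yon S).map (sigmaOverι V i)))).1 e]
      · haveI : IsEmpty W.left := ⟨fun w => (disjoint_opensRange_sigmaι (fun i => (V i).left) i j hne).le_bot
          ⟨⟨a'.left w, rfl⟩, ⟨b'.left w, (congrArg (fun k => k.left w) e').symm⟩⟩⟩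
        exact (subsingleton_hom_of_isEmpty W _).elim _ _
    obtain ⟨y, hy⟩ := yon_exists_glue c hc (fun i => xi i ≫ fi i ≫ (yon S).map (sigmaOverι Ni i))
      fun i j W a b e => by
        rw [← Category.assoc, ← Category.assoc ((yon S).map b)]
        refine agree _ _ ?_
        simp only [Category.assoc, xi, pullback.lift_fst]
        rw [← Category.assoc, ← Category.assoc, ← Functor.map_comp, ← Functor.map_comp, e]
    refine ⟨y, fun Z' v i x' hx' => ?_, fun y' hy' => yon_hom_ext_of_cover c hc _ _ fun i =>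
      (hy' _ (c i) i (xi i) (pullback.lift_fst _ _ _)).symm.trans (hy i).symm⟩
    refine yon_hom_ext_of_cover (fun j => restrictOverι Z' (v.left ⁻¹ᵁ O j)) (fun t => ?_) _ _ fun j => ?_
    · obtain ⟨j, hj⟩ := exists_mem_range_sigmaOverι V (z.left (v.left t))
      exact ⟨j, by rw [range_restrictOverι]; exact hj⟩
    · let vj : restrictOver Z' (v.left ⁻¹ᵁ O j) ⟶ restrictOver Z (O j) := Over.homMk (v.left.resLE _ _ le_rfl) (by
        show _ ≫ (O j).ι ≫ Z.hom = (v.left ⁻¹ᵁ O j).ι ≫ Z'.hom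
        rw [Scheme.Hom.resLE_comp_ι_assoc, Over.w v])
      have hvj : vj ≫ c j = restrictOverι Z' (v.left ⁻¹ᵁ O j) ≫ v := Over.OverMorphism.ext (Scheme.Hom.resLE_comp_ι _ _)
      rw [← Category.assoc, agree ((yon S).map (restrictOverι Z' (v.left ⁻¹ᵁ O j)) ≫ x') ((yon S).map vj ≫ xi j) (by
          rw [Category.assoc, Category.assoc, hx', pullback.lift_fst, ← Category.assoc, ← Category.assoc,
            ← Functor.map_comp, ← Functor.map_comp, hvj]),
        Category.assoc, ← hy j, ← Category.assoc, ← Functor.map_comp, hvj, Functor.map_comp, Category.assoc]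
  choose η hη hηu using key
  let f' : Y ⟶ (yon S).obj (sigmaOver Ni) := PushSp.homOfNat η fun Z Z' v x => hηu _ _ fun Z'' v' i x' hx' => by
    rw [hη x Z'' (v' ≫ v) i x' (by rw [hx', Functor.map_comp, Category.assoc]), Functor.map_comp, Category.assoc]
  have hf' : ∀ i, pullback.fst f ((yon S).map (sigmaOverι V i)) ≫ f' = fi i ≫ (yon S).map (sigmaOverι Ni i) := fun i =>
    hom_ext_of_yon fun W x' => by
      rw [← Category.assoc, PushSp.comp_homOfNat, hη (x' ≫ pullback.fst _ _) W (𝟙 _) i x' (by simp),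
        CategoryTheory.Functor.map_id, Category.id_comp]
  have hfac : f' ≫ (yon S).map ν = f := hom_ext_of_yon fun Z x => by
    obtain ⟨z, hz⟩ := (yon S).map_surjective (x ≫ f)
    refine yon_hom_ext_of_cover (fun i => restrictOverι Z (z.left ⁻¹ᵁ (sigmaOverι V i).left.opensRange)) (fun t => ?_) _ _
      fun i => ?_
    · obtain ⟨i, hi⟩ := exists_mem_range_sigmaOverι V (z.left t)
      exact ⟨i, by rw [range_restrictOverι]; exact hi⟩
    · let zi : restrictOver Z (z.left ⁻¹ᵁ (sigmaOverι V i).left.opensRange) ⟶ V i := Over.homMk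
        (z.left.resLE _ _ le_rfl ≫ (sigmaOverι V i).left.isoOpensRange.inv) (by
          rw [Category.assoc, ← Over.w (sigmaOverι V i), Scheme.Hom.isoOpensRange_inv_comp_assoc,
            Scheme.Hom.resLE_comp_ι_assoc, Over.w z]
          rfl)
      have hzi : zi ≫ sigmaOverι V i = restrictOverι Z _ ≫ z := Over.OverMorphism.ext (by
        show (z.left.resLE _ _ le_rfl ≫ _) ≫ _ = _ ≫ z.left
        rw [Category.assoc, Scheme.Hom.isoOpensRange_inv_comp, Scheme.Hom.resLE_comp_ι]
        rfl)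
      have r : (yon S).map (restrictOverι Z (z.left ⁻¹ᵁ (sigmaOverι V i).left.opensRange)) ≫ x =
          pullback.lift ((yon S).map (restrictOverι Z _) ≫ x) ((yon S).map zi)
            (by rw [Category.assoc, ← hz, ← Functor.map_comp, ← Functor.map_comp, hzi]) ≫
          pullback.fst f ((yon S).map (sigmaOverι V i)) := (pullback.lift_fst _ _ _).symm
      have hi' : pullback.fst f ((yon S).map (sigmaOverι V i)) ≫ f' ≫ (yon S).map ν = pullback.fst f _ ≫ f := by
        rw [reassoc_of% hf' i, ← Functor.map_comp, hw, Functor.map_comp, reassoc_of% (Hi i).fac, pullback.condition]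
      refine ((Category.assoc _ _ _).symm.trans (congrArg (· ≫ f' ≫ (yon S).map ν) r)).trans ?_
      refine Eq.trans ?_ (((Category.assoc _ _ _).symm.trans (congrArg (· ≫ f) r)).symm)
      exact (Category.assoc _ _ _).trans ((congrArg _ hi').trans (Category.assoc _ _ _).symm)
  refine ⟨_, ν, f', hfac, (repWith_yon_map_iff _ ν).2 hint, fun T hT a ha => ?_⟩
  obtain ⟨a, rfl⟩ := (yon S).map_surjective a
  refine LocNorm.univAt_of_opens ((yon S).map a) (fun O => ∃ i, O.1 ≤ a.left ⁻¹ᵁ (sigmaOverι V i).left.opensRange)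
    (fun t => ?_) (fun O P ⟨i, hi⟩ hP => ⟨i, hP.trans hi⟩) fun O ⟨i, hi⟩ => ?_
  · obtain ⟨i, hi⟩ := exists_mem_range_sigmaOverι V (a.left t)
    obtain ⟨O, hO, htO, hsub⟩ := exists_isAffineOpen_mem_and_subset (X := T.left)
      (U := a.left ⁻¹ᵁ (sigmaOverι V i).left.opensRange) (x := t) hi
    exact ⟨⟨O, hO⟩, ⟨i, hsub⟩, htO⟩
  let ai : restrictOver T O.1 ⟶ V i := Over.homMk
    (a.left.resLE _ O.1 hi ≫ (sigmaOverι V i).left.isoOpensRange.inv) (by
      rw [Category.assoc, ← Over.w (sigmaOverι V i), Scheme.Hom.isoOpensRange_inv_comp_assoc,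
        Scheme.Hom.resLE_comp_ι_assoc, Over.w a]
      rfl)
  have hai : ai ≫ sigmaOverι V i = restrictOverι T O.1 ≫ a := Over.OverMorphism.ext (by
    show (a.left.resLE _ O.1 hi ≫ _) ≫ _ = O.1.ι ≫ a.left
    rw [Category.assoc, Scheme.Hom.isoOpensRange_inv_comp, Scheme.Hom.resLE_comp_ι])
  have hais : RepWith @Smooth ((yon S).map ai) := (repWith_yon_map_iff _ ai).2 (by
    haveI : Smooth a.left := (repWith_yon_map_iff _ a).1 ha
    show Smooth (a.left.resLE _ O.1 hi ≫ (sigmaOverι V i).left.isoOpensRange.inv)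
    infer_instance)
  rw [← Functor.map_comp, ← hai, Functor.map_comp]
  intro N' Y' nF nS sqN yF yS sqY k hk1 hk2
  refine (Hi i).univ (T := restrictOver T O.1) O.2 _ hais ((sq i).lift nF (nS ≫ (yon S).map ai) (by rw [sqN.w, Category.assoc])) nS
    (IsPullback.of_right (by rw [(sq i).lift_fst]; exact sqN) ((sq i).lift_snd _ _ _) (sq i))
    (pullback.lift yF (yS ≫ (yon S).map ai) (by rw [sqY.w, Category.assoc])) yS
    (IsPullback.of_right (by rw [pullback.lift_fst]; exact sqY) (pullback.lift_snd _ _ _) (IsPullback.of_hasPullback _ _)) k ?_ hk2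
  refine (sq i).hom_ext ?_ ?_
  · rw [Category.assoc, (sq i).lift_fst, hk1, Category.assoc, ← hf' i, pullback.lift_fst_assoc]
  · rw [Category.assoc, (sq i).lift_snd, reassoc_of% hk2, Category.assoc, (Hi i).fac, pullback.lift_snd]

end Groth.Agent.AlgSpLib
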