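import Groth.Agent.AlgSpLib.LimitSystem
import Groth.Agent.AlgSpLib.WhereLocus
import Mathlib.AlgebraicGeometry.AffineTransitionLimit
import Mathlib.RingTheory.FinitePresentation

/-!
# Limits of systems with closed immersions as transition maps
-/

universe u

set_option autoImplicit false
set_option backward.isDefEq.respectTransparency.types false

open CategoryTheory CategoryTheory.Limits AlgebraicGeometry Opposite AlgSp

namespace Groth.Agent.AlgSpLib

section Scheme

variable {J : Type u} [SmallCategory J] [IsCofiltered J] {E : J ⥤ Scheme.{u}}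
  [∀ j, IsAffine (E.obj j)] {cE : Cone E}

/-- A system of affine schemes with closed immersions as transition maps whose limit is finitely
presented over a stage is eventually constant. -/
theorem exists_isIso_π_of_closedImmersion (hc : IsLimit cE)
    (hcl : ∀ {i j : J} (f : i ⟶ j), IsClosedImmersion (E.map f)) (o : J)
    (hfp : LocallyOfFinitePresentation (cE.π.app o)) :
    ∃ (j : J) (_ : j ⟶ o), ∀ k, (k ⟶ j) → IsIso (cE.π.app k) := by
  have : IsAffine cE.pt := Scheme.isAffine_of_isLimit cE hc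
  have haff : ∀ {i j : J} (f : i ⟶ j), IsAffineHom (E.map f) := fun f => inferInstance
  have hsurj : ∀ k, Function.Surjective (cE.π.app k).appTop.hom := fun k y => by
    obtain ⟨m, t, ht⟩ := exists_appTop_π_eq_of_isAffine_of_isLimit E cE hc y
    have := hcl (IsCofiltered.minToRight m k)
    obtain ⟨r, hr⟩ := (E.map (IsCofiltered.minToRight m k)).app_surjective _ (isAffineOpen_top _)
      ((E.map (IsCofiltered.minToLeft m k)).appTop t)
    refine ⟨r, ?_⟩
    show (cE.π.app k).appTop r = y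
    rw [← cE.w (IsCofiltered.minToRight m k), Scheme.Hom.comp_appTop]
    show (cE.π.app _).appTop ((E.map (IsCofiltered.minToRight m k)).appTop r) = y
    erw [hr]
    show ((E.map (IsCofiltered.minToLeft m k)).appTop ≫ (cE.π.app _).appTop) t = y
    rw [← Scheme.Hom.comp_appTop, cE.w, ht]
  let πo : cE.pt ⟶ E.obj o := cE.π.app o
  have hfp' : LocallyOfFinitePresentation πo := hfp
  rw [HasRingHomProperty.iff_of_isAffine (P := @LocallyOfFinitePresentation.{u})] at hfp'
  algebraize [πo.appTop.hom]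
  obtain ⟨σ, hσ⟩ := Algebra.FinitePresentation.ker_fG_of_surjective
    (Algebra.ofId Γ(E.obj o, ⊤) Γ(cE.pt, ⊤)) (hsurj o)
  have hk : ∀ g : σ, ∃ (j : J) (φ : j ⟶ o), (E.map φ).appTop g.1 = 0 := fun g => by
    have hg : (cE.π.app o).appTop g.1 = (cE.π.app o).appTop 0 := by
      have : g.1 ∈ RingHom.ker (Algebra.ofId Γ(E.obj o, ⊤) Γ(cE.pt, ⊤)) :=
        hσ ▸ Ideal.subset_span g.2
      rw [map_zero]
      exact this
    obtain ⟨j, φ, h⟩ := exists_app_map_eq_map_of_isLimit E cE hc (i := o)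
      (U := (⊤ : (E.obj o).Opens)) isCompact_univ g.1 0 hg
    exact ⟨j, φ, h.trans (map_zero _)⟩
  choose j φ hj using hk
  obtain ⟨l, ψ, gk, hl⟩ := IsCofiltered.wideCospan φ
  refine ⟨l, ψ, fun k f => ?_⟩
  have hkill : ∀ r, (cE.π.app o).appTop r = 0 → (E.map (f ≫ ψ)).appTop r = 0 := fun r hr => by
    have hr' : r ∈ Ideal.span (σ : Set Γ(E.obj o, ⊤)) := hσ ▸ hr
    refine (Ideal.span_le (I := RingHom.ker (E.map (f ≫ ψ)).appTop.hom)).2 ?_ hr'
    intro g hg
    show (E.map (f ≫ ψ)).appTop g = 0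
    rw [← hl ⟨g, hg⟩, ← Category.assoc, E.map_comp, Scheme.Hom.comp_appTop]
    show (E.map (f ≫ gk ⟨g, hg⟩)).appTop ((E.map (φ ⟨g, hg⟩)).appTop g) = 0
    rw [hj ⟨g, hg⟩, map_zero]
  let πk : cE.pt ⟶ E.obj k := cE.π.app k
  have : IsClosedImmersion πk := IsClosedImmersion.of_surjective_of_isAffine πk (hsurj k)
  show IsIso πk
  refine IsClosedImmersion.isIso_of_injective_of_isAffine ?_
  intro x y hxy
  have hco := hcl (f ≫ ψ)
  obtain ⟨r, hr⟩ := (E.map (f ≫ ψ)).app_surjective _ (isAffineOpen_top _) (x - y)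
  have h0 : (cE.π.app o).appTop r = 0 := by
    rw [← cE.w (f ≫ ψ), Scheme.Hom.comp_appTop]
    show (cE.π.app k).appTop ((E.map (f ≫ ψ)).appTop r) = 0
    erw [hr]
    rw [map_sub]
    exact sub_eq_zero.2 hxy
  refine sub_eq_zero.1 ?_
  rw [← hr]
  exact hkill r h0

end Scheme

variable {S : Scheme.{u}} {I : Type u} [SmallCategory I] [IsCofiltered I] {D : I ⥤ Sp S}

theorem isAffineMor_of_closedImmersion {F G : Sp S} {f : F ⟶ G}
    (hf : RepWith @IsClosedImmersion f) : IsAffineMor f :=
  isAffineMor_of_repWith (RepWith.mono (fun _ _ g (_ : IsClosedImmersion g) =>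
    (inferInstance : IsAffineHom g)) hf)

set_option maxHeartbeats 800000 in
/-- A system of algebraic spaces with closed immersions as transition maps whose limit is locally
finitely presented over a quasi-compact stage is eventually constant. -/
theorem isIso_π_eventually (hD : ∀ i, IsAlgSpace (D.obj i))
    (hDc : ∀ (i j : I) (φ : i ⟶ j), RepWith @IsClosedImmersion (D.map φ)) (c : Cone D)
    (hc : IsLimit c) (o : I) (hqc : IsQuasiCompactSp (D.obj o))
    (hfp : LocP @LocallyOfFinitePresentation (c.π.app o)) :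
    ∃ (j : I) (_ : j ⟶ o), ∀ k, (k ⟶ j) → IsIso (c.π.app k) := by
  have hDa : ∀ (i j : I) (φ : i ⟶ j), IsAffineMor (D.map φ) := fun i j φ =>
    isAffineMor_of_closedImmersion (hDc i j φ)
  have := (isQuasiCompactSp_iff_compactSpace (hD o)).1 hqc
  obtain ⟨V, v, hV, hve, hvs⟩ := exists_affine_chart (hD o)
  obtain ⟨E, η, pr, cE, hcE, θ, -, hnat, hsq, hpr, hη, hθe, hθs, hπ⟩ :=
    exists_chart_system D hDa c hc v hve hvs
  let E' : Over o ⥤ Scheme.{u} := E ⋙ Over.forget S
  have haffine : ∀ j, IsAffine (E'.obj j) := fun j => by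
    have := hpr j
    show IsAffine (E.obj j).left
    exact isAffine_of_isAffineHom (pr j).left
  have hcl : ∀ {j k : Over o} (φ : j ⟶ k), IsClosedImmersion (E'.map φ) := fun {j k} φ => by
    refine (AlgSp.repWith_yon_map_iff @IsClosedImmersion (E.map φ)).1 ?_
    exact RepWith.baseChange (hnat φ).flip (hDc _ _ φ.left)
  obtain ⟨j, -, hj⟩ := exists_isIso_π_of_closedImmersion hcE hcl (Over.mk (𝟙 o))
    (hfp θ (η (Over.mk (𝟙 o))) (cE.π.app (Over.mk (𝟙 o))) hθe (hη _).1 (hπ (Over.mk (𝟙 o))).w.symm)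
  refine ⟨j.left, j.hom, fun k ψ => ?_⟩
  let K : Over o := Over.mk (ψ ≫ j.hom)
  have hK := hj K (Over.homMk ψ rfl)
  have hr : Representable (c.π.app K.left) :=
    ((isAffineMor_iff_repWith _).1 (isAffineMor_π D hDa c hc K.left)).1
  have := isLocallySurjective_of_etale (hη K).1 (hη K).2
  exact isIso_of_repWith_isomorphisms (repWith_of_isLocallySurjective hr (η K) (hπ K).flip
    (MorphismProperty.isomorphisms Scheme.{u}) ((AlgSp.repWith_yon_map_iff _ _).2 hK))

end Groth.Agent.AlgSpLib
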