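import Groth.Agent.CAlgH3.WeakAss
import Groth.Agent.SDiv28.WeakAssPullback
import Groth.Agent.SDiv28.WeakAssMore
import Mathlib.RingTheory.Unramified.LocalStructure

/-!
Weakly associated primes of a base change along an etale ring map.
-/

universe u

open TensorProduct
open Groth.Agent.CAlgH3 (annEl mem_annEl)

namespace Groth.Agent.AlgSpLib

set_option linter.style.haveILetI false

variable {A : Type u} [CommRing A] {N : Type u} [AddCommGroup N] [Module A N]

theorem annEl_res_tmul {B B' : Type u} [CommRing B] [CommRing B'] [Algebra A B] [Algebra A B'] [Algebra B B']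
    [IsScalarTower A B B'] [Module.Flat B B'] (x : B ⊗[A] N) :
    annEl B' (LinearMap.rTensor N (IsScalarTower.toAlgHom A B B').toLinearMap x) =
      (annEl B x).map (algebraMap B B') := by
  rw [← SDiv28.annEl_one_tmul (A := B) (B := B') x,
    ← CAlgH3.annEl_map_of_injective (AlgebraTensorModule.cancelBaseChange A B B' B' N).toLinearMap
      (AlgebraTensorModule.cancelBaseChange A B B' B' N).injective ((1 : B') ⊗ₜ[B] x)]
  congr 1
  induction x using TensorProduct.induction_on with
  | zero => simp
  | tmul b n => simp [Algebra.smul_def]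
  | add y z hy hz => simp only [map_add, tmul_add, hy, hz]

theorem exists_smul_eq_res {B B' : Type u} [CommRing B] [CommRing B'] [Algebra A B] [Algebra A B'] [Algebra B B']
    [IsScalarTower A B B'] (S : Submonoid B) [IsLocalization S B'] (y : B' ⊗[A] N) :
    ∃ (s : S) (x : B ⊗[A] N),
      algebraMap B B' s • y = LinearMap.rTensor N (IsScalarTower.toAlgHom A B B').toLinearMap x := by
  induction y using TensorProduct.induction_on with
  | zero => exact ⟨1, 0, by simp⟩
  | tmul b n =>
    obtain ⟨⟨c, s⟩, hc⟩ := IsLocalization.surj S b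
    exact ⟨s, c ⊗ₜ n, by
      simp only [] at hc
      simp [TensorProduct.smul_tmul', Algebra.smul_def, mul_comm _ b, hc]⟩
  | add y z hy hz =>
    obtain ⟨s, x, hx⟩ := hy
    obtain ⟨t, w, hw⟩ := hz
    refine ⟨s * t, (t : B) • x + (s : B) • w, ?_⟩
    have hl : ∀ (b : B) (v : B ⊗[A] N), LinearMap.rTensor N (IsScalarTower.toAlgHom A B B').toLinearMap (b • v) =
        algebraMap B B' b • LinearMap.rTensor N (IsScalarTower.toAlgHom A B B').toLinearMap v := fun b v => by
      induction v using TensorProduct.induction_on with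
      | zero => simp
      | tmul c n => simp [TensorProduct.smul_tmul', Algebra.smul_def]
      | add y z hy hz => simp only [map_add, smul_add, hy, hz]
    rw [map_add, hl, hl, ← hx, ← hw, Submonoid.coe_mul, map_mul, smul_add, smul_smul, smul_smul,
      mul_comm (algebraMap B B' t)]

theorem annEl_unit_smul {B : Type u} [CommRing B] {M : Type u} [AddCommGroup M] [Module B M] {a : B}
    (ha : IsUnit a) (y : M) : annEl B (a • y) = annEl B y := by
  ext r
  rw [mem_annEl, mem_annEl, smul_comm]
  exact ha.smul_eq_zero

theorem minimalPrimes_of_finite_free {C : Type u} [CommRing C] [Algebra A C] [Module.Finite A C] [Module.Free A C]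
    (z : C ⊗[A] N) {q : Ideal C} (hq : q ∈ (annEl C z).minimalPrimes) :
    q.comap (algebraMap A C) ∈ FlatCA.weakAss A N := by
  classical
  obtain ⟨s, hs⟩ := SDiv28.weakAss_comap_of_finite (R := A) z hq
  rw [← CAlgH3.annEl_restrictScalars (R := A)] at hs
  let b := Module.Free.chooseBasis A C
  let κ : C ⊗[A] N ≃ₗ[A] (Module.Free.ChooseBasisIndex A C → N) :=
    TensorProduct.equivFinsuppOfBasisLeft b ≪≫ₗ Finsupp.linearEquivFunOnFinite A N _
  rw [← CAlgH3.annEl_map_of_injective κ.toLinearMap κ.injective] at hs
  generalize hv : κ.toLinearMap (s • z) = v at hs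
  have h1 : ∏ i, annEl A (v i) ≤ q.comap (algebraMap A C) := fun r hr =>
    hs.1.2 (mem_annEl.2 (funext fun i => mem_annEl.1
      (Ideal.le_of_dvd (Finset.dvd_prod_of_mem (fun i => annEl A (v i)) (Finset.mem_univ i)) hr)))
  haveI := hs.1.1
  obtain ⟨i, -, hi⟩ := (Ideal.IsPrime.prod_le inferInstance).1 h1
  refine CAlgH3.mem_weakAss.2 ⟨v i, CAlgH3.minimalPrimes_anti hs (fun r hr => ?_) hi⟩
  exact mem_annEl.2 (congrFun (mem_annEl.1 hr) i)

variable {B : Type u} [CommRing B] [Algebra A B]

theorem comap_mem_weakAss_of_isStandardEtale [Algebra.IsStandardEtale A B] (y : B ⊗[A] N) {q : Ideal B}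
    (hq : q ∈ (annEl B y).minimalPrimes) : q.comap (algebraMap A B) ∈ FlatCA.weakAss A N := by
  obtain ⟨P⟩ := Algebra.IsStandardEtale.nonempty_standardEtalePresentation (R := A) (S := B)
  let e := P.equivRing.trans P.P.equivAwayAdjoinRoot
  let C := AdjoinRoot P.P.f
  let g : C := AdjoinRoot.mk P.P.f P.P.g
  letI : Algebra C B := (e.symm.toAlgHom.toRingHom.comp (algebraMap C (Localization.Away g))).toAlgebra
  haveI : IsScalarTower A C B := IsScalarTower.of_algebraMap_eq fun a => by
    change algebraMap A B a = e.symm (algebraMap C (Localization.Away g) (algebraMap A C a))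
    rw [← IsScalarTower.algebraMap_apply, AlgEquiv.commutes]
  haveI : IsLocalization.Away g B :=
    IsLocalization.isLocalization_of_algEquiv (Submonoid.powers g)
      ({ e.symm.toRingEquiv with commutes' := fun c => rfl } : Localization.Away g ≃ₐ[C] B)
  haveI : Module.Flat C B := IsLocalization.flat B (Submonoid.powers g)
  haveI : Module.Finite A C := P.P.monic_f.finite_adjoinRoot
  haveI : Module.Free A C := P.P.monic_f.free_adjoinRoot
  obtain ⟨s, z, hz⟩ := exists_smul_eq_res (A := A) (Submonoid.powers g) y
  rw [← annEl_unit_smul (IsLocalization.map_units B s) y, hz, annEl_res_tmul z] at hq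
  rw [IsLocalization.minimalPrimes_map (Submonoid.powers g) B] at hq
  have := minimalPrimes_of_finite_free z hq
  rwa [Ideal.comap_comap, ← IsScalarTower.algebraMap_eq] at this

/-- weakly associated primes of a base change along an etale map -/
theorem mem_weakAss_tensor_iff [Algebra.Etale A B] (q : Ideal B) [q.IsPrime] :
    q ∈ FlatCA.weakAss B (B ⊗[A] N) ↔ q.comap (algebraMap A B) ∈ FlatCA.weakAss A N := by
  constructor
  · intro h
    obtain ⟨x, hx⟩ := CAlgH3.mem_weakAss.1 h
    obtain ⟨f, hf, H⟩ := Algebra.IsEtaleAt.exists_isStandardEtale (R := A) q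
    haveI := H
    have hd : Disjoint (Submonoid.powers f : Set B) (q : Set B) :=
      Set.disjoint_left.2 fun t ⟨n, hn⟩ ht => hf (Ideal.IsPrime.mem_of_pow_mem ‹_› n
        ((congrArg (· ∈ q) (show f ^ n = t from hn)).mpr ht))
    have hc : (q.map (algebraMap B (Localization.Away f))).comap (algebraMap B (Localization.Away f)) = q :=
      IsLocalization.under_map_of_isPrime_disjoint (Submonoid.powers f) _ ‹_› hd
    haveI : Module.Flat B (Localization.Away f) := IsLocalization.flat _ (Submonoid.powers f)
    have hq : q.map (algebraMap B (Localization.Away f)) ∈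
        (annEl (Localization.Away f) (LinearMap.rTensor N (IsScalarTower.toAlgHom A B (Localization.Away f)).toLinearMap x)).minimalPrimes := by
      rw [annEl_res_tmul, IsLocalization.minimalPrimes_map (Submonoid.powers f) (Localization.Away f),
        Set.mem_preimage, Ideal.under_def, hc]
      exact hx
    have := comap_mem_weakAss_of_isStandardEtale _ hq
    rwa [IsScalarTower.algebraMap_eq A B (Localization.Away f), ← Ideal.comap_comap, hc] at this
  · intro h
    obtain ⟨n, hn⟩ := CAlgH3.mem_weakAss.1 h
    refine CAlgH3.mem_weakAss.2 ⟨(1 : B) ⊗ₜ n, ?_⟩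
    rw [SDiv28.annEl_one_tmul]
    refine ⟨⟨inferInstance, Ideal.map_le_iff_le_comap.2 hn.1.2⟩, fun q' hq' hle => ?_⟩
    haveI := hq'.1
    refine le_of_eq ?_
    exact (Algebra.QuasiFinite.eq_of_le_of_under_eq (R := A) q' q hle (le_antisymm (Ideal.comap_mono hle)
      (hn.2 ⟨inferInstance, Ideal.map_le_iff_le_comap.1 hq'.2⟩ (Ideal.comap_mono hle)))).symm

end Groth.Agent.AlgSpLib
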