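import Groth.Agent.AlgSpLib.QCohEtSections
import Groth.Agent.AlgSpLib.WeakAssEtale
import Groth.Agent.AlgSpLib.MorMore3

/-!
Weakly associated points of quasi-coherent modules on the small etale site do not depend on the affine chart.
-/

universe u

open CategoryTheory CategoryTheory.Limits AlgebraicGeometry Opposite TensorProduct
open AlgSp

noncomputable section

set_option linter.style.haveILetI false

namespace Groth.Agent.AlgSpLib.QCohEt

set_option backward.isDefEq.respectTransparency.types false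
set_option backward.isDefEq.respectTransparency false

theorem etale_comp {R A B : Type*} [CommRing R] [CommRing A] [CommRing B] {f : R →+* A} {g : A →+* B}
    (hf : f.Etale) (hg : g.Etale) : (g.comp f).Etale := by
  algebraize [f, g, g.comp f]
  haveI : Algebra.Etale R A := hf
  haveI : Algebra.Etale A B := hg
  exact Algebra.Etale.comp R A B

variable {S : Scheme.{u}} {X : Sp S}

/-- the prime of a point in the ring of the object -/
def primeE (E : EtOver X) (u : E.obj.left.left) : Ideal (ΓE E) :=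
  (primeAtPt E.obj.left.left u).comap (ULift.ringEquiv (R := Γ(E.obj.left.left, ⊤))).toRingHom

instance (E : EtOver X) (u : E.obj.left.left) : (primeE E u).IsPrime := Ideal.IsPrime.comap _

theorem annSect_eq {M : ModEt X} {E : EtOver X} (s : Sec M E) :
    annSect (M := M) (E := E) s =
      (CAlgH3.annEl (ΓE E) s).comap (ULift.ringEquiv (R := Γ(E.obj.left.left, ⊤))).symm.toRingHom := by
  ext a
  rw [mem_annSect_iff, Ideal.mem_comap, CAlgH3.mem_annEl]
  rfl

theorem isWeakAssOn_iff_mem {M : ModEt X} {E : EtOver X} [IsAff E] (u : E.obj.left.left) :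
    IsWeakAssOn M E u ↔ primeE E u ∈ FlatCA.weakAss (ΓE E) (Sec M E) := by
  rw [CAlgH3.mem_weakAss]
  refine exists_congr fun s => ?_
  let e := ULift.ringEquiv (R := Γ(E.obj.left.left, ⊤))
  have hp : ((primeAtPt E.obj.left.left u).comap e.toRingHom).comap e.symm.toRingHom =
      primeAtPt E.obj.left.left u := by
    ext a
    rw [Ideal.mem_comap, Ideal.mem_comap]
    exact iff_of_eq (congrArg (· ∈ primeAtPt E.obj.left.left u) (e.apply_symm_apply a))
  constructor
  · intro h
    have h1 := Ideal.minimalPrimes_comap_of_surjective (f := e.toRingHom) e.surjective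
      ((congrArg (fun J : Ideal _ => primeAtPt E.obj.left.left u ∈ J.minimalPrimes) (annSect_eq s)).mp h)
    refine (congrArg (fun J : Ideal _ => primeE E u ∈ J.minimalPrimes) ?_).mp h1
    ext a; simp [e]
  · intro h
    have h1 := Ideal.minimalPrimes_comap_of_surjective (f := e.symm.toRingHom) e.symm.surjective h
    rw [primeE, hp] at h1
    exact (congrArg (fun J : Ideal _ => primeAtPt E.obj.left.left u ∈ J.minimalPrimes) (annSect_eq s)).mpr h1

theorem primeAtPt_comap {U V : Scheme.{u}} (f : U ⟶ V) (u : U) :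
    (primeAtPt U u).comap f.appTop.hom = primeAtPt V (f u) := by
  ext a
  rw [primeAtPt, primeAtPt, Ideal.mem_comap, Ideal.mem_comap, Ideal.mem_comap, IsLocalRing.mem_maximalIdeal,
    IsLocalRing.mem_maximalIdeal, mem_nonunits_iff, mem_nonunits_iff, not_iff_not,
    ← Scheme.mem_basicOpen_top, ← Scheme.mem_basicOpen_top]
  rw [show f.appTop.hom a = f.app ⊤ a from rfl, ← Scheme.preimage_basicOpen]
  rfl

theorem primeE_comap {E E' : EtOver X} (g : E' ⟶ E) (u' : E'.obj.left.left) :
    (primeE E' u').comap (ΓMap g).hom = primeE E (g.hom.left.left u') := by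
  rw [primeE, primeE, ← primeAtPt_comap g.hom.left.left u', Ideal.comap_comap, Ideal.comap_comap]
  rfl

theorem etale_ΓMap {E E' : EtOver X} (g : E' ⟶ E) [IsAff E] [IsAff E'] : (ΓMap g).hom.Etale := by
  have := EtOver.etale_left g
  have h : g.hom.left.left.appTop.hom.Etale :=
    (HasRingHomProperty.iff_of_isAffine (P := @Etale)).1 inferInstance
  rw [ΓMap_eq g]
  exact etale_comp (RingHom.Etale.of_bijective ULift.ringEquiv.bijective)
    (etale_comp h (RingHom.Etale.of_bijective ULift.ringEquiv.symm.bijective))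

variable (M : ModEt X) [M.IsQuasicoherent]

/-- base change on sections as a linear equivalence -/
def bcEquiv (E : EtOver X) (W : Over E) [IsAff E] [IsAff W.left] :
    ΓE W.left ⊗[ΓE E] Sec M E ≃ₗ[ΓE W.left] Sec M W.left :=
  LinearEquiv.ofBijective (M₂ := Sec M W.left) (σ₁₂ := RingHom.id (ΓE W.left))
    { toFun := bcMap M E W
      map_add' := map_add _
      map_smul' := fun r x =>
        preDescAdd_smul (G := (M.over E).val) (N := Sec M E) (AddMonoidHom.id _) (fun _ _ => rfl) W r x }
    (isBC M E W inferInstance)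

/-- weak associatedness along an etale map of affine charts -/
theorem isWeakAssOn_iff_of_hom {E E' : EtOver X} [IsAff E] [IsAff E'] (g : E' ⟶ E) (u' : E'.obj.left.left) :
    IsWeakAssOn M E' u' ↔ IsWeakAssOn M E (g.hom.left.left u') := by
  let W : Over E := Over.mk g
  haveI : IsAff W.left := (inferInstance : IsAff E')
  haveI : Algebra.Etale (ΓE E) (ΓE W.left) := etale_ΓMap g
  rw [isWeakAssOn_iff_mem, isWeakAssOn_iff_mem, ← primeE_comap g u']
  let e := bcEquiv M E W
  have h1 : FlatCA.weakAss (ΓE W.left) (ΓE W.left ⊗[ΓE E] Sec M E) = FlatCA.weakAss (ΓE W.left) (Sec M W.left) :=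
    (CAlgH3.weakAss_subset_of_injective e.toLinearMap e.injective).antisymm
      (CAlgH3.weakAss_subset_of_injective e.symm.toLinearMap e.symm.injective)
  refine (iff_of_eq (congrArg (fun s => primeE W.left u' ∈ s) h1.symm)).trans ?_
  exact mem_weakAss_tensor_iff (A := ΓE E) (B := ΓE W.left) (N := Sec M E) (primeE W.left u')

omit M in
/-- two affine charts through a point have a common affine refinement -/
theorem exists_common_refinement (hX : IsAlgSpace X) {E₁ E₂ : EtOver X} {u₁ : E₁.obj.left.left}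
    {u₂ : E₂.obj.left.left} (e : Points.ofPt E₁.obj.hom u₁ = Points.ofPt E₂.obj.hom u₂) :
    ∃ (E : EtOver X) (_ : IsAff E) (g₁ : E ⟶ E₁) (g₂ : E ⟶ E₂) (u : E.obj.left.left),
      g₁.hom.left.left u = u₁ ∧ g₂.hom.left.left u = u₂ := by
  have sq := (hX.representable_from_yon E₁.obj.hom).isPullback E₂.obj.hom
  obtain ⟨p, hp⟩ := (yon S).map_surjective ((hX.representable_from_yon E₁.obj.hom).fst E₂.obj.hom)
  rw [← hp] at sq
  obtain ⟨r, hr1, hr2⟩ := (Groth.Agent.AlgSpLib.ofPt_eq_ofPt_iff sq _ _).1 e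
  let R := (hX.representable_from_yon E₁.obj.hom).pullback E₂.obj.hom
  obtain ⟨O, hO, hrO, -⟩ := exists_isAffineOpen_mem_and_subset (X := R.left) (x := r) (U := ⊤) trivial
  let T : Over S := Over.mk (O.ι ≫ R.hom)
  let j : T ⟶ R := Over.homMk O.ι
  have hp' : Etale p.left := E₂.property.2 E₁.obj.hom _ _ sq.flip
  have hpe : RepWith @Etale ((yon S).map p ≫ E₁.obj.hom) :=
    RepWith.comp ((repWith_yon_map_iff _ p).2 hp') E₁.property
  let E : EtOver X := EtOver.mk ((yon S).map j ≫ (yon S).map p ≫ E₁.obj.hom)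
    (RepWith.comp ((repWith_yon_map_iff _ j).2 (inferInstanceAs (Etale O.ι))) hpe)
  let g₁ : E ⟶ E₁ := EtOver.homMk (j ≫ p) (by rw [Functor.map_comp, Category.assoc]; rfl)
  let g₂ : E ⟶ E₂ := EtOver.homMk (j ≫ (hX.representable_from_yon E₁.obj.hom).snd E₂.obj.hom) (by
    rw [Functor.map_comp, Category.assoc, ← sq.w]; rfl)
  exact ⟨E, hO, g₁, g₂, ⟨r, hrO⟩, hr1, hr2⟩

/-- weak associatedness does not depend on the chart -/
theorem mem_weakAssEt_iff (hX : IsAlgSpace X) {x : Points X} {E : EtOver X} [IsAff E] {u : E.obj.left.left}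
    (e : Points.ofPt E.obj.hom u = x) : x ∈ WeakAssEt M ↔ IsWeakAssOn M E u := by
  refine ⟨?_, fun h => ⟨E, inferInstance, u, e, h⟩⟩
  rintro ⟨E', hE', u', e', h⟩
  haveI : IsAff E' := hE'
  obtain ⟨E₃, hE₃, g₁, g₂, w, rfl, rfl⟩ := exists_common_refinement hX (e.trans e'.symm)
  haveI := hE₃
  exact (isWeakAssOn_iff_of_hom M g₁ w).1 ((isWeakAssOn_iff_of_hom M g₂ w).2 h)

omit M in
/-- every point lies on an affine chart -/
theorem exists_affine_chart (hX : IsAlgSpace X) (x : Points X) :
    ∃ (E : EtOver X) (_ : IsAff E) (u : E.obj.left.left), Points.ofPt E.obj.hom u = x := by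
  obtain ⟨U, a, hae, has⟩ := hX.atlas
  obtain ⟨t, rfl⟩ := surjective_ofPt a has x
  obtain ⟨O, hO, htO, -⟩ := exists_isAffineOpen_mem_and_subset (X := U.left) (x := t) (U := ⊤) trivial
  let T : Over S := Over.mk (O.ι ≫ U.hom)
  let j : T ⟶ U := Over.homMk O.ι
  refine ⟨EtOver.mk ((yon S).map j ≫ a)
    (RepWith.comp ((repWith_yon_map_iff _ j).2 (inferInstanceAs (Etale O.ι))) hae), hO, ⟨t, htO⟩, ?_⟩
  exact ofPt_map j a (⟨t, htO⟩ : O.toScheme)

end Groth.Agent.AlgSpLib.QCohEt
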