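import Groth.Agent.AlgSpLib.SymQuot
import Groth.Agent.AlgSpLib.PointsCompact
import Groth.Agent.Stk19b.RedInd

/-!
Filtration of a quasi-compact algebraic space by the number of lifts along an affine chart.
-/

universe u

open CategoryTheory CategoryTheory.Limits AlgebraicGeometry Opposite
open AlgSp

noncomputable section

namespace Groth.Agent.AlgSpLib

set_option backward.isDefEq.respectTransparency.types false

variable {S : Scheme.{u}} {X : Sp S}

theorem manyLifts_succ_subset {U : Over S} (a : (yon S).obj U ⟶ X) (n : ℕ) :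
    manyLifts a (n + 1) ⊆ manyLifts a n := by
  rintro x ⟨Ω, hΩ, str, h, hh, f, hf, hfi⟩
  exact ⟨Ω, hΩ, str, h, hh, fun i => f i.castSucc, fun i => hf _, hfi.comp (Fin.castSucc_injective n)⟩

theorem manyLifts_antitone {U : Over S} (a : (yon S).obj U ⟶ X) : Antitone (manyLifts a) :=
  antitone_nat_of_succ_le fun n => manyLifts_succ_subset a n

theorem manyLifts_one {U : Over S} (a : (yon S).obj U ⟶ X) (hs : RepWith @Surjective a) :
    manyLifts a 1 = Set.univ := by
  refine Set.eq_univ_of_forall fun x => ?_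
  obtain ⟨u, rfl⟩ := surjective_ofPt a hs x
  obtain ⟨g, hg⟩ := FlatMorWeight.exists_geomPt u
  refine ⟨_, inferInstance, _, (yon S).map (geomHom g) ≫ a, ?_, fun _ => geomHom g, fun _ => rfl,
    fun i j _ => Subsingleton.elim i j⟩
  rw [ptOfHom_yon_map]
  exact congrArg _ hg

/-- bounded number of lifts when the arrows are compact -/
theorem exists_bound_manyLifts (hX : IsAlgSpace X) {U R : Over S} [IsAffine U.left] (a : (yon S).obj U ⟶ X)
    (ha : RepWith @Etale a) {s t : R ⟶ U} (sqR : IsPullback ((yon S).map t) ((yon S).map s) a a)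
    [CompactSpace ↥R.left] : ∃ N, manyLifts a (N + 1) = ∅ := by
  classical
  have : Etale s.left := ha.property _ _ _ sqR
  have : IsSeparated U.hom := inferInstance
  have : IsSeparated s.left := (repWith_isSeparated_of_isSeparated_source hX a).property _ _ _ sqR
  have := locallyQuasiFinite_of_etale s.left
  have : QuasiCompact s.left := quasiCompact_of_compactSpace s.left
  choose D π e hπ hqc he hinj hfac using fun n => exists_distinct_lifts s.left n
  have hmany : ∀ n, (manyLifts a (n + 1)).Nonempty → (Set.range (π (n + 1))).Nonempty := by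
    rintro n ⟨x, Ω, hΩ, str, h, -, f, hf, hfi⟩
    choose m hm using fun i : Fin (n + 1) => (yon S).map_surjective (sqR.lift ((yon S).map (f i))
      ((yon S).map (f 0)) ((hf i).trans (hf 0).symm))
    have hmt : ∀ i, m i ≫ t = f i := fun i =>
      (yon S).map_injective (by rw [Functor.map_comp, hm, sqR.lift_fst])
    have hms : ∀ i, m i ≫ s = f 0 := fun i =>
      (yon S).map_injective (by rw [Functor.map_comp, hm, sqR.lift_snd])
    obtain ⟨d, hd, -⟩ := hfac (n + 1) Ω (f 0).left (fun i => (m i).left)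
      (fun i => congrArg (fun k => k.left) (hms i)) fun i j hij =>
      hfi (by rw [← hmt i, ← hmt j, show m i = m j from Over.OverMorphism.ext hij])
    exact ⟨_, FlatMorWeight.pt d, rfl⟩
  have : ∀ n, CompactSpace ↥(D n) := fun n => by
    have := hqc n inferInstance
    exact QuasiCompact.compactSpace_of_compactSpace (π n)
  have hmono : ∀ n, Set.range (π (n + 1)) ⊆ Set.range (π n) := fun n => by
    rintro _ ⟨d, rfl⟩
    obtain ⟨g, hg⟩ := FlatMorWeight.exists_geomPt d
    obtain ⟨h, hh, -⟩ := hfac n _ (g ≫ π (n + 1)) (fun i => g ≫ e (n + 1) i.castSucc)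
      (fun i => by rw [Category.assoc, he]) fun i j hij => Fin.castSucc_injective n (hinj (n + 1) _ g hij)
    exact ⟨FlatMorWeight.pt h, by rw [← FlatMorWeight.pt_comp, hh, FlatMorWeight.pt_comp, hg]⟩
  by_contra hcon
  simp only [not_exists, ← Set.not_nonempty_iff_eq_empty, not_not] at hcon
  have hanti : Antitone fun n => Set.range (π n) := antitone_nat_of_succ_le hmono
  obtain ⟨z, -, hz⟩ : ((Set.univ : Set ↥U.left) ∩ ⋂ k, Set.range (π (k + 1))).Nonempty := by
    refine @IsCompact.inter_iInter_nonempty U.left (constructibleTopology U.left) Set.univ ℕ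
      (H8ProCons.isCompact_cons (@isClosed_univ _ (constructibleTopology U.left))) (fun k => Set.range (π (k + 1)))
      (fun k => (@isOpen_compl_iff U.left _ (constructibleTopology U.left)).1
        (H8ProCons.isOpen_cons_compl_of_isCompact (π (k + 1)).isOpenMap.isOpen_range
          (isCompact_range (π (k + 1)).continuous))) fun σ => ?_
    obtain ⟨z, hz⟩ := hmany _ (hcon (σ.sup id))
    exact ⟨z, trivial, Set.mem_iInter₂.2 fun k hk =>
      hanti (Nat.succ_le_succ (Finset.le_sup (f := id) hk)) hz⟩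
  obtain ⟨n, hn⟩ := notMem_range_of_finite s.left π e hπ he hinj z (s.left.finite_preimage_singleton z)
  exact hn (hanti (Nat.le_succ n) (Set.mem_iInter.1 hz n))

/-- charts of spaces over quasi-separated bases are quasi-compact when the space is quasi-separated -/
theorem repWith_qc_chart [QuasiSeparatedSpace ↥S] (hX : IsAlgSpace X) (hs : IsQuasiSeparatedSp X)
    {U : Over S} [IsAffine U.left] (a : (yon S).obj U ⟶ X) : RepWith @QuasiCompact a := by
  have hT := IsAlgSpace.yon_obj (S := S) U
  have hB := IsAlgSpace.yon_obj (S := S) (Over.mk (𝟙 S))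
  obtain ⟨q, -⟩ := exists_to_base X
  obtain ⟨c, hc⟩ := (yon S).map_surjective (a ≫ q)
  have : QuasiSeparatedSpace ↥(Over.mk (𝟙 S)).left := inferInstanceAs (QuasiSeparatedSpace ↥S)
  have : QuasiCompact c.left := quasiCompact_of_compactSpace c.left
  refine (repWith_quasiCompact_iff hT hX (representable_diag_iff.1 hX.diag a)).2
    (isQuasiCompactMor_cancel hT hX hB (g := q) ?_ ((isQuasiSeparatedMor_iff_sp q).2 hs))
  rw [← hc]
  exact (repWith_quasiCompact_iff hT hB (representable_yon_map c)).1
    ((repWith_yon_map_iff (P := @QuasiCompact) c).2 inferInstance)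

/-- points with quasi-compact representatives have a last stratum -/
theorem exists_last_manyLifts {U : Over S} [IsAffine U.left] (a : (yon S).obj U ⟶ X) (ha : RepWith @Etale a)
    {k : Type u} [Field k] {str : Spec (CommRingCat.of k) ⟶ S} (q : (yon S).obj (Over.mk str) ⟶ X)
    (hq : RepWith @QuasiCompact q) : ∃ N, ptOfHom q ∉ manyLifts a (N + 1) := by
  classical
  obtain ⟨c, hc⟩ := (yon S).map_surjective (hq.1.fst a)
  let P := hq.1.pullback a
  let d : P ⟶ U := hq.1.snd a
  have sq : IsPullback ((yon S).map c) ((yon S).map d) q a := hc ▸ hq.1.isPullback a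
  have : Etale c.left := (repWith_yon_map_iff @Etale c).1 (RepWith.baseChange sq.flip ha)
  have := locallyQuasiFinite_of_etale c.left
  have : QuasiCompact d.left := hq.property_snd a
  have : CompactSpace ↥P.left := QuasiCompact.compactSpace_of_compactSpace d.left
  have hsub : Subsingleton ↥(Over.mk str).left := inferInstanceAs (Subsingleton ↥(Spec (CommRingCat.of k)))
  have : IsAffine (Over.mk str).left := inferInstanceAs (IsAffine (Spec (CommRingCat.of k)))
  have : QuasiCompact c.left := (quasiCompact_iff_compactSpace (f := c.left)).2 inferInstance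
  have : Finite ↥P.left := by
    refine Set.finite_univ_iff.1 ?_
    rcases isEmpty_or_nonempty ↥P.left with h | ⟨⟨z⟩⟩
    · exact Set.toFinite _
    · exact (c.left.finite_preimage_singleton (c.left z)).subset fun w _ => Subsingleton.elim _ _
  have := Fintype.ofFinite ↥P.left
  let deg : ↥P.left → ℕ := fun u =>
    letI := (c.left.residueFieldMap u).hom.toAlgebra
    Field.finSepDegree ((Over.mk str).left.residueField (c.left u)) (P.left.residueField u)
  refine ⟨∑ u, deg u, ?_⟩
  rintro ⟨Ω₀, _, str₀, h, hh, f, hf, hfi⟩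
  obtain ⟨K, _, w, i, j, hij⟩ := (ptOfHom_eq_iff _ _).1 hh
  let ΩK : Type u := AlgebraicClosure K
  let ε : Spec (CommRingCat.of ΩK) ⟶ Spec (CommRingCat.of K) :=
    Spec.map (CommRingCat.ofHom (algebraMap K ΩK))
  let E : Over.mk (ε ≫ w) ⟶ Over.mk w := Over.homMk ε
  have hg : ∀ l, ∃ g : Over.mk (ε ≫ w) ⟶ P, g ≫ c = E ≫ j ∧ g ≫ d = E ≫ i ≫ f l := fun l => by
    have hl : (yon S).map (E ≫ j) ≫ q = (yon S).map (E ≫ i ≫ f l) ≫ a := by
      simp only [Functor.map_comp, Category.assoc, hf, hij]
    obtain ⟨g, hg⟩ := (yon S).map_surjective (sq.lift _ _ hl)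
    exact ⟨g, (yon S).map_injective (by rw [Functor.map_comp, hg, sq.lift_fst]),
      (yon S).map_injective (by rw [Functor.map_comp, hg, sq.lift_snd])⟩
  choose g hgc hgd using hg
  let v : Spec (CommRingCat.of ΩK) ⟶ (Over.mk str).left := (E ≫ j).left
  let Fib := fun u : ↥P.left =>
    {z : Spec (CommRingCat.of ΩK) ⟶ P.left // z ≫ c.left = v ∧ FlatMorWeight.pt z = u}
  have hF : ∀ u, Finite (Fib u) ∧ Nat.card (Fib u) = deg u := fun u =>
    ⟨(FlatMorWeight.card_GP_at c.left v u (Subsingleton.elim _ _)).1,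
      (FlatMorWeight.card_GP_at c.left v u (Subsingleton.elim _ _)).2.1⟩
  have := fun u => (hF u).1
  have hinj : Function.Injective fun l => (⟨FlatMorWeight.pt (g l).left, (g l).left,
      congrArg (fun m => m.left) (hgc l), rfl⟩ : Σ u, Fib u) := fun l l' e => by
    have h0 : g l = g l' := Over.OverMorphism.ext (congrArg (fun z : Σ u, Fib u => z.2.1) e)
    have h1 : (E ≫ i ≫ f l) = E ≫ i ≫ f l' := by rw [← hgd, ← hgd, h0]
    exact hfi (Over.OverMorphism.ext (injective_comp_of_field i.left (injective_comp_of_field E.left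
      (congrArg (fun m => m.left) h1))))
  have h := Nat.card_le_card_of_injective _ hinj
  rw [Nat.card_sigma, Nat.card_eq_fintype_card, Fintype.card_fin,
    Finset.sum_congr rfl fun u _ => (hF u).2] at h
  exact Nat.not_succ_le_self _ h

/-- the filtration by number of lifts -/
theorem exists_filtration (X : AlgSp.Space S) {U : Over S} [IsAffine U.left]
    (a : (yon S).obj U ⟶ X.obj) (ha : RepWith @Etale a) (has : RepWith @Surjective a) :
    ∃ (Uo : ℕ → AlgSp.Space S) (j : ∀ p, Uo p ⟶ X) (k : ∀ p, Uo (p + 1) ⟶ Uo p)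
      (T : ℕ → AlgSp.Space S) (i : ∀ p, T p ⟶ Uo p),
      (∀ p, RepWith @IsOpenImmersion (j p).hom) ∧ (∀ p, k p ≫ j p = j (p + 1)) ∧ IsIso (j 1) ∧
      (∀ p, Set.range (Points.map (j (p + 1)).hom) = manyLifts a (p + 1)) ∧
      (∀ p, IsRedInduced (Set.range (Points.map (k p).hom))ᶜ (i p).hom) ∧
      (∀ p, 1 ≤ p → ∃ (V : Over S) (f : (yon S).obj V ⟶ (Uo p).obj), V.left.IsSeparated ∧
        (RepWith @QuasiCompact a → CompactSpace ↥V.left) ∧
        RepWith @Etale f ∧ RepWith @Surjective f ∧
        ∀ (P : Sp S) (fst : P ⟶ (T p).obj) (snd : P ⟶ (yon S).obj V),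
          IsPullback fst snd (i p).hom f → IsIso fst) ∧
      (∀ p, 1 ≤ p → ∀ x, x ∈ manyLifts a p → x ∉ manyLifts a (p + 1) →
        x ∈ Set.range (Points.map ((i p) ≫ (j p)).hom)) := by
  classical
  have hX := X.property
  let Ω : ℕ → Set (Points X.obj) := fun p => if p = 0 then Set.univ else manyLifts a p
  have hΩeq : ∀ p, Ω (p + 1) = manyLifts a (p + 1) := fun p => if_neg p.succ_ne_zero
  have hΩo : ∀ p, IsOpen (Ω p) := fun p => by
    cases p with
    | zero => exact isOpen_univ
    | succ p =>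
      obtain ⟨V, f, hf, -, -, hr, -⟩ := exists_unorderedTuples hX a ha p
      rw [hΩeq, ← hr]
      exact (isOpenMap_ofPt f hf).isOpen_range
  have hΩs : ∀ p, Ω (p + 1) ⊆ Ω p := fun p => by
    cases p with
    | zero => exact Set.subset_univ _
    | succ p => rw [hΩeq, hΩeq]; exact manyLifts_succ_subset a (p + 1)
  let Uo : ℕ → AlgSp.Space S := fun p =>
    ⟨openSubspace X.obj (Ω p), isAlgSpace_openSubspace hX (hΩo p)⟩
  let j : ∀ p, Uo p ⟶ X := fun p => ObjectProperty.homMk (openSubspaceι X.obj (Ω p))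
  have hj : ∀ p, RepWith @IsOpenImmersion (j p).hom := fun p => repWith_openSubspaceι X.obj (hΩo p)
  have hjr : ∀ p, Set.range (Points.map (j p).hom) = Ω p := fun p => range_openSubspaceι X.obj (Ω p)
  have hjm : ∀ p, Mono (j p).hom := fun p => inferInstanceAs (Mono (openSubspaceι X.obj (Ω p)))
  have hk : ∀ p, ∃ k : (Uo (p + 1)).obj ⟶ (Uo p).obj, k ≫ (j p).hom = (j (p + 1)).hom := fun p =>
    (exists_lift_iff_range_subset (hj p) _).2 (by rw [hjr, hjr]; exact hΩs p)
  choose k hk using hk
  have hkr : ∀ p, Set.range (Points.map (k p)) = Points.map (j p).hom ⁻¹' Ω (p + 1) := fun p => by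
    ext y
    constructor
    · rintro ⟨z, rfl⟩
      rw [Set.mem_preimage, ← Points.map_comp, hk, ← hjr]
      exact ⟨z, rfl⟩
    · intro hy
      obtain ⟨z, hz⟩ := (hjr (p + 1)).symm.subset hy
      have := hjm p
      exact ⟨z, injective_map_of_mono (j p).hom (by rw [← Points.map_comp, hk, hz])⟩
  have hcl : ∀ p, IsClosed (Set.range (Points.map (k p)))ᶜ := fun p => by
    rw [hkr, isClosed_compl_iff]
    exact (hΩo (p + 1)).preimage (Points.continuous_map _)
  choose T i hi using fun p => Stk19b.RedInd.exists_isRedInduced (Uo p) _ (hcl p)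
  refine ⟨Uo, j, fun p => ObjectProperty.homMk (k p), T, i, hj, fun p => ?_, ?_, fun p => (hjr _).trans (hΩeq p),
    hi, fun p hp => ?_, fun p hp x hx hx' => ?_⟩
  · exact ObjectProperty.hom_ext _ (hk p)
  · obtain ⟨g, hg⟩ := (exists_lift_iff_range_subset (hj 1) (𝟙 X.obj)).2 (by
      rw [hjr, hΩeq, manyLifts_one a has]; exact Set.subset_univ _)
    have := hjm 1
    have : IsIso (j 1).hom := ⟨g, by rw [← cancel_mono (j 1).hom, Category.assoc, hg, Category.comp_id,
      Category.id_comp], hg⟩
    have : IsIso ((ObjectProperty.ι _).map (j 1)) := this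
    exact isIso_of_reflects_iso (j 1) (ObjectProperty.ι _)
  · obtain ⟨p, rfl⟩ : ∃ p', p = p' + 1 := ⟨p - 1, by omega⟩
    obtain ⟨V, f₀, hf₀, hVs, hVc, hr, huniq⟩ := exists_unorderedTuples hX a ha p
    have hrg : Set.range (Points.map f₀) ⊆ Set.range (Points.map (j (p + 1)).hom) := by
      rw [hjr, hΩeq, ← hr]
      rintro _ ⟨z, rfl⟩
      obtain ⟨v, rfl⟩ := (Points.schemeEquiv V).surjective z
      exact ⟨v, Points.ofPt_eq_map_ofScheme f₀ v⟩
    obtain ⟨f, hf⟩ := (exists_lift_iff_range_subset (hj (p + 1)) f₀).2 hrg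
    have := hjm (p + 1)
    have hfe : RepWith @Etale f := repWith_of_comp_mono f (j (p + 1)).hom (hf.symm ▸ hf₀)
    have hfs : RepWith @Surjective f := repWith_surjective_of_surjective_map hfe.1 fun y => by
      obtain ⟨v, hv⟩ : Points.map (j (p + 1)).hom y ∈ Set.range (Points.ofPt f₀) := by
        rw [hr, ← hΩeq, ← hjr]; exact ⟨y, rfl⟩
      refine ⟨Points.ofScheme V v, injective_map_of_mono (j (p + 1)).hom ?_⟩
      rw [← Points.map_comp, hf, ← Points.ofPt_eq_map_ofScheme, hv]
    refine ⟨V, f, hVs, hVc, hfe, hfs, fun P fst snd sq => ?_⟩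
    have hfste : RepWith @Etale fst := RepWith.baseChange sq.flip hfe
    have hfsts : RepWith @Surjective fst := RepWith.baseChange sq.flip hfs
    refine isIso_of_repWith_isomorphisms ⟨hfste.1, fun Q T' g b c sqb => ?_⟩
    show IsIso c.left
    have : Etale c.left := hfste.property _ _ _ sqb
    have : Surjective c.left := hfsts.property _ _ _ sqb
    have : Surjective (pullback.diagonal c.left) := ⟨fun z => by
      obtain ⟨h, hh⟩ := FlatMorWeight.exists_geomPt z
      let z₁ := h ≫ pullback.fst c.left c.left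
      let z₂ := h ≫ pullback.snd c.left c.left
      let G₁ := geomHom z₁
      let G₂ : Over.mk (z₁ ≫ T'.hom) ⟶ T' := Over.homMk z₂ (by
        show (h ≫ pullback.snd c.left c.left) ≫ T'.hom = (h ≫ pullback.fst c.left c.left) ≫ T'.hom
        rw [Category.assoc, Category.assoc, ← Over.w c, pullback.condition_assoc])
      have ec : G₁ ≫ c = G₂ ≫ c := Over.OverMorphism.ext (by
        show (h ≫ _) ≫ c.left = (h ≫ _) ≫ c.left
        rw [Category.assoc, Category.assoc, pullback.condition])
      obtain ⟨v₁, hv₁⟩ := (yon S).map_surjective ((yon S).map G₁ ≫ b ≫ snd)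
      obtain ⟨v₂, hv₂⟩ := (yon S).map_surjective ((yon S).map G₂ ≫ b ≫ snd)
      have eb : (yon S).map G₁ ≫ b ≫ fst = (yon S).map G₂ ≫ b ≫ fst := by
        rw [sqb.w, ← Functor.map_comp_assoc (yon S) G₁ c g, ← Functor.map_comp_assoc (yon S) G₂ c g, ec]
      have hv : (yon S).map v₂ ≫ f₀ = (yon S).map v₁ ≫ f₀ := by
        rw [← hf, hv₁, hv₂]
        simp only [Category.assoc, ← reassoc_of% sq.w, reassoc_of% eb]
      have hnot : ptOfHom ((yon S).map v₁ ≫ f₀) ∉ manyLifts a (p + 2) := fun hm => by
        have hm2 : ptOfHom ((yon S).map G₁ ≫ b ≫ fst ≫ (i (p + 1)).hom) ∈ Set.range (Points.map (k (p + 1))) := by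
          rw [hkr, Set.mem_preimage, map_ptOfHom, hΩeq]
          convert hm using 2
          rw [hv₁, ← hf]
          simp only [Category.assoc, reassoc_of% sq.w]
        have hT : ptOfHom ((yon S).map G₁ ≫ b ≫ fst ≫ (i (p + 1)).hom) ∈
            Set.range (Points.map (i (p + 1)).hom) :=
          ⟨ptOfHom ((yon S).map G₁ ≫ b ≫ fst), by rw [map_ptOfHom]; simp only [Category.assoc]⟩
        rw [(hi (p + 1)).2.1] at hT
        exact hT hm2
      have hveq := huniq _ _ _ hnot v₁ v₂ rfl hv
      have hb : (yon S).map G₁ ≫ b = (yon S).map G₂ ≫ b := by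
        refine sq.hom_ext (by simpa only [Category.assoc] using eb) ?_
        exact (Category.assoc _ _ _).trans (hv₁.symm.trans ((congrArg (yon S).map hveq).trans (hv₂.trans (Category.assoc _ _ _).symm)))
      have hG : G₁ = G₂ := (yon S).map_injective (sqb.hom_ext hb
        (by rw [← Functor.map_comp, ← Functor.map_comp, ec]))
      have hz : z₁ = z₂ := congrArg (fun k : Over.mk (z₁ ≫ T'.hom) ⟶ T' => k.left) hG
      refine ⟨FlatMorWeight.pt z₁, ?_⟩
      refine ((FlatMorWeight.pt_comp z₁ _).symm.trans ?_).trans hh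
      refine congrArg FlatMorWeight.pt (pullback.hom_ext ?_ ?_)
      · rw [Category.assoc, pullback.diagonal_fst, Category.comp_id]
      · rw [Category.assoc, pullback.diagonal_snd, Category.comp_id, hz]⟩
    have : IsIso (pullback.diagonal c.left) := (isIso_iff_isOpenImmersion_and_epi_base _).2
      ⟨inferInstance, (TopCat.epi_iff_surjective _).2 (pullback.diagonal c.left).surjective⟩
    have : Mono c.left := (pullback.isIso_diagonal_iff c.left).1 this
    have := IsOpenImmersion.of_flat_of_mono c.left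
    exact (isIso_iff_isOpenImmersion_and_epi_base _).2
      ⟨inferInstance, (TopCat.epi_iff_surjective _).2 c.left.surjective⟩
  · obtain ⟨p, rfl⟩ : ∃ p', p = p' + 1 := ⟨p - 1, by omega⟩
    obtain ⟨y, hy⟩ : x ∈ Set.range (Points.map (j (p + 1)).hom) := by rw [hjr, hΩeq]; exact hx
    have hy' : y ∈ Set.range (Points.map (i (p + 1)).hom) := by
      rw [(hi (p + 1)).2.1, hkr]
      show ¬ _ ∈ Ω (p + 1 + 1)
      rw [hy, hΩeq]
      exact hx'
    obtain ⟨z, rfl⟩ := hy'
    exact ⟨z, (Points.map_comp (i (p + 1)).hom (j (p + 1)).hom z).trans hy⟩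

end Groth.Agent.AlgSpLib
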