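import Groth.Agent.AlgSpLib.CartesianQuot
import Groth.Agent.AlgSpLib.LimitSystem
import Groth.Agent.H8Lim.DescentMore
import Mathlib.RingTheory.Smooth.NoetherianDescent

/-!
A limit of algebraic spaces with affine transition maps is affine only if a stage is affine.
-/

universe u

open CategoryTheory CategoryTheory.Limits AlgebraicGeometry Opposite
open AlgSp
open scoped TensorProduct

noncomputable section

namespace Groth.Agent.AlgSpLib.LimitAffine

set_option backward.isDefEq.respectTransparency.types false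

/-- base change of a kernel pair, with the two maps -/
theorem kernel_baseChange {C : Type*} [Category C] {Dj Do Uo Uj Ro Rj : C} {d : Dj ⟶ Do} {η : Uo ⟶ Do}
    {τ ς : Ro ⟶ Uo} {a : Uj ⟶ Uo} {ηj : Uj ⟶ Dj} {b : Rj ⟶ Ro} {ρj : Rj ⟶ Dj}
    (sq : IsPullback τ ς η η) (sqU : IsPullback a ηj η d) (sqR : IsPullback b ρj (τ ≫ η) d) :
    ∃ tj sj : Rj ⟶ Uj, tj ≫ a = b ≫ τ ∧ tj ≫ ηj = ρj ∧ sj ≫ a = b ≫ ς ∧ sj ≫ ηj = ρj ∧
      IsPullback b tj τ a ∧ IsPullback tj sj ηj ηj := by
  let tj := sqU.lift (b ≫ τ) ρj (by rw [Category.assoc]; exact sqR.w)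
  let sj := sqU.lift (b ≫ ς) ρj (by rw [Category.assoc, ← sq.w]; exact sqR.w)
  have sq1 : IsPullback b tj τ a :=
    IsPullback.of_bot (by rw [sqU.lift_snd]; exact sqR) (sqU.lift_fst _ _ _).symm sqU
  refine ⟨tj, sj, sqU.lift_fst _ _ _, sqU.lift_snd _ _ _, sqU.lift_fst _ _ _, sqU.lift_snd _ _ _, sq1, ?_⟩
  have h2 : IsPullback (b ≫ ς) tj η (a ≫ η) := sq1.paste_horiz sq.flip
  rw [sqU.w] at h2
  refine (IsPullback.of_right (h₁₁ := sj) ?_ ?_ sqU).flip
  · rw [sqU.lift_fst]
    exact h2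
  · rw [sqU.lift_snd, sqU.lift_snd]

/-- cartesianness over an etale covering of affine schemes descends to a stage -/
theorem exists_stage_cartesian {J : Type u} [SmallCategory J] [IsCofiltered J] {E F : J ⥤ Scheme.{u}}
    {cE : Cone E} {cF : Cone F} (hcE : IsLimit cE) [∀ {i j} (φ : i ⟶ j), IsAffineHom (E.map φ)]
    [∀ j, IsAffine (E.obj j)] (t : ∀ j, F.obj j ⟶ E.obj j) (t₀ : cF.pt ⟶ cE.pt)
    (sq : ∀ {i j} (φ : i ⟶ j), IsPullback (F.map φ) (t i) (t j) (E.map φ))
    (sq₀ : ∀ j, IsPullback (cF.π.app j) t₀ (t j) (cE.π.app j))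
    (i : J) [Etale (t i)] [CompactSpace (F.obj i)] [QuasiSeparatedSpace (F.obj i)]
    {V W : Scheme.{u}} [IsAffine V] [IsAffine W] (c : V ⟶ W) [Etale c] (g : E.obj i ⟶ W) (h : F.obj i ⟶ V)
    (w : t i ≫ g = h ≫ c) (hlim : IsPullback t₀ (cF.π.app i ≫ h) (cE.π.app i ≫ g) c) :
    ∃ (j : J) (φ : j ⟶ i), IsPullback (t j) (F.map φ ≫ h) (E.map φ ≫ g) c := by
  have : IsAffine (pullback g c) := inferInstance
  let p : pullback g c ⟶ E.obj i := pullback.fst g c
  let κ : F.obj i ⟶ pullback g c := pullback.lift (t i) h w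
  have : Etale (κ ≫ p) := by rw [pullback.lift_fst]; infer_instance
  have : Etale κ := Etale.of_comp κ p
  let E' := H8Lim.stage E p
  let o : Over i := Over.mk (𝟙 i)
  have hEo : IsIso (H8Lim.stageFst E p o) := H8Lim.isIso_stageFst_id E p
  let P₀ := pullback (cE.π.app i ≫ g) c
  let q : P₀ ⟶ pullback g c :=
    pullback.lift (pullback.fst _ _ ≫ cE.π.app i) (pullback.snd _ _) (by rw [Category.assoc]; exact pullback.condition)
  have sqq : IsPullback q (pullback.fst (cE.π.app i ≫ g) c) p (cE.π.app i) :=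
    (IsPullback.of_right (by rw [pullback.lift_snd]; exact (IsPullback.of_hasPullback _ c).flip)
      (pullback.lift_fst _ _ _) (IsPullback.of_hasPullback g c).flip)
  let c' := H8Lim.stageCone (D := E) p cE q (pullback.fst (cE.π.app i ≫ g) c) sqq
  have hc' : IsLimit c' := H8Lim.isLimitStageCone (D := E) p q (pullback.fst (cE.π.app i ≫ g) c) sqq hcE
  let a : F.obj i ⟶ E'.obj o := (H8Lim.isPullback_stage E p o).lift κ (t i) (by
    show κ ≫ p = t i ≫ E.map (𝟙 i)
    rw [E.map_id, Category.comp_id, pullback.lift_fst])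
  have ha1 : a ≫ H8Lim.stageFst E p o = κ := (H8Lim.isPullback_stage E p o).lift_fst _ _ _
  have : Etale (a ≫ H8Lim.stageFst E p o) := by rw [ha1]; infer_instance
  have : Etale a := Etale.of_comp a (H8Lim.stageFst E p o)
  have : CompactSpace (E'.obj o) := inferInstance
  have : IsAffine (E'.obj o) := IsAffine.of_isIso (H8Lim.stageFst E p o)
  have : QuasiCompact a := quasiCompact_of_compactSpace a
  have : QuasiSeparated a := QuasiSeparated.of_quasiSeparatedSpace a
  let b : cF.pt ⟶ P₀ := hlim.isoPullback.hom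
  have hb1 : b ≫ pullback.fst (cE.π.app i ≫ g) c = t₀ := hlim.isoPullback_hom_fst
  have hb2 : b ≫ pullback.snd (cE.π.app i ≫ g) c = cF.π.app i ≫ h := hlim.isoPullback_hom_snd
  have hqi : H8Lim.stageProj p cE q (pullback.fst (cE.π.app i ≫ g) c) sqq o ≫ H8Lim.stageFst E p o = q :=
    H8Lim.stageProj_fst _ _ _ _ _ _
  have sqb : IsPullback (cF.π.app i) b a (c'.π.app o) := by
    have s : IsPullback (cF.π.app i) b κ q := by
      refine IsPullback.of_bot ?_ ?_ sqq
      · rw [hb1, pullback.lift_fst]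
        exact sq₀ i
      · refine pullback.hom_ext ?_ ?_
        · rw [Category.assoc, pullback.lift_fst, Category.assoc, pullback.lift_fst, reassoc_of% hb1, (sq₀ i).w]
        · rw [Category.assoc, pullback.lift_snd, Category.assoc, pullback.lift_snd, hb2]
    refine s.of_iso (Iso.refl _) (Iso.refl _) (Iso.refl _) (asIso (H8Lim.stageFst E p o)).symm (by simp) (by simp) ?_ ?_
    · rw [Iso.refl_hom, Category.id_comp, Iso.symm_hom, asIso_inv, IsIso.comp_inv_eq, ha1]
    · rw [Iso.refl_hom, Category.id_comp, Iso.symm_hom, asIso_inv, IsIso.comp_inv_eq]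
      exact hqi.symm
  have : LocallyOfFinitePresentation a := inferInstance
  obtain ⟨j, φ, hφ⟩ := H8Lim.descends_isIso (J := Over i) E' c' hc' (fun φ => inferInstance) o a this b
    (cF.π.app i) sqb (inferInstanceAs (IsIso hlim.isoPullback.hom))
  have : IsIso (pullback.snd a (E'.map φ)) := hφ
  refine ⟨j.left, j.hom, ?_⟩
  have hjo : φ.left = j.hom := by simpa [o] using Over.w φ
  have hmap : E'.map φ ≫ H8Lim.stageFst E p o = H8Lim.stageFst E p j := H8Lim.stageMap_fst E p φ
  have hmap2 : E'.map φ ≫ H8Lim.stageSnd E p o = H8Lim.stageSnd E p j ≫ E.map φ.left := H8Lim.stageMap_snd E p φ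
  have sqj : IsPullback (H8Lim.stageSnd E p j) (H8Lim.stageFst E p j ≫ pullback.snd g c) (E.map j.hom ≫ g) c :=
    ((H8Lim.isPullback_stage E p j).flip.paste_vert (IsPullback.of_hasPullback g c))
  let κj : F.obj j.left ⟶ E'.obj j := sqj.lift (t j.left) (F.map j.hom ≫ h) (by
    rw [← Category.assoc, ← (sq j.hom).w, Category.assoc, w, Category.assoc])
  have hk1 : κj ≫ H8Lim.stageSnd E p j = t j.left := sqj.lift_fst _ _ _
  have hk2 : κj ≫ H8Lim.stageFst E p j ≫ pullback.snd g c = F.map j.hom ≫ h := sqj.lift_snd _ _ _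
  have hsq : IsPullback (F.map j.hom) κj a (E'.map φ) := by
    refine IsPullback.of_bot (v₂₁ := H8Lim.stageSnd E p j) (v₂₂ := H8Lim.stageSnd E p o) (h₃₁ := E.map φ.left) ?_ ?_
      (H8Lim.isPullback_stageMap E p φ)
    · rw [hk1, show a ≫ H8Lim.stageSnd E p o = t i from (H8Lim.isPullback_stage E p o).lift_snd _ _ _, hjo]
      exact sq j.hom
    · refine (cancel_mono (H8Lim.stageFst E p o)).1 (pullback.hom_ext ?_ ?_)
      · have e : H8Lim.stageFst E p j ≫ p = H8Lim.stageSnd E p j ≫ E.map j.hom :=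
          (H8Lim.isPullback_stage E p j).w
        rw [Category.assoc, Category.assoc, reassoc_of% ha1, pullback.lift_fst, Category.assoc, Category.assoc,
          reassoc_of% hmap, e, reassoc_of% hk1, (sq j.hom).w]
      · rw [Category.assoc, Category.assoc, reassoc_of% ha1, pullback.lift_snd, Category.assoc, Category.assoc,
          reassoc_of% hmap, hk2]
  have : IsIso κj := by
    rw [← hsq.isoPullback_hom_snd]; infer_instance
  refine sqj.of_iso (asIso κj).symm (Iso.refl _) (Iso.refl _) (Iso.refl _) ?_ ?_ (by simp) (by simp)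
  · simp [← hk1]
  · simp [← hk2]

/-- an etale covering of an affine scheme comes from one of affine schemes of finite presentation over the integers -/
theorem exists_etale_model {U T : Scheme.{u}} [IsAffine U] [IsAffine T] (π : U ⟶ T) [Etale π] [Surjective π] :
    ∃ (V W : Scheme.{u}) (c : V ⟶ W) (q : U ⟶ V) (w : T ⟶ W), IsAffine V ∧ IsAffine W ∧ Etale c ∧ Surjective c ∧
      LocallyOfFinitePresentation (terminal.from V) ∧ LocallyOfFinitePresentation (terminal.from W) ∧
      IsPullback q π c w := by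
  classical
  have hπ : π.appTop.hom.Etale := HasRingHomProperty.appTop (P := @Etale) π inferInstance
  algebraize [π.appTop.hom]
  let A : Type u := Γ(T, ⊤)
  let B : Type u := Γ(U, ⊤)
  obtain ⟨A₀, B₀, _, _, hA₀, hB₀, ⟨e⟩⟩ := Algebra.Etale.exists_subalgebra_fg (R := ℤ) (A := Γ(T, ⊤)) (B := Γ(U, ⊤))
  -- the model
  let c₀ : Spec (CommRingCat.of B₀) ⟶ Spec (CommRingCat.of A₀) := Spec.map (CommRingCat.ofHom (algebraMap A₀ B₀))
  have hc₀ : Etale c₀ :=
    (HasRingHomProperty.Spec_iff (P := @Etale)).2 ((RingHom.etale_algebraMap).2 hB₀)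
  let w₀ : Spec Γ(T, ⊤) ⟶ Spec (CommRingCat.of A₀) := Spec.map (CommRingCat.ofHom (algebraMap A₀ Γ(T, ⊤)))
  have sq₀ : IsPullback (Spec.map (CommRingCat.ofHom (S := Γ(T, ⊤) ⊗[A₀] B₀) Algebra.TensorProduct.includeLeftRingHom))
      (Spec.map (CommRingCat.ofHom (S := Γ(T, ⊤) ⊗[A₀] B₀) Algebra.TensorProduct.includeRight.toRingHom)) w₀ c₀ :=
    isPullback_SpecMap_of_isPushout _ _ _ _ (CommRingCat.isPushout_tensorProduct A₀ Γ(T, ⊤) B₀)
  let κ : U ≅ Spec (CommRingCat.of (Γ(T, ⊤) ⊗[A₀] B₀)) :=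
    U.isoSpec ≪≫ Scheme.Spec.mapIso (e.toRingEquiv.toCommRingCatIso.op).symm
  have hκ : κ.hom ≫ Spec.map (CommRingCat.ofHom (S := Γ(T, ⊤) ⊗[A₀] B₀) Algebra.TensorProduct.includeLeftRingHom) =
      π ≫ T.isoSpec.hom := by
    rw [← Scheme.isoSpec_hom_naturality]
    simp only [κ, Iso.trans_hom, Category.assoc]
    refine congrArg (U.isoSpec.hom ≫ ·) ?_
    show Spec.map _ ≫ Spec.map _ = _
    rw [← Spec.map_comp]
    congr 1
    ext a
    exact e.symm.commutes a
  let q₀ : U ⟶ Spec (CommRingCat.of B₀) :=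
    κ.hom ≫ Spec.map (CommRingCat.ofHom (S := Γ(T, ⊤) ⊗[A₀] B₀) Algebra.TensorProduct.includeRight.toRingHom)
  let w₁ : T ⟶ Spec (CommRingCat.of A₀) := T.isoSpec.hom ≫ w₀
  have sq₁ : IsPullback q₀ π c₀ w₁ :=
    (sq₀.of_iso κ.symm T.isoSpec.symm (Iso.refl _) (Iso.refl _) (by
      rw [Iso.symm_hom, Iso.symm_hom, Iso.eq_inv_comp, ← Category.assoc, Iso.comp_inv_eq, hκ]) (by simp [q₀])
      (by simp [w₁]) (by simp)).flip
  -- make it surjective
  obtain ⟨J, hJ⟩ := (PrimeSpectrum.isClosed_iff_zeroLocus_ideal _).1 c₀.isOpenMap.isOpen_range.isClosed_compl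
  have hJT : Ideal.map (algebraMap A₀ Γ(T, ⊤)) J = ⊤ := by
    rw [← PrimeSpectrum.zeroLocus_empty_iff_eq_top, Set.eq_empty_iff_forall_notMem]
    intro p hp
    obtain ⟨x, hx⟩ := π.surjective (T.isoSpec.inv p)
    have h1 : w₀ p ∈ PrimeSpectrum.zeroLocus (J : Set A₀) := by
      intro a ha
      exact hp (Ideal.mem_map_of_mem _ ha)
    have hr : Set.range c₀ = (PrimeSpectrum.zeroLocus (J : Set A₀))ᶜ := compl_eq_comm.1 hJ |>.symm
    have h2 : w₀ p ∈ Set.range c₀ := ⟨q₀ x, by
      rw [← Scheme.Hom.comp_apply, sq₁.w, Scheme.Hom.comp_apply, hx, ← Scheme.Hom.comp_apply]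
      simp [w₁]⟩
    rw [hr] at h2
    exact h2 h1
  obtain ⟨l, σ, hσJ, -, hσ⟩ := (Submodule.mem_span_iff_exists_finset_subset).1
    (show (1 : Γ(T, ⊤)) ∈ Submodule.span Γ(T, ⊤) (algebraMap A₀ Γ(T, ⊤) '' J) by
      show (1 : Γ(T, ⊤)) ∈ Ideal.map (algebraMap A₀ Γ(T, ⊤)) J
      rw [hJT]; trivial)
  let A₁ : Subalgebra ℤ Γ(T, ⊤) := A₀ ⊔ Algebra.adjoin ℤ (σ.image l : Set Γ(T, ⊤))
  have hA₁ : A₁.FG := hA₀.sup (Subalgebra.fg_adjoin_finset _)
  let i₁ : A₀ →ₐ[ℤ] A₁ := Subalgebra.inclusion le_sup_left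
  let r₁ : Spec (CommRingCat.of A₁) ⟶ Spec (CommRingCat.of A₀) := Spec.map (CommRingCat.ofHom i₁.toRingHom)
  let w₂ : T ⟶ Spec (CommRingCat.of A₁) :=
    T.isoSpec.hom ≫ Spec.map (CommRingCat.ofHom (algebraMap A₁ Γ(T, ⊤)))
  have hw : w₂ ≫ r₁ = w₁ := by
    show (_ ≫ Spec.map _) ≫ Spec.map _ = _ ≫ Spec.map _
    rw [Category.assoc, ← Spec.map_comp]
    rfl
  have hsur : ∀ p₁ : Spec (CommRingCat.of A₁), r₁ p₁ ∈ Set.range c₀ := fun p₁ => by
    rw [compl_eq_comm.1 hJ |>.symm]
    intro hp₁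
    refine p₁.2.ne_top ((Ideal.eq_top_iff_one _).2 ?_)
    have h1 : (1 : A₁) = ∑ x ∈ σ.attach,
        (⟨l x.1, le_sup_right (a := A₀) (Algebra.subset_adjoin (Finset.mem_image_of_mem l x.2))⟩ : A₁) *
          i₁ (hσJ x.2).choose := by
      refine Subtype.ext ?_
      push_cast
      rw [← hσ, ← Finset.sum_attach]
      refine Finset.sum_congr rfl fun x _ => ?_
      show _ = l x.1 * algebraMap A₀ Γ(T, ⊤) (hσJ x.2).choose
      rw [(hσJ x.2).choose_spec.2]
      rfl
    rw [h1]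
    exact Ideal.sum_mem _ fun x _ => Ideal.mul_mem_left _ _ (hp₁ (hσJ x.2).choose_spec.1)
  have sq₂ := IsPullback.of_hasPullback c₀ r₁
  let q : U ⟶ pullback c₀ r₁ := pullback.lift q₀ (π ≫ w₂) (sq₁.w.trans ((congrArg (π ≫ ·) hw.symm).trans (Category.assoc _ _ _).symm))
  have hs : Surjective (pullback.snd c₀ r₁) := ⟨fun p₁ => by
    obtain ⟨v, hv⟩ := hsur p₁
    obtain ⟨z, -, hz⟩ := Scheme.exists_preimage_of_isPullback sq₂ v p₁ hv
    exact ⟨z, hz⟩⟩
  have hlfp₁ : LocallyOfFinitePresentation (terminal.from (Spec (CommRingCat.of A₁))) := by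
    let f : CommRingCat.of (ULift.{u} ℤ) ⟶ CommRingCat.of A₁ := CommRingCat.isInitial.to _
    have hf : Algebra.FiniteType ℤ A₁ := ⟨A₁.fg_top.mpr hA₁⟩
    have hf' : f.hom.FiniteType :=
      RingHom.FiniteType.of_comp_finiteType (f := (algebraMap ℤ (ULift.{u} ℤ))) (g := f.hom) (by
        rw [RingHom.ext_int (f.hom.comp (algebraMap ℤ (ULift.{u} ℤ))) (algebraMap ℤ A₁)]
        exact RingHom.finiteType_algebraMap.2 hf)
    have : IsNoetherianRing (ULift.{u} ℤ) := isNoetherianRing_of_ringEquiv ℤ ULift.ringEquiv.symm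
    have : LocallyOfFinitePresentation (Spec.map f) :=
      (HasRingHomProperty.Spec_iff (P := @LocallyOfFinitePresentation)).2
        (RingHom.FinitePresentation.of_finiteType.1 hf')
    have : IsIso (terminal.from (Spec (CommRingCat.of (ULift.{u} ℤ)))) :=
      (terminalIsTerminal.uniqueUpToIso specULiftZIsTerminal).symm.isIso_hom
    rw [terminal.hom_ext (terminal.from _) (Spec.map f ≫ terminal.from _)]
    infer_instance
  have hV : LocallyOfFinitePresentation (terminal.from (pullback c₀ r₁)) := by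
    rw [terminal.hom_ext (terminal.from _) (pullback.snd c₀ r₁ ≫ terminal.from _)]
    infer_instance
  refine ⟨pullback c₀ r₁, Spec (CommRingCat.of A₁), pullback.snd c₀ r₁, q, w₂, inferInstance, inferInstance,
    inferInstance, hs, hV, hlfp₁, IsPullback.of_right ?_ (pullback.lift_snd _ _ _) sq₂⟩
  rw [pullback.lift_fst, hw]
  exact sq₁

variable {S : Scheme.{u}} {I : Type u} [SmallCategory I] [IsCofiltered I] (D : I ⥤ Sp S)

theorem exists_stage_affine (hDa : ∀ (i j : I) (φ : i ⟶ j), IsAffineMor (D.map φ)) (c : Cone D)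
    (hc : IsLimit c) {T : Over S} [IsAffine T.left] (e : (yon S).obj T ≅ c.pt) {i₀ : I} {U₀ : Over S}
    [IsAffine U₀.left] (v : (yon S).obj U₀ ⟶ D.obj i₀) (hve : RepWith @Etale v) (hvs : RepWith @Surjective v)
    {R₀ : Over S} [CompactSpace R₀.left] [QuasiSeparatedSpace R₀.left] {t₀ s₀ : R₀ ⟶ U₀}
    (sqR : IsPullback ((yon S).map t₀) ((yon S).map s₀) v v) :
    ∃ (i : I) (_ : i ⟶ i₀) (T' : Over S), IsAffine T'.left ∧ Nonempty ((yon S).obj T' ≅ D.obj i) := by
  obtain ⟨E, η, pr, cE, hcE, θ, haff, hnat, hsq, hpr, hη, hθe, hθs, hπ⟩ := exists_chart_system D hDa c hc v hve hvs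
  obtain ⟨F, η', pr', cF, hcF, θ', haff', hnat', hsq', hpr', ⟨f₀', sqθ'⟩, hπ'⟩ :=
    exists_stage_system D hDa c hc ((yon S).map t₀ ≫ v)
  let o : Over i₀ := Over.mk (𝟙 i₀)
  have hDo : IsIso (D.map o.hom) := (Functor.mapIso D (Iso.refl i₀)).isIso_hom
  have hiE : IsIso ((yon S).map (pr o)) := (hsq o).isIso_fst_of_isIso
  have hiF : IsIso ((yon S).map (pr' o)) := (hsq' o).isIso_fst_of_isIso
  have : IsIso (pr o) := isIso_of_fully_faithful (yon S) _
  have : IsIso (pr' o) := isIso_of_fully_faithful (yon S) _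
  have hηo : (yon S).map (pr o) ≫ v = η o := by
    refine (hsq o).w.trans ?_
    rw [show D.map o.hom = 𝟙 _ from D.map_id i₀]
    exact Category.comp_id _
  have hη'o : (yon S).map (pr' o) ≫ (yon S).map t₀ ≫ v = η' o := by
    refine (hsq' o).w.trans ?_
    rw [show D.map o.hom = 𝟙 _ from D.map_id i₀]
    exact Category.comp_id _
  let τ : F.obj o ⟶ E.obj o := pr' o ≫ t₀ ≫ inv (pr o)
  let ς : F.obj o ⟶ E.obj o := pr' o ≫ s₀ ≫ inv (pr o)
  have sqo : IsPullback ((yon S).map τ) ((yon S).map ς) (η o) (η o) :=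
    sqR.of_iso (asIso ((yon S).map (pr' o))).symm (asIso ((yon S).map (pr o))).symm
      (asIso ((yon S).map (pr o))).symm (Iso.refl _) (by simp [τ]) (by simp [ς]) (by simp [← hηo]) (by simp [← hηo])
  have hτη : (yon S).map τ ≫ η o = η' o := by
    rw [← hηo, ← hη'o, ← Functor.map_comp_assoc, ← Functor.map_comp_assoc]
    congr 2
    simp [τ]
  let u : ∀ j : Over i₀, j ⟶ o := fun j => Over.homMk j.hom (Category.comp_id _)
  have hu : ∀ {j k : Over i₀} (φ : j ⟶ k), φ ≫ u k = u j := fun φ => Over.OverMorphism.ext (Over.w φ)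
  have hker : ∀ j : Over i₀, ∃ tj sj : F.obj j ⟶ E.obj j, tj ≫ E.map (u j) = F.map (u j) ≫ τ ∧
      (yon S).map tj ≫ η j = η' j ∧ sj ≫ E.map (u j) = F.map (u j) ≫ ς ∧ (yon S).map sj ≫ η j = η' j ∧
      IsPullback ((yon S).map (F.map (u j))) ((yon S).map tj) ((yon S).map τ) ((yon S).map (E.map (u j))) ∧
      IsPullback ((yon S).map tj) ((yon S).map sj) (η j) (η j) := fun j => by
    obtain ⟨tj, sj, h1, h2, h3, h4, h5, h6⟩ := kernel_baseChange sqo (hnat (u j))
      (by rw [hτη]; exact hnat' (u j))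
    obtain ⟨tj, rfl⟩ := (yon S).map_surjective tj
    obtain ⟨sj, rfl⟩ := (yon S).map_surjective sj
    simp only [← Functor.map_comp] at h1 h3
    exact ⟨tj, sj, (yon S).map_injective h1, h2, (yon S).map_injective h3, h4, h5, h6⟩
  choose tt ss htu htη hsu hsη hsqt hsqk using hker
  obtain ⟨tinf, sinf, h1, h2, h3, h4, h5, h6⟩ := kernel_baseChange sqo (hπ o) (by rw [hτη]; exact hπ' o)
  obtain ⟨tinf, rfl⟩ := (yon S).map_surjective tinf
  obtain ⟨sinf, rfl⟩ := (yon S).map_surjective sinf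
  simp only [← Functor.map_comp] at h1 h3
  replace h1 := (yon S).map_injective h1
  replace h3 := (yon S).map_injective h3
  have htn : ∀ {j k : Over i₀} (φ : j ⟶ k), F.map φ ≫ tt k = tt j ≫ E.map φ := fun {j k} φ =>
    (yon S).map_injective ((hnat (u k)).hom_ext
      (by simp only [← Functor.map_comp, Category.assoc]
          rw [htu, ← F.map_comp_assoc, hu, ← htu])
      (by rw [Functor.map_comp, Category.assoc, htη, Functor.map_comp, Category.assoc, (hnat φ).w,
            ← Category.assoc, htη, (hnat' φ).w]))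
  have hsn : ∀ {j k : Over i₀} (φ : j ⟶ k), F.map φ ≫ ss k = ss j ≫ E.map φ := fun {j k} φ =>
    (yon S).map_injective ((hnat (u k)).hom_ext
      (by simp only [← Functor.map_comp, Category.assoc]
          rw [hsu, ← F.map_comp_assoc, hu, ← hsu])
      (by rw [Functor.map_comp, Category.assoc, hsη, Functor.map_comp, Category.assoc, (hnat φ).w,
            ← Category.assoc, hsη, (hnat' φ).w]))
  have htl : ∀ j, cF.π.app j ≫ tt j = tinf ≫ cE.π.app j := fun j => (yon S).map_injective ((hnat (u j)).hom_ext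
      (by simp only [← Functor.map_comp, Category.assoc]
          rw [htu, ← Category.assoc, cF.w, cE.w, h1])
      (by rw [Functor.map_comp, Category.assoc, htη, Functor.map_comp, Category.assoc, (hπ j).w,
            ← Category.assoc, h2, (hπ' j).w]))
  have hsl : ∀ j, cF.π.app j ≫ ss j = sinf ≫ cE.π.app j := fun j => (yon S).map_injective ((hnat (u j)).hom_ext
      (by simp only [← Functor.map_comp, Category.assoc]
          rw [hsu, ← Category.assoc, cF.w, cE.w, h3])
      (by rw [Functor.map_comp, Category.assoc, hsη, Functor.map_comp, Category.assoc, (hπ j).w,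
            ← Category.assoc, h4, (hπ' j).w]))
  have sqt : ∀ {j k : Over i₀} (φ : j ⟶ k), IsPullback (F.map φ).left (tt j).left (tt k).left (E.map φ).left :=
    fun {j k} φ => (isPullback_of_map_yon (IsPullback.of_right (by
      simp only [← Functor.map_comp, hu]
      exact hsqt j) (by rw [← Functor.map_comp, ← Functor.map_comp, htn]) (hsqt k))).map (Over.forget S)
  have sql : ∀ j : Over i₀, IsPullback (cF.π.app j).left tinf.left (tt j).left (cE.π.app j).left :=
    fun j => (isPullback_of_map_yon (IsPullback.of_right (by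
      rw [← Functor.map_comp, ← Functor.map_comp, cF.w, cE.w]
      exact h5) (by rw [← Functor.map_comp, ← Functor.map_comp, htl]) (hsqt j))).map (Over.forget S)
  -- affine schemes
  have hEo : IsAffine (E.obj o).left := by
    have : IsAffineHom (pr o).left := hpr o
    exact isAffine_of_isAffineHom (pr o).left
  have hE : ∀ j, IsAffine (E.obj j).left := fun j => by
    have : IsAffineHom (pr j).left := hpr j
    exact isAffine_of_isAffineHom (pr j).left
  have : ∀ j, IsAffine ((E ⋙ Over.forget S).obj j) := hE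
  have : ∀ {i j} (φ : i ⟶ j), IsAffineHom ((E ⋙ Over.forget S).map φ) := fun φ => haff φ
  have : ∀ {i j} (φ : i ⟶ j), IsAffineHom ((F ⋙ Over.forget S).map φ) := fun φ => haff' φ
  have hFc : ∀ j, CompactSpace (F.obj j).left ∧ QuasiSeparatedSpace (F.obj j).left := fun j => by
    have : IsAffineHom (pr' j).left := hpr' j
    exact ⟨QuasiCompact.compactSpace_of_compactSpace (pr' j).left,
      quasiSeparatedSpace_of_quasiSeparated (pr' j).left⟩
  have : ∀ j, CompactSpace ((F ⋙ Over.forget S).obj j) := fun j => (hFc j).1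
  have : ∀ j, QuasiSeparatedSpace ((F ⋙ Over.forget S).obj j) := fun j => (hFc j).2
  have : IsAffine ((Over.forget S).mapCone cE).pt := Scheme.isAffine_of_isLimit _ hcE
  have : IsAffine cE.pt.left := this
  -- the covering of the limit
  obtain ⟨π, hπT⟩ := (yon S).map_surjective (θ ≫ e.inv)
  have hπe : Etale π.left := (repWith_yon_map_iff _ _).1 (by
    rw [hπT]; exact (MorphismProperty.cancel_right_of_respectsIso (RepWith @Etale) _ _).2 hθe)
  have hπs : Surjective π.left := (repWith_yon_map_iff _ _).1 (by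
    rw [hπT]; exact (MorphismProperty.cancel_right_of_respectsIso (RepWith @Surjective) _ _).2 hθs)
  have sqT : IsPullback tinf.left sinf.left π.left π.left := (isPullback_of_map_yon (by
    rw [hπT]
    exact h6.of_iso (Iso.refl _) (Iso.refl _) (Iso.refl _) e.symm (by simp) (by simp) (by simp) (by simp))).map
      (Over.forget S)
  obtain ⟨V, W, cV, q, w, hV, hW, hce, hcs, hVfp, hWfp, sqW⟩ := exists_etale_model π.left
  -- spread out
  obtain ⟨l, g, hg, -⟩ := Scheme.exists_π_app_comp_eq_of_locallyOfFinitePresentation (E ⋙ Over.forget S)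
    { app := fun j => terminal.from _, naturality := fun _ _ _ => terminal.hom_ext _ _ } (terminal.from V)
    ((Over.forget S).mapCone cE) hcE q (by ext; exact terminal.hom_ext _ _)
  let d₁ : (F.obj l).left ⟶ W := (tt l).left ≫ g ≫ cV
  let d₂ : (F.obj l).left ⟶ W := (ss l).left ≫ g ≫ cV
  have hl : ∀ {A : Over i₀} (a : cF.pt ⟶ cE.pt) (x : F.obj A ⟶ E.obj A),
      cF.π.app A ≫ x = a ≫ cE.π.app A → (cF.π.app A).left ≫ x.left = a.left ≫ (cE.π.app A).left :=
    fun a x hx => congrArg (fun m => m.left) hx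
  have hd : (cF.π.app l).left ≫ d₁ = (cF.π.app l).left ≫ d₂ := by
    have hqw : q ≫ cV = π.left ≫ w := sqW.w
    simp only [d₁, d₂, reassoc_of% (hl tinf (tt l) (htl l)), reassoc_of% (hl sinf (ss l) (hsl l))]
    have hg' : (cE.π.app l).left ≫ g = q := hg
    rw [reassoc_of% hg', hqw, reassoc_of% sqT.w]
  have : LocallyOfFiniteType (terminal.from W) := inferInstance
  obtain ⟨m, ψ, hm⟩ := Scheme.exists_hom_comp_eq_comp_of_locallyOfFiniteType (F ⋙ Over.forget S)
    { app := fun j => terminal.from _, naturality := fun _ _ _ => terminal.hom_ext _ _ } (terminal.from W)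
    ((Over.forget S).mapCone cF) hcF d₁ d₂ (terminal.hom_ext _ _) (terminal.hom_ext _ _) hd
  let gm : (E.obj m).left ⟶ W := (E.map ψ).left ≫ g ≫ cV
  let hmV : (F.obj m).left ⟶ V := (ss m).left ≫ (E.map ψ).left ≫ g
  have hn : ∀ {j k : Over i₀} (φ : j ⟶ k), (F.map φ).left ≫ (tt k).left = (tt j).left ≫ (E.map φ).left ∧
      (F.map φ).left ≫ (ss k).left = (ss j).left ≫ (E.map φ).left :=
    fun φ => ⟨congrArg (fun m => m.left) (htn φ), congrArg (fun m => m.left) (hsn φ)⟩
  have hwm : (tt m).left ≫ gm = hmV ≫ cV := by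
    simp only [gm, hmV, Category.assoc]
    rw [← reassoc_of% (hn ψ).1, ← reassoc_of% (hn ψ).2]
    exact hm
  have htm : Etale (tt m).left := (repWith_yon_map_iff _ _).1 (RepWith.baseChange (hsqk m).flip (hη m).1)
  have hlim : IsPullback tinf.left ((cF.π.app m).left ≫ hmV) ((cE.π.app m).left ≫ gm) cV := by
    have e1 : (cE.π.app m).left ≫ gm = π.left ≫ w := by
      show _ ≫ (E.map ψ).left ≫ g ≫ cV = _
      rw [← Category.assoc, ← Over.comp_left, cE.w, ← Category.assoc, show (cE.π.app l).left ≫ g = q from hg]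
      exact sqW.w
    have e2 : (cF.π.app m).left ≫ hmV = sinf.left ≫ q := by
      show _ ≫ (ss m).left ≫ (E.map ψ).left ≫ g = _
      rw [← Category.assoc, hl sinf (ss m) (hsl m), Category.assoc, ← Category.assoc ((cE.π.app m).left),
        ← Over.comp_left, cE.w, show (cE.π.app l).left ≫ g = q from hg]
    rw [e1, e2]
    exact sqT.paste_vert sqW.flip
  obtain ⟨n, χ, hn'⟩ := @exists_stage_cartesian _ _ _ (E ⋙ Over.forget S) (F ⋙ Over.forget S)
    ((Over.forget S).mapCone cE) ((Over.forget S).mapCone cF) hcE (fun φ => haff φ) hE (fun j => (tt j).left) tinf.left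
    (fun φ => sqt φ) sql m htm (hFc m).1 (hFc m).2 V W hV hW cV hce gm hmV hwm hlim
  let vn : (E.obj n).left ⟶ V := (E.map (χ ≫ ψ)).left ≫ g
  have e1 : (E.map χ).left ≫ gm = vn ≫ cV := by simp [gm, vn]
  have e2 : (F.map χ).left ≫ hmV = (ss n).left ≫ vn := by
    show _ ≫ (ss m).left ≫ _ = _
    rw [reassoc_of% (hn χ).2]
    simp [vn]
  have hn'' : IsPullback (tt n).left ((ss n).left ≫ vn) (vn ≫ cV) cV := by
    rw [← e1, ← e2]
    exact hn'
  have : IsAffine (E.obj n).left := hE n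
  obtain ⟨T', hT', ⟨i'⟩⟩ := exists_affine_of_cartesian_chart (hη n).1 (hη n).2 (hsqk n) cV vn
    (by rw [hn''.w, Category.assoc]) hn''
  exact ⟨n.left, n.hom, T', hT', ⟨i'⟩⟩

end Groth.Agent.AlgSpLib.LimitAffine
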