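import Groth.Agent.AlgSpLib.ThickAffine
import Groth.Agent.AlgSpLib.OpenCoverScheme

/-!
An algebraic space which is a thickening of a scheme is a scheme.
-/

universe u

open CategoryTheory CategoryTheory.Limits AlgebraicGeometry Opposite
open AlgSp

noncomputable section

namespace Groth.Agent.AlgSpLib.ThickAff

set_option backward.isDefEq.respectTransparency.types false

variable {S : Scheme.{u}}

/-- the preimage of an open subspace on a scheme -/
theorem range_left_of_isPullback {X F : Sp S} {T P : Over S} {j : F ⟶ X} {f : (yon S).obj T ⟶ X}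
    {fst : (yon S).obj P ⟶ F} {v : P ⟶ T} (sq : IsPullback fst ((yon S).map v) j f) :
    Set.range v.left = Points.ofScheme T ⁻¹' (Points.map f ⁻¹' Set.range (Points.map j)) := by
  rw [range_map_preimage sq]
  ext x
  constructor
  · rintro ⟨z, rfl⟩
    exact ⟨Points.ofScheme _ z, map_yon_map_ofScheme v z⟩
  · rintro ⟨z, hz⟩
    obtain ⟨z, rfl⟩ := (Points.schemeHomeo _).surjective z
    exact ⟨z, (Points.schemeHomeo T).injective ((map_yon_map_ofScheme v z).symm.trans hz)⟩

/-- an algebraic space with a thickened closed subscheme is a scheme -/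
theorem exists_iso_yon_of_thick {X : Sp S} (hX : IsAlgSpace X) {T : Over S} (i : (yon S).obj T ⟶ X)
    (hi : IsThickMor i) : ∃ G : Over S, Nonempty ((yon S).obj G ≅ X) := by
  have hhom := isHomeomorph_map_of_thickMor hX hi
  have key : ∀ O : T.left.affineOpens, ∃ (V : Over S) (f : (yon S).obj V ⟶ X), RepWith @IsOpenImmersion f ∧
      Set.range (Points.map f) = Points.map i '' (Points.ofScheme T '' (O.1 : Set T.left)) := fun O => by
    have hW : IsOpen (Points.map i '' (Points.ofScheme T '' (O.1 : Set T.left))) :=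
      hhom.isOpenMap _ ((Points.schemeHomeo T).isOpenMap _ O.1.2)
    have hj := repWith_openSubspaceι X hW
    have sq := hj.1.isPullback i
    have : IsOpenImmersion (hj.1.snd i).left := hj.property_snd i
    have hr : Set.range (hj.1.snd i).left = (O.1 : Set T.left) := by
      rw [range_left_of_isPullback sq, range_openSubspaceι, hhom.injective.preimage_image]
      exact Set.preimage_image_eq _ (Points.schemeHomeo T).injective
    have : IsAffine (hj.1.pullback i).left := isAffine_of_range_eq _ O.2 hr
    obtain ⟨V, hV, ⟨e⟩⟩ := isAff_of_thick (isAlgSpace_openSubspace hX hW) (hj.1.fst i)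
      (RepWith.baseChange sq.flip hi)
    refine ⟨V, e.hom ≫ openSubspaceι X _, RepWith.comp (repWith_of_isIso _ e.hom) hj, ?_⟩
    refine (le_antisymm ?_ ?_ : Set.range (Points.map (e.hom ≫ openSubspaceι X _)) = _).trans
      (range_openSubspaceι X _)
    · rintro _ ⟨z, rfl⟩
      exact ⟨_, (Points.map_comp _ _ z).symm⟩
    · rintro _ ⟨z, rfl⟩
      exact ⟨Points.map e.inv z, by rw [← Points.map_comp, e.inv_hom_id_assoc]⟩
  choose V f hf hr using key
  refine exists_iso_yon_of_openCover f hf fun x => ?_
  obtain ⟨y, rfl⟩ := hhom.surjective x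
  obtain ⟨t, rfl⟩ := (Points.schemeHomeo T).surjective y
  obtain ⟨O, hO, ht, -⟩ := exists_isAffineOpen_mem_and_subset (x := t) (U := ⊤) trivial
  refine ⟨⟨O, hO⟩, ?_⟩
  rw [hr]
  exact ⟨_, ⟨t, ht, rfl⟩, rfl⟩

/-- an algebraic space whose thickened closed subspace is a scheme is a scheme -/
theorem exists_iso_yon_of_thick' {X X' : Sp S} (hX' : IsAlgSpace X') (i : X ⟶ X') (hi : IsThickMor i)
    {T : Over S} (e : (yon S).obj T ≅ X) : ∃ G : Over S, Nonempty ((yon S).obj G ≅ X') :=
  exists_iso_yon_of_thick hX' (e.hom ≫ i) (RepWith.and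
    (RepWith.comp (repWith_of_isIso _ e.hom) (RepWith.mono (P' := @IsClosedImmersion) (fun _ _ _ h => h.1) hi))
    (RepWith.comp (repWith_of_isIso _ e.hom) (RepWith.mono (P' := @Surjective) (fun _ _ _ h => h.2) hi)))

end Groth.Agent.AlgSpLib.ThickAff
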