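import Groth.Agent.AlgSpLib.ChevLimit
import Groth.Agent.AlgSpLib.ChevGenReduced
import Groth.Agent.AlgSpLib.NormExist
import Groth.Agent.AlgSpLib.BaseSch
import Groth.Agent.S10049
import Groth.Agent.S10584
import Groth.Agent.S0593

/-!
Chevalley's theorem: the target of a surjective universally closed morphism from an affine scheme is affine.
-/

universe u

open CategoryTheory CategoryTheory.Limits AlgebraicGeometry Opposite
open AlgSp

noncomputable section

set_option linter.style.haveILetI false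
set_option linter.unusedSectionVars false

namespace Groth.Agent.AlgSpLib.ChevGen

open Groth.Agent.AlgSpLib

set_option backward.isDefEq.respectTransparency.types false
set_option backward.isDefEq.respectTransparency false

variable {S : Scheme.{u}}

/-- surjective morphisms representable by schemes -/
theorem repWith_surjective_of {X : Sp S} (hX : IsAlgSpace X) {T : Over S} (f : (yon S).obj T ⟶ X)
    (hsurj : IsSurjectiveMor f) : RepWith @Surjective f :=
  MorphismProperty.relative.of_exists fun U g =>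
    ⟨_, _, (hX.representable_from_yon f).snd g, (hX.representable_from_yon f).isPullback g,
      surjective_snd hX f hsurj g⟩

theorem isSurjectiveMor_of_repWith {X : Sp S} {T : Over S} {f : (yon S).obj T ⟶ X}
    (h : RepWith @Surjective f) : IsSurjectiveMor f := fun x => by
  obtain ⟨t, ht⟩ := surjective_ofPt f h x
  exact ⟨Points.schemeEquiv T t, ((Points.ofPt_eq_map_ofScheme f t).symm.trans ht)⟩

theorem compactSpace_of_cover {X : AlgSp.Space S} {T : Over S} [IsAffine T.left]
    (f : (yon S).obj T ⟶ X.obj) (hsurj : IsSurjectiveMor f) : IsQuasiCompactSp X.obj := by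
  refine (isQuasiCompactSp_iff_compactSpace X.property).2 ⟨?_⟩
  have hs : Function.Surjective (Points.ofPt f) := surjective_ofPt f (repWith_surjective_of X.property f hsurj)
  rw [← hs.range_eq]
  exact isCompact_range (Points.continuous_ofPt f)

/-- a scheme target of a surjective universally closed morphism from an affine scheme is affine -/
theorem isAffine_of_scheme_target {T Y : Over S} [IsAffine T.left] (m : T ⟶ Y)
    (hsurj : IsSurjectiveMor ((yon S).map m)) (huc : IsUnivClosedMor ((yon S).map m)) : IsAffine Y.left := by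
  haveI : UniversallyClosed m.left := (repWith_yon_map_iff _ m).1
    ((repWith_universallyClosed_iff ((IsAlgSpace.yon_obj Y).representable_from_yon _)).2 huc)
  haveI : Surjective m.left := (repWith_yon_map_iff _ m).1
    (repWith_surjective_of (IsAlgSpace.yon_obj Y) _ hsurj)
  exact Groth.Agent.S0593.result T.left Y.left m.left

/-- the statement for representable targets -/
theorem exists_affine_of_representable {Y : Sp S} {T : Over S} [IsAffine T.left]
    (f : (yon S).obj T ⟶ Y) (hsurj : IsSurjectiveMor f) (huc : IsUnivClosedMor f) (h : Y.obj.IsRepresentable) :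
    ∃ T' : Over S, IsAffine T'.left ∧ Nonempty ((yon S).obj T' ≅ Y) := by
  obtain ⟨Y₀, ⟨e⟩⟩ := exists_iso_yon_of_isRepresentable h
  obtain ⟨m, hm⟩ := (yon S).map_surjective (f ≫ e.inv)
  refine ⟨Y₀, isAffine_of_scheme_target m (fun y => ?_) ?_, ⟨e⟩⟩
  · obtain ⟨x, hx⟩ := hsurj (Points.map e.hom y)
    refine ⟨x, ?_⟩
    rw [hm, Points.map_comp, hx, ← Points.map_comp, e.hom_inv_id, Points.map_id]
  · rw [hm]
    refine isUnivClosedMor_of_isPullback (fst := 𝟙 _) (g := e.hom) ?_ huc
    exact IsPullback.of_horiz_isIso ⟨by simp⟩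

section affineBase

variable {A : Type u} [CommRing A]

theorem exists_oB_iso {W : Over (S0 A)} [IsAffine W.left] :
    ∃ (P : Type u) (_ : CommRing P) (_ : Algebra A P), Nonempty (oB A P ≅ W) := by
  obtain ⟨P, _, _, i, -⟩ := exists_oA_iso (𝟙 (S0 A)) (W := W) (Over.mkIdTerminal.from W)
  exact ⟨P, inferInstance, inferInstance, ⟨i⟩⟩

theorem isSurjectiveMor_precomp_iso {F G H : Sp S} (e : F ≅ G) {f : G ⟶ H} (h : IsSurjectiveMor f) :
    IsSurjectiveMor (e.hom ≫ f) := fun x => by
  obtain ⟨y, rfl⟩ := h x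
  exact ⟨Points.map e.inv y, by rw [← Points.map_comp, Iso.inv_hom_id_assoc]⟩

/-- Chevalley's theorem over an affine base -/
theorem exists_affine_of_univClosed0 {X : AlgSp.Space (S0 A)} {T : Over (S0 A)} [IsAffine T.left]
    (f : (yon (S0 A)).obj T ⟶ X.obj) (hsurj : IsSurjectiveMor f) (huc : IsUnivClosedMor f) :
    ∃ T' : Over (S0 A), IsAffine T'.left ∧ Nonempty ((yon (S0 A)).obj T' ≅ X.obj) := by
  have hsep := isSeparatedSp_of_univClosed X.property f hsurj huc
  have hqc := compactSpace_of_cover f hsurj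
  have hqs : IsQuasiSeparatedSp X.obj :=
    RepWith.mono (fun _ _ g (_ : IsClosedImmersion g) => (inferInstance : QuasiCompact g)) hsep
  by_cases hrep : X.obj.obj.IsRepresentable
  · exact exists_affine_of_representable f hsurj huc hrep
  exfalso
  obtain ⟨Z, i, hi, hnon, hmin⟩ := Groth.Agent.S10049.result (S0 A) X hqc hqs hrep
  haveI := mono_closedImmersion hi
  let T₁ := hi.1.pullback f
  haveI : IsClosedImmersion (hi.1.snd f).left := hi.property_snd f
  haveI : IsAffine T₁.left := isAffine_of_isAffineHom (hi.1.snd f).left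
  let f₁ : (yon (S0 A)).obj T₁ ⟶ Z.obj := hi.1.fst f
  have huc₁ : IsUnivClosedMor f₁ := isUnivClosedMor_of_isPullback (hi.1.isPullback f).flip huc
  have hsurj₁ : IsSurjectiveMor f₁ := fun z => by
    obtain ⟨q, hq⟩ := hsurj (Points.map i.hom z)
    obtain ⟨w, hw, -⟩ := exists_point_of_isPullback (hi.1.isPullback f) hq.symm
    exact ⟨w, hw⟩
  have hsep₁ := isSeparatedSp_of_univClosed Z.property f₁ hsurj₁ huc₁
  have hqc₁ := compactSpace_of_cover f₁ hsurj₁
  have hqs₁ : IsQuasiSeparatedSp Z.obj :=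
    RepWith.mono (fun _ _ g (_ : IsClosedImmersion g) => (inferInstance : QuasiCompact g)) hsep₁
  have hsub : SubAffine Z := fun W j hW hj hne => by
    have hrepW : W.obj.IsRepresentable := hmin ⟨W, hW⟩ (ObjectProperty.homMk j) hj fun hiso => hne (by
      haveI : IsIso j := inferInstanceAs (IsIso ((ObjectProperty.ι _).map
        (ObjectProperty.homMk j : (⟨W, hW⟩ : AlgSp.Space (S0 A)) ⟶ Z)))
      exact Set.eq_univ_of_forall fun z => ⟨Points.map (inv j) z, by rw [← Points.map_comp, IsIso.inv_hom_id, Points.map_id]⟩)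
    haveI : IsClosedImmersion (hj.1.snd f₁).left := hj.property_snd f₁
    haveI : IsAffine (hj.1.pullback f₁).left := isAffine_of_isAffineHom (hj.1.snd f₁).left
    refine exists_affine_of_representable (hj.1.fst f₁) (fun z => ?_)
      (isUnivClosedMor_of_isPullback (hj.1.isPullback f₁).flip huc₁) hrepW
    obtain ⟨q, hq⟩ := hsurj₁ (Points.map j z)
    obtain ⟨w, hw, -⟩ := exists_point_of_isPullback (hj.1.isPullback f₁) hq.symm
    exact ⟨w, hw⟩
  have hred : IsReducedSp Z.obj := by
    obtain ⟨Y₀, i₀, hi₀, hr₀, hY₀⟩ := Stk19b.RedInd.exists_isRedInduced Z Set.univ isClosed_univ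
    by_cases hiso : IsIso i₀
    · haveI := hiso
      haveI : IsIso i₀.hom := inferInstanceAs (IsIso ((ObjectProperty.ι _).map i₀))
      obtain ⟨W₀, a₀, ha₀, ha₀s, hW₀⟩ := hY₀
      exact ⟨W₀, a₀ ≫ i₀.hom, RepWith.comp ha₀ (repWith_of_isIso @Etale i₀.hom),
        RepWith.comp ha₀s (repWith_of_isIso @Surjective i₀.hom), hW₀⟩
    exfalso
    obtain ⟨T₀, ⟨e₀⟩⟩ := exists_iso_yon_of_isRepresentable (hmin Y₀ i₀ hi₀ hiso)
    have hthick : IsThickMor i₀.hom := MorphismProperty.relative.of_exists fun U g => by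
      refine ⟨_, _, hi₀.1.snd g, hi₀.1.isPullback g, hi₀.property_snd g, ⟨fun u => ?_⟩⟩
      obtain ⟨y, hy⟩ : Points.map g (Points.schemeEquiv U u) ∈ Set.range (Points.map i₀.hom) := by rw [hr₀]; trivial
      obtain ⟨z, -, hz⟩ := exists_point_of_isPullback (hi₀.1.isPullback g) hy
      obtain ⟨w, rfl⟩ := (Points.schemeEquiv _).surjective z
      exact ⟨w, (Points.schemeEquiv U).injective ((map_yon_map_ofScheme _ w).symm.trans hz)⟩
    obtain ⟨T', ⟨e'⟩⟩ := Groth.Agent.S10584.result i₀ hthick ⟨T₀, ⟨e₀⟩⟩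
    exact hnon (isRepresentable_of_iso_yon e')
  haveI := compactSpace_points_of_isQuasiCompactSp hqc₁
  obtain ⟨V, q, hV, hqe, hqs'⟩ := exists_affine_chart Z.property
  haveI := hV
  obtain ⟨R, _, _, ⟨θ⟩⟩ := exists_oB_iso (A := A) (W := T₁)
  obtain ⟨B, _, _, ⟨θ'⟩⟩ := exists_oB_iso (A := A) (W := V)
  let f₂ := ((yon (S0 A)).mapIso θ).hom ≫ f₁
  have hsurj₂ : IsSurjectiveMor f₂ := isSurjectiveMor_precomp_iso _ hsurj₁
  have huc₂ : IsUnivClosedMor f₂ := by
    refine isUnivClosedMor_of_isPullback (fst := ((yon (S0 A)).mapIso θ).hom) (g := 𝟙 _) ?_ huc₁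
    exact IsPullback.of_horiz_isIso ⟨by simp [f₂]⟩
  obtain ⟨T', f₀, hT', hfin, hsurj₀⟩ := exists_finite_surjective hsep₁
    (isIntegralMor_of_univClosed Z.property f₂ huc₂ hsep₁)
    (p := ((yon (S0 A)).mapIso θ').hom ≫ q) (RepWith.comp (repWith_of_isIso @Etale _) hqe)
    (RepWith.comp (repWith_of_isIso @Surjective _) hqs') hsurj₂
  haveI := hT'
  obtain ⟨T'', -, ⟨e⟩⟩ := exists_affine_of_finite hqc₁ hqs₁ hred hsub hfin hsurj₀
  exact hnon (isRepresentable_of_iso_yon e)

end affineBase

open BaseSch in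
/-- Chevalley's theorem over any base -/
theorem exists_affine_of_univClosed {X : AlgSp.Space S} {T : Over S} [IsAffine T.left]
    (f : (yon S).obj T ⟶ X.obj) (hsurj : IsSurjectiveMor f) (huc : IsUnivClosedMor f) :
    ∃ T' : Over S, IsAffine T'.left ∧ Nonempty ((yon S).obj T' ≅ X.obj) := by
  let A : Type u := ULift.{u} ℤ
  let g : S ⟶ S0 A := specULiftZIsTerminal.from S
  let X' : AlgSp.Space (S0 A) := ⟨(shriek g).obj X.obj, (isAlgSpace_shriek_iff X.obj).2 X.property⟩
  let f' : (yon (S0 A)).obj ((Over.map g).obj T) ⟶ X'.obj := (shriekYonIso g T).inv ≫ (shriek g).map f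
  haveI : IsAffine ((Over.map g).obj T).left := ‹IsAffine T.left›
  have hf := X.property.representable_from_yon f
  have h1 : RepWith @UniversallyClosed f' := RepWith.comp (repWith_of_isIso @UniversallyClosed _)
    ((repWith_shriek_iff (g := g) _ f).2 ((repWith_universallyClosed_iff hf).2 huc))
  have h2 : RepWith @Surjective f' := RepWith.comp (repWith_of_isIso @Surjective _)
    ((repWith_shriek_iff (g := g) _ f).2 (repWith_surjective_of X.property f hsurj))
  obtain ⟨T', hT', ⟨e⟩⟩ := exists_affine_of_univClosed0 (X := X') f' (isSurjectiveMor_of_repWith h2)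
    ((repWith_universallyClosed_iff h1.1).1 h1)
  obtain ⟨φ, hφ⟩ := (yon (S0 A)).map_surjective (e.hom ≫ proj g X.obj)
  let T₀ : Over S := Over.mk (φ.left : T'.left ⟶ S)
  let θ : (Over.map g).obj T₀ ≅ T' := ⟨fromMap g φ, toMap g φ,
    Over.OverMorphism.ext (Category.id_comp _), toMap_fromMap φ⟩
  let β : (shriek g).obj ((yon S).obj T₀) ≅ (shriek g).obj X.obj :=
    shriekYonIso g T₀ ≪≫ (yon (S0 A)).mapIso θ ≪≫ e
  have hβ : β.hom ≫ proj g X.obj = proj g ((yon S).obj T₀) := by
    show ((shriekYonIso g T₀).hom ≫ (yon (S0 A)).map θ.hom ≫ e.hom) ≫ proj g X.obj = _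
    rw [Category.assoc, Category.assoc, ← hφ, ← Functor.map_comp, ← shriekYonIso_hom_can]
    congr 2
  have hβ' : β.inv ≫ proj g ((yon S).obj T₀) = proj g X.obj := by rw [← hβ, Iso.inv_hom_id_assoc]
  obtain ⟨α, hα⟩ := exists_preimage g β.hom hβ
  obtain ⟨α', hα'⟩ := exists_preimage g β.inv hβ'
  have hinj : ∀ {F G : Sp S} (a b : F ⟶ G), (shriek g).map a = (shriek g).map b → a = b := fun a b h =>
    (toOver g).map_injective (Over.OverMorphism.ext h)
  exact ⟨T₀, hT', ⟨⟨α, α', hinj _ _ (by rw [(shriek g).map_comp, hα, hα', β.hom_inv_id, (shriek g).map_id]),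
    hinj _ _ (by rw [(shriek g).map_comp, hα', hα, β.inv_hom_id, (shriek g).map_id])⟩⟩⟩

end Groth.Agent.AlgSpLib.ChevGen
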