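import Groth.Agent.AlgSpLib.QuasiSober
import Groth.Prelude.Def_Flat

/-!
Codimension and dimension of decent spaces, computed on etale charts.
-/

universe u

open CategoryTheory CategoryTheory.Limits AlgebraicGeometry Opposite Topology
open AlgSp

noncomputable section

namespace Groth.Agent.AlgSpLib

set_option backward.isDefEq.respectTransparency.types false

variable {S : Scheme.{u}} {X : Sp S}

/-- the specialisation order on points -/
local instance pointsOrder [T0Space (Points X)] : PartialOrder (Points X) := specializationOrder _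

/-- codimensions are computed on charts -/
theorem coheight_ofPt (hd : IsDecent X) [T0Space (Points X)] {U : Over S} (a : (yon S).obj U ⟶ X)
    (ha : RepWith @Etale a) (u : ↥U.left) :
    Order.coheight (Points.ofPt a u) = Order.coheight u := by
  refine (Order.coheight_eq_of_strictMono (Points.ofPt a) (fun v w hvw => ?_) (fun v b hb => ?_) u).symm
  · have hm : Points.ofPt a w ⤳ Points.ofPt a v := Specializes.map hvw.le (Points.continuous_ofPt a)
    refine lt_of_le_of_ne hm fun e => ?_
    have := eq_of_specializes_of_finiteFibres (FiniteFibres.of_mk (hd (Points.ofPt a v))).2 a ha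
      rfl e.symm (hvw.le : w ⤳ v)
    exact hvw.ne this
  · obtain ⟨v', hv', rfl⟩ := exists_specializes_chart (FiniteFibres.of_mk (hd b)).1 a ha v hb.le
    exact ⟨v', lt_of_le_not_ge hv' fun h => hb.ne (congrArg _ ((show v ⤳ v' from h).antisymm hv').eq), rfl⟩

theorem coheight_irreducibleCloseds {T : TopologicalSpace.IrreducibleCloseds (Points X)}
    [QuasiSober (Points X)] [T0Space (Points X)] {ξ : Points X}
    (hξ : IsGenericPoint ξ (T : Set (Points X))) : Order.coheight T = Order.coheight ξ := by
  rw [← Order.coheight_orderIso (irreducibleSetEquivPoints (α := Points X)).symm ξ]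
  exact congrArg _ (TopologicalSpace.IrreducibleCloseds.ext hξ.def.symm)

theorem isGenericPoint_component_iff [QuasiSober (Points X)] [T0Space (Points X)] (x : Points X) :
    (∃ T ∈ irreducibleComponents (Points X), IsGenericPoint x T) ↔ Order.coheight x = 0 := by
  rw [Order.coheight_eq_zero]
  constructor
  · rintro ⟨T, hT, hx⟩ y hy
    have h1 : T ⊆ closure {y} := by
      rw [← hx.def]
      exact closure_minimal (Set.singleton_subset_iff.2 (specializes_iff_mem_closure.1 hy)) isClosed_closure
    have h2 : closure {y} ⊆ T := hT.2 isIrreducible_singleton.closure h1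
    have h3 : x ⤳ y := specializes_iff_mem_closure.2 (hx.def ▸ h2 (subset_closure rfl))
    exact h3
  · intro hmax
    refine ⟨closure {x}, ⟨isIrreducible_singleton.closure, fun C hC hxC => ?_⟩, isGenericPoint_closure⟩
    obtain ⟨y, hy⟩ := QuasiSober.sober hC.closure isClosed_closure
    have h : y ⤳ x := hy.specializes (subset_closure (hxC (subset_closure rfl)))
    have h' : x ⤳ y := hmax h
    intro c hc
    exact specializes_iff_mem_closure.1 (h'.trans (hy.specializes (subset_closure hc)))

theorem isGenericPoint_component_iff_stalk (hX : IsAlgSpace X) (hd : IsDecent X) {U : Over S}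
    (a : (yon S).obj U ⟶ X) (ha : RepWith @Etale a) (u : ↥U.left) :
    (∃ T ∈ irreducibleComponents (Points X), IsGenericPoint (Points.ofPt a u) T) ↔
      ringKrullDim ↥(U.left.presheaf.stalk u) = 0 := by
  have := t0Space_points hX hd
  have := quasiSober_points hX hd
  rw [isGenericPoint_component_iff, coheight_ofPt hd a ha, ringKrullDim_stalk_eq_coheight,
    ← WithBot.coe_inj]
  rfl

theorem isGenericPoint_component_iff_hasAt (hX : IsAlgSpace X) (hd : IsDecent X) (x : Points X) :
    (∃ T ∈ irreducibleComponents (Points X), IsGenericPoint x T) ↔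
      HasAt (fun U u => ringKrullDim ↥(U.presheaf.stalk u) = 0) X x := by
  constructor
  · intro h
    obtain ⟨U, a, hae, has⟩ := hX.atlas
    obtain ⟨u, rfl⟩ := surjective_ofPt a has x
    exact ⟨U, a, u, hae, rfl, (isGenericPoint_component_iff_stalk hX hd a hae u).1 h⟩
  · rintro ⟨U, a, u, ha, rfl, h⟩
    exact (isGenericPoint_component_iff_stalk hX hd a ha u).2 h

attribute [local instance] specializationOrder in
theorem topologicalKrullDim_eq_iSup {α : Type*} [TopologicalSpace α] [QuasiSober α] [T0Space α] :
    topologicalKrullDim α = ⨆ x : α, (Order.coheight x : WithBot ℕ∞) := by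
  rw [topologicalKrullDim, Order.krullDim_eq_of_orderIso (irreducibleSetEquivPoints (α := α)),
    Order.krullDim_eq_iSup_coheight]

theorem topologicalKrullDim_scheme (U : Scheme.{u}) :
    topologicalKrullDim U = ⨆ x : U, (Order.coheight x : WithBot ℕ∞) :=
  topologicalKrullDim_eq_iSup

theorem topologicalKrullDim_points (hX : IsAlgSpace X) (hd : IsDecent X) :
    topologicalKrullDim (Points X) = AlgSp.dim X := by
  have := t0Space_points hX hd
  have := quasiSober_points hX hd
  rw [topologicalKrullDim_eq_iSup, AlgSp.dim]
  refine le_antisymm ?_ ?_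
  rotate_left
  refine iSup_le fun U => iSup_le fun a => iSup_le fun ha => ?_
  rotate_left
  refine iSup_le fun x => ?_
  · obtain ⟨U, a, hae, has⟩ := hX.atlas
    obtain ⟨u, rfl⟩ := surjective_ofPt a has x
    refine le_iSup_of_le U (le_iSup_of_le a (le_iSup_of_le hae ?_))
    rw [topologicalKrullDim_scheme, coheight_ofPt hd a hae]
    exact le_iSup (fun x : U.left => (Order.coheight x : WithBot ℕ∞)) u
  · rw [topologicalKrullDim_scheme]
    refine iSup_le fun u => le_iSup_of_le (Points.ofPt a u) ?_
    rw [coheight_ofPt hd a ha]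

attribute [local instance] specializationOrder in
theorem topologicalKrullDim_open {α : Type*} [TopologicalSpace α] [QuasiSober α] [T0Space α] {W : Set α}
    (hW : IsOpen W) : topologicalKrullDim W = ⨆ x ∈ W, (Order.coheight x : WithBot ℕ∞) := by
  have := (hW.isOpenEmbedding_subtypeVal).quasiSober
  rw [topologicalKrullDim_eq_iSup, iSup_subtype']
  exact iSup_congr fun x => by rw [hW.isOpenEmbedding_subtypeVal.coheight_eq Subtype.val]

theorem localDim_eq (hX : IsAlgSpace X) (hd : IsDecent X) {U : Over S} (a : (yon S).obj U ⟶ X)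
    (ha : RepWith @Etale a) (u : ↥U.left) :
    FlatMor.localDim ↥U.left u = FlatMor.localDim (Points X) (Points.ofPt a u) := by
  have := t0Space_points hX hd
  have := quasiSober_points hX hd
  refine le_antisymm ?_ ?_
  rotate_left
  refine le_iInf fun W => ?_
  rotate_left
  refine le_iInf fun O => ?_
  · refine iInf_le_of_le ⟨⟨Points.ofPt a ⁻¹' O.1, O.1.isOpen.preimage (Points.continuous_ofPt a)⟩, O.2⟩ ?_
    show topologicalKrullDim (Points.ofPt a ⁻¹' (O.1 : Set (Points X))) ≤ _
    rw [topologicalKrullDim_open (O.1.isOpen.preimage (Points.continuous_ofPt a)), topologicalKrullDim_open O.1.isOpen]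
    exact iSup₂_le fun w hw => le_iSup₂_of_le (Points.ofPt a w) hw (WithBot.coe_le_coe.2 (coheight_ofPt hd a ha w).ge)
  · have ho := isOpenMap_ofPt a ha _ W.1.isOpen
    refine iInf_le_of_le ⟨⟨_, ho⟩, u, W.2, rfl⟩ ?_
    show topologicalKrullDim (Points.ofPt a '' (W.1 : Set U.left)) ≤ _
    rw [topologicalKrullDim_open ho, topologicalKrullDim_open W.1.isOpen]
    refine iSup₂_le fun x hx => ?_
    obtain ⟨w, hw, rfl⟩ := hx
    exact le_iSup₂_of_le w hw (WithBot.coe_le_coe.2 (coheight_ofPt hd a ha w).le)

theorem coheight_eq_ringKrullDim (hX : IsAlgSpace X) (hd : IsDecent X)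
    {T : TopologicalSpace.IrreducibleCloseds (Points X)} {U : Over S} (a : (yon S).obj U ⟶ X)
    (ha : RepWith @Etale a) (u : ↥U.left) (hξ : IsGenericPoint (Points.ofPt a u) (T : Set (Points X))) :
    (Order.coheight T : WithBot ℕ∞) = ringKrullDim ↥(U.left.presheaf.stalk u) := by
  have := t0Space_points hX hd
  have := quasiSober_points hX hd
  rw [coheight_irreducibleCloseds hξ, coheight_ofPt hd a ha, ringKrullDim_stalk_eq_coheight]

end Groth.Agent.AlgSpLib
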