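import Groth.Agent.AlgSpLib.FiniteChartAffine
import Groth.Agent.AlgSpLib.QuasiSober
import Groth.Agent.AlgSpLib.OpenCoverScheme
import Groth.Agent.AlgSpLib.SheafCoprod2
import Groth.Agent.AlgSpLib.FppfLocal
import Groth.Agent.AlgSpLib.DiagCrit

/-!
Dense open subschemes of decent algebraic spaces.
-/

universe u

open CategoryTheory CategoryTheory.Limits AlgebraicGeometry Opposite Topology
open AlgSp

noncomputable section

namespace Groth.Agent.AlgSpLib

set_option backward.isDefEq.respectTransparency.types false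

section Schemes

variable {R U : Scheme.{u}} (s : R ⟶ U)

theorem notMem_range_of_finite [Etale s] {m : ℕ → Scheme.{u}} (π : ∀ n, m n ⟶ U)
    (e : ∀ n, Fin n → (m n ⟶ R)) (hπ : ∀ n, Etale (π n)) (he : ∀ n i, e n i ≫ s = π n)
    (hinj : ∀ n (Ω : Type u) [Field Ω] (h : Spec (CommRingCat.of Ω) ⟶ m n), Function.Injective fun i => h ≫ e n i)
    (v : U) (hfin : (s ⁻¹' {v}).Finite) : ∃ n, v ∉ Set.range (π n) := by
  have := locallyQuasiFinite_of_etale s
  obtain ⟨g, hg⟩ := FlatMorWeight.exists_geomPt v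
  have hF := FlatMorWeight.finite_GP s g (by rw [hg]; exact hfin)
  let := hF.fintype
  let K := Fintype.card (FlatMorWeight.GP (AlgebraicClosure (U.residueField v)) s g) + 1
  refine ⟨K, ?_⟩
  rintro ⟨d, hd⟩
  have := hπ K
  have := locallyQuasiFinite_of_etale (π K)
  obtain ⟨h, hh, -⟩ := FlatMorWeight.exists_GP_at (π K) g d (hd.trans hg.symm)
  have := Fintype.card_le_of_injective
    (fun i : Fin K => (⟨h ≫ e K i, by
      show (h ≫ e K i) ≫ s = g
      rw [Category.assoc, he]; exact hh⟩ : FlatMorWeight.GP (AlgebraicClosure (U.residueField v)) s g))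
    fun i j hij => hinj K _ h (congrArg Subtype.val hij)
  rw [Fintype.card_fin] at this
  exact Nat.not_succ_le_self _ this

/-- an open on which the number of geometric points of the fibres is exactly `n` -/
def ExactLifts (N : U.Opens) (n : ℕ) : Prop :=
  ∃ (D : Scheme.{u}) (π : D ⟶ U) (e : Fin n → (D ⟶ R)), Etale π ∧ (∀ i, e i ≫ s = π) ∧
    (∀ (Ω : Type u) [Field Ω] (h : Spec (CommRingCat.of Ω) ⟶ D), Function.Injective fun i => h ≫ e i) ∧
    (N : Set U) ⊆ Set.range π ∧
    ∀ (Ω : Type u) [Field Ω] (g : Spec (CommRingCat.of Ω) ⟶ U) (f : Fin (n + 1) → (Spec (CommRingCat.of Ω) ⟶ R)),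
      (∀ i, f i ≫ s = g) → Function.Injective f → g (IsLocalRing.closedPoint Ω) ∉ N

theorem exists_exactLifts [IsAffine U] [Etale s] [IsSeparated s] (hfin : ∀ v, (s ⁻¹' {v}).Finite)
    {O : Set U} (hO : IsOpen O) (hne : O.Nonempty) :
    ∃ (N : U.Opens) (n : ℕ), (N : Set U).Nonempty ∧ (N : Set U) ⊆ O ∧ ExactLifts s N n := by
  classical
  choose D π e hπ hqc he hinj hfac using fun n => exists_distinct_lifts s n
  have hWo : ∀ n, IsOpen (Set.range (π n)) := fun n => (π n).isOpenMap.isOpen_range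
  have hbd : ∃ n, ∃ N : Set U, IsOpen N ∧ N.Nonempty ∧ N ⊆ O ∧ N ∩ Set.range (π n) = ∅ := by
    by_contra hcon
    simp only [not_exists, not_and] at hcon
    obtain ⟨v₀, hv₀⟩ := hne
    obtain ⟨V₀, ⟨hV₀, hV₀c⟩, hvV₀, hV₀O⟩ :=
      PrespectralSpace.isTopologicalBasis.exists_subset_of_mem_open hv₀ hO
    let A := {V : Set U // IsOpen V ∧ IsCompact V ∧ V.Nonempty ∧ V ⊆ O}
    have hstep : ∀ (k : ℕ) (V : A), ∃ V' : A, V'.1 ⊆ V.1 ∩ Set.range (π k) := fun k V => by
      obtain ⟨z, hzV, hzW⟩ := Set.nonempty_iff_ne_empty.2 (hcon k V.1 V.2.1 V.2.2.2.1 V.2.2.2.2)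
      obtain ⟨V', ⟨hV', hV'c⟩, hzV', hsub⟩ := PrespectralSpace.isTopologicalBasis.exists_subset_of_mem_open
        (a := z) (show z ∈ V.1 ∩ Set.range (π k) from ⟨hzV, hzW⟩) (V.2.1.inter (hWo k))
      exact ⟨⟨V', hV', hV'c, ⟨z, hzV'⟩, fun w hw => V.2.2.2.2 (hsub hw).1⟩, hsub⟩
    choose nxt hnxt using hstep
    let V : ℕ → A := fun k => Nat.rec (⟨V₀, hV₀, hV₀c, ⟨v₀, hvV₀⟩, hV₀O⟩ : A) nxt k
    have hV : ∀ k, (V (k + 1)).1 ⊆ (V k).1 ∩ Set.range (π k) := fun k => hnxt k (V k)
    have hanti : Antitone fun k => (V k).1 := antitone_nat_of_succ_le fun k => fun z hz => (hV k hz).1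
    obtain ⟨z, -, hz⟩ : ((Set.univ : Set U) ∩ ⋂ k, (V k).1).Nonempty := by
      refine @IsCompact.inter_iInter_nonempty U (constructibleTopology U) Set.univ ℕ
        (H8ProCons.isCompact_cons (@isClosed_univ _ (constructibleTopology U))) (fun k => (V k).1)
        (fun k => (@isOpen_compl_iff U _ (constructibleTopology U)).1
          (H8ProCons.isOpen_cons_compl_of_isCompact (V k).2.1 (V k).2.2.1)) fun σ => ?_
      obtain ⟨z, hz⟩ := (V (σ.sup id)).2.2.2.1
      exact ⟨z, trivial, Set.mem_iInter₂.2 fun k hk => hanti (Finset.le_sup (f := id) hk) hz⟩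
    obtain ⟨n, hn⟩ := notMem_range_of_finite s π e hπ he hinj z (hfin z)
    exact hn (hV n (Set.mem_iInter.1 hz (n + 1))).2
  have h0 : Nat.find hbd ≠ 0 := fun h => by
    obtain ⟨N, -, ⟨z, hz⟩, -, hN⟩ := Nat.find_spec hbd
    obtain ⟨g, hg⟩ := FlatMorWeight.exists_geomPt z
    obtain ⟨d, hd, -⟩ := hfac 0 _ g Fin.elim0 (fun i => i.elim0) fun i => i.elim0
    have : z ∈ Set.range (π 0) := ⟨FlatMorWeight.pt d, by rw [← FlatMorWeight.pt_comp, hd, hg]⟩
    rw [h] at hN
    exact (hN.subset ⟨hz, this⟩ : z ∈ (∅ : Set U))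
  obtain ⟨n, hn⟩ := Nat.exists_eq_succ_of_ne_zero h0
  obtain ⟨N, hN, hNne, hNO, hNe⟩ := Nat.find_spec hbd
  rw [hn] at hNe
  refine ⟨⟨N ∩ Set.range (π n), hN.inter (hWo n)⟩, n, Set.nonempty_iff_ne_empty.2 fun h =>
    Nat.find_min hbd (by omega) ⟨N, hN, hNne, hNO, h⟩, fun z hz => hNO hz.1,
    D n, π n, e n, hπ n, he n, hinj n, fun z hz => hz.2, fun Ω _ g f hf hfi hg => ?_⟩
  obtain ⟨h, hh, -⟩ := hfac (n + 1) Ω g f hf hfi
  exact (hNe.subset ⟨hg.1, ⟨h (IsLocalRing.closedPoint Ω), congrArg (fun φ => φ (IsLocalRing.closedPoint Ω)) hh⟩⟩ :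
    g (IsLocalRing.closedPoint Ω) ∈ (∅ : Set U))

theorem exists_exactLifts_at [IsAffine U] [Etale s] [IsSeparated s] [CompactSpace R]
    (hfin : ∀ v, (s ⁻¹' {v}).Finite) (v : U) (hmax : ∀ w, w ⤳ v → w = v) :
    ∃ (N : U.Opens) (n : ℕ), v ∈ N ∧ ExactLifts s N n := by
  classical
  choose D π e hπ hqc he hinj hfac using fun n => exists_distinct_lifts s n
  have hWo : ∀ n, IsOpen (Set.range (π n)) := fun n => (π n).isOpenMap.isOpen_range
  have hbd := notMem_range_of_finite s π e hπ he hinj v (hfin v)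
  have h0 : Nat.find hbd ≠ 0 := fun h => by
    have h' := Nat.find_spec hbd
    obtain ⟨g, hg⟩ := FlatMorWeight.exists_geomPt v
    obtain ⟨d, hd, -⟩ := hfac 0 _ g Fin.elim0 (fun i => i.elim0) fun i => i.elim0
    rw [h] at h'
    exact h' ⟨FlatMorWeight.pt d, by rw [← FlatMorWeight.pt_comp, hd, hg]⟩
  obtain ⟨n, hn⟩ := Nat.exists_eq_succ_of_ne_zero h0
  have hvn : v ∈ Set.range (π n) := not_not.1 (Nat.find_min hbd (by omega))
  have hvn' : v ∉ Set.range (π (n + 1)) := by
    have := Nat.find_spec hbd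
    rwa [hn] at this
  have : QuasiCompact s := quasiCompact_of_compactSpace s
  have := hqc (n + 1) this
  have : CompactSpace ↥(D (n + 1)) := QuasiCompact.compactSpace_of_compactSpace (π (n + 1))
  have hcl : v ∉ closure (Set.range (π (n + 1))) := fun h => by
    obtain ⟨y, hy, hyv⟩ := H8ProCons.exists_specializes_of_mem_closure
      (H8ProCons.isClosed_cons_of_isConstructible
        ((isCompact_range (π (n + 1)).continuous).isConstructible (hWo (n + 1)))) h
    exact hvn' (hmax y hyv ▸ hy)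
  refine ⟨⟨Set.range (π n) ∩ (closure (Set.range (π (n + 1))))ᶜ, (hWo n).inter isClosed_closure.isOpen_compl⟩,
    n, ⟨hvn, hcl⟩, D n, π n, e n, hπ n, he n, hinj n, fun z hz => hz.1, fun Ω _ g f hf hfi hg => ?_⟩
  obtain ⟨h, hh, -⟩ := hfac (n + 1) Ω g f hf hfi
  exact hg.2 (subset_closure
    ⟨h (IsLocalRing.closedPoint Ω), congrArg (fun φ => φ (IsLocalRing.closedPoint Ω)) hh⟩)

/-- over such an open, the pullback to the scheme of lifts is finite -/
theorem isFinite_of_exact [Etale s] [IsSeparated s] {n : ℕ} {D : Scheme.{u}} (π : D ⟶ U)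
    (e : Fin n → (D ⟶ R)) (he : ∀ i, e i ≫ s = π)
    (hinj : ∀ (Ω : Type u) [Field Ω] (h : Spec (CommRingCat.of Ω) ⟶ D), Function.Injective fun i => h ≫ e i)
    (hexh : ∀ (Ω : Type u) [Field Ω] (g : Spec (CommRingCat.of Ω) ⟶ D)
      (f : Fin (n + 1) → (Spec (CommRingCat.of Ω) ⟶ R)), (∀ i, f i ≫ s = g ≫ π) → ¬ Function.Injective f)
    {P : Scheme.{u}} {a : P ⟶ D} {b : P ⟶ R} (sq : IsPullback a b π s) : IsFinite a := by
  have : Etale a := MorphismProperty.of_isPullback sq.flip (inferInstance : Etale s)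
  let σ : Fin n → (D ⟶ P) := fun i => sq.lift (𝟙 D) (e i) (by rw [Category.id_comp, he])
  have ha : ∀ i, σ i ≫ a = 𝟙 D := fun i => sq.lift_fst _ _ _
  have hσ : ∀ i, IsOpenImmersion (σ i) := fun i => by
    have : Etale (σ i ≫ a) := by rw [ha]; infer_instance
    have : Etale (σ i) := Etale.of_comp (σ i) a
    have : IsSplitMono (σ i) := ⟨⟨⟨a, ha i⟩⟩⟩
    exact IsOpenImmersion.of_flat_of_mono (σ i)
  have hsurj : ∀ q : P, ∃ i, q ∈ Set.range (σ i) := fun q => by
    obtain ⟨g, hg⟩ := FlatMorWeight.exists_geomPt q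
    by_contra hcon
    simp only [not_exists] at hcon
    refine hexh _ (g ≫ a) (Fin.snoc (fun i => g ≫ a ≫ e i) (g ≫ b)) (fun i => ?_) (fun i j hij => ?_)
    · induction i using Fin.lastCases with
      | last => simp only [Fin.snoc_last, Category.assoc, sq.w]
      | cast i => simp only [Fin.snoc_castSucc, Category.assoc, he]
    · have key : ∀ i, g ≫ a ≫ e i ≠ g ≫ b := fun i hi => by
        have h : g = (g ≫ a) ≫ σ i := sq.hom_ext (by rw [Category.assoc, ha, Category.comp_id])
          (by rw [Category.assoc, sq.lift_snd, Category.assoc, hi])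
        refine hcon i ⟨FlatMorWeight.pt (g ≫ a), ?_⟩
        rw [← FlatMorWeight.pt_comp, ← h, hg]
      induction i using Fin.lastCases with
      | last =>
        induction j using Fin.lastCases with
        | last => rfl
        | cast j => simp only [Fin.snoc_last, Fin.snoc_castSucc] at hij; exact absurd hij.symm (key j)
      | cast i =>
        induction j using Fin.lastCases with
        | last => simp only [Fin.snoc_last, Fin.snoc_castSucc] at hij; exact absurd hij (key i)
        | cast j =>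
          simp only [Fin.snoc_castSucc] at hij
          exact congrArg Fin.castSucc (hinj _ (g ≫ a) (by simpa only [Category.assoc] using hij))
  have hdis : ∀ i j, i ≠ j → Disjoint (Set.range (σ i)) (Set.range (σ j)) := fun i j hij => by
    rw [Set.disjoint_left]
    intro q hqi hqj
    let k : Type u := P.residueField q
    let h : Spec (CommRingCat.of k) ⟶ P := P.fromSpecResidueField q
    have hfac : ∀ l, q ∈ Set.range (σ l) → h = (h ≫ a) ≫ σ l := fun l hl => by
      have hr : Set.range h ⊆ Set.range (σ l) := by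
        rintro _ ⟨z, rfl⟩
        rw [show h z = q from Scheme.fromSpecResidueField_apply q z]
        exact hl
      have e1 := IsOpenImmersion.lift_fac (σ l) h hr
      have e2 : h ≫ a = IsOpenImmersion.lift (σ l) h hr := by
        conv_lhs => rw [← e1]
        rw [Category.assoc, ha, Category.comp_id]
      rw [e2, e1]
    refine hij (hinj k (h ≫ a) ?_)
    have hi := congr($(hfac i hqi) ≫ b)
    have hj := congr($(hfac j hqj) ≫ b)
    simp only [Category.assoc, σ, sq.lift_snd] at hi hj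
    simp only [Category.assoc]
    exact hi.symm.trans hj
  have : IsOpenImmersion (Sigma.desc σ) := by
    refine isOpenImmersion_sigmaDesc _ _ fun i j hij => ?_
    exact hdis i j hij
  have : Surjective (Sigma.desc σ) := Surjective.sigmaDesc_of_union_range_eq_univ
    (Set.eq_univ_of_forall fun q => Set.mem_iUnion.2 (hsurj q))
  have : IsIso (Sigma.desc σ) := (isIso_iff_isOpenImmersion_and_epi_base _).2
    ⟨inferInstance, (TopCat.epi_iff_surjective _).2 (Sigma.desc σ).surjective⟩
  have e1 : Sigma.desc σ ≫ a = Limits.Sigma.desc fun _ : Fin n => 𝟙 D := Sigma.hom_ext _ _ fun i => by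
    rw [Sigma.ι_desc_assoc, ha, Sigma.ι_desc]
  have e2 : a = inv (Sigma.desc σ) ≫ Limits.Sigma.desc fun _ : Fin n => 𝟙 D := by rw [← e1, IsIso.inv_hom_id_assoc]
  have := isFinite_sigmaDesc (fun _ : Fin n => 𝟙 D) fun _ => inferInstance
  rw [e2]
  infer_instance

end Schemes

variable {S : Scheme.{u}} {X : Sp S}

/-- affine open subspaces through the fibres with a constant number of geometric points -/
theorem exists_affine_open_of_exact (hX : IsAlgSpace X) (hd : IsDecent X) {U : Over S} [IsAffine U.left]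
    (a : (yon S).obj U ⟶ X) (ha : RepWith @Etale a) {R : Over S} {s t : R ⟶ U}
    (sqR : IsPullback ((yon S).map t) ((yon S).map s) a a) [IsSeparated s.left]
    {N : U.left.Opens} {n : ℕ} (hN : ExactLifts s.left N n) {v : ↥U.left} (hv : v ∈ N) :
    ∃ (C : Over S) (j : (yon S).obj C ⟶ X), IsAffine C.left ∧ RepWith @IsOpenImmersion j ∧
      Points.ofPt a v ∈ Set.range (Points.map j) := by
  obtain ⟨D, π, e, hπ, he, hinj, hNr, hexh⟩ := hN
  have : Etale s.left := ha.property _ _ _ sqR
  let Ω : Set (Points X) := Points.ofPt a '' (N : Set U.left)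
  have hΩ : IsOpen Ω := isOpenMap_ofPt a ha _ N.2
  let j := openSubspaceι X Ω
  have hj : RepWith @IsOpenImmersion j := repWith_openSubspaceι X hΩ
  have : Mono j := inferInstanceAs (Mono (openSubspaceι X Ω))
  have hY := isAlgSpace_openSubspace hX hΩ
  let V := hj.1.pullback a
  let p := hj.1.fst a
  let ι₁ := hj.1.snd a
  have sqV : IsPullback p ((yon S).map ι₁) j a := hj.1.isPullback a
  have : IsOpenImmersion ι₁.left := hj.property_snd a
  have hpe : RepWith @Etale p := RepWith.baseChange sqV.flip ha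
  -- the cover by the scheme of lifts
  let O : D.Opens := π ⁻¹ᵁ N
  let D' : Over S := Over.mk ((O.ι ≫ π) ≫ U.hom)
  let πO : D' ⟶ U := Over.homMk (O.ι ≫ π) rfl
  have : Etale πO.left := inferInstanceAs (Etale (O.ι ≫ π))
  have : Etale (πO.left) := ‹_›
  let P := pullback πO s
  have sqP := (IsPullback.of_hasPullback πO s).map (yon S)
  have sqPs := (IsPullback.of_hasPullback πO s).map (Over.forget S)
  have hfinite : IsFinite (pullback.fst πO s).left := by
    refine isFinite_of_exact s.left (n := n) πO.left (fun i => O.ι ≫ e i) (fun i => ?_) (fun K _ h => ?_)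
      (fun K _ g f hf hfi => ?_) sqPs
    · show (O.ι ≫ e i) ≫ s.left = O.ι ≫ π
      rw [Category.assoc, he]
    · intro i i' hii'
      exact hinj K (h ≫ O.ι) (by simpa only [Category.assoc] using hii')
    · refine hexh K (g ≫ O.ι ≫ π) f hf hfi ?_
      exact (g (IsLocalRing.closedPoint K)).2
  have hπN : ∀ d, Points.ofPt ((yon S).map πO ≫ a) d ∈ Ω := fun d => by
    rw [ofPt_map]; exact ⟨_, d.2, rfl⟩
  obtain ⟨l, hl⟩ := (exists_lift_openSubspace_iff Ω ((yon S).map πO ≫ a)).2 hπN
  have big : IsPullback ((yon S).map (pullback.snd πO s) ≫ (yon S).map t) ((yon S).map (pullback.fst πO s))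
      a ((yon S).map πO ≫ a) := (sqP.paste_vert sqR.flip).flip
  let m := sqV.lift ((yon S).map (pullback.fst πO s) ≫ l)
    ((yon S).map (pullback.snd πO s) ≫ (yon S).map t) (by rw [Category.assoc, hl]; exact big.w.symm)
  have sqm : IsPullback m ((yon S).map (pullback.fst πO s)) p l :=
    IsPullback.of_right (by rw [show m ≫ (yon S).map ι₁ = _ from sqV.lift_snd _ _ _, hl]; exact big)
      (sqV.lift_fst _ _ _) sqV.flip
  have hle : RepWith @Etale ((yon S).map πO ≫ a) :=
    RepWith.comp ((repWith_yon_map_iff (P := @Etale) πO).2 inferInstance) ha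
  have hlr : Representable l := representable_diag_iff.1 hY.diag l
  have sql : IsPullback (𝟙 _) l ((yon S).map πO ≫ a) j := by
    refine isPullback_of_yon (by rw [Category.id_comp, hl]) fun T x y h => ⟨x, ⟨Category.comp_id x, ?_⟩, ?_⟩
    · exact (cancel_mono j).1 (by rw [Category.assoc, hl, h])
    · rintro z ⟨hz, -⟩
      rw [← hz, Category.comp_id]
  have hlE : RepWith @Etale l := RepWith.baseChange sql hle
  have hls : RepWith @Surjective l := by
    refine repWith_surjective_of_surjective_map hlr fun y => ?_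
    obtain ⟨w, hw, hwy⟩ : Points.map j y ∈ Ω := (range_openSubspaceι X Ω).subset ⟨y, rfl⟩
    obtain ⟨d, hd⟩ := hNr hw
    refine ⟨Points.ofScheme D' ⟨d, show π d ∈ N by rw [hd]; exact hw⟩, injective_map_of_mono j ?_⟩
    rw [← Points.map_comp, hl, ← Points.ofPt_eq_map_ofScheme, ofPt_map]
    exact (congrArg (Points.ofPt a) hd).trans hwy
  have : Sheaf.IsLocallySurjective l := isLocallySurjective_of_etale hlE hls
  have hpf : RepWith @IsFinite p := repWith_of_isLocallySurjective hpe.1 l sqm @IsFinite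
    ((repWith_yon_map_iff (P := @IsFinite) _).2 hfinite)
  -- the orbit lies in an affine open
  obtain ⟨y, hy⟩ : Points.ofPt a v ∈ Set.range (Points.map j) :=
    (range_openSubspaceι X Ω).symm.subset ⟨v, hv, rfl⟩
  obtain ⟨z, hz1, hz2⟩ := exists_point_of_isPullback sqV (x := y) (y := Points.ofScheme U v)
    (by rw [hy, ← Points.ofPt_eq_map_ofScheme])
  obtain ⟨w, rfl⟩ := (Points.schemeEquiv V).surjective z
  have hF : (Points.ofPt a ⁻¹' {Points.ofPt a v}).Finite :=
    (FiniteFibres.of_mk (hd (Points.ofPt a v))).2 U a inferInstance ha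
  have hVpt : ∀ u, Points.map j (Points.ofPt p u) = Points.ofPt a (ι₁.left u) := fun u => by
    rw [Points.map_ofPt, sqV.w, ofPt_map]
  have hrange : ∀ u' : ↥U.left, Points.ofPt a u' = Points.ofPt a v → u' ∈ Set.range ι₁.left := fun u' hu' => by
    obtain ⟨z', -, hz'⟩ := exists_point_of_isPullback sqV (x := y) (y := Points.ofScheme U u')
      (by rw [hy, ← Points.ofPt_eq_map_ofScheme, hu'])
    obtain ⟨w', rfl⟩ := (Points.schemeEquiv V).surjective z'
    exact ⟨w', (Points.schemeEquiv U).injective ((map_yon_map_ofScheme ι₁ w').symm.trans hz')⟩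
  obtain ⟨f, hf1, hf2⟩ := GrpdLib.exists_basicOpen_of_finite _ hF ι₁.left.opensRange
    (fun u' hu' => hrange u' hu')
  have hA : IsAffineOpen (ι₁.left ⁻¹ᵁ U.left.basicOpen f) :=
    ((isAffineOpen_top U.left).basicOpen f).preimage_of_isOpenImmersion ι₁.left hf2
  have hw : ι₁.left w = v :=
    (Points.schemeEquiv U).injective ((map_yon_map_ofScheme ι₁ w).symm.trans hz2)
  obtain ⟨C, jC, hC, hjC, y', hy'⟩ := exists_affine_open_of_finite_chart hY p hpe hpf w hA fun w' hw' => by
    refine hf1 ?_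
    show Points.ofPt a (ι₁.left w') = Points.ofPt a v
    rw [← hVpt, hw', hVpt, hw]
  exact ⟨C, jC ≫ j, hC, RepWith.comp hjC hj, y', by rw [Points.map_comp, hy', hVpt, hw]⟩

/-- an affine chart with separated arrows -/
theorem exists_chart_arrows (hX : IsAlgSpace X) (x : Points X) :
    ∃ (U : Over S) (_ : IsAffine U.left) (a : (yon S).obj U ⟶ X) (R : Over S) (s t : R ⟶ U),
      RepWith @Etale a ∧ x ∈ Set.range (Points.ofPt a) ∧
      IsPullback ((yon S).map t) ((yon S).map s) a a ∧ IsSeparated s.left := by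
  obtain ⟨U₀, a₀, hae, has⟩ := hX.atlas
  obtain ⟨u₀, rfl⟩ := surjective_ofPt a₀ has x
  obtain ⟨O, hO, huO, -⟩ := exists_isAffineOpen_mem_and_subset (x := u₀) (U := ⊤) trivial
  let U : Over S := Over.mk (O.ι ≫ U₀.hom)
  let j : U ⟶ U₀ := Over.homMk O.ι
  have : IsAffine U.left := hO
  have hj : IsOpenImmersion j.left := inferInstanceAs (IsOpenImmersion O.ι)
  let a := (yon S).map j ≫ a₀
  have ha : RepWith @Etale a :=
    RepWith.comp ((repWith_yon_map_iff (P := @Etale) j).2 inferInstance) hae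
  obtain ⟨t, ht⟩ := (yon S).map_surjective (ha.1.fst a)
  let s : ha.1.pullback a ⟶ U := ha.1.snd a
  have sqR : IsPullback ((yon S).map t) ((yon S).map s) a a := ht ▸ ha.1.isPullback a
  refine ⟨U, inferInstance, a, _, s, t, ha,
    ⟨(⟨u₀, huO⟩ : O), show Points.ofPt ((yon S).map j ≫ a₀) _ = _ by rw [ofPt_map]; rfl⟩, sqR, ?_⟩
  let l := pullback.lift t.left s.left ((Over.w t).trans (Over.w s).symm)
  have : Mono l := ⟨fun {W} g₁ g₂ hg => by
    have a1 := congr($hg ≫ pullback.fst U.hom U.hom)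
    have a2 := congr($hg ≫ pullback.snd U.hom U.hom)
    simp only [l, Category.assoc, pullback.lift_fst, pullback.lift_snd] at a1 a2
    exact Stk19b.Fppf.eqvRel_hom_ext (isEqvRel_of_isPullback sqR) a1 a2⟩
  have : IsSeparated U.hom := inferInstance
  rw [← pullback.lift_snd t.left s.left ((Over.w t).trans (Over.w s).symm)]
  exact inferInstanceAs (IsSeparated (l ≫ _))

/-- the schematic locus is dense -/
theorem exists_dense_scheme (hX : IsAlgSpace X) (hd : IsDecent X) :
    ∃ (G : Over S) (j : (yon S).obj G ⟶ X), RepWith @IsOpenImmersion j ∧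
      Dense (Set.range (Points.map j)) ∧
      ∀ x, (∃ (C : Over S) (k : (yon S).obj C ⟶ X), IsAffine C.left ∧ RepWith @IsOpenImmersion k ∧
          x ∈ Set.range (Points.map k)) → x ∈ Set.range (Points.map j) := by
  obtain ⟨U₀, a₀, hae₀, has₀⟩ := hX.atlas
  let ι := {u : ↥U₀.left // ∃ (C : Over S) (k : (yon S).obj C ⟶ X), IsAffine C.left ∧
    RepWith @IsOpenImmersion k ∧ Points.ofPt a₀ u ∈ Set.range (Points.map k)}
  choose C k _ hk hkm using fun u : ι => u.2
  let W : Set (Points X) := ⋃ u, Set.range (Points.map (k u))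
  have hW : IsOpen W := isOpen_iUnion fun u => by
    rw [show Set.range (Points.map (k u)) = Points.ofPt (k u) '' Set.univ by
      rw [Set.image_univ]; ext x; constructor
      · rintro ⟨z, rfl⟩
        obtain ⟨w, rfl⟩ := (Points.schemeEquiv _).surjective z
        exact ⟨w, Points.ofPt_eq_map_ofScheme _ _⟩
      · rintro ⟨w, rfl⟩; exact ⟨_, (Points.ofPt_eq_map_ofScheme _ _).symm⟩]
    exact isOpenMap_ofPt (k u) (RepWith.mono (fun _ _ f (_ : IsOpenImmersion f) => (inferInstance : Etale f)) (hk u))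
      _ isOpen_univ
  let j := openSubspaceι X W
  have hjo : RepWith @IsOpenImmersion j := repWith_openSubspaceι X hW
  have : Mono j := inferInstanceAs (Mono (openSubspaceι X W))
  choose k' hk' using fun u => (exists_lift_iff_range_subset hjo (k u)).2 (by
    rintro _ ⟨z, rfl⟩
    rw [range_openSubspaceι]
    exact Set.mem_iUnion.2 ⟨u, z, rfl⟩)
  have hk'o : ∀ u, RepWith @IsOpenImmersion (k' u) := fun u => by
    have sq : IsPullback (𝟙 _) (k' u) (k u) j := by
      refine isPullback_of_yon (by rw [Category.id_comp, hk']) fun T x y h => ⟨x, ⟨Category.comp_id x, ?_⟩, ?_⟩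
      · exact (cancel_mono j).1 (by rw [Category.assoc, hk', h])
      · rintro z ⟨hz, -⟩
        rw [← hz, Category.comp_id]
    exact RepWith.baseChange sq (hk u)
  obtain ⟨G, ⟨e⟩⟩ := exists_iso_yon_of_openCover k' hk'o fun y => by
    obtain ⟨u, z, hz⟩ : ∃ u, Points.map j y ∈ Set.range (Points.map (k u)) :=
      Set.mem_iUnion.1 ((range_openSubspaceι X W).subset ⟨y, rfl⟩)
    exact ⟨u, z, injective_map_of_mono j (by rw [← Points.map_comp, hk', hz])⟩
  have hr : Set.range (Points.map (e.hom ≫ j)) = W := by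
    refine Eq.trans ?_ (range_openSubspaceι X W)
    ext x
    constructor
    · rintro ⟨z, rfl⟩; exact ⟨Points.map e.hom z, (Points.map_comp _ _ _).symm⟩
    · rintro ⟨z, rfl⟩
      exact ⟨Points.map e.inv z, by rw [← Points.map_comp, Iso.inv_hom_id_assoc]⟩
  have hall : ∀ x, (∃ (C : Over S) (k : (yon S).obj C ⟶ X), IsAffine C.left ∧
      RepWith @IsOpenImmersion k ∧ x ∈ Set.range (Points.map k)) → x ∈ W := fun x hx => by
    obtain ⟨u, rfl⟩ := surjective_ofPt a₀ has₀ x
    exact Set.mem_iUnion.2 ⟨⟨u, hx⟩, hkm ⟨u, hx⟩⟩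
  refine ⟨G, e.hom ≫ j, RepWith.comp (repWith_of_isIso @IsOpenImmersion e.hom) hjo, ?_,
    fun x hx => hr.symm ▸ hall x hx⟩
  rw [hr, dense_iff_inter_open]
  intro V hV hne
  obtain ⟨x, hx⟩ := hne
  obtain ⟨U, hU, a, R, s, t, ha, ⟨u, rfl⟩, sqR, hsep⟩ := exists_chart_arrows hX x
  have : Etale s.left := ha.property _ _ _ sqR
  obtain ⟨N, n, ⟨v, hv⟩, hNV, hN⟩ := exists_exactLifts s.left (fun v => by
    obtain ⟨p, hp, -, hq⟩ := hd (Points.ofPt a v)
    refine (finite_arrows_of_qc hX p.toHom hq a ha sqR).subset fun r hr => ?_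
    show Points.ofPt _ r = _
    rw [sqR.w, ofPt_map, ptOfHom_toHom, hp]
    exact congrArg _ hr) (hV.preimage (Points.continuous_ofPt a)) ⟨u, hx⟩
  exact ⟨_, hNV hv, hall _ (exists_affine_open_of_exact hX hd a ha sqR hN hv)⟩

/-- over an affine open of the base, arrows of charts of quasi-separated spaces are compact -/
theorem compactSpace_arrows (hqs : IsQuasiSeparatedSp X) {U R : Over S} [IsAffine U.left] {Z : S.Opens}
    (hZ : IsAffineOpen Z) (hU : Set.range U.hom ⊆ Z) (a : (yon S).obj U ⟶ X) {s t : R ⟶ U}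
    (sqR : IsPullback ((yon S).map t) ((yon S).map s) a a) : CompactSpace ↥R.left := by
  have h := RepWith.baseChange (P := @QuasiCompact) (isPullback_diag_prod_map sqR) hqs
  have e : prod.lift ((yon S).map t) ((yon S).map s) =
      (yon S).map (prod.lift t s) ≫ prodComparison (yon S) U U := by
    apply Limits.prod.hom_ext <;> simp [← Functor.map_comp, prod.lift_fst, prod.lift_snd]
  rw [e, MorphismProperty.cancel_right_of_respectsIso (RepWith @QuasiCompact),
    repWith_yon_map_iff (P := @QuasiCompact)] at h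
  have : QuasiCompact (prod.lift t s).left := h
  have hr : Set.range U.hom ⊆ Set.range Z.ι := by rw [Scheme.Opens.range_ι]; exact hU
  have : IsAffine Z.toScheme := hZ
  let f := IsOpenImmersion.lift Z.ι U.hom hr
  have : IsAffine (pullback f f) := inferInstance
  have hf : f ≫ Z.ι = U.hom := IsOpenImmersion.lift_fac _ _ _
  let φ : pullback U.hom U.hom ⟶ pullback f f := pullback.lift (pullback.fst _ _) (pullback.snd _ _)
    ((cancel_mono Z.ι).1 (by rw [Category.assoc, Category.assoc, hf, pullback.condition]))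
  let ψ : pullback f f ⟶ pullback U.hom U.hom := pullback.lift (pullback.fst _ _) (pullback.snd _ _)
    (by rw [← hf, pullback.condition_assoc])
  have : IsIso φ := ⟨ψ, by apply pullback.hom_ext <;> simp [φ, ψ, pullback.lift_fst, pullback.lift_snd],
    by apply pullback.hom_ext <;> simp [φ, ψ, pullback.lift_fst, pullback.lift_snd]⟩
  have : IsAffine (pullback U.hom U.hom) := IsAffine.of_isIso φ
  have : CompactSpace ↥(U ⨯ U).left :=
    (Over.prodLeftIsoPullback U U).hom.homeomorph.symm.compactSpace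
  exact QuasiCompact.compactSpace_of_compactSpace (prod.lift t s).left

/-- points without proper generalisations of quasi-separated spaces have affine neighbourhoods -/
theorem exists_affine_nbhd_of_maximal (hX : IsAlgSpace X) (hqs : IsQuasiSeparatedSp X) (x : Points X)
    (hmax : ∀ y, y ⤳ x → y = x) :
    ∃ (C : Over S) (k : (yon S).obj C ⟶ X), IsAffine C.left ∧ RepWith @IsOpenImmersion k ∧
      x ∈ Set.range (Points.map k) := by
  have hd := isDecent_of_qsep hX hqs
  obtain ⟨U₁, hU₁, a₁, R₁, s₁, t₁, ha₁, ⟨u₁, rfl⟩, sqR₁, hsep₁⟩ := exists_chart_arrows hX x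
  obtain ⟨Z, hZ, huZ, -⟩ := exists_isAffineOpen_mem_and_subset (x := U₁.hom u₁) (U := ⊤) trivial
  obtain ⟨O, hO, huO, hOZ⟩ := exists_isAffineOpen_mem_and_subset (x := u₁) (U := U₁.hom ⁻¹ᵁ Z) huZ
  let U : Over S := Over.mk (O.ι ≫ U₁.hom)
  let j : U ⟶ U₁ := Over.homMk O.ι
  have : IsAffine U.left := hO
  have hj : IsOpenImmersion j.left := inferInstanceAs (IsOpenImmersion O.ι)
  let a := (yon S).map j ≫ a₁
  have ha : RepWith @Etale a :=
    RepWith.comp ((repWith_yon_map_iff (P := @Etale) j).2 inferInstance) ha₁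
  obtain ⟨t, ht⟩ := (yon S).map_surjective (ha.1.fst a)
  let s : ha.1.pullback a ⟶ U := ha.1.snd a
  have sqR : IsPullback ((yon S).map t) ((yon S).map s) a a := ht ▸ ha.1.isPullback a
  have : CompactSpace ↥(ha.1.pullback a).left := compactSpace_arrows hqs hZ
    (by rintro _ ⟨w, rfl⟩; exact hOZ w.2) a sqR
  have : Etale s.left := ha.property _ _ _ sqR
  have : IsSeparated s.left := by
    let l := pullback.lift t.left s.left ((Over.w t).trans (Over.w s).symm)
    have : Mono l := ⟨fun {W} g₁ g₂ hg => by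
      have a1 := congr($hg ≫ pullback.fst U.hom U.hom)
      have a2 := congr($hg ≫ pullback.snd U.hom U.hom)
      simp only [l, Category.assoc, pullback.lift_fst, pullback.lift_snd] at a1 a2
      exact Stk19b.Fppf.eqvRel_hom_ext (isEqvRel_of_isPullback sqR) a1 a2⟩
    have : IsSeparated U.hom := inferInstance
    rw [← pullback.lift_snd t.left s.left ((Over.w t).trans (Over.w s).symm)]
    exact inferInstanceAs (IsSeparated (l ≫ _))
  let v : ↥U.left := (⟨u₁, huO⟩ : O)
  have hv : Points.ofPt a v = Points.ofPt a₁ u₁ := ofPt_map j a₁ v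
  obtain ⟨N, n, hvN, hN⟩ := exists_exactLifts_at s.left (fun v => by
    obtain ⟨p, hp, -, hq⟩ := hd (Points.ofPt a v)
    refine (finite_arrows_of_qc hX p.toHom hq a ha sqR).subset fun r hr => ?_
    show Points.ofPt _ r = _
    rw [sqR.w, ofPt_map, ptOfHom_toHom, hp]
    exact congrArg _ hr) v fun w hw =>
      (eq_of_specializes_of_finiteFibres (FiniteFibres.of_mk (hd (Points.ofPt a v))).2 a ha rfl
        ((hmax _ (hv ▸ hw.map (Points.continuous_ofPt a))).trans hv.symm) hw).symm
  rw [← hv]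
  exact exists_affine_open_of_exact hX hd a ha sqR hN hvN

end Groth.Agent.AlgSpLib
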