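import Groth.Agent.AlgSpLib.SplitDenseScheme
import Groth.Agent.AlgSpLib.DenseScheme
import Groth.Agent.AlgSpLib.DecentDim
import Groth.Agent.AlgSpLib.InductPrinciple
import Groth.Agent.AlgSpLib.OpenCoverScheme
import Groth.Agent.AlgSpLib.SheafCoprod2
import Groth.Agent.AlgSpLib.YonCoprod

/-!
A separated quasi-compact etale chart of a space with finitely many components splits after a finite etale cover
of a dense quasi-compact open subscheme.
-/

universe u

open CategoryTheory CategoryTheory.Limits AlgebraicGeometry Opposite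
open TopologicalSpace
open AlgSp

noncomputable section

namespace Groth.Agent.AlgSpLib

set_option backward.isDefEq.respectTransparency.types false
set_option backward.isDefEq.respectTransparency false

variable {S : Scheme.{u}}

/-- `σ` splits `b` over `q` on geometric points -/
def SplitsAt {F : Sp S} {V Y : Over S} (b : (yon S).obj V ⟶ F) (q : (yon S).obj Y ⟶ F) {ι : Type} (σ : ι → (Y ⟶ V)) :
    Prop :=
  ∀ (Ω : Type u) [Field Ω] [IsSepClosed Ω] (sΩ : Spec (CommRingCat.of Ω) ⟶ S) (y : Over.mk sΩ ⟶ Y)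
    (v : Over.mk sΩ ⟶ V), (yon S).map y ≫ q = (yon S).map v ≫ b → ∃ i, v = y ≫ σ i

theorem exists_split_piece (X : Space S) (hqs : IsQuasiSeparatedSp X.obj)
    (hfin : {x : Points X.obj | ∀ z, z ⤳ x → z = x}.Finite)
    (hgen : ∀ y : Points X.obj, ∃ x, (∀ z, z ⤳ x → z = x) ∧ x ⤳ y)
    {V : Over S} (b : (yon S).obj V ⟶ X.obj) (hb : RepWith @Etale b) (hbs : RepWith @Surjective b)
    (hbsep : IsSeparatedMor b) (hbqc : RepWith @QuasiCompact b) (x : Points X.obj)
    (hx : ∀ z, z ⤳ x → z = x) :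
    ∃ (C Y : Over S) (τ : Y ⟶ C) (j : (yon S).obj C ⟶ X.obj) (n : ℕ) (σ : Fin n → (Y ⟶ V)),
      0 < n ∧ IsFinite τ.left ∧ Etale τ.left ∧ Surjective τ.left ∧ CompactSpace ↥C.left ∧
      RepWith @IsOpenImmersion j ∧ x ∈ Set.range (Points.map j) ∧ (∀ y ∈ Set.range (Points.map j), x ⤳ y) ∧
      (∀ i, (yon S).map (σ i) ≫ b = (yon S).map τ ≫ j) ∧ SplitsAt b ((yon S).map τ ≫ j) σ := by
  obtain ⟨C₀, k, hC₀, hk, hxk⟩ := exists_affine_nbhd_of_maximal X.property hqs x hx
  haveI := Induct.mono_openImm hk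
  rw [Induct.range_map_yon] at hxk
  obtain ⟨u, hu⟩ := hxk
  let D : Set (Points X.obj) := ⋃ z ∈ {z : Points X.obj | ∀ w, w ⤳ z → w = z} \ {x}, closure {z}
  have hD : IsClosed D := hfin.sdiff.isClosed_biUnion fun z _ => isClosed_closure
  have hxD : x ∉ D := fun h => by
    obtain ⟨z, ⟨hz, hzx⟩, hm⟩ := Set.mem_iUnion₂.1 h
    exact hzx (hx z (specializes_iff_mem_closure.2 hm))
  obtain ⟨O, hO, huO, hOD⟩ := exists_isAffineOpen_mem_and_subset (x := u)
    (U := ⟨Points.ofPt k ⁻¹' Dᶜ, hD.isOpen_compl.preimage (Points.continuous_ofPt k)⟩)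
    (show Points.ofPt k u ∈ Dᶜ by rw [hu]; exact hxD)
  let T : Over S := Over.mk (O.ι ≫ C₀.hom)
  let jT : T ⟶ C₀ := Over.homMk O.ι rfl
  let k₁ := (yon S).map jT ≫ k
  haveI : IsAffine T.left := hO
  have hk₁ : RepWith @IsOpenImmersion k₁ :=
    RepWith.comp ((repWith_yon_map_iff (P := @IsOpenImmersion) jT).2 (inferInstanceAs (IsOpenImmersion O.ι))) hk
  let η : ↥T.left := ⟨u, huO⟩
  have hη : Points.ofPt k₁ η = x := (ofPt_map jT k η).trans hu
  haveI := Induct.mono_openImm hk₁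
  have hinj : Function.Injective (Points.ofPt k₁) := fun p q h => by
    rw [Points.ofPt_eq_map_ofScheme, Points.ofPt_eq_map_ofScheme] at h
    exact (Points.schemeEquiv T).injective (injective_map_of_mono k₁ h)
  have hTmax : ∀ t, t ⤳ η → t = η := fun t ht =>
    hinj ((hx _ (hη ▸ ht.map (Points.continuous_ofPt k₁))).trans hη.symm)
  have hall : ∀ t : ↥T.left, x ⤳ Points.ofPt k₁ t := fun t => by
    obtain ⟨z, hz, hzt⟩ := hgen (Points.ofPt k₁ t)
    by_contra hne
    refine hOD t.2 (Set.mem_iUnion₂.2 ⟨z, ⟨hz, fun (h : z = x) => hne (h ▸ hzt)⟩, ?_⟩)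
    rw [← show Points.ofPt k₁ t = Points.ofPt k t.1 from ofPt_map jT k t]
    exact specializes_iff_mem_closure.1 hzt
  have hTgen : ∀ t, η ⤳ t := fun t => by
    have ho : Topology.IsInducing (Points.ofPt k₁) :=
      (Topology.IsOpenEmbedding.of_continuous_injective_isOpenMap (Points.continuous_ofPt k₁) hinj
        (isOpenMap_ofPt k₁ (Induct.repWith_etale hk₁))).isInducing
    exact ho.specializes_iff.1 (hη.symm ▸ hall t)
  -- the chart over the affine piece
  obtain ⟨R, ρ, fst, sq, hρe⟩ := exists_yon_of_repWith hb k₁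
  obtain ⟨vR, rfl⟩ := (yon S).map_surjective fst
  haveI : Etale ρ.left := hρe
  haveI : QuasiCompact ρ.left := hbqc.property _ _ _ sq
  haveI : Surjective ρ.left := hbs.property _ _ _ sq
  haveI : IsSeparated ρ.left := (isSeparatedMor_yon_map_iff _).1 (isSeparatedMor_of_isPullback sq hbsep)
  haveI : CompactSpace ↥R.left := QuasiCompact.compactSpace_of_compactSpace ρ.left
  obtain ⟨N, hηN, hN, Y₀, τ₀, hτf, hτe, hτs, n, σ₀, hn, hσ, hsplit⟩ :=
    exists_split_nhd ρ.left hTgen hTmax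
  let C : Over S := Over.mk (N.ι ≫ T.hom)
  let jN : C ⟶ T := Over.homMk N.ι rfl
  let Y : Over S := Over.mk (τ₀ ≫ C.hom)
  let τ : Y ⟶ C := Over.homMk τ₀ rfl
  let s : Fin n → (Y ⟶ R) := fun i => Over.homMk (σ₀ i) (by
    show σ₀ i ≫ R.hom = τ₀ ≫ N.ι ≫ T.hom
    rw [← Over.w ρ, ← Category.assoc, hσ i, Category.assoc])
  have hs : ∀ i, s i ≫ ρ = τ ≫ jN := fun i => Over.OverMorphism.ext (hσ i)
  have hjN : RepWith @IsOpenImmersion ((yon S).map jN ≫ k₁) :=
    RepWith.comp ((repWith_yon_map_iff (P := @IsOpenImmersion) jN).2 (inferInstanceAs (IsOpenImmersion N.ι))) hk₁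
  refine ⟨C, Y, τ, (yon S).map jN ≫ k₁, n, fun i => s i ≫ vR, hn, hτf, hτe, hτs,
    isCompact_iff_compactSpace.1 hN.isCompact, hjN, ?_, ?_, fun i => ?_, fun Ω _ _ sΩ y v hyv => ?_⟩
  · rw [Induct.range_map_yon]
    exact ⟨⟨η, hηN⟩, (ofPt_map jN k₁ _).trans hη⟩
  · rw [Induct.range_map_yon]
    rintro _ ⟨t, rfl⟩
    rw [ofPt_map]
    exact hall _
  · rw [Functor.map_comp, Category.assoc, sq.w, ← Functor.map_comp_assoc, hs, Functor.map_comp, Category.assoc]
  obtain ⟨r, hr⟩ := (yon S).map_surjective (sq.lift ((yon S).map v) ((yon S).map (y ≫ τ ≫ jN)) (by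
    rw [← hyv]; simp only [Functor.map_comp, Category.assoc]))
  have hr1 : r ≫ vR = v := (yon S).map_injective (by rw [Functor.map_comp, hr, sq.lift_fst])
  have hr2 : r ≫ ρ = y ≫ τ ≫ jN := (yon S).map_injective (by rw [Functor.map_comp, hr, sq.lift_snd])
  obtain ⟨i, hi⟩ := hsplit Ω y.left r.left (congrArg (fun t => t.left) hr2)
  refine ⟨i, ?_⟩
  rw [← hr1, ← Category.assoc]
  exact congrArg (· ≫ vR) (Over.OverMorphism.ext hi : r = y ≫ s i)

theorem isFinite_sigmaDesc' {T : Scheme.{u}} {m : ℕ} (W : ULift.{u} (Fin m) → Scheme.{u}) (k : ∀ i, W i ⟶ T)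
    (h : ∀ i, IsFinite (k i)) : IsFinite (Sigma.desc k) := by
  haveI := isFinite_sigmaDesc (W := fun i : Fin m => W ⟨i⟩) (fun i => k ⟨i⟩) fun i => h _
  let f : (∐ W) ⟶ ∐ fun i : Fin m => W ⟨i⟩ := Sigma.desc fun i => Sigma.ι (fun i : Fin m => W ⟨i⟩) i.down
  let g : (∐ fun i : Fin m => W ⟨i⟩) ⟶ ∐ W := Sigma.desc fun i => Sigma.ι W ⟨i⟩
  haveI : IsIso f := ⟨g, Sigma.hom_ext _ _ fun ⟨i⟩ => by simp [f, g], Sigma.hom_ext _ _ fun i => by simp [f, g]⟩
  rw [show Sigma.desc k = f ≫ Sigma.desc fun i => k ⟨i⟩ from Sigma.hom_ext _ _ fun ⟨i⟩ => by simp [f]]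
  infer_instance

theorem exists_split_dense [QuasiSeparatedSpace ↥S] (X : Space S)
    (hqs : IsQuasiSeparatedSp X.obj) (hirr : (irreducibleComponents (Points X.obj)).Finite)
    {V : Over S} (b : (yon S).obj V ⟶ X.obj) (hb : RepWith @Etale b) (hbs : RepWith @Surjective b)
    (hbsep : IsSeparatedMor b) (hbqc : RepWith @QuasiCompact b) :
    ∃ (G Y : Over S) (τ : Y ⟶ G) (j : (yon S).obj G ⟶ X.obj) (n : ℕ) (σ : Fin n → (Y ⟶ V)),
      IsFinite τ.left ∧ Etale τ.left ∧ Surjective τ.left ∧ CompactSpace ↥G.left ∧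
      RepWith @IsOpenImmersion j ∧ Dense (Set.range (Points.map j)) ∧
      (∀ i, (yon S).map (σ i) ≫ b = (yon S).map τ ≫ j) ∧ SplitsAt b ((yon S).map τ ≫ j) σ := by
  classical
  have hd := isDecent_of_qsep X.property hqs
  haveI := t0Space_points X.property hd
  haveI := quasiSober_points X.property hd
  let M : Set (Points X.obj) := {x | ∀ z, z ⤳ x → z = x}
  have hfin : M.Finite := by
    refine Set.Finite.of_finite_image (hirr.subset ?_) (f := fun x => closure ({x} : Set (Points X.obj))) ?_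
    · rintro _ ⟨x, hx, rfl⟩
      refine ⟨isIrreducible_singleton.closure, fun Z hZ hxZ c hc => ?_⟩
      obtain ⟨y, hy⟩ := QuasiSober.sober hZ.closure isClosed_closure
      have hy' := hx y (hy.specializes (subset_closure (hxZ (subset_closure rfl))))
      exact specializes_iff_mem_closure.1 (hy' ▸ hy.specializes (subset_closure hc))
    · intro x hx y hy h
      exact hy x (specializes_iff_mem_closure.2 (by rw [show closure {x} = closure {y} from h]; exact subset_closure rfl))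
  have hgen : ∀ y : Points X.obj, ∃ x, (∀ z, z ⤳ x → z = x) ∧ x ⤳ y := fun y => by
    obtain ⟨x, hx⟩ := QuasiSober.sober (isIrreducible_irreducibleComponent (x := y)) isClosed_irreducibleComponent
    refine ⟨x, fun z hz => ?_, hx.specializes mem_irreducibleComponent⟩
    have h1 : closure {x} ⊆ closure {z} :=
      closure_minimal (Set.singleton_subset_iff.2 (specializes_iff_mem_closure.1 hz)) isClosed_closure
    rw [hx.def] at h1
    have h2 := (irreducibleComponent_mem_irreducibleComponents y).2 isIrreducible_singleton.closure h1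
    exact hz.antisymm (hx.specializes (h2 (subset_closure rfl))) |>.eq
  haveI := hfin.to_subtype
  obtain ⟨m, ⟨e⟩⟩ := Finite.exists_equiv_fin M
  let pt : ULift.{u} (Fin m) → Points X.obj := fun i => (e.symm i.down).1
  choose C Yi τi ji ni σi hn hτf hτe hτs hC hji hxi hsub hσi hsplit using fun i =>
    exists_split_piece X hqs hfin hgen b hb hbs hbsep hbqc (pt i) (e.symm i.down).2
  -- the open subspace
  let W : Set (Points X.obj) := ⋃ i, Set.range (Points.map (ji i))
  have hW : IsOpen W := isOpen_iUnion fun i => Induct.isOpen_range_map (IsAlgSpace.yon_obj _) (hji i)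
  let jW := openSubspaceι X.obj W
  have hjW : RepWith @IsOpenImmersion jW := repWith_openSubspaceι X.obj hW
  haveI : Mono jW := inferInstanceAs (Mono (openSubspaceι X.obj W))
  choose k hk using fun i => (exists_lift_iff_range_subset hjW (ji i)).2 (by
    rintro _ ⟨z, rfl⟩
    rw [range_openSubspaceι]
    exact Set.mem_iUnion.2 ⟨i, z, rfl⟩)
  have hko : ∀ i, RepWith @IsOpenImmersion (k i) := fun i => by
    have sq : IsPullback (𝟙 _) (k i) (ji i) jW := by
      refine isPullback_of_yon (by rw [Category.id_comp, hk]) fun T x y h => ⟨x, ⟨Category.comp_id x, ?_⟩, ?_⟩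
      · exact (cancel_mono jW).1 (by rw [Category.assoc, hk, h])
      · rintro z ⟨hz, -⟩
        rw [← hz, Category.comp_id]
    exact RepWith.baseChange sq (hji i)
  obtain ⟨G, ⟨eG⟩⟩ := exists_iso_yon_of_openCover k hko fun y => by
    obtain ⟨i, z, hz⟩ : ∃ i, Points.map jW y ∈ Set.range (Points.map (ji i)) :=
      Set.mem_iUnion.1 ((range_openSubspaceι X.obj W).subset ⟨y, rfl⟩)
    exact ⟨i, z, injective_map_of_mono jW (by rw [← Points.map_comp, hk, hz])⟩
  let j := eG.hom ≫ jW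
  have hj : RepWith @IsOpenImmersion j := RepWith.comp (repWith_of_isIso @IsOpenImmersion eG.hom) hjW
  haveI := Induct.mono_openImm hj
  choose c hc using fun i => (yon S).map_surjective (k i ≫ eG.inv)
  have hcj : ∀ i, (yon S).map (c i) ≫ j = ji i := fun i => by
    rw [hc, Category.assoc]; simp only [j, eG.inv_hom_id_assoc, hk]
  have hco : ∀ i, IsOpenImmersion (c i).left := fun i => (repWith_yon_map_iff _ (c i)).1 (by
    rw [hc]; exact RepWith.comp (hko i) (repWith_of_isIso _ _))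
  have hrj : Set.range (Points.map j) = W := by
    refine Eq.trans ?_ (range_openSubspaceι X.obj W)
    ext x
    constructor
    · rintro ⟨z, rfl⟩; exact ⟨Points.map eG.hom z, (Points.map_comp _ _ _).symm⟩
    · rintro ⟨z, rfl⟩
      exact ⟨Points.map eG.inv z, by rw [← Points.map_comp]; simp only [j, eG.inv_hom_id_assoc]; rfl⟩
  have hjinj : Function.Injective (Points.ofPt j) := fun p q h => by
    rw [Points.ofPt_eq_map_ofScheme, Points.ofPt_eq_map_ofScheme] at h
    exact (Points.schemeEquiv G).injective (injective_map_of_mono j h)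
  have hcr : ∀ i z, z ∈ Set.range (c i).left → pt i ⤳ Points.ofPt j z := by
    rintro i _ ⟨t, rfl⟩
    refine hsub i _ ?_
    rw [Induct.range_map_yon]
    exact ⟨t, by rw [← hcj i, ofPt_map]⟩
  have hmem : ∀ i, ∃ t, Points.ofPt (ji i) t = pt i := fun i => by
    have := hxi i
    rwa [Induct.range_map_yon] at this
  have hcov : ∀ z : ↥G.left, ∃ i, z ∈ Set.range (c i).left := fun z => by
    have h1 : Points.ofPt j z ∈ W := by
      rw [← hrj, Induct.range_map_yon]; exact ⟨z, rfl⟩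
    obtain ⟨i, hi⟩ := Set.mem_iUnion.1 h1
    rw [Induct.range_map_yon] at hi
    obtain ⟨t, ht⟩ := hi
    exact ⟨i, t, hjinj (by rw [← ofPt_map, hcj, ht])⟩
  have hdisj : ∀ i i' z, z ∈ Set.range (c i).left → z ∈ Set.range (c i').left → i = i' := by
    intro i i' z h h'
    obtain ⟨t', ht'⟩ := hmem i'
    obtain ⟨t, ht⟩ := hmem i
    have hmi : pt i' ⤳ pt i := by
      have h1 : pt i ∈ Set.range (Points.map (ji i')) := by
        obtain ⟨q, rfl⟩ := h'
        refine (hcr i _ h).mem_open (Induct.isOpen_range_map (IsAlgSpace.yon_obj _) (hji i')) ?_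
        rw [Induct.range_map_yon]
        exact ⟨q, by rw [← hcj i', ofPt_map]⟩
      exact hsub i' _ h1
    have h2 : pt i' = pt i := (e.symm i.down).2 _ hmi
    exact (ULift.ext _ _ (e.symm.injective (Subtype.ext h2))).symm
  have hcl : ∀ i, IsClosedImmersion (c i).left := fun i => by
    haveI := hco i
    refine IsClosedImmersion.of_isPreimmersion _ (isOpen_compl_iff.1 (isOpen_iff_forall_mem_open.2 fun z hz => ?_))
    obtain ⟨i', hi'⟩ := hcov z
    haveI := hco i'
    exact ⟨_, fun q hq hq' => hz (hdisj i i' q hq' hq ▸ hi'), (c i').left.isOpenEmbedding.isOpen_range, hi'⟩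
  -- the cover
  let Y : Over S := sigmaOver Yi
  let τ : Y ⟶ G := Over.homMk (Sigma.desc fun i => (τi i ≫ c i).left) (Sigma.hom_ext _ _ fun i => by
    simp [Y, sigmaOver])
  have hτ : ∀ i, sigmaOverι Yi i ≫ τ = τi i ≫ c i := fun i => Over.OverMorphism.ext (Sigma.ι_desc _ _)
  let N : ℕ := (Finset.univ.sup ni) + 1
  let idx : ∀ i, Fin N → Fin (ni i) := fun i a => ⟨min a.1 (ni i - 1), by have := hn i; omega⟩
  let σ : Fin N → (Y ⟶ V) := fun a => Over.homMk (Sigma.desc fun i => (σi i (idx i a)).left)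
    (Sigma.hom_ext _ _ fun i => by simp [Y, sigmaOver])
  have hσ : ∀ a i, sigmaOverι Yi i ≫ σ a = σi i (idx i a) := fun a i => Over.OverMorphism.ext (Sigma.ι_desc _ _)
  refine ⟨G, Y, τ, j, N, σ, ?_, ?_, ?_, ?_, hj, ?_, fun a => ?_, fun Ω _ _ sΩ y v hyv => ?_⟩
  · show IsFinite (Sigma.desc fun i => (τi i ≫ c i).left)
    refine isFinite_sigmaDesc' _ _ fun i => ?_
    haveI := hτf i
    haveI := hcl i
    exact inferInstanceAs (IsFinite ((τi i).left ≫ (c i).left))
  · show Etale (Sigma.desc fun i => (τi i ≫ c i).left)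
    refine IsZariskiLocalAtSource.sigmaDesc fun i => ?_
    haveI := hτe i
    haveI := hco i
    exact inferInstanceAs (Etale ((τi i).left ≫ (c i).left))
  · refine ⟨fun z => ?_⟩
    obtain ⟨i, t, rfl⟩ := hcov z
    haveI := hτs i
    obtain ⟨q, rfl⟩ := (τi i).left.surjective t
    exact ⟨(sigmaOverι Yi i).left q, congrArg (fun f => f.left q) (hτ i)⟩
  · refine ⟨?_⟩
    rw [show (Set.univ : Set ↥G.left) = ⋃ i, Set.range (c i).left from
      (Set.eq_univ_of_forall fun z => Set.mem_iUnion.2 (hcov z)).symm]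
    exact isCompact_iUnion fun i => haveI := hC i; isCompact_range (c i).left.continuous
  · refine dense_iff_inter_open.2 fun U hU ⟨y, hy⟩ => ?_
    obtain ⟨x, hx, hxy⟩ := hgen y
    refine ⟨x, hxy.mem_open hU hy, ?_⟩
    rw [hrj]
    refine Set.mem_iUnion.2 ⟨⟨e ⟨x, hx⟩⟩, ?_⟩
    have := hxi ⟨e ⟨x, hx⟩⟩
    simpa [pt] using this
  · refine (existsUnique_desc_sigma Yi fun i => (yon S).map (τi i) ≫ ji i).unique (fun i => ?_) fun i => ?_
    · rw [← Functor.map_comp_assoc, hσ, hσi]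
    · rw [← Functor.map_comp_assoc, hτ, Functor.map_comp_assoc, hcj]
  obtain ⟨i, hi⟩ := exists_mem_range_sigmaOverι Yi (y.left (IsLocalRing.closedPoint Ω))
  have hr : Set.range y.left ⊆ Set.range (sigmaOverι Yi i).left := by
    rintro _ ⟨p, rfl⟩
    rwa [Subsingleton.elim (α := ↥(Spec (CommRingCat.of Ω))) p (IsLocalRing.closedPoint Ω)]
  let y₀ : Over.mk sΩ ⟶ Yi i := Over.homMk (IsOpenImmersion.lift _ y.left hr) (by
    rw [← Over.w (sigmaOverι Yi i), ← Category.assoc, IsOpenImmersion.lift_fac]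
    exact Over.w y)
  have hy₀ : y₀ ≫ sigmaOverι Yi i = y := Over.OverMorphism.ext (IsOpenImmersion.lift_fac _ _ _)
  obtain ⟨a, ha⟩ := hsplit i Ω sΩ y₀ v (by
    rw [← hyv, ← hy₀, Functor.map_comp, Category.assoc, ← hcj i, ← Functor.map_comp_assoc (yon S) (τi i), ← hτ,
      Functor.map_comp, Category.assoc])
  refine ⟨⟨a.1, ?_⟩, ?_⟩
  · have := Finset.le_sup (f := ni) (Finset.mem_univ i)
    have := a.2
    omega
  · rw [ha, ← hy₀, Category.assoc, hσ]
    exact congrArg (fun q => y₀ ≫ σi i q) (Fin.ext (show a.1 = min a.1 (ni i - 1) by have := a.2; omega))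

end Groth.Agent.AlgSpLib
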