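import Groth.Agent.AlgSpLib.Diag
import Groth.Prelude.Def_AlgSp4

/-!
Points of sheaves: representatives by morphisms from spectra of fields, points of fibre products.
-/

universe u

open CategoryTheory CategoryTheory.Limits AlgebraicGeometry Opposite
open AlgSp

noncomputable section

namespace Groth.Agent.AlgSpLib

set_option backward.isDefEq.respectTransparency.types false

variable {S : Scheme.{u}} {F G H : Sp S}

/-- the point defined by a morphism from the spectrum of a field -/
def ptOfHom {K : Type u} [Field K] {str : Spec (CommRingCat.of K) ⟶ S}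
    (a : (yon S).obj (Over.mk str) ⟶ F) : Points F :=
  Points.mk ⟨K, str, (J S).uliftYonedaEquiv a⟩

theorem exists_ptOfHom (x : Points F) :
    ∃ (K : Type u) (_ : Field K) (str : Spec (CommRingCat.of K) ⟶ S)
      (a : (yon S).obj (Over.mk str) ⟶ F), ptOfHom a = x := by
  induction x using Points.ind with
  | h p =>
    refine ⟨p.K, p.field, p.str, (J S).uliftYonedaEquiv.symm p.val, ?_⟩
    rw [ptOfHom, Equiv.apply_symm_apply]

theorem map_ptOfHom {K : Type u} [Field K] {str : Spec (CommRingCat.of K) ⟶ S}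
    (a : (yon S).obj (Over.mk str) ⟶ F) (f : F ⟶ G) :
    Points.map f (ptOfHom a) = ptOfHom (a ≫ f) := by
  rw [ptOfHom, ptOfHom, Points.map_mk, GrothendieckTopology.uliftYonedaEquiv_comp]
  rfl

theorem ptOfHom_eq_iff {K L : Type u} [Field K] [Field L] {sK : Spec (CommRingCat.of K) ⟶ S}
    {sL : Spec (CommRingCat.of L) ⟶ S} (a : (yon S).obj (Over.mk sK) ⟶ F)
    (b : (yon S).obj (Over.mk sL) ⟶ F) :
    ptOfHom a = ptOfHom b ↔ ∃ (Ω : Type u) (_ : Field Ω) (w : Spec (CommRingCat.of Ω) ⟶ S)
      (i : Over.mk w ⟶ Over.mk sK) (j : Over.mk w ⟶ Over.mk sL),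
      (yon S).map i ≫ a = (yon S).map j ≫ b := by
  rw [ptOfHom, ptOfHom, Points.mk_eq_mk_iff]
  constructor
  · rintro ⟨Ω, hΩ, w, i, j, h⟩
    refine ⟨Ω, hΩ, w, i, j, (J S).uliftYonedaEquiv.injective ?_⟩
    rw [← GrothendieckTopology.uliftYonedaEquiv_naturality,
      ← GrothendieckTopology.uliftYonedaEquiv_naturality]
    exact h
  · rintro ⟨Ω, hΩ, w, i, j, h⟩
    refine ⟨Ω, hΩ, w, i, j, ?_⟩
    rw [GrothendieckTopology.uliftYonedaEquiv_naturality,
      GrothendieckTopology.uliftYonedaEquiv_naturality, h]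

theorem ptOfHom_map {K L : Type u} [Field K] [Field L] {sK : Spec (CommRingCat.of K) ⟶ S}
    {sL : Spec (CommRingCat.of L) ⟶ S} (a : (yon S).obj (Over.mk sK) ⟶ F)
    (i : Over.mk sL ⟶ Over.mk sK) : ptOfHom ((yon S).map i ≫ a) = ptOfHom a :=
  (ptOfHom_eq_iff _ _).2 ⟨L, inferInstance, sL, 𝟙 _, i, by erw [(yon S).map_id, Category.id_comp]⟩

theorem ofPt_eq_ptOfHom {T : Over S} (g : (yon S).obj T ⟶ F) (t : ↥T.left) :
    Points.ofPt g t = ptOfHom ((yon S).map (Over.homMk (T.left.fromSpecResidueField t) :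
      Over.mk (T.left.fromSpecResidueField t ≫ T.hom) ⟶ T) ≫ g) := by
  rw [ptOfHom, GrothendieckTopology.uliftYonedaEquiv_comp,
    GrothendieckTopology.uliftYonedaEquiv_uliftYoneda_map]
  rfl

theorem ofPt_map {T T' : Over S} (φ : T ⟶ T') (g : (yon S).obj T' ⟶ F) (t : ↥T.left) :
    Points.ofPt ((yon S).map φ ≫ g) t = Points.ofPt g (φ.left t) := by
  have h : Points.ofPt ((yon S).map φ) t = Points.ofScheme T' (φ.left t) := by
    rw [← Points.ofScheme_toScheme T' (Points.ofPt _ t), Points.toScheme_ofPt]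
  rw [← Points.map_ofPt, h, Points.map_ofPt, Category.id_comp]

/-- a point given by a morphism `Spec K ⟶ T` over `S` -/
theorem ptOfHom_yon_map {K : Type u} [Field K] {str : Spec (CommRingCat.of K) ⟶ S} {T : Over S}
    (i : Over.mk str ⟶ T) (g : (yon S).obj T ⟶ F) :
    ptOfHom ((yon S).map i ≫ g) = Points.ofPt g (i.left (IsLocalRing.closedPoint K)) := by
  have h := Points.ofScheme_apply_eq_mk T i.left (Over.w i)
  rw [show Points.ofPt g (i.left (IsLocalRing.closedPoint K)) =
    Points.map g (Points.ofScheme T (i.left (IsLocalRing.closedPoint K))) from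
      Points.ofPt_eq_map_ofScheme g _, h, Points.map_mk, ptOfHom,
      GrothendieckTopology.uliftYonedaEquiv_comp,
      GrothendieckTopology.uliftYonedaEquiv_uliftYoneda_map]
  rfl

/-- points with the same image come from a common field-valued point of both -/
theorem exists_of_map_eq {f : F ⟶ H} {g : G ⟶ H} {x : Points F} {y : Points G}
    (h : Points.map f x = Points.map g y) :
    ∃ (Ω : Type u) (_ : Field Ω) (w : Spec (CommRingCat.of Ω) ⟶ S)
      (a : (yon S).obj (Over.mk w) ⟶ F) (b : (yon S).obj (Over.mk w) ⟶ G),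
      a ≫ f = b ≫ g ∧ ptOfHom a = x ∧ ptOfHom b = y := by
  obtain ⟨K, _, sK, a, rfl⟩ := exists_ptOfHom x
  obtain ⟨L, _, sL, b, rfl⟩ := exists_ptOfHom y
  rw [map_ptOfHom, map_ptOfHom] at h
  obtain ⟨Ω, _, w, i, j, e⟩ := (ptOfHom_eq_iff _ _).1 h
  exact ⟨Ω, inferInstance, w, (yon S).map i ≫ a, (yon S).map j ≫ b, by simpa using e,
    ptOfHom_map a i, ptOfHom_map b j⟩

/-- the points of a fibre product surject onto the fibre product of points -/
theorem exists_point_of_isPullback {P : Sp S} {fst : P ⟶ F} {snd : P ⟶ G} {f : F ⟶ H} {g : G ⟶ H}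
    (sq : IsPullback fst snd f g) {x : Points F} {y : Points G}
    (h : Points.map f x = Points.map g y) :
    ∃ z : Points P, Points.map fst z = x ∧ Points.map snd z = y := by
  obtain ⟨Ω, _, w, a, b, e, rfl, rfl⟩ := exists_of_map_eq h
  obtain ⟨l, rfl, rfl⟩ := sq.exists_lift a b e
  exact ⟨ptOfHom l, map_ptOfHom l fst, map_ptOfHom l snd⟩

theorem surjective_map_of_isPullback {P : Sp S} {fst : P ⟶ F} {snd : P ⟶ G} {f : F ⟶ H}
    {g : G ⟶ H} (sq : IsPullback fst snd f g) (hf : Function.Surjective (Points.map f)) :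
    Function.Surjective (Points.map snd) := fun y => by
  obtain ⟨x, hx⟩ := hf (Points.map g y)
  obtain ⟨z, -, hz⟩ := exists_point_of_isPullback sq hx
  exact ⟨z, hz⟩

theorem surjective_map_yon_map_iff {T T' : Over S} (φ : T ⟶ T') :
    Function.Surjective (Points.map ((yon S).map φ)) ↔ Surjective φ.left := by
  rw [Points.map_yon_map_eq]
  refine ⟨fun h => ⟨fun t => ?_⟩, fun h => ?_⟩
  · obtain ⟨x, hx⟩ := h (Points.schemeHomeo T' t)
    exact ⟨(Points.schemeHomeo T).symm x, (Points.schemeHomeo T').injective hx⟩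
  · exact ((Points.schemeHomeo T').surjective.comp φ.left.surjective).comp
      (Points.schemeHomeo T).symm.surjective

theorem surjective_map_of_repWith {f : F ⟶ G} (hf : RepWith @Surjective f) :
    Function.Surjective (Points.map f) := fun y => by
  obtain ⟨K, _, sK, b, rfl⟩ := exists_ptOfHom y
  have sq := hf.1.isPullback b
  have : Surjective (hf.1.snd b).left := hf.property_snd b
  obtain ⟨z, hz⟩ := (surjective_map_yon_map_iff _).2 this (ptOfHom (𝟙 _))
  refine ⟨Points.map (hf.1.fst b) z, ?_⟩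
  rw [← Points.map_comp, sq.w, Points.map_comp, hz, map_ptOfHom, Category.id_comp]

theorem repWith_surjective_of_surjective_map {f : F ⟶ G} (hf : Representable f)
    (h : Function.Surjective (Points.map f)) : RepWith @Surjective f :=
  ⟨hf, fun _ _ _ _ snd sq => (surjective_map_yon_map_iff snd).1 (surjective_map_of_isPullback sq h)⟩

end Groth.Agent.AlgSpLib
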