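import Groth.Agent.AlgSpLib.FiniteDegree
import Groth.Agent.AlgSpLib.Points
import Groth.Agent.AlgSpLib.PointsTop
import Groth.Agent.AlgSpLib.MonoLft
import Groth.Agent.AlgSpLib.Diag
import Groth.Prelude.Def_W4decUnivBdd
import Groth.Prelude.Def_AlgSpCov

/-!
Morphisms from schemes with universally bounded fibres.
-/

universe u

open CategoryTheory CategoryTheory.Limits AlgebraicGeometry
open AlgSp

noncomputable section

namespace Groth.Agent.AlgSpLib

set_option backward.isDefEq.respectTransparency.types false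

variable {S : Scheme.{u}} {X Y : Sp S}

theorem toHom_of_yonedaEquiv {K : Type u} [Field K] {str : Spec (CommRingCat.of K) ⟶ S}
    (a : (yon S).obj (Over.mk str) ⟶ X) :
    (⟨K, str, (J S).uliftYonedaEquiv.{u + 1} a⟩ : FieldPt X).toHom = a :=
  (J S).uliftYonedaEquiv.{u + 1}.symm_apply_apply a

theorem degLE_iso {K : Type u} [Field K] {T T' : Scheme.{u}} (e : T' ≅ T)
    {c : T ⟶ Spec (CommRingCat.of K)} {n : ℕ} (h : DegLE n c) : DegLE n (e.hom ≫ c) := by
  have := h.1
  exact ⟨inferInstance, fun s => by rw [Scheme.Hom.finrank_comp_left_of_isIso]; exact h.2 s⟩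

theorem isPullback_left {A B C D : Over S} {a : A ⟶ B} {b : A ⟶ C} {f : B ⟶ D} {g : C ⟶ D}
    (sq : IsPullback a b f g) : IsPullback a.left b.left f.left g.left :=
  sq.map (Over.forget S)

theorem isPullback_of_map_yon {A B C D : Over S} {a : A ⟶ B} {b : A ⟶ C} {f : B ⟶ D} {g : C ⟶ D}
    (sq : IsPullback ((yon S).map a) ((yon S).map b) ((yon S).map f) ((yon S).map g)) :
    IsPullback a b f g :=
  IsPullback.of_map (yon S) ((yon S).map_injective (by rw [Functor.map_comp, Functor.map_comp]; exact sq.w)) sq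

/-- the fibres of a scheme map are fibres of the yoneda map -/
theorem degLE_of_degFibresLE_map {U V : Over S} {f : V ⟶ U} {n : ℕ}
    (h : W4dec.DegFibresLE n ((yon S).map f)) {L : Type u} [Field L]
    (σ : Spec (CommRingCat.of L) ⟶ U.left) : DegLE n (pullback.snd f.left σ) := by
  let P : Over S := Over.mk (σ ≫ U.hom)
  let s : P ⟶ U := Over.homMk σ rfl
  let q : FieldPt ((yon S).obj U) := ⟨L, σ ≫ U.hom, (J S).uliftYonedaEquiv.{u + 1} ((yon S).map s)⟩
  have hq : q.toHom = (yon S).map s := toHom_of_yonedaEquiv _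
  have sq := IsPullback.of_hasPullback f s
  obtain ⟨h1, h2⟩ := h q (pullback f s) (pullback.snd f s) ((yon S).map (pullback.fst f s))
    (by rw [hq]; exact (sq.map (yon S)).flip)
  have sqL := isPullback_left sq
  rw [← (IsPullback.of_hasPullback f.left σ).isoIsPullback_hom_snd _ _ sqL]
  exact degLE_iso _ (show DegLE n (pullback.snd f s).left from ⟨h1, h2⟩)

theorem degFibresLE_comp (hX : IsAlgSpace X) {U V : Over S} {f : V ⟶ U} {g : (yon S).obj U ⟶ X} {m n : ℕ}
    (hf : W4dec.DegFibresLE m ((yon S).map f)) (hg : W4dec.DegFibresLE n g) :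
    W4dec.DegFibresLE (m * n) ((yon S).map f ≫ g) := by
  intro q T c snd sq
  have hr := hX.representable_from_yon q.toHom
  obtain ⟨cU, hcU⟩ := (yon S).map_surjective (hr.fst g)
  have sqU : IsPullback ((yon S).map cU) ((yon S).map (hr.snd g)) q.toHom g := hcU ▸ hr.isPullback g
  obtain ⟨t, rfl⟩ := (yon S).map_surjective snd
  obtain ⟨d, hd⟩ := (yon S).map_surjective
    (sqU.lift ((yon S).map c) ((yon S).map (t ≫ f)) (by rw [Functor.map_comp, Category.assoc]; exact sq.w))
  have hd1 : d ≫ cU = c := (yon S).map_injective (by rw [Functor.map_comp, hd, sqU.lift_fst])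
  have hd2 : d ≫ hr.snd g = t ≫ f := (yon S).map_injective (by rw [Functor.map_comp, hd, sqU.lift_snd])
  have sqd : IsPullback ((yon S).map t) ((yon S).map d) ((yon S).map f) ((yon S).map (hr.snd g)) := by
    refine (IsPullback.of_bot ?_ ?_ sqU.flip)
    · rw [← Functor.map_comp, hd1]; exact sq.flip
    · rw [← Functor.map_comp, ← Functor.map_comp, hd2]
  have sqL := isPullback_left (isPullback_of_map_yon sqd)
  have hc : DegLE n cU.left := hg q _ cU _ sqU
  have := degLE_comp d.left hc (m := m) fun L _ σ => by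
    have sqσ := (IsPullback.of_hasPullback d.left σ).paste_horiz sqL
    rw [← sqσ.isoPullback_hom_snd]
    exact degLE_iso _ (degLE_of_degFibresLE_map hf (σ ≫ (hr.snd g).left))
  rwa [← Over.comp_left, hd1] at this

theorem degFibresLE_baseChange {U V : Over S} {p : Y ⟶ X} {g : (yon S).obj U ⟶ X} {n : ℕ}
    (hg : W4dec.DegFibresLE n g) {fst : (yon S).obj V ⟶ (yon S).obj U} {snd : (yon S).obj V ⟶ Y}
    (h : IsPullback fst snd g p) : W4dec.DegFibresLE n snd := fun q T c t sq =>
  hg ⟨q.K, q.str, (J S).uliftYonedaEquiv.{u + 1} (q.toHom ≫ p)⟩ T c (t ≫ fst)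
    (by rw [toHom_of_yonedaEquiv]; exact sq.paste_vert h.flip)

theorem degFibresLE_of_baseChange (hX : IsAlgSpace X) {U V : Over S} {g : Y ⟶ X}
    {f : (yon S).obj U ⟶ X} {fst : (yon S).obj V ⟶ (yon S).obj U} {f' : (yon S).obj V ⟶ Y}
    (h : IsPullback fst f' f g) (him : Set.range (Points.ofPt f) ⊆ Set.range (Points.map g))
    {n : ℕ} (hf' : W4dec.DegFibresLE n f') : W4dec.DegFibresLE n f := by
  intro q T c snd sq
  obtain ⟨t, rfl⟩ := (yon S).map_surjective snd
  rcases isEmpty_or_nonempty ↥T.left with hT | ⟨⟨z⟩⟩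
  · exact degLE_of_isEmpty c.left n
  have hz : Points.map q.toHom (Points.ofPt ((yon S).map c) z) ∈ Set.range (Points.map g) := by
    refine him ⟨t.left z, ?_⟩
    rw [← ofPt_map t f z, Points.map_ofPt, sq.w]
  obtain ⟨y, hy⟩ := hz
  have sqg := IsPullback.of_hasPullback g q.toHom
  obtain ⟨w, -, -⟩ := exists_point_of_isPullback sqg hy
  obtain ⟨w, rfl⟩ := Points.mk_surjective w
  obtain ⟨b, hb⟩ := (yon S).map_surjective (w.toHom ≫ pullback.snd g q.toHom)
  let r : FieldPt Y := ⟨w.K, w.str, (J S).uliftYonedaEquiv.{u + 1} (w.toHom ≫ pullback.fst g q.toHom)⟩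
  have hr : r.toHom = w.toHom ≫ pullback.fst g q.toHom := toHom_of_yonedaEquiv _
  have sqT := IsPullback.of_hasPullback c b
  have sq1 : IsPullback ((yon S).map (pullback.snd c b)) ((yon S).map (pullback.fst c b) ≫ (yon S).map t)
      (r.toHom ≫ g) f := by
    rw [hr, Category.assoc, sqg.w, ← Category.assoc, ← hb]
    exact (sqT.map (yon S)).flip.paste_vert sq
  let l := h.lift ((yon S).map (pullback.fst c b) ≫ (yon S).map t) ((yon S).map (pullback.snd c b) ≫ r.toHom)
    (by rw [Category.assoc ((yon S).map (pullback.snd c b))]; exact sq1.w.symm)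
  have sq2 : IsPullback ((yon S).map (pullback.snd c b)) l r.toHom f' :=
    IsPullback.of_bot (by rw [h.lift_fst]; exact sq1) (h.lift_snd _ _ _).symm h.flip
  exact (degLE_of_isPullback (K := q.K) (isPullback_left sqT)).2 (hf' r _ _ l sq2)

theorem degFibresLE_of_flat_surjective (hX : IsAlgSpace X) {U V : Over S} (f : U ⟶ V)
    [Surjective f.left] [Flat f.left] {h : (yon S).obj V ⟶ X} {n : ℕ}
    (hg : W4dec.DegFibresLE n ((yon S).map f ≫ h)) : W4dec.DegFibresLE n h := by
  intro q T c snd sq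
  obtain ⟨t, rfl⟩ := (yon S).map_surjective snd
  have sqU := IsPullback.of_hasPullback f t
  have sqL := isPullback_left sqU
  have : Flat (pullback.snd f t).left := MorphismProperty.of_isPullback sqL ‹Flat f.left›
  have : Surjective (pullback.snd f t).left := MorphismProperty.of_isPullback sqL ‹Surjective f.left›
  refine degLE_of_flat_surjective (pullback.snd f t).left c.left ?_
  refine hg q _ (pullback.snd f t ≫ c) ((yon S).map (pullback.fst f t)) ?_
  rw [Functor.map_comp]
  exact (sqU.map (yon S)).flip.paste_horiz sq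

theorem encard_fibre_le (hX : IsAlgSpace X) {U : Over S} {φ : (yon S).obj U ⟶ X} {n : ℕ}
    (hφ : W4dec.DegFibresLE n φ) (x : Points X) : (Points.ofPt φ ⁻¹' {x}).encard ≤ n := by
  obtain ⟨q, rfl⟩ := Points.mk_surjective x
  have hr := hX.representable_from_yon q.toHom
  obtain ⟨c, hc⟩ := (yon S).map_surjective (hr.fst φ)
  have sq : IsPullback ((yon S).map c) ((yon S).map (hr.snd φ)) q.toHom φ := hc ▸ hr.isPullback φ
  obtain ⟨hfin, hcard⟩ := card_le_of_degLE (c := c.left) (hφ q _ c _ sq)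
  have hsub : Points.ofPt φ ⁻¹' {Points.mk q} ⊆ Set.range (hr.snd φ).left := fun u hu => by
    obtain ⟨z, -, hz⟩ := (ofPt_eq_ofPt_iff sq (IsLocalRing.closedPoint q.K) u).1
      ((Points.ofPt_toHom q _).trans (Set.mem_singleton_iff.1 hu).symm)
    exact ⟨z, hz⟩
  refine (Set.encard_le_encard hsub).trans ?_
  rw [← Set.image_univ]
  refine (Set.encard_image_le _ _).trans ?_
  rw [Set.encard_univ, ENat.card_eq_coe_natCard]
  exact_mod_cast hcard

/-- for etale morphisms only the number of geometric points matters -/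
theorem degFibresLE_of_card (hX : IsAlgSpace X) {U : Over S} {ψ : (yon S).obj U ⟶ X}
    (hψ : RepWith @Etale ψ) {N : ℕ}
    (h : ∀ (q : FieldPt X) [IsAlgClosed q.K] (T : Over S) (c : T ⟶ q.pt)
      (snd : (yon S).obj T ⟶ (yon S).obj U), IsPullback ((yon S).map c) snd q.toHom ψ → ENat.card ↥T.left ≤ N) :
    W4dec.DegFibresLE N ψ := by
  intro q T c snd sq
  show DegLE N c.left
  obtain ⟨t, rfl⟩ := (yon S).map_surjective snd
  have hce : Etale c.left := hψ.property q.toHom ((yon S).map t) c sq.flip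
  have key : ∀ (Ω : Type u) [Field Ω] [IsAlgClosed Ω] (σ : Spec (CommRingCat.of Ω) ⟶ q.pt.left),
      ENat.card ↥(pullback c.left σ) ≤ N := fun Ω _ _ σ => by
    let P : Over S := Over.mk (σ ≫ q.pt.hom)
    let s : P ⟶ q.pt := Over.homMk σ rfl
    let r : FieldPt X := ⟨Ω, σ ≫ q.pt.hom, (J S).uliftYonedaEquiv.{u + 1} ((yon S).map s ≫ q.toHom)⟩
    have : IsAlgClosed r.K := ‹IsAlgClosed Ω›
    have sqs := IsPullback.of_hasPullback c s
    have h1 := h r (pullback c s) (pullback.snd c s) ((yon S).map (pullback.fst c s) ≫ (yon S).map t)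
      (by rw [toHom_of_yonedaEquiv]; exact (sqs.map (yon S)).flip.paste_vert sq)
    exact le_of_eq_of_le (ENat.card_congr
      ((IsPullback.of_hasPullback c.left σ).isoIsPullback _ _ (isPullback_left sqs)).hom.homeomorph.toEquiv) h1
  let Ω := AlgebraicClosure q.K
  let σ : Spec (CommRingCat.of Ω) ⟶ q.pt.left := Spec.map (CommRingCat.ofHom (algebraMap q.K Ω))
  have : Surjective σ := ⟨fun x => ⟨IsLocalRing.closedPoint Ω,
    (inferInstance : Subsingleton ↥(Spec (CommRingCat.of q.K))).elim _ _⟩⟩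
  have : Finite ↥(pullback c.left σ) := ENat.card_lt_top.1 ((key Ω σ).trans_lt (ENat.natCast_lt_top N))
  have : Surjective (pullback.fst c.left σ) := MorphismProperty.pullback_fst _ _ ‹Surjective σ›
  have : Finite ↥T.left := Finite.of_surjective _ (pullback.fst c.left σ).surjective
  exact degLE_of_etale c.left N key

theorem univBdd_etale_scheme (hU : IsAlgSpace X) {W U : Over S} (w : W ⟶ U) [Etale w.left]
    [CompactSpace ↥W.left] : W4dec.HasUnivBddFibres ((yon S).map w) := by
  have := (inferInstance : LocallyOfFiniteType w.left)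
  have : LocallyQuasiFinite w.left := lqf_of_unramified w.left
  choose O n hO hn using FlatMorGeom.bound_near w.left
  obtain ⟨t, ht⟩ := isCompact_univ.elim_finite_subcover (fun x => (O x : Set ↥W.left)) (fun x => (O x).2)
    fun x _ => Set.mem_iUnion.mpr ⟨x, hO x⟩
  refine ⟨∑ x ∈ t, n x, degFibresLE_of_card (IsAlgSpace.yon_obj U)
    ((repWith_yon_map_iff (P := @Etale) w).2 inferInstance) fun q _ T c snd sq => ?_⟩
  obtain ⟨a, rfl⟩ := (yon S).map_surjective snd
  obtain ⟨σ, hσ⟩ := (yon S).map_surjective q.toHom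
  rw [← hσ] at sq
  have sqL := (isPullback_left (isPullback_of_map_yon sq)).flip
  rw [ENat.card_congr sqL.isoPullback.hom.homeomorph.toEquiv, ← Set.encard_univ]
  have : (Set.univ : Set ↥(pullback w.left σ.left)) ⊆
      ⋃ x ∈ t, {z | pullback.fst w.left σ.left z ∈ O x} := fun z _ => by
    obtain ⟨x, hx, hz⟩ := Set.mem_iUnion₂.1 (ht (Set.mem_univ (pullback.fst w.left σ.left z)))
    exact Set.mem_biUnion hx hz
  refine (Set.encard_le_encard this).trans ((Finset.set_encard_biUnion_le _ _).trans ?_)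
  push_cast
  exact Finset.sum_le_sum fun x _ => (hn x q.K σ.left)

theorem univBdd_of_cover (hX : IsAlgSpace X) {V : Over S} {ψ : (yon S).obj V ⟶ X} (hψ : RepWith @Etale ψ)
    {ι : Type u} [Finite ι] (W : ι → Over S) (p : ∀ i, W i ⟶ V)
    (hcov : ∀ v : ↥V.left, ∃ i, v ∈ Set.range (p i).left)
    (hb : ∀ i, W4dec.HasUnivBddFibres ((yon S).map (p i) ≫ ψ)) : W4dec.HasUnivBddFibres ψ := by
  classical
  let _ := Fintype.ofFinite ι
  choose n hn using hb
  refine ⟨∑ i, n i, degFibresLE_of_card hX hψ fun q _ T c snd sq => ?_⟩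
  obtain ⟨t, rfl⟩ := (yon S).map_surjective snd
  rw [← Set.encard_univ]
  have hsub : (Set.univ : Set ↥T.left) ⊆ ⋃ i ∈ (Finset.univ : Finset ι),
      Set.range (pullback.snd (p i) t).left := fun z _ => by
    obtain ⟨i, w, hw⟩ := hcov (t.left z)
    obtain ⟨r, -, hr⟩ := Scheme.Pullback.exists_preimage_pullback (f := (p i).left) (g := t.left) w z hw
    refine Set.mem_biUnion (Finset.mem_univ i) ?_
    exact ⟨((IsPullback.of_hasPullback (p i).left t.left).isoIsPullback _ _
      (isPullback_left (IsPullback.of_hasPullback (p i) t))).hom r, by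
      rw [← Scheme.Hom.comp_apply, IsPullback.isoIsPullback_hom_snd, hr]⟩
  refine (Set.encard_le_encard hsub).trans ((Finset.set_encard_biUnion_le _ _).trans ?_)
  push_cast
  refine Finset.sum_le_sum fun i _ => ?_
  obtain ⟨hfin, hcard⟩ := card_le_of_degLE (c := (pullback.snd (p i) t ≫ c).left)
    (hn i q _ (pullback.snd (p i) t ≫ c) ((yon S).map (pullback.fst (p i) t)) (by
      rw [Functor.map_comp]
      exact ((IsPullback.of_hasPullback (p i) t).map (yon S)).flip.paste_horiz sq))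
  rw [← Set.image_univ]
  refine (Set.encard_image_le _ _).trans ?_
  rw [Set.encard_univ, ENat.card_eq_coe_natCard]
  exact_mod_cast hcard

/-- etale morphisms from quasi-compact schemes inherit universal boundedness from an etale covering family -/
theorem univBdd_of_etale_cover (hX : IsAlgSpace X) {ι : Type u} (U : ι → Over S)
    (φ : ∀ i, (yon S).obj (U i) ⟶ X) (hφ : ∀ i, RepWith @Etale (φ i))
    (hsurj : ∀ x : Points X, ∃ (i : ι) (v : ↥(U i).left), Points.ofPt (φ i) v = x)
    (hb : ∀ i, W4dec.HasUnivBddFibres (φ i)) {V : Over S} [CompactSpace ↥V.left]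
    (ψ : (yon S).obj V ⟶ X) (hψ : RepWith @Etale ψ) : W4dec.HasUnivBddFibres ψ := by
  have loc : ∀ v : ↥V.left, ∃ (W : Over S) (p : W ⟶ V),
      IsOpenMap p.left ∧ v ∈ Set.range p.left ∧ W4dec.HasUnivBddFibres ((yon S).map p ≫ ψ) := fun v => by
    obtain ⟨i, u, hu⟩ := hsurj (Points.ofPt ψ v)
    have hr := hX.representable_from_yon ψ
    have sq := hr.isPullback' (φ i)
    obtain ⟨r, hr1, -⟩ := (ofPt_eq_ofPt_iff sq v u).1 hu.symm
    obtain ⟨O, hO, hrO, -⟩ := exists_isAffineOpen_mem_and_subset (x := r) (U := ⊤) trivial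
    have : Etale (hr.fst' (φ i)).left := (hφ i).property _ _ _ sq.flip
    have : Etale (hr.snd (φ i)).left := hψ.property_snd (φ i)
    let j : Over.mk (O.ι ≫ (hr.pullback (φ i)).hom) ⟶ hr.pullback (φ i) := Over.homMk O.ι rfl
    have : Etale j.left := inferInstanceAs (Etale O.ι)
    have : CompactSpace ↥(Over.mk (O.ι ≫ (hr.pullback (φ i)).hom)).left :=
      isCompact_iff_compactSpace.mp hO.isCompact
    refine ⟨_, j ≫ hr.fst' (φ i), ?_, ⟨(⟨r, hrO⟩ : O), hr1⟩, ?_⟩
    · have : Etale (j ≫ hr.fst' (φ i)).left := inferInstanceAs (Etale (j.left ≫ (hr.fst' (φ i)).left))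
      exact (j ≫ hr.fst' (φ i)).left.isOpenMap
    · have : Etale (j ≫ hr.snd (φ i)).left := inferInstanceAs (Etale (j.left ≫ (hr.snd (φ i)).left))
      obtain ⟨m, hm⟩ := univBdd_etale_scheme hX (j ≫ hr.snd (φ i))
      obtain ⟨k, hk⟩ := hb i
      refine ⟨m * k, ?_⟩
      rw [Functor.map_comp, Category.assoc, sq.w, ← Category.assoc, ← Functor.map_comp]
      exact degFibresLE_comp hX hm hk
  choose W p hp hv hb' using loc
  obtain ⟨σ, hσ⟩ := isCompact_univ.elim_finite_subcover (fun v => Set.range (p v).left)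
    (fun v => (hp v).isOpen_range) (fun v _ => Set.mem_iUnion.2 ⟨v, hv v⟩)
  refine univBdd_of_cover hX hψ (fun v : {v // v ∈ σ} => W v.1) (fun v => p v.1) (fun v => ?_)
    fun v => hb' v.1
  obtain ⟨w, hw, hvw⟩ := Set.mem_iUnion₂.1 (hσ (Set.mem_univ v))
  exact ⟨⟨w, hw⟩, hvw⟩

theorem exists_affine_family (hY : IsAlgSpace Y) :
    ∃ (ι : Type u) (V : ι → Over S) (b : ∀ i, (yon S).obj (V i) ⟶ Y), (∀ i, IsAffine (V i).left) ∧
      (∀ i, RepWith @Etale (b i)) ∧ ∀ y, ∃ (i : ι) (v : ↥(V i).left), Points.ofPt (b i) v = y := by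
  obtain ⟨U, p, he, hs⟩ := hY.atlas
  refine ⟨U.left.affineOpens, fun O => Over.mk (O.1.ι ≫ U.hom),
    fun O => (yon S).map (Over.homMk O.1.ι rfl) ≫ p, fun O => O.2,
    fun O => RepWith.comp ((repWith_yon_map_iff (P := @Etale) _).2 (inferInstanceAs (Etale O.1.ι))) he,
    fun y => ?_⟩
  obtain ⟨u, rfl⟩ := surjective_ofPt p hs y
  obtain ⟨O, hO, huO, -⟩ := exists_isAffineOpen_mem_and_subset (x := u) (U := ⊤) trivial
  exact ⟨⟨O, hO⟩, (⟨u, huO⟩ : O), ofPt_map _ p _⟩

theorem univBdd_of_representable (hX : IsAlgSpace X) (hY : IsAlgSpace Y) {f : X ⟶ Y} (hf : Representable f)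
    (h : ∀ (V : Over S) (ψ : (yon S).obj V ⟶ Y), IsAffine V.left → RepWith @Etale ψ → W4dec.HasUnivBddFibres ψ)
    {U : Over S} [CompactSpace ↥U.left] {φ : (yon S).obj U ⟶ X} (hφ : RepWith @Etale φ) :
    W4dec.HasUnivBddFibres φ := by
  obtain ⟨ι, V, b, hV, hbe, hbs⟩ := exists_affine_family hY
  refine univBdd_of_etale_cover hX (fun i => hf.pullback (b i)) (fun i => hf.fst (b i))
    (fun i => RepWith.baseChange (hf.isPullback (b i)).flip (hbe i)) (fun x => ?_) (fun i => ?_) φ hφ
  · obtain ⟨i, v, hv⟩ := hbs (Points.map f x)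
    have e : Points.map f x = Points.map (b i) (Points.ofScheme (V i) v) := by
      rw [← hv, Points.map_ofPt, Category.id_comp]
    obtain ⟨w, hw, -⟩ := exists_point_of_isPullback (hf.isPullback (b i)) e
    refine ⟨i, Points.toScheme _ w, ?_⟩
    rw [← hw]
    conv_rhs => rw [← Points.ofScheme_toScheme _ w, Points.map_ofPt, Category.id_comp]
  · obtain ⟨n, hn⟩ := h (V i) (b i) (hV i) (hbe i)
    exact ⟨n, degFibresLE_baseChange hn (hf.isPullback (b i)).flip⟩

theorem univBdd_of_zarCover (hX : IsAlgSpace X) {ι : Type u} (Xi : ι → Sp S) (hXi : ∀ i, IsAlgSpace (Xi i))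
    (j : ∀ i, Xi i ⟶ X) (hj : ∀ i, RepWith @IsOpenImmersion (j i))
    (hcov : ∀ x : Points X, ∃ i, x ∈ Set.range (Points.map (j i)))
    (h : ∀ (i : ι) (V : Over S) (ψ : (yon S).obj V ⟶ Xi i), IsAffine V.left → RepWith @Etale ψ →
      W4dec.HasUnivBddFibres ψ)
    {U : Over S} [CompactSpace ↥U.left] {φ : (yon S).obj U ⟶ X} (hφ : RepWith @Etale φ) :
    W4dec.HasUnivBddFibres φ := by
  choose κ V b hV hbe hbs using fun i => exists_affine_family (hXi i)
  refine univBdd_of_etale_cover hX (fun o : Σ i, κ i => V o.1 o.2) (fun o => b o.1 o.2 ≫ j o.1)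
    (fun o => RepWith.comp (hbe o.1 o.2) (RepWith.mono (fun _ _ g (_ : IsOpenImmersion g) =>
      (inferInstance : Etale g)) (hj o.1))) (fun x => ?_) (fun o => ?_) φ hφ
  · obtain ⟨i, y, rfl⟩ := hcov x
    obtain ⟨k, v, rfl⟩ := hbs i y
    exact ⟨⟨i, k⟩, v, (Points.map_ofPt _ _ _).symm⟩
  · obtain ⟨n, hn⟩ := h o.1 (V o.1 o.2) (b o.1 o.2) (hV o.1 o.2) (hbe o.1 o.2)
    have := mono_of_repWith (fun _ _ g (_ : IsOpenImmersion g) => inferInstance) (hj o.1)
    refine ⟨n, degFibresLE_of_baseChange hX (g := j o.1) (fst := 𝟙 _) (f' := b o.1 o.2) ?_ ?_ hn⟩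
    · refine ⟨⟨by simp⟩, ⟨PullbackCone.IsLimit.mk _ (fun s => s.fst) (fun s => by simp) (fun s => ?_)
        (fun s m h1 _ => by simpa using h1)⟩⟩
      exact (cancel_mono (j o.1)).1 (by rw [Category.assoc]; exact s.condition)
    · rintro _ ⟨v, rfl⟩
      exact ⟨Points.ofPt (b o.1 o.2) v, Points.map_ofPt _ _ _⟩

end Groth.Agent.AlgSpLib
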