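import Groth.Agent.AlgSpLib.Tuples
import Groth.Agent.AlgSpLib.ChevMain
import Groth.Agent.AlgSpLib.ChevEquiv
import Groth.Agent.AlgSpLib.FpqcBaseAffine2
import Groth.Agent.AlgSpLib.SheafCoprod2
import Groth.Agent.AlgSpLib.SplitDense
import Groth.Agent.AlgSpLib.UnivBdd

/-!
For a separated algebraic space with an affine etale chart whose geometric fibres have at most `e + 1` points, the
points with `e + 1` lifts form an open subspace which is an affine scheme.
-/

universe u

open CategoryTheory CategoryTheory.Limits AlgebraicGeometry Opposite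
open AlgSp

noncomputable section

set_option linter.style.haveILetI false

namespace Groth.Agent.AlgSpLib.SepChart

open Groth.Agent.AlgSpLib

set_option backward.isDefEq.respectTransparency.types false
set_option backward.isDefEq.respectTransparency false

variable {S : Scheme.{u}}

theorem surjective_of_card_le {L : Type*} {n : ℕ} (u : Fin n → L) (hu : Function.Injective u)
    (h : ENat.card L ≤ n) : Function.Surjective u := by
  haveI : Finite L := ENat.card_lt_top.1 (lt_of_le_of_lt h (ENat.natCast_lt_top n))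
  haveI := Fintype.ofFinite L
  rw [ENat.card_eq_coe_fintype_card, Nat.cast_le] at h
  exact ((Fintype.bijective_iff_injective_and_card u).2
    ⟨hu, le_antisymm (Fintype.card_le_of_injective u hu) (by rwa [Fintype.card_fin])⟩).2

theorem exists_injective_of_lt {L : Type*} {n : ℕ} (h : (n : ℕ∞) < ENat.card L) :
    ∃ u : Fin (n + 1) → L, Function.Injective u := by
  by_cases hL : Finite L
  · haveI := Fintype.ofFinite L
    rw [ENat.card_eq_coe_fintype_card, Nat.cast_lt] at h
    obtain ⟨u⟩ := Function.Embedding.nonempty_of_card_le (α := Fin (n + 1)) (β := L) (by rwa [Fintype.card_fin])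
    exact ⟨u, u.injective⟩
  · haveI : Infinite L := not_finite_iff_infinite.1 hL
    exact ⟨_, (Infinite.natEmbedding L).injective.comp Fin.val_injective⟩

theorem epi_geom {K Ω : Type u} [Field K] [Field Ω]
    (h : Spec (CommRingCat.of Ω) ⟶ Spec (CommRingCat.of K)) : Epi h := by
  obtain ⟨φ, rfl⟩ := Spec.map_surjective h
  haveI : Flat (Spec.map φ) := (HasRingHomProperty.Spec_iff (P := @Flat)).2 (by
    letI := φ.hom.toAlgebra
    exact (inferInstance : Module.Flat K Ω))
  haveI : Subsingleton ↥(Spec (CommRingCat.of K)) := inferInstanceAs (Subsingleton (PrimeSpectrum K))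
  haveI : Surjective (Spec.map φ) :=
    ⟨fun y => ⟨IsLocalRing.closedPoint Ω, Subsingleton.elim _ _⟩⟩
  exact Flat.epi_of_flat_of_surjective _

theorem isPullback_cancel_mono {P A B C D : Sp S} {fst : P ⟶ A} {snd : P ⟶ B} {a : A ⟶ C} {b : B ⟶ C}
    (j : C ⟶ D) [Mono j] (sq : IsPullback fst snd (a ≫ j) (b ≫ j)) : IsPullback fst snd a b :=
  ⟨⟨(cancel_mono j).1 (by simpa only [Category.assoc] using sq.w)⟩,
    ⟨PullbackCone.IsLimit.mk _
      (fun s => sq.lift s.fst s.snd (by rw [← Category.assoc, ← Category.assoc, s.condition]))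
      (fun s => sq.lift_fst _ _ _) (fun s => sq.lift_snd _ _ _)
      fun s m h1 h2 => sq.hom_ext (by rw [h1, sq.lift_fst]) (by rw [h2, sq.lift_snd])⟩⟩

variable {X : Sp S}

/-- the fibre powers of an affine chart of a separated space are affine -/
theorem exists_affinePower [S.IsSeparated] (hX : IsAlgSpace X) (hsep : IsSeparatedSp X) {U : Over S}
    [IsAffine U.left] (a : (yon S).obj U ⟶ X) (ha : RepWith @Etale a) (n : ℕ) :
    ∃ (Z : Over S) (q : (yon S).obj Z ⟶ X) (c : Fin (n + 1) → (Z ⟶ U)),
      IsAffine Z.left ∧ RepWith @Etale q ∧ (∀ i, (yon S).map (c i) ≫ a = q) ∧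
      ∀ (T : Over S) (f : Fin (n + 1) → (T ⟶ U)),
        (∀ i j, (yon S).map (f i) ≫ a = (yon S).map (f j) ≫ a) → ∃! h : T ⟶ Z, ∀ i, h ≫ c i = f i := by
  induction n with
  | zero =>
    refine ⟨U, a, fun _ => 𝟙 U, inferInstance, ha, fun _ => ?_, fun T f _ => ⟨f 0, fun i => ?_, fun h hh => ?_⟩⟩
    · erw [(yon S).map_id, Category.id_comp]
    · rw [Fin.fin_one_eq_zero i, Category.comp_id]
    · rw [← hh 0, Category.comp_id]
  | succ n ih =>
    obtain ⟨Z, q, c, hZ, hq, hc, huniv⟩ := ih
    let hf := hX.representable_from_yon a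
    let P : Over S := hf.pullback q
    let t : P ⟶ U := hf.fst' q
    let d : P ⟶ Z := hf.snd q
    have sq : IsPullback ((yon S).map t) ((yon S).map d) a q := hf.isPullback' q
    haveI : Etale d.left := ha.property _ _ _ sq
    haveI hP : IsAffine P.left := (ChevGen.isAffine_pullback hX a hsep q).2
    refine ⟨P, (yon S).map d ≫ q, Fin.snoc (fun i => d ≫ c i) t, hP, RepWith.comp
      ((repWith_yon_map_iff (P := @Etale) d).2 inferInstance) hq, fun i => ?_, fun T f hf' => ?_⟩
    · induction i using Fin.lastCases with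
      | last => rw [Fin.snoc_last]; exact sq.w
      | cast i => rw [Fin.snoc_castSucc, Functor.map_comp, Category.assoc, hc]
    · obtain ⟨h₀, hh₀, hu₀⟩ := huniv T (fun i => f i.castSucc) fun i j => hf' _ _
      obtain ⟨h, hh⟩ := (yon S).map_surjective (sq.lift ((yon S).map (f (Fin.last _))) ((yon S).map h₀) (by
        rw [← hc 0, ← Category.assoc, ← Functor.map_comp, hh₀]
        exact hf' _ _))
      have ht' : h ≫ t = f (Fin.last _) := (yon S).map_injective (by rw [Functor.map_comp, hh, sq.lift_fst])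
      have hd : h ≫ d = h₀ := (yon S).map_injective (by rw [Functor.map_comp, hh, sq.lift_snd])
      refine ⟨h, fun i => ?_, fun h' hh' => ?_⟩
      · induction i using Fin.lastCases with
        | last => rw [Fin.snoc_last, ht']
        | cast i => rw [Fin.snoc_castSucc, reassoc_of% hd, hh₀]
      · refine (yon S).map_injective (sq.hom_ext ?_ ?_)
        · rw [← Functor.map_comp, ← Functor.map_comp, ht', ← hh' (Fin.last _), Fin.snoc_last]
        · rw [← Functor.map_comp, ← Functor.map_comp, hd, hu₀ (h' ≫ d) fun i => ?_]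
          rw [← hh' i.castSucc, Fin.snoc_castSucc, Category.assoc]

/-- tuples of pairwise distinct lifts in an affine chart of a separated space form an affine scheme -/
theorem exists_affineTuples [S.IsSeparated] (hX : IsAlgSpace X) (hsep : IsSeparatedSp X) {U : Over S}
    [IsAffine U.left] (a : (yon S).obj U ⟶ X) (ha : RepWith @Etale a) (n : ℕ) :
    ∃ (W : Over S) (q : (yon S).obj W ⟶ X) (c : Fin (n + 1) → (W ⟶ U)),
      IsAffine W.left ∧ RepWith @Etale q ∧ (∀ i, (yon S).map (c i) ≫ a = q) ∧
      (∀ (Ω : Type u) [Field Ω] (h : Spec (CommRingCat.of Ω) ⟶ W.left),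
        Function.Injective fun i => h ≫ (c i).left) ∧
      ∀ (T : Over S) (f : Fin (n + 1) → (T ⟶ U)),
        (∀ i j, (yon S).map (f i) ≫ a = (yon S).map (f j) ≫ a) →
        (∀ (Ω : Type u) [Field Ω] (h : Spec (CommRingCat.of Ω) ⟶ T.left),
          Function.Injective fun i => h ≫ (f i).left) → ∃! g : T ⟶ W, ∀ i, g ≫ c i = f i := by
  classical
  obtain ⟨Z, q, c, hZ, hq, hc, huniv⟩ := exists_affinePower hX hsep a ha n
  haveI : IsSeparated U.hom := inferInstance
  choose E hE hEg using fun i j => exists_eqLocus hX a ha (c i) (c j) ((hc i).trans (hc j).symm)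
  let O : Z.left.Opens := ⟨⋂ p : {p : Fin (n + 1) × Fin (n + 1) // p.1 ≠ p.2}, (E p.1.1 p.1.2)ᶜ,
    isOpen_iInter_of_finite fun p => (hE _ _).compl.2⟩
  have hcl : IsClosed (O : Set ↥Z.left) := isClosed_iInter fun p => (hE _ _).compl.1
  have hO : ∀ (Ω : Type u) [Field Ω] (h : Spec (CommRingCat.of Ω) ⟶ Z.left),
      FlatMorWeight.pt h ∈ O ↔ Function.Injective fun i => h ≫ (c i).left := fun Ω _ h => by
    refine ⟨fun hm i j hij => ?_, fun hi => Set.mem_iInter.2 fun p hp => p.2 (hi ((hEg _ _ Ω h).1 hp))⟩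
    by_contra hne
    exact Set.mem_iInter.1 hm ⟨(i, j), hne⟩ ((hEg i j Ω h).2 hij)
  let W : Over S := Over.mk (O.ι ≫ Z.hom)
  let j : W ⟶ Z := Over.homMk O.ι
  have hj : IsOpenImmersion j.left := inferInstanceAs (IsOpenImmersion O.ι)
  haveI hjm : Mono j := (Over.forget S).mono_of_mono_map (inferInstanceAs (Mono O.ι))
  haveI : IsClosedImmersion O.ι := IsClosedImmersion.of_isPreimmersion _ (by rw [Scheme.Opens.range_ι]; exact hcl)
  have hW : IsAffine W.left := isAffine_of_isAffineHom O.ι
  refine ⟨W, (yon S).map j ≫ q, fun i => j ≫ c i, hW,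
    RepWith.comp ((repWith_yon_map_iff (P := @Etale) j).2 inferInstance) hq, fun i => ?_, fun Ω _ h => ?_,
    fun T f hf hinj => ?_⟩
  · rw [Functor.map_comp, Category.assoc, hc]
  · exact fun i i' hii' => (hO Ω (h ≫ O.ι)).1 (h (IsLocalRing.closedPoint Ω)).2
      (show (h ≫ O.ι) ≫ (c i).left = (h ≫ O.ι) ≫ (c i').left by
        rw [Category.assoc, Category.assoc]; exact hii')
  · obtain ⟨g₀, hg₀, hu⟩ := huniv T f hf
    have hr : Set.range g₀.left ⊆ Set.range j.left := by
      refine (range_subset_of_geomPt g₀.left (O := (O : Set ↥Z.left)) fun Ω _ h => (hO Ω _).2 ?_).trans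
        (Scheme.Opens.range_ι O).symm.subset
      intro i i' hii'
      refine hinj Ω h ?_
      have e : ∀ k, g₀.left ≫ (c k).left = (f k).left := fun k => congrArg (fun m => m.left) (hg₀ k)
      simp only [Category.assoc, e] at hii'
      exact hii'
    let g : T ⟶ W := Over.homMk (IsOpenImmersion.lift j.left g₀.left hr) (by
      rw [← Over.w j, ← Category.assoc, IsOpenImmersion.lift_fac]; exact Over.w g₀)
    have hg : g ≫ j = g₀ := Over.OverMorphism.ext (IsOpenImmersion.lift_fac _ _ _)
    refine ⟨g, fun i => ?_, fun g' hg' => (cancel_mono j).1 ?_⟩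
    · show g ≫ j ≫ c i = f i
      rw [← Category.assoc, hg, hg₀]
    · rw [hg]
      exact hu (g' ≫ j) fun i => by rw [Category.assoc]; exact hg' i

/-- a field-valued point with prescribed morphism -/
def fieldPtOf {Ω : Type u} [Field Ω] {str : Spec (CommRingCat.of Ω) ⟶ S} (m : (yon S).obj (Over.mk str) ⟶ X) :
    FieldPt X := ⟨Ω, str, (J S).uliftYonedaEquiv.{u + 1} m⟩

theorem toHom_fieldPtOf {Ω : Type u} [Field Ω] {str : Spec (CommRingCat.of Ω) ⟶ S}
    (m : (yon S).obj (Over.mk str) ⟶ X) : (fieldPtOf m).toHom = m := toHom_of_yonedaEquiv _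

/-- the tuples of distinct lifts of maximal length are finite over themselves -/
theorem isFinite_snd_tuples [S.IsSeparated] (hX : IsAlgSpace X) (hsep : IsSeparatedSp X) {U : Over S}
    [IsAffine U.left] (a : (yon S).obj U ⟶ X) (ha : RepWith @Etale a) (e : ℕ)
    (hd : ∀ x : FieldPt X, x.IsGeometric → ENat.card ((FieldPt.liftsTo x).obj (EtOver.mk a ha)) ≤ (e + 1 : ℕ))
    {W : Over S} (q : (yon S).obj W ⟶ X) (c : Fin (e + 1) → (W ⟶ U)) [IsAffine W.left]
    (hq : RepWith @Etale q) (hc : ∀ i, (yon S).map (c i) ≫ a = q)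
    (hinj : ∀ (Ω : Type u) [Field Ω] (h : Spec (CommRingCat.of Ω) ⟶ W.left),
      Function.Injective fun i => h ≫ (c i).left)
    (huniv : ∀ (T : Over S) (f : Fin (e + 1) → (T ⟶ U)),
        (∀ i j, (yon S).map (f i) ≫ a = (yon S).map (f j) ≫ a) →
        (∀ (Ω : Type u) [Field Ω] (h : Spec (CommRingCat.of Ω) ⟶ T.left),
          Function.Injective fun i => h ≫ (f i).left) → ∃! g : T ⟶ W, ∀ i, g ≫ c i = f i) :
    IsFinite ((hX.representable_from_yon q).snd q).left := by
  classical
  let hf := hX.representable_from_yon q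
  let P : Over S := hf.pullback q
  let t : P ⟶ W := hf.fst' q
  let π : P ⟶ W := hf.snd q
  have sq : IsPullback ((yon S).map t) ((yon S).map π) q q := hf.isPullback' q
  haveI : IsAffine P.left := (ChevGen.isAffine_pullback hX q hsep q).2
  haveI : Etale π.left := hq.property _ _ _ sq
  let ι : Type := {σ : Fin (e + 1) → Fin (e + 1) // Function.Injective σ}
  have hg : ∀ σ : ι, ∃! g : W ⟶ W, ∀ i, g ≫ c i = c (σ.1 i) := fun σ =>
    huniv W _ (fun i j => (hc _).trans (hc _).symm) fun Ω _ h => (hinj Ω h).comp σ.2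
  choose g hg hgu using hg
  have hs : ∀ σ : ι, (yon S).map (g σ) ≫ q = 𝟙 _ ≫ q := fun σ => by
    rw [Category.id_comp, ← hc 0, ← Category.assoc, ← Functor.map_comp, hg, hc, hc]
  choose sect hsect using fun σ => (yon S).map_surjective (sq.lift ((yon S).map (g σ)) (𝟙 _) (hs σ))
  have hst : ∀ σ, sect σ ≫ t = g σ := fun σ =>
    (yon S).map_injective (by rw [Functor.map_comp, hsect, sq.lift_fst])
  have hsπ : ∀ σ, sect σ ≫ π = 𝟙 W := fun σ => (yon S).map_injective (by
    rw [Functor.map_comp, hsect, sq.lift_snd]; exact ((yon S).map_id _).symm)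
  have hcov : ∀ p : ↥P.left, ∃ (σ : ι) (w : ↥W.left), (sect σ).left w = p := by
    intro p
    obtain ⟨h, hh⟩ := FlatMorWeight.exists_geomPt p
    let G := geomHom h
    let x : FieldPt X := fieldPtOf ((yon S).map (G ≫ π) ≫ q)
    have hx : x.toHom = (yon S).map (G ≫ π) ≫ q := toHom_fieldPtOf _
    have hxg : x.IsGeometric := AlgebraicClosure.isAlgClosed _
    have hxt : x.toHom = (yon S).map (G ≫ t) ≫ q := by
      rw [hx, Functor.map_comp, Functor.map_comp, Category.assoc, Category.assoc, sq.w]
    let us : Fin (e + 1) → (FieldPt.liftsTo x).obj (EtOver.mk a ha) := fun i => ⟨(G ≫ π) ≫ c i, by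
      rw [hx, Functor.map_comp, Category.assoc]; exact congrArg _ (hc i)⟩
    let vs : Fin (e + 1) → (FieldPt.liftsTo x).obj (EtOver.mk a ha) := fun i => ⟨(G ≫ t) ≫ c i, by
      rw [hxt, Functor.map_comp, Category.assoc]; exact congrArg _ (hc i)⟩
    have hus : Function.Injective us := fun i j hij => hinj _ (h ≫ π.left) (by
      have := congrArg (fun z => z.left) (congrArg Subtype.val hij)
      exact this)
    have hvs : Function.Injective vs := fun i j hij => hinj _ (h ≫ t.left) (by
      have := congrArg (fun z => z.left) (congrArg Subtype.val hij)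
      exact this)
    choose σ hσ using fun i => surjective_of_card_le us hus (hd x hxg) (vs i)
    have hσi : Function.Injective σ := fun i j hij => hvs (by rw [← hσ i, ← hσ j, hij])
    let τ : ι := ⟨σ, hσi⟩
    obtain ⟨m, -, hmu⟩ := huniv _ (fun i => (G ≫ t) ≫ c i)
      (fun i j => by simp only [Functor.map_comp, Category.assoc, hc])
      (fun Ω _ h' i j hij => hinj Ω (h' ≫ (G ≫ t).left) (by
        simp only [Over.comp_left, Category.assoc] at hij ⊢
        exact hij))
    have e1 : G ≫ t = (G ≫ π) ≫ g τ := (hmu _ fun i => rfl).trans (hmu _ fun i => by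
      rw [Category.assoc, hg]
      exact congrArg Subtype.val (hσ i)).symm
    have e2 : G = (G ≫ π) ≫ sect τ := (yon S).map_injective (sq.hom_ext
      (by rw [← Functor.map_comp, ← Functor.map_comp, Category.assoc, hst, e1])
      (by rw [← Functor.map_comp, ← Functor.map_comp, Category.assoc, hsπ, Category.comp_id]))
    refine ⟨τ, FlatMorWeight.pt (h ≫ π.left), ?_⟩
    rw [← FlatMorWeight.pt_comp]
    exact (congrArg FlatMorWeight.pt (congrArg (fun k => k.left) e2).symm).trans hh
  let el := Fintype.equivFin ι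
  let k : ULift.{u} (Fin (Fintype.card ι)) → (W.left ⟶ P.left) := fun i => (sect (el.symm i.down)).left
  let f : (∐ fun _ : ULift.{u} (Fin (Fintype.card ι)) => W.left) ⟶ P.left := Limits.Sigma.desc k
  haveI : Surjective f := by
    refine Surjective.sigmaDesc_of_union_range_eq_univ (f := k) (Set.eq_univ_iff_forall.2 fun p => ?_)
    obtain ⟨σ, w, hw⟩ := hcov p
    refine Set.mem_iUnion.2 ⟨⟨el σ⟩, w, ?_⟩
    show (sect (el.symm (el σ))).left w = p
    rw [el.symm_apply_apply]
    exact hw
  have hk : ∀ i, k i ≫ π.left = 𝟙 _ := fun i => congrArg (fun z => z.left) (hsπ _)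
  haveI : IsFinite (f ≫ π.left) := by
    rw [show f ≫ π.left = Limits.Sigma.desc fun _ => 𝟙 W.left from Limits.Sigma.hom_ext _ _ fun i => by simp [f, hk]]
    exact isFinite_sigmaDesc' _ _ fun _ => inferInstance
  haveI : UniversallyClosed π.left := UniversallyClosed.of_comp_surjective f π.left
  haveI : IsAffineHom π.left := isAffineHom_of_isAffine _
  haveI : IsIntegralHom π.left :=
    IsIntegralHom.iff_universallyClosed_and_isAffineHom.2 ⟨inferInstance, inferInstance⟩
  exact (IsFinite.iff_isIntegralHom_and_locallyOfFiniteType _).2 ⟨inferInstance, inferInstance⟩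

/-- the open subspace of points with the maximal number of lifts is an affine scheme -/
theorem exists_affine_maximal [S.IsSeparated] (X : AlgSp.Space S) (hsep : IsSeparatedSp X.obj) {U : Over S}
    [IsAffine U.left] (a : (yon S).obj U ⟶ X.obj) (ha : RepWith @Etale a) (e : ℕ)
    (hd : ∀ x : FieldPt X.obj, x.IsGeometric →
      ENat.card ((FieldPt.liftsTo x).obj (EtOver.mk a ha)) ≤ (e + 1 : ℕ)) :
    ∃ (T : Over S) (j : (yon S).obj T ⟶ X.obj), IsAffine T.left ∧ RepWith @IsOpenImmersion j ∧
      ∀ x : FieldPt X.obj, x.IsGeometric → Points.mk x ∈ Set.range (Points.map j) ∨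
        ENat.card ((FieldPt.liftsTo x).obj (EtOver.mk a ha)) ≤ (e : ℕ) := by
  classical
  obtain ⟨W, q, c, hW, hq, hc, hinj, huniv⟩ := exists_affineTuples X.property hsep a ha e
  let O := Set.range (Points.ofPt q)
  have hO : IsOpen O := (isOpenMap_ofPt q hq).isOpen_range
  let Y : AlgSp.Space S := ⟨openSubspace X.obj O, isAlgSpace_openSubspace X.property hO⟩
  let j := openSubspaceι X.obj O
  haveI : Mono j := inferInstanceAs (Mono (openSubspaceι X.obj O))
  obtain ⟨l, hl⟩ := (exists_lift_openSubspace_iff O q).2 fun t => ⟨t, rfl⟩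
  have hle : RepWith @Etale l := repWith_of_comp_mono l j (hl.symm ▸ hq)
  have hls : IsSurjectiveMor l := fun y => by
    obtain ⟨w, hw⟩ : Points.map j y ∈ O := (range_openSubspaceι X.obj O).subset ⟨y, rfl⟩
    refine ⟨Points.ofScheme W w, injective_map_of_mono j ?_⟩
    rw [← Points.map_comp, hl, ← Points.ofPt_eq_map_ofScheme]
    exact hw
  let hf := X.property.representable_from_yon q
  have sq : IsPullback ((yon S).map (hf.fst' q)) ((yon S).map (hf.snd q)) l l :=
    isPullback_cancel_mono j (by rw [hl]; exact hf.isPullback' q)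
  have hπ : IsFiniteMor ((yon S).map (hf.snd q)) :=
    (isFiniteMor_iff_repWith _).2 ((repWith_yon_map_iff (P := @IsFinite) _).2
      (isFinite_snd_tuples X.property hsep a ha e hd q c hq hc hinj huniv))
  have hfin : IsFiniteMor l := (iff_of_etale_cover isLocalOnBase_fpqc_finite (IsAlgSpace.yon_obj W) Y.property l l
    hle (ChevGen.repWith_surjective_of Y.property l hls) sq).2 hπ
  have huc : IsUnivClosedMor l := ChevGen.isUnivClosedMor_of_integral ((isIntegralMor_iff_repWith l).2
    (RepWith.mono (fun _ _ g (_ : IsFinite g) => (inferInstance : IsIntegralHom g))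
      ((isFiniteMor_iff_repWith l).1 hfin)))
  obtain ⟨T, hT, ⟨i⟩⟩ := ChevGen.exists_affine_of_univClosed (X := Y) l hls huc
  have hi : RepWith @IsOpenImmersion i.hom := MorphismProperty.of_isIso (RepWith (S := S) @IsOpenImmersion) _
  refine ⟨T, i.hom ≫ j, hT, RepWith.comp hi (repWith_openSubspaceι X.obj hO), fun x hx => ?_⟩
  refine or_iff_not_imp_right.2 fun hlt => ?_
  obtain ⟨us, hus⟩ := exists_injective_of_lt (not_le.1 hlt)
  obtain ⟨g, hg, -⟩ := huniv x.pt (fun k => (us k).1) (fun k k' => (us k).2.trans (us k').2.symm)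
    (fun Ω _ h k k' hkk' => hus (Subtype.ext (Over.OverMorphism.ext (by
      haveI := epi_geom (K := x.K) h
      exact (cancel_epi h).1 hkk'))))
  have hxq : x.toHom = (yon S).map g ≫ q := by
    rw [← hc 0, ← Category.assoc, ← Functor.map_comp, hg]
    exact (us 0).2.symm
  have hmem : Points.mk x ∈ O := by
    have e1 : Points.mk x = ptOfHom (str := x.str) x.toHom := by
      rw [ptOfHom, FieldPt.uliftYonedaEquiv_toHom]
      rfl
    rw [e1, hxq]
    exact ⟨_, (ptOfHom_yon_map g q).symm⟩
  obtain ⟨y, hy⟩ := (range_openSubspaceι X.obj O).symm.subset hmem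
  refine ⟨Points.map i.inv y, ?_⟩
  rw [← Points.map_comp, i.inv_hom_id_assoc]
  exact hy

end Groth.Agent.AlgSpLib.SepChart
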