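import Groth.Agent.AlgSpLib.Pres
import Groth.Prelude.Def_AlgSpDec

/-!
The neighbourhood form of a property of morphisms at a point.
-/

universe u

open CategoryTheory CategoryTheory.Limits AlgebraicGeometry
open AlgSp

noncomputable section

namespace Groth.Agent.AlgSpLib

set_option backward.isDefEq.respectTransparency.types false

variable {S : Scheme.{u}} {X Y : Sp S}

theorem sourceGlue_of_mem {P : MorphismProperty Scheme.{u}}
    (hP : P = @LocallyOfFiniteType ∨ P = @LocallyOfFinitePresentation ∨ P = @Flat ∨ P = @Smooth ∨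
      P = @Etale ∨
      (∀ ⦃A B : Scheme.{u}⦄ (g : A ⟶ B), P g ↔ (LocallyQuasiFinite g ∧ LocallyOfFiniteType g)) ∨
      (∀ ⦃A B : Scheme.{u}⦄ (g : A ⟶ B), P g ↔ (LocallyOfFiniteType g ∧ FormallyUnramified g)))
    {A B : Scheme.{u}} (f : A ⟶ B) {ι : Type u} (O : ι → A.Opens) (hO : iSup O = ⊤)
    (h : ∀ i, P ((O i).ι ≫ f)) : P f := by
  rcases hP with rfl | rfl | rfl | rfl | rfl | hh | hh
  · exact IsZariskiLocalAtSource.of_iSup_eq_top O hO h
  · exact IsZariskiLocalAtSource.of_iSup_eq_top O hO h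
  · exact IsZariskiLocalAtSource.of_iSup_eq_top O hO h
  · exact IsZariskiLocalAtSource.of_iSup_eq_top O hO h
  · exact IsZariskiLocalAtSource.of_iSup_eq_top O hO h
  · exact (hh f).2 ⟨IsZariskiLocalAtSource.of_iSup_eq_top O hO fun i => ((hh _).1 (h i)).1,
      IsZariskiLocalAtSource.of_iSup_eq_top O hO fun i => ((hh _).1 (h i)).2⟩
  · exact (hh f).2 ⟨IsZariskiLocalAtSource.of_iSup_eq_top O hO fun i => ((hh _).1 (h i)).1,
      IsZariskiLocalAtSource.of_iSup_eq_top O hO fun i => ((hh _).1 (h i)).2⟩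

theorem exists_open_subspace_of_hasAtMor {P : MorphismProperty Scheme.{u}} (hP : EtLocal P)
    (hX : IsAlgSpace X) {f : X ⟶ Y} {x : Points X}
    (h : HasAtMor (fun U _ h u => ∃ W : U.Opens, u ∈ W ∧ P (W.ι ≫ h)) f x) :
    ∃ W : Set (Points X), IsOpen W ∧ x ∈ W ∧ LocP P (openSubspaceι X W ≫ f) := by
  obtain ⟨U, V, a, b, l, u, ha, hb, w, rfl, O, hu, hl⟩ := h
  let O' : Over S := Over.mk (O.ι ≫ U.hom)
  let ι : O' ⟶ U := Over.homMk O.ι
  let aO := (yon S).map ι ≫ a
  have haO : RepWith @Etale aO :=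
    RepWith.comp ((repWith_yon_map_iff _ ι).2 (inferInstance : Etale O.ι)) ha
  have hW : IsOpen (Set.range (Points.ofPt aO)) := (isOpenMap_ofPt aO haO).isOpen_range
  refine ⟨_, hW, ⟨⟨u, hu⟩, ofPt_map ι a _⟩, ?_⟩
  obtain ⟨a', ha'⟩ := (exists_lift_openSubspace_iff (Set.range (Points.ofPt aO)) aO).2 fun t => ⟨t, rfl⟩
  have hae : RepWith @Etale a' :=
    repWith_of_comp_mono a' (openSubspaceι X _) (by rw [ha']; exact haO)
  refine locP_of_chart_square hP (isAlgSpace_openSubspace hX hW) a' hae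
    (repWith_surjective_of_surjective_ofPt a' hae.1 fun y => ?_) b hb (ι ≫ l) hl ?_
  · obtain ⟨t, ht⟩ := (range_openSubspaceι X _).le (Set.mem_range_self y)
    exact ⟨t, injective_map_of_mono (openSubspaceι X _) (by rw [Points.map_ofPt, ha', ht])⟩
  · rw [← Category.assoc, ha', Category.assoc, w, ← Category.assoc, Functor.map_comp]

theorem hasAtMor_of_open_subspace {P : MorphismProperty Scheme.{u}} (hP : EtLocal P)
    (hY : IsAlgSpace Y) {f : X ⟶ Y} {X' : Sp S} (hX' : IsAlgSpace X') {j : X' ⟶ X}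
    (hj : RepWith @IsOpenImmersion j) (h : LocP P (j ≫ f)) (x : Points X') :
    HasAtMor (fun U _ h u => ∃ W : U.Opens, u ∈ W ∧ P (W.ι ≫ h)) f (Points.map j x) := by
  obtain ⟨V, b, hbe, hbs⟩ := hY.atlas
  obtain ⟨U, a, l, hae, has, w⟩ := exists_chart_over hX' hY (j ≫ f) b hbe hbs
  obtain ⟨u, rfl⟩ := surjective_ofPt a has x
  have := hP.comp
  refine ⟨U, V, a ≫ j, b, l, u, RepWith.comp hae
    (RepWith.mono (fun _ _ g (_ : IsOpenImmersion g) => (inferInstance : Etale g)) hj), hbe,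
    by rw [Category.assoc, w], (Points.map_ofPt a j u).symm, ⊤, trivial, ?_⟩
  exact P.comp_mem _ _ (hP.of_etale _ _ _ (inferInstance : Etale (⊤ : U.left.Opens).ι))
    (h a b l hae hbe w)

theorem locP_of_forall_hasAtMor {P : MorphismProperty Scheme.{u}} (hP : EtLocal P)
    (glue : ∀ {A B : Scheme.{u}} (f : A ⟶ B) {ι : Type u} (O : ι → A.Opens),
      iSup O = ⊤ → (∀ i, P ((O i).ι ≫ f)) → P f)
    (hX : IsAlgSpace X) {f : X ⟶ Y}
    (h : ∀ x, HasAtMor (fun U _ h u => ∃ W : U.Opens, u ∈ W ∧ P (W.ι ≫ h)) f x) : LocP P f := by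
  intro U V a b l ha hb w
  choose W hW hxW hl using fun x => exists_open_subspace_of_hasAtMor hP hX (h x)
  let O : ↥U.left → U.left.Opens := fun u =>
    ⟨Points.ofPt a ⁻¹' W (Points.ofPt a u), (hW _).preimage (Points.continuous_ofPt a)⟩
  refine glue l.left O (top_le_iff.1 fun u _ => TopologicalSpace.Opens.mem_iSup.2 ⟨u, hxW _⟩)
    fun u => ?_
  let O' : Over S := Over.mk ((O u).ι ≫ U.hom)
  let ι : O' ⟶ U := Over.homMk (O u).ι
  have haO : RepWith @Etale ((yon S).map ι ≫ a) :=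
    RepWith.comp ((repWith_yon_map_iff _ ι).2 (inferInstance : Etale (O u).ι)) ha
  obtain ⟨a', ha'⟩ := (exists_lift_openSubspace_iff (W (Points.ofPt a u)) ((yon S).map ι ≫ a)).2
    fun t => by rw [ofPt_map]; exact t.2
  exact hl _ a' b (ι ≫ l) (repWith_of_comp_mono a' (openSubspaceι X _) (by rw [ha']; exact haO)) hb
    (by rw [← Category.assoc, ha', Category.assoc, w, ← Category.assoc, Functor.map_comp])

end Groth.Agent.AlgSpLib
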