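import Groth.Agent.AlgSpLib.FibreDimChart
import Groth.Agent.AlgSpLib.HasAtNbhd
import Groth.Agent.AlgSpLib.EtLocalInst
import Groth.Agent.FlatMorDim.LocalDim
import Groth.Agent.FlatMorDim.BaseChange
import Groth.Agent.S9798
import Mathlib.AlgebraicGeometry.ZariskisMainTheorem

/-!
Relative dimension of morphisms of algebraic spaces: loci, quasi-finite points, base change.
-/

universe u

open CategoryTheory CategoryTheory.Limits AlgebraicGeometry Topology
open AlgSp

noncomputable section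

namespace Groth.Agent.AlgSpLib

set_option backward.isDefEq.respectTransparency.types false

section Schemes

theorem localDim_nonneg {A : Type u} [TopologicalSpace A] (a : A) : 0 ≤ FlatMor.localDim A a :=
  le_iInf fun U => by
    have : Nonempty (TopologicalSpace.IrreducibleCloseds ↥(U.1 : Set A)) :=
      ⟨⟨closure {⟨a, U.2⟩}, isIrreducible_singleton.closure, isClosed_closure⟩⟩
    exact Order.krullDim_nonneg

theorem eq_of_forall_nat_le_iff {a b : WithBot ℕ∞} (ha : 0 ≤ a) (hb : 0 ≤ b)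
    (h : ∀ n : ℕ, a ≤ (n : WithBot ℕ∞) ↔ b ≤ (n : WithBot ℕ∞)) : a = b := by
  induction a using WithBot.recBotCoe with
  | bot => exact absurd ha (by simp)
  | coe a =>
    induction b using WithBot.recBotCoe with
    | bot => exact absurd hb (by simp)
    | coe b =>
      refine congrArg _ (le_antisymm ?_ ?_)
      · induction b using ENat.recTopCoe with
        | top => exact le_top
        | coe n => exact WithBot.coe_le_coe.1 ((h n).2 le_rfl)
      · induction a using ENat.recTopCoe with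
        | top => exact le_top
        | coe n => exact WithBot.coe_le_coe.1 ((h n).1 le_rfl)

theorem localDim_bc {k : Type u} [Field k] {X : Scheme.{u}} (f : X ⟶ Spec (.of k))
    [LocallyOfFiniteType f] (K : Type u) [Field K] [Algebra k K]
    (z : ↥(pullback f (Spec.map (CommRingCat.ofHom (algebraMap k K))))) :
    FlatMor.localDim _ z = FlatMor.localDim X (DimLib.bcFst f K z) := by
  refine eq_of_forall_nat_le_iff (localDim_nonneg _) (localDim_nonneg _) fun n => ?_
  rw [FlatMorDim.localDim_le_iff (DimLib.bcStr f K), FlatMorDim.localDim_le_iff f]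
  constructor
  · intro h w hw
    obtain ⟨w', h1, h2⟩ := Flat.generalizingMap (DimLib.bcFst f K) hw
    obtain ⟨w'', h3, h4, e⟩ := DimLib.exists_specializes_bc f K w'
    rw [← h2]
    exact e ▸ h w'' (h3.trans h1)
  · intro h w hw
    exact (DimLib.ptDim_bc_le f K w).trans (h _ (hw.map (DimLib.bcFst f K).continuous))

theorem localDim_homeo {A B : Scheme.{u}} (e : A ≅ B) (a : A) :
    FlatMor.localDim A a = FlatMor.localDim B (e.hom a) :=
  localDim_eq_of_map e.hom.continuous e.hom.isOpenMap (e.hom.isOpenEmbedding.generalizingMap)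
    (fun _ _ _ h => e.hom.isOpenEmbedding.injective h) a

theorem fibreDimAt_baseChange {X X' Y Y' : Scheme.{u}} {g' : X' ⟶ X} {f' : X' ⟶ Y'} {f : X ⟶ Y}
    {g : Y' ⟶ Y} (hc : IsPullback g' f' f g) [LocallyOfFiniteType f] (z : X') :
    FlatMor.fibreDimAt f' z = FlatMor.fibreDimAt f (g' z) := by
  letI : Algebra (Y.residueField (g (f' z))) (Y'.residueField (f' z)) :=
    (g.residueFieldMap (f' z)).hom.toAlgebra
  have hsq := isPullback_fiberToSpecResidueField_of_isPullback hc (f' z)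
  haveI : LocallyOfFiniteType (f.fiberToSpecResidueField (g (f' z))) :=
    inferInstanceAs (LocallyOfFiniteType (pullback.snd f (Y.fromSpecResidueField (g (f' z)))))
  have key : ∀ (y : Y) (w : f.fiber y), f.fiberι y w = g' z →
      FlatMor.localDim _ w = FlatMor.fibreDimAt f (g' z) := by
    intro y w hw
    have hy : y = f (g' z) := by
      rw [← hw]
      have := f.range_fiberι y ▸ Set.mem_range_self (f := f.fiberι y) w
      exact (Set.mem_singleton_iff.1 this).symm
    subst hy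
    exact congrArg _ ((f.fiberι _).isEmbedding.injective (by rw [hw, Scheme.Hom.fiberι_asFiber]))
  let i := hsq.isoPullback
  refine ((localDim_homeo i (f'.asFiber z)).trans ((localDim_bc (k := Y.residueField (g (f' z)))
    (f.fiberToSpecResidueField (g (f' z))) (Y'.residueField (f' z)) _).trans (key _ _ ?_)))
  erw [← Scheme.Hom.comp_apply i.hom, IsPullback.isoPullback_hom_fst]
  erw [← Scheme.Hom.comp_apply, pullback.lift_fst, Scheme.Hom.comp_apply, Scheme.Hom.fiberι_asFiber]

theorem fibreDimAt_eq_zero_iff {X Y : Scheme.{u}} (h : X ⟶ Y) [LocallyOfFiniteType h] (x : X) :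
    FlatMor.fibreDimAt h x = 0 ↔ h.QuasiFiniteAt x := by
  have : LocallyOfFiniteType (h.fiberToSpecResidueField (h x)) :=
    inferInstanceAs (LocallyOfFiniteType (pullback.snd h (Y.fromSpecResidueField (h x))))
  have := LocallyOfFiniteType.isLocallyNoetherian (h.fiberToSpecResidueField (h x))
  rw [Scheme.Hom.quasiFiniteAt_iff_isOpen_singleton_asFiber]
  exact S9798.result (h.fiber (h x)) (h.asFiber x)

theorem exists_lqf_nhd_iff {X Y : Scheme.{u}} (h : X ⟶ Y) [LocallyOfFiniteType h] (x : X) :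
    (∃ W : X.Opens, x ∈ W ∧ LocallyQuasiFinite (W.ι ≫ h) ∧ LocallyOfFiniteType (W.ι ≫ h)) ↔
      h.QuasiFiniteAt x := by
  constructor
  · rintro ⟨W, hx, hq, hl⟩
    have h1 := (W.ι ≫ h).quasiFiniteAt ⟨x, hx⟩
    have h2 := (Scheme.Hom.quasiFiniteAt_comp_iff_of_isOpenImmersion (f := W.ι) (g := h)
      (x := ⟨x, hx⟩)).1 h1
    exact h2
  · intro hx
    have hl : LocallyOfFiniteType (h.quasiFiniteLocus.ι ≫ h) := inferInstance
    refine ⟨h.quasiFiniteLocus, hx, (Scheme.Hom.quasiFiniteLocus_eq_top_iff _).1 ?_, hl⟩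
    exact top_le_iff.1 fun w _ => Scheme.Hom.quasiFiniteAt_comp_iff_of_isOpenImmersion.2 w.2

end Schemes

variable {S : Scheme.{u}} {X Y : Sp S}

theorem exists_chart_at (hX : IsAlgSpace X) (hY : IsAlgSpace Y) (f : X ⟶ Y) (x : Points X) :
    ∃ (U V : Over S) (a : (yon S).obj U ⟶ X) (b : (yon S).obj V ⟶ Y) (h : U ⟶ V) (u : ↥U.left),
      RepWith @Etale a ∧ RepWith @Etale b ∧ a ≫ f = (yon S).map h ≫ b ∧ Points.ofPt a u = x := by
  obtain ⟨V, b, hbe, hbs⟩ := hY.atlas
  obtain ⟨U, a, h, hae, has, w⟩ := exists_chart_over hX hY f b hbe hbs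
  obtain ⟨u, hu⟩ := surjective_ofPt a has x
  exact ⟨U, V, a, b, h, u, hae, hbe, w, hu⟩

theorem hasAtMor_fibreDim_pred (hX : IsAlgSpace X) (hY : IsAlgSpace Y) (f : X ⟶ Y) {U V : Over S}
    (a : (yon S).obj U ⟶ X) (b : (yon S).obj V ⟶ Y) (h : U ⟶ V) (ha : RepWith @Etale a)
    (hb : RepWith @Etale b) (w : a ≫ f = (yon S).map h ≫ b) (u : ↥U.left)
    (R : WithBot ℕ∞ → Prop) :
    HasAtMor (fun _ _ h u => R (FlatMor.fibreDimAt h u)) f (Points.ofPt a u) ↔
      R (FlatMor.fibreDimAt h.left u) := by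
  refine ⟨?_, fun H => ⟨U, V, a, b, h, u, ha, hb, w, rfl, H⟩⟩
  rintro ⟨U', V', a', b', h', u', ha', hb', w', e, H⟩
  have := (hasAtMor_fibreDim_iff hX hY f a b h ha hb w u (FlatMor.fibreDimAt h'.left u')).1
    ⟨U', V', a', b', h', u', ha', hb', w', e, rfl⟩
  rwa [this]

theorem hasAtMor_lqf_iff (hX : IsAlgSpace X) (hY : IsAlgSpace Y) {f : X ⟶ Y}
    (hf : LocP @LocallyOfFiniteType f) (x : Points X) :
    HasAtMor (fun U _ h u => ∃ W : U.Opens, u ∈ W ∧ LocallyQuasiFinite (W.ι ≫ h) ∧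
        LocallyOfFiniteType (W.ι ≫ h)) f x ↔
      HasAtMor (fun _ _ h u => FlatMor.fibreDimAt h u = 0) f x := by
  constructor
  · rintro ⟨U, V, a, b, h, u, ha, hb, w, rfl, H⟩
    have : LocallyOfFiniteType h.left := hf a b h ha hb w
    exact ⟨U, V, a, b, h, u, ha, hb, w, rfl,
      (fibreDimAt_eq_zero_iff h.left u).2 ((exists_lqf_nhd_iff h.left u).1 H)⟩
  · rintro ⟨U, V, a, b, h, u, ha, hb, w, rfl, H⟩
    have : LocallyOfFiniteType h.left := hf a b h ha hb w
    exact ⟨U, V, a, b, h, u, ha, hb, w, rfl,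
      (exists_lqf_nhd_iff h.left u).2 ((fibreDimAt_eq_zero_iff h.left u).1 H)⟩

theorem isOpen_of_pred (hX : IsAlgSpace X) (hY : IsAlgSpace Y) (f : X ⟶ Y) (R : WithBot ℕ∞ → Prop)
    (hR : ∀ ⦃U V : Over S⦄ (a : (yon S).obj U ⟶ X) (b : (yon S).obj V ⟶ Y) (h : U ⟶ V),
      RepWith @Etale a → RepWith @Etale b → a ≫ f = (yon S).map h ≫ b →
      IsOpen {u : ↥U.left | R (FlatMor.fibreDimAt h.left u)}) :
    IsOpen {x : Points X | HasAtMor (fun _ _ h u => R (FlatMor.fibreDimAt h u)) f x} := by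
  obtain ⟨V, b, hbe, hbs⟩ := hY.atlas
  obtain ⟨U, a, h, hae, has, w⟩ := exists_chart_over hX hY f b hbe hbs
  refine (isOpenQuotientMap_ofPt a hae has).isQuotientMap.isOpen_preimage.1 ?_
  convert hR a b h hae hbe w using 1
  ext u
  exact hasAtMor_fibreDim_pred hX hY f a b h hae hbe w u R

theorem isOpen_relDim_le (hX : IsAlgSpace X) (hY : IsAlgSpace Y) {f : X ⟶ Y}
    (hf : LocP @LocallyOfFiniteType f) (n : ℕ) :
    IsOpen {x : Points X | HasAtMor (fun _ _ h u => FlatMor.fibreDimAt h u ≤ (n : WithBot ℕ∞)) f x} :=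
  isOpen_of_pred hX hY f (fun d => d ≤ (n : WithBot ℕ∞)) fun U V a b h ha hb w => by
    have : LocallyOfFiniteType h.left := hf a b h ha hb w
    exact FlatMorDim.isOpen_fibreDimAt_le h.left n

theorem locP_lqf_of_relDim_zero (hX : IsAlgSpace X) (hY : IsAlgSpace Y) {f : X ⟶ Y}
    (hf : LocP @LocallyOfFiniteType f)
    (h0 : ∀ x, HasAtMor (fun _ _ h u => FlatMor.fibreDimAt h u = 0) f x) :
    LocP (@LocallyQuasiFinite ⊓ @LocallyOfFiniteType) f := fun U V a b h ha hb w => by
  have : LocallyOfFiniteType h.left := hf a b h ha hb w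
  refine ⟨(Scheme.Hom.quasiFiniteLocus_eq_top_iff h.left).1 (top_le_iff.1 fun u _ => ?_), this⟩
  exact (fibreDimAt_eq_zero_iff h.left u).1
    ((hasAtMor_fibreDim_iff hX hY f a b h ha hb w u 0).1 (h0 _))

theorem relDim_zero_of_locP_lqf (hX : IsAlgSpace X) (hY : IsAlgSpace Y) {f : X ⟶ Y}
    (hf : LocP (@LocallyQuasiFinite ⊓ @LocallyOfFiniteType) f) (x : Points X) :
    HasAtMor (fun _ _ h u => FlatMor.fibreDimAt h u = 0) f x := by
  obtain ⟨U, V, a, b, h, u, ha, hb, w, rfl⟩ := exists_chart_at hX hY f x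
  obtain ⟨h1, h2⟩ := hf a b h ha hb w
  have : LocallyOfFiniteType h.left := h2
  have : LocallyQuasiFinite h.left := h1
  exact ⟨U, V, a, b, h, u, ha, hb, w, rfl, (fibreDimAt_eq_zero_iff h.left u).2 (h.left.quasiFiniteAt u)⟩

/-- compatible charts for a base change -/
theorem exists_chart_baseChange {Y' X' : Sp S} (hX : IsAlgSpace X) (hY : IsAlgSpace Y)
    (hY' : IsAlgSpace Y') (hX' : IsAlgSpace X') {f : X ⟶ Y} {g : Y' ⟶ Y} {g' : X' ⟶ X}
    {f' : X' ⟶ Y'} (sq : IsPullback g' f' f g) (x' : Points X') :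
    ∃ (U V U' V' : Over S) (a : (yon S).obj U ⟶ X) (b : (yon S).obj V ⟶ Y) (h : U ⟶ V)
      (a' : (yon S).obj U' ⟶ X') (b' : (yon S).obj V' ⟶ Y') (h' : U' ⟶ V') (p : U' ⟶ U) (q : V' ⟶ V)
      (u' : ↥U'.left),
      RepWith @Etale a ∧ RepWith @Etale b ∧ RepWith @Etale a' ∧ RepWith @Etale b' ∧
      a ≫ f = (yon S).map h ≫ b ∧ a' ≫ f' = (yon S).map h' ≫ b' ∧
      a' ≫ g' = (yon S).map p ≫ a ∧ IsPullback p h' h q ∧ Points.ofPt a' u' = x' := by
  obtain ⟨V, b, hbe, hbs⟩ := hY.atlas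
  obtain ⟨U, a, h, hae, has, w⟩ := exists_chart_over hX hY f b hbe hbs
  have sqP := IsPullback.of_hasPullback b g
  have hP := isAlgSpace_of_isPullback hY.diag (IsAlgSpace.yon_obj V) hY' sqP
  obtain ⟨Q, p, hpe, hps⟩ := hP.atlas
  obtain ⟨l, hl⟩ := (yon S).map_surjective (p ≫ pullback.fst b g)
  let c := p ≫ pullback.snd b g
  have hce : RepWith @Etale c := RepWith.comp hpe (RepWith.baseChange sqP hbe)
  have sqA := IsPullback.of_hasPullback a g'
  let r : pullback a g' ⟶ pullback b g := pullback.lift (pullback.fst a g' ≫ (yon S).map h)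
    (pullback.snd a g' ≫ f') (by
      rw [Category.assoc, ← w, ← Category.assoc, sqA.w, Category.assoc, Category.assoc, sq.w])
  have sqr : IsPullback (pullback.fst a g') r ((yon S).map h) (pullback.fst b g) := by
    refine IsPullback.of_bot ?_ (pullback.lift_fst _ _ _).symm sqP
    rw [pullback.lift_snd, ← w]
    exact sqA.paste_vert sq
  have sqQ := (IsPullback.of_hasPullback h l).map (yon S)
  let j : (yon S).obj (pullback h l) ⟶ pullback a g' :=
    sqr.lift ((yon S).map (pullback.fst h l)) ((yon S).map (pullback.snd h l) ≫ p) (by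
      rw [Category.assoc, ← hl]; exact sqQ.w)
  have sqj : IsPullback j ((yon S).map (pullback.snd h l)) r p := by
    refine IsPullback.of_right ?_ (sqr.lift_snd _ _ _) sqr
    rw [sqr.lift_fst, ← hl]
    exact sqQ
  have hje : RepWith @Etale j := RepWith.baseChange sqj.flip hpe
  have hjs : RepWith @Surjective j := RepWith.baseChange sqj.flip hps
  obtain ⟨z, hz⟩ : ∃ z, Points.map (pullback.snd a g') z = x' :=
    surjective_map_of_repWith (RepWith.baseChange sqA has) x'
  obtain ⟨u', hu'⟩ := surjective_ofPt j hjs z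
  refine ⟨U, V, pullback h l, Q, a, b, h, j ≫ pullback.snd a g', c, pullback.snd h l,
    pullback.fst h l, l, u', hae, hbe, RepWith.comp hje (RepWith.baseChange sqA hae), hce, w,
    ?_, ?_, IsPullback.of_hasPullback h l, ?_⟩
  · have e := congr($(sqj.w) ≫ pullback.snd b g)
    simp only [r, Category.assoc, pullback.lift_snd] at e
    rw [Category.assoc]
    exact e
  · rw [Category.assoc, ← sqA.w, ← Category.assoc, sqr.lift_fst]
  · rw [← Points.map_ofPt, hu', hz]

theorem relDim_baseChange {Y' X' : Sp S} (hX : IsAlgSpace X) (hY : IsAlgSpace Y)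
    (hY' : IsAlgSpace Y') (hX' : IsAlgSpace X') {f : X ⟶ Y} {g : Y' ⟶ Y} {g' : X' ⟶ X}
    {f' : X' ⟶ Y'} (sq : IsPullback g' f' f g) (hf : LocP @LocallyOfFiniteType f) (x' : Points X')
    (R : WithBot ℕ∞ → Prop) :
    HasAtMor (fun _ _ h u => R (FlatMor.fibreDimAt h u)) f' x' ↔
      HasAtMor (fun _ _ h u => R (FlatMor.fibreDimAt h u)) f (Points.map g' x') := by
  obtain ⟨U, V, U', V', a, b, h, a', b', h', p, q, u', ha, hb, ha', hb', w, w', wp, sqS, rfl⟩ :=
    exists_chart_baseChange hX hY hY' hX' sq x'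
  have : LocallyOfFiniteType h.left := hf a b h ha hb w
  have e : FlatMor.fibreDimAt h'.left u' = FlatMor.fibreDimAt h.left (p.left u') :=
    fibreDimAt_baseChange (f := h.left) (g := q.left) (g' := p.left) (f' := h'.left)
      (sqS.map (Over.forget S)) u'
  rw [Points.map_ofPt, wp, ofPt_map, hasAtMor_fibreDim_pred hX' hY' f' a' b' h' ha' hb' w' u' R,
    hasAtMor_fibreDim_pred hX hY f a b h ha hb w (p.left u') R, e]

theorem exists_lqf_locus (hX : IsAlgSpace X) (hY : IsAlgSpace Y) {f : X ⟶ Y}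
    (hf : LocP @LocallyOfFiniteType f) :
    ∃ W : Set (Points X), IsOpen W ∧
      (∀ x, x ∈ W ↔ HasAtMor (fun _ _ h u => FlatMor.fibreDimAt h u = 0) f x) ∧
      LocP (@LocallyQuasiFinite ⊓ @LocallyOfFiniteType) (openSubspaceι X W ≫ f) := by
  let W := {x : Points X | HasAtMor (fun _ _ h u => FlatMor.fibreDimAt h u = 0) f x}
  have hW : IsOpen W := isOpen_of_pred hX hY f (fun d => d = 0) fun U V a b h ha hb w => by
    have : LocallyOfFiniteType h.left := hf a b h ha hb w
    convert (FlatMorDim.isOpen_fibreDimAt_le h.left 0) using 1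
    ext u
    exact ⟨fun e => le_of_eq e, fun e => le_antisymm e (localDim_nonneg _)⟩
  refine ⟨W, hW, fun _ => Iff.rfl, fun U V a b h ha hb w => ?_⟩
  have hj := RepWith.mono (fun _ _ g (_ : IsOpenImmersion g) => (inferInstance : Etale g))
    (repWith_openSubspaceι X hW)
  have haj := RepWith.comp ha hj
  have w' : (a ≫ openSubspaceι X W) ≫ f = (yon S).map h ≫ b := by rw [Category.assoc, w]
  have : LocallyOfFiniteType h.left := hf _ b h haj hb w'
  refine ⟨(Scheme.Hom.quasiFiniteLocus_eq_top_iff h.left).1 (top_le_iff.1 fun u _ => ?_), this⟩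
  refine (fibreDimAt_eq_zero_iff h.left u).1 ((hasAtMor_fibreDim_iff hX hY f _ b h haj hb w' u 0).1 ?_)
  rw [← Points.map_ofPt]
  exact (range_openSubspaceι X W).le ⟨_, rfl⟩

end Groth.Agent.AlgSpLib
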