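import Groth.Agent.AlgSpLib.StratCovDeg
import Groth.Agent.AlgSpLib.SepChartAffine
import Groth.Agent.GrpdLib.InvariantAffine
import Groth.Agent.FlatMor12.UnivOpenLimit

/-!
Quasi-compact quasi-separated algebraic spaces are exhausted by finitely many affine locally closed pieces cut out by
functions on an affine chart.
-/

universe u

open CategoryTheory CategoryTheory.Limits AlgebraicGeometry Opposite Topology
open AlgSp

noncomputable section

set_option linter.style.haveILetI false

namespace Groth.Agent.AlgSpLib.Pieces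

open Groth.Agent.AlgSpLib

set_option backward.isDefEq.respectTransparency.types false
set_option backward.isDefEq.respectTransparency false

variable {S : Scheme.{u}}

/-- functions on a chart, each with a degree, such that every point has all its lifts in the nonvanishing locus of a
function of the degree of the point -/
structure PieceCover (X : Sp S) {U : Over S} (a : (yon S).obj U ⟶ X) (ι : Type u) where
  /-- the degree of the chart -/
  δ : Points X → ℕ
  /-- the degree is the degree -/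
  hdeg : ∀ {T P : Over S} (g : (yon S).obj T ⟶ X) (fst : (yon S).obj P ⟶ (yon S).obj U) (c : P ⟶ T),
    IsPullback fst ((yon S).map c) a g → ∀ r, (∀ t, δ (Points.ofPt g t) = r) → finLocFreeOfDeg r c.left
  /-- the degree of a piece -/
  deg : ι → ℕ
  /-- the function of a piece -/
  fn : ι → Γ(U.left, ⊤)
  le_deg : ∀ i, ∀ u ∈ U.left.basicOpen (fn i), deg i ≤ δ (Points.ofPt a u)
  cover : ∀ x, ∃ i, deg i = δ x ∧ ∀ u, Points.ofPt a u = x → u ∈ U.left.basicOpen (fn i)

variable {X : Sp S} {U : Over S} {a : (yon S).obj U ⟶ X} {ι : Type u}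

/-- the points all of whose lifts lie in the nonvanishing locus -/
def PieceCover.stratum (C : PieceCover X a ι) (i : ι) : Set (Points X) :=
  {x | ∀ u, Points.ofPt a u = x → u ∈ U.left.basicOpen (C.fn i)}

theorem finite_image_fibre {R : Scheme.{u}} (c : R ⟶ U.left) [LocallyQuasiFinite c] [QuasiCompact c]
    {β : Type*} (f : R → β) (u : U.left) : (f '' (c ⁻¹' {u})).Finite :=
  (c.finite_preimage_singleton u).image f

/-- quasi-compact quasi-separated spaces have finite piece covers -/
theorem exists_pieceCover [QuasiSeparatedSpace ↥S] (hX : IsAlgSpace X) (hqs : IsQuasiSeparatedSp X)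
    [IsAffine U.left] (a : (yon S).obj U ⟶ X) (hae : RepWith @Etale a) (has : RepWith @Surjective a) :
    ∃ (ι : Type u) (_ : Fintype ι), Nonempty (PieceCover X a ι) := by
  classical
  obtain ⟨n, δ, -, hopen, hcpt, hdeg⟩ := StratCov.exists_degree hX hqs a hae has
  obtain ⟨R, c, fst, sq, hce⟩ := exists_yon_of_repWith hae a
  obtain ⟨t, rfl⟩ := (yon S).map_surjective fst
  haveI : Etale c.left := hce
  haveI : QuasiCompact c.left := (repWith_qc_chart hX hqs a).property _ _ _ sq
  haveI : LocallyQuasiFinite c.left := locallyQuasiFinite_of_etale c.left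
  haveI : CompactSpace ↥R.left := QuasiCompact.compactSpace_of_compactSpace c.left
  haveI : QuasiCompact t.left := quasiCompact_of_compactSpace _
  let pre : ℕ → U.left.Opens := fun r =>
    ⟨Points.ofPt a ⁻¹' {x | r ≤ δ x}, (hopen r).preimage (Points.continuous_ofPt a)⟩
  have hpre : ∀ r, IsConstructible (pre r : Set ↥U.left) := fun r => by
    refine IsCompact.isConstructible ?_ (pre r).isOpen
    have h := Induct.isCompact_preimage hX hqs a (hopen r) (hcpt r)
    convert (Points.schemeHomeo U).isCompact_preimage.2 h using 1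
    ext v
    show r ≤ δ (Points.ofPt a v) ↔ r ≤ δ (Points.map a (Points.ofScheme U v))
    rw [Points.ofPt_eq_map_ofScheme]
  have hfib : ∀ u v : ↥U.left, Points.ofPt a v = Points.ofPt a u ↔ v ∈ t.left '' (c.left ⁻¹' {u}) := fun u v => by
    rw [ofPt_eq_ofPt_iff sq v u]
    exact ⟨fun ⟨p, h1, h2⟩ => ⟨p, h2, h1⟩, fun ⟨p, h1, h2⟩ => ⟨p, h2, h1⟩⟩
  choose g hg hgle using fun u : ↥U.left => GrpdLib.exists_basicOpen_of_finite
    (t.left '' (c.left ⁻¹' {u})) (finite_image_fibre c.left _ u) (pre (δ (Points.ofPt a u))) fun v hv => by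
      show δ (Points.ofPt a u) ≤ δ (Points.ofPt a v)
      rw [(hfib u v).2 hv]
  let G : ↥U.left → Set ↥U.left := fun u =>
    ((pre (δ (Points.ofPt a u)) : Set ↥U.left) \ pre (δ (Points.ofPt a u) + 1)) \
      c.left '' (t.left ⁻¹' (U.left.basicOpen (g u) : Set ↥U.left)ᶜ)
  have hG : ∀ u, IsConstructible (G u) := fun u => by
    refine ((hpre _).sdiff (hpre _)).sdiff (c.left.isConstructible_image
      (t.left.isConstructible_preimage ?_))
    exact (((isAffineOpen_top U.left).basicOpen (g u)).isCompact.isConstructible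
      (U.left.basicOpen (g u)).isOpen).compl
  have hmem : ∀ u v : ↥U.left, v ∈ G u ↔ δ (Points.ofPt a v) = δ (Points.ofPt a u) ∧
      ∀ w, Points.ofPt a w = Points.ofPt a v → w ∈ U.left.basicOpen (g u) := fun u v => by
    constructor
    · rintro ⟨⟨h1, h2⟩, h3⟩
      refine ⟨le_antisymm (Nat.le_of_lt_succ (not_le.1 h2)) h1, fun w hw => by_contra fun hwg => h3 ?_⟩
      obtain ⟨p, hp, rfl⟩ := (hfib v w).1 hw
      exact ⟨p, hwg, hp⟩
    · rintro ⟨h1, h2⟩
      refine ⟨⟨h1.ge, fun h => ?_⟩, ?_⟩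
      · have h' : δ (Points.ofPt a u) + 1 ≤ δ (Points.ofPt a v) := h
        omega
      · rintro ⟨p, hp, hpv⟩
        exact hp (h2 _ ((hfib v _).2 ⟨p, hpv, rfl⟩))
  obtain ⟨s, hs⟩ := Groth.Agent.FlatMor12.UnivOpenLimit.exists_finite_subcover G hG (Set.eq_univ_of_forall fun u => Set.mem_iUnion.2
    ⟨u, (hmem u u).2 ⟨rfl, fun w hw => hg u ((hfib u w).1 hw)⟩⟩)
  refine ⟨↥s, inferInstance, ⟨
    { δ := δ
      hdeg := hdeg
      deg := fun i => δ (Points.ofPt a i.1)
      fn := fun i => g i.1
      le_deg := fun i v hv => hgle i.1 hv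
      cover := fun x => ?_ }⟩⟩
  obtain ⟨v, rfl⟩ := surjective_ofPt a has x
  obtain ⟨u, hu, hv⟩ := Set.mem_iUnion₂.1 (hs.symm.subset (Set.mem_univ v))
  obtain ⟨h1, h2⟩ := (hmem u v).1 hv
  exact ⟨⟨u, hu⟩, h1.symm, h2⟩

/-- the pieces of a closed subspace -/
theorem exists_pullback_cover [Fintype ι] (C : PieceCover X a ι) (i₀ : ι) {Z : Sp S} (i : Z ⟶ X)
    (hi : ∀ z, Points.map i z ∉ C.stratum i₀) {U' : Over S} {a' : (yon S).obj U' ⟶ Z} {k : U' ⟶ U}
    (sq : IsPullback a' ((yon S).map k) i a) :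
    ∃ (ι' : Type u) (_ : Fintype ι'), Fintype.card ι' < Fintype.card ι ∧ Nonempty (PieceCover Z a' ι') := by
  classical
  have hmap : ∀ v, Points.map i (Points.ofPt a' v) = Points.ofPt a (k.left v) := fun v => by
    rw [Points.map_ofPt, sq.w, ofPt_map]
  refine ⟨{j : ι // j ≠ i₀}, inferInstance, Fintype.card_subtype_lt (x := i₀) (by simp), ⟨
    { δ := fun z => C.δ (Points.map i z)
      hdeg := fun {T P} g fst c sq' r hr => C.hdeg (g ≫ i) (fst ≫ (yon S).map k) c
        (sq'.paste_horiz sq.flip) r fun t => by rw [← Points.map_ofPt]; exact hr t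
      deg := fun j => C.deg j.1
      fn := fun j => k.left.appTop.hom (C.fn j.1)
      le_deg := fun j v hv => ?_
      cover := fun z => ?_ }⟩⟩
  · rw [← Scheme.preimage_basicOpen_top] at hv
    rw [hmap]
    exact C.le_deg j.1 _ hv
  · obtain ⟨j, hj, hj'⟩ := C.cover (Points.map i z)
    refine ⟨⟨j, fun h => hi z (h ▸ hj')⟩, hj, fun v hv => ?_⟩
    rw [← Scheme.preimage_basicOpen_top]
    exact hj' _ (by rw [← hmap, hv])

/-- a square over a monomorphism through which the first projection factors is cartesian -/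
theorem isPullback_factor {P A B C D : Sp S} {f : P ⟶ B} {c : P ⟶ C} {b : B ⟶ D} {g : C ⟶ D} {m : A ⟶ B} [Mono m]
    (sq : IsPullback f c b g) (h : P ⟶ A) (hh : h ≫ m = f) : IsPullback h c (m ≫ b) g :=
  ⟨⟨by rw [← Category.assoc, hh, sq.w]⟩,
    ⟨PullbackCone.IsLimit.mk _
      (fun s => sq.lift (s.fst ≫ m) s.snd (by rw [Category.assoc, s.condition]))
      (fun s => (cancel_mono m).1 (by rw [Category.assoc, hh, sq.lift_fst]))
      (fun s => sq.lift_snd _ _ _)
      fun s l h1 h2 => sq.hom_ext (by rw [sq.lift_fst, ← hh, ← Category.assoc, h1]) (by rw [h2, sq.lift_snd])⟩⟩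

/-- the points of highest degree with all lifts in a nonvanishing locus form an affine open subspace -/
theorem exists_affine_piece (hX : IsAlgSpace X) [IsAffine U.left] (hae : RepWith @Etale a)
    (has : RepWith @Surjective a) (C : PieceCover X a ι) (i₀ : ι) (hmax : ∀ i, C.deg i ≤ C.deg i₀) :
    ∃ (T : Over S) (j : (yon S).obj T ⟶ X), IsAffine T.left ∧ RepWith @IsOpenImmersion j ∧ IsAffineMor j ∧
      Set.range (Points.map j) = C.stratum i₀ ∧ IsCompact (Points.ofPt a ⁻¹' C.stratum i₀) := by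
  classical
  let r := C.deg i₀
  have hle : ∀ x, C.δ x ≤ r := fun x => by
    obtain ⟨i, hi, -⟩ := C.cover x
    exact hi ▸ hmax i
  let D : U.left.Opens := U.left.basicOpen (C.fn i₀)
  have hDδ : ∀ u ∈ D, C.δ (Points.ofPt a u) = r := fun u hu => le_antisymm (hle _) (C.le_deg i₀ u hu)
  let T0 : Over S := Over.mk (D.ι ≫ U.hom)
  let m0 : T0 ⟶ U := Over.homMk D.ι
  let b : (yon S).obj T0 ⟶ X := (yon S).map m0 ≫ a
  obtain ⟨P, s, fst, sq, -⟩ := exists_yon_of_repWith hae b
  obtain ⟨t, rfl⟩ := (yon S).map_surjective fst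
  obtain ⟨⟨hfin, hflat, hlfp⟩, -⟩ := C.hdeg b _ s sq r fun z => by
    rw [ofPt_map]
    exact hDδ _ z.2
  haveI : IsFinite s.left := hfin
  haveI : Flat s.left := hflat
  haveI : LocallyOfFinitePresentation s.left := hlfp
  haveI : IsAffine T0.left := (isAffineOpen_top U.left).basicOpen (C.fn i₀)
  haveI : IsAffine P.left := isAffine_of_isAffineHom s.left
  obtain ⟨N, hN⟩ := GrpdLib.exists_basicOpen_eq_forall_fibre s.left (t.left.appTop.hom (C.fn i₀))
  have hO : ∀ z : ↥T0.left, z ∈ T0.left.basicOpen N ↔ Points.ofPt b z ∈ C.stratum i₀ := fun z => by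
    rw [hN]
    constructor
    · intro H u hu
      obtain ⟨p, rfl, hp⟩ := (ofPt_eq_ofPt_iff sq u z).1 hu
      have := H p hp
      rwa [← Scheme.preimage_basicOpen_top] at this
    · intro H p hp
      rw [← Scheme.preimage_basicOpen_top]
      exact H _ ((ofPt_eq_ofPt_iff sq (t.left p) z).2 ⟨p, rfl, hp⟩)
  let W : U.left.Opens := D.ι ''ᵁ T0.left.basicOpen N
  have hWaff : IsAffineOpen W := ((isAffineOpen_top T0.left).basicOpen N).image_of_isOpenImmersion D.ι
  have hW : Points.ofPt a ⁻¹' C.stratum i₀ = (W : Set ↥U.left) := by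
    ext u
    constructor
    · intro hu
      refine ⟨(⟨u, hu u rfl⟩ : D), (hO _).2 ?_, rfl⟩
      rw [ofPt_map]
      exact hu
    · rintro ⟨z, hz, rfl⟩
      have := (hO z).1 hz
      rwa [ofPt_map] at this
  have hOeq : C.stratum i₀ = Points.ofPt a '' (W : Set ↥U.left) := by
    rw [← hW, Set.image_preimage_eq _ (surjective_ofPt a has)]
  have hopen : IsOpen (C.stratum i₀) := hOeq ▸ isOpenMap_ofPt a hae _ W.isOpen
  let T1 : Over S := Over.mk (W.ι ≫ U.hom)
  let m1 : T1 ⟶ U := Over.homMk W.ι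
  haveI : IsAffine T1.left := hWaff
  haveI : IsOpenImmersion m1.left := inferInstanceAs (IsOpenImmersion W.ι)
  haveI : Mono m1 := (Over.forget S).mono_of_mono_map (inferInstanceAs (Mono W.ι))
  haveI : Mono ((yon S).map m1) := inferInstance
  let q : (yon S).obj T1 ⟶ X := (yon S).map m1 ≫ a
  have hq : ∀ z, Points.ofPt q z ∈ C.stratum i₀ := fun z => by
    rw [ofPt_map]
    exact hW.symm.subset z.2
  let Y : AlgSp.Space S := ⟨openSubspace X (C.stratum i₀), isAlgSpace_openSubspace hX hopen⟩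
  let ι₀ := openSubspaceι X (C.stratum i₀)
  haveI : Mono ι₀ := inferInstanceAs (Mono (openSubspaceι X (C.stratum i₀)))
  obtain ⟨l, hl⟩ := (exists_lift_openSubspace_iff (C.stratum i₀) q).2 hq
  have hqe : RepWith @Etale q :=
    RepWith.comp ((repWith_yon_map_iff (P := @Etale) m1).2 inferInstance) hae
  have hle' : RepWith @Etale l := repWith_of_comp_mono l ι₀ (hl.symm ▸ hqe)
  have hls : IsSurjectiveMor l := fun y => by
    obtain ⟨w, hw, hw'⟩ : Points.map ι₀ y ∈ Points.ofPt a '' (W : Set ↥U.left) :=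
      hOeq.subset ((range_openSubspaceι X _).subset ⟨y, rfl⟩)
    refine ⟨Points.ofScheme T1 ⟨w, hw⟩, injective_map_of_mono ι₀ ?_⟩
    rw [← Points.map_comp, hl, ← Points.ofPt_eq_map_ofScheme, ofPt_map]
    exact hw'
  -- the chart of the piece is finite over it
  obtain ⟨P', s', fst', sq', -⟩ := exists_yon_of_repWith hae q
  obtain ⟨t', rfl⟩ := (yon S).map_surjective fst'
  have hdeg' := C.hdeg q _ s' sq' r fun z => by
    rw [ofPt_map]
    obtain ⟨z', hz', hzz⟩ := z.2
    refine hDδ _ ?_
    show z.1 ∈ D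
    rw [← hzz]
    exact z'.2
  haveI : IsFinite s'.left := hdeg'.1.1
  have hr : Set.range t'.left ⊆ Set.range W.ι := by
    rintro _ ⟨p, rfl⟩
    rw [Scheme.Opens.range_ι]
    refine hW.subset ?_
    show Points.ofPt a (t'.left p) ∈ C.stratum i₀
    rw [(ofPt_eq_ofPt_iff sq' _ (s'.left p)).2 ⟨p, rfl, rfl⟩]
    exact hq _
  let h : P' ⟶ T1 := Over.homMk (IsOpenImmersion.lift W.ι t'.left hr) (by
    show IsOpenImmersion.lift W.ι t'.left hr ≫ W.ι ≫ U.hom = _
    rw [IsOpenImmersion.lift_fac_assoc]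
    exact Over.w t')
  have hh : h ≫ m1 = t' := Over.OverMorphism.ext (IsOpenImmersion.lift_fac _ _ _)
  have sql : IsPullback ((yon S).map h) ((yon S).map s') l l := by
    refine SepChart.isPullback_cancel_mono ι₀ ?_
    rw [hl]
    exact isPullback_factor sq' _ (by rw [← Functor.map_comp, hh])
  have hfinl : IsFiniteMor l := (iff_of_etale_cover isLocalOnBase_fpqc_finite (IsAlgSpace.yon_obj T1) Y.property l l
    hle' (ChevGen.repWith_surjective_of Y.property l hls) sql).2
      ((isFiniteMor_iff_repWith _).2 ((repWith_yon_map_iff (P := @IsFinite) s').2 inferInstance))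
  have huc : IsUnivClosedMor l := ChevGen.isUnivClosedMor_of_integral ((isIntegralMor_iff_repWith l).2
    (RepWith.mono (fun _ _ g (_ : IsFinite g) => (inferInstance : IsIntegralHom g))
      ((isFiniteMor_iff_repWith l).1 hfinl)))
  obtain ⟨T, hT, ⟨e⟩⟩ := ChevGen.exists_affine_of_univClosed (X := Y) l hls huc
  -- the inclusion is affine
  have sqι : IsPullback l ((yon S).map m1) ι₀ a := by
    refine isPullback_of_yon hl fun K x y hxy => ?_
    obtain ⟨v, rfl⟩ := (yon S).map_surjective y
    have hv : Set.range v.left ⊆ Set.range W.ι := by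
      rintro _ ⟨k, rfl⟩
      rw [Scheme.Opens.range_ι]
      refine hW.subset ?_
      have := (exists_lift_openSubspace_iff (C.stratum i₀) _).1 ⟨x, hxy⟩ k
      rwa [ofPt_map] at this
    let m : K ⟶ T1 := Over.homMk (IsOpenImmersion.lift W.ι v.left hv) (by
      show IsOpenImmersion.lift W.ι v.left hv ≫ W.ι ≫ U.hom = _
      rw [IsOpenImmersion.lift_fac_assoc]
      exact Over.w v)
    have hm : m ≫ m1 = v := Over.OverMorphism.ext (IsOpenImmersion.lift_fac _ _ _)
    refine ⟨(yon S).map m, ⟨(cancel_mono ι₀).1 ?_, ?_⟩, ?_⟩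
    · rw [Category.assoc, hl, ← Functor.map_comp_assoc, hm, hxy]
    · rw [← Functor.map_comp, hm]
    · rintro z ⟨-, hz⟩
      rw [← cancel_mono ((yon S).map m1), hz, ← Functor.map_comp, hm]
  haveI : IsAffineHom m1.left := isAffineHom_of_isAffine _
  have hι : IsAffineMor ι₀ := (iff_of_etale_cover isAffineMor_iff_isLocal Y.property hX ι₀ a hae has sqι).2
    ((isAffineMor_iff_repWith _).2 ((repWith_yon_map_iff (P := @IsAffineHom) m1).2 inferInstance))
  have hi : RepWith @IsOpenImmersion e.hom := MorphismProperty.of_isIso (RepWith (S := S) @IsOpenImmersion) _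
  refine ⟨T, e.hom ≫ ι₀, hT, RepWith.comp hi (repWith_openSubspaceι X hopen),
    (isAffineMor_iff_repWith _).2 (RepWith.comp (repWith_of_isIso @IsAffineHom e.hom)
      ((isAffineMor_iff_repWith _).1 hι)), ?_, hW ▸ hWaff.isCompact⟩
  refine Set.Subset.antisymm ?_ fun x hx => ?_
  · rintro _ ⟨z, rfl⟩
    rw [Points.map_comp]
    exact (range_openSubspaceι X _).subset ⟨_, rfl⟩
  · obtain ⟨y, rfl⟩ := (range_openSubspaceι X _).symm.subset hx
    refine ⟨Points.map e.inv y, ?_⟩
    rw [← Points.map_comp, e.inv_hom_id_assoc]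

end Groth.Agent.AlgSpLib.Pieces
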