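import Groth.Agent.AlgSpLib.ApproxRel

/-!
Morphisms locally of finite type are closed immersions followed by morphisms of finite presentation.
-/

universe u

open CategoryTheory CategoryTheory.Limits AlgebraicGeometry Opposite
open AlgSp

noncomputable section

namespace Groth.Agent.AlgSpLib.Approx

open Groth.Agent.AlgSpLib

set_option backward.isDefEq.respectTransparency.types false
set_option backward.isDefEq.respectTransparency false

variable {S : Scheme.{u}} [QuasiSeparatedSpace ↥S]

theorem exists_closed_fp_factor {X Y : AlgSp.Space S} (f : X.obj ⟶ Y.obj) (hft : LocP @LocallyOfFiniteType f)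
    (hc : IsQuasiCompactSp X.obj) (hs : IsQuasiSeparatedSp X.obj) (hYs : IsQuasiSeparatedSp Y.obj) :
    ∃ (V : AlgSp.Space S) (i : X.obj ⟶ V.obj) (π : V.obj ⟶ Y.obj), i ≫ π = f ∧ RepWith @IsClosedImmersion i ∧
      IsFinitePresentationMor π ∧ IsQuasiCompactSp V.obj ∧ IsQuasiSeparatedSp V.obj := by
  obtain ⟨Q, a, g, hag, ha, hg, hQc, hQs⟩ := exists_affine_fp_factor f hc hs hYs
  have hal : LocP @LocallyOfFiniteType a := lft_of_comp X.property Q.property Y.property (q := g) (hag ▸ hft)
  obtain ⟨V, π, i, hiπ, hi, hπ, -, hVc, hVs⟩ :=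
    AffineLftClosed.exists_closed_factor_affine X.property ha hal hQc hQs
  exact ⟨V, i, π ≫ g, by rw [← Category.assoc, hiπ, hag], hi,
    AffineLftClosed.fp_comp V.property Q.property Y.property hπ hg, hVc, hVs⟩

end Groth.Agent.AlgSpLib.Approx
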