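import Groth.Agent.AlgSpLib.FpqcBaseAffine2
import Mathlib.AlgebraicGeometry.Morphisms.SchemeTheoreticallyDominant
import Mathlib.AlgebraicGeometry.Morphisms.FlatDescent

/-!
Immersions are fppf local on the base and quasi-compact immersions are fpqc local on the base.
-/

universe u

open CategoryTheory CategoryTheory.Limits AlgebraicGeometry Topology
open AlgSp

noncomputable section

namespace Groth.Agent.AlgSpLib

set_option backward.isDefEq.respectTransparency.types false

variable {S : Scheme.{u}}

theorem range_map_preimage {P F G H : Sp S} {fst : P ⟶ F} {snd : P ⟶ G} {f : F ⟶ H} {g : G ⟶ H}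
    (sq : IsPullback fst snd f g) :
    Points.map g ⁻¹' Set.range (Points.map f) = Set.range (Points.map snd) := by
  rw [← Set.image_univ, preimage_map_image sq, Set.preimage_univ, Set.image_univ]

theorem repWith_closedImmersion_of_isClosed_range {F G : Sp S} {i : F ⟶ G}
    (hi : RepWith @IsImmersion i) (h : IsClosed (Set.range (Points.map i))) :
    RepWith @IsClosedImmersion i := by
  refine MorphismProperty.relative.of_exists fun T t => ?_
  refine ⟨_, _, hi.1.snd t, hi.1.isPullback t, ?_⟩
  have : IsImmersion (hi.1.snd t).left := hi.property_snd t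
  show IsClosedImmersion (hi.1.snd t).left
  refine IsClosedImmersion.of_isPreimmersion (hi.1.snd t).left ?_
  have h1 := (h.preimage (Points.continuous_map t)).preimage (Points.schemeHomeo T).continuous
  rw [range_map_preimage (hi.1.isPullback t), Points.map_yon_map_eq] at h1
  convert h1 using 1
  ext x
  constructor
  · rintro ⟨r, rfl⟩
    exact ⟨Points.schemeHomeo _ r, by simp⟩
  · rintro ⟨r, hr⟩
    exact ⟨_, (Points.schemeHomeo T).injective hr⟩

theorem isLocalOnBase_fppf_immersion :
    IsLocalOnBase (IsFppfCover (S := S)) (RepWith @IsImmersion) := by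
  intro ι Y Yi g hY hYi hc X f hX Xi p q hXi sq
  refine ⟨fun h i => RepWith.baseChange (sq i) h, fun hp => ?_⟩
  have ho : ∀ i, IsOpenMap (Points.map (g i)) := fun i =>
    isUnivOpenMor_of_flat_lfp (hYi i) hY (hc.1 i).1 (hc.1 i).2 hY (𝟙 _) (𝟙 _) (g i)
      (IsPullback.of_horiz_isIso ⟨by simp⟩)
  let A := Set.range (Points.map f)
  have hpre : ∀ i, Points.map (g i) ⁻¹' A = Set.range (Points.map (p i)) := fun i =>
    range_map_preimage (sq i)
  have hlc : ∀ i, IsLocallyClosed (Points.map (g i) ⁻¹' A) := fun i => by
    rw [hpre]; exact (isEmbedding_map_of_immersion (hYi i) (hp i)).2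
  have hU : IsOpen (coborder A) := by
    rw [isOpen_iff_forall_mem_open]
    intro y hy
    obtain ⟨i, x, rfl⟩ := hc.2 y
    refine ⟨Points.map (g i) '' (Points.map (g i) ⁻¹' coborder A), Set.image_preimage_subset _ _,
      ho i _ ?_, x, hy, rfl⟩
    rw [← coborder_preimage (ho i) (Points.continuous_map _)]
    exact isLocallyClosed_iff_isOpen_coborder.1 (hlc i)
  let U := coborder A
  let j := openSubspaceι Y U
  have hj : RepWith @IsOpenImmersion j := repWith_openSubspaceι Y hU
  have hUa : IsAlgSpace (openSubspace Y U) := isAlgSpace_openSubspace hY hU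
  have hjr : Set.range (Points.map j) = U := range_openSubspaceι Y U
  obtain ⟨h, hh⟩ := (exists_lift_iff_range_subset hj f).2 (by rw [hjr]; exact subset_coborder)
  -- the restricted cover
  have sqU := fun i => IsPullback.of_hasPullback j (g i)
  have hUi : ∀ i, IsAlgSpace (pullback j (g i)) := fun i =>
    isAlgSpace_of_isPullback hY.diag hUa (hYi i) (sqU i)
  have hk : ∀ i, ∃ k : Xi i ⟶ pullback j (g i),
      k ≫ pullback.snd j (g i) = p i ∧ k ≫ pullback.fst j (g i) = q i ≫ h := fun i =>
    ⟨(sqU i).lift (q i ≫ h) (p i) (by rw [Category.assoc, hh, (sq i).w]), (sqU i).lift_snd _ _ _,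
      (sqU i).lift_fst _ _ _⟩
  choose k hk₁ hk₂ using hk
  have sqk : ∀ i, IsPullback (q i) (k i) h (pullback.fst j (g i)) := fun i =>
    IsPullback.of_bot (by rw [hk₁, hh]; exact sq i) (hk₂ i).symm (sqU i)
  have hclosed : IsClosed (Set.range (Points.map h)) := by
    have e : Set.range (Points.map h) = Points.map j ⁻¹' closure A := by
      ext z
      constructor
      · rintro ⟨x, rfl⟩
        refine subset_closure ⟨x, ?_⟩
        rw [← Points.map_comp, hh]
      · intro hz
        have hzA : Points.map j z ∈ A := by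
          have h1 : closure A ∩ coborder A = A := closure_inter_coborder
          rw [← h1]
          exact ⟨hz, hjr.subset (Set.mem_range_self z)⟩
        obtain ⟨x, hx⟩ := hzA
        have : Mono j := mono_of_repWith
          (fun _ _ g (_ : IsOpenImmersion g) => (inferInstance : Mono g)) hj
        refine ⟨x, injective_map_of_mono j ?_⟩
        rw [← Points.map_comp, hh, hx]
    rw [e]
    exact isClosed_closure.preimage (Points.continuous_map _)
  have hkc : ∀ i, RepWith @IsClosedImmersion (k i) := fun i => by
    have : Mono (pullback.snd j (g i)) := mono_of_repWith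
      (fun _ _ g (_ : IsOpenImmersion g) => (inferInstance : Mono g))
      (RepWith.baseChange (sqU i) hj)
    refine repWith_closedImmersion_of_isClosed_range
      (repWith_of_comp_mono (k i) (pullback.snd j (g i)) (by rw [hk₁]; exact hp i)) ?_
    rw [← range_map_preimage (sqk i)]
    exact hclosed.preimage (Points.continuous_map _)
  have hcov : IsFppfCover (fun i => pullback j (g i)) (fun i => pullback.fst j (g i)) := by
    refine ⟨fun i => ⟨locP_of_isPullback etLocal_flat (hYi i) hY (hUi i) (sqU i).flip (hc.1 i).1,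
      locP_of_isPullback etLocal_lfp (hYi i) hY (hUi i) (sqU i).flip (hc.1 i).2⟩, fun z => ?_⟩
    obtain ⟨i, x, hx⟩ := hc.2 (Points.map j z)
    obtain ⟨w, hw, -⟩ := exists_point_of_isPullback (sqU i) hx.symm
    exact ⟨i, w, hw⟩
  have hclosedImm := (isLocalOnBase_fpqc_closedImmersion (S := S) _ _ hUa hUi
    (isFpqcCover_of_isFppfCover hUa hUi hcov) h hX Xi k q hXi sqk).2 hkc
  rw [← hh]
  exact RepWith.comp (RepWith.mono (fun _ _ g (_ : IsClosedImmersion g) => (inferInstance : IsImmersion g))
    hclosedImm) (RepWith.mono (fun _ _ g (_ : IsOpenImmersion g) => (inferInstance : IsImmersion g)) hj)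

theorem isSchemeTheoreticallyDominant_toImage {X Y : Scheme.{u}} (f : X ⟶ Y) [QuasiCompact f] :
    IsSchemeTheoreticallyDominant f.toImage := by
  rw [isSchemeTheoreticallyDominant_iff]
  have h := Scheme.Hom.toImage_app_injective (f := f)
  refine Scheme.IdealSheafData.ext_of_iSup_eq_top
    (fun U : Y.affineOpens => ⟨f.imageι ⁻¹ᵁ U.1, U.2.preimage f.imageι⟩) ?_ fun U => ?_
  · rw [← Scheme.Hom.preimage_iSup, iSup_affineOpens_eq_top, Scheme.Hom.preimage_top]
  · simp only [Scheme.Hom.ker_apply, Scheme.IdealSheafData.ideal_bot, Pi.bot_apply]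
    exact (RingHom.injective_iff_ker_eq_bot _).1 (h U)

theorem isOpenImmersion_of_immersion_dominant {X Y : Scheme.{u}} (f : X ⟶ Y) [IsImmersion f]
    [QuasiCompact f] [IsSchemeTheoreticallyDominant f] : IsOpenImmersion f := by
  have : IsIso f.imageι := by
    delta Scheme.Hom.imageι Scheme.Hom.image; rw [f.ker_eq_bot]; infer_instance
  rw [← f.toImage_imageι]
  infer_instance

theorem descends_qcImmersion_family {m : ℕ} {X Y : Scheme.{u}} (f : X ⟶ Y) {T : Fin m → Scheme.{u}}
    (c : ∀ i, T i ⟶ Y) (hf : ∀ i, Flat (c i)) (hq : ∀ i, QuasiCompact (c i))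
    (hs : ∀ y, ∃ i, y ∈ Set.range (c i))
    (h : ∀ i, (@IsImmersion ⊓ @QuasiCompact : MorphismProperty Scheme.{u}) (pullback.snd f (c i))) :
    (@IsImmersion ⊓ @QuasiCompact : MorphismProperty Scheme.{u}) f := by
  haveI := Et18.descends_quasiCompact.{u}
  have hfq : QuasiCompact f :=
    property_of_fpqc_family (P := @QuasiCompact) f c hf hq hs fun i => (h i).2
  refine ⟨?_, hfq⟩
  have hI : IsOpenImmersion f.toImage := by
    refine property_of_fpqc_family (P := @IsOpenImmersion) f.toImage
      (fun i => pullback.fst f.imageι (c i))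
      (fun i => MorphismProperty.pullback_fst (P := @Flat) _ _ (hf i))
      (fun i => MorphismProperty.pullback_fst (P := @QuasiCompact) _ _ (hq i))
      (fun y => ?_) fun i => ?_
    · obtain ⟨i, v, hv⟩ := hs (f.imageι y)
      obtain ⟨p, hp, -⟩ :=
        Scheme.Pullback.exists_preimage_pullback (f := f.imageι) (g := c i) y v hv.symm
      exact ⟨i, p, hp⟩
    · have := hf i
      have : Flat (pullback.fst f.imageι (c i)) :=
        MorphismProperty.pullback_fst (P := @Flat) _ _ (hf i)
      have := isSchemeTheoreticallyDominant_toImage f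
      let e := pullback.snd f.toImage (pullback.fst f.imageι (c i))
      have hcomp : IsImmersion (e ≫ pullback.snd f.imageι (c i)) ∧
          QuasiCompact (e ≫ pullback.snd f.imageι (c i)) := by
        have h2 : IsPullback (pullback.fst f.toImage (pullback.fst f.imageι (c i)))
            (e ≫ pullback.snd f.imageι (c i)) f (c i) := by
          have h3 := ((IsPullback.of_hasPullback f.toImage (pullback.fst f.imageι (c i))).flip.paste_horiz
            ((IsPullback.of_hasPullback f.imageι (c i)).flip)).flip
          rwa [Scheme.Hom.toImage_imageι] at h3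
        rw [← h2.isoPullback_hom_snd]
        exact ⟨MorphismProperty.RespectsIso.precomp (P := @IsImmersion) _ _ (h i).1,
          MorphismProperty.RespectsIso.precomp (P := @QuasiCompact) _ _ (h i).2⟩
      have := hcomp.1
      have : IsImmersion e := IsImmersion.of_comp e (pullback.snd f.imageι (c i))
      have : QuasiCompact e := inferInstance
      exact isOpenImmersion_of_immersion_dominant e
  rw [← f.toImage_imageι]
  infer_instance

theorem isLocalOnBase_fpqc_qcImmersion :
    IsLocalOnBase (IsFpqcCover (S := S)) (RepWith (@IsImmersion ⊓ @QuasiCompact)) := by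
  refine isLocalOnBase_fpqc_of_affine _
    (fun _ _ _ _ _ _ _ _ _ _ _ _ sq h => RepWith.baseChange sq h)
    (fun X Y hX hY f h => repWith_of_affine _ fun Z hZ g => ?_)
    (fun Z m V c hZ hV hc hs X f Q a b hX hQ sq hb => ?_)
  · have sq := IsPullback.of_hasPullback f g
    obtain ⟨W, w, fst, sqW, hw⟩ := exists_yon_of_repWith (h Z hZ g _ _ _
      (isAlgSpace_of_isPullback hY.diag hX (IsAlgSpace.yon_obj Z) sq) sq) (𝟙 ((yon S).obj Z))
    exact ⟨W, w, fst ≫ pullback.fst f g, by simpa using sqW.paste_horiz sq, hw⟩
  choose W w fst sqW hw using fun j => exists_yon_of_repWith (hb j) (𝟙 ((yon S).obj (V j)))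
  have sqj : ∀ j, IsPullback (fst j ≫ a j) ((yon S).map (w j)) f ((yon S).map (c j)) := fun j => by
    simpa using (sqW j).paste_horiz (sq j)
  obtain ⟨A, i, fstA, hA, sqA⟩ := exists_quasiAffine_of_fpqc_family c hZ hV hc hs hX
    (fun j => by
      have := hV j
      have : IsImmersion (w j).left := (hw j).1
      have : QuasiCompact (w j).left := (hw j).2
      have : CompactSpace ↥(W j).left := QuasiCompact.compactSpace_of_compactSpace (w j).left
      exact Scheme.IsQuasiAffine.of_isImmersion (w j).left) sqj
  have : IsIso fstA := sqA.isIso_fst_of_isIso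
  have e : f = inv fstA ≫ (yon S).map i := by
    rw [← Category.comp_id ((yon S).map i), ← sqA.w, IsIso.inv_hom_id_assoc]
  rw [e]
  refine (MorphismProperty.cancel_left_of_respectsIso (RepWith (@IsImmersion ⊓ @QuasiCompact)) _ _).2
    ((repWith_yon_map_iff _ i).2 ?_)
  obtain ⟨W', π, r, hsq, -, -, -, -⟩ := exists_base_change_family i V c hZ hV hc hs
  refine descends_qcImmersion_family i.left (fun j => (c j).left) hc
    (fun j => by have := hV j; infer_instance) hs fun j => ?_
  have h1 : IsPullback (π j).left (r j).left i.left (c j).left := (hsq j).map (Over.forget S)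
  rw [show pullback.snd i.left (c j).left = h1.isoPullback.inv ≫ (r j).left by simp]
  refine (MorphismProperty.cancel_left_of_respectsIso (@IsImmersion ⊓ @QuasiCompact) _ _).2 ?_
  have h2 := ((hsq j).map (yon S)).paste_horiz sqA
  rw [Category.comp_id] at h2
  exact (hb j).property (𝟙 _) ((sq j).lift ((yon S).map (π j) ≫ fstA) ((yon S).map (r j)) h2.w) (r j)
    (IsPullback.of_right' (by rw [Category.id_comp]; exact h2) (sq j))

end Groth.Agent.AlgSpLib
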