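import Groth.Agent.AlgSpLib.ThickGlobal
import Groth.Agent.AlgSpLib.FpqcBaseIso
import Groth.Agent.AlgSpLib.MorMore
import Groth.Agent.AlgSpLib.SheafCoprod2
import Groth.Agent.AlgSpLib.Formally
import Groth.Agent.AlgSpLib.FpqcBaseImm

/-!
Unique lifting along thickenings: unramified morphisms, etale morphisms.
-/

universe u

open CategoryTheory CategoryTheory.Limits AlgebraicGeometry
open AlgSp

noncomputable section

namespace Groth.Agent.AlgSpLib

set_option backward.isDefEq.respectTransparency.types false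

variable {S : Scheme.{u}}

/-- two lifts along a thickening agree when the diagonal is an open immersion -/
theorem eq_of_thick_of_diag_open {T T' X Y : Sp S} (hT' : IsAlgSpace T') {j : T ⟶ T'} (hj : IsThickMor j)
    {f : X ⟶ Y} (hd : RepWith @IsOpenImmersion (pullback.diagonal f)) (l l' : T' ⟶ X)
    (h1 : j ≫ l = j ≫ l') (h2 : l ≫ f = l' ≫ f) : l = l' := by
  let d : T' ⟶ pullback f f := pullback.lift l l' h2
  have hjd : j ≫ d = (j ≫ l) ≫ pullback.diagonal f :=
    pullback.hom_ext
      (by rw [Category.assoc, pullback.lift_fst, Category.assoc, pullback.diagonal_fst, Category.comp_id])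
      (by rw [Category.assoc, pullback.lift_snd, Category.assoc, pullback.diagonal_snd, Category.comp_id, h1])
  obtain ⟨k, hk⟩ := (exists_lift_iff_range_subset hd d).2 (by
    rintro _ ⟨z, rfl⟩
    obtain ⟨y, rfl⟩ := (isHomeomorph_map_of_thickMor hT' hj).surjective z
    rw [← Points.map_comp, hjd, Points.map_comp]
    exact ⟨_, rfl⟩)
  have e1 : l = k := by
    have := congrArg (fun m => m ≫ pullback.fst f f) hk
    simp only [Category.assoc] at this
    rw [pullback.diagonal_fst, Category.comp_id] at this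
    exact (this.trans (pullback.lift_fst _ _ _)).symm
  have e2 : l' = k := by
    have := congrArg (fun m => m ≫ pullback.snd f f) hk
    simp only [Category.assoc] at this
    rw [pullback.diagonal_snd, Category.comp_id] at this
    exact (this.trans (pullback.lift_snd _ _ _)).symm
  rw [e1, e2]

theorem eq_of_thick_of_unramified {T T' X Y : Sp S} (hX : IsAlgSpace X) (hY : IsAlgSpace Y)
    (hT' : IsAlgSpace T') {j : T ⟶ T'} (hj : IsThickMor j) {f : X ⟶ Y}
    (hf : LocP (@LocallyOfFiniteType ⊓ @FormallyUnramified) f) (l l' : T' ⟶ X)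
    (h1 : j ≫ l = j ≫ l') (h2 : l ≫ f = l' ≫ f) : l = l' :=
  eq_of_thick_of_diag_open hT' hj (repWith_diagonal_of_unramified hX hY hf) l l' h1 h2

theorem locP_unramified_of_isEtaleMor {X Y : Sp S} (hX : IsAlgSpace X) (hY : IsAlgSpace Y) {f : X ⟶ Y}
    (hf : IsEtaleMor f) : LocP (@LocallyOfFiniteType ⊓ @FormallyUnramified) f :=
  locP_mono (fun _ _ g (_ : Etale g) => ⟨inferInstance, inferInstance⟩)
    ((isEtaleMor_iff_locP etLocal_etale hX hY f).1 hf)

/-- a section of an etale morphism over a thickening lifts -/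
theorem exists_section_of_thick {T T' W : Space.{u} S} {j : T ⟶ T'} (hj : IsThickMor j.hom) (g : W ⟶ T')
    (hg : IsEtaleMor g.hom) (s₀ : T.obj ⟶ W.obj) (hs₀ : s₀ ≫ g.hom = j.hom) :
    ∃ s : T'.obj ⟶ W.obj, j.hom ≫ s = s₀ ∧ s ≫ g.hom = 𝟙 _ := by
  have hT := T.property; have hT' := T'.property; have hW := W.property
  have sq := IsPullback.of_hasPullback g.hom j.hom
  have hW₀ : IsAlgSpace (pullback g.hom j.hom) := isAlgSpace_of_isPullback hT'.diag hW hT sq
  have hgl := (isEtaleMor_iff_locP etLocal_etale hW hT' g.hom).1 hg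
  have hg₀ := locP_of_isPullback etLocal_etale hW hT' hW₀ sq hgl
  let σ : T.obj ⟶ pullback g.hom j.hom := pullback.lift s₀ (𝟙 _) (by rw [hs₀, Category.id_comp])
  have hσ : σ ≫ pullback.snd _ _ = 𝟙 _ := pullback.lift_snd _ _ _
  have : Mono σ := ⟨fun a b e => by
    have := congrArg (fun m => m ≫ pullback.snd g.hom j.hom) e
    simp only [Category.assoc] at this
    rwa [hσ, Category.comp_id, Category.comp_id] at this⟩
  have hσo : RepWith @IsOpenImmersion σ := by
    refine (repWith_isOpenImmersion_iff_mono_etale hT hW₀ σ).2 ⟨inferInstance,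
      (isEtaleMor_iff_locP etLocal_etale hT hW₀ σ).2 ?_⟩
    refine locP_of_comp' (Q := @LocallyOfFiniteType ⊓ @FormallyUnramified) etLocal_etale hT hW₀ hT
      (fun A B C a b h1 h2 => ?_) (g := pullback.snd g.hom j.hom) (by rw [hσ]; exact locP_id etLocal_etale hT)
      (locP_mono (fun _ _ g (_ : Etale g) => ⟨inferInstance, inferInstance⟩) hg₀)
    have : Etale (a ≫ b) := h1
    have : LocallyOfFiniteType b := h2.1
    have : FormallyUnramified b := h2.2
    exact Etale.of_comp a b
  have hiW : IsThickMor (pullback.fst g.hom j.hom) := RepWith.baseChange sq.flip hj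
  have hhW := isHomeomorph_map_of_thickMor hW hiW
  let O : Set (Points W.obj) := Points.map (pullback.fst g.hom j.hom) '' Set.range (Points.map σ)
  have hO : IsOpen O := hhW.isOpenMap _ (range_isOpen hW₀ hσo)
  let W' : Space.{u} S := ⟨openSubspace W.obj O, isAlgSpace_openSubspace hW hO⟩
  let ι : W'.obj ⟶ W.obj := openSubspaceι W.obj O
  have hι : RepWith @IsOpenImmersion ι := repWith_openSubspaceι W.obj hO
  have hιr : Set.range (Points.map ι) = O := range_openSubspaceι W.obj O
  obtain ⟨k, hk⟩ := (exists_lift_iff_range_subset hι s₀).2 (by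
    rintro _ ⟨z, rfl⟩
    rw [hιr]
    refine ⟨_, ⟨z, rfl⟩, ?_⟩
    rw [← Points.map_comp]
    exact congrArg (fun m => Points.map m z) (pullback.lift_fst _ _ _))
  let g' : W'.obj ⟶ T'.obj := ι ≫ g.hom
  have hkg : k ≫ g' = j.hom := by rw [← Category.assoc, hk, hs₀]
  have sqP := IsPullback.of_hasPullback g' j.hom
  let m : T.obj ⟶ pullback g' j.hom := pullback.lift k (𝟙 _) (by rw [hkg, Category.id_comp])
  let n : pullback g' j.hom ⟶ pullback g.hom j.hom :=
    pullback.lift (pullback.fst g' j.hom ≫ ι) (pullback.snd _ _) (by rw [Category.assoc]; exact pullback.condition)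
  obtain ⟨z, hz⟩ := (exists_lift_iff_range_subset hσo n).2 (by
    rintro _ ⟨x, rfl⟩
    have h3 : Points.map (pullback.fst g.hom j.hom) (Points.map n x) ∈ O := by
      rw [← Points.map_comp, show n ≫ pullback.fst g.hom j.hom = pullback.fst g' j.hom ≫ ι from
        pullback.lift_fst _ _ _, Points.map_comp, ← hιr]
      exact ⟨_, rfl⟩
    obtain ⟨y, hy, e⟩ := h3
    rwa [← hhW.injective e])
  have hz' : z = pullback.snd g' j.hom := by
    have := congrArg (fun q => q ≫ pullback.snd g.hom j.hom) hz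
    simp only [Category.assoc] at this
    rw [hσ, Category.comp_id] at this
    exact this.trans (pullback.lift_snd _ _ _)
  have hιm : Mono ι := inferInstanceAs (Mono (openSubspaceι W.obj O))
  have key : pullback.snd g' j.hom ≫ k = pullback.fst g' j.hom := (cancel_mono ι).1 (by
    calc (pullback.snd g' j.hom ≫ k) ≫ ι = pullback.snd g' j.hom ≫ s₀ := by
          rw [Category.assoc]; exact congrArg (pullback.snd g' j.hom ≫ ·) hk
      _ = z ≫ σ ≫ pullback.fst g.hom j.hom := by
          rw [hz']; exact congrArg (pullback.snd g' j.hom ≫ ·) (pullback.lift_fst _ _ _).symm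
      _ = pullback.fst g' j.hom ≫ ι := by
          rw [← Category.assoc, hz]; exact pullback.lift_fst _ _ _)
  have sqT : IsPullback k (𝟙 T.obj) g' j.hom := by
    refine sqP.of_iso ⟨pullback.snd g' j.hom, m, ?_, pullback.lift_snd _ _ _⟩ (Iso.refl _) (Iso.refl _) (Iso.refl _)
      ?_ (by simp) (by simp) (by simp)
    · refine pullback.hom_ext ?_ (by rw [Category.assoc, pullback.lift_snd, Category.comp_id, Category.id_comp])
      rw [Category.assoc, pullback.lift_fst, Category.id_comp]
      exact key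
    · rw [Iso.refl_hom, Category.comp_id]
      exact key.symm
  have hg' : IsEtaleMor g' := (isEtaleMor_iff_locP etLocal_etale W'.property hT' g').2
    (locP_comp etLocal_etale W'.property hW hT'
      (locP_of_repWith etLocal_etale W'.property (RepWith.mono (fun _ _ g (_ : IsOpenImmersion g) =>
        (inferInstance : Etale g)) hι)) hgl)
  have hiso := (openImmersion_of_thick_mor hT W'.property hT hT' sqT hj (fun _ => hg')
    (P := MorphismProperty.isomorphisms Scheme.{u}) (fun _ _ g (_ : IsIso g) => (inferInstance : IsOpenImmersion g))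
    (repWith_of_isIso _ _)).2.2 rfl
  have := isIso_of_repWith_isomorphisms hiso
  refine ⟨inv g' ≫ ι, ?_, ?_⟩
  · rw [← hkg, Category.assoc, IsIso.hom_inv_id_assoc, hk]
  · rw [Category.assoc]
    exact IsIso.inv_hom_id g'

/-- lifting along thickenings for etale morphisms -/
theorem existsUnique_lift_of_etale {T T' X Y : Sp S} (hX : IsAlgSpace X) (hY : IsAlgSpace Y)
    (hT : IsAlgSpace T) (hT' : IsAlgSpace T') {j : T ⟶ T'} (hj : IsThickMor j) {f : X ⟶ Y} (hf : IsEtaleMor f)
    (a : T ⟶ X) (b : T' ⟶ Y) (w : a ≫ f = j ≫ b) : ∃! l : T' ⟶ X, j ≫ l = a ∧ l ≫ f = b := by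
  have sq := IsPullback.of_hasPullback f b
  have hW := isAlgSpace_of_isPullback hY.diag hX hT' sq
  let TT : Space.{u} S := ⟨T, hT⟩
  let TT' : Space.{u} S := ⟨T', hT'⟩
  let WW : Space.{u} S := ⟨pullback f b, hW⟩
  obtain ⟨s, hs1, hs2⟩ := exists_section_of_thick (T := TT) (T' := TT') (W := WW) (j := ObjectProperty.homMk j) hj
    (ObjectProperty.homMk (pullback.snd f b)) ((isEtaleMor_iff_locP etLocal_etale hW hT' _).2
      (locP_of_isPullback etLocal_etale hX hY hW sq ((isEtaleMor_iff_locP etLocal_etale hX hY f).1 hf)))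
    (pullback.lift a j w) (pullback.lift_snd _ _ _)
  have e1 : j ≫ s = pullback.lift a j w := hs1
  have e2 : s ≫ pullback.snd f b = 𝟙 T' := hs2
  refine ⟨s ≫ pullback.fst f b, ⟨?_, ?_⟩, fun l hl => ?_⟩
  · rw [← Category.assoc, e1, pullback.lift_fst]
  · rw [Category.assoc, pullback.condition, ← Category.assoc, e2, Category.id_comp]
  · refine eq_of_thick_of_unramified hX hY hT' hj (locP_unramified_of_isEtaleMor hX hY hf) _ _ ?_ ?_
    · rw [hl.1, ← Category.assoc, e1, pullback.lift_fst]
    · rw [hl.2, Category.assoc, pullback.condition, ← Category.assoc, e2, Category.id_comp]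

theorem isThickMor_infSq {F G : Sp S} {f : F ⟶ G} (sq : InfSq f) : IsThickMor ((yon S).map sq.j) := by
  refine (repWith_yon_map_iff thick sq.j).2 ⟨?_, ?_⟩
  · exact IsClosedImmersion.spec_of_surjective _ Ideal.Quotient.mk_surjective
  · refine ⟨fun x => ?_⟩
    exact (PrimeSpectrum.comap_quotientMk_bijective_of_le_nilradical fun a ha =>
      (⟨2, by
        have : a * a ∈ sq.I ^ 2 := by rw [pow_two]; exact Ideal.mul_mem_mul ha ha
        rw [sq.sq_zero, Ideal.mem_bot] at this
        rw [pow_two, this]⟩ : IsNilpotent a)).2 x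

theorem isFormallyEtaleMor_of_isEtaleMor {X Y : Sp S} (hX : IsAlgSpace X) (hY : IsAlgSpace Y) {f : X ⟶ Y}
    (hf : IsEtaleMor f) : IsFormallyEtaleMor f := fun sq =>
  existsUnique_lift_of_etale hX hY (IsAlgSpace.yon_obj _) (IsAlgSpace.yon_obj _) (isThickMor_infSq sq) hf
    sq.top sq.bot sq.comm

theorem isFormallyEtaleMor_of_repWith {F G : Sp S} {a : F ⟶ G} (ha : RepWith @Etale a) :
    IsFormallyEtaleMor a := fun sq => by
  have sqP := ha.1.isPullback sq.bot
  obtain ⟨p, hp⟩ := (yon S).map_surjective (sqP.lift sq.top ((yon S).map sq.j) sq.comm)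
  have hpt : (yon S).map p ≫ ha.1.fst sq.bot = sq.top := by rw [hp]; exact sqP.lift_fst _ _ _
  have hpj : (yon S).map p ≫ (yon S).map (ha.1.snd sq.bot) = (yon S).map sq.j := by
    rw [hp]; exact sqP.lift_snd _ _ _
  have he : IsEtaleMor ((yon S).map (ha.1.snd sq.bot)) :=
    (isEtaleMor_iff_locP etLocal_etale (IsAlgSpace.yon_obj _) (IsAlgSpace.yon_obj _) _).2
      (locP_of_repWith etLocal_etale (IsAlgSpace.yon_obj _) ((repWith_yon_map_iff _ _).2 (ha.property_snd sq.bot)))
  obtain ⟨l, ⟨hl1, hl2⟩, hu⟩ := existsUnique_lift_of_etale (IsAlgSpace.yon_obj _) (IsAlgSpace.yon_obj _)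
    (IsAlgSpace.yon_obj _) (IsAlgSpace.yon_obj _) (isThickMor_infSq sq) he
    ((yon S).map p) (𝟙 _) (hpj.trans (Category.comp_id _).symm)
  refine ⟨l ≫ ha.1.fst sq.bot, ⟨?_, ?_⟩, fun l' hl' => ?_⟩
  · rw [← Category.assoc, hl1, hpt]
  · rw [Category.assoc, sqP.w, ← Category.assoc, hl2, Category.id_comp]
  · obtain ⟨m, hm1, hm2⟩ := sqP.exists_lift l' (𝟙 _) (by rw [hl'.2, Category.id_comp])
    rw [← hm1, hu m ⟨sqP.hom_ext (by rw [Category.assoc, hm1, hpt]; exact hl'.1)
      (by rw [Category.assoc, hm2, Category.comp_id, hpj]), hm2⟩]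

theorem isFormallyUnramifiedMor_of_repWith_lft {F G : Sp S} {a : F ⟶ G}
    (ha : RepWith (@LocallyOfFiniteType ⊓ @FormallyUnramified) a) : IsFormallyUnramifiedMor a := by
  intro sq l l' h1 h2 h3 h4
  refine eq_of_thick_of_diag_open (IsAlgSpace.yon_obj _) (isThickMor_infSq sq)
    ((repWith_diagonal_iff ha.1).2 (RepWith.mono (fun _ _ g h => ?_) ha)) l l' (h1.trans h3.symm) (h2.trans h4.symm)
  have : LocallyOfFiniteType g := h.1
  have : FormallyUnramified g := h.2
  exact (inferInstance : IsOpenImmersion (pullback.diagonal g))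

end Groth.Agent.AlgSpLib
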