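import Groth.Agent.AlgSpLib.PushEtale
import Groth.Agent.AlgSpLib.MorMore
import Groth.Agent.AlgSpLib.MorProper
import Groth.Agent.AlgSpLib.LocPMore
import Groth.Agent.AlgSpLib.FpqcBaseAffine2
import Groth.Agent.AlgSpLib.SheafCoprod
import Groth.Agent.AlgSpLib.Diag

/-!
The pushforward of a space etale over `X` along an integral universally injective surjective
morphism `f : X ⟶ X'`: equality loci of sections, the counit and the unit.
-/

universe u

open CategoryTheory CategoryTheory.Limits AlgebraicGeometry Opposite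
open AlgSp

noncomputable section

namespace Groth.Agent.AlgSpLib.PushSp

set_option backward.isDefEq.respectTransparency.types false

variable {S : Scheme.{u}} {X X' E : Sp S}

/-! ### maps out of a sheaf given on sections -/

/-- a natural family of sections is a morphism -/
def homOfNat {F G : Sp S} (η : ∀ ⦃T : Over S⦄, ((yon S).obj T ⟶ F) → ((yon S).obj T ⟶ G))
    (hη : ∀ ⦃T T' : Over S⦄ (u : T' ⟶ T) (x : (yon S).obj T ⟶ F),
      (yon S).map u ≫ η x = η ((yon S).map u ≫ x)) : F ⟶ G :=
  ⟨{ app := fun T => TypeCat.ofHom fun s => GrothendieckTopology.uliftYonedaEquiv.{u + 1} (AlgSp.J S)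
        (η ((GrothendieckTopology.uliftYonedaEquiv.{u + 1} (AlgSp.J S)).symm s))
     naturality := fun T T' a => by
       ext s
       obtain ⟨x, rfl⟩ := (GrothendieckTopology.uliftYonedaEquiv.{u + 1} (AlgSp.J S) (F := F) (X := T.unop)).surjective s
       show GrothendieckTopology.uliftYonedaEquiv.{u + 1} (AlgSp.J S)
         (η ((GrothendieckTopology.uliftYonedaEquiv.{u + 1} (AlgSp.J S)).symm (F.obj.map a.unop.op _))) =
         G.obj.map a.unop.op (GrothendieckTopology.uliftYonedaEquiv.{u + 1} (AlgSp.J S)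
           (η ((GrothendieckTopology.uliftYonedaEquiv.{u + 1} (AlgSp.J S)).symm _)))
       rw [GrothendieckTopology.uliftYonedaEquiv_naturality, Equiv.symm_apply_apply,
         GrothendieckTopology.uliftYonedaEquiv_naturality, Equiv.symm_apply_apply, hη] }⟩

theorem comp_homOfNat {F G : Sp S} {η : ∀ ⦃T : Over S⦄, ((yon S).obj T ⟶ F) → ((yon S).obj T ⟶ G)}
    (hη : ∀ ⦃T T' : Over S⦄ (u : T' ⟶ T) (x : (yon S).obj T ⟶ F),
      (yon S).map u ≫ η x = η ((yon S).map u ≫ x)) {T : Over S} (x : (yon S).obj T ⟶ F) :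
    x ≫ homOfNat η hη = η x := by
  apply (GrothendieckTopology.uliftYonedaEquiv.{u + 1} (AlgSp.J S) (F := G) (X := T)).injective
  rw [GrothendieckTopology.uliftYonedaEquiv_comp]
  show GrothendieckTopology.uliftYonedaEquiv.{u + 1} (AlgSp.J S)
    (η ((GrothendieckTopology.uliftYonedaEquiv.{u + 1} (AlgSp.J S)).symm _)) = _
  rw [Equiv.symm_apply_apply]

/-! ### equality loci -/

/-- the locus where two maps into an unramified space agree is open -/
theorem exists_eqLocus {b : E ⟶ X} (hΔ : RepWith @IsOpenImmersion (pullback.diagonal b)) {T : Over S}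
    (a a' : (yon S).obj T ⟶ E) (w : a ≫ b = a' ≫ b) :
    ∃ O : T.left.Opens, ∀ ⦃T' : Over S⦄ (k : T' ⟶ T),
      (yon S).map k ≫ a = (yon S).map k ≫ a' ↔ Set.range k.left ⊆ O := by
  have sq := hΔ.1.isPullback (pullback.lift a a' w)
  have ho : IsOpenImmersion (hΔ.1.snd (pullback.lift a a' w)).left := hΔ.property_snd _
  refine ⟨(hΔ.1.snd (pullback.lift a a' w)).left.opensRange, fun T' k => ⟨fun h => ?_, fun h => ?_⟩⟩
  · obtain ⟨k', hk'⟩ := (yon S).map_surjective (sq.lift ((yon S).map k ≫ a) ((yon S).map k) (pullback.hom_ext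
      (by rw [Category.assoc, pullback.diagonal_fst, Category.comp_id, Category.assoc, pullback.lift_fst])
      (by rw [Category.assoc, pullback.diagonal_snd, Category.comp_id, Category.assoc, pullback.lift_snd, h])))
    have e : k' ≫ hΔ.1.snd (pullback.lift a a' w) = k :=
      (yon S).map_injective (by rw [Functor.map_comp, hk', sq.lift_snd])
    rintro _ ⟨t, rfl⟩
    exact ⟨k'.left t, (congrArg (fun m : T' ⟶ T => m.left t) e)⟩
  · let k' : T' ⟶ hΔ.1.pullback (pullback.lift a a' w) :=
      Over.homMk (IsOpenImmersion.lift (hΔ.1.snd (pullback.lift a a' w)).left k.left h) (by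
        rw [← Over.w (hΔ.1.snd (pullback.lift a a' w)), IsOpenImmersion.lift_fac_assoc, Over.w k])
    have e : k' ≫ hΔ.1.snd (pullback.lift a a' w) = k := Over.OverMorphism.ext (IsOpenImmersion.lift_fac _ _ _)
    have e1 := congrArg (fun m => (yon S).map k' ≫ m ≫ pullback.fst b b) sq.w
    have e2 := congrArg (fun m => (yon S).map k' ≫ m ≫ pullback.snd b b) sq.w
    simp only [Category.assoc, pullback.diagonal_fst, pullback.diagonal_snd, pullback.lift_fst,
      pullback.lift_snd, Category.comp_id] at e1 e2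
    rw [← e, Functor.map_comp, Category.assoc, Category.assoc, ← e1, e2]

/-- maps into an unramified space agreeing after a surjective map agree -/
theorem eq_of_surjective {b : E ⟶ X} (hΔ : RepWith @IsOpenImmersion (pullback.diagonal b)) {T T' : Over S}
    (j : T' ⟶ T) [Surjective j.left] {a a' : (yon S).obj T ⟶ E} (w : a ≫ b = a' ≫ b)
    (h : (yon S).map j ≫ a = (yon S).map j ≫ a') : a = a' := by
  obtain ⟨O, hO⟩ := exists_eqLocus hΔ a a' w
  have := (hO (𝟙 T)).2 fun t _ => by
    obtain ⟨t', rfl⟩ := j.left.surjective t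
    exact (hO j).1 h ⟨t', rfl⟩
  simpa using this

/-- lifts along a universally injective morphism agree after a surjective map -/
theorem exists_eq_after {f : X ⟶ X'} (hX : IsAlgSpace X) (hu : IsUnivInjectiveMor f) {T : Over S}
    (h h' : (yon S).obj T ⟶ X) (w : h ≫ f = h' ≫ f) :
    ∃ (T' : Over S) (j : T' ⟶ T), Surjective j.left ∧ (yon S).map j ≫ h = (yon S).map j ≫ h' := by
  have hd := representable_diagonal hX f
  have hs := repWith_surjective_of_surjective_map hd (surjective_diagonal_of_univInjective hX hu)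
  have sq := hd.isPullback (pullback.lift h h' w)
  have e1 := congrArg (· ≫ pullback.fst f f) sq.w
  have e2 := congrArg (· ≫ pullback.snd f f) sq.w
  simp only [Category.assoc, pullback.diagonal_fst, pullback.diagonal_snd, pullback.lift_fst,
    pullback.lift_snd, Category.comp_id] at e1 e2
  exact ⟨_, hd.snd _, hs.property_snd _, e1.symm.trans e2⟩

/-! ### sections over a pullback square -/

variable {f : X ⟶ X'} {b : E ⟶ X}

theorem Sec.g_res {T T₁ : Over S} (s : Sec f b T) (a : T₁ ⟶ T) : (s.res a).g = (yon S).map a ≫ s.g := rfl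

theorem Sec.res_res {T T₁ T₂ : Over S} (s : Sec f b T) (a : T₁ ⟶ T) (k : T₂ ⟶ T₁) :
    (s.res a).res k = s.res (k ≫ a) := by
  refine Sec.ext' ?_ fun T' u h w => Sec.φ_congr rfl (Category.assoc _ _ _) rfl _
  show (yon S).map k ≫ (yon S).map a ≫ s.g = (yon S).map (k ≫ a) ≫ s.g
  rw [Functor.map_comp, Category.assoc]

theorem sec_ext {T T₀ : Over S} {g : (yon S).obj T ⟶ X'} {pr1 : (yon S).obj T₀ ⟶ X} {pr2 : T₀ ⟶ T}
    (sq : IsPullback pr1 ((yon S).map pr2) f g) {s s' : Sec f b T} (hg : s.g = g) (hg' : s'.g = g)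
    (h : s.φ pr2 pr1 (by rw [hg]; exact sq.w) = s'.φ pr2 pr1 (by rw [hg']; exact sq.w)) : s = s' := by
  refine Sec.ext' (hg.trans hg'.symm) fun T' u k w => ?_
  obtain ⟨l, hl⟩ := (yon S).map_surjective (sq.lift k ((yon S).map u) (by rw [← hg]; exact w))
  have hl1 : l ≫ pr2 = u := (yon S).map_injective (by rw [Functor.map_comp, hl, sq.lift_snd])
  have hl2 : (yon S).map l ≫ pr1 = k := by rw [hl, sq.lift_fst]
  have := congrArg ((yon S).map l ≫ ·) h
  simp only [Sec.nat] at this
  refine Eq.trans ?_ (this.trans ?_)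
  · exact Sec.φ_congr rfl hl1.symm hl2.symm _
  · exact Sec.φ_congr rfl hl1 hl2 _

/-- the section of a map on the universal lift -/
def mkSec {T T₀ : Over S} {g : (yon S).obj T ⟶ X'} {pr1 : (yon S).obj T₀ ⟶ X} {pr2 : T₀ ⟶ T}
    (sq : IsPullback pr1 ((yon S).map pr2) f g) (χ : (yon S).obj T₀ ⟶ E) (hχ : χ ≫ b = pr1) : Sec f b T where
  g := g
  φ _ u h w := sq.lift h ((yon S).map u) w ≫ χ
  hb _ u h w := by rw [Category.assoc, hχ, sq.lift_fst]
  nat _ _ v u h w := by
    rw [← Category.assoc]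
    congr 1
    apply sq.hom_ext
    · rw [Category.assoc, sq.lift_fst, sq.lift_fst]
    · rw [Category.assoc, sq.lift_snd, sq.lift_snd, Functor.map_comp]

theorem mkSec_φ {T T₀ : Over S} {g : (yon S).obj T ⟶ X'} {pr1 : (yon S).obj T₀ ⟶ X} {pr2 : T₀ ⟶ T}
    (sq : IsPullback pr1 ((yon S).map pr2) f g) (χ : (yon S).obj T₀ ⟶ E) (hχ : χ ≫ b = pr1)
    {T' : Over S} (u : T' ⟶ T) (h : (yon S).obj T' ⟶ X) (w : h ≫ f = (yon S).map u ≫ g)
    (k : (yon S).obj T' ⟶ (yon S).obj T₀) (hk1 : k ≫ pr1 = h) (hk2 : k ≫ (yon S).map pr2 = (yon S).map u) :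
    (mkSec sq χ hχ).φ u h w = k ≫ χ := by
  show sq.lift h ((yon S).map u) w ≫ χ = _
  congr 1
  apply sq.hom_ext
  · rw [sq.lift_fst, hk1]
  · rw [sq.lift_snd, hk2]

/-! ### the hypotheses -/

/-- an integral, universally injective, surjective morphism and a space etale over its source -/
structure Hyp (f : X ⟶ X') (b : E ⟶ X) : Prop where
  hX : IsAlgSpace X
  hX' : IsAlgSpace X'
  hE : IsAlgSpace E
  rep : RepWith @IsIntegralHom f
  ui : IsUnivInjectiveMor f
  surj : IsSurjectiveMor f
  etale : LocP @Etale b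

theorem Hyp.diag (H : Hyp f b) : RepWith @IsOpenImmersion (pullback.diagonal b) :=
  repWith_diagonal_of_unramified H.hE H.hX (locP_mono (fun _ _ g (_ : Etale g) => ⟨inferInstance, inferInstance⟩) H.etale)

theorem Hyp.isHomeomorph_snd (H : Hyp f b) {T : Over S} (g : (yon S).obj T ⟶ X') :
    IsHomeomorph (H.rep.1.snd g).left := by
  have : IsIntegralHom (H.rep.1.snd g).left := H.rep.property_snd g
  have : Surjective (H.rep.1.snd g).left := (repWith_surjective_of_surjective_map H.rep.1 H.surj).property_snd g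
  have : UniversallyInjective (H.rep.1.snd g).left :=
    ((repWith_universallyInjective_iff H.rep.1).2 fun K _ str => injective_fieldPoints_of_surjective_diagonal H.hX
      (surjective_diagonal_of_univInjective H.hX H.ui) K str).property_snd g
  exact isHomeomorph_iff_continuous_isClosedMap_bijective.mpr
    ⟨(H.rep.1.snd g).left.continuous, (H.rep.1.snd g).left.isClosedMap,
      (H.rep.1.snd g).left.injective, (H.rep.1.snd g).left.surjective⟩

/-- sections agreeing at one lift agree -/
theorem sec_eq_of_lift (H : Hyp f b) {T : Over S} {s s' : Sec f b T} (hg : s.g = s'.g)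
    (h : (yon S).obj T ⟶ X) (w : h ≫ f = (yon S).map (𝟙 T) ≫ s.g)
    (e : s.φ (𝟙 T) h w = s'.φ (𝟙 T) h (hg ▸ w)) : s = s' := by
  have sq := H.rep.1.isPullback s.g
  refine sec_ext sq rfl hg.symm ?_
  have wh : ((yon S).map (H.rep.1.snd s.g) ≫ h) ≫ f = (yon S).map (H.rep.1.snd s.g) ≫ s.g := by
    rw [Category.assoc, w]; simp
  obtain ⟨T', j, _, hj⟩ := exists_eq_after H.hX H.ui (H.rep.1.fst s.g) ((yon S).map (H.rep.1.snd s.g) ≫ h)
    (sq.w.trans wh.symm)
  refine eq_of_surjective H.diag j (by rw [s.hb, s'.hb]) ?_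
  rw [s.nat, s'.nat]
  have e1 := congrArg ((yon S).map (j ≫ H.rep.1.snd s.g) ≫ ·) e
  simp only [Sec.nat] at e1
  have hh : (yon S).map (j ≫ H.rep.1.snd s.g) ≫ h = (yon S).map j ≫ H.rep.1.fst s.g := by
    rw [Functor.map_comp, Category.assoc, hj]
  refine Eq.trans ?_ (e1.trans ?_)
  · exact Sec.φ_congr rfl (Category.comp_id _).symm hh.symm _
  · exact Sec.φ_congr rfl (Category.comp_id _) hh _

/-- the locus where two sections agree is open -/
theorem exists_sec_eqLocus (H : Hyp f b) {T : Over S} (s s' : Sec f b T) (hg : s.g = s'.g) :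
    ∃ O : T.left.Opens, ∀ ⦃T' : Over S⦄ (k : T' ⟶ T), s.res k = s'.res k ↔ Set.range k.left ⊆ O := by
  have sq := H.rep.1.isPullback s.g
  have hπ := H.isHomeomorph_snd s.g
  obtain ⟨O₀, hO₀⟩ := exists_eqLocus H.diag (s.φ (H.rep.1.snd s.g) (H.rep.1.fst s.g) sq.w)
    (s'.φ (H.rep.1.snd s.g) (H.rep.1.fst s.g) (hg ▸ sq.w)) (by rw [s.hb, s'.hb])
  refine ⟨⟨(H.rep.1.snd s.g).left '' O₀, hπ.isOpenMap _ O₀.isOpen⟩, fun T' k => ?_⟩
  have sqk := IsPullback.of_hasPullback k (H.rep.1.snd s.g)
  have : Surjective (pullback.fst k (H.rep.1.snd s.g)).left := by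
    have : Surjective (H.rep.1.snd s.g).left := ⟨hπ.surjective⟩
    exact MorphismProperty.of_isPullback (P := @Surjective) (sqk.map (Over.forget S)).flip this
  have sq' : IsPullback ((yon S).map (pullback.snd k (H.rep.1.snd s.g)) ≫ H.rep.1.fst s.g)
      ((yon S).map (pullback.fst k (H.rep.1.snd s.g))) f ((yon S).map k ≫ s.g) :=
    (sqk.map (yon S)).flip.paste_horiz sq
  have key : s.res k = s'.res k ↔ Set.range (pullback.snd k (H.rep.1.snd s.g)).left ⊆ O₀ := by
    rw [← hO₀, Sec.nat, Sec.nat]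
    refine ⟨fun e => ?_, fun e => sec_ext sq' rfl (congrArg ((yon S).map k ≫ ·) hg.symm) ?_⟩
    · refine Eq.trans ?_ ((Sec.φ_congr e (T' := pullback k (H.rep.1.snd s.g))
        (u := pullback.fst k (H.rep.1.snd s.g))
        (h := (yon S).map (pullback.snd k (H.rep.1.snd s.g)) ≫ H.rep.1.fst s.g) rfl rfl
        sq'.w).trans ?_)
      · exact Sec.φ_congr rfl pullback.condition.symm rfl _
      · exact Sec.φ_congr rfl pullback.condition rfl _
    · show s.φ _ _ _ = s'.φ _ _ _
      refine Eq.trans ?_ (e.trans ?_)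
      · exact Sec.φ_congr rfl pullback.condition rfl _
      · exact Sec.φ_congr rfl pullback.condition.symm rfl _
  rw [key]
  have hc : ∀ t, (H.rep.1.snd s.g).left ((pullback.snd k (H.rep.1.snd s.g)).left t) =
      k.left ((pullback.fst k (H.rep.1.snd s.g)).left t) := fun t =>
    (congrArg (fun m : pullback k (H.rep.1.snd s.g) ⟶ T => m.left t) pullback.condition).symm
  constructor
  · rintro h _ ⟨t, rfl⟩
    obtain ⟨t₀, rfl⟩ := (pullback.fst k (H.rep.1.snd s.g)).left.surjective t
    exact ⟨_, h ⟨t₀, rfl⟩, hc t₀⟩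
  · rintro h _ ⟨t₀, rfl⟩
    obtain ⟨o, ho, e⟩ := h ⟨_, rfl⟩
    rwa [← hπ.injective (e.trans (hc t₀).symm)]

/-- the map of a section is etale when its base map is -/
theorem repWith_etale_ofSec (H : Hyp f b) {V : Over S} (s : Sec f b V) (hs : RepWith @Etale s.g) :
    RepWith @Etale (ofSec s) := by
  refine MorphismProperty.relative.of_exists fun T x => ?_
  have sqQ := hs.1.isPullback (sec x).g
  obtain ⟨a, ha⟩ := (yon S).map_surjective (hs.1.fst (sec x).g)
  let c := hs.1.snd (sec x).g
  have : Etale c.left := hs.property_snd (sec x).g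
  obtain ⟨O, hO⟩ := exists_sec_eqLocus H (s.res a) ((sec x).res c) (by
    rw [Sec.g_res, Sec.g_res, ha]; exact sqQ.w)
  let W : Over S := Over.mk (O.ι ≫ (hs.1.pullback (sec x).g).hom)
  let ι : W ⟶ hs.1.pullback (sec x).g := Over.homMk O.ι rfl
  have hι : s.res (ι ≫ a) = (sec x).res (ι ≫ c) := by
    rw [← Sec.res_res, ← Sec.res_res]
    exact (hO ι).2 O.range_ι.le
  refine ⟨W, (yon S).map (ι ≫ a), ι ≫ c, isPullback_of_yon ?_ fun K p q hpq => ?_,
    inferInstanceAs (Etale (O.ι ≫ c.left))⟩
  · refine sec_injective ?_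
    rw [sec_comp, sec_comp, sec_ofSec, hι]
  · obtain ⟨p', rfl⟩ := (yon S).map_surjective p
    obtain ⟨q', rfl⟩ := (yon S).map_surjective q
    have e : s.res p' = (sec x).res q' := by
      rw [← sec_ofSec s, ← sec_comp, ← sec_comp, hpq]
    obtain ⟨l, hl⟩ := (yon S).map_surjective (sqQ.lift ((yon S).map p') ((yon S).map q') (congrArg Sec.g e))
    have hl1 : l ≫ a = p' := (yon S).map_injective (by rw [Functor.map_comp, hl, ha, sqQ.lift_fst])
    have hl2 : l ≫ c = q' := (yon S).map_injective (by rw [Functor.map_comp, hl, sqQ.lift_snd])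
    have hr : Set.range l.left ⊆ O := (hO l).1 (by rw [Sec.res_res, Sec.res_res, hl1, hl2, e])
    let l' : K ⟶ W := Over.homMk (IsOpenImmersion.lift O.ι l.left (by rwa [O.range_ι])) (by
      show IsOpenImmersion.lift O.ι l.left _ ≫ O.ι ≫ _ = _
      rw [IsOpenImmersion.lift_fac_assoc, Over.w l])
    have hl' : l' ≫ ι = l := Over.OverMorphism.ext (IsOpenImmersion.lift_fac _ _ _)
    refine ⟨(yon S).map l', ⟨?_, ?_⟩, fun z hz => ?_⟩
    · rw [← Functor.map_comp, reassoc_of% hl', hl1]
    · rw [← Functor.map_comp, reassoc_of% hl', hl2]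
    · obtain ⟨m, rfl⟩ := (yon S).map_surjective z
      have em : m ≫ ι = l := (yon S).map_injective (sqQ.hom_ext
        (by rw [← ha, ← Functor.map_comp, ← Functor.map_comp, Category.assoc, hl1]
            exact congrArg _ ((yon S).map_injective ((Functor.map_comp _ _ _).trans hz.1)))
        (by rw [← Functor.map_comp, ← Functor.map_comp, Category.assoc, hl2]
            exact congrArg _ ((yon S).map_injective ((Functor.map_comp _ _ _).trans hz.2))))
      congr 1
      refine Over.OverMorphism.ext ((cancel_mono O.ι).1 ?_)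
      exact (congrArg (fun k : K ⟶ hs.1.pullback (sec x).g => k.left) (em.trans hl'.symm))

/-- the counit -/
def ev (f : X ⟶ X') (b : E ⟶ X) : pullback (str f b) f ⟶ E :=
  homOfNat (fun T z => (sec (z ≫ pullback.fst _ _)).φ (𝟙 T) (z ≫ pullback.snd _ _)
    (by rw [Category.assoc, ← pullback.condition, ← Category.assoc, comp_str, (yon S).map_id, Category.id_comp]))
    fun T T' u z => by
      rw [Sec.nat]
      refine Eq.trans ?_ (Sec.φ_congr (sec_comp u (z ≫ pullback.fst _ _)) rfl rfl ?_).symm |>.trans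
        (Sec.φ_congr (by rw [Category.assoc]) rfl rfl _)
      · exact Sec.φ_congr rfl (by rw [Category.comp_id, Category.id_comp]) (by rw [Category.assoc]) _
      · rw [(yon S).map_id, Category.id_comp, ← comp_str]
        simp only [Category.assoc, pullback.condition]

theorem comp_ev {T : Over S} (z : (yon S).obj T ⟶ pullback (str f b) f) :
    z ≫ ev f b = (sec (z ≫ pullback.fst _ _)).φ (𝟙 T) (z ≫ pullback.snd _ _)
      (by rw [Category.assoc, ← pullback.condition, ← Category.assoc, comp_str, (yon S).map_id, Category.id_comp]) :=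
  comp_homOfNat _ z

theorem ev_comp (f : X ⟶ X') (b : E ⟶ X) : ev f b ≫ b = pullback.snd _ _ :=
  hom_ext_of_yon fun T z => by rw [← Category.assoc, comp_ev, Sec.hb]

theorem mono_ev (H : Hyp f b) : Mono (ev f b) := ⟨fun {Q} z z' e => hom_ext_of_yon fun T x => by
  have e' : (x ≫ z) ≫ ev f b = (x ≫ z') ≫ ev f b := by rw [Category.assoc, Category.assoc, e]
  have hs : (x ≫ z) ≫ pullback.snd _ _ = (x ≫ z') ≫ pullback.snd _ _ := by
    rw [← ev_comp, ← Category.assoc, e', Category.assoc]
  rw [comp_ev, comp_ev] at e'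
  refine pullback.hom_ext (sec_injective (sec_eq_of_lift H ?_ ((x ≫ z) ≫ pullback.snd _ _) ?_
    (e'.trans (Sec.φ_congr rfl rfl hs.symm _)))) hs
  · rw [← comp_str, ← comp_str, Category.assoc (x ≫ z), Category.assoc (x ≫ z'), pullback.condition,
      ← Category.assoc, hs, Category.assoc]
  · rw [(yon S).map_id, Category.id_comp, ← comp_str]
    simp only [Category.assoc, pullback.condition]⟩

end Groth.Agent.AlgSpLib.PushSp
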