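import Groth.Agent.AlgSpLib.EtaleSheafDesc
import Groth.Agent.AlgSpLib.EtaleLift
import Groth.Agent.AlgSpLib.SpacePush
import Groth.Agent.AlgSpLib.PointsTop
import Groth.Prelude.Def_AlgSpSub

/-!
Elementary distinguished squares are pushouts of sheaves.
-/

set_option autoImplicit false

universe u

open CategoryTheory CategoryTheory.Limits AlgebraicGeometry Opposite
open AlgSp

noncomputable section

namespace Groth.Agent.AlgSpLib

set_option backward.isDefEq.respectTransparency.types false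
set_option backward.isDefEq.respectTransparency false

variable {S : Scheme.{u}} {U V W Z : Sp S}

/-- the coproduct presheaf -/
def sumPSp (U V : Sp S) : PSp S where
  obj T := (U.obj.obj T) ⊕ (V.obj.obj T)
  map g := ↾(Sum.map (U.obj.map g) (V.obj.map g))
  map_id T := by
    ext x
    cases x <;> simp
  map_comp g h := by
    ext x
    cases x <;> simp

/-- maps out of the coproduct presheaf -/
def sumDesc (j : U ⟶ W) (f : V ⟶ W) : sumPSp U V ⟶ W.obj where
  app T := ↾(Sum.elim (j.hom.app T) (f.hom.app T))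
  naturality T T' g := by
    ext x
    cases x
    · exact NatTrans.naturality_apply j.hom g _
    · exact NatTrans.naturality_apply f.hom g _

/-- the morphism of a section -/
abbrev sec {F : Sp S} {T : Over S} (x : F.obj.obj (op T)) : (yon S).obj T ⟶ F :=
  (GrothendieckTopology.uliftYonedaEquiv.{u + 1} (AlgSp.J S)).symm x

theorem sec_injective {F : Sp S} {T : Over S} {x y : F.obj.obj (op T)} (h : sec x = sec y) : x = y :=
  (GrothendieckTopology.uliftYonedaEquiv.{u + 1} (AlgSp.J S)).symm.injective h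

theorem sec_comp {F G : Sp S} {T : Over S} (x : F.obj.obj (op T)) (g : F ⟶ G) :
    sec x ≫ g = sec (g.hom.app (op T) x) :=
  GrothendieckTopology.uliftYonedaEquiv_symm_naturality_right _ _ _ _

theorem sec_map {F : Sp S} {T T' : Over S} (k : T' ⟶ T) (x : F.obj.obj (op T)) :
    (yon S).map k ≫ sec x = sec (F.obj.map k.op x) :=
  GrothendieckTopology.uliftYonedaEquiv_symm_naturality_left _ _ _ _

theorem exists_sec {F : Sp S} {T : Over S} (a : (yon S).obj T ⟶ F) : ∃ x : F.obj.obj (op T), sec x = a :=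
  ⟨_, Equiv.symm_apply_apply _ a⟩

/-- morphisms out of a scheme agreeing on an etale covering agree -/
theorem sec_hom_ext {F : Sp S} {T : Over S} {ι : Type u} (D : ι → Over S) (g : ∀ i, D i ⟶ T)
    (he : ∀ i, Etale (g i).left) (hs : ∀ t : T.left, ∃ i z, (g i).left z = t) {x y : (yon S).obj T ⟶ F}
    (h : ∀ i, (yon S).map (g i) ≫ x = (yon S).map (g i) ≫ y) : x = y := by
  obtain ⟨x, rfl⟩ := exists_sec x
  obtain ⟨y, rfl⟩ := exists_sec y
  refine congrArg sec ((((isSheaf_iff_isSheaf_of_type _ _).1 (isSheaf_ket_of_sheaf F)) _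
    (mem_ket_of_family D g he hs (R := Sieve.ofArrows D g) fun i => Sieve.ofArrows_mk _ _ i)).isSeparatedFor.ext
    fun T' k hk => ?_)
  obtain ⟨_, l, _, ⟨i⟩, rfl⟩ := hk
  refine sec_injective ?_
  rw [← sec_map, ← sec_map, Functor.map_comp, Category.assoc, Category.assoc, h i]

theorem mono_openImmersion {j : U ⟶ W} (hj : RepWith @IsOpenImmersion j) : Mono j :=
  mono_of_repWith (fun _ _ g (_ : IsOpenImmersion g) => (inferInstance : Mono g)) hj

variable {j : U ⟶ W} {f : V ⟶ W}

theorem mem_range_of_isElemDistSq (hsq : IsElemDistSq j f) (x : Points W) :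
    x ∈ Set.range (Points.map j) ∨ x ∈ Set.range (Points.map f) := by
  obtain ⟨-, -, T, P, i, p₁, p₂, hi, sq, hp⟩ := hsq
  by_cases hx : x ∈ Set.range (Points.map j)
  · exact Or.inl hx
  · have hx' : x ∈ Set.range (Points.map i) := hi.2.1.symm ▸ hx
    obtain ⟨t, rfl⟩ := hx'
    refine Or.inr ⟨Points.map (inv p₁ ≫ p₂) t, ?_⟩
    rw [← Points.map_comp, Category.assoc, ← sq.w, IsIso.inv_hom_id_assoc]

variable (hV : IsAlgSpace V) (hsq : IsElemDistSq j f)

include hV hsq in
theorem isLocallySurjective_sumDesc : Presheaf.IsLocallySurjective (Ket S) (sumDesc j f) := ⟨fun {T} x => by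
  obtain ⟨V₀, b, hbe, hbs⟩ := hV.atlas
  have hbf : RepWith @Etale (b ≫ f) := hsq.2.1 b hbe
  let TU := hsq.1.1.pullback (sec x)
  let TV := hbf.1.pullback (sec x)
  let Z : ULift.{u} Bool → Over S := fun c => bif c.down then TU else TV
  let g : ∀ c, Z c ⟶ T := fun c => match c with
    | ⟨true⟩ => hsq.1.1.snd (sec x)
    | ⟨false⟩ => hbf.1.snd (sec x)
  refine mem_ket_of_family Z g ?_ (fun t => ?_) ?_
  · rintro ⟨_ | _⟩
    · exact hbf.property_snd (sec x)
    · haveI : IsOpenImmersion (hsq.1.1.snd (sec x)).left := hsq.1.property_snd (sec x)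
      exact (inferInstance : Etale (hsq.1.1.snd (sec x)).left)
  · have key : ∀ {U' : Sp S} {a : U' ⟶ W} (ha : Representable a),
        Points.ofPt (sec x) t ∈ Set.range (Points.map a) → ∃ z, (ha.snd (sec x)).left z = t := by
      rintro U' a ha ⟨y, hy⟩
      obtain ⟨z, -, hz⟩ := exists_point_of_isPullback (ha.isPullback (sec x))
        (x := y) (y := Points.ofScheme _ t) (hy.trans (Points.ofPt_eq_map_ofScheme _ _))
      obtain ⟨z', rfl⟩ := (Points.schemeEquiv _).surjective z
      exact ⟨z', (Points.schemeEquiv T).injective ((map_yon_map_ofScheme _ z').symm.trans hz)⟩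
    rcases mem_range_of_isElemDistSq hsq (Points.ofPt (sec x) t) with h | h
    · exact ⟨⟨true⟩, key hsq.1.1 h⟩
    · obtain ⟨y, hy⟩ := h
      obtain ⟨v, rfl⟩ := surjective_map_of_repWith hbs y
      exact ⟨⟨false⟩, key hbf.1 ⟨v, (Points.map_comp b f v).trans hy⟩⟩
  · rintro ⟨_ | _⟩
    · obtain ⟨a, ha⟩ := exists_sec (hbf.1.fst (sec x) ≫ b)
      refine ⟨Sum.inr a, sec_injective ?_⟩
      change sec (f.hom.app _ a) = sec (W.obj.map _ x)
      rw [← sec_comp, ← sec_map, ha, Category.assoc]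
      exact hbf.1.w (sec x)
    · obtain ⟨a, ha⟩ := exists_sec (hsq.1.1.fst (sec x))
      refine ⟨Sum.inl a, sec_injective ?_⟩
      change sec (j.hom.app _ a) = sec (W.obj.map _ x)
      rw [← sec_comp, ← sec_map, ha]
      exact hsq.1.1.w (sec x)⟩

variable (hW : IsAlgSpace W) {P : Sp S} {p : P ⟶ U} {q : P ⟶ V} (hP : IsPullback p q j f)
  {Q : Sp S} {a : U ⟶ Q} {c : V ⟶ Q} (hac : p ≫ a = q ≫ c)

include hP hac in
theorem eq_of_cross {T : Over S} (x : (yon S).obj T ⟶ U) (y : (yon S).obj T ⟶ V) (h : x ≫ j = y ≫ f) :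
    x ≫ a = y ≫ c := by
  obtain ⟨l, rfl, rfl⟩ := hP.exists_lift x y h
  rw [Category.assoc, Category.assoc, hac]

include hV hW hsq hP hac in
theorem eq_of_same {T : Over S} (y y' : (yon S).obj T ⟶ V) (h : y ≫ f = y' ≫ f) : y ≫ c = y' ≫ c := by
  obtain ⟨hj, he, T₀, P₀, i, p₁, p₂, hi, sq, hp⟩ := hsq
  obtain ⟨O, hO⟩ := PushSp.exists_eqLocus
    (repWith_diagonal_of_unramified hV hW (locP_unramified_of_isEtaleMor hV hW he)) y y' h
  let D : ULift.{u} Bool → Over S := fun b =>
    bif b.down then hj.1.pullback (y ≫ f) else Over.mk (O.ι ≫ T.hom)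
  let g : ∀ b, D b ⟶ T := fun b => match b with
    | ⟨true⟩ => hj.1.snd (y ≫ f)
    | ⟨false⟩ => Over.homMk O.ι rfl
  refine sec_hom_ext D g ?_ (fun t => ?_) fun b => ?_
  · rintro ⟨_ | _⟩
    · exact (inferInstanceAs (Etale O.ι))
    · haveI : IsOpenImmersion (hj.1.snd (y ≫ f)).left := hj.property_snd _
      exact (inferInstance : Etale (hj.1.snd (y ≫ f)).left)
  · by_cases ht : Points.ofPt (y ≫ f) t ∈ Set.range (Points.map j)
    · obtain ⟨u, hu⟩ := ht
      obtain ⟨z, -, hz⟩ := exists_point_of_isPullback (hj.1.isPullback (y ≫ f))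
        (x := u) (y := Points.ofScheme _ t) (hu.trans (Points.ofPt_eq_map_ofScheme _ _))
      obtain ⟨z', rfl⟩ := (Points.schemeEquiv _).surjective z
      exact ⟨⟨true⟩, z', (Points.schemeEquiv T).injective ((map_yon_map_ofScheme _ z').symm.trans hz)⟩
    · refine ⟨⟨false⟩, ?_⟩
      let K : Over S := Over.mk (T.left.fromSpecResidueField t ≫ T.hom)
      let k : K ⟶ T := Over.homMk (T.left.fromSpecResidueField t) rfl
      haveI : IsClosedImmersion (hi.1.1.snd ((yon S).map k ≫ y ≫ f)).left := hi.1.property_snd _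
      haveI : Surjective (hi.1.1.snd ((yon S).map k ≫ y ≫ f)).left := ⟨fun s => by
        have hs : Points.ofPt ((yon S).map k ≫ y ≫ f) s = Points.ofPt (y ≫ f) t := by
          rw [ofPt_map]
          exact congrArg _ (T.left.fromSpecResidueField_apply t s)
        obtain ⟨z₀, hz₀⟩ : Points.ofPt ((yon S).map k ≫ y ≫ f) s ∈ Set.range (Points.map i) := by
          rw [hi.2.1, hs]; exact ht
        obtain ⟨z, -, hz⟩ := exists_point_of_isPullback (hi.1.1.isPullback ((yon S).map k ≫ y ≫ f))
          (x := z₀) (y := Points.ofScheme _ s) (hz₀.trans (Points.ofPt_eq_map_ofScheme _ _))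
        obtain ⟨z', rfl⟩ := (Points.schemeEquiv _).surjective z
        exact ⟨z', (Points.schemeEquiv K).injective ((map_yon_map_ofScheme _ z').symm.trans hz)⟩⟩
      haveI : IsReduced K.left := inferInstanceAs (IsReduced (Spec (T.left.residueField t)))
      haveI : IsIso (hi.1.1.snd ((yon S).map k ≫ y ≫ f)).left := isIso_of_isClosedImmersion_of_surjective _
      haveI : IsIso ((Over.forget S).map (hi.1.1.snd ((yon S).map k ≫ y ≫ f))) := ‹_›
      haveI : IsIso (hi.1.1.snd ((yon S).map k ≫ y ≫ f)) := isIso_of_reflects_iso _ (Over.forget S)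
      let z := inv ((yon S).map (hi.1.1.snd ((yon S).map k ≫ y ≫ f))) ≫ hi.1.1.fst ((yon S).map k ≫ y ≫ f)
      have hz : z ≫ i = (yon S).map k ≫ y ≫ f := by
        rw [Category.assoc, hi.1.1.w, IsIso.inv_hom_id_assoc]
      obtain ⟨l, hl₁, hl₂⟩ := sq.exists_lift z ((yon S).map k ≫ y) (hz.trans (Category.assoc _ _ _).symm)
      obtain ⟨l', hl₁', hl₂'⟩ := sq.exists_lift z ((yon S).map k ≫ y')
        (hz.trans (by rw [Category.assoc, h]))
      have e : (yon S).map k ≫ y = (yon S).map k ≫ y' := by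
        rw [← hl₂, ← hl₂', (cancel_mono p₁).1 (hl₁.trans hl₁'.symm)]
      have hmem : t ∈ O := (hO k).1 e ⟨IsLocalRing.closedPoint _, T.left.fromSpecResidueField_apply t _⟩
      exact ⟨⟨t, hmem⟩, rfl⟩
  · obtain ⟨_ | _⟩ := b
    · have e := (hO (g ⟨false⟩)).2 (by rintro _ ⟨o, rfl⟩; exact o.2)
      rw [reassoc_of% e]
    · have e1 := eq_of_cross hP hac (hj.1.fst (y ≫ f)) ((yon S).map (hj.1.snd (y ≫ f)) ≫ y)
        ((hj.1.w (y ≫ f)).trans (Category.assoc _ _ _).symm)
      have e2 := eq_of_cross hP hac (hj.1.fst (y ≫ f)) ((yon S).map (hj.1.snd (y ≫ f)) ≫ y')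
        ((hj.1.w (y ≫ f)).trans (by rw [h, Category.assoc]))
      exact (Category.assoc _ _ _).symm.trans ((e1.symm.trans e2).trans (Category.assoc _ _ _))

include hV hW hsq hP hac in
/-- maps out of an elementary distinguished square glue -/
theorem existsUnique_desc_elemDistSq : ∃! d : W ⟶ Q, j ≫ d = a ∧ f ≫ d = c := by
  haveI := isLocallySurjective_sumDesc hV hsq
  obtain ⟨φ, hφ⟩ := exists_hom_of_locallySurjective (sumDesc j f) (sumDesc a c) (isSheaf_ket_of_sheaf Q) (by
    intro T x x' h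
    rcases x with x | x <;> rcases x' with x' | x' <;> apply sec_injective
    · change sec (a.hom.app _ x) = sec (a.hom.app _ x')
      haveI := mono_openImmersion hsq.1
      have e : sec x = sec x' := (cancel_mono j).1 (by rw [sec_comp, sec_comp]; exact congrArg sec h)
      rw [← sec_comp, ← sec_comp, e]
    · change sec (a.hom.app _ x) = sec (c.hom.app _ x')
      rw [← sec_comp, ← sec_comp]
      exact eq_of_cross hP hac _ _ (by rw [sec_comp, sec_comp]; exact congrArg sec h)
    · change sec (c.hom.app _ x) = sec (a.hom.app _ x')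
      rw [← sec_comp, ← sec_comp]
      exact (eq_of_cross hP hac _ _ (by rw [sec_comp, sec_comp]; exact (congrArg sec h).symm)).symm
    · change sec (c.hom.app _ x) = sec (c.hom.app _ x')
      rw [← sec_comp, ← sec_comp]
      exact eq_of_same hV hsq hW hP hac _ _ (by rw [sec_comp, sec_comp]; exact congrArg sec h))
  refine ⟨⟨φ⟩, ⟨Sheaf.hom_ext (by ext T x; exact congr($(hφ).app T (Sum.inl x))),
    Sheaf.hom_ext (by ext T x; exact congr($(hφ).app T (Sum.inr x)))⟩, fun d hd => Sheaf.hom_ext ?_⟩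
  ext T w
  refine (((isSheaf_iff_isSheaf_of_type _ _).1 (isSheaf_ket_of_sheaf Q)) _
    (Presheaf.imageSieve_mem (Ket S) (sumDesc j f) w)).isSeparatedFor.ext fun T' k hk => ?_
  obtain ⟨s, hs⟩ := hk
  change Q.obj.map k.op (d.hom.app T w) = Q.obj.map k.op (φ.app T w)
  rw [← NatTrans.naturality_apply d.hom, ← NatTrans.naturality_apply φ, ← hs]
  refine Eq.trans ?_ congr($(hφ).app _ s).symm
  rcases s with s | s
  · exact congr($(hd.1).hom.app _ s)
  · exact congr($(hd.2).hom.app _ s)

end Groth.Agent.AlgSpLib
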