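import Groth.Agent.AlgSpLib.ApproxStep
import Groth.Agent.AlgSpLib.ElemDistPushout
import Groth.Agent.AlgSpLib.InductPrinciple

/-!
A quasi-compact quasi-separated space is affine over a space of finite presentation over the base.
-/

universe u

open CategoryTheory CategoryTheory.Limits AlgebraicGeometry Opposite TopologicalSpace
open AlgSp

noncomputable section

set_option linter.style.haveILetI false

namespace Groth.Agent.AlgSpLib.Approx

open Groth.Agent.AlgSpLib

set_option backward.isDefEq.respectTransparency.types false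
set_option backward.isDefEq.respectTransparency false

variable {S : Scheme.{u}} [QuasiSeparatedSpace ↥S]

set_option maxHeartbeats 1000000 in
theorem good_union (X : AlgSp.Space S) (hs : IsQuasiSeparatedSp X.obj) {O : Set (Points X.obj)} (hOo : IsOpen O)
    (hOc : IsCompact O) {V : Over S} [IsAffine V.left] {S₁ : S.Opens} (hS₁ : IsAffineOpen S₁)
    (hV : ∀ v : ↥V.left, V.hom v ∈ S₁) (f : (yon S).obj V ⟶ X.obj) (hf : RepWith @Etale f)
    (hu : Induct.Uniq O f) (hgood : Good (openSubspace X.obj O)) :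
    Good (openSubspace X.obj (O ∪ Set.range (Points.ofPt f))) := by
  let O' := O ∪ Set.range (Points.ofPt f)
  have hO'o : IsOpen O' := hOo.union (isOpenMap_ofPt f hf).isOpen_range
  let U : AlgSp.Space S := ⟨openSubspace X.obj O, isAlgSpace_openSubspace X.property hOo⟩
  let X' : AlgSp.Space S := ⟨openSubspace X.obj O', isAlgSpace_openSubspace X.property hO'o⟩
  let j := openSubspaceι X.obj O
  let j' := openSubspaceι X.obj O'
  have hj : RepWith @IsOpenImmersion j := repWith_openSubspaceι _ hOo
  have hj' : RepWith @IsOpenImmersion j' := repWith_openSubspaceι _ hO'o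
  haveI := Induct.mono_openImm hj
  haveI := Induct.mono_openImm hj'
  have hjr : Set.range (Points.map j) = O := range_openSubspaceι _ O
  have hj'r : Set.range (Points.map j') = O' := range_openSubspaceι _ O'
  obtain ⟨jU, hjU⟩ := (exists_lift_iff_range_subset hj' j).2 (by rw [hjr, hj'r]; exact Set.subset_union_left)
  obtain ⟨fV, hfV⟩ := (exists_lift_iff_range_subset hj' f).2 (by
    rw [Induct.range_map_yon, hj'r]; exact Set.subset_union_right)
  let Ow : V.left.Opens := ⟨Points.ofPt f ⁻¹' O, hOo.preimage (Points.continuous_ofPt f)⟩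
  haveI : CompactSpace ↥Ow := by
    refine isCompact_iff_compactSpace.1 ?_
    have hc := Induct.isCompact_preimage X.property hs f hOo hOc
    have e : (Points.ofPt f ⁻¹' O : Set V.left) = Points.schemeHomeo V ⁻¹' (Points.map f ⁻¹' O) := by
      ext v
      show Points.ofPt f v ∈ O ↔ Points.map f (Points.schemeHomeo V v) ∈ O
      rw [Points.ofPt_eq_map_ofScheme]
      rfl
    show IsCompact (Points.ofPt f ⁻¹' O : Set V.left)
    rw [e]
    exact (Points.schemeHomeo V).isCompact_preimage.2 hc
  let jW := (yon S).map (Induct.opHom V Ow)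
  have hjW : RepWith @IsOpenImmersion jW := Induct.repWith_opHom V Ow
  haveI : Mono jW := Induct.mono_openImm hjW
  have hsubW : Set.range (Points.map (jW ≫ f)) ⊆ O := by
    rw [Induct.range_map_yon, Induct.range_opHom_comp]
    rintro _ ⟨v, hv, rfl⟩
    exact hv
  obtain ⟨fW, hfW⟩ := (exists_lift_iff_range_subset hj (jW ≫ f)).2 (by rw [hjr]; exact hsubW)
  have hfWe : RepWith @Etale fW := repWith_of_comp_mono fW j (hfW.symm ▸ RepWith.comp (Induct.repWith_etale hjW) hf)
  have hfVe : RepWith @Etale fV := repWith_of_comp_mono fV j' (hfV.symm ▸ hf)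
  have hjUo : RepWith @IsOpenImmersion jU := repWith_of_comp_mono jU j' (hjU.symm ▸ hj)
  have hsq : IsPullback fW jW jU fV := by
    refine isPullback_of_yon ((cancel_mono j').1 (by rw [Category.assoc, Category.assoc, hjU, hfV, hfW])) fun T x y e => ?_
    have e' : x ≫ j = y ≫ f := by rw [← hjU, ← hfV, ← Category.assoc, e, Category.assoc]
    obtain ⟨l, hl⟩ := (exists_lift_iff_range_subset hjW y).2 (by
      show _ ⊆ Set.range (Points.map ((yon S).map (Induct.opHom V Ow)))
      rw [Induct.range_map_yon, Induct.range_map_yon, ← Category.comp_id ((yon S).map (Induct.opHom V Ow)),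
        Induct.range_opHom_comp]
      rintro _ ⟨s, rfl⟩
      obtain ⟨y', rfl⟩ := (yon S).map_surjective y
      refine ⟨y'.left s, ?_, ?_⟩
      · show Points.ofPt f (y'.left s) ∈ O
        rw [← ofPt_map, ← e']
        exact hjr.subset ⟨Points.ofPt x s, Points.map_ofPt _ _ _⟩
      · rw [← ofPt_map, Category.comp_id])
    refine ⟨l, ⟨(cancel_mono j).1 (by rw [Category.assoc, hfW, ← Category.assoc, hl, e']), hl⟩,
      fun l' hl' => (cancel_mono jW).1 (hl'.2.trans hl.symm)⟩
  obtain ⟨d, hd, -⟩ := EtGlue.existsUnique_desc jW fW jU fV hsq.w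
  have hEl : IsElemDistSq jU fV := by
    refine Induct.isElemDistSq_of_uniq (U := U) (W := X') (ObjectProperty.homMk jU) hjUo fV hfVe (fun x hx => ?_) ?_
    · rcases hj'r.subset ⟨x, rfl⟩ with h | ⟨v, hv⟩
      · obtain ⟨z, hz⟩ := hjr.symm.subset h
        exact absurd ⟨z, injective_map_of_mono j' (by rw [← Points.map_comp]; erw [hjU]; exact hz)⟩ hx
      · exact ⟨v, injective_map_of_mono j' (by rw [Points.map_ofPt, hfV, hv])⟩
    · intro Ω _ _ str v v' ev hn
      refine hu Ω str v v' (by rw [← hfV, ← Category.assoc, ev, Category.assoc]) fun h => hn ?_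
      obtain ⟨z, hz⟩ := hjr.symm.subset h
      exact ⟨z, injective_map_of_mono j' (by
        rw [← Points.map_comp]; erw [hjU]; rw [hz, map_ptOfHom, Category.assoc, hfV])⟩
  obtain ⟨g, hg, -⟩ := existsUnique_desc_elemDistSq (IsAlgSpace.yon_obj V) hEl X'.property hsq
    (EtGlue.glue_w jW fW)
  have e₁ : d ≫ g = 𝟙 _ := (EtGlue.existsUnique_desc jW fW (EtGlue.inU jW fW) (EtGlue.inV jW fW)
    (EtGlue.glue_w jW fW)).unique
    ⟨by rw [← Category.assoc, hd.1, hg.1], by rw [← Category.assoc, hd.2, hg.2]⟩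
    ⟨Category.comp_id _, Category.comp_id _⟩
  have e₂ : g ≫ d = 𝟙 _ := (existsUnique_desc_elemDistSq (IsAlgSpace.yon_obj V) hEl X'.property hsq
    hsq.w).unique
    ⟨by rw [← Category.assoc, hg.1, hd.1], by rw [← Category.assoc, hg.2, hd.2]⟩
    ⟨Category.comp_id _, Category.comp_id _⟩
  exact (good_glue U hgood hS₁ hV Ow fW hfWe).of_iso ⟨d, g, e₁, e₂⟩

theorem isAffine_over_empty {F : Sp S} (hF : IsAlgSpace F) (h : IsEmpty (Points F)) : Good F := by
  obtain ⟨T, hT, ⟨e⟩⟩ := Induct.exists_affine_of_isEmpty hF h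
  haveI := hT
  haveI : IsEmpty ↥T.left := ⟨fun t => h.false (Points.map e.hom (Points.ofScheme T t))⟩
  haveI : LocallyOfFinitePresentation T.hom := inferInstance
  refine ⟨(AlgSp.ofScheme S).obj T, e.inv, isAffineMor_of_repWith (repWith_of_isIso _ _),
    Stk19.isQuasiCompactSp_yon T, ?_, fun q => ?_⟩
  · haveI : QuasiSeparated (T.hom ≫ terminal.from S) := (quasiSeparated_iff_quasiSeparatedSpace _).2 inferInstance
    haveI : QuasiSeparated T.hom := QuasiSeparated.of_comp _ (terminal.from S)
    exact (isQuasiSeparatedMor_iff_sp _).1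
      ((isQuasiSeparatedMor_yon_map_iff (Over.homMk T.hom : T ⟶ Over.mk (𝟙 S))).2 ‹QuasiSeparated T.hom›)
  · rw [show q = (yon S).map (Over.homMk T.hom : T ⟶ Over.mk (𝟙 S)) from terminalBase.hom_ext _ _]
    exact locP_of_repWith etLocal_lfp (IsAlgSpace.yon_obj T) ((repWith_yon_map_iff _ _).2 ‹LocallyOfFinitePresentation T.hom›)

/-- the approximation -/
theorem good_of_qcqs (X : AlgSp.Space S) (hc : IsQuasiCompactSp X.obj) (hs : IsQuasiSeparatedSp X.obj) :
    Good X.obj := by
  classical
  have key := Induct.opens_induction X hc hs (fun O => IsOpen O → IsCompact O → Good (openSubspace X.obj O)) ?_ ?_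
  · haveI := compactSpace_points_of_isQuasiCompactSp hc
    have h := key isOpen_univ isCompact_univ
    have : IsIso (openSubspaceι X.obj Set.univ) := by
      haveI := Induct.mono_openImm (repWith_openSubspaceι X.obj (isOpen_univ (X := Points X.obj)))
      refine isIso_of_sections fun T y => (exists_lift_iff_range_subset (repWith_openSubspaceι X.obj isOpen_univ) y).2 ?_
      rw [range_openSubspaceι]
      exact Set.subset_univ _
    exact h.of_iso (asIso (openSubspaceι X.obj Set.univ))
  · intro h0 _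
    refine isAffine_over_empty (isAlgSpace_openSubspace X.property h0) ⟨fun z => ?_⟩
    exact (range_openSubspaceι X.obj ∅).subset ⟨z, rfl⟩
  · intro O V f hV hf hOo hOc hu hQ _ _
    haveI := hV
    let ι := {A : V.left.affineOpens // ∃ S₁ : S.Opens, IsAffineOpen S₁ ∧ ∀ v ∈ A.1, V.hom v ∈ S₁}
    obtain ⟨σ, hσ⟩ := isCompact_univ.elim_finite_subcover (fun i : ι => (i.1.1 : Set V.left)) (fun i => i.1.1.2)
      (fun x _ => by
        obtain ⟨_, ⟨S₁, hS₁, rfl⟩, hxS, -⟩ :=
          S.isBasis_affineOpens.exists_subset_of_mem_open (Set.mem_univ (V.hom x)) isOpen_univ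
        obtain ⟨_, ⟨A, hA, rfl⟩, hxA, hAS⟩ :=
          V.left.isBasis_affineOpens.exists_subset_of_mem_open (show x ∈ V.hom ⁻¹ᵁ S₁ from hxS) (V.hom ⁻¹ᵁ S₁).2
        exact Set.mem_iUnion.2 ⟨⟨⟨A, hA⟩, S₁, hS₁, fun v hv => hAS hv⟩, hxA⟩)
    suffices H : ∀ s : Finset ι,
        IsOpen (O ∪ ⋃ i ∈ s, Points.ofPt f '' (i.1.1 : Set V.left)) ∧
        IsCompact (O ∪ ⋃ i ∈ s, Points.ofPt f '' (i.1.1 : Set V.left)) ∧
        Good (openSubspace X.obj (O ∪ ⋃ i ∈ s, Points.ofPt f '' (i.1.1 : Set V.left))) by
      have e : ⋃ i ∈ σ, Points.ofPt f '' (i.1.1 : Set V.left) = Set.range (Points.ofPt f) := by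
        rw [← Set.image_iUnion₂, ← Set.image_univ]
        exact congrArg _ (Set.eq_univ_of_univ_subset hσ)
      have := (H σ).2.2
      rwa [e] at this
    intro s
    induction s using Finset.induction_on with
    | empty => simpa using ⟨hOo, hOc, hQ hOo hOc⟩
    | insert i s _ ih =>
      obtain ⟨so, sc, sQ⟩ := ih
      rw [Finset.set_biUnion_insert, Set.union_left_comm, Set.union_comm]
      haveI : IsAffine (Over.mk (i.1.1.ι ≫ V.hom)).left := i.1.2
      obtain ⟨S₁, hS₁, hi⟩ := i.2
      have hfi : RepWith @Etale ((yon S).map (Induct.opHom V i.1.1) ≫ f) :=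
        RepWith.comp (Induct.repWith_etale (Induct.repWith_opHom V i.1.1)) hf
      refine ⟨so.union (isOpenMap_ofPt f hf _ i.1.1.2),
        sc.union (i.1.2.isCompact.image (Points.continuous_ofPt f)), ?_⟩
      rw [← Induct.range_opHom_comp i.1.1 f]
      refine good_union X hs so sc hS₁ (fun v => ?_) _ hfi ((hu.mono Set.subset_union_left).comp_mono _) sQ
      show (i.1.1.ι ≫ V.hom) v ∈ S₁
      rw [Scheme.Hom.comp_apply]
      exact hi _ (v : ↥i.1.1).2

end Groth.Agent.AlgSpLib.Approx
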