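import Groth.Agent.AlgSpLib.QCohEtSubColim
import Groth.Agent.Stk19b.QPullEtale

/-!
Extending finite type quasi-coherent submodules from quasi-compact open subspaces.
-/

set_option autoImplicit false

universe u

open CategoryTheory CategoryTheory.Limits AlgebraicGeometry Opposite TensorProduct
open AlgSp

noncomputable section

set_option linter.style.haveILetI false

namespace Groth.Agent.AlgSpLib.QCohEt

set_option backward.isDefEq.respectTransparency.types false
set_option backward.isDefEq.respectTransparency false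

variable {S : Scheme.{u}} {U X : Sp S} {j : U ⟶ X} (hje : IsEtaleMor j)

/-- restriction of modules along an etale morphism -/
abbrev resPost : ModEt X ⥤ ModEt U :=
  SheafOfModules.pushforward.{u + 1} (Stk19b.QPullEtale.postcompRingHom hje)

theorem secMap_resPost {A B : ModEt X} (f : A ⟶ B) (E : EtOver U) (m : Sec ((resPost hje).obj A) E) :
    (secMap ((resPost hje).map f) E m : Sec B ((EtOver.postcomp j hje).obj E)) =
      secMap f ((EtOver.postcomp j hje).obj E) m := rfl

theorem mapSec_resPost (A : ModEt X) {E W : EtOver U} (g : W ⟶ E) (m : Sec ((resPost hje).obj A) E) :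
    (mapSec ((resPost hje).obj A) g m : Sec A ((EtOver.postcomp j hje).obj W)) =
      mapSec A ((EtOver.postcomp j hje).map g) m := rfl

variable (hj : RepWith @IsOpenImmersion j)

include hj in
theorem over_postcomp (E : EtOver U) : Over' (Set.range (Points.map j)) ((EtOver.postcomp j hje).obj E) := by
  rintro _ ⟨e, rfl⟩
  exact ⟨Points.ofPt E.obj.hom e, Points.map_ofPt E.obj.hom j e⟩

include hj in
theorem exists_down {E : EtOver X} (hE : Over' (Set.range (Points.map j)) E) :
    ∃ (E' : EtOver U), E'.obj.left = E.obj.left ∧ Nonempty ((EtOver.postcomp j hje).obj E' ≅ E) := by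
  have hm := Induct.mono_openImm hj
  obtain ⟨l, hl⟩ := (exists_lift_iff_range_subset hj E.obj.hom).2 (by
    rw [Induct.range_map_yon]; exact hE)
  have hle : RepWith @Etale l := repWith_of_comp_mono l j (hl.symm ▸ E.property)
  exact ⟨EtOver.mk l hle, rfl, ⟨(ObjectProperty.fullyFaithfulι _).preimageIso
    (CostructuredArrow.isoMk (Iso.refl _) (by
      show (yon S).map (𝟙 _) ≫ E.obj.hom = l ≫ j
      rw [(yon S).map_id]; exact (Category.id_comp _).trans hl.symm))⟩⟩

/-- the object of the open subspace -/
def down {E : EtOver X} (hE : Over' (Set.range (Points.map j)) E) : EtOver U :=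
  (exists_down hje hj hE).choose

/-- comparison with the object -/
def downIso {E : EtOver X} (hE : Over' (Set.range (Points.map j)) E) :
    (EtOver.postcomp j hje).obj (down hje hj hE) ≅ E :=
  (exists_down hje hj hE).choose_spec.2.some

theorem isAff_down {E : EtOver X} (hE : Over' (Set.range (Points.map j)) E) (h : IsAff E) :
    IsAff (down hje hj hE) := by
  show IsAffine (down hje hj hE).obj.left.left
  have e : (down hje hj hE).obj.left = E.obj.left := (exists_down hje hj hE).choose_spec.1
  rw [e]
  exact h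

include hj in
theorem exists_preimage_hom {E E' : EtOver U} (g : (EtOver.postcomp j hje).obj E' ⟶ (EtOver.postcomp j hje).obj E) :
    ∃ g' : E' ⟶ E, (EtOver.postcomp j hje).map g' = g := by
  have hm := Induct.mono_openImm hj
  refine ⟨EtOver.homMk g.hom.left ((cancel_mono j).1 ?_), EtOver.hom_ext _ _ rfl⟩
  rw [Category.assoc]
  exact EtOver.w g

variable {G : ModEt U} {F : ModEt X} (g : G ⟶ (resPost hje).obj F)

/-- a morphism to a restriction, with values in sections on the big space -/
def gX (E : EtOver U) : Sec G E →+ Sec F ((EtOver.postcomp j hje).obj E) where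
  toFun m := secMap g E m
  map_zero' := map_zero (secMap g E)
  map_add' := map_add (secMap g E)

theorem gX_mapSec {E W : EtOver U} (k : W ⟶ E) (m : Sec G E) :
    mapSec F ((EtOver.postcomp j hje).map k) (gX hje g E m) = gX hje g W (mapSec G k m) :=
  mapSec_secMap g k m

theorem gX_smul (E : EtOver U) (r : ΓE E) (m : Sec G E) :
    gX hje g E (r • m) = (show ΓE ((EtOver.postcomp j hje).obj E) from r) • gX hje g E m :=
  map_smul (secMap g E) r m

theorem mem_range_gX_iff (E : EtOver U) (s : Sec F ((EtOver.postcomp j hje).obj E)) :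
    s ∈ Set.range (gX hje g E) ↔ (s : Sec ((resPost hje).obj F) E) ∈ Set.range (secMap g E) := Iff.rfl

/-- the sections of a submodule over the open, seen on the big space -/
def pushP {E : EtOver X} (hE : Over' (Set.range (Points.map j)) E) : Submodule (ΓE E) (Sec F E) where
  carrier := {s | mapSec F (downIso hje hj hE).hom s ∈ Set.range (gX hje g (down hje hj hE))}
  add_mem' {a b} := by
    rintro ⟨x, hx⟩ ⟨y, hy⟩
    exact ⟨x + y, by rw [map_add, hx, hy, map_add]⟩
  zero_mem' := ⟨0, by rw [map_zero, map_zero]⟩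
  smul_mem' r a := by
    rintro ⟨x, hx⟩
    exact ⟨(show ΓE (down hje hj hE) from (ΓMap (downIso hje hj hE).hom).hom r) • x,
      (gX_smul hje g _ _ _).trans ((congrArg _ hx).trans (mapSec_smul F _ r a).symm)⟩

theorem mem_pushP {E' : EtOver U} (h : Over' (Set.range (Points.map j)) ((EtOver.postcomp j hje).obj E'))
    (s : Sec F ((EtOver.postcomp j hje).obj E')) :
    s ∈ pushP hje hj g h ↔ s ∈ Set.range (gX hje g E') := by
  obtain ⟨a, ha⟩ := exists_preimage_hom hje hj (downIso hje hj h).hom
  obtain ⟨b, hb⟩ := exists_preimage_hom hje hj (downIso hje hj h).inv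
  constructor
  · rintro ⟨x, hx⟩
    exact ⟨mapSec G b x, by rw [← gX_mapSec, hx, hb, ← mapSec_comp, Iso.inv_hom_id, QCohEt.mapSec_id]⟩
  · rintro ⟨x, hx⟩
    exact ⟨mapSec G a x, by rw [← gX_mapSec, hx, ha]⟩

/-- the submodule on objects over the open -/
def pushSub [G.IsQuasicoherent] : PSub F (Over' (Set.range (Points.map j))) where
  P E _ cE := pushP hje hj g cE
  span_eq {E W} hE hW cE cW k := by
    haveI := isAff_down hje hj cE hE
    haveI := isAff_down hje hj cW hW
    obtain ⟨k', hk'⟩ := exists_preimage_hom hje hj ((downIso hje hj cW).hom ≫ k ≫ (downIso hje hj cE).inv)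
    have hkk : ∀ s, mapSec F ((EtOver.postcomp j hje).map k') (mapSec F (downIso hje hj cE).hom s) =
        mapSec F (downIso hje hj cW).hom (mapSec F k s) := fun s => by
      rw [hk', ← mapSec_comp, ← mapSec_comp]
      simp only [Category.assoc, Iso.inv_hom_id, Category.comp_id]
    refine le_antisymm (Submodule.span_le.2 ?_) fun y hy => ?_
    · rintro _ ⟨s, ⟨x, hx⟩, rfl⟩
      exact ⟨mapSec G k' x, by rw [← gX_mapSec, hx, hkk s]⟩
    · obtain ⟨x, hx⟩ := hy
      obtain ⟨z, rfl⟩ := (isBC G (down hje hj cE) (Over.mk k') (isAff_down hje hj cW hW)).surjective x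
      have hy' : y = mapSec F (downIso hje hj cW).inv (gX hje g _ (bcMap G (down hje hj cE) (Over.mk k') z)) := by
        refine Eq.trans ?_ (congrArg (mapSec F (downIso hje hj cW).inv) hx).symm
        rw [← mapSec_comp, Iso.inv_hom_id, QCohEt.mapSec_id]
      rw [hy']
      clear hx hy'
      induction z using TensorProduct.induction_on with
      | zero => rw [map_zero, map_zero, map_zero]; exact zero_mem _
      | tmul r m =>
        have e1 : gX hje g (down hje hj cW) (bcMap G (down hje hj cE) (Over.mk k') (r ⊗ₜ m)) =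
            (show ΓE ((EtOver.postcomp j hje).obj (down hje hj cW)) from r) •
              gX hje g (down hje hj cW) (mapSec G k' m) :=
          gX_smul hje g (down hje hj cW) r (mapSec G k' m)
        have e2 : mapSec F (downIso hje hj cW).inv (gX hje g (down hje hj cW) (mapSec G k' m)) =
            mapSec F k (mapSec F (downIso hje hj cE).inv (gX hje g _ m)) := by
          rw [← gX_mapSec, hk', ← mapSec_comp, ← mapSec_comp]
          simp only [Category.assoc, Iso.inv_hom_id_assoc]
        refine (congrArg (mapSec F (downIso hje hj cW).inv) e1).symm ▸ ?_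
        rw [mapSec_smul, e2]
        refine Submodule.smul_mem _ _ (Submodule.subset_span ⟨_, ?_, rfl⟩)
        exact ⟨m, by rw [← mapSec_comp, Iso.hom_inv_id, QCohEt.mapSec_id]⟩
      | add a b ha hb => rw [map_add, map_add, map_add]; exact add_mem ha hb

/-- finite type submodules extend from quasi-compact opens -/
theorem exists_extend [QuasiSeparatedSpace ↥S] {X : AlgSp.Space S} (hc : IsQuasiCompactSp X.obj)
    (hs : IsQuasiSeparatedSp X.obj) {U : AlgSp.Space S} {j : U.obj ⟶ X.obj} (hje : IsEtaleMor j)
    (hj : RepWith @IsOpenImmersion j) (hU : IsQuasiCompactSp U.obj) {F : ModEt X.obj} [F.IsQuasicoherent]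
    {G : ModEt U.obj} [G.IsQuasicoherent] [G.IsFiniteType] (g : G ⟶ (resPost hje).obj F) :
    ∃ Q : QSub F, (∀ E hE, (Q.P E hE).FG) ∧
      ∀ (E' : EtOver U.obj) (hE' : IsAff E'),
        (Q.P ((EtOver.postcomp j hje).obj E') hE' : Set (Sec F ((EtOver.postcomp j hje).obj E'))) =
          Set.range (gX hje g E') := by
  classical
  have hOo := Induct.isOpen_range_map U.property hj
  have hOc := Induct.isCompact_range_map hU j
  have hcov : ∀ E, IsAff E → True → PSub.CoversLocus (Over' (Set.range (Points.map j))) E :=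
    fun E hE _ => by haveI := hE; exact coversLocus_over X.property hs hOo hOc E
  let P0 := pushSub hje hj g
  let M := P0.extend (down_over _) hcov
  let Qm : QSub F := ⟨fun E hE => M.P E hE trivial, fun hE hW k => M.span_eq hE hW _ _ k⟩
  haveI := Qm.isQuasicoherent_obj
  haveI := compactSpace_points_of_isQuasiCompactSp hU
  obtain ⟨B, b, hB, hbe, hbs⟩ := Groth.Agent.AlgSpLib.exists_affine_chart U.property
  let E₀ : EtOver U.obj := EtOver.mk b hbe
  haveI hE₀ : IsAff E₀ := hB
  let E₁ := (EtOver.postcomp j hje).obj E₀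
  haveI hE₁ : IsAff E₁ := hB
  have hQm : ∀ (E' : EtOver U.obj) (hE' : IsAff E'),
      (Qm.P ((EtOver.postcomp j hje).obj E') hE' : Set (Sec F ((EtOver.postcomp j hje).obj E'))) =
        Set.range (gX hje g E') := fun E' hE' => by
    ext s
    show s ∈ M.P _ hE' trivial ↔ _
    rw [P0.extend_P (down_over _) hcov hE' trivial (over_postcomp hje hj E')]
    exact mem_pushP hje hj g _ s
  haveI := finite_sec G E₀
  obtain ⟨n, t, ht⟩ := Submodule.fg_iff_exists_fin_generating_family.1 (Module.Finite.fg_top (R := ΓE E₀) (M := Sec G E₀))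
  have hmem : ∀ i, gX hje g E₀ (t i) ∈ Qm.P E₁ hE₁ := fun i => (hQm E₀ hE₀).symm.subset ⟨t i, rfl⟩
  obtain ⟨R, hR, hRt⟩ := exists_fg_containing hc hs Qm.obj (fun _ : Fin n => E₁) (fun _ => hE₁)
    (fun i => ⟨gX hje g E₀ (t i), (Qm.mem_sub_iff hE₁ _).2 (hmem i)⟩)
  haveI := R.isQuasicoherent_obj
  haveI := R.isFiniteType_obj hR
  let Q := QSub.image (R.incl ≫ Qm.incl)
  refine ⟨Q, fun E hE => QSub.fg_image _ E hE, fun E' hE' => ?_⟩
  have hle : ∀ (E : EtOver X.obj) (hE : IsAff E), Q.P E hE ≤ Qm.P E hE := fun E hE => by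
    rintro _ ⟨a, rfl⟩
    exact (Qm.range_incl hE).subset ⟨secMap R.incl E a, rfl⟩
  refine Set.Subset.antisymm (fun s hs' => (hQm E' hE').subset (hle _ hE' hs')) ?_
  haveI := hE'
  haveI hE'' : IsAff ((EtOver.postcomp j hje).obj E') := hE'
  haveI : IsAffine E'.obj.left.left := hE'
  have hgen : ∀ m, gX hje g E₀ m ∈ Q.P E₁ hE₁ := fun m => by
    have hm : m ∈ Submodule.span (ΓE E₀) (Set.range t) := by rw [ht]; trivial
    induction hm using Submodule.span_induction with
    | mem v hv =>
      obtain ⟨i, rfl⟩ := hv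
      obtain ⟨a, ha⟩ := (R.range_incl hE₁).symm.subset (hRt i)
      exact ⟨a, congrArg Subtype.val ha⟩
    | zero => rw [map_zero]; exact zero_mem _
    | add v w _ _ hv hw => rw [map_add]; exact add_mem hv hw
    | smul r v _ hv => rw [gX_smul]; exact Submodule.smul_mem _ _ hv
  obtain ⟨κ, -, Z, k, hZ, hR', hcv⟩ := exists_finite_pieces E' isCompact_univ
    (fun Z _ => Nonempty (Z ⟶ E₀)) fun e _ => by
      obtain ⟨v, hv⟩ := surjective_ofPt b hbs (Points.ofPt E'.obj.hom e)
      rw [Points.ofPt_eq_map_ofScheme, Points.ofPt_eq_map_ofScheme] at hv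
      obtain ⟨z, -, hz⟩ := exists_point_of_isPullback (E₀.property.1.isPullback E'.obj.hom) hv
      obtain ⟨p, rfl⟩ := (Points.schemeEquiv _).surjective z
      obtain ⟨Z, g', hZ, -, ⟨q, hq⟩⟩ := exists_piece_mem (EtOver.prodObj E' E₀) isOpen_univ (Set.mem_univ p)
      refine ⟨Z, g' ≫ EtOver.prodFst E' E₀, hZ, ⟨g' ≫ EtOver.prodSnd E' E₀⟩, q, ?_⟩
      show (EtOver.prodFst E' E₀).hom.left.left (g'.hom.left.left q) = e
      rw [hq]
      exact (Points.schemeEquiv E'.obj.left).injective ((map_yon_map_ofScheme _ p).symm.trans hz)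
  rintro _ ⟨m, rfl⟩
  haveI := hZ
  haveI : ∀ i, IsAff ((EtOver.postcomp j hje).obj (Z i)) := hZ
  refine mem_of_span_cover F (fun i => (EtOver.postcomp j hje).map (k i)) (fun e => hcv e trivial) _ _ fun i => ?_
  obtain ⟨q⟩ := hR' i
  rw [Q.span_eq hE'' (hZ i), gX_mapSec]
  obtain ⟨z, hz⟩ := (isBC G E₀ (Over.mk q) (hZ i)).surjective (mapSec G (k i) m)
  rw [← hz]
  clear hz
  induction z using TensorProduct.induction_on with
  | zero => rw [map_zero, map_zero]; exact zero_mem _
  | tmul r v =>
    have e1 : gX hje g (Z i) (bcMap G E₀ (Over.mk q) (r ⊗ₜ v)) =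
        (show ΓE ((EtOver.postcomp j hje).obj (Z i)) from r) • gX hje g (Z i) (mapSec G q v) :=
      gX_smul hje g (Z i) r (mapSec G q v)
    refine e1.symm ▸ Submodule.smul_mem _ _ ?_
    rw [← gX_mapSec]
    exact Q.map_mem hE₁ (hZ i) _ (hgen v)
  | add a c ha hc' => rw [map_add, map_add]; exact add_mem ha hc'

end Groth.Agent.AlgSpLib.QCohEt
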