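import Groth.Agent.AlgSpLib.PointsTop
import Groth.Agent.AlgSpLib.InductPrinciple
import Groth.Agent.AlgSpLib.MorQC
import Groth.Agent.AlgSpLib.LimitClosed
import Groth.Agent.S10035

/-!
Factorisation through open immersions, and quasi-compact open neighbourhoods of quasi-compact sets.
-/

universe u

open CategoryTheory CategoryTheory.Limits AlgebraicGeometry Opposite
open AlgSp

noncomputable section

namespace Groth.Agent.AlgSpLib.OpenFac

set_option backward.isDefEq.respectTransparency.types false
set_option backward.isDefEq.respectTransparency false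

variable {S : Scheme.{u}}

/-- a morphism from a scheme with points in an open subspace factors through it -/
theorem exists_fac_openImm_yon {F G : Sp S} {j : F ⟶ G} (hj : RepWith @IsOpenImmersion j) {T : Over S}
    (g : (yon S).obj T ⟶ G) (h : ∀ t, Points.ofPt g t ∈ Set.range (Points.map j)) : ∃ l, l ≫ j = g := by
  have : IsOpenImmersion (hj.1.snd g).left := hj.property_snd g
  have hsurj : Function.Surjective (hj.1.snd g).left := fun t => by
    obtain ⟨x, hx⟩ := h t
    rw [Points.ofPt_eq_map_ofScheme] at hx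
    obtain ⟨z, -, hz⟩ := exists_point_of_isPullback (hj.1.isPullback g) hx
    obtain ⟨w, rfl⟩ := (Points.schemeEquiv _).surjective z
    exact ⟨w, (Points.schemeEquiv T).injective ((map_yon_map_ofScheme _ w).symm.trans hz)⟩
  haveI : IsIso (hj.1.snd g).left :=
    (isIso_iff_isOpenImmersion_and_epi_base _).2 ⟨inferInstance, (TopCat.epi_iff_surjective _).2 hsurj⟩
  haveI : IsIso (hj.1.snd g) := by
    haveI : IsIso ((Over.forget S).map (hj.1.snd g)) := by assumption
    exact isIso_of_reflects_iso _ (Over.forget S)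
  exact ⟨inv ((yon S).map (hj.1.snd g)) ≫ hj.1.fst g, by rw [Category.assoc, hj.1.w g, IsIso.inv_hom_id_assoc]⟩

/-- a morphism with points in an open subspace factors through it -/
theorem exists_fac_openImm {F G Z : Sp S} {j : F ⟶ G} (hj : RepWith @IsOpenImmersion j) (g : Z ⟶ G)
    (h : ∀ z, Points.map g z ∈ Set.range (Points.map j)) : ∃ l, l ≫ j = g := by
  haveI : Mono j := mono_of_repWith (fun _ _ g (_ : IsOpenImmersion g) => (inferInstance : Mono g)) hj
  refine Groth.Agent.S10035.exists_fac_of_yon j g fun U x => exists_fac_openImm_yon hj _ fun t => ?_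
  rw [← Points.map_ofPt]
  exact h _

/-- quasi-compact open neighbourhoods inside an open -/
theorem exists_compact_open {G : Sp S} (hG : IsAlgSpace G) {K O : Set (Points G)} (hK : IsCompact K)
    (hO : IsOpen O) (h : K ⊆ O) : ∃ W : Set (Points G), IsOpen W ∧ IsCompact W ∧ K ⊆ W ∧ W ⊆ O := by
  obtain ⟨U, p, he, hs⟩ := hG.atlas
  have : ∀ x : K, ∃ W : Set (Points G), IsOpen W ∧ IsCompact W ∧ x.1 ∈ W ∧ W ⊆ O := fun x => by
    obtain ⟨t, ht⟩ := surjective_ofPt p hs x.1
    obtain ⟨A, hA, htA, hAO⟩ := exists_isAffineOpen_mem_and_subset (X := U.left) (x := t)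
      (U := ⟨Points.ofPt p ⁻¹' O, hO.preimage (Points.continuous_ofPt p)⟩) (show Points.ofPt p t ∈ O from ht ▸ h x.2)
    exact ⟨Points.ofPt p '' A, (isOpenMap_ofPt p he) _ A.isOpen,
      hA.isCompact.image (Points.continuous_ofPt p), ⟨t, htA, ht⟩, Set.image_subset_iff.2 hAO⟩
  choose W hWo hWc hxW hWO using this
  obtain ⟨s, hs'⟩ := hK.elim_finite_subcover W hWo fun x hx => Set.mem_iUnion.2 ⟨⟨x, hx⟩, hxW _⟩
  exact ⟨⋃ x ∈ s, W x, isOpen_biUnion fun x _ => hWo x, s.finite_toSet.isCompact_biUnion fun x _ => hWc x,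
    hs', Set.iUnion₂_subset fun x _ => hWO x⟩

/-- the source of an affine morphism to a quasi-compact space is quasi-compact -/
theorem isQuasiCompactSp_of_affine {F G : Sp S} (hG : IsAlgSpace G) {f : F ⟶ G} (hf : IsAffineMor f)
    (hq : IsQuasiCompactSp G) : IsQuasiCompactSp F := by
  haveI := compactSpace_points_of_isQuasiCompactSp hq
  obtain ⟨B, b, hB, hbe, hbs⟩ := exists_affine_chart hG
  obtain ⟨W, w, fst, sq, hW⟩ := hf hB b
  haveI := hW
  exact ⟨W, fst, RepWith.baseChange sq.flip hbe, RepWith.baseChange sq.flip hbs, inferInstance⟩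

/-- the source of a quasi-compact morphism to a quasi-compact space is quasi-compact -/
theorem isQuasiCompactSp_of_mor {F G : Sp S} (hF : IsAlgSpace F) (hG : IsAlgSpace G) {f : F ⟶ G}
    (hf : IsQuasiCompactMor f) (hq : IsQuasiCompactSp G) : IsQuasiCompactSp F := by
  haveI := compactSpace_points_of_isQuasiCompactSp hq
  obtain ⟨B, b, hB, hbe, hbs⟩ := exists_affine_chart hG
  haveI := hB
  have sq := IsPullback.of_hasPullback f b
  haveI := compactSpace_of_isQuasiCompactMor hf sq
  exact (isQuasiCompactSp_iff_compactSpace hF).2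
    ⟨(surjective_map_of_isPullback sq.flip (surjective_map_of_repWith hbs)).range_eq ▸
      isCompact_range (Points.continuous_map _)⟩

/-- the projections of a limit of closed immersions are closed immersions -/
theorem isClosedImmersion_π {I : Type u} [SmallCategory I] [IsCofiltered I] {D : I ⥤ Sp S}
    (hD : ∀ i, IsAlgSpace (D.obj i)) (hDc : ∀ (i j : I) (φ : i ⟶ j), RepWith @IsClosedImmersion (D.map φ))
    (c : Cone D) (hc : IsLimit c) (o : I) (hqc : IsQuasiCompactSp (D.obj o)) :
    RepWith @IsClosedImmersion (c.π.app o) := by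
  have hDa : ∀ (i j : I) (φ : i ⟶ j), IsAffineMor (D.map φ) := fun i j φ =>
    isAffineMor_of_closedImmersion (hDc i j φ)
  have := (isQuasiCompactSp_iff_compactSpace (hD o)).1 hqc
  obtain ⟨V, v, hV, hve, hvs⟩ := exists_affine_chart (hD o)
  obtain ⟨E, η, pr, cE, hcE, θ, -, hnat, hsq, hpr, hη, hθe, hθs, hπ⟩ :=
    exists_chart_system D hDa c hc v hve hvs
  let E' : Over o ⥤ Scheme.{u} := E ⋙ Over.forget S
  haveI haffine : ∀ j, IsAffine (E'.obj j) := fun j => by
    have := hpr j
    show IsAffine (E.obj j).left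
    exact isAffine_of_isAffineHom (pr j).left
  have hcl : ∀ {j k : Over o} (φ : j ⟶ k), IsClosedImmersion (E'.map φ) := fun {j k} φ => by
    refine (AlgSp.repWith_yon_map_iff @IsClosedImmersion (E.map φ)).1 ?_
    exact RepWith.baseChange (hnat φ).flip (hDc _ _ φ.left)
  let C : Cone E' := (Over.forget S).mapCone cE
  haveI : IsAffine C.pt := Scheme.isAffine_of_isLimit C hcE
  haveI : ∀ {i j : Over o} (f : i ⟶ j), IsAffineHom (E'.map f) := fun f => inferInstance
  let K : Over o := Over.mk (𝟙 o)
  have hsurj : Function.Surjective (C.π.app K).appTop.hom := fun y => by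
    obtain ⟨m, t, ht⟩ := exists_appTop_π_eq_of_isAffine_of_isLimit E' C hcE y
    have := hcl (IsCofiltered.minToRight m K)
    obtain ⟨r, hr⟩ := (E'.map (IsCofiltered.minToRight m K)).app_surjective _ (isAffineOpen_top _)
      ((E'.map (IsCofiltered.minToLeft m K)).appTop t)
    refine ⟨r, ?_⟩
    show (C.π.app K).appTop r = y
    rw [← C.w (IsCofiltered.minToRight m K), Scheme.Hom.comp_appTop]
    show (C.π.app _).appTop ((E'.map (IsCofiltered.minToRight m K)).appTop r) = y
    erw [hr]
    show ((E'.map (IsCofiltered.minToLeft m K)).appTop ≫ (C.π.app _).appTop) t = y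
    rw [← Scheme.Hom.comp_appTop, C.w]
    exact ht
  have hr : Representable (c.π.app o) := ((isAffineMor_iff_repWith _).1 (isAffineMor_π D hDa c hc o)).1
  have := isLocallySurjective_of_etale (hη K).1 (hη K).2
  let πK : C.pt ⟶ E'.obj K := C.π.app K
  have hcl' : IsClosedImmersion πK := IsClosedImmersion.of_surjective_of_isAffine πK hsurj
  exact repWith_of_isLocallySurjective hr (η K) (hπ K).flip _
    ((AlgSp.repWith_yon_map_iff _ _).2 hcl')

end Groth.Agent.AlgSpLib.OpenFac
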