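import Groth.Agent.AlgSpLib.VCartSpace
import Groth.Agent.AlgSpLib.OpenFac
import Groth.Agent.S10007
import Mathlib.AlgebraicGeometry.AffineTransitionLimit

/-!
A limit which is a scheme mapping Zariski locally to an etale chart has such a stage.
-/

universe u

set_option autoImplicit false

open CategoryTheory CategoryTheory.Limits AlgebraicGeometry Opposite TopologicalSpace
open AlgSp

noncomputable section

set_option linter.style.haveILetI false

namespace Groth.Agent.AlgSpLib.SchStage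

open Groth.Agent.AlgSpLib

set_option backward.isDefEq.respectTransparency.types false
set_option backward.isDefEq.respectTransparency false

attribute [local instance] CategoryTheory.isConnected_of_hasTerminal

variable {S : Scheme.{u}}

theorem exists_iso_yon_of_representable {F G : Sp S} {f : F ⟶ G} (hf : Representable f) {T : Over S}
    (e : (yon S).obj T ≅ G) : ∃ W : Over S, Nonempty ((yon S).obj W ≅ F) := by
  haveI : IsIso (hf.fst e.hom) := (hf.isPullback e.hom).isIso_fst_of_isIso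
  exact ⟨hf.pullback e.hom, ⟨asIso (hf.fst e.hom)⟩⟩

theorem quasiSeparatedSpace_of_sp [QuasiSeparatedSpace ↥S] (T : Over S) (h : IsQuasiSeparatedSp ((yon S).obj T)) :
    QuasiSeparatedSpace ↥T.left := by
  have hq := (isQuasiSeparatedMor_iff_sp ((yon S).map (Over.homMk T.hom : T ⟶ Over.mk (𝟙 S)))).2 h
  haveI : QuasiSeparated T.hom := (isQuasiSeparatedMor_yon_map_iff _).1 hq
  exact quasiSeparatedSpace_of_quasiSeparated T.hom

theorem compactSpace_of_sp (T : Over S) (h : IsQuasiCompactSp ((yon S).obj T)) : CompactSpace ↥T.left := by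
  haveI := compactSpace_points_of_isQuasiCompactSp h
  exact (Points.schemeHomeo T).symm.compactSpace

theorem exists_π_factor {J : Type u} [SmallCategory J] [IsCofiltered J] (E : J ⥤ Scheme.{u}) (C : Cone E)
    (hC : IsLimit C) [∀ {a b : J} (ψ : a ⟶ b), IsAffineHom (E.map ψ)] [∀ a, CompactSpace ↥(E.obj a)]
    [∀ a, QuasiSeparatedSpace ↥(E.obj a)] {i : J} (V : (E.obj i).Opens) (hV : IsCompact (V : Set (E.obj i)))
    {P : Scheme.{u}} (sn : P ⟶ E.obj i) [LocallyOfFinitePresentation sn]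
    (σ : (C.π.app i ⁻¹ᵁ V).toScheme ⟶ P) (hσ : σ ≫ sn = (C.π.app i ⁻¹ᵁ V).ι ≫ C.π.app i) :
    ∃ (l : Over i) (m : (E.map l.hom ⁻¹ᵁ V).toScheme ⟶ P), m ≫ sn = (E.map l.hom ⁻¹ᵁ V).ι ≫ E.map l.hom := by
  haveI : ∀ j, CompactSpace ↥((opensDiagram E i V).obj j) := fun j => by
    show CompactSpace ↥(E.map j.hom ⁻¹ᵁ V)
    exact isCompact_iff_compactSpace.1 (QuasiCompact.isCompact_preimage (f := E.map j.hom) (V : Set (E.obj i)) V.2 hV)
  haveI : ∀ j, QuasiSeparatedSpace ↥((opensDiagram E i V).obj j) := fun j =>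
    QuasiSeparatedSpace.of_isOpenEmbedding (E.map j.hom ⁻¹ᵁ V).ι.isOpenEmbedding
  haveI : ∀ {j k : Over i} (ψ : j ⟶ k), IsAffineHom ((opensDiagram E i V).map ψ) := fun {j k} ψ => by
    show IsAffineHom ((E.map ψ.left).resLE (E.map k.hom ⁻¹ᵁ V) (E.map j.hom ⁻¹ᵁ V) _)
    have e : E.map ψ.left ⁻¹ᵁ (E.map k.hom ⁻¹ᵁ V) = E.map j.hom ⁻¹ᵁ V := by
      rw [← Scheme.Hom.comp_preimage, ← E.map_comp, Over.w ψ]
    exact MorphismProperty.of_isPullback
      (IsOpenImmersion.isPullback ((E.map ψ.left).resLE (E.map k.hom ⁻¹ᵁ V) (E.map j.hom ⁻¹ᵁ V) e.ge)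
        (E.map j.hom ⁻¹ᵁ V).ι (E.map k.hom ⁻¹ᵁ V).ι (E.map ψ.left) (by simp) (by rw [Scheme.Opens.opensRange_ι, Scheme.Opens.opensRange_ι]; exact e)).flip
      (inferInstance : IsAffineHom (E.map ψ.left))
  let τ : opensDiagram E i V ⟶ (Functor.const (Over i)).obj (E.obj i) :=
    { app := fun j => (E.map j.hom ⁻¹ᵁ V).ι ≫ E.map j.hom
      naturality := fun j k ψ => by
        show (E.map ψ.left).resLE _ _ _ ≫ (E.map k.hom ⁻¹ᵁ V).ι ≫ E.map k.hom = ((E.map j.hom ⁻¹ᵁ V).ι ≫ E.map j.hom) ≫ 𝟙 _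
        rw [Scheme.Hom.resLE_comp_ι_assoc, ← E.map_comp, Over.w ψ, Category.comp_id] }
  obtain ⟨l, m, -, hm⟩ := Scheme.exists_π_app_comp_eq_of_locallyOfFinitePresentation (opensDiagram E i V) τ sn
    (opensCone E C i V) (isLimitOpensCone E C hC i V) σ (by
      ext j : 2
      show (C.π.app j.left).resLE _ _ _ ≫ (E.map j.hom ⁻¹ᵁ V).ι ≫ E.map j.hom = σ ≫ sn
      rw [hσ, Scheme.Hom.resLE_comp_ι_assoc, C.w])
  exact ⟨l, m, hm⟩

theorem exists_scheme_stage [QuasiSeparatedSpace ↥S] {X : AlgSp.Space S} (hXqc : IsQuasiCompactSp X.obj)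
    (hXqs : IsQuasiSeparatedSp X.obj) {I : Type u} [Preorder I] [IsDirected I (fun a b => a ≤ b)] [Nonempty I]
    (D : Iᵒᵖ ⥤ Sp S) (t : D ⟶ (Functor.const Iᵒᵖ).obj X.obj) (c : Cone D) (hc : IsLimit c)
    (hD : ∀ i, IsAlgSpace (D.obj i)) (hDa : ∀ (i j : Iᵒᵖ) (φ : i ⟶ j), IsAffineMor (D.map φ))
    (hta : ∀ i, IsAffineMor (t.app i)) {Y₀ : Over S} (e : c.pt ≅ (yon S).obj Y₀) (g : (yon S).obj Y₀ ⟶ X.obj)
    (hg : ∀ i, e.inv ≫ c.π.app i ≫ t.app i = g)
    {U : Over S} (p : (yon S).obj U ⟶ X.obj) (hpe : RepWith @Etale p)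
    (hloc : ∀ y : ↥Y₀.left, ∃ (W : Y₀.left.Opens) (k : Over.mk (W.ι ≫ Y₀.hom) ⟶ U), y ∈ W ∧
      (yon S).map k ≫ p = (yon S).map (Over.homMk W.ι rfl : Over.mk (W.ι ≫ Y₀.hom) ⟶ Y₀) ≫ g) :
    ∃ (i : Iᵒᵖ) (Y : Over S) (ε : (yon S).obj Y ≅ D.obj i), ∀ y : ↥Y.left, ∃ (W : Y.left.Opens), y ∈ W ∧
      ∃ k : Over.mk (W.ι ≫ Y.hom) ⟶ U, (yon S).map k ≫ p = (yon S).map (Over.homMk W.ι) ≫ ε.hom ≫ t.app i := by
  classical
  haveI : IsCofiltered Iᵒᵖ := inferInstance
  have hqc : ∀ i, IsQuasiCompactSp (D.obj i) := fun i =>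
    OpenFac.isQuasiCompactSp_of_affine X.property (hta i) hXqc
  have hqs : ∀ i, IsQuasiSeparatedSp (D.obj i) := fun i => VCart.isQuasiSeparatedSp_of_affineMor (hta i) hXqs
  obtain ⟨o, ho⟩ := Groth.Agent.S10007.result S D hD hDa hqc hqs c hc (isRepresentable_of_iso_yon e.symm)
  obtain ⟨To, ⟨eo⟩⟩ := exists_iso_yon_of_isRepresentable ho
  have hT : ∀ l : Over o, ∃ W : Over S, Nonempty ((yon S).obj W ≅ D.obj l.left) := fun l =>
    exists_iso_yon_of_representable ((isAffineMor_iff_repWith _).1 (hDa _ _ l.hom)).1 eo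
  choose T hεn using hT
  let ε : ∀ l, (yon S).obj (T l) ≅ D.obj l.left := fun l => (hεn l).some
  choose mp hmp using fun (l l' : Over o) (φ : l ⟶ l') =>
    (yon S).map_surjective ((ε l).hom ≫ D.map φ.left ≫ (ε l').inv)
  let E : Over o ⥤ Over S :=
    { obj := T
      map := fun {l l'} φ => mp l l' φ
      map_id := fun l => (yon S).map_injective (by
        rw [hmp, (yon S).map_id, show (𝟙 l : l ⟶ l).left = 𝟙 l.left from rfl, D.map_id, Category.id_comp, Iso.hom_inv_id])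
      map_comp := fun {a b d} φ ψ => (yon S).map_injective (by
        rw [(yon S).map_comp, hmp, hmp, hmp, show (φ ≫ ψ).left = φ.left ≫ ψ.left from rfl, D.map_comp]
        simp only [Category.assoc, Iso.inv_hom_id_assoc]) }
  choose cp hcp using fun l : Over o => (yon S).map_surjective (e.inv ≫ c.π.app l.left ≫ (ε l).inv)
  have hE : ∀ {l l'} (φ : l ⟶ l'), (yon S).map (E.map φ) = (ε l).hom ≫ D.map φ.left ≫ (ε l').inv := fun φ => hmp _ _ φ
  let cE : Cone E :=
    { pt := Y₀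
      π :=
        { app := cp
          naturality := fun a b φ => (yon S).map_injective (by
            show (yon S).map (𝟙 _ ≫ cp b) = (yon S).map (cp a ≫ E.map φ)
            rw [Category.id_comp, (yon S).map_comp, hcp, hcp, hE, ← c.w φ.left]
            simp only [Category.assoc, Iso.inv_hom_id_assoc]) } }
  let iso : Over.forget o ⋙ D ≅ E ⋙ yon S :=
    NatIso.ofComponents (fun l => (ε l).symm) fun {a b} φ => by
      show D.map φ.left ≫ (ε b).inv = (ε a).inv ≫ (yon S).map (E.map φ)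
      rw [hE, Iso.inv_hom_id_assoc]
  have hy : IsLimit ((yon S).mapCone cE) := by
    refine IsLimit.ofIsoLimit ((IsLimit.postcomposeHomEquiv iso _).symm
      ((Functor.Initial.isLimitWhiskerEquiv (Over.forget o) c).symm hc)) (Cone.ext e fun l => ?_)
    show c.π.app l.left ≫ (ε l).inv = e.hom ≫ (yon S).map (cp l)
    rw [hcp, Iso.hom_inv_id_assoc]
  have hcE : IsLimit cE := isLimitOfReflects (yon S) hy
  let E' := E ⋙ Over.forget S
  let C : Cone E' := (Over.forget S).mapCone cE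
  have hC : IsLimit C := isLimitOfPreserves (Over.forget S) hcE
  haveI : ∀ {a b : Over o} (φ : a ⟶ b), IsAffineHom (E'.map φ) := fun {a b} φ => by
    refine (repWith_yon_map_iff @IsAffineHom (E.map φ)).1 ?_
    rw [hE]
    exact RepWith.comp (repWith_of_isIso @IsAffineHom _) (RepWith.comp ((isAffineMor_iff_repWith _).1 (hDa _ _ φ.left))
      (repWith_of_isIso @IsAffineHom _))
  haveI : ∀ l, CompactSpace ↥(E'.obj l) := fun l => compactSpace_of_sp (T l)
    (OpenFac.isQuasiCompactSp_of_affine X.property (f := (ε l).hom ≫ t.app l.left)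
      ((isAffineMor_iff_repWith _).2 (RepWith.comp (repWith_of_isIso @IsAffineHom _)
        ((isAffineMor_iff_repWith _).1 (hta l.left)))) hXqc)
  haveI : ∀ l, QuasiSeparatedSpace ↥(E'.obj l) := fun l => quasiSeparatedSpace_of_sp (T l)
    (VCart.isQuasiSeparatedSp_of_affineMor (μ := (ε l).hom ≫ t.app l.left)
      ((isAffineMor_iff_repWith _).2 (RepWith.comp (repWith_of_isIso @IsAffineHom _)
        ((isAffineMor_iff_repWith _).1 (hta l.left)))) hXqs)
  -- an affine cover of the limit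
  choose W k hyW hk using hloc
  choose A hA hyA hAW using fun y => exists_isAffineOpen_mem_and_subset (X := Y₀.left) (x := y) (U := W y) (hyW y)
  obtain ⟨i, s, V, hV, hVA⟩ := Scheme.exists_isOpenCover_and_isAffine E' C hC A
    (IsOpenCover.mk (eq_top_iff.2 fun y _ => Opens.mem_iSup.2 ⟨y, hyA y⟩)) hA
  -- the pieces descend
  let ti : (yon S).obj (T i) ⟶ X.obj := (ε i).hom ≫ t.app i.left
  let P := hpe.1.pullback ti
  haveI : Etale (hpe.1.snd ti).left := hpe.property_snd _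
  have hti : (yon S).map (cE.π.app i) ≫ ti = g := by
    show (yon S).map (cp i) ≫ _ = g
    rw [hcp, ← hg i.left]
    simp only [ti, Category.assoc, Iso.inv_hom_id_assoc]
  have hfac : ∀ a : s, ∃ (l : Over i) (m : (E'.map l.hom ⁻¹ᵁ V a).toScheme ⟶ P.left),
      m ≫ (hpe.1.snd ti).left = (E'.map l.hom ⁻¹ᵁ V a).ι ≫ E'.map l.hom := fun a => by
    have hle : C.π.app i ⁻¹ᵁ V a ≤ W a.1 := (hVA a).2.symm.trans_le (hAW a.1)
    let O : Over S := Over.mk ((C.π.app i ⁻¹ᵁ V a).ι ≫ Y₀.hom)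
    let ι₀ : O ⟶ Over.mk ((W a.1).ι ≫ Y₀.hom) := Over.homMk (Y₀.left.homOfLE hle) (by
      exact ((Category.assoc _ _ _).symm.trans (congrArg (· ≫ Y₀.hom) (Scheme.homOfLE_ι Y₀.left hle))))
    let oι : O ⟶ Y₀ := Over.homMk (C.π.app i ⁻¹ᵁ V a).ι rfl
    have hoι : ι₀ ≫ (Over.homMk (W a.1).ι rfl : Over.mk ((W a.1).ι ≫ Y₀.hom) ⟶ Y₀) = oι :=
      Over.OverMorphism.ext (Scheme.homOfLE_ι Y₀.left hle)
    let σ : O ⟶ P := hpe.1.lift ((yon S).map (ι₀ ≫ k a.1)) (oι ≫ cE.π.app i) (by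
      rw [Functor.map_comp, Category.assoc, hk, ← Category.assoc, ← Functor.map_comp, hoι, Functor.map_comp,
        Category.assoc, hti])
    have hσ : σ ≫ hpe.1.snd ti = oι ≫ cE.π.app i := hpe.1.lift_snd _ _ _
    exact exists_π_factor E' C hC (V a) (hVA a).1.isCompact (hpe.1.snd ti).left σ.left
      (congrArg (fun f => f.left) hσ)
  choose l m hm using hfac
  obtain ⟨L, hL⟩ := IsCofiltered.inf_objs_exists (Finset.univ.image l)
  let ξ : ∀ a : s, L ⟶ l a := fun a => (hL (Finset.mem_image.2 ⟨a, Finset.mem_univ _, rfl⟩)).some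
  refine ⟨L.left.left, T L.left, ε L.left, fun y => ?_⟩
  obtain ⟨a, hya⟩ := Opens.mem_iSup.1 (hV.iSup_eq_top.ge (show E'.map L.hom y ∈ (⊤ : (E'.obj i).Opens) from trivial))
  let V' := E'.map L.hom ⁻¹ᵁ V a
  refine ⟨V', hya, ?_⟩
  have hle : V' ≤ E'.map (ξ a).left ⁻¹ᵁ (E'.map (l a).hom ⁻¹ᵁ V a) := by
    rw [← Scheme.Hom.comp_preimage, ← E'.map_comp, Over.w (ξ a)]
  let r : V'.toScheme ⟶ (E'.map (l a).hom ⁻¹ᵁ V a).toScheme := (E'.map (ξ a).left).resLE _ _ hle
  have hr : (r ≫ m a) ≫ (hpe.1.snd ti).left = V'.ι ≫ E'.map L.hom := by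
    rw [Category.assoc, hm, Scheme.Hom.resLE_comp_ι_assoc, ← E'.map_comp, Over.w (ξ a)]
  let O : Over S := Over.mk (V'.ι ≫ (T L.left).hom)
  let M : O ⟶ P := Over.homMk (r ≫ m a) (by
    rw [← Over.w (hpe.1.snd ti), ← Category.assoc, hr, Category.assoc]
    exact congrArg (V'.ι ≫ ·) (Over.w (E.map L.hom)))
  have hM : M ≫ hpe.1.snd ti = (Over.homMk V'.ι rfl : O ⟶ T L.left) ≫ E.map L.hom := Over.OverMorphism.ext hr
  obtain ⟨k', hk'⟩ := (yon S).map_surjective ((yon S).map M ≫ hpe.1.fst ti)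
  refine ⟨k', ?_⟩
  rw [hk', Category.assoc, hpe.1.w ti, ← Category.assoc, ← Functor.map_comp, hM, Functor.map_comp, Category.assoc,
    hE, Category.assoc, Category.assoc]
  simp only [ti, Iso.inv_hom_id_assoc]
  exact congrArg (fun q => (yon S).map (Over.homMk V'.ι rfl : O ⟶ T L.left) ≫ (ε L.left).hom ≫ q)
    ((t.naturality L.hom.left).trans (Category.comp_id _))

end Groth.Agent.AlgSpLib.SchStage
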