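import Groth.Agent.AlgSpLib.SourceLocal
import Groth.Agent.AlgSpLib.NoethSource
import Groth.Prelude.Def_AlgSp2

/-!
Properties of algebraic spaces descending along flat surjections.
-/

universe u

open CategoryTheory CategoryTheory.Limits AlgebraicGeometry
open AlgSp

noncomputable section

namespace Groth.Agent.AlgSpLib

set_option backward.isDefEq.respectTransparency.types false

variable {S : Scheme.{u}} {X Y : Sp S}

/-- For a surjective morphism of algebraic spaces and a chart of the source there is a chart of the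
target and a surjective morphism to it from a scheme etale over the chart of the source. -/
theorem exists_surjective_chart_over (hY : IsAlgSpace Y) {f : X ⟶ Y} (hs : IsSurjectiveMor f)
    {U₀ : Over S} (p₀ : (yon S).obj U₀ ⟶ X) (he : RepWith @Etale p₀) (hp : RepWith @Surjective p₀) :
    ∃ (V : Over S) (b : (yon S).obj V ⟶ Y) (U : Over S) (a : (yon S).obj U ⟶ X) (h : U ⟶ V)
      (c : U ⟶ U₀), RepWith @Etale b ∧ RepWith @Surjective b ∧ RepWith @Etale a ∧
      Etale c.left ∧ a ≫ f = (yon S).map h ≫ b ∧ Surjective h.left := by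
  obtain ⟨V, b, hbe, hbs⟩ := hY.atlas
  have hb := hY.representable_from_yon b
  have sq := hb.isPullback' (p₀ ≫ f)
  refine ⟨V, b, hb.pullback (p₀ ≫ f), (yon S).map (hb.snd (p₀ ≫ f)) ≫ p₀, hb.fst' (p₀ ≫ f),
    hb.snd (p₀ ≫ f), hbe, hbs, RepWith.comp (RepWith.baseChange (hb.isPullback (p₀ ≫ f)) hbe) he,
    hbe.property_snd _, by rw [Category.assoc]; exact sq.w.symm, ⟨fun v => ?_⟩⟩
  obtain ⟨x, hx⟩ := hs (Points.ofPt b v)
  obtain ⟨u₀, rfl⟩ := surjective_ofPt p₀ hp x
  rw [Points.map_ofPt] at hx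
  obtain ⟨r, hr, -⟩ := (ofPt_eq_ofPt_iff sq v u₀).1 hx.symm
  exact ⟨r, hr⟩

theorem etaleLocally_of_surjective (hY : IsAlgSpace Y) {R : MorphismProperty Scheme.{u}}
    {P : Scheme.{u} → Prop}
    (hasc : ∀ {A B : Scheme.{u}} (c : A ⟶ B), Etale c → P B → P A)
    (hdesc : ∀ {A B : Scheme.{u}} (c : A ⟶ B), R c → Surjective c → P A → P B)
    {f : X ⟶ Y} (hs : IsSurjectiveMor f) (hf : LocP R f) (hX : EtaleLocally P X) :
    EtaleLocally P Y := by
  obtain ⟨U₀, p₀, he, hp, hP⟩ := hX
  obtain ⟨V, b, U, a, h, c, hbe, hbs, hae, hce, w, hsur⟩ := exists_surjective_chart_over hY hs p₀ he hp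
  exact ⟨V, b, hbe, hbs, hdesc h.left (hf a b h hae hbe w) hsur (hasc c.left hce hP)⟩

theorem isLocallyNoetherian_of_etale {A B : Scheme.{u}} (c : A ⟶ B) (hc : Etale c)
    (h : IsLocallyNoetherian B) : IsLocallyNoetherian A :=
  LocallyOfFiniteType.isLocallyNoetherian c

theorem isLocNoethSp_of_surjective (hY : IsAlgSpace Y) {f : X ⟶ Y} (hs : IsSurjectiveMor f)
    (hfl : LocP @Flat f) (hfp : LocP @LocallyOfFinitePresentation f) (hX : IsLocNoethSp X) :
    IsLocNoethSp Y :=
  etaleLocally_of_surjective (R := (@Flat.{u} ⊓ @LocallyOfFinitePresentation.{u} : MorphismProperty Scheme.{u}))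
    hY (fun c hc h => isLocallyNoetherian_of_etale c hc h)
    (fun c hc hs' h => by
      have : Flat c := hc.1
      have : LocallyOfFinitePresentation c := hc.2
      exact isLocallyNoetherian_of_surjective c)
    hs (fun U V a b l ha hb w => ⟨hfl a b l ha hb w, hfp a b l ha hb w⟩) hX

end Groth.Agent.AlgSpLib
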