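import Groth.Agent.AlgSpLib.MorProper
import Groth.Agent.AlgSpLib.NoethSpace
import Groth.Agent.AlgSpLib.PointsTop
import Groth.Agent.FlatLocal.FibreCrit
import Groth.Agent.Desc19b.Source
import Groth.Prelude.Def_AlgSpMor5

/-!
Flatness of a morphism of algebraic spaces at a point: independence of the chart; charts for a composite and their
fibres.
-/

universe u

open CategoryTheory CategoryTheory.Limits AlgebraicGeometry
open AlgSp

noncomputable section

namespace Groth.Agent.AlgSpLib

set_option backward.isDefEq.respectTransparency.types false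

/-- flatness at a point is not changed by an etale morphism of the target -/
theorem flat_stalkMap_comp_etale_iff {U V W : Scheme.{u}} (h : U ⟶ V) (e : V ⟶ W) [Etale e] (u : U) :
    ((h ≫ e).stalkMap u).hom.Flat ↔ (h.stalkMap u).hom.Flat := by
  rw [Scheme.Hom.stalkMap_comp]
  show ((h.stalkMap u).hom.comp (e.stalkMap (h u)).hom).Flat ↔ _
  refine ⟨fun hf => ?_, fun hf => (Flat.stalkMap e (h u)).comp hf⟩
  algebraize [(e.stalkMap (h u)).hom, (h.stalkMap u).hom, (h.stalkMap u).hom.comp (e.stalkMap (h u)).hom]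
  have : Algebra.EssFiniteType (W.presheaf.stalk (e (h u))) (V.presheaf.stalk (h u)) :=
    RingHom.essFiniteType_algebraMap.1 (LocallyOfFiniteType.stalkMap e (h u))
  have : Algebra.FormallyUnramified (W.presheaf.stalk (e (h u))) (V.presheaf.stalk (h u)) :=
    RingHom.formallyUnramified_algebraMap.1 (FormallyUnramified.stalkMap e (h u))
  exact FlatLocal.flat_of_flat_of_unramified (A := W.presheaf.stalk (e (h u)))

theorem flat_stalkMap_iff_of_etale_square {U V U' V' : Scheme.{u}} {h : U ⟶ V} {h' : U' ⟶ V'} (e₁ : U' ⟶ U)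
    (e₂ : V' ⟶ V) [Etale e₁] [Etale e₂] (w : e₁ ≫ h = h' ≫ e₂) (u' : U') :
    (h.stalkMap (e₁ u')).hom.Flat ↔ (h'.stalkMap u').hom.Flat := by
  rw [← Desc19b.flat_stalkMap_comp_iff e₁ h u' (Flat.stalkMap e₁ u'), w]
  exact flat_stalkMap_comp_etale_iff h' e₂ u'

variable {S : Scheme.{u}} {X Y Z : Sp S}

theorem isFlatAtMor_iff (hX : IsAlgSpace X) (hY : IsAlgSpace Y) (f : X ⟶ Y) {U V : Over S}
    (a : (yon S).obj U ⟶ X) (b : (yon S).obj V ⟶ Y) (h : U ⟶ V) (ha : RepWith @Etale a)
    (hb : RepWith @Etale b) (w : a ≫ f = (yon S).map h ≫ b) (u : ↥U.left) :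
    IsFlatAtMor f (Points.ofPt a u) ↔ (h.left.stalkMap u).hom.Flat := by
  refine ⟨fun H => H a b h u ha hb w rfl, fun H U' V' a' b' h' u' ha' hb' w' e => ?_⟩
  have hra := hX.representable_from_yon a
  have hrb := hY.representable_from_yon b
  have sqP := hra.isPullback' a'
  have sqQ := hrb.isPullback' b'
  obtain ⟨p, hp1, hp2⟩ := (ofPt_eq_ofPt_iff sqP u u').1 e.symm
  let k : hra.pullback a' ⟶ hrb.pullback b' := hrb.lift' (hra.fst' a' ≫ h) (hra.snd a' ≫ h') (by
    rw [Functor.map_comp, Functor.map_comp, Category.assoc, Category.assoc, ← w, ← w', ← Category.assoc,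
      sqP.w, Category.assoc])
  have k1 : k ≫ hrb.fst' b' = hra.fst' a' ≫ h := Functor.relativelyRepresentable.lift'_fst _ _ _ _
  have k2 : k ≫ hrb.snd b' = hra.snd a' ≫ h' := Functor.relativelyRepresentable.lift'_snd _ _ _ _
  have : Etale (hra.fst' a').left := ha'.property _ _ _ sqP.flip
  have : Etale (hra.snd a').left := ha.property_snd a'
  have : Etale (hrb.fst' b').left := hb'.property _ _ _ sqQ.flip
  have : Etale (hrb.snd b').left := hb.property_snd b'
  have s1 := flat_stalkMap_iff_of_etale_square (hra.fst' a').left (hrb.fst' b').left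
    (show (hra.fst' a').left ≫ h.left = k.left ≫ (hrb.fst' b').left from congrArg (fun t => t.left) k1.symm) p
  have s2 := flat_stalkMap_iff_of_etale_square (hra.snd a').left (hrb.snd b').left
    (show (hra.snd a').left ≫ h'.left = k.left ≫ (hrb.snd b').left from congrArg (fun t => t.left) k2.symm) p
  rw [hp1] at s1
  rw [hp2] at s2
  exact s2.2 (s1.1 H)

theorem locP_flat_iff_forall_isFlatAtMor (f : X ⟶ Y) :
    LocP @Flat f ↔ ∀ x, IsFlatAtMor f x := by
  refine ⟨fun hf x U V a b h u ha hb w _ => ?_, fun hf U V a b h ha hb w => ?_⟩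
  · have : Flat h.left := hf a b h ha hb w
    exact Flat.stalkMap h.left u
  · rw [Flat.iff_flat_stalkMap]
    exact fun u => hf _ a b h u ha hb w rfl

/-- charts adapted to a composite -/
structure Charts (f : X ⟶ Y) (g : Y ⟶ Z) where
  U : Over S
  V : Over S
  W : Over S
  a : (yon S).obj U ⟶ X
  b : (yon S).obj V ⟶ Y
  c : (yon S).obj W ⟶ Z
  h : U ⟶ V
  k : V ⟶ W
  ψX : (yon S).obj U ⟶ pullback (f ≫ g) c
  ψY : (yon S).obj V ⟶ pullback g c
  a_etale : RepWith @Etale a
  a_surj : RepWith @Surjective a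
  b_etale : RepWith @Etale b
  b_surj : RepWith @Surjective b
  c_etale : RepWith @Etale c
  c_surj : RepWith @Surjective c
  wf : a ≫ f = (yon S).map h ≫ b
  wg : b ≫ g = (yon S).map k ≫ c
  ψX_fst : ψX ≫ pullback.fst (f ≫ g) c = a
  ψX_snd : ψX ≫ pullback.snd (f ≫ g) c = (yon S).map (h ≫ k)
  ψY_fst : ψY ≫ pullback.fst g c = b
  ψY_snd : ψY ≫ pullback.snd g c = (yon S).map k
  ψX_etale : RepWith @Etale ψX
  ψX_surj : RepWith @Surjective ψX
  ψY_etale : RepWith @Etale ψY
  ψY_surj : RepWith @Surjective ψY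

theorem exists_charts_of_chart (hX : IsAlgSpace X) (hY : IsAlgSpace Y) (hZ : IsAlgSpace Z) (f : X ⟶ Y)
    (g : Y ⟶ Z) {W : Over S} (c : (yon S).obj W ⟶ Z) (hce : RepWith @Etale c) (hcs : RepWith @Surjective c) :
    ∃ C : Charts f g, ∃ e : C.W = W, eqToHom (congrArg (yon S).obj e.symm) ≫ C.c = c := by
  have sqY := IsPullback.of_hasPullback g c
  have hYW := isAlgSpace_of_isPullback hZ.diag hY (IsAlgSpace.yon_obj W) sqY
  obtain ⟨V, β, hβe, hβs⟩ := hYW.atlas
  obtain ⟨k, hk⟩ := (yon S).map_surjective (β ≫ pullback.snd g c)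
  let b := β ≫ pullback.fst g c
  have hbe : RepWith @Etale b := RepWith.comp hβe (RepWith.baseChange sqY.flip hce)
  have hbs : RepWith @Surjective b := RepWith.comp hβs (RepWith.baseChange sqY.flip hcs)
  have sqV := IsPullback.of_hasPullback f b
  have hXV := isAlgSpace_of_isPullback hY.diag hX (IsAlgSpace.yon_obj V) sqV
  obtain ⟨U, α, hαe, hαs⟩ := hXV.atlas
  obtain ⟨h, hh⟩ := (yon S).map_surjective (α ≫ pullback.snd f b)
  let a := α ≫ pullback.fst f b
  have sqXW := IsPullback.of_hasPullback (f ≫ g) c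
  let p : pullback (f ≫ g) c ⟶ pullback g c :=
    sqY.lift (pullback.fst (f ≫ g) c ≫ f) (pullback.snd (f ≫ g) c) (by
      rw [Category.assoc, pullback.condition])
  have sqp : IsPullback (pullback.fst (f ≫ g) c) p f (pullback.fst g c) :=
    IsPullback.of_bot (by rw [sqY.lift_snd]; exact sqXW) (sqY.lift_fst _ _ _).symm sqY
  let m : pullback f b ⟶ pullback (f ≫ g) c :=
    sqp.lift (pullback.fst f b) (pullback.snd f b ≫ β) (by rw [Category.assoc, pullback.condition])
  have sqm : IsPullback m (pullback.snd f b) p β :=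
    IsPullback.of_right (h₁₂ := pullback.fst (f ≫ g) c) (by rw [sqp.lift_fst]; exact sqV) (sqp.lift_snd _ _ _)
      sqp
  let C : Charts f g :=
    { U := U, V := V, W := W, a := a, b := b, c := c, h := h, k := k
      ψX := α ≫ m
      ψY := β
      a_etale := RepWith.comp hαe (RepWith.baseChange sqV.flip hbe)
      a_surj := RepWith.comp hαs (RepWith.baseChange sqV.flip hbs)
      b_etale := hbe
      b_surj := hbs
      c_etale := hce
      c_surj := hcs
      wf := by rw [hh, Category.assoc, Category.assoc, pullback.condition]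
      wg := by rw [hk, Category.assoc, Category.assoc, pullback.condition]
      ψX_fst := by rw [Category.assoc, sqp.lift_fst]
      ψX_snd := by
        have e1 : p ≫ pullback.snd g c = pullback.snd (f ≫ g) c := sqY.lift_snd _ _ _
        have e2 : m ≫ p = pullback.snd f b ≫ β := sqp.lift_snd _ _ _
        rw [← e1, Category.assoc, ← Category.assoc m, e2, Functor.map_comp, hh, hk]
        simp only [Category.assoc]
      ψY_fst := rfl
      ψY_snd := hk.symm
      ψX_etale := RepWith.comp hαe (RepWith.baseChange sqm.flip hβe)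
      ψX_surj := RepWith.comp hαs (RepWith.baseChange sqm.flip hβs)
      ψY_etale := hβe
      ψY_surj := hβs }
  exact ⟨C, rfl, Category.id_comp _⟩

theorem nonempty_charts (hX : IsAlgSpace X) (hY : IsAlgSpace Y) (hZ : IsAlgSpace Z) (f : X ⟶ Y) (g : Y ⟶ Z) :
    Nonempty (Charts f g) := by
  obtain ⟨W, c, hce, hcs⟩ := hZ.atlas
  obtain ⟨C, -⟩ := exists_charts_of_chart hX hY hZ f g c hce hcs
  exact ⟨C⟩

/-- base change of a chart of `X ×_Z W` along `T ⟶ W` -/
theorem exists_baseChange_chart {φ : X ⟶ Z} {W U T U' : Over S} {c : (yon S).obj W ⟶ Z}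
    {ψ : (yon S).obj U ⟶ pullback φ c} {m : U ⟶ W} (hm : ψ ≫ pullback.snd φ c = (yon S).map m)
    {ι : T ⟶ W} {pU : U' ⟶ U} {qU : U' ⟶ T} (sqU : IsPullback pU qU m ι) {XT : Sp S} {fst : XT ⟶ X}
    {snd : XT ⟶ (yon S).obj T} (sqT : IsPullback fst snd φ ((yon S).map ι ≫ c))
    {P : MorphismProperty Scheme.{u}} [P.IsStableUnderBaseChange] (hψ : RepWith P ψ) :
    ∃ a' : (yon S).obj U' ⟶ XT, a' ≫ fst = (yon S).map pU ≫ ψ ≫ pullback.fst φ c ∧
      a' ≫ snd = (yon S).map qU ∧ RepWith P a' := by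
  have sqW := IsPullback.of_hasPullback φ c
  let r : XT ⟶ pullback φ c := sqW.lift fst (snd ≫ (yon S).map ι) (by rw [Category.assoc]; exact sqT.w)
  have sqr : IsPullback r snd (pullback.snd φ c) ((yon S).map ι) :=
    IsPullback.of_right (h₁₂ := pullback.fst φ c) (by rw [sqW.lift_fst]; exact sqT) (sqW.lift_snd _ _ _) sqW
  have sqU' := sqU.map (yon S)
  rw [← hm] at sqU'
  let a' : (yon S).obj U' ⟶ XT :=
    sqr.lift ((yon S).map pU ≫ ψ) ((yon S).map qU) (by rw [Category.assoc]; exact sqU'.w)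
  have sqa : IsPullback ((yon S).map pU) a' ψ r :=
    IsPullback.of_bot (by rw [sqr.lift_snd]; exact sqU') (sqr.lift_fst _ _ _).symm sqr
  refine ⟨a', ?_, sqr.lift_snd _ _ _, RepWith.baseChange sqa hψ⟩
  rw [show fst = r ≫ pullback.fst φ c from (sqW.lift_fst _ _ _).symm, ← Category.assoc, sqr.lift_fst,
    Category.assoc]

/-- an etale chart of a locally Noetherian space is locally Noetherian -/
theorem isLocallyNoetherian_of_chart (hX : IsAlgSpace X) (h : IsLocNoethSp X) {U : Over S}
    (a : (yon S).obj U ⟶ X) (ha : RepWith @Etale a) : IsLocallyNoetherian U.left := by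
  obtain ⟨U₀, p, hpe, hps, hN⟩ := h
  have hr := hX.representable_from_yon p
  have sq := hr.isPullback' a
  have : Etale (hr.fst' a).left := ha.property _ _ _ sq.flip
  have : Etale (hr.snd a).left := hpe.property_snd a
  have : Surjective (hr.snd a).left := hps.property _ _ _ (hr.isPullback a)
  have := isLocallyNoetherian_of_etale (hr.fst' a).left ‹_› hN
  exact isLocallyNoetherian_of_surjective (hr.snd a).left

end Groth.Agent.AlgSpLib
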