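import Groth.Agent.AlgSpLib.UnivClosedPoly
import Groth.Agent.AlgSpLib.MorTop
import Groth.Agent.AlgSpLib.MorQC
import Groth.Agent.AlgSpLib.PointsCompact

/-!
Universal closedness of quasi-compact morphisms of algebraic spaces is tested on affine spaces.
-/

universe u

open CategoryTheory CategoryTheory.Limits AlgebraicGeometry Topology AlgSp

namespace Groth.Agent.AlgSpLib

variable {S : Scheme.{u}} {F G : Sp S}

/-- closedness of a base change passes to a further base change along an inducing map -/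
theorem isClosedMap_of_inducing {P P' Z Z' : Sp S} {e : P' ⟶ P} {snd' : P' ⟶ Z'} {snd : P ⟶ Z}
    {g : Z' ⟶ Z} (sq : IsPullback e snd' snd g) (he : IsInducing (Points.map e))
    (h : IsClosedMap (Points.map snd)) : IsClosedMap (Points.map snd') := by
  intro W hW
  obtain ⟨C, hC, rfl⟩ := he.isClosed_iff.1 hW
  rw [← preimage_map_image sq]
  exact (h C hC).preimage (Points.continuous_map _)

/-- a base change which is an immersion induces the topology -/
theorem isClosedMap_of_immersion {P P' : Sp S} (hP : IsAlgSpace P) {T T' : Over S} {e : P' ⟶ P}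
    {snd' : P' ⟶ (yon S).obj T'} {snd : P ⟶ (yon S).obj T}
    {g : T' ⟶ T} (sq : IsPullback e snd' snd ((yon S).map g)) [IsImmersion g.left]
    (h : IsClosedMap (Points.map snd)) : IsClosedMap (Points.map snd') :=
  isClosedMap_of_inducing sq (isEmbedding_map_of_immersion hP
    (RepWith.baseChange sq.flip ((repWith_yon_map_iff @IsImmersion g).2 inferInstance))).1.isInducing h

/-- the preimage on a chart of the image under a base change -/
theorem ofPt_preimage_image {W₁ W₂ : Over S} {k : W₁ ⟶ W₂} {a₁ : (yon S).obj W₁ ⟶ F}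
    {a₂ : (yon S).obj W₂ ⟶ G} {p : F ⟶ G} (sq : IsPullback a₁ ((yon S).map k) p a₂)
    (Z : Set (Points F)) :
    Points.ofPt a₂ ⁻¹' (Points.map p '' Z) = k.left '' (Points.ofPt a₁ ⁻¹' Z) := by
  have h := congrArg (Points.ofScheme W₂ ⁻¹' ·) (preimage_map_image sq Z)
  ext w
  have hw := Set.ext_iff.1 h w
  simp only [Set.mem_preimage, ← Points.ofPt_eq_map_ofScheme] at hw
  refine Iff.trans hw ⟨?_, ?_⟩
  · rintro ⟨x, hx, e⟩
    obtain ⟨v, rfl⟩ := (Points.schemeEquiv W₁).surjective x
    refine ⟨v, ?_, (Points.schemeEquiv W₂).injective ((map_yon_map_ofScheme k v).symm.trans e)⟩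
    show Points.ofPt a₁ v ∈ Z
    rw [Points.ofPt_eq_map_ofScheme]
    exact hx
  · rintro ⟨v, hv, rfl⟩
    refine ⟨Points.ofScheme W₁ v, ?_, map_yon_map_ofScheme k v⟩
    show Points.map a₁ _ ∈ Z
    rw [← Points.ofPt_eq_map_ofScheme]
    exact hv

/-- the image of a morphism to a scheme is computed on a surjective chart -/
theorem schemeHomeo_preimage_image {W T : Over S} {h : W ⟶ T} {a : (yon S).obj W ⟶ F}
    {snd : F ⟶ (yon S).obj T} (ha : RepWith @Surjective a) (e : a ≫ snd = (yon S).map h)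
    (Z : Set (Points F)) :
    Points.ofScheme T ⁻¹' (Points.map snd '' Z) = h.left '' (Points.ofPt a ⁻¹' Z) := by
  have key : ∀ w, Points.map snd (Points.ofPt a w) = Points.ofScheme T (h.left w) := fun w => by
    rw [Points.map_ofPt, e, Points.ofPt_eq_map_ofScheme, map_yon_map_ofScheme]
  ext t
  constructor
  · rintro ⟨x, hx, ex⟩
    obtain ⟨w, rfl⟩ := surjective_ofPt a ha x
    exact ⟨w, hx, (Points.schemeEquiv T).injective ((key w).symm.trans ex)⟩
  · rintro ⟨w, hw, rfl⟩
    exact ⟨_, hw, key w⟩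

/-- the affine space of dimension `σ` over `Spec R` -/
noncomputable abbrev polyOver {R : CommRingCat.{u}} (str : Spec R ⟶ S) (σ : Type u) : Over S :=
  Over.mk (Spec.map (CommRingCat.ofHom (MvPolynomial.C (R := R) (σ := σ))) ≫ str)

/-- the projection of the affine space to `Spec R` -/
noncomputable abbrev polyHom {R : CommRingCat.{u}} (str : Spec R ⟶ S) (σ : Type u) :
    polyOver str σ ⟶ Over.mk str :=
  Over.homMk (Spec.map (CommRingCat.ofHom (MvPolynomial.C (R := R) (σ := σ)))) rfl

/-- base change of affine space along `Spec B ⟶ Spec R` -/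
noncomputable def polyBC {R B : CommRingCat.{u}} (str : Spec R ⟶ S) (φ : R ⟶ B) (σ : Type u) :
    polyOver (Spec.map φ ≫ str) σ ⟶ polyOver str σ :=
  Over.homMk (Spec.map (CommRingCat.ofHom (MvPolynomial.map (σ := σ) φ.hom))) (by
    show _ ≫ _ ≫ str = _ ≫ _ ≫ str
    rw [← Category.assoc, ← Category.assoc, ← Spec.map_comp, ← Spec.map_comp]
    congr 2
    ext r
    simp)

/-- the map of affine spaces along a map of variables -/
noncomputable def polyRename {R : CommRingCat.{u}} (str : Spec R ⟶ S) {σ τ : Type u} (k : σ → τ) :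
    polyOver str τ ⟶ polyOver str σ :=
  Over.homMk (Spec.map (CommRingCat.ofHom (MvPolynomial.rename k : _ →ₐ[R] _).toRingHom)) (by
    show _ ≫ _ ≫ str = _ ≫ str
    rw [← Category.assoc, ← Spec.map_comp, ← CommRingCat.ofHom_comp]
    congr 3
    exact (MvPolynomial.rename k : _ →ₐ[R] _).comp_algebraMap)

theorem polyRename_comp_polyHom {R : CommRingCat.{u}} (str : Spec R ⟶ S) {σ τ : Type u}
    (k : σ → τ) : polyRename str k ≫ polyHom str σ = polyHom str τ := by
  refine Over.OverMorphism.ext ?_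
  show Spec.map _ ≫ Spec.map _ = Spec.map _
  rw [← Spec.map_comp, ← CommRingCat.ofHom_comp]
  congr 2
  exact (MvPolynomial.rename k : _ →ₐ[R] _).comp_algebraMap

theorem polyBC_comp_polyRename {R B : CommRingCat.{u}} (str : Spec R ⟶ S) (φ : R ⟶ B)
    {σ τ : Type u} (k : σ → τ) :
    polyBC str φ τ ≫ polyRename str k = polyRename (Spec.map φ ≫ str) k ≫ polyBC str φ σ := by
  refine Over.OverMorphism.ext ?_
  show Spec.map _ ≫ Spec.map _ = Spec.map _ ≫ Spec.map _
  rw [← Spec.map_comp, ← Spec.map_comp]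
  congr 1
  ext : 1
  exact MvPolynomial.ringHom_ext (fun r => by simp) fun i => by simp

theorem polyBC_apply {R B : CommRingCat.{u}} (str : Spec R ⟶ S) (φ : R ⟶ B) (σ : Type u)
    (q : PrimeSpectrum (MvPolynomial σ B)) :
    (polyBC str φ σ).left q = PrimeSpectrum.comap (MvPolynomial.map φ.hom) q := rfl

theorem polyRename_apply {R : CommRingCat.{u}} (str : Spec R ⟶ S) {σ τ : Type u}
    (k : σ → τ) (q : PrimeSpectrum (MvPolynomial τ R)) :
    (polyRename str k).left q =
      PrimeSpectrum.comap (MvPolynomial.rename k : _ →ₐ[R] _).toRingHom q := rfl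

attribute [local instance] MvPolynomial.algebraMvPolynomial in
theorem isPullback_poly {R B : CommRingCat.{u}} (φ : R ⟶ B) (σ : Type u) :
    IsPullback (Spec.map (CommRingCat.ofHom (MvPolynomial.map (σ := σ) φ.hom)))
      (Spec.map (CommRingCat.ofHom (MvPolynomial.C (R := B) (σ := σ))))
      (Spec.map (CommRingCat.ofHom (MvPolynomial.C (R := R) (σ := σ)))) (Spec.map φ) := by
  algebraize [φ.hom]
  exact (isPullback_SpecMap_of_isPushout _ _ _ _
    (CommRingCat.isPushout_of_isPushout R B (MvPolynomial σ R) (MvPolynomial σ B))).flip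

theorem isPullback_over_forget {A B C D : Over S} {f : A ⟶ B} {g : A ⟶ C} {h : B ⟶ D} {i : C ⟶ D}
    (hp : IsPullback f.left g.left h.left i.left) :
    IsPullback ((yon S).map f) ((yon S).map g) ((yon S).map h) ((yon S).map i) :=
  (IsPullback.of_map (Over.forget S) (Over.OverMorphism.ext hp.w) hp).map (yon S)

theorem exists_poly_chart {R B : CommRingCat.{u}} (str : Spec R ⟶ S) {P₀ : Sp S}
    (p₀ : P₀ ⟶ (yon S).obj (Over.mk str)) (φ : R ⟶ B)
    (a : (yon S).obj (Over.mk (Spec.map φ ≫ str)) ⟶ P₀)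
    (ha : a ≫ p₀ = (yon S).map (Over.homMk (Spec.map φ) rfl))
    (σ : Type u) {Q : Sp S} {q : Q ⟶ P₀} {qs : Q ⟶ (yon S).obj (polyOver str σ)}
    (sQ : IsPullback q qs p₀ ((yon S).map (polyHom str σ))) :
    ∃ aσ : (yon S).obj (polyOver (Spec.map φ ≫ str) σ) ⟶ Q,
      aσ ≫ qs = (yon S).map (polyBC str φ σ) ∧
      IsPullback aσ ((yon S).map (polyHom (Spec.map φ ≫ str) σ)) q a := by
  have big : IsPullback ((yon S).map (polyBC str φ σ))
      ((yon S).map (polyHom (Spec.map φ ≫ str) σ)) ((yon S).map (polyHom str σ))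
      ((yon S).map (Over.homMk (Spec.map φ) rfl : Over.mk (Spec.map φ ≫ str) ⟶ Over.mk str)) :=
    isPullback_over_forget (isPullback_poly φ σ)
  obtain ⟨aσ, h1, h2⟩ := sQ.exists_lift ((yon S).map (polyHom (Spec.map φ ≫ str) σ) ≫ a)
    ((yon S).map (polyBC str φ σ)) (by rw [Category.assoc, ha, big.w])
  refine ⟨aσ, h2, IsPullback.of_right (h₁₂ := qs) (v₁₃ := (yon S).map (polyHom str σ))
    (h₂₂ := p₀) ?_ h1 sQ.flip⟩
  rw [h2, ha]
  exact big

theorem isClosedMap_poly_aux {R B : CommRingCat.{u}} (str : Spec R ⟶ S) {P₀ : Sp S}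
    (p₀ : P₀ ⟶ (yon S).obj (Over.mk str)) (φ : R ⟶ B)
    (a : (yon S).obj (Over.mk (Spec.map φ ≫ str)) ⟶ P₀)
    (hae : RepWith @Etale a) (has : RepWith @Surjective a)
    (ha : a ≫ p₀ = (yon S).map (Over.homMk (Spec.map φ) rfl))
    (hn : ∀ (n : ℕ) (P : Sp S) (fst : P ⟶ P₀)
      (snd : P ⟶ (yon S).obj (polyOver str (ULift.{u} (Fin n)))),
      IsPullback fst snd p₀ ((yon S).map (polyHom str _)) → IsClosedMap (Points.map snd))
    (I : Type u) {P : Sp S} {fst : P ⟶ P₀} {snd : P ⟶ (yon S).obj (polyOver str I)}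
    (sq : IsPullback fst snd p₀ ((yon S).map (polyHom str I))) : IsClosedMap (Points.map snd) := by
  obtain ⟨aI, hIs, sI⟩ := exists_poly_chart str p₀ φ a ha I sq
  have haIs : RepWith @Surjective aI := RepWith.baseChange sI.flip has
  intro Z hZ
  rw [← (Points.schemeHomeo _).isClosed_preimage,
    show Points.schemeHomeo (polyOver str I) ⁻¹' _ = _ from schemeHomeo_preimage_image haIs hIs Z,
    ← isOpen_compl_iff, isOpen_iff_forall_mem_open]
  intro t ht
  obtain ⟨n, k, hk⟩ := exists_finite_separating φ.hom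
    (hZ.preimage (Points.continuous_ofPt aI)) t fun Q hQ e => ht ⟨Q, hQ, e⟩
  have sqσ := IsPullback.of_hasPullback p₀ ((yon S).map (polyHom str (ULift.{u} (Fin n))))
  obtain ⟨aσ, hσs, sσ⟩ := exists_poly_chart str p₀ φ a ha _ sqσ
  have haσe : RepWith @Etale aσ := RepWith.baseChange sσ.flip hae
  have haσs : RepWith @Surjective aσ := RepWith.baseChange sσ.flip has
  obtain ⟨pP, hp1, hp2⟩ := sqσ.exists_lift fst (snd ≫ (yon S).map (polyRename str k))
    (by rw [Category.assoc, ← Functor.map_comp, polyRename_comp_polyHom, sq.w])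
  have hw : aI ≫ pP = (yon S).map (polyRename (Spec.map φ ≫ str) k) ≫ aσ := by
    refine sqσ.hom_ext ?_ ?_
    · rw [Category.assoc, hp1, Category.assoc, sσ.w, sI.w, ← Functor.map_comp_assoc,
        polyRename_comp_polyHom]
    · rw [Category.assoc, hp2, ← Category.assoc, hIs, Category.assoc, hσs, ← Functor.map_comp,
        ← Functor.map_comp, polyBC_comp_polyRename]
  have sW : IsPullback aI ((yon S).map (polyRename (Spec.map φ ≫ str) k)) pP aσ := by
    refine (IsPullback.of_right ?_ hw.symm sσ.flip).flip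
    rw [← Functor.map_comp, hp1, polyRename_comp_polyHom]
    exact sI.flip
  let A : Set ↥(polyOver str (ULift.{u} (Fin n))).left := Points.ofScheme _ ⁻¹'
    (Points.map (pullback.snd p₀ ((yon S).map (polyHom str (ULift.{u} (Fin n))))) ''
      closure (Points.map pP '' Z))
  have hA : IsClosed A :=
    (hn n _ _ _ sqσ _ isClosed_closure).preimage (Points.continuous_ofPt _)
  refine ⟨((polyRename str k).left ⁻¹' A)ᶜ, ?_,
    (hA.preimage (Scheme.Hom.continuous _)).isOpen_compl, ?_⟩
  · rw [Set.compl_subset_compl]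
    rintro _ ⟨P', hP', rfl⟩
    refine (Set.ext_iff.1 (schemeHomeo_preimage_image haσs hσs _) _).2
      ⟨(polyRename (Spec.map φ ≫ str) k).left P', subset_closure ?_, ?_⟩
    · exact (Set.ext_iff.1 (ofPt_preimage_image sW Z) _).2 ⟨P', hP', rfl⟩
    · exact congrArg
        (fun f : polyOver (Spec.map φ ≫ str) I ⟶ polyOver str (ULift.{u} (Fin n)) => f.left P')
        (polyBC_comp_polyRename str φ k).symm
  · intro hmem
    obtain ⟨q, hq, hq'⟩ := (Set.ext_iff.1 (schemeHomeo_preimage_image haσs hσs _) _).1 hmem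
    rw [Set.mem_preimage] at hq
    have hq2 : q ∈ closure ((polyRename (Spec.map φ ≫ str) k).left '' (Points.ofPt aI ⁻¹' Z)) := by
      rw [← ofPt_preimage_image sW Z,
        ← (isOpenMap_ofPt aσ haσe).preimage_closure_eq_closure_preimage (Points.continuous_ofPt aσ)]
      exact hq
    exact hk q hq2 hq'

/-- closedness over finite-dimensional affine spaces gives it over all of them -/
theorem isClosedMap_poly {R : CommRingCat.{u}} (str : Spec R ⟶ S) {P₀ : Sp S}
    (hP₀ : IsAlgSpace P₀) [CompactSpace (Points P₀)] (p₀ : P₀ ⟶ (yon S).obj (Over.mk str))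
    (hn : ∀ (n : ℕ) (P : Sp S) (fst : P ⟶ P₀)
      (snd : P ⟶ (yon S).obj (polyOver str (ULift.{u} (Fin n)))),
      IsPullback fst snd p₀ ((yon S).map (polyHom str _)) → IsClosedMap (Points.map snd))
    (I : Type u) {P : Sp S} {fst : P ⟶ P₀} {snd : P ⟶ (yon S).obj (polyOver str I)}
    (sq : IsPullback fst snd p₀ ((yon S).map (polyHom str I))) : IsClosedMap (Points.map snd) := by
  obtain ⟨U, p, hU, hpe, hps⟩ := exists_affine_chart hP₀
  obtain ⟨φ, hφ⟩ := Spec.map_surjective (U.left.isoSpec.inv ≫ ((yon S).preimage (p ≫ p₀)).left)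
  let W : Over S := Over.mk (Spec.map φ ≫ str)
  let i : W ≅ U := Over.isoMk U.left.isoSpec.symm (by
    show U.left.isoSpec.inv ≫ U.hom = Spec.map φ ≫ str
    rw [hφ, Category.assoc]
    exact congrArg (U.left.isoSpec.inv ≫ ·) (Over.w ((yon S).preimage (p ≫ p₀))).symm)
  let h₀ : W ⟶ Over.mk str := Over.homMk (Spec.map φ) rfl
  let a : (yon S).obj W ⟶ P₀ := (yon S).map i.hom ≫ p
  have hae : RepWith @Etale a := RepWith.comp ((repWith_yon_map_iff @Etale i.hom).2 (by
    show Etale U.left.isoSpec.inv; infer_instance)) hpe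
  have has : RepWith @Surjective a := RepWith.comp ((repWith_yon_map_iff @Surjective i.hom).2 (by
    show Surjective U.left.isoSpec.inv; infer_instance)) hps
  have ha : a ≫ p₀ = (yon S).map h₀ := by
    rw [show h₀ = i.hom ≫ (yon S).preimage (p ≫ p₀) from Over.OverMorphism.ext hφ, Functor.map_comp,
      Functor.map_preimage, Category.assoc]
  exact isClosedMap_poly_aux str p₀ φ a hae has ha hn I sq

/-- universal closedness of a quasi-compact morphism is tested on affine spaces over a chart -/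
theorem isUnivClosedMor_of_affineSpace {f : F ⟶ G} (hF : IsAlgSpace F) (hG : IsAlgSpace G)
    (hqc : IsQuasiCompactMor f) {V : Over S} (p : (yon S).obj V ⟶ G) (hpe : RepWith @Etale p)
    (hps : RepWith @Surjective p)
    (hn : ∀ (n : ℕ) (P : Sp S) (fst : P ⟶ F)
      (snd : P ⟶ (yon S).obj (Over.mk ((𝔸(ULift.{u} (Fin n); V.left) ↘ V.left) ≫ V.hom))),
      IsPullback fst snd f
        ((yon S).map (Over.homMk (𝔸(ULift.{u} (Fin n); V.left) ↘ V.left)) ≫ p) →
        IsClosedMap (Points.map snd)) : IsUnivClosedMor f := by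
  refine isUnivClosedMor_of_cover hF hG p hpe hps (IsPullback.of_hasPullback f p) ?_
  refine isUnivClosedMor_of_affine fun T hT g P fst' snd sqT => ?_
  obtain ⟨φ, rfl⟩ := (yon S).map_surjective g
  have sq := sqT.paste_horiz (IsPullback.of_hasPullback f p)
  have hP : IsAlgSpace P := isAlgSpace_of_isPullback hG.diag hF (IsAlgSpace.yon_obj T) sq
  have loc : ∀ t : ↥T.left, ∃ U : T.left.Opens, t ∈ U ∧ IsAffineOpen U ∧
      ∃ V₀ : V.left.Opens, IsAffineOpen V₀ ∧ U ≤ φ.left ⁻¹ᵁ V₀ := fun t => by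
    obtain ⟨_, ⟨V₀, hV₀, rfl⟩, ht, -⟩ :=
      V.left.isBasis_affineOpens.exists_subset_of_mem_open (Set.mem_univ (φ.left t)) isOpen_univ
    obtain ⟨_, ⟨U, hU, rfl⟩, ht', hle⟩ :=
      T.left.isBasis_affineOpens.exists_subset_of_mem_open (show t ∈ φ.left ⁻¹ᵁ V₀ from ht)
        (φ.left ⁻¹ᵁ V₀).2
    exact ⟨U, ht', hU, V₀, hV₀, hle⟩
  choose U hU hUaff V₀ hV₀ hle using loc
  intro C hC
  rw [← (Points.schemeHomeo T).isClosed_preimage]
  rw [(TopologicalSpace.IsOpenCover.mk (top_le_iff.1 fun t _ =>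
    TopologicalSpace.Opens.mem_iSup.2 ⟨t, hU t⟩) :
    TopologicalSpace.IsOpenCover U).isClosed_iff_coe_preimage]
  intro t
  have : IsAffine (U t).toScheme := hUaff t
  let uo : Over S := Over.mk ((U t).ι ≫ T.hom)
  let iu : uo ⟶ T := Over.homMk (U t).ι rfl
  have sqU := IsPullback.of_hasPullback snd ((yon S).map iu)
  suffices hcl : IsClosedMap (Points.map (pullback.snd snd ((yon S).map iu))) by
    have h1 := (hcl _ (hC.preimage (Points.continuous_map (pullback.fst snd ((yon S).map iu))))).preimage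
      (Points.continuous_ofPt (𝟙 ((yon S).obj uo)))
    rw [← preimage_map_image sqU C] at h1
    have key : ∀ z : ↥(U t), Points.map ((yon S).map iu) (Points.ofScheme uo z) =
        Points.ofScheme T z.1 := fun z => map_yon_map_ofScheme iu z
    have e : (Points.ofPt (𝟙 ((yon S).obj uo)) ⁻¹'
        (Points.map ((yon S).map iu) ⁻¹' (Points.map snd '' C))) =
        ((↑) : ↥(U t) → ↥T.left) ⁻¹' (Points.schemeHomeo T ⁻¹' (Points.map snd '' C)) := by
      ext z
      show Points.map ((yon S).map iu) (Points.ofScheme uo z) ∈ Points.map snd '' C ↔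
        Points.ofScheme T z.1 ∈ Points.map snd '' C
      rw [key z]
    exact e ▸ h1
  let R := Γ(V.left, V₀ t)
  let jV : Spec R ⟶ V.left := (hV₀ t).fromSpec
  let str : Spec R ⟶ S := jV ≫ V.hom
  let jO : Over.mk str ⟶ V := Over.homMk jV rfl
  have hrange : Set.range ((U t).toScheme.isoSpec.inv ≫ (U t).ι ≫ φ.left) ⊆ Set.range jV := by
    rintro _ ⟨x, rfl⟩
    rw [IsAffineOpen.range_fromSpec]
    exact hle t ((U t).toScheme.isoSpec.inv x).2
  obtain ⟨ψ, hψ⟩ := Spec.map_surjective (IsOpenImmersion.lift jV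
    ((U t).toScheme.isoSpec.inv ≫ (U t).ι ≫ φ.left) hrange)
  let A := Γ((U t).toScheme, ⊤)
  let κ : MvPolynomial A R →+* A := MvPolynomial.eval₂Hom ψ.hom id
  have hκ : Spec.map (CommRingCat.ofHom κ) ≫
      Spec.map (CommRingCat.ofHom (MvPolynomial.C (R := R) (σ := A))) = Spec.map ψ := by
    rw [← Spec.map_comp]
    congr 1
    ext r
    simp [κ]
  have hfac : ((U t).toScheme.isoSpec.hom ≫ Spec.map (CommRingCat.ofHom κ)) ≫
      Spec.map (CommRingCat.ofHom (MvPolynomial.C (R := R) (σ := A))) ≫ jV = (U t).ι ≫ φ.left := by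
    have h1 : Spec.map (CommRingCat.ofHom κ) ≫
        Spec.map (CommRingCat.ofHom (MvPolynomial.C (R := R) (σ := A))) ≫ jV =
        (U t).toScheme.isoSpec.inv ≫ (U t).ι ≫ φ.left :=
      ((Category.assoc _ _ _).symm.trans (congrArg (· ≫ jV) (hκ.trans hψ))).trans
        (IsOpenImmersion.lift_fac _ _ hrange)
    exact ((Category.assoc _ _ _).trans (congrArg ((U t).toScheme.isoSpec.hom ≫ ·) h1)).trans
      (Iso.hom_inv_id_assoc _ _)
  let cU : uo ⟶ polyOver str A := Over.homMk
    ((U t).toScheme.isoSpec.hom ≫ Spec.map (CommRingCat.ofHom κ)) (by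
      exact (congrArg (· ≫ V.hom) hfac |> fun h => ((((Category.assoc _ _ _).trans
        (congrArg _ (Category.assoc _ _ _))).trans (Category.assoc _ _ _).symm).symm.trans h).trans
          ((Category.assoc _ _ _).trans (congrArg ((U t).ι ≫ ·) (Over.w φ)))))
  have : IsImmersion cU.left := by
    have : IsClosedImmersion (Spec.map (CommRingCat.ofHom κ)) :=
      IsClosedImmersion.spec_of_surjective _ fun a => ⟨MvPolynomial.X a, by simp [κ]⟩
    have h1 : IsImmersion (Spec.map (CommRingCat.ofHom κ)) := inferInstance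
    exact MorphismProperty.comp_mem @IsImmersion (U t).toScheme.isoSpec.hom _ inferInstance h1
  have hcU : cU ≫ polyHom str A ≫ jO = iu ≫ φ := by
    refine Over.OverMorphism.ext ?_
    exact hfac
  let g₀ := (yon S).map jO ≫ p
  have sq0 := IsPullback.of_hasPullback f g₀
  have hP₀ : IsAlgSpace (pullback f g₀) :=
    isAlgSpace_of_isPullback hG.diag hF (IsAlgSpace.yon_obj _) sq0
  have : CompactSpace ↥(Over.mk str).left := inferInstanceAs (CompactSpace ↥(Spec R))
  have := compactSpace_of_isQuasiCompactMor hqc sq0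
  have sqI := IsPullback.of_hasPullback f ((yon S).map (polyHom str A) ≫ g₀)
  have sqI0 := IsPullback.of_right' sqI sq0
  have hI := isClosedMap_poly str hP₀ (pullback.snd f g₀) (fun n Q qf qs sQ => ?_) A sqI0
  · have big : IsPullback (pullback.fst snd ((yon S).map iu) ≫ fst' ≫ pullback.fst f p)
        (pullback.snd snd ((yon S).map iu)) f
        ((yon S).map cU ≫ (yon S).map (polyHom str A) ≫ g₀) := by
      have e : (yon S).map cU ≫ (yon S).map (polyHom str A) ≫ g₀ =
          (yon S).map iu ≫ (yon S).map φ ≫ p := by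
        simp only [g₀, ← Functor.map_comp_assoc, hcU]
      rw [e]
      exact sqU.paste_horiz sq
    exact isClosedMap_of_immersion
      (isAlgSpace_of_isPullback hG.diag hF (IsAlgSpace.yon_obj _) sqI)
      (IsPullback.of_right' big sqI) hI
  · -- finitely many variables
    let An : Over S := Over.mk ((𝔸(ULift.{u} (Fin n); V.left) ↘ V.left) ≫ V.hom)
    let ov : An ⟶ V := Over.homMk (𝔸(ULift.{u} (Fin n); V.left) ↘ V.left) rfl
    let m : polyOver str (ULift.{u} (Fin n)) ⟶ An := Over.homMk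
      ((AffineSpace.SpecIso (ULift.{u} (Fin n)) R).inv ≫ AffineSpace.map _ jV) (by
        show (_ ≫ _) ≫ (𝔸(ULift.{u} (Fin n); V.left) ↘ V.left) ≫ V.hom = _ ≫ jV ≫ V.hom
        rw [Category.assoc, AffineSpace.map_over_assoc, AffineSpace.SpecIso_inv_over_assoc])
    have hm : m ≫ ov = polyHom str _ ≫ jO := by
      refine Over.OverMorphism.ext ?_
      show (_ ≫ _) ≫ (𝔸(ULift.{u} (Fin n); V.left) ↘ V.left) = Spec.map _ ≫ jV
      rw [Category.assoc, AffineSpace.map_over, AffineSpace.SpecIso_inv_over_assoc]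
    have : IsImmersion m.left := by
      have : IsOpenImmersion (AffineSpace.map (ULift.{u} (Fin n)) jV) :=
        MorphismProperty.of_isPullback (P := @IsOpenImmersion)
          (AffineSpace.isPullback_map jV).flip inferInstance
      show IsImmersion (_ ≫ _)
      infer_instance
    have sqn := IsPullback.of_hasPullback f ((yon S).map ov ≫ p)
    have big : IsPullback (qf ≫ pullback.fst f g₀) qs f ((yon S).map m ≫ (yon S).map ov ≫ p) := by
      have e : (yon S).map m ≫ (yon S).map ov ≫ p = (yon S).map (polyHom str _) ≫ g₀ := by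
        simp only [g₀, ← Functor.map_comp_assoc, hm]
      rw [e]
      exact sQ.paste_horiz sq0
    exact isClosedMap_of_immersion
      (isAlgSpace_of_isPullback hG.diag hF (IsAlgSpace.yon_obj _) sqn)
      (IsPullback.of_right' big sqn) (hn n _ _ _ sqn)

end Groth.Agent.AlgSpLib
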