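import Groth.Agent.AlgSpLib.ValuationPoint
import Groth.Agent.AlgSpLib.UnivClosedQC
import Groth.Agent.AlgSpLib.NoethSpace
import Groth.Agent.AlgSpLib.FlatAt
import Groth.Agent.AlgSpLib.LocPMore
import Groth.Agent.ValExtLib.Scheme

/-!
Valuative criteria with discrete valuation rings over locally Noetherian spaces.
-/

universe u

open CategoryTheory CategoryTheory.Limits AlgebraicGeometry AlgSp IsLocalRing Topology

set_option backward.isDefEq.respectTransparency.types false

namespace Groth.Agent.AlgSpLib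

variable {S : Scheme.{u}} {F G F' G' : Sp S}

/-- squares over discrete valuation rings have lifts after an extension -/
def DvrExistVC (f : F ⟶ G) : Prop := ∀ sq : ValSq f, IsDiscreteValuationRing sq.A → sq.HasLiftExt

theorem dvrExistVC_of_isPullback {f : F ⟶ G} {g : G' ⟶ G} {fst : F' ⟶ F} {f' : F' ⟶ G'}
    (sqP : IsPullback fst f' f g) (h : DvrExistVC f) : DvrExistVC f' := by
  intro sq hA
  obtain ⟨A', _, _, _, K', _, _, _, φ, ψ, hc, hloc, l, h1, h2⟩ := hasLiftExt_raw (h
    { A := sq.A, K := sq.K, str := sq.str, top := sq.top ≫ fst, bot := sq.bot ≫ g,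
      comm := (comm_push sqP.w sq.comm).trans (Category.assoc _ _ _) } hA)
  obtain ⟨m, hm₁, hm₂⟩ := sqP.exists_lift l
    ((yon S).map (Over.homMk (Spec.map (CommRingCat.ofHom φ)) rfl :
      Over.mk (Spec.map (CommRingCat.ofHom φ) ≫ sq.str) ⟶ sq.ptA) ≫ sq.bot)
    (h2.trans (Category.assoc _ _ _).symm)
  refine ⟨{ A' := A', K' := K', φ := φ, ψ := ψ, comm := hc, isLocalHom := hloc }, m,
    sqP.hom_ext ?_ ?_, hm₂⟩
  · rw [Category.assoc, hm₁, Category.assoc]
    exact h1
  · rw [Category.assoc, hm₂, Category.assoc, sq.comm, ← Functor.map_comp_assoc,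
      ← Functor.map_comp_assoc]
    congr 2
    refine Over.OverMorphism.ext ?_
    show Spec.map _ ≫ Spec.map _ = Spec.map _ ≫ Spec.map _
    rw [← Spec.map_comp, ← Spec.map_comp, ← CommRingCat.ofHom_comp, ← CommRingCat.ofHom_comp, hc]

/-- over a locally Noetherian scheme the criterion for discrete valuation rings lifts
specializations -/
theorem exists_specialization_of_dvr (hF : IsAlgSpace F) {T : Over S} [IsLocallyNoetherian T.left]
    (p : F ⟶ (yon S).obj T) (hl : LocP @LocallyOfFiniteType p) (hv : DvrExistVC p)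
    (x : Points F) (t z : ↥T.left) (hz : Points.map p x = Points.ofScheme T z) (hzt : z ⤳ t) :
    ∃ y, x ⤳ y ∧ Points.map p y = Points.ofScheme T t := by
  by_cases hne : t = z
  · subst hne
    exact ⟨x, specializes_rfl, hz⟩
  obtain ⟨U₀, a, hae, has⟩ := hF.atlas
  obtain ⟨w, rfl⟩ := surjective_ofPt a has x
  obtain ⟨g, hg⟩ := (yon S).map_surjective (a ≫ p)
  have : LocallyOfFiniteType g.left :=
    hl a (𝟙 _) g hae (repWith_id _ T) (hg.symm.trans (Category.comp_id _).symm)
  have hgw : g.left w = z := (Points.schemeEquiv T).injective (by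
    refine ((map_yon_map_ofScheme g w).symm.trans ?_).trans hz
    rw [← Points.ofPt_eq_map_ofScheme, hg, Points.map_ofPt])
  subst hgw
  obtain ⟨V, hV, hVd, hVc, hVK⟩ :=
    Groth.Agent.ValExtLib.exists_dvr_valuationSubring g.left w hzt hne
  let sK : Spec (U₀.left.residueField w) ⟶ S := U₀.left.fromSpecResidueField w ≫ U₀.hom
  let κ : Type u := U₀.left.residueField w
  let iw : Over.mk sK ⟶ U₀ := Over.homMk (U₀.left.fromSpecResidueField w) rfl
  let a₀ : (yon S).obj (Over.mk sK) ⟶ F := (yon S).map iw ≫ a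
  have hx : ptOfHom (K := κ) a₀ = Points.ofPt a w := by
    refine (ofPt_eq_of_field (K := κ) a₀ (closedPoint κ)).symm.trans ?_
    rw [ofPt_map]
    exact congrArg _ (Scheme.fromSpecResidueField_apply w _)
  have hs : Spec.map (CommRingCat.ofHom (algebraMap V κ)) ≫ hV ≫ T.hom = sK := by
    show Spec.map (CommRingCat.ofHom V.subtype) ≫ hV ≫ T.hom = _
    rw [reassoc_of% hVK, Over.w g]
  let jV : Over.mk (hV ≫ T.hom) ⟶ T := Over.homMk hV rfl
  obtain ⟨A', _, _, _, K', _, _, _, φ, ψ, hc, hloc, l, h1, h2⟩ := hasLiftExt_raw (hv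
    { A := V, K := κ, str := hV ≫ T.hom
      top := (yon S).map (respec hs) ≫ a₀, bot := (yon S).map jV
      comm := by
        rw [Category.assoc, Category.assoc, ← hg, ← Functor.map_comp, ← Functor.map_comp,
          ← Functor.map_comp]
        refine congrArg _ (Over.OverMorphism.ext ?_)
        show 𝟙 _ ≫ U₀.left.fromSpecResidueField w ≫ g.left = Spec.map _ ≫ hV
        rw [Category.id_comp]
        exact hVK.symm } hVd)
  refine ⟨Points.ofPt l (closedPoint A'), ?_, ?_⟩
  · let jK : Over.mk (Spec.map (CommRingCat.ofHom (algebraMap A' K')) ≫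
        Spec.map (CommRingCat.ofHom φ) ≫ hV ≫ T.hom) ⟶
        Over.mk (Spec.map (CommRingCat.ofHom φ) ≫ hV ≫ T.hom) :=
      Over.homMk (Spec.map (CommRingCat.ofHom (algebraMap A' K'))) rfl
    have e : Points.ofPt l (jK.left (closedPoint K')) = Points.ofPt a w := by
      rw [← ofPt_map, h1, ← Functor.map_comp_assoc, ofPt_eq_of_field]
      exact (ptOfHom_map (K := κ) a₀ _).trans hx
    rw [← e]
    exact (specializes_closedPoint _).map (Points.continuous_ofPt l)
  · rw [Points.map_ofPt, h2, ← Functor.map_comp, Points.ofPt_eq_map_ofScheme, map_yon_map_ofScheme]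
    refine congrArg _ ?_
    show hV (Spec.map (CommRingCat.ofHom φ) (closedPoint A')) = t
    have h3 : Spec.map (CommRingCat.ofHom φ) (closedPoint A') = closedPoint V :=
      IsLocalRing.comap_closedPoint φ
    rw [h3, hVc]

/-- closedness of a map to a scheme is local on affine opens -/
theorem isClosedMap_of_affineOpens {T : Over S} (snd : F ⟶ (yon S).obj T)
    (h : ∀ U : T.left.Opens, IsAffineOpen U → IsClosedMap (Points.map (pullback.snd snd
      ((yon S).map (Over.homMk U.ι rfl : Over.mk (U.ι ≫ T.hom) ⟶ T))))) :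
    IsClosedMap (Points.map snd) := by
  intro C hC
  rw [← (Points.schemeHomeo T).isClosed_preimage,
    (AlgebraicGeometry.iSup_affineOpens_eq_top T.left |> TopologicalSpace.IsOpenCover.mk :
      TopologicalSpace.IsOpenCover fun U : T.left.affineOpens => U.1).isClosed_iff_coe_preimage]
  intro U
  let uo : Over S := Over.mk (U.1.ι ≫ T.hom)
  let iu : uo ⟶ T := Over.homMk U.1.ι rfl
  have sqU := IsPullback.of_hasPullback snd ((yon S).map iu)
  have h1 := (h U.1 U.2 _ (hC.preimage (Points.continuous_map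
    (pullback.fst snd ((yon S).map iu))))).preimage (Points.continuous_ofPt (𝟙 ((yon S).obj uo)))
  rw [← preimage_map_image sqU C] at h1
  have key : ∀ z : ↥U.1, Points.map ((yon S).map iu) (Points.ofScheme uo z) =
      Points.ofScheme T z.1 := fun z => map_yon_map_ofScheme iu z
  have e : (Points.ofPt (𝟙 ((yon S).obj uo)) ⁻¹'
      (Points.map ((yon S).map iu) ⁻¹' (Points.map snd '' C))) =
      ((↑) : ↥U.1 → ↥T.left) ⁻¹' (Points.schemeHomeo T ⁻¹' (Points.map snd '' C)) := by
    ext z
    show Points.map ((yon S).map iu) (Points.ofScheme uo z) ∈ Points.map snd '' C ↔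
      Points.ofScheme T z.1 ∈ Points.map snd '' C
    rw [key z]
  exact e ▸ h1

theorem isClosedMap_of_dvr (hF : IsAlgSpace F) {T : Over S} [IsLocallyNoetherian T.left]
    (p : F ⟶ (yon S).obj T) (hq : IsQuasiCompactMor p) (hl : LocP @LocallyOfFiniteType p)
    (hv : DvrExistVC p) : IsClosedMap (Points.map p) := by
  refine isClosedMap_of_affineOpens p fun U hU => ?_
  let uo : Over S := Over.mk (U.ι ≫ T.hom)
  have : IsAffine uo.left := hU
  have : IsLocallyNoetherian uo.left := isLocallyNoetherian_of_isOpenImmersion U.ι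
  have sqU := IsPullback.of_hasPullback p ((yon S).map (Over.homMk U.ι rfl : uo ⟶ T))
  have := compactSpace_of_isQuasiCompactMor hq sqU
  have hP : IsAlgSpace (pullback p ((yon S).map (Over.homMk U.ι rfl : uo ⟶ T))) :=
    isAlgSpace_of_isPullback (IsAlgSpace.yon_obj T).diag hF (IsAlgSpace.yon_obj uo) sqU
  exact isClosedMap_of_specializing hP _ fun x t z hz hzt => exists_specialization_of_dvr hP _
    (locP_of_isPullback etLocal_lft hF (IsAlgSpace.yon_obj T) hP sqU hl)
    (dvrExistVC_of_isPullback sqU hv) x t z hz hzt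

/-- the criterion for discrete valuation rings gives universal closedness -/
theorem isUnivClosedMor_of_dvrExistVC {X Y : Sp S} (hX : IsAlgSpace X) (hY : IsAlgSpace Y)
    {f : X ⟶ Y} (hft : IsFiniteTypeMor f) (hN : IsLocNoethSp Y) (hv : DvrExistVC f) :
    IsUnivClosedMor f := by
  obtain ⟨V, q, hqe, hqs⟩ := hY.atlas
  have := isLocallyNoetherian_of_chart hY hN q hqe
  refine isUnivClosedMor_of_affineSpace hX hY hft.2 q hqe hqs fun n P fst snd sq => ?_
  have : IsLocallyNoetherian
      (Over.mk ((𝔸(ULift.{u} (Fin n); V.left) ↘ V.left) ≫ V.hom)).left :=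
    LocallyOfFiniteType.isLocallyNoetherian (𝔸(ULift.{u} (Fin n); V.left) ↘ V.left)
  have hP : IsAlgSpace P := isAlgSpace_of_isPullback hY.diag hX (IsAlgSpace.yon_obj _) sq
  exact isClosedMap_of_dvr hP snd
    (isQuasiCompactMor_of_isPullback hX hY (IsAlgSpace.yon_obj _) sq hft.2)
    (locP_of_isPullback etLocal_lft hX hY hP sq hft.1) (dvrExistVC_of_isPullback sq hv)

theorem isLocNoethSp_of_lft {X Y : Sp S} (hX : IsAlgSpace X) (hY : IsAlgSpace Y) {f : X ⟶ Y}
    (hl : LocP @LocallyOfFiniteType f) (hN : IsLocNoethSp Y) : IsLocNoethSp X := by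
  obtain ⟨V, b, hbe, hbs⟩ := hY.atlas
  have := isLocallyNoetherian_of_chart hY hN b hbe
  obtain ⟨U, a, h, hae, has, w⟩ := exists_chart_over hX hY f b hbe hbs
  have : LocallyOfFiniteType h.left := hl a b h hae hbe w
  exact ⟨U, a, hae, has, LocallyOfFiniteType.isLocallyNoetherian h.left⟩

/-- a lift without extension is a lift with trivial extension -/
theorem hasLiftExt_of_lift {f : F ⟶ G} (sq : ValSq f) (l : (yon S).obj sq.ptA ⟶ F)
    (h1 : (yon S).map sq.j ≫ l = sq.top) (h2 : l ≫ f = sq.bot) : sq.HasLiftExt := by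
  refine hasLiftExt_mk sq sq.A sq.K (RingHom.id _) (RingHom.id _) rfl ⟨fun _ h => h⟩ sq.str
    (by rw [CommRingCat.ofHom_id, Spec.map_id, Category.id_comp]) l ?_ ?_
  · refine h1.trans ?_
    conv_lhs => rw [← Category.id_comp sq.top, ← (yon S).map_id]
    refine congrArg (fun k => (yon S).map k ≫ sq.top) (Over.OverMorphism.ext ?_)
    exact (Spec.map_id _).symm
  · refine h2.trans ?_
    conv_lhs => rw [← Category.id_comp sq.bot, ← (yon S).map_id]
    refine congrArg (fun k => (yon S).map k ≫ sq.bot) (Over.OverMorphism.ext ?_)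
    exact (Spec.map_id _).symm

theorem locP_lft_diagonal {X Y : Sp S} (hX : IsAlgSpace X) (f : X ⟶ Y) :
    LocP @LocallyOfFiniteType (pullback.diagonal f) :=
  locP_of_repWith etLocal_lft hX (repWith_diagonal f (repWith_diag_lft hX))

/-- separatedness from uniqueness of lifts over discrete valuation rings -/
theorem isSeparatedMor_of_dvrUniq {X Y : Sp S} (hX : IsAlgSpace X) (hY : IsAlgSpace Y) {f : X ⟶ Y}
    (hqs : IsQuasiSeparatedMor f) (hl : LocP @LocallyOfFiniteType f) (hN : IsLocNoethSp Y)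
    (hv : ∀ sq : ValSq f, IsDiscreteValuationRing sq.A → sq.HasUniq) : IsSeparatedMor f := by
  have sqF := IsPullback.of_hasPullback f f
  have hXX : IsAlgSpace (pullback f f) := isAlgSpace_of_isPullback hY.diag hX hX sqF
  have hlX := locP_of_isPullback etLocal_lft hX hY hXX sqF hl
  have hld := locP_lft_diagonal hX f
  refine closedImmersion_of_univClosed_mono_lft hX hXX ?_ hld
  refine isUnivClosedMor_of_dvrExistVC hX hXX
    ⟨hld, (repWith_quasiCompact_iff hX hXX (representable_diagonal hX f)).1 hqs⟩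
    (isLocNoethSp_of_lft hXX hX hlX (isLocNoethSp_of_lft hX hY hl hN)) fun sq hA => ?_
  have h1 : (yon S).map sq.j ≫ sq.bot ≫ pullback.fst f f = sq.top := by
    rw [← Category.assoc, ← sq.comm, Category.assoc, pullback.diagonal_fst, Category.comp_id]
  have h2 : (yon S).map sq.j ≫ sq.bot ≫ pullback.snd f f = sq.top := by
    rw [← Category.assoc, ← sq.comm, Category.assoc, pullback.diagonal_snd, Category.comp_id]
  have hw : (sq.bot ≫ pullback.fst f f) ≫ f = (sq.bot ≫ pullback.snd f f) ≫ f := by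
    rw [Category.assoc, Category.assoc, pullback.condition]
  have e : sq.bot ≫ pullback.fst f f = sq.bot ≫ pullback.snd f f :=
    hv { A := sq.A, K := sq.K, str := sq.str, top := sq.top, bot := (sq.bot ≫ pullback.fst f f) ≫ f,
         comm := (congrArg (· ≫ f) h1.symm).trans (Category.assoc _ _ _) }
      hA _ _ h1 rfl h2 hw.symm
  refine hasLiftExt_of_lift sq (sq.bot ≫ pullback.fst f f) h1 ?_
  apply pullback.hom_ext
  · rw [Category.assoc, pullback.diagonal_fst, Category.comp_id]
  · rw [Category.assoc, pullback.diagonal_snd, Category.comp_id]; exact e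

/-- a finite separable extension with a lift, bundled -/
theorem exists_domExt_of_lift {X Y : Sp S} {f : X ⟶ Y} (sq : ValSq f) {P : Sp S} {fst : P ⟶ X}
    {snd : P ⟶ (yon S).obj sq.ptA} (w : fst ≫ f = snd ≫ sq.bot)
    {σ : (yon S).obj sq.ptK ⟶ P} (hσ : σ ≫ fst = sq.top)
    (Ω : Type u) [Field Ω] [Algebra sq.A Ω] [Algebra sq.K Ω] [IsScalarTower sq.A sq.K Ω]
    (A' : ValuationSubring Ω) [Algebra sq.A A'] [IsScalarTower sq.A A' Ω]
    (l : (yon S).obj (specOver sq.str A') ⟶ P)
    (hfin : Module.Finite sq.K Ω) (hsep : Algebra.IsSeparable sq.K Ω)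
    (hloc : IsLocalHom (algebraMap sq.A A'))
    (hl : l ≫ snd = (yon S).map (specHom sq.str A'))
    (hlK : (yon S).map (specMap sq.str (IsScalarTower.toAlgHom sq.A A' Ω)) ≫ l =
      (yon S).map (specMap sq.str (IsScalarTower.toAlgHom sq.A sq.K Ω)) ≫ σ) :
    ∃ e : sq.DomExt, (IsDiscreteValuationRing A' → IsDiscreteValuationRing e.A') ∧
      (letI := e.ψ.toAlgebra; Module.Finite sq.K e.K' ∧ Algebra.IsSeparable sq.K e.K') ∧
      e.HasLift := by
  have hc : (algebraMap A' Ω).comp (algebraMap sq.A A') =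
      (algebraMap sq.K Ω).comp (algebraMap sq.A sq.K) := by
    rw [← IsScalarTower.algebraMap_eq, ← IsScalarTower.algebraMap_eq]
  refine ⟨{ A' := A', K' := Ω, φ := algebraMap sq.A A', ψ := algebraMap sq.K Ω,
            comm := hc, isLocalHom := hloc }, fun h => h, ?_, l ≫ fst, ?_, ?_⟩
  · show (letI := (algebraMap sq.K Ω).toAlgebra; Module.Finite sq.K Ω ∧ Algebra.IsSeparable sq.K Ω)
    rw [show (algebraMap sq.K Ω).toAlgebra = ‹Algebra sq.K Ω› from
      Algebra.algebra_ext _ _ fun _ => rfl]
    exact ⟨hfin, hsep⟩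
  · have hK2 : Spec.map (CommRingCat.ofHom (algebraMap A' Ω)) ≫
        Spec.map (CommRingCat.ofHom (algebraMap sq.A A')) ≫ sq.str =
        Spec.map (CommRingCat.ofHom (algebraMap sq.A Ω)) ≫ sq.str := spec_alg_w sq.str
    have h3 := congrArg (fun k => (yon S).map (respec hK2) ≫ k ≫ fst) hlK
    simp only [Category.assoc] at h3
    rw [hσ, ← Functor.map_comp_assoc, ← Functor.map_comp_assoc] at h3
    refine (congrArg (fun k => (yon S).map k ≫ l ≫ fst)
      (Over.OverMorphism.ext (Category.id_comp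
        (Spec.map (CommRingCat.ofHom (algebraMap A' Ω)))).symm)).trans (h3.trans ?_)
    exact congrArg (fun k => (yon S).map k ≫ sq.top) (Over.OverMorphism.ext
      (Category.id_comp (Spec.map (CommRingCat.ofHom (algebraMap sq.K Ω)))))
  · rw [Category.assoc, w, reassoc_of% hl]

/-- universally closed decent morphisms have lifts over finite separable extensions -/
theorem exists_finite_separable_of_univClosed {X Y : Sp S} (hX : IsAlgSpace X) (hY : IsAlgSpace Y)
    {f : X ⟶ Y} (hc : IsUnivClosedMor f) (hd : IsDecentMor f) (sq : ValSq f)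
    (hA : IsDiscreteValuationRing sq.A) :
    ∃ e : sq.DomExt, IsDiscreteValuationRing e.A' ∧
      (letI := e.ψ.toAlgebra; Module.Finite sq.K e.K' ∧ Algebra.IsSeparable sq.K e.K') ∧
      e.HasLift := by
  have sqP := IsPullback.of_hasPullback f sq.bot
  have hP := isAlgSpace_of_isPullback hY.diag hX (IsAlgSpace.yon_obj _) sqP
  obtain ⟨σ, hσ₁, hσ₂⟩ := sqP.exists_lift sq.top ((yon S).map sq.j) sq.comm
  have hx := hasQcPoint_of_isDecent (hd sq.bot _ _ sqP) (ptOfHom σ)
  obtain ⟨C, _, _, aC, u', u, hi, haC, hu', hsp, hu⟩ := exists_chart_generization hP _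
    (hc (IsAlgSpace.yon_obj _) sq.bot _ _ sqP) σ hσ₂ hx
  obtain ⟨Ω, _, _, _, _, A', _, _, l, hfin, hsep, hloc, hl, hlK⟩ :=
    exists_finite_separable_lift hP _ σ hσ₂ aC hi haC hu' hsp hu
  have := isDiscreteValuationRing_of_dominating sq.K A' hloc
  obtain ⟨e, he, he'⟩ := exists_domExt_of_lift sq sqP.w hσ₁ Ω A' l hfin hsep hloc hl hlK
  exact ⟨e, he this, he'⟩

end Groth.Agent.AlgSpLib
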