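import Groth.Agent.AlgSpLib.MonoLft
import Groth.Agent.AlgSpLib.SchemeDescent
import Groth.Agent.AlgSpLib.ValuativeDVR
import Groth.Agent.AlgSpLib.SchemeStage
import Groth.Agent.Stk19b.RedInd

/-!
A map whose composite with a quasi-separated map is affine is quasi-affine.
-/

universe u

open CategoryTheory CategoryTheory.Limits AlgebraicGeometry Opposite
open AlgSp

noncomputable section

set_option linter.style.haveILetI false

namespace Groth.Agent.AlgSpLib

set_option backward.isDefEq.respectTransparency.types false
set_option backward.isDefEq.respectTransparency false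

variable {S : Scheme.{u}}

theorem isQuasiAffineMor_of_comp_affine {X P Y : Sp S} {k : X ⟶ P} {q : P ⟶ Y} (hX : IsAlgSpace X) (hP : IsAlgSpace P)
    (hY : IsAlgSpace Y) (h : IsAffineMor (k ≫ q)) (hq : IsQuasiSeparatedMor q) : IsQuasiAffineMor k := by
  intro Z hZ t
  obtain ⟨A, i, afst, sqA, hA⟩ := h hZ (t ≫ q)
  haveI := hA
  have sqQ := IsPullback.of_hasPullback k t
  let m : pullback k t ⟶ (yon S).obj A := sqA.lift (pullback.fst k t) (pullback.snd k t)
    (by rw [← Category.assoc, pullback.condition, Category.assoc])
  let n : (yon S).obj A ⟶ pullback q q := pullback.lift (afst ≫ k) ((yon S).map i ≫ t)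
    (by rw [Category.assoc, sqA.w, Category.assoc])
  have sq : IsPullback (pullback.fst k t ≫ k) m (pullback.diagonal q) n := by
    refine isPullback_of_yon ?_ fun T x y e => ?_
    · apply pullback.hom_ext
      · simp only [Category.assoc, pullback.diagonal_fst, Category.comp_id, n, pullback.lift_fst]
        rw [← Category.assoc m, sqA.lift_fst]
      · simp only [Category.assoc, pullback.diagonal_snd, Category.comp_id, n, pullback.lift_snd]
        rw [← Category.assoc m, sqA.lift_snd, pullback.condition]
    · have e₁ : x = y ≫ afst ≫ k := by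
        simpa [n, pullback.lift_fst] using congrArg (· ≫ pullback.fst q q) e
      have e₂ : x = y ≫ (yon S).map i ≫ t := by
        simpa [n, pullback.lift_snd] using congrArg (· ≫ pullback.snd q q) e
      refine ⟨pullback.lift (y ≫ afst) (y ≫ (yon S).map i) (by rw [Category.assoc, Category.assoc, ← e₁, ← e₂]),
        ⟨by rw [← Category.assoc, pullback.lift_fst, Category.assoc, ← e₁], sqA.hom_ext ?_ ?_⟩, fun l hl => ?_⟩
      · rw [Category.assoc, sqA.lift_fst, pullback.lift_fst]
      · rw [Category.assoc, sqA.lift_snd, pullback.lift_snd]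
      · apply pullback.hom_ext
        · rw [pullback.lift_fst, ← hl.2, Category.assoc, sqA.lift_fst]
        · rw [pullback.lift_snd, ← hl.2, Category.assoc, sqA.lift_snd]
  have hPP : IsAlgSpace (pullback q q) := isAlgSpace_of_isPullback hY.diag hP hP (IsPullback.of_hasPullback q q)
  have hr := representable_diagonal hP q
  let W : Over S := hr.pullback n
  let ω : pullback k t ≅ (yon S).obj W := sq.isoIsPullback _ _ (hr.isPullback n)
  have hω : ω.inv ≫ m = (yon S).map (hr.snd n) := sq.isoIsPullback_inv_snd _ _ _
  haveI : QuasiCompact (hr.snd n).left := hq.property_snd n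
  haveI : CompactSpace ↥W.left := QuasiCompact.compactSpace_of_compactSpace (hr.snd n).left
  haveI : Mono ((yon S).map (hr.snd n)) := by
    haveI : Mono m := ⟨fun {T} a b e => pullback.hom_ext
      (by simpa [m, sqA.lift_fst] using congrArg (· ≫ afst) e)
      (by simpa [m, sqA.lift_snd] using congrArg (· ≫ (yon S).map i) e)⟩
    rw [← hω]
    infer_instance
  have hl : LocP @LocallyOfFiniteType ((yon S).map (hr.snd n)) :=
    locP_of_isPullback etLocal_lft hP hPP (IsAlgSpace.yon_obj W) (hr.isPullback n) (locP_lft_diagonal hP q)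
  obtain ⟨-, hsep, hlqf⟩ := mono_lft_package (IsAlgSpace.yon_obj W) (IsAlgSpace.yon_obj A) hl
  have hq' := locP_yon_map hlqf
  haveI : LocallyQuasiFinite (hr.snd n).left := hq'.1
  haveI : LocallyOfFiniteType (hr.snd n).left := hq'.2
  haveI : IsSeparated (hr.snd n).left := (isSeparatedMor_yon_map_iff _).1 hsep
  refine ⟨W, hr.snd n ≫ i, ω.inv ≫ pullback.fst k t, ?_, isQuasiAffine_of_lqf (hr.snd n).left⟩
  refine sqQ.of_iso ω (Iso.refl _) (Iso.refl _) (Iso.refl _) (by simp) ?_ (by simp) (by simp)
  simp only [Iso.refl_hom, Category.comp_id, Functor.map_comp, ← hω, Category.assoc, Iso.hom_inv_id_assoc]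
  exact (sqA.lift_snd _ _ _).symm

end Groth.Agent.AlgSpLib
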