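import Groth.Agent.Stk19b.InvSub
import Groth.Agent.AlgSpLib.MorMore2
import Groth.Agent.AlgSpLib.Pres
import Groth.Prelude.Def_AlgSpSub
import Mathlib.AlgebraicGeometry.IdealSheaf.Functorial

/-!
Closed subspaces of algebraic spaces and their ideals on charts.
-/

universe u

open CategoryTheory CategoryTheory.Limits AlgebraicGeometry
open AlgSp

noncomputable section

namespace Groth.Agent.AlgSpLib

set_option backward.isDefEq.respectTransparency.types false

theorem ker_of_isPullback_closedImmersion {Z' Z X Y : Scheme.{u}} {iX : Z' ⟶ X} {w : Z' ⟶ Z} {f : X ⟶ Y}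
    {iY : Z ⟶ Y} (h : IsPullback iX w f iY) [IsClosedImmersion iY] : iX.ker = iY.ker.comap f := by
  rw [← Scheme.IdealSheafData.ker_fst_of_isClosedImmersion, ← Scheme.Hom.ker_comp_of_isIso h.isoPullback.hom,
    h.isoPullback_hom_fst]

variable {S : Scheme.{u}} {F G Z Z' : Sp S}

/-- the ideal of a closed subspace on a chart -/
def chartIdeal {i : Z ⟶ G} (hi : RepWith @IsClosedImmersion i) {V : Over S} (a : (yon S).obj V ⟶ G) :
    V.left.IdealSheafData :=
  (hi.1.snd a).left.ker

theorem mono_closedImmersion {i : Z ⟶ G} (hi : RepWith @IsClosedImmersion i) : Mono i :=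
  mono_of_repWith (fun _ _ g (_ : IsClosedImmersion g) => (inferInstance : Mono g)) hi

theorem epi_of_etale_surjective {a : F ⟶ G} (he : RepWith @Etale a) (hs : RepWith @Surjective a) : Epi a := by
  have := isLocallySurjective_of_repWith
    (RepWith.mono (fun _ _ g (_ : Etale g) => (inferInstance : Flat g)) he)
    (RepWith.mono (fun _ _ g (_ : Etale g) => (inferInstance : LocallyOfFinitePresentation g)) he) hs
  exact Sheaf.epi_of_isLocallySurjective _

theorem chartIdeal_eq_of_isPullback {i : Z ⟶ G} (hi : RepWith @IsClosedImmersion i) {V W : Over S}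
    {a : (yon S).obj V ⟶ G} {w : W ⟶ V} {fst : (yon S).obj W ⟶ Z}
    (sq : IsPullback fst ((yon S).map w) i a) : chartIdeal hi a = w.left.ker := by
  obtain ⟨e, he⟩ := (yon S).map_surjective (sq.isoIsPullback _ _ (hi.1.isPullback a)).hom
  have he' : IsIso e := by
    have : IsIso ((yon S).map e) := by rw [he]; infer_instance
    exact isIso_of_fully_faithful (yon S) e
  have hw : e ≫ hi.1.snd a = w := (yon S).map_injective (by
    rw [Functor.map_comp, he, IsPullback.isoIsPullback_hom_snd])
  have : IsIso e.left := inferInstanceAs (IsIso ((Over.forget S).map e))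
  rw [← hw, Over.comp_left, Scheme.Hom.ker_comp_of_isIso]
  rfl

theorem chartIdeal_comp {i : Z ⟶ G} (hi : RepWith @IsClosedImmersion i) {V V' : Over S} (g : V' ⟶ V)
    (a : (yon S).obj V ⟶ G) : chartIdeal hi ((yon S).map g ≫ a) = (chartIdeal hi a).comap g.left := by
  have sq := hi.1.isPullback a
  have sq' := hi.1.isPullback ((yon S).map g ≫ a)
  obtain ⟨l, hl⟩ := (yon S).map_surjective (sq.lift (hi.1.fst ((yon S).map g ≫ a))
    ((yon S).map (hi.1.snd ((yon S).map g ≫ a)) ≫ (yon S).map g) (by rw [sq'.w, Category.assoc]))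
  have h1 : hi.1.snd ((yon S).map g ≫ a) ≫ g = l ≫ hi.1.snd a :=
    (yon S).map_injective (by rw [Functor.map_comp, Functor.map_comp, hl, sq.lift_snd])
  have s1 : IsPullback ((yon S).map l) ((yon S).map (hi.1.snd ((yon S).map g ≫ a)))
      ((yon S).map (hi.1.snd a)) ((yon S).map g) := by
    refine IsPullback.of_right ?_ (by rw [← Functor.map_comp, ← Functor.map_comp, h1]) sq
    rw [hl, sq.lift_fst]
    exact sq'
  have s2 := (IsPullback.of_map (yon S) h1.symm s1).map (Over.forget S)
  have : IsClosedImmersion (hi.1.snd a).left := hi.property_snd a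
  exact ker_of_isPullback_closedImmersion s2.flip

theorem factors_yon_iff {i : Z ⟶ G} (hi : RepWith @IsClosedImmersion i) {V : Over S} (a : (yon S).obj V ⟶ G) :
    (∃ l, l ≫ i = a) ↔ chartIdeal hi a = ⊥ := by
  have sq := hi.1.isPullback a
  have : IsClosedImmersion (hi.1.snd a).left := hi.property_snd a
  constructor
  · rintro ⟨l, hl⟩
    obtain ⟨s, hs⟩ := (yon S).map_surjective (sq.lift l (𝟙 _) (by rw [Category.id_comp, hl]))
    have e : s ≫ hi.1.snd a = 𝟙 _ := (yon S).map_injective (by
      rw [Functor.map_comp, hs, sq.lift_snd, (yon S).map_id])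
    have : IsSplitEpi (hi.1.snd a).left :=
      IsSplitEpi.mk' ⟨s.left, by rw [← Over.comp_left, e]; rfl⟩
    have : Mono (hi.1.snd a).left := inferInstance
    have : IsIso (hi.1.snd a).left := isIso_of_mono_of_isSplitEpi _
    exact Scheme.Hom.ker_eq_bot_of_isIso _
  · intro h
    have : IsIso (hi.1.snd a).left := IsClosedImmersion.isIso_iff_ker_eq_bot.2 h
    have : IsIso ((Over.forget S).map (hi.1.snd a)) := ‹IsIso (hi.1.snd a).left›
    have : IsIso (hi.1.snd a) := isIso_of_reflects_iso _ (Over.forget S)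
    exact ⟨inv ((yon S).map (hi.1.snd a)) ≫ hi.1.fst a, by rw [Category.assoc, sq.w, IsIso.inv_hom_id_assoc]⟩

theorem comap_eq_bot_iff_le_ker {X Y : Scheme.{u}} (f : X ⟶ Y) (J : Y.IdealSheafData) :
    J.comap f = ⊥ ↔ J ≤ f.ker := by
  rw [← Scheme.IdealSheafData.map_bot, Scheme.IdealSheafData.le_map_iff_comap_le, le_bot_iff]

theorem factors_comp_iff {i : Z ⟶ G} (hi : RepWith @IsClosedImmersion i) {V V' : Over S} (g : V' ⟶ V)
    (a : (yon S).obj V ⟶ G) : (∃ l, l ≫ i = (yon S).map g ≫ a) ↔ chartIdeal hi a ≤ g.left.ker := by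
  rw [factors_yon_iff hi, chartIdeal_comp, comap_eq_bot_iff_le_ker]

/-- factoring through a closed subspace can be checked after an epimorphism -/
theorem factors_of_epi {i : Z ⟶ G} (hi : RepWith @IsClosedImmersion i) {A : Sp S} (a : A ⟶ F) [Epi a]
    {f : F ⟶ G} (h : ∃ l, l ≫ i = a ≫ f) : ∃ l, l ≫ i = f := by
  obtain ⟨l, hl⟩ := h
  have := mono_closedImmersion hi
  have sq := IsPullback.of_hasPullback i f
  have e : sq.lift l a hl ≫ pullback.snd i f = a := sq.lift_snd _ _ _
  have : Epi (sq.lift l a hl ≫ pullback.snd i f) := by rw [e]; infer_instance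
  have : Epi (pullback.snd i f) := epi_of_epi (sq.lift l a hl) _
  have : IsIso (pullback.snd i f) := isIso_of_mono_of_epi _
  exact ⟨inv (pullback.snd i f) ≫ pullback.fst i f, by rw [Category.assoc, sq.w, IsIso.inv_hom_id_assoc]⟩

/-- a morphism factors through a closed subspace iff the chart ideal is killed on a chart of the source -/
theorem factors_iff_of_chart {i : Z ⟶ G} (hi : RepWith @IsClosedImmersion i) {f : F ⟶ G} {U V : Over S}
    {a : (yon S).obj U ⟶ F} (he : RepWith @Etale a) (hs : RepWith @Surjective a) {p : (yon S).obj V ⟶ G}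
    (g : U ⟶ V) (w : a ≫ f = (yon S).map g ≫ p) : (∃ l, l ≫ i = f) ↔ chartIdeal hi p ≤ g.left.ker := by
  have := epi_of_etale_surjective he hs
  rw [← factors_comp_iff hi g p, ← w]
  exact ⟨fun ⟨l, hl⟩ => ⟨a ≫ l, by rw [Category.assoc, hl]⟩, factors_of_epi hi a⟩

/-- inclusion of closed subspaces is read off on an atlas -/
theorem factors_closed_iff {i : Z ⟶ G} (hi : RepWith @IsClosedImmersion i) {i' : Z' ⟶ G}
    (hi' : RepWith @IsClosedImmersion i') {V : Over S} {p : (yon S).obj V ⟶ G}
    (he : RepWith @Etale p) (hs : RepWith @Surjective p) :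
    (∃ k, k ≫ i' = i) ↔ chartIdeal hi' p ≤ chartIdeal hi p := by
  have sq := hi.1.isPullback p
  exact factors_iff_of_chart hi' (RepWith.baseChange sq.flip he) (RepWith.baseChange sq.flip hs)
    (hi.1.snd p) sq.w

theorem chartIdeal_invariant {i : Z ⟶ G} (hi : RepWith @IsClosedImmersion i) {T V : Over S}
    {p : (yon S).obj V ⟶ G} {x y : T ⟶ V} (h : (yon S).map x ≫ p = (yon S).map y ≫ p) :
    (chartIdeal hi p).comap x.left = (chartIdeal hi p).comap y.left := by
  rw [← chartIdeal_comp, ← chartIdeal_comp, h]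

/-- an invariant ideal on an atlas cuts out a closed subspace -/
theorem exists_closedSub (hG : IsAlgSpace G) {V : Over S} {p : (yon S).obj V ⟶ G}
    (he : RepWith @Etale p) (hs : RepWith @Surjective p) (I : V.left.IdealSheafData)
    (h : ∀ (T : Over S) (x y : T ⟶ V), (yon S).map x ≫ p = (yon S).map y ≫ p →
      I.comap x.left = I.comap y.left) :
    ∃ (Z : Sp S) (i : Z ⟶ G) (hi : RepWith @IsClosedImmersion i) (_ : IsAlgSpace Z),
      chartIdeal hi p = I := by
  obtain ⟨R, s, t, sq⟩ : ∃ (R : Over S) (s t : R ⟶ V), IsPullback ((yon S).map t) ((yon S).map s) p p :=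
    ⟨he.1.pullback p, he.1.snd p, he.1.fst' p, he.1.isPullback' p⟩
  have hp : IsPresentation s t p := isPresentation_of_isPullback he hs sq
  have hst := h R s t sq.w.symm
  let i' : Over.mk (I.subschemeι ≫ V.hom) ⟶ V := Over.homMk I.subschemeι
  have hk : (pullback.fst s.left I.subschemeι).ker = (pullback.fst t.left I.subschemeι).ker := by
    rw [Scheme.IdealSheafData.ker_fst_of_isClosedImmersion, Scheme.IdealSheafData.ker_fst_of_isClosedImmersion,
      Scheme.IdealSheafData.ker_subschemeι, hst]
  let e : pullback s.left I.subschemeι ⟶ pullback t.left I.subschemeι :=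
    IsClosedImmersion.lift (pullback.fst t.left I.subschemeι) (pullback.fst s.left I.subschemeι) hk.ge
  have he' : e ≫ pullback.fst t.left I.subschemeι = pullback.fst s.left I.subschemeι :=
    IsClosedImmersion.lift_fac _ _ _
  have : IsIso e := IsClosedImmersion.isIso_of_ker_eq _ _ e he' hk
  let R' : Over S := Over.mk (pullback.fst s.left I.subschemeι ≫ R.hom)
  let k : R' ⟶ R := Over.homMk (pullback.fst s.left I.subschemeι)
  let s' : R' ⟶ Over.mk (I.subschemeι ≫ V.hom) := Over.homMk (pullback.snd s.left I.subschemeι) (by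
    show _ ≫ I.subschemeι ≫ V.hom = _ ≫ R.hom
    rw [← pullback.condition_assoc, Over.w])
  let t' : R' ⟶ Over.mk (I.subschemeι ≫ V.hom) := Over.homMk (e ≫ pullback.snd t.left I.subschemeι) (by
    show (e ≫ _) ≫ I.subschemeι ≫ V.hom = _ ≫ R.hom
    rw [Category.assoc, ← pullback.condition_assoc, Over.w, ← Category.assoc, he'])
  have ht : IsPullback k.left t'.left t.left i'.left :=
    (IsPullback.of_hasPullback t.left I.subschemeι).of_iso (asIso e).symm (Iso.refl _) (Iso.refl _) (Iso.refl _)
      (by simp [k, ← he']) (by simp [t']) (by simp) (by simp [i'])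
  have : IsImmersion i'.left := inferInstanceAs (IsImmersion I.subschemeι)
  obtain ⟨Z, hZ, j, q, -, hsq, hc, -⟩ := Stk19b.InvSub.repWith_immersion_of_desc (i := i') (k := k) (s' := s')
    (t' := t') hp
    (IsPullback.of_map (Over.forget S) (Over.OverMorphism.ext pullback.condition)
      (IsPullback.of_hasPullback s.left I.subschemeι))
    (IsPullback.of_map (Over.forget S) (Over.OverMorphism.ext ht.w) ht)
  refine ⟨Z, j, hc (inferInstanceAs (IsClosedImmersion I.subschemeι)), hZ, ?_⟩
  rw [chartIdeal_eq_of_isPullback _ hsq]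
  exact Scheme.IdealSheafData.ker_subschemeι I

end Groth.Agent.AlgSpLib
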