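import Groth.Agent.AlgSpLib.YonCoprod
import Groth.Agent.AlgSpLib.PointsTop
import Mathlib.AlgebraicGeometry.RelativeGluing
import Mathlib.AlgebraicGeometry.Cover.Directed

/-!
Representability of a morphism of sheaves can be checked over affine schemes.
-/

universe u

open CategoryTheory CategoryTheory.Limits AlgebraicGeometry Opposite
open AlgSp

noncomputable section

namespace Groth.Agent.AlgSpLib

set_option backward.isDefEq.respectTransparency.types false

variable {S : Scheme.{u}}

section cover

variable {ι : Type u} {T : Over S} {W : ι → Over S} (c : ∀ i, W i ⟶ T) [∀ i, Flat (c i).left]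
  [∀ i, LocallyOfFinitePresentation (c i).left]

theorem yon_hom_ext_of_cover (hc : ∀ z : T.left, ∃ i, z ∈ Set.range (c i).left) {X : Sp S}
    (a b : (yon S).obj T ⟶ X) (h : ∀ i, (yon S).map (c i) ≫ a = (yon S).map (c i) ≫ b) : a = b := by
  refine (J S).uliftYonedaEquiv.injective ?_
  refine ((isSheaf_iff_isSheaf_of_type _ _).1 X.property _ (ofArrows_mem_J c hc)).isSeparatedFor.ext
    fun Y f hf => ?_
  obtain ⟨_, p, _, ⟨i⟩, rfl⟩ := hf
  rw [op_comp, Functor.map_comp_apply, Functor.map_comp_apply]
  refine congrArg (X.obj.map p.op) ?_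
  rw [GrothendieckTopology.uliftYonedaEquiv_naturality,
    GrothendieckTopology.uliftYonedaEquiv_naturality, h]

theorem yon_exists_glue (hc : ∀ z : T.left, ∃ i, z ∈ Set.range (c i).left) {X : Sp S}
    (s : ∀ i, (yon S).obj (W i) ⟶ X)
    (hs : ∀ i j (Z : Over S) (a : Z ⟶ W i) (b : Z ⟶ W j), a ≫ c i = b ≫ c j →
      (yon S).map a ≫ s i = (yon S).map b ≫ s j) :
    ∃ t : (yon S).obj T ⟶ X, ∀ i, (yon S).map (c i) ≫ t = s i := by
  have hsh : (Presieve.ofArrows W c).IsSheafFor X.obj :=
    (Presieve.isSheafFor_iff_generate _).2 ((isSheaf_iff_isSheaf_of_type _ _).1 X.property _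
      (ofArrows_mem_J c hc))
  obtain ⟨t, ht, -⟩ := (Presieve.isSheafFor_arrows_iff _ _).1 hsh
    (fun i => (J S).uliftYonedaEquiv (s i)) (fun i j Z a b e => by
      rw [GrothendieckTopology.uliftYonedaEquiv_naturality,
        GrothendieckTopology.uliftYonedaEquiv_naturality, hs i j Z a b e])
  refine ⟨(J S).uliftYonedaEquiv.symm t, fun i => (J S).uliftYonedaEquiv.injective ?_⟩
  rw [← GrothendieckTopology.uliftYonedaEquiv_naturality, Equiv.apply_symm_apply]
  exact ht i

end cover

/-- restriction of an object over `S` to an open -/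
def restrictOver (Z : Over S) (O : Z.left.Opens) : Over S := Over.mk (O.ι ≫ Z.hom)

/-- its inclusion -/
def restrictOverι (Z : Over S) (O : Z.left.Opens) : restrictOver Z O ⟶ Z := Over.homMk O.ι

instance (Z : Over S) (O : Z.left.Opens) : IsOpenImmersion (restrictOverι Z O).left :=
  inferInstanceAs (IsOpenImmersion O.ι)

theorem range_restrictOverι (Z : Over S) (O : Z.left.Opens) :
    Set.range (restrictOverι Z O).left = O := Scheme.Opens.range_ι O

theorem exists_affine_mem {X : Scheme.{u}} {x : X} {O : X.Opens} (hx : x ∈ O) :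
    ∃ U : X.affineOpens, x ∈ U.1 ∧ U.1 ≤ O := by
  obtain ⟨_, ⟨U, hU, rfl⟩, h1, h2⟩ :=
    X.isBasis_affineOpens.exists_subset_of_mem_open (SetLike.mem_coe.2 hx) O.isOpen
  exact ⟨⟨U, hU⟩, h1, h2⟩

/-- representability can be checked over affine schemes -/
theorem representable_of_affine {F G : Sp S} (f : F ⟶ G)
    (h : ∀ (T : Over S), IsAffine T.left → ∀ (t : (yon S).obj T ⟶ G),
      ∃ (W : Over S) (w : W ⟶ T) (fst : (yon S).obj W ⟶ F), IsPullback fst ((yon S).map w) f t) :
    Representable f := by
  intro T t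
  let TU : T.left.directedAffineCover.I₀ → Over S := fun U => restrictOver T (U : T.left.affineOpens).1
  let u : ∀ U, TU U ⟶ T := fun U => restrictOverι T (U : T.left.affineOpens).1
  choose W w fst sq using fun U : T.left.directedAffineCover.I₀ =>
    h (TU U) (U : T.left.affineOpens).2 ((yon S).map (u U) ≫ t)
  let m : ∀ {U V : T.left.directedAffineCover.I₀}, (U ⟶ V) → (TU U ⟶ TU V) := fun {U V} hUV =>
    Over.homMk (T.left.homOfLE (show (U : T.left.affineOpens).1 ≤ (V : T.left.affineOpens).1 from leOfHom hUV))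
      (Scheme.homOfLE_ι_assoc _ (show (U : T.left.affineOpens).1 ≤ (V : T.left.affineOpens).1 from leOfHom hUV) T.hom)
  have hm : ∀ {U V : T.left.directedAffineCover.I₀} (hUV : U ⟶ V), m hUV ≫ u V = u U := fun {U V} hUV =>
    Over.OverMorphism.ext (Scheme.homOfLE_ι _
      (show (U : T.left.affineOpens).1 ≤ (V : T.left.affineOpens).1 from leOfHom hUV))
  have humono : ∀ U, Mono (u U) := fun U => (Over.forget S).mono_of_mono_map
    (f := u U) (inferInstanceAs (Mono (U : T.left.affineOpens).1.ι))
  have ext_W : ∀ (V : T.left.directedAffineCover.I₀) (K : Over S) (a b : K ⟶ W V), a ≫ w V ≫ u V = b ≫ w V ≫ u V →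
      (yon S).map a ≫ fst V = (yon S).map b ≫ fst V → a = b := fun V K a b h1 h2 =>
    (yon S).map_injective ((sq V).hom_ext h2 (by
      have := humono V
      have e : a ≫ w V = b ≫ w V :=
        (cancel_mono (u V)).1 (by rw [Category.assoc, Category.assoc]; exact h1)
      rw [← Functor.map_comp, ← Functor.map_comp, e]))
  have hψ : ∀ {U V : T.left.directedAffineCover.I₀} (hUV : U ⟶ V), ∃ ψ : W U ⟶ W V,
      (yon S).map ψ ≫ fst V = fst U ∧ ψ ≫ w V = w U ≫ m hUV := fun {U V} hUV => by
    obtain ⟨ψ, hψ⟩ := (yon S).map_surjective ((sq V).lift (fst U) ((yon S).map (w U ≫ m hUV)) (by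
      rw [(sq U).w, ← Functor.map_comp_assoc, ← Functor.map_comp_assoc, Category.assoc, hm hUV]))
    exact ⟨ψ, by rw [hψ]; exact (sq V).lift_fst _ _ _, (yon S).map_injective (by
      rw [Functor.map_comp, hψ]; exact (sq V).lift_snd _ _ _)⟩
  choose ψ hψf hψw using @hψ
  have hψu : ∀ {U V : T.left.directedAffineCover.I₀} (hUV : U ⟶ V), ψ hUV ≫ w V ≫ u V = w U ≫ u U := fun hUV => by
    rw [← Category.assoc, hψw hUV, Category.assoc, hm hUV]
  let Wf : T.left.directedAffineCover.I₀ ⥤ Scheme.{u} :=
    { obj := fun U => (W U).left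
      map := fun hUV => (ψ hUV).left
      map_id := fun U => by
        rw [ext_W U _ (ψ (𝟙 U)) (𝟙 _) (by rw [hψu, Category.id_comp])
          (by rw [hψf]; erw [(yon S).map_id, Category.id_comp])]
        rfl
      map_comp := fun {U V X} a b => by
        rw [ext_W X _ (ψ (a ≫ b)) (ψ a ≫ ψ b) (by rw [hψu, Category.assoc, hψu, hψu])
          (by rw [hψf, Functor.map_comp, Category.assoc, hψf, hψf])]
        rfl }
  let d : T.left.directedAffineCover.RelativeGluingData :=
    { functor := Wf
      natTrans :=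
        { app := fun U => (w U).left
          naturality := fun U V hUV => congrArg Over.Hom.left (hψw hUV) }
      equifibered := fun U V hUV => by
        have hsq : IsPullback ((yon S).map (ψ hUV)) ((yon S).map (w U)) ((yon S).map (w V))
            ((yon S).map (m hUV)) := by
          refine IsPullback.of_right ?_ (by rw [← Functor.map_comp, ← Functor.map_comp, hψw]) (sq V)
          rw [hψf hUV, ← Functor.map_comp_assoc, hm hUV]
          exact sq U
        exact (IsPullback.of_map (yon S) (hψw hUV) hsq).map (Over.forget S) }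
  haveI h₁ : (d.functor ⋙ Scheme.forget).IsLocallyDirected :=
    Scheme.Cover.RelativeGluingData.instIsLocallyDirectedI₀CompFunctorForgetOfIsThin ..
  haveI h₃ : Quiver.IsThin T.left.directedAffineCover.I₀ := inferInstance
  haveI h₄ : Small.{u} T.left.directedAffineCover.I₀ := inferInstance
  haveI h₅ : ∀ {a b : T.left.directedAffineCover.I₀} (e : a ⟶ b), IsOpenImmersion (d.functor.map e) := fun e =>
    MorphismProperty.of_isPullback (P := @IsOpenImmersion) (d.equifibered e).flip
      (inferInstanceAs (IsOpenImmersion (T.left.directedAffineCover.trans e)))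
  haveI h₂ : HasColimit d.functor := inferInstance
  let W' : Over S := Over.mk (d.toBase ≫ T.hom)
  let π : W' ⟶ T := Over.homMk d.toBase
  let j : ∀ U : T.left.directedAffineCover.I₀, W U ⟶ W' := fun U => Over.homMk (colimit.ι d.functor U) (by
    show colimit.ι d.functor U ≫ d.toBase ≫ T.hom = _
    rw [d.ι_toBase_assoc]
    exact Over.w (w U))
  have hj : ∀ U, j U ≫ π = w U ≫ u U := fun U => Over.OverMorphism.ext (d.ι_toBase U)
  have hjc : ∀ {U V : T.left.directedAffineCover.I₀} (hUV : U ⟶ V), ψ hUV ≫ j V = j U := fun hUV =>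
    Over.OverMorphism.ext (colimit.w d.functor hUV)
  have hjo : ∀ U, IsOpenImmersion (j U).left := fun U =>
    inferInstanceAs (IsOpenImmersion (d.cover.f U))
  have hjpb : ∀ U, IsPullback (w U) (j U) (u U) π := fun U =>
    IsPullback.of_map (Over.forget S) (hj U).symm (d.isPullback_natTrans_ι_toBase U)
  have hjcov : ∀ z : W'.left, ∃ U, z ∈ Set.range (j U).left := fun z => by
    obtain ⟨U, y, hy⟩ := d.cover.exists_eq z
    exact ⟨U, y, hy⟩
  -- the first projection
  obtain ⟨fst', hfst⟩ := yon_exists_glue j hjcov fst (fun U V Z a b e => by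
    let p : Z ⟶ T := a ≫ w U ≫ u U
    have hp : p = b ≫ w V ≫ u V := by
      show a ≫ w U ≫ u U = _
      rw [← hj, ← hj, ← Category.assoc, e, Category.assoc]
    let O : ∀ K : { K : T.left.directedAffineCover.I₀ // K ≤ U ∧ K ≤ V }, Z.left.Opens := fun K =>
      p.left ⁻¹ᵁ (K.1 : T.left.affineOpens).1
    refine yon_hom_ext_of_cover (fun K => restrictOverι Z (O K)) (fun z => ?_) _ _ fun K => ?_
    · have h1 : p.left z ∈ (U : T.left.affineOpens).1 ⊓ (V : T.left.affineOpens).1 :=
        ⟨((w U).left (a.left z)).2, by rw [hp]; exact ((w V).left (b.left z)).2⟩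
      obtain ⟨K, hK, hle⟩ := exists_affine_mem h1
      exact ⟨⟨K, hle.trans inf_le_left, hle.trans inf_le_right⟩,
        (range_restrictOverι _ _).ge hK⟩
    · let k : restrictOver Z (O K) ⟶ TU K.1 := Over.homMk (p.left ∣_ (K.1 : T.left.affineOpens).1) (by
        show _ ≫ (K.1 : T.left.affineOpens).1.ι ≫ T.hom = _
        exact (morphismRestrict_ι_assoc _ _ _).trans (congrArg _ (Over.w p)))
      have hk : k ≫ u K.1 = restrictOverι Z (O K) ≫ p := Over.OverMorphism.ext (morphismRestrict_ι _ _)
      obtain ⟨l, hl, hl'⟩ := (hjpb K.1).exists_lift k (restrictOverι Z (O K) ≫ a ≫ j U) (by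
        rw [hk, Category.assoc, Category.assoc, hj])
      have eU : l ≫ ψ (homOfLE K.2.1) = restrictOverι Z (O K) ≫ a := by
        have : Mono (j U) := (Over.forget S).mono_of_mono_map (f := j U)
          (show Mono (j U).left from inferInstance)
        rw [← cancel_mono (j U), Category.assoc, hjc, hl', Category.assoc]
      have eV : l ≫ ψ (homOfLE K.2.2) = restrictOverι Z (O K) ≫ b := by
        have : Mono (j V) := (Over.forget S).mono_of_mono_map (f := j V)
          (show Mono (j V).left from inferInstance)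
        rw [← cancel_mono (j V), Category.assoc, hjc, hl', e, Category.assoc]
      rw [← Functor.map_comp_assoc, ← Functor.map_comp_assoc, ← eU, ← eV, Functor.map_comp,
        Functor.map_comp, Category.assoc, Category.assoc, hψf, hψf])
  have hw : fst' ≫ f = (yon S).map π ≫ t := by
    refine yon_hom_ext_of_cover j hjcov _ _ fun U => ?_
    rw [← Category.assoc, hfst, (sq U).w, ← Functor.map_comp_assoc, ← Functor.map_comp_assoc, hj]
  have uniq : ∀ (Z : Over S) (a b : Z ⟶ W'), a ≫ π = b ≫ π →
      (yon S).map a ≫ fst' = (yon S).map b ≫ fst' → a = b := fun Z a b h1 h2 => by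
    refine (yon S).map_injective ?_
    let p : Z ⟶ T := a ≫ π
    let O : T.left.directedAffineCover.I₀ → Z.left.Opens := fun U => p.left ⁻¹ᵁ (U : T.left.affineOpens).1
    refine yon_hom_ext_of_cover (fun U => restrictOverι Z (O U)) (fun z => ?_) _ _ fun U => ?_
    · obtain ⟨K, hK, -⟩ := exists_affine_mem (O := ⊤) (x := p.left z) trivial
      exact ⟨K, (range_restrictOverι _ _).ge hK⟩
    · let k : restrictOver Z (O U) ⟶ TU U := Over.homMk (p.left ∣_ (U : T.left.affineOpens).1) (by
        show _ ≫ (U : T.left.affineOpens).1.ι ≫ T.hom = _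
        exact (morphismRestrict_ι_assoc _ _ _).trans (congrArg _ (Over.w p)))
      have hk : k ≫ u U = restrictOverι Z (O U) ≫ p := Over.OverMorphism.ext (morphismRestrict_ι _ _)
      obtain ⟨la, hla, hla'⟩ := (hjpb U).exists_lift k (restrictOverι Z (O U) ≫ a) (by
        rw [hk, Category.assoc])
      obtain ⟨lb, hlb, hlb'⟩ := (hjpb U).exists_lift k (restrictOverι Z (O U) ≫ b) (by
        rw [hk, Category.assoc, ← h1])
      have : la = lb := ext_W U _ la lb
        (by rw [← Category.assoc, hla, ← Category.assoc, hlb]) (by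
          rw [← hfst, ← Functor.map_comp_assoc, ← Functor.map_comp_assoc, hla', hlb',
            Functor.map_comp, Functor.map_comp, Category.assoc, Category.assoc, h2])
      rw [← Functor.map_comp, ← Functor.map_comp, ← hla', ← hlb', this]
  refine ⟨W', π, fst', isPullback_of_yon hw fun K x y e => ?_⟩
  obtain ⟨y, rfl⟩ := (yon S).map_surjective y
  let O : T.left.directedAffineCover.I₀ → K.left.Opens := fun U => y.left ⁻¹ᵁ (U : T.left.affineOpens).1
  have hl : ∀ U, ∃ l : restrictOver K (O U) ⟶ W',
      (yon S).map l ≫ fst' = (yon S).map (restrictOverι K (O U)) ≫ x ∧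
        l ≫ π = restrictOverι K (O U) ≫ y := fun U => by
    let k : restrictOver K (O U) ⟶ TU U := Over.homMk (y.left ∣_ (U : T.left.affineOpens).1) (by
      show _ ≫ (U : T.left.affineOpens).1.ι ≫ T.hom = _
      exact (morphismRestrict_ι_assoc _ _ _).trans (congrArg _ (Over.w y)))
    have hk : k ≫ u U = restrictOverι K (O U) ≫ y := Over.OverMorphism.ext (morphismRestrict_ι _ _)
    obtain ⟨l, h1, h2⟩ := (sq U).exists_lift ((yon S).map (restrictOverι K (O U)) ≫ x)
      ((yon S).map k) (by
        rw [Category.assoc, e, ← Functor.map_comp_assoc, ← Functor.map_comp_assoc, hk])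
    obtain ⟨l, rfl⟩ := (yon S).map_surjective l
    rw [← Functor.map_comp] at h2
    exact ⟨l ≫ j U, by rw [Functor.map_comp, Category.assoc, hfst, h1],
      by rw [Category.assoc, hj, ← Category.assoc, (yon S).map_injective h2, hk]⟩
  choose l hl₁ hl₂ using hl
  have hcov : ∀ z : K.left, ∃ U, z ∈ Set.range (restrictOverι K (O U)).left := fun z => by
    obtain ⟨U, hU, -⟩ := exists_affine_mem (O := ⊤) (x := y.left z) trivial
    exact ⟨U, (range_restrictOverι _ _).ge hU⟩
  obtain ⟨L, hL⟩ := yon_exists_glue (fun U => restrictOverι K (O U)) hcov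
    (fun U => (yon S).map (l U)) (fun U V Z a b e' => by
      rw [← Functor.map_comp, ← Functor.map_comp, uniq Z (a ≫ l U) (b ≫ l V)
        (by rw [Category.assoc, Category.assoc, hl₂, hl₂, ← Category.assoc, e', Category.assoc])
        (by rw [Functor.map_comp, Functor.map_comp, Category.assoc, Category.assoc, hl₁, hl₁,
          ← Functor.map_comp_assoc, ← Functor.map_comp_assoc, e'])])
  refine ⟨L, ⟨yon_hom_ext_of_cover _ hcov _ _ fun U => ?_,
    yon_hom_ext_of_cover _ hcov _ _ fun U => ?_⟩, fun L' hL' => ?_⟩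
  · rw [← Category.assoc, hL, hl₁]
  · rw [← Category.assoc, hL, ← Functor.map_comp, hl₂, Functor.map_comp]
  · obtain ⟨L', rfl⟩ := (yon S).map_surjective L'
    refine yon_hom_ext_of_cover _ hcov _ _ fun U => ?_
    rw [hL, ← Functor.map_comp]
    refine congrArg _ (uniq _ _ _ ?_ ?_)
    · rw [Category.assoc, hl₂]
      refine congrArg _ ((yon S).map_injective ?_)
      rw [Functor.map_comp, hL'.2]
    · rw [Functor.map_comp, Category.assoc, hL'.1, hl₁]

end Groth.Agent.AlgSpLib
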