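import Groth.Agent.AlgSpLib.LocP
import Groth.Agent.AlgSpLib.EtLocalInst
import Groth.Agent.AlgSpLib.Diag
import Groth.Agent.AlgSpLib.MorQC
import Groth.Agent.AlgSpLib.PointsCompact
import Groth.Agent.AlgSpLib.RepLocal
import Groth.Agent.H8Lim.SchemeDescent
import Groth.Agent.S9960
import Groth.Agent.S5941

/-!
Morphisms locally of finite presentation commute with limits of affine schemes.
-/

universe u

open CategoryTheory CategoryTheory.Limits AlgebraicGeometry Opposite
open AlgSp

noncomputable section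

namespace Groth.Agent.AlgSpLib.LfpLimit

set_option backward.isDefEq.respectTransparency.types false

variable {S : Scheme.{u}}

theorem exists_section {I : Type u} [SmallCategory I] [IsCofiltered I] (D : I ⥤ Scheme.{u}) (c : Cone D)
    (hc : IsLimit c) [∀ i, CompactSpace (D.obj i)] [∀ i, QuasiSeparatedSpace (D.obj i)]
    [∀ {i j} (φ : i ⟶ j), IsAffineHom (D.map φ)] {i : I} {W : Scheme.{u}} (q : W ⟶ D.obj i)
    [LocallyOfFinitePresentation q] (σ : c.pt ⟶ W) (hσ : σ ≫ q = c.π.app i) :
    ∃ (j : I) (φ : j ⟶ i) (g : D.obj j ⟶ W), c.π.app j ≫ g = σ ∧ g ≫ q = D.map φ := by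
  let F := Over.forget i ⋙ D
  have hc' : IsLimit (c.whisker (Over.forget i)) :=
    (Functor.Initial.isLimitWhiskerEquiv (Over.forget i) c).symm hc
  have : ∀ j, CompactSpace (F.obj j) := fun j => inferInstanceAs (CompactSpace (D.obj j.left))
  have : ∀ j, QuasiSeparatedSpace (F.obj j) := fun j => inferInstanceAs (QuasiSeparatedSpace (D.obj j.left))
  have : ∀ {a b} (φ : a ⟶ b), IsAffineHom (F.map φ) := fun φ => inferInstanceAs (IsAffineHom (D.map φ.left))
  let t : F ⟶ (Functor.const (Over i)).obj (D.obj i) :=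
    { app := fun j => D.map j.hom
      naturality := fun j k φ => by
        show D.map φ.left ≫ D.map k.hom = D.map j.hom ≫ 𝟙 _
        rw [← D.map_comp, Over.w φ, Category.comp_id] }
  obtain ⟨j, g, h1, h2⟩ := Scheme.exists_π_app_comp_eq_of_locallyOfFinitePresentation F t q
    (c.whisker (Over.forget i)) hc' σ (by
      ext j
      show c.π.app j.left ≫ D.map j.hom = σ ≫ q
      rw [c.w, hσ])
  exact ⟨j.left, j.hom, g, h1, h2⟩

/-- two points with the same image which agree on the limit agree at a stage -/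
theorem exists_stage_eq {X Y : Space S} (f : X ⟶ Y) (hf : LocP @LocallyOfFiniteType f.hom)
    {I : Type u} [SmallCategory I] [IsCofiltered I] (D : I ⥤ Over S) (c : Cone D)
    (hc : IsLimit ((Over.forget S).mapCone c)) (hcs : ∀ i, CompactSpace (D.obj i).left)
    (hqs : ∀ i, QuasiSeparatedSpace (D.obj i).left) (haff : ∀ {i j} (φ : i ⟶ j), IsAffineHom (D.map φ).left)
    {i : I} (x x' : (yon S).obj (D.obj i) ⟶ X.obj) (h : x ≫ f.hom = x' ≫ f.hom)
    (hπ : (yon S).map (c.π.app i) ≫ x = (yon S).map (c.π.app i) ≫ x') :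
    ∃ (j : I) (φ : j ⟶ i), (yon S).map (D.map φ) ≫ x = (yon S).map (D.map φ) ≫ x' := by
  have hP := isAlgSpace_pullback f.hom f.hom
  have hd := representable_diagonal X.property f.hom
  have hdr : RepWith @LocallyOfFinitePresentation (pullback.diagonal f.hom) :=
    (repWith_iff_locP etLocal_lfp X.property hP hd).2 (Groth.Agent.S9960.result f hf).1
  let p := pullback.lift x x' h
  have sq := hd.isPullback p
  have hlfp : LocallyOfFinitePresentation (hd.snd p).left := hdr.2 _ _ _ sq
  obtain ⟨σ, hσ1, hσ2⟩ := sq.exists_lift ((yon S).map (c.π.app i) ≫ x) ((yon S).map (c.π.app i)) (by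
    apply pullback.hom_ext
    · simp only [p, Category.assoc, pullback.diagonal_fst, Category.comp_id, pullback.lift_fst]
    · simp only [p, Category.assoc, pullback.diagonal_snd, Category.comp_id, pullback.lift_snd, hπ])
  obtain ⟨σ, rfl⟩ := (yon S).map_surjective σ
  rw [← Functor.map_comp] at hσ2
  replace hσ2 := congrArg (fun m => m.left) ((yon S).map_injective hσ2)
  have : ∀ i, CompactSpace ((D ⋙ Over.forget S).obj i) := hcs
  have : ∀ i, QuasiSeparatedSpace ((D ⋙ Over.forget S).obj i) := hqs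
  have : ∀ {i j} (φ : i ⟶ j), IsAffineHom ((D ⋙ Over.forget S).map φ) := fun φ => haff φ
  obtain ⟨j, φ, g, -, hg2⟩ := @exists_section _ _ _ (D ⋙ Over.forget S) _ hc ‹_› ‹_› ‹_› i _
    (hd.snd p).left hlfp σ.left hσ2
  let g' : D.obj j ⟶ hd.pullback p := Over.homMk g (by
    rw [← Over.w (hd.snd p), ← Category.assoc]
    exact (congrArg (· ≫ (D.obj i).hom) hg2).trans (Over.w (D.map φ)))
  have hg' : g' ≫ hd.snd p = D.map φ := Over.OverMorphism.ext hg2
  refine ⟨j, φ, ?_⟩
  have h1 := congrArg (fun m => (yon S).map g' ≫ m ≫ pullback.fst f.hom f.hom) sq.w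
  have h2 := congrArg (fun m => (yon S).map g' ≫ m ≫ pullback.snd f.hom f.hom) sq.w
  simp only [p, Category.assoc, pullback.diagonal_fst, pullback.diagonal_snd, Category.comp_id,
    pullback.lift_fst, pullback.lift_snd] at h1 h2
  rw [← hg', Functor.map_comp, Category.assoc, Category.assoc, ← h1, ← h2]

/-- the stages of a scheme over a stage, as a system over `S` -/
def stageOver {I : Type u} [SmallCategory I] (D : I ⥤ Over S) {i : I} {Z : Scheme.{u}} (z : Z ⟶ (D.obj i).left) :
    Over i ⥤ Over S where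
  obj j := Over.mk (H8Lim.stageSnd (D ⋙ Over.forget S) z j ≫ (D.obj j.left).hom)
  map {j k} φ := Over.homMk ((H8Lim.stage (D ⋙ Over.forget S) z).map φ) (by
    show (H8Lim.stage (D ⋙ Over.forget S) z).map φ ≫ H8Lim.stageSnd (D ⋙ Over.forget S) z k ≫
      (D.obj k.left).hom = H8Lim.stageSnd (D ⋙ Over.forget S) z j ≫ (D.obj j.left).hom
    rw [← Category.assoc, H8Lim.stageMap_snd, Category.assoc]
    exact congrArg (_ ≫ ·) (Over.w (D.map φ.left)))
  map_id j := Over.OverMorphism.ext ((H8Lim.stage (D ⋙ Over.forget S) z).map_id j)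
  map_comp φ ψ := Over.OverMorphism.ext ((H8Lim.stage (D ⋙ Over.forget S) z).map_comp φ ψ)

/-- projection of a stage -/
def stageOverSnd {I : Type u} [SmallCategory I] (D : I ⥤ Over S) {i : I} {Z : Scheme.{u}} (z : Z ⟶ (D.obj i).left)
    (j : Over i) : (stageOver D z).obj j ⟶ D.obj j.left :=
  Over.homMk (H8Lim.stageSnd (D ⋙ Over.forget S) z j) rfl

theorem stageOver_map_snd {I : Type u} [SmallCategory I] (D : I ⥤ Over S) {i : I} {Z : Scheme.{u}}
    (z : Z ⟶ (D.obj i).left) {j k : Over i} (φ : j ⟶ k) :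
    (stageOver D z).map φ ≫ stageOverSnd D z k = stageOverSnd D z j ≫ D.map φ.left :=
  Over.OverMorphism.ext (H8Lim.stageMap_snd (D ⋙ Over.forget S) z φ)

theorem isPullback_stageOver {I : Type u} [SmallCategory I] (D : I ⥤ Over S) {i : I} {Z : Scheme.{u}}
    (z : Z ⟶ (D.obj i).left) {j k : Over i} (φ : j ⟶ k) :
    IsPullback ((stageOver D z).map φ) (stageOverSnd D z j) (stageOverSnd D z k) (D.map φ.left) :=
  IsPullback.of_map (Over.forget S) (stageOver_map_snd D z φ) (H8Lim.isPullback_stageMap (D ⋙ Over.forget S) z φ)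

theorem compactSpace_stageOver {I : Type u} [SmallCategory I] (D : I ⥤ Over S) {i : I} {Z : Scheme.{u}}
    [CompactSpace Z] [QuasiSeparatedSpace Z] (z : Z ⟶ (D.obj i).left)
    (haff : ∀ {i j} (φ : i ⟶ j), IsAffineHom (D.map φ).left) :
    (∀ j, CompactSpace ((stageOver D z).obj j).left) ∧ (∀ j, QuasiSeparatedSpace ((stageOver D z).obj j).left) ∧
      ∀ {a b} (φ : a ⟶ b), IsAffineHom ((stageOver D z).map φ).left := by
  have : ∀ {a b} (φ : a ⟶ b), IsAffineHom ((D ⋙ Over.forget S).map φ) := fun φ => haff φ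
  exact ⟨fun j => @H8Lim.compactSpace_stage _ _ (D ⋙ Over.forget S) _ _ z _ _ j,
    fun j => @H8Lim.quasiSeparatedSpace_stage _ _ (D ⋙ Over.forget S) _ _ z _ _ j,
    fun φ => inferInstanceAs (IsAffineHom ((H8Lim.stage (D ⋙ Over.forget S) z).map φ))⟩


theorem stage_w {I : Type u} [SmallCategory I] (D : I ⥤ Over S) {i : I} {Z : Scheme.{u}} (z : Z ⟶ (D.obj i).left)
    (j : Over i) {W : Scheme.{u}} (h : (D.obj i).left ⟶ W) :
    H8Lim.stageFst (D ⋙ Over.forget S) z j ≫ z ≫ h =
      H8Lim.stageSnd (D ⋙ Over.forget S) z j ≫ (D.map j.hom).left ≫ h :=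
  ((Category.assoc _ _ _).symm.trans (congrArg (· ≫ h) (H8Lim.isPullback_stage (D ⋙ Over.forget S) z j).w)).trans
    (Category.assoc _ _ _)

theorem stageOver_map_fst {I : Type u} [SmallCategory I] (D : I ⥤ Over S) {i : I} {Z : Scheme.{u}}
    (z : Z ⟶ (D.obj i).left) {j k : Over i} (φ : j ⟶ k) {W : Scheme.{u}} (h : Z ⟶ W) :
    ((stageOver D z).map φ).left ≫ H8Lim.stageFst (D ⋙ Over.forget S) z k ≫ h =
      H8Lim.stageFst (D ⋙ Over.forget S) z j ≫ h :=
  H8Lim.stageMap_fst_assoc (D ⋙ Over.forget S) z φ h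

section cone

variable {I : Type u} [SmallCategory I] [IsCofiltered I] {D : I ⥤ Over S} (c : Cone D) {i : I} {Z : Scheme.{u}}
  (z : Z ⟶ (D.obj i).left) {O : Over S} (q : O.left ⟶ Z) (e : O ⟶ c.pt)
  (sq : IsPullback q e.left z (c.π.app i).left)

/-- the underlying cone of schemes -/
abbrev schemeStageCone : Cone (H8Lim.stage (D ⋙ Over.forget S) z) :=
  H8Lim.stageCone (D := D ⋙ Over.forget S) (i₀ := i) (X := O.left) z ((Over.forget S).mapCone c) q e.left sq

omit [IsCofiltered I] in
theorem schemeStageCone_snd (j : Over i) :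
    (schemeStageCone c z q e sq).π.app j ≫ H8Lim.stageSnd (D ⋙ Over.forget S) z j =
      e.left ≫ (c.π.app j.left).left :=
  H8Lim.stageProj_snd (D := D ⋙ Over.forget S) (i₀ := i) (X := O.left) z ((Over.forget S).mapCone c) q e.left sq j

omit [IsCofiltered I] in
theorem schemeStageCone_fst (j : Over i) :
    (schemeStageCone c z q e sq).π.app j ≫ H8Lim.stageFst (D ⋙ Over.forget S) z j = q :=
  H8Lim.stageProj_fst (D := D ⋙ Over.forget S) (i₀ := i) (X := O.left) z ((Over.forget S).mapCone c) q e.left sq j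

/-- the projection from the limit -/
def stageOverProj (j : Over i) : O ⟶ (stageOver D z).obj j :=
  Over.homMk (U := O) (V := (stageOver D z).obj j) ((schemeStageCone c z q e sq).π.app j) (by
    show _ ≫ H8Lim.stageSnd (D ⋙ Over.forget S) z j ≫ (D.obj j.left).hom = O.hom
    refine ((Category.assoc _ _ _).symm.trans
      ((congrArg (· ≫ (D.obj j.left).hom) (schemeStageCone_snd c z q e sq j)).trans (Category.assoc _ _ _))).trans ?_
    exact ((congrArg (e.left ≫ ·) (Over.w (c.π.app j.left))).trans (Over.w e)))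

omit [IsCofiltered I] in
theorem stageOverProj_snd (j : Over i) :
    stageOverProj c z q e sq j ≫ stageOverSnd D z j = e ≫ c.π.app j.left :=
  Over.OverMorphism.ext (schemeStageCone_snd c z q e sq j)

/-- the cone of stages over `S` -/
def stageOverCone : Cone (stageOver D z) where
  pt := O
  π :=
    { app := stageOverProj c z q e sq
      naturality := fun j k φ => Over.OverMorphism.ext ((schemeStageCone c z q e sq).π.naturality φ) }

/-- it is a limit cone of schemes -/
def isLimitStageOverCone (hc : IsLimit ((Over.forget S).mapCone c)) :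
    IsLimit ((Over.forget S).mapCone (stageOverCone c z q e sq)) :=
  (show IsLimit (schemeStageCone c z q e sq) from
    H8Lim.isLimitStageCone (D := D ⋙ Over.forget S) (i₀ := i) (X := O.left) z q e.left sq hc).ofIsoLimit
    (Cone.ext (Iso.refl _) (fun j => (Category.id_comp _).symm))

theorem isPullback_stageOverProj (j : Over i) :
    IsPullback (stageOverProj c z q e sq j).left e.left (stageOverSnd D z j).left (c.π.app j.left).left := by
  refine IsPullback.of_right ?_ (congrArg (fun m => m.left) (stageOverProj_snd c z q e sq j))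
    (H8Lim.isPullback_stage (D ⋙ Over.forget S) z j)
  refine sq.of_iso (Iso.refl _) (Iso.refl _) (Iso.refl _) (Iso.refl _) ?_ ?_ ?_ ?_
  · simp only [Iso.refl_hom, Category.id_comp, Category.comp_id]
    exact (schemeStageCone_fst c z q e sq j).symm
  · simp
  · simp
  · simp only [Iso.refl_hom, Category.id_comp, Category.comp_id]
    exact (congrArg (fun m => m.left) (c.w j.hom)).symm

end cone

theorem etale_stage_aux {I : Type u} [SmallCategory I] [IsCofiltered I] (D : I ⥤ Over S) (c : Cone D)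
    [∀ i, IsAffine (D.obj i).left] (i : I) {O : Over S} (e : O ⟶ c.pt) {j k : I} (φ : k ⟶ j)
    {Z Zk : Scheme.{u}} (z : Z ⟶ (D.obj j).left) [QuasiCompact z] [QuasiSeparated z] (q : O.left ⟶ Z)
    (sq : IsPullback q e.left z (c.π.app j).left) (pX : Zk ⟶ Z) (zk : Zk ⟶ (D.obj k).left) [hek : Etale zk]
    (sqk : IsPullback pX zk z (D.map φ).left) :
    ∃ (j : I) (_ : j ⟶ i) (Z : Scheme.{u}) (z : Z ⟶ (D.obj j).left) (q : O.left ⟶ Z),
      CompactSpace Z ∧ QuasiSeparatedSpace Z ∧ Etale z ∧ IsPullback q e.left z (c.π.app j).left := by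
  let l := IsCofiltered.min k i
  let ψ : l ⟶ j := IsCofiltered.minToLeft k i ≫ φ
  have hel : Etale (pullback.snd z (D.map ψ).left) := by
    have sql : IsPullback (pullback.fst z (D.map ψ).left) (pullback.snd z (D.map ψ).left) z (D.map ψ).left :=
      IsPullback.of_hasPullback _ _
    have e' : (D.map ψ).left = (D.map (IsCofiltered.minToLeft k i)).left ≫ (D.map φ).left := by
      rw [D.map_comp]; rfl
    let m := sqk.lift (pullback.fst z (D.map ψ).left)
      (pullback.snd z (D.map ψ).left ≫ (D.map (IsCofiltered.minToLeft k i)).left)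
      (by rw [Category.assoc, ← e', sql.w])
    exact MorphismProperty.of_isPullback (P := @Etale)
      (IsPullback.of_right (h₁₂ := pX) (h₁₁ := m) (by rw [sqk.lift_fst, ← e']; exact sql) (sqk.lift_snd _ _ _) sqk) hek
  have sqO : IsPullback (pullback.lift q (e.left ≫ (c.π.app l).left) (by
      rw [Category.assoc, sq.w]; exact congrArg (e.left ≫ ·) (congrArg (fun m => m.left) (c.w ψ)).symm))
      e.left (pullback.snd z (D.map ψ).left) (c.π.app l).left := by
    refine IsPullback.of_right ?_ (pullback.lift_snd _ _ _) (IsPullback.of_hasPullback z (D.map ψ).left)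
    rw [pullback.lift_fst, ← Over.comp_left, c.w]
    exact sq
  have : QuasiCompact (D.map ψ).left := inferInstance
  exact ⟨l, IsCofiltered.minToRight k i, _, pullback.snd z (D.map ψ).left, _,
    QuasiCompact.compactSpace_of_compactSpace (pullback.snd z (D.map ψ).left),
    quasiSeparatedSpace_of_quasiSeparated (pullback.snd z (D.map ψ).left), hel, sqO⟩

theorem exists_etale_stage {I : Type u} [SmallCategory I] [IsCofiltered I] (D : I ⥤ Over S) (c : Cone D)
    (hc : IsLimit ((Over.forget S).mapCone c)) [∀ i, IsAffine (D.obj i).left] [IsAffine c.pt.left]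
    (i : I) {O : Over S} (e : O ⟶ c.pt) [IsAffine O.left] [Etale e.left] :
    ∃ (j : I) (_ : j ⟶ i) (Z : Scheme.{u}) (z : Z ⟶ (D.obj j).left) (q : O.left ⟶ Z),
      CompactSpace Z ∧ QuasiSeparatedSpace Z ∧ Etale z ∧ IsPullback q e.left z (c.π.app j).left := by
  have : ∀ i, IsAffine ((D ⋙ Over.forget S).obj i) := fun i => inferInstanceAs (IsAffine (D.obj i).left)
  have : ∀ {i j} (φ : i ⟶ j), IsAffineHom ((D ⋙ Over.forget S).map φ) := fun φ => inferInstance
  have : IsAffine ((Over.forget S).mapCone c).pt := inferInstanceAs (IsAffine c.pt.left)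
  have : LocallyOfFinitePresentation e.left := Groth.Agent.AlgSpLib.etale_le_lfp _ _ e.left ‹Etale e.left›
  let e₀ : O.left ⟶ ((Over.forget S).mapCone c).pt := e.left
  have : LocallyOfFinitePresentation e₀ := this
  obtain ⟨j, Z, z, q, hz, hzc, hzs, sq⟩ := H8Lim.exists_stage_scheme (D := D ⋙ Over.forget S) hc e₀
  have : CompactSpace Z := QuasiCompact.compactSpace_of_compactSpace z
  have : QuasiSeparatedSpace Z := quasiSeparatedSpace_of_quasiSeparated z
  have : LocallyOfFinitePresentation (𝟙 ((D ⋙ Over.forget S).obj j)) := inferInstance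
  have : LocallyOfFinitePresentation (z ≫ 𝟙 _) := by rw [Category.comp_id]; exact hz
  obtain ⟨k, φ, Xj, Yj, fj, gj, pY, pX, h1, h2, h3⟩ :=
    (Groth.Agent.S5941.result (D ⋙ Over.forget S) _ hc j z (𝟙 _) e.left (𝟙 _)
      (((Over.forget S).mapCone c).π.app j) q
      (IsPullback.of_id_snd) sq).1 ‹Etale e.left›
  have : IsIso gj := h1.isIso_snd_of_isIso
  have sqk : IsPullback pX (fj ≫ gj) z ((D.map φ).left) := by
    refine h2.of_iso (Iso.refl _) (Iso.refl _) (asIso gj) (Iso.refl _) (by simp) (by simp) (by simp) ?_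
    simp only [Iso.refl_hom, Category.comp_id, asIso_hom]
    exact (Category.comp_id _).symm.trans h1.w
  have : Etale gj := inferInstance
  exact etale_stage_aux D c i e φ z q sq pX (fj ≫ gj) (hek := MorphismProperty.comp_mem @Etale fj gj h3 this) sqk

theorem exists_affine_etale_lift {T U : Over S} [CompactSpace T.left] {F : Sp S} (a : (yon S).obj U ⟶ F)
    (ha : RepWith @Etale a) (has : RepWith @Surjective a) (σ : (yon S).obj T ⟶ F) :
    ∃ (O : Over S) (e : O ⟶ T) (u : O ⟶ U), IsAffine O.left ∧ Etale e.left ∧ Surjective e.left ∧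
      (yon S).map u ≫ a = (yon S).map e ≫ σ := by
  let W := ha.1.pullback σ
  let π : W ⟶ T := ha.1.snd σ
  have hπ : Etale π.left := ha.property_snd σ
  have hπs : Surjective π.left := has.2 σ _ _ (ha.1.isPullback σ)
  have hcov : ∀ t : T.left, ∃ O : W.left.affineOpens, t ∈ π.left '' (O.1 : Set W.left) := fun t => by
    obtain ⟨w, hw⟩ := π.left.surjective t
    obtain ⟨O, hO, -⟩ := exists_affine_mem (x := w) (O := ⊤) trivial
    exact ⟨O, w, hO, hw⟩
  obtain ⟨s, hs⟩ := isCompact_univ.elim_finite_subcover (fun O : W.left.affineOpens => π.left '' (O.1 : Set W.left))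
    (fun O => π.left.isOpenMap _ O.1.2) (fun t _ => Set.mem_iUnion.2 (hcov t))
  let P : ↥s → Over S := fun O => restrictOver W O.1.1
  have : ∀ O : ↥s, IsAffine (P O).left := fun O => O.1.2
  have : IsAffine (sigmaOver P).left := inferInstanceAs (IsAffine (∐ fun O : ↥s => (P O).left))
  let d : sigmaOver P ⟶ W := Over.homMk (U := sigmaOver P) (Sigma.desc fun O => O.1.1.ι) (Sigma.hom_ext _ _ fun O => by
    show Sigma.ι _ O ≫ Sigma.desc _ ≫ W.hom = Sigma.ι _ O ≫ Sigma.desc _
    rw [Sigma.ι_desc_assoc, Sigma.ι_desc]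
    rfl)
  have hd : Etale d.left := IsZariskiLocalAtSource.sigmaDesc fun O : ↥s => (inferInstance : Etale O.1.1.ι)
  refine ⟨sigmaOver P, d ≫ π, d ≫ ha.1.fst' σ, inferInstance, ?_, ⟨fun t => ?_⟩, ?_⟩
  · show Etale (d.left ≫ π.left)
    infer_instance
  · obtain ⟨O, hO, w, hw, rfl⟩ := Set.mem_iUnion₂.1 (hs (Set.mem_univ t))
    let w' : (P ⟨O, hO⟩).left := ⟨w, hw⟩
    refine ⟨(Sigma.ι (fun O : ↥s => (P O).left) ⟨O, hO⟩) w', congrArg π.left ?_⟩
    exact congr($(Sigma.ι_desc (fun O : ↥s => O.1.1.ι) ⟨O, hO⟩) w')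
  · rw [Functor.map_comp, Functor.map_comp, Category.assoc, Category.assoc]
    exact congrArg (_ ≫ ·) (ha.1.isPullback' σ).w

/-- points over the limit come from a stage -/
theorem exists_stage_point {X Y : Space S} (f : X ⟶ Y) (hf : LocP @LocallyOfFinitePresentation f.hom)
    {I : Type u} [SmallCategory I] [IsCofiltered I] (D : I ⥤ Over S) (c : Cone D)
    (hc : IsLimit ((Over.forget S).mapCone c)) [∀ i, IsAffine (D.obj i).left] [IsAffine c.pt.left]
    (x : (yon S).obj c.pt ⟶ X.obj) (i : I) (y : (yon S).obj (D.obj i) ⟶ Y.obj)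
    (h : x ≫ f.hom = (yon S).map (c.π.app i) ≫ y) :
    ∃ (j : I) (φ : j ⟶ i) (x' : (yon S).obj (D.obj j) ⟶ X.obj),
      (yon S).map (c.π.app j) ≫ x' = x ∧ x' ≫ f.hom = (yon S).map (D.map φ) ≫ y := by
  have hft : LocP @LocallyOfFiniteType f.hom :=
    locP_mono (fun _ _ g hg => by have : LocallyOfFinitePresentation g := hg; exact inferInstanceAs (LocallyOfFiniteType g)) hf
  -- reduce to a chart over the stage
  have sqX := IsPullback.of_hasPullback f.hom y
  have hXi : IsAlgSpace (pullback f.hom y) :=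
    isAlgSpace_of_isPullback Y.property.diag X.property (IsAlgSpace.yon_obj _) sqX
  have hfi : LocP @LocallyOfFinitePresentation (pullback.snd f.hom y) :=
    locP_of_isPullback etLocal_lfp X.property Y.property hXi sqX hf
  obtain ⟨U, a, hae, has⟩ := hXi.atlas
  obtain ⟨k, hk⟩ := (yon S).map_surjective (a ≫ pullback.snd f.hom y)
  have hlk : LocallyOfFinitePresentation k.left :=
    hfi a (𝟙 _) k hae (repWith_of_isIso _ _) (by rw [Category.comp_id, hk])
  obtain ⟨O, e, u, hO, he, hes, hu⟩ := exists_affine_etale_lift a hae has (sqX.lift x ((yon S).map (c.π.app i)) h)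
  have huk : u ≫ k = e ≫ c.π.app i := (yon S).map_injective (by
    rw [Functor.map_comp, Functor.map_comp, hk, ← Category.assoc, hu, Category.assoc, sqX.lift_snd])
  have hux : (yon S).map u ≫ a ≫ pullback.fst f.hom y = (yon S).map e ≫ x := by
    rw [← Category.assoc, hu, Category.assoc, sqX.lift_fst]
  obtain ⟨j, ψ, Z, z, q, hZc, hZs, hz, sq⟩ := exists_etale_stage D c hc i e
  have haff : ∀ {i j} (φ : i ⟶ j), IsAffineHom (D.map φ).left := fun φ => inferInstance
  obtain ⟨hEc, hEs, hEa⟩ := compactSpace_stageOver D z haff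
  let C := stageOverCone c z q e sq
  have hC := isLimitStageOverCone c z q e sq hc
  -- lift the point to a stage
  let E := stageOver D z
  let t : E ⋙ Over.forget S ⟶ (Functor.const (Over j)).obj (D.obj i).left :=
    { app := fun l => (stageOverSnd D z l ≫ D.map (l.hom ≫ ψ)).left
      naturality := fun l m φ => by
        refine Eq.trans ?_ (Category.comp_id _).symm
        show (E.map φ ≫ stageOverSnd D z m ≫ D.map (m.hom ≫ ψ)).left = _
        rw [← Category.assoc, stageOver_map_snd, Category.assoc, ← D.map_comp, Over.w_assoc φ] }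
  have : ∀ l, CompactSpace ((E ⋙ Over.forget S).obj l) := hEc
  have : ∀ l, QuasiSeparatedSpace ((E ⋙ Over.forget S).obj l) := hEs
  have : ∀ {l m} (φ : l ⟶ m), IsAffineHom ((E ⋙ Over.forget S).map φ) := fun φ => hEa φ
  obtain ⟨l, g, hg1, hg2⟩ := Scheme.exists_π_app_comp_eq_of_locallyOfFinitePresentation (E ⋙ Over.forget S) t k.left
    ((Over.forget S).mapCone C) hC u.left (by
      ext m
      show (stageOverProj c z q e sq m ≫ stageOverSnd D z m ≫ D.map (m.hom ≫ ψ)).left = (u ≫ k).left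
      rw [reassoc_of% (stageOverProj_snd c z q e sq m), c.w, huk])
  let g' : E.obj l ⟶ U := Over.homMk g (by
    rw [← Over.w k, ← Category.assoc]
    exact (congrArg (· ≫ (D.obj i).hom) hg2).trans (Over.w (stageOverSnd D z l ≫ D.map (l.hom ≫ ψ))))
  have hg'1 : stageOverProj c z q e sq l ≫ g' = u := Over.OverMorphism.ext hg1
  have hg'2 : g' ≫ k = stageOverSnd D z l ≫ D.map (l.hom ≫ ψ) := Over.OverMorphism.ext hg2
  -- surjectivity at a stage
  have hez : ∀ m, Etale (stageOverSnd D z m).left := fun m =>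
    MorphismProperty.of_isPullback (P := @Etale) (H8Lim.isPullback_stage (D ⋙ Over.forget S) z m) hz
  let V : (D.obj l.left).left.Opens :=
    ⟨Set.range (stageOverSnd D z l).left, by
      have := hez l; exact (stageOverSnd D z l).left.isOpenMap.isOpen_range⟩
  have : ∀ i, IsAffine ((D ⋙ Over.forget S).obj i) := fun i => inferInstanceAs (IsAffine (D.obj i).left)
  obtain ⟨l', φ', htop⟩ := exists_map_eq_top (D ⋙ Over.forget S) _ hc (i := l.left) V (by
    refine top_le_iff.1 fun p _ => ?_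
    obtain ⟨o, ho⟩ := e.left.surjective p
    refine ⟨(stageOverProj c z q e sq l).left o, ?_⟩
    have := congr($(congrArg (fun m : O ⟶ D.obj l.left => m.left) (stageOverProj_snd c z q e sq l)) o)
    exact this.trans (congrArg (c.π.app l.left).left ho))
  let l₁ : Over j := Over.mk (φ' ≫ l.hom)
  let φ₁ : l₁ ⟶ l := Over.homMk φ' rfl
  have hsurj : Surjective (stageOverSnd D z l₁).left := ⟨fun p => by
    have hp : p ∈ (D.map φ').left ⁻¹ᵁ V := by
      have : (D.map φ').left ⁻¹ᵁ V = ⊤ := htop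
      rw [this]; trivial
    obtain ⟨r, hr⟩ := hp
    obtain ⟨s, -, hs⟩ := Scheme.exists_preimage_of_isPullback
      ((isPullback_stageOver D z φ₁).map (Over.forget S)) r p hr
    exact ⟨s, hs⟩⟩
  obtain ⟨x₁, hx₁⟩ : ∃ x₁, x₁ = (yon S).map (E.map φ₁ ≫ g') ≫ a ≫ pullback.fst f.hom y := ⟨_, rfl⟩
  have hx₁f : x₁ ≫ f.hom = (yon S).map (stageOverSnd D z l₁) ≫ (yon S).map (D.map (l₁.hom ≫ ψ)) ≫ y := by
    have h1 : (E.map φ₁ ≫ g') ≫ k = stageOverSnd D z l₁ ≫ D.map (l₁.hom ≫ ψ) := by
      rw [Category.assoc, hg'2, ← Category.assoc, stageOver_map_snd, Category.assoc, ← D.map_comp]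
      simp [φ₁, l₁]
    simp only [hx₁, Category.assoc, pullback.condition]
    rw [reassoc_of% hk.symm, ← Functor.map_comp_assoc, ← Functor.map_comp_assoc, h1]
  have hx₁π : (yon S).map (stageOverProj c z q e sq l₁) ≫ x₁ = (yon S).map e ≫ x := by
    have h1 : stageOverProj c z q e sq l₁ ≫ E.map φ₁ ≫ g' = u := by
      rw [← Category.assoc, ← hg'1]
      exact congrArg (· ≫ g') (C.w φ₁)
    simp only [hx₁]
    rw [← Functor.map_comp_assoc, h1, hux]
  -- agreement on the overlap
  let s₁ := stageOverSnd D z l₁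
  have : Etale s₁.left := hez l₁
  have : QuasiSeparatedSpace (E.obj l₁).left := hEs l₁
  have : CompactSpace (E.obj l₁).left := hEc l₁
  have : QuasiSeparated s₁.left := inferInstance
  have : QuasiCompact s₁.left := quasiCompact_of_compactSpace s₁.left
  let r := pullback.fst s₁.left s₁.left ≫ s₁.left
  have : CompactSpace ↥(pullback s₁.left s₁.left : Scheme.{u}) :=
    QuasiCompact.compactSpace_of_compactSpace (pullback.fst s₁.left s₁.left)
  have : QuasiSeparatedSpace ↥(pullback s₁.left s₁.left : Scheme.{u}) :=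
    quasiSeparatedSpace_of_quasiSeparated (pullback.fst s₁.left s₁.left)
  obtain ⟨hRc, hRs, hRa⟩ := compactSpace_stageOver D r haff
  let RT : Over S := Over.mk (pullback.snd r (c.π.app l₁.left).left ≫ c.pt.hom)
  let eR : RT ⟶ c.pt := Over.homMk (pullback.snd r (c.π.app l₁.left).left) rfl
  have sqR : IsPullback (pullback.fst r (c.π.app l₁.left).left) eR.left r (c.π.app l₁.left).left :=
    IsPullback.of_hasPullback _ _
  let R := stageOver D r
  let i₀ : Over l₁.left := Over.mk (𝟙 l₁.left)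
  have hwr : ∀ p : (pullback s₁.left s₁.left : Scheme.{u}) ⟶ (E.obj l₁).left, p ≫ s₁.left = r →
      (H8Lim.stageFst (D ⋙ Over.forget S) r i₀ ≫ p) ≫ (E.obj l₁).hom = (R.obj i₀).hom := by
    intro p hp
    show _ ≫ s₁.left ≫ (D.obj l₁.left).hom = H8Lim.stageSnd (D ⋙ Over.forget S) r i₀ ≫ (D.obj i₀.left).hom
    rw [Category.assoc, ← Category.assoc p, hp]
    refine (stage_w D r i₀ _).trans (congrArg (H8Lim.stageSnd (D ⋙ Over.forget S) r i₀ ≫ ·) ?_)
    exact Over.w (D.map i₀.hom)
  let u₁ : R.obj i₀ ⟶ E.obj l₁ :=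
    Over.homMk (H8Lim.stageFst (D ⋙ Over.forget S) r i₀ ≫ pullback.fst _ _) (hwr _ rfl)
  let u₂ : R.obj i₀ ⟶ E.obj l₁ :=
    Over.homMk (H8Lim.stageFst (D ⋙ Over.forget S) r i₀ ≫ pullback.snd _ _) (hwr _ pullback.condition.symm)
  have hu12 : u₁ ≫ s₁ = u₂ ≫ s₁ := Over.OverMorphism.ext (by
    show (_ ≫ _) ≫ s₁.left = (_ ≫ _) ≫ s₁.left
    rw [Category.assoc, Category.assoc, pullback.condition])
  have hproj := isPullback_stageOverProj c z q e sq l₁
  have key : ∀ v : R.obj i₀ ⟶ E.obj l₁, v.left ≫ s₁.left = H8Lim.stageFst (D ⋙ Over.forget S) r i₀ ≫ r →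
      (yon S).map (stageOverProj c r _ eR sqR i₀ ≫ v) ≫ x₁ = (yon S).map eR ≫ x := by
    intro v hv
    let P := stageOverProj c r _ eR sqR i₀
    have hw : (P ≫ v).left ≫ s₁.left = eR.left ≫ (c.π.app l₁.left).left := by
      rw [Over.comp_left, Category.assoc, hv, ← Category.assoc]
      refine Eq.trans ?_ sqR.w
      exact congrArg (· ≫ r) (schemeStageCone_fst c r _ eR sqR i₀)
    let m : RT ⟶ O := Over.homMk (hproj.lift (P ≫ v).left eR.left hw) (by
      rw [← Over.w e, ← Category.assoc, hproj.lift_snd]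
      exact Over.w eR)
    have hm1 : m ≫ stageOverProj c z q e sq l₁ = P ≫ v := Over.OverMorphism.ext (hproj.lift_fst _ _ _)
    have hm2 : m ≫ e = eR := Over.OverMorphism.ext (hproj.lift_snd _ _ _)
    rw [← hm1, Functor.map_comp, Category.assoc, hx₁π, ← Functor.map_comp_assoc, hm2]
  obtain ⟨l₂, φ₂, heq⟩ := exists_stage_eq f hft R (stageOverCone c r _ eR sqR)
    (isLimitStageOverCone c r _ eR sqR hc) hRc hRs hRa (i := i₀) ((yon S).map u₁ ≫ x₁) ((yon S).map u₂ ≫ x₁)
    (by rw [Category.assoc, Category.assoc, hx₁f, ← Functor.map_comp_assoc, ← Functor.map_comp_assoc (yon S) u₂, hu12])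
    (by
      rw [← Functor.map_comp_assoc, ← Functor.map_comp_assoc]
      refine (key u₁ ?_).trans (key u₂ ?_).symm
      · exact Category.assoc _ _ _
      · show (_ ≫ _) ≫ s₁.left = _
        rw [Category.assoc, ← pullback.condition]
        rfl)
  -- glue
  let l₃ : Over j := Over.mk (l₂.hom ≫ l₁.hom)
  let φ₃ : l₃ ⟶ l₁ := Over.homMk l₂.hom rfl
  have sq₃ := isPullback_stageOver D z φ₃
  let s₃ := stageOverSnd D z l₃
  have : Etale s₃.left := hez l₃
  have : Surjective s₃.left :=
    MorphismProperty.of_isPullback (P := @Surjective) (sq₃.map (Over.forget S)) hsurj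
  have : Flat s₃.left := inferInstance
  have : LocallyOfFinitePresentation s₃.left := inferInstance
  let x₃ := (yon S).map (E.map φ₃) ≫ x₁
  have hc₃ : ∀ p : (D.obj l₃.left).left, ∃ _ : PUnit.{u + 1}, p ∈ Set.range s₃.left := fun p =>
    ⟨⟨⟩, s₃.left.surjective p⟩
  obtain ⟨L, hL⟩ := yon_exists_glue (fun _ : PUnit.{u + 1} => s₃) hc₃ (fun _ => x₃) (fun _ _ T v w hvw => by
    let A := v ≫ E.map φ₃
    let B := w ≫ E.map φ₃
    have hAB : A.left ≫ s₁.left = B.left ≫ s₁.left := by
      have : A ≫ s₁ = B ≫ s₁ := by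
        show (v ≫ E.map φ₃) ≫ stageOverSnd D z l₁ = (w ≫ E.map φ₃) ≫ stageOverSnd D z l₁
        simp only [Category.assoc]
        rw [stageOver_map_snd, ← Category.assoc, hvw, Category.assoc]
      exact congrArg (fun m => m.left) this
    have hst : pullback.lift A.left B.left hAB ≫ r = (v ≫ s₃).left ≫ (D.map l₂.hom).left := by
      show _ ≫ pullback.fst _ _ ≫ s₁.left = _
      rw [pullback.lift_fst_assoc]
      have : A ≫ s₁ = (v ≫ s₃) ≫ D.map l₂.hom := by
        show (v ≫ E.map φ₃) ≫ stageOverSnd D z l₁ = _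
        rw [Category.assoc, stageOver_map_snd, ← Category.assoc]
        rfl
      exact congrArg (fun m => m.left) this
    let M := (H8Lim.isPullback_stage (D ⋙ Over.forget S) r l₂).lift (pullback.lift A.left B.left hAB)
      (v ≫ s₃).left hst
    have hM2 : M ≫ H8Lim.stageSnd (D ⋙ Over.forget S) r l₂ = (v ≫ s₃).left :=
      (H8Lim.isPullback_stage (D ⋙ Over.forget S) r l₂).lift_snd _ _ _
    let m : T ⟶ R.obj l₂ := Over.homMk M (by
      show M ≫ H8Lim.stageSnd (D ⋙ Over.forget S) r l₂ ≫ _ = _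
      rw [← Category.assoc, hM2]
      exact Over.w (v ≫ s₃))
    have hm : ∀ p : pullback s₁.left s₁.left ⟶ (E.obj l₁).left,
        (m ≫ R.map φ₂).left ≫ H8Lim.stageFst (D ⋙ Over.forget S) r i₀ ≫ p = pullback.lift A.left B.left hAB ≫ p := by
      intro p
      show (M ≫ (R.map φ₂).left) ≫ _ = _
      refine (Category.assoc _ _ _).trans ((congrArg (M ≫ ·) (stageOver_map_fst D r φ₂ p)).trans ?_)
      rw [← Category.assoc]
      exact congrArg (· ≫ p) ((H8Lim.isPullback_stage (D ⋙ Over.forget S) r l₂).lift_fst _ _ _)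
    have e₁ : A = (m ≫ R.map φ₂) ≫ u₁ := Over.OverMorphism.ext
      ((pullback.lift_fst _ _ _).symm.trans (hm _).symm)
    have e₂ : B = (m ≫ R.map φ₂) ≫ u₂ := Over.OverMorphism.ext
      ((pullback.lift_snd _ _ _).symm.trans (hm _).symm)
    show (yon S).map v ≫ (yon S).map (E.map φ₃) ≫ x₁ = (yon S).map w ≫ (yon S).map (E.map φ₃) ≫ x₁
    rw [← Functor.map_comp_assoc, ← Functor.map_comp_assoc]
    change (yon S).map A ≫ x₁ = (yon S).map B ≫ x₁
    rw [e₁, e₂]
    simp only [Functor.map_comp, Category.assoc]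
    rw [heq])
  refine ⟨l₂.left, l₂.hom ≫ l₁.hom ≫ ψ, L, ?_, ?_⟩
  · have : Flat e.left := inferInstance
    have : LocallyOfFinitePresentation e.left := inferInstance
    refine yon_hom_ext_of_cover (fun _ : PUnit.{u + 1} => e) (fun p => ⟨⟨⟩, e.left.surjective p⟩) _ _ fun _ => ?_
    rw [← Functor.map_comp_assoc, show e ≫ c.π.app l₂.left = stageOverProj c z q e sq l₃ ≫ s₃ from
      (stageOverProj_snd c z q e sq l₃).symm, Functor.map_comp, Category.assoc, hL ⟨⟩, ← hx₁π,
      ← Functor.map_comp_assoc]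
    exact congrArg (fun m => (yon S).map m ≫ x₁) (C.w φ₃)
  · refine yon_hom_ext_of_cover (fun _ : PUnit.{u + 1} => s₃) hc₃ _ _ fun _ => ?_
    rw [← Category.assoc, hL ⟨⟩]
    show ((yon S).map (E.map φ₃) ≫ x₁) ≫ f.hom = _
    rw [Category.assoc, hx₁f, ← Functor.map_comp_assoc, ← Functor.map_comp_assoc, ← Functor.map_comp_assoc,
      Category.assoc]
    refine congrArg (fun m => (yon S).map m ≫ y) ?_
    rw [reassoc_of% (stageOver_map_snd D z φ₃)]
    show stageOverSnd D z l₃ ≫ D.map l₂.hom ≫ D.map (l₁.hom ≫ ψ) = s₃ ≫ D.map _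
    rw [← D.map_comp]

end Groth.Agent.AlgSpLib.LfpLimit
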