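import Groth.Agent.AlgSpLib.LimitSystem
import Groth.Agent.AlgSpLib.LfpLimit
import Groth.Agent.AlgSpLib.ClosedSub
import Groth.Agent.AlgSpLib.AffineDescent

/-!
Morphisms locally of finite presentation commute with limits of quasi-compact quasi-separated spaces.
-/

universe u

open CategoryTheory CategoryTheory.Limits AlgebraicGeometry Opposite
open AlgSp

noncomputable section

namespace Groth.Agent.AlgSpLib.LfpSpaces

set_option backward.isDefEq.respectTransparency false

variable {S : Scheme.{u}}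

/-- a map out of the source of an etale surjection which equalises the kernel pair descends -/
theorem exists_desc_of_etale {F G H : Sp S} {p : F ⟶ G} (he : RepWith @Etale p) (hs : RepWith @Surjective p)
    (x : F ⟶ H) (h : ∀ {W : Sp S} (g₁ g₂ : W ⟶ F), g₁ ≫ p = g₂ ≫ p → g₁ ≫ x = g₂ ≫ x) :
    ∃ g : G ⟶ H, p ≫ g = x := by
  have := epi_of_etale_surjective he hs
  have : IsRegularEpi p := IsRegularEpiCategory.regularEpiOfEpi p
  exact ⟨EffectiveEpi.desc p x (fun g₁ g₂ e => h g₁ g₂ e), EffectiveEpi.fac _ _ _⟩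

variable [QuasiSeparatedSpace ↥S] {I : Type u} [SmallCategory I] [IsCofiltered I] (D : I ⥤ Sp S)
  (hD : ∀ i, IsAlgSpace (D.obj i)) (hDa : ∀ (i j : I) (φ : i ⟶ j), IsAffineMor (D.map φ))
  (hqc : ∀ i, IsQuasiCompactSp (D.obj i)) (hqs : ∀ i, IsQuasiSeparatedSp (D.obj i))
  (c : Cone D) (hc : IsLimit c) {X Y : Space S} (f : X ⟶ Y)

include hD hDa hqc hc in
/-- two points over a stage with the same image, agreeing on the limit, agree at a later stage -/
theorem exists_eq (hf : LocP @LocallyOfFiniteType f.hom) {i : I} (x x' : D.obj i ⟶ X.obj)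
    (h : x ≫ f.hom = x' ≫ f.hom) (hπ : c.π.app i ≫ x = c.π.app i ≫ x') :
    ∃ (j : I) (φ : j ⟶ i), D.map φ ≫ x = D.map φ ≫ x' := by
  have := compactSpace_points_of_isQuasiCompactSp (hqc i)
  obtain ⟨V, v, hV, hve, hvs⟩ := exists_affine_chart (hD i)
  obtain ⟨E, η, pr, cE, hcE, θ, haff, hnat, hsq, hpr, hη, hθe, hθs, hcπ⟩ :=
    exists_chart_system D hDa c hc v hve hvs
  have hEa : ∀ j, IsAffine (E.obj j).left := fun j => by
    have := hpr j
    exact isAffine_of_isAffineHom (pr j).left
  let i₀ : Over i := Over.mk (𝟙 i)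
  obtain ⟨j, φ, hj⟩ := LfpLimit.exists_stage_eq f hf E cE hcE (fun j => inferInstance)
    (fun j => inferInstance) haff (i := i₀) (η i₀ ≫ x) (η i₀ ≫ x')
    (by rw [Category.assoc, Category.assoc, h])
    (by rw [← Category.assoc, ← Category.assoc, (hcπ i₀).w, Category.assoc, Category.assoc]
        exact congrArg (θ ≫ ·) hπ)
  refine ⟨j.left, φ.left, ?_⟩
  have := epi_of_etale_surjective (hη j).1 (hη j).2
  rw [← cancel_epi (η j)]
  rw [← Category.assoc, ← Category.assoc, ← (hnat φ).w, Category.assoc, Category.assoc]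
  exact hj

include hD hDa hqc hqs hc in
/-- points over the limit come from a stage -/
theorem exists_point (hf : LocP @LocallyOfFinitePresentation f.hom) (x : c.pt ⟶ X.obj) (i : I)
    (y : D.obj i ⟶ Y.obj) (h : x ≫ f.hom = c.π.app i ≫ y) :
    ∃ (k : I) (φ : k ⟶ i) (x' : D.obj k ⟶ X.obj),
      c.π.app k ≫ x' = x ∧ x' ≫ f.hom = D.map φ ≫ y := by
  have hft : LocP @LocallyOfFiniteType f.hom :=
    locP_mono (fun _ _ g hg => by have : LocallyOfFinitePresentation g := hg; exact inferInstanceAs (LocallyOfFiniteType g)) hf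
  have := compactSpace_points_of_isQuasiCompactSp (hqc i)
  obtain ⟨V, v, hV, hve, hvs⟩ := exists_affine_chart (hD i)
  obtain ⟨E, η, pr, cE, hcE, θ, haff, hnat, hsq, hpr, hη, hθe, hθs, hcπ⟩ :=
    exists_chart_system D hDa c hc v hve hvs
  have hEa : ∀ j, IsAffine (E.obj j).left := fun j => by
    have := hpr j
    exact isAffine_of_isAffineHom (pr j).left
  let i₀ : Over i := Over.mk (𝟙 i)
  have hcEa : IsAffine cE.pt.left := by
    have : ∀ {a b} (φ : a ⟶ b), IsAffineHom ((E ⋙ Over.forget S).map φ) := fun φ => haff φ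
    have : IsAffineHom (cE.π.app i₀).left := isAffineHom_π_app (E ⋙ Over.forget S) _ hcE i₀
    exact isAffine_of_isAffineHom (cE.π.app i₀).left
  obtain ⟨j, φ₀, x₁, hx₁, hx₁f⟩ := LfpLimit.exists_stage_point f hf E cE hcE (θ ≫ x) i₀ (η i₀ ≫ y) (by
    rw [Category.assoc, h, ← Category.assoc, ← Category.assoc]
    exact congrArg (· ≫ y) (hcπ i₀).w.symm)
  rw [← Category.assoc, (hnat φ₀).w, Category.assoc] at hx₁f
  -- the overlap of the chart
  have hr := (hD j.left).representable_from_yon (η j)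
  let R : Over S := hr.pullback (η j)
  have sqR : IsPullback ((yon S).map (hr.fst' (η j))) ((yon S).map (hr.snd (η j))) (η j) (η j) :=
    hr.isPullback' (η j)
  have : CompactSpace ↥R.left := by
    have : QuasiCompact (hr.snd (η j)).left :=
      (repWith_qc_chart (hD j.left) (hqs j.left) (η j)).property_snd _
    exact QuasiCompact.compactSpace_of_compactSpace (hr.snd (η j)).left
  have : QuasiSeparatedSpace ↥R.left := by
    have : IsSeparated (E.obj j).hom := inferInstance
    have : IsSeparated (hr.snd (η j)).left :=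
      (repWith_isSeparated_of_isSeparated_source (hD j.left) (η j)).property_snd _
    exact quasiSeparatedSpace_of_quasiSeparated (hr.snd (η j)).left
  let r : (yon S).obj R ⟶ D.obj j.left := (yon S).map (hr.snd (η j)) ≫ η j
  obtain ⟨E', η', pr', cR, hcR, θ', haff', hnat', hsq', hpr', ⟨f₀, sqθ'⟩, hcπ'⟩ :=
    exists_stage_system D hDa c hc r
  have hEc : ∀ l, CompactSpace ↥(E'.obj l).left := fun l => by
    have := hpr' l
    exact QuasiCompact.compactSpace_of_compactSpace (pr' l).left
  have hEs : ∀ l, QuasiSeparatedSpace ↥(E'.obj l).left := fun l => by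
    have := hpr' l
    exact quasiSeparatedSpace_of_quasiSeparated (pr' l).left
  let j₀ : Over j.left := Over.mk (𝟙 j.left)
  let z (q : R ⟶ E.obj j) : (yon S).obj (E'.obj j₀) ⟶ X.obj := (yon S).map (pr' j₀) ≫ (yon S).map q ≫ x₁
  have key : ∀ q : R ⟶ E.obj j, (yon S).map q ≫ η j = r →
      z q ≫ f.hom = η' j₀ ≫ D.map φ₀.left ≫ y ∧
      (yon S).map (cR.π.app j₀) ≫ z q = θ' ≫ x := by
    intro q hq
    have hw : (yon S).map (pr' j₀) ≫ r = η' j₀ := by
      refine (hsq' j₀).w.trans ?_
      simp [j₀]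
    refine ⟨?_, ?_⟩
    · simp only [z, Category.assoc, hx₁f]
      rw [reassoc_of% hq, reassoc_of% hw]
    · obtain ⟨l, hl1, hl2⟩ := (hcπ j).exists_lift
        ((yon S).map (cR.π.app j₀) ≫ (yon S).map (pr' j₀) ≫ (yon S).map q) θ' (by
          rw [Category.assoc, Category.assoc, hq, hw, (hcπ' j₀).w]
          rfl)
      simp only [z]
      rw [← Category.assoc ((yon S).map (pr' j₀)), ← Category.assoc, ← hl1, Category.assoc, hx₁,
        ← Category.assoc, hl2]
  have hq1 : (yon S).map (hr.fst' (η j)) ≫ η j = r := sqR.w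
  have hq2 : (yon S).map (hr.snd (η j)) ≫ η j = r := rfl
  obtain ⟨l, ψ, hl⟩ := LfpLimit.exists_stage_eq f hft E' cR hcR hEc hEs haff' (i := j₀)
    (z (hr.fst' (η j))) (z (hr.snd (η j)))
    ((key _ hq1).1.trans (key _ hq2).1.symm) ((key _ hq1).2.trans (key _ hq2).2.symm)
  -- descend at the stage
  let k : Over i := Over.mk (l.hom ≫ j.hom)
  let φ : k ⟶ j := Over.homMk l.hom rfl
  obtain ⟨g, hg⟩ := exists_desc_of_etale (hη k).1 (hη k).2 ((yon S).map (E.map φ) ≫ x₁)
    (fun {W} g₁ g₂ e => by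
      obtain ⟨w, hw1, hw2⟩ := sqR.exists_lift (g₁ ≫ (yon S).map (E.map φ)) (g₂ ≫ (yon S).map (E.map φ)) (by
        rw [Category.assoc, Category.assoc, (hnat φ).w, ← Category.assoc, e, Category.assoc])
      obtain ⟨w₀, hw₀1, hw₀2⟩ := (hsq' j₀).exists_lift w (g₂ ≫ η k ≫ D.map ψ.left) (by
        simp only [r]
        rw [← Category.assoc, hw2, Category.assoc, (hnat φ).w]
        simp [φ, j₀, show ψ.left = l.hom by have := Over.w ψ; simpa [j₀] using this])
      obtain ⟨w', hw'1, hw'2⟩ := (hnat' ψ).exists_lift w₀ (g₂ ≫ η k) (by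
        rw [hw₀2, Category.assoc])
      have e' := congrArg (w' ≫ ·) hl
      simp only [z] at e'
      rwa [reassoc_of% hw'1, reassoc_of% hw'1, reassoc_of% hw₀1, reassoc_of% hw₀1,
        reassoc_of% hw1, reassoc_of% hw2] at e')
  have hk : k.left = l.left := rfl
  refine ⟨l.left, l.hom ≫ j.hom, g, ?_, ?_⟩
  · have := epi_of_etale_surjective hθe hθs
    refine (cancel_epi θ).1 ?_
    have h2 : θ ≫ c.π.app l.left = (yon S).map (cE.π.app k) ≫ η k := (hcπ k).w.symm
    rw [← Category.assoc, h2, Category.assoc, hg, ← Category.assoc, ← Functor.map_comp, cE.w, hx₁]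
  · have := epi_of_etale_surjective (hη k).1 (hη k).2
    refine (cancel_epi (η k)).1 ?_
    rw [← Category.assoc, hg, Category.assoc, hx₁f, ← Category.assoc, (hnat φ).w, Category.assoc,
      ← D.map_comp_assoc]
    have e1 : φ.left ≫ φ₀.left = l.hom ≫ j.hom := by
      have := Over.w φ₀
      simp [i₀] at this
      simp [φ, this]
    rw [e1]

end Groth.Agent.AlgSpLib.LfpSpaces
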