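import Groth.Agent.AlgSpLib.VCartLimit
import Groth.Agent.AlgSpLib.QCohEtPushQcqs
import Groth.Agent.AlgSpLib.FpqcBaseAffine2
import Groth.Agent.Stk19.AlgSt.SepSp
import Groth.Agent.Stk19b.ZarQs
import Groth.Agent.AlgSpLib.LfpSpaces
import Groth.Agent.AlgSpLib.Pres

/-!
A quasi-affine morphism to a quasi-compact quasi-separated space is an affine morphism followed by one of finite
presentation.
-/

universe u

open CategoryTheory CategoryTheory.Limits AlgebraicGeometry Opposite TopologicalSpace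
open AlgSp

noncomputable section

set_option linter.style.haveILetI false

namespace Groth.Agent.AlgSpLib.QAFactor

open Groth.Agent.AlgSpLib.QCohEt Groth.Agent.AlgSpLib.SerreAff RelSpecSp LimitSep VCart

set_option backward.isDefEq.respectTransparency.types false
set_option backward.isDefEq.respectTransparency false

variable {S : Scheme.{u}}

theorem isQuasiAffine_bcObj {X Y : Sp S} {k : X ⟶ Y} (hk : IsQuasiAffineMor k) (hr : Representable k)
    (E : EtOver Y) (hE : IsAff E) : (EtOver.bcObj hr E).obj.left.left.IsQuasiAffine := by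
  obtain ⟨W, i, fst, sq, hW⟩ := hk (Z := E.obj.left) hE E.obj.hom
  haveI := hW
  obtain ⟨e, he⟩ := (yon S).map_surjective (((hr.isPullback E.obj.hom).isoIsPullback _ _ sq).hom)
  have : IsIso ((yon S).map e) := by
    rw [he]
    infer_instance
  have : IsIso e := isIso_of_fully_faithful (yon S) e
  have : IsIso e.left := inferInstanceAs (IsIso ((Over.forget S).map e))
  exact Scheme.IsQuasiAffine.of_isAffineHom e.left

variable {X Y : Sp S} {k : X ⟶ Y}

theorem repWith_qc_sep (hk : IsQuasiAffineMor k) (E₀ : EtOver Y) (h₀ : IsAff E₀)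
    (hs₀ : RepWith @Surjective E₀.obj.hom) :
    RepWith @QuasiCompact k ∧ RepWith @AlgebraicGeometry.IsSeparated k := by
  have hr := representable_of_isQuasiAffineMor hk
  have hW := isQuasiAffine_bcObj hk hr E₀ h₀
  haveI : IsAffine E₀.obj.left.left := h₀
  haveI := hW
  have := isLocallySurjective_of_etale E₀.property hs₀
  haveI : (hr.pullback E₀.obj.hom).left.IsQuasiAffine := hW
  constructor
  · exact repWith_of_isLocallySurjective hr E₀.obj.hom (hr.isPullback E₀.obj.hom) _
      ((AlgSp.repWith_yon_map_iff _ _).2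
        (HasAffineProperty.iff_of_isAffine (P := @QuasiCompact).2
          (inferInstance : CompactSpace (hr.pullback E₀.obj.hom).left)))
  · refine repWith_of_isLocallySurjective hr E₀.obj.hom (hr.isPullback E₀.obj.hom) _
      ((AlgSp.repWith_yon_map_iff _ _).2 ?_)
    exact IsSeparated.of_comp _ (terminal.from E₀.obj.left.left)

theorem isQuasiCompactMor_qa (hk : IsQuasiAffineMor k) (E₀ : EtOver Y) (h₀ : IsAff E₀)
    (hs₀ : RepWith @Surjective E₀.obj.hom) : IsQuasiCompactMor k :=
  Stk19.isQuasiCompactMor_of_repWith (repWith_qc_sep hk E₀ h₀ hs₀).1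

theorem isQuasiSeparatedMor_qa (hk : IsQuasiAffineMor k) (E₀ : EtOver Y) (h₀ : IsAff E₀)
    (hs₀ : RepWith @Surjective E₀.obj.hom) : IsQuasiSeparatedMor k :=
  (repWith_diagonal_iff (representable_of_isQuasiAffineMor hk)).2
    (RepWith.mono (fun _ _ g (_ : AlgebraicGeometry.IsSeparated g) => by
      rw [← quasiSeparated_eq_diagonal_is_quasiCompact]; infer_instance) (repWith_qc_sep hk E₀ h₀ hs₀).2)

/-- generators for the functions on a quasi-affine space -/
theorem exists_gens_qcqs [QuasiSeparatedSpace ↥S] {X : Sp S} {Y : AlgSp.Space S} {ν : X ⟶ Y.obj} (hr : Representable ν)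
    (hqcν : IsQuasiCompactMor ν) (hqsν : IsQuasiSeparatedMor ν) (hqc : IsQuasiCompactSp Y.obj)
    (hqs : IsQuasiSeparatedSp Y.obj) (E₀ : EtOver Y.obj) (h₀ : IsAff E₀) : Nonempty (Gens hr E₀) := by
  haveI : (unitModEt X).IsQuasicoherent := Groth.Agent.S10035.isQuasicoherent_unitModEt
  haveI : ((pushModEt hr).obj (unitModEt X)).IsQuasicoherent :=
    isQuasicoherent_of_forall _ fun E hE => by haveI := hE; exact isBC_push_qcqs hr (unitModEt X) hqcν hqsν E
  obtain ⟨C⟩ := exists_fpCover hqc hqs (M := (pushModEt hr).obj (unitModEt X))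
  choose a ha using fun c : Kap hr E₀ => exists_mem_relIdx hqc hqs E₀ h₀ (elt hr E₀ c)
  exact ⟨⟨fun c => C.G (a c), fun c => C.qc (a c), fun c => C.fp (a c), fun c => C.p (a c),
    fun c => C.surj (a c) E₀ h₀ _ (ha c)⟩⟩

/-- finitely many functions whose affine basic opens cover a quasi-affine scheme -/
theorem exists_affine_basic_cover (W : Scheme.{u}) [W.IsQuasiAffine] :
    ∃ A : Finset Γ(W, ⊤), (∀ f ∈ A, IsAffineOpen (W.basicOpen f)) ∧ ∀ w : W, ∃ f ∈ A, w ∈ W.basicOpen f := by
  classical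
  have h : ∀ w : W, ∃ f : Γ(W, ⊤), IsAffineOpen (W.basicOpen f) ∧ w ∈ W.basicOpen f := fun w => by
    obtain ⟨_, ⟨_, ⟨r, hr, rfl⟩, rfl⟩, hwr, -⟩ :=
      (Scheme.IsQuasiAffine.isBasis_basicOpen W).exists_subset_of_mem_open (Set.mem_univ w) isOpen_univ
    exact ⟨r, hr, hwr⟩
  choose f hf hw using h
  obtain ⟨t, ht⟩ := isCompact_univ.elim_finite_subcover (fun w : W => (W.basicOpen (f w) : Set W))
    (fun w => (W.basicOpen (f w)).isOpen) (fun w _ => Set.mem_iUnion.2 ⟨w, hw w⟩)
  refine ⟨t.image f, fun a ha => ?_, fun w => ?_⟩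
  · obtain ⟨i, -, rfl⟩ := Finset.mem_image.1 ha
    exact hf i
  · obtain ⟨i, hi, hwi⟩ := Set.mem_iUnion₂.1 (ht (Set.mem_univ w))
    exact ⟨f i, Finset.mem_image_of_mem _ hi, hwi⟩

theorem isPullback_restrict {V W : Over S} (c : W ⟶ V) (O : V.left.Opens) :
    IsPullback ((yon S).map (restrictOverι W (c.left ⁻¹ᵁ O)))
      ((yon S).map (Over.homMk (c.left ∣_ O) (by
        show (c.left ∣_ O) ≫ O.ι ≫ V.hom = (c.left ⁻¹ᵁ O).ι ≫ W.hom
        rw [← Category.assoc, morphismRestrict_ι, Category.assoc, Over.w c]) :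
          restrictOver W (c.left ⁻¹ᵁ O) ⟶ restrictOver V O))
      ((yon S).map c) ((yon S).map (restrictOverι V O)) := by
  refine IsPullback.map (yon S) (IsPullback.of_map (Over.forget S) ?_ ?_)
  · exact Over.OverMorphism.ext (morphismRestrict_ι c.left O).symm
  · exact (isPullback_morphismRestrict c.left O).flip

theorem points_eq (V : Over S) {F : Sp S} (q : (yon S).obj V ⟶ F) (O : V.left.Opens) :
    Set.range (Points.map ((yon S).map (restrictOverι V O) ≫ q)) = Points.ofPt q '' (O : Set V.left) := by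
  ext x
  constructor
  · rintro ⟨p, rfl⟩
    obtain ⟨t, rfl⟩ := (Points.schemeEquiv _).surjective p
    refine ⟨(restrictOverι V O).left t, t.2, ?_⟩
    rw [Points.ofPt_eq_map_ofScheme, Points.map_comp]
    exact congrArg _ (map_yon_map_ofScheme (restrictOverι V O) t).symm
  · rintro ⟨v, hv, rfl⟩
    refine ⟨Points.ofScheme (restrictOver V O) ⟨v, hv⟩, ?_⟩
    rw [Points.ofPt_eq_map_ofScheme, Points.map_comp]
    exact congrArg _ (map_yon_map_ofScheme (restrictOverι V O) ⟨v, hv⟩)

/-- the main statement -/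
theorem exists_affine_factor [QuasiSeparatedSpace ↥S] {X : Sp S} {P : AlgSp.Space S} {k : X ⟶ P.obj}
    (hX : IsAlgSpace X) (hk : IsQuasiAffineMor k) (hqc : IsQuasiCompactSp P.obj) (hqs : IsQuasiSeparatedSp P.obj) :
    ∃ (Q : AlgSp.Space S) (a : X ⟶ Q.obj) (g : Q.obj ⟶ P.obj), a ≫ g = k ∧ IsAffineMor a ∧
      IsFinitePresentationMor g ∧ IsQuasiCompactSp Q.obj ∧ IsQuasiSeparatedSp Q.obj := by
  classical
  haveI := compactSpace_points_of_isQuasiCompactSp hqc
  obtain ⟨B, b, hB, hbe, hbs⟩ := Groth.Agent.AlgSpLib.exists_affine_chart P.property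
  let E₀ : EtOver P.obj := EtOver.mk b hbe
  have h₀ : IsAff E₀ := hB
  have hs₀ : RepWith @Surjective E₀.obj.hom := hbs
  have hr := representable_of_isQuasiAffineMor hk
  have hWqa := isQuasiAffine_bcObj hk hr E₀ h₀
  obtain ⟨g⟩ := exists_gens_qcqs hr (isQuasiCompactMor_qa hk E₀ h₀ hs₀) (isQuasiSeparatedMor_qa hk E₀ h₀ hs₀)
    hqc hqs E₀ h₀
  haveI := hWqa
  obtain ⟨A, hA, hcov⟩ := exists_affine_basic_cover (EtOver.bcObj hr E₀).obj.left.left
  let T : AlgSp.Space S := VS (g.FM A) (E₀ := E₀) h₀ hs₀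
  let V : Over S := (data (g.FM A)).V E₀ h₀
  haveI hVaff : IsAffine V.left := isAffine_VE (g.FM A) E₀ h₀
  let W : Over S := (EtOver.bcObj hr E₀).obj.left
  let c : W ⟶ V := chartMap (g.FM A) hr (g.pA A) E₀ h₀
  let qc' : (yon S).obj V ⟶ T.obj := q (data (g.FM A)) E₀ h₀
  have sq : IsPullback (hr.fst E₀.obj.hom) ((yon S).map c) (g.x A) qc' :=
    isPullback_toV (g.FM A) hr (g.pA A) E₀ h₀
  have hqe : RepWith @Etale qc' := RepWith.baseChange (isPullback_q (data (g.FM A)) E₀ h₀).flip E₀.property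
  have hqsur : RepWith @Surjective qc' := RepWith.baseChange (isPullback_q (data (g.FM A)) E₀ h₀).flip hs₀
  have hop : IsOpenQuotientMap (Points.ofPt qc') := isOpenQuotientMap_ofPt qc' hqe hqsur
  have hlift : ∀ f : A, ∃ s : Γ(V.left, ⊤), c.left.appTop.hom s = (f.1 : Γ(W.left, ⊤)) := fun f => by
    obtain ⟨z, hz⟩ := g.exists_evA_eq A h₀ f.2
    refine ⟨(Scheme.ΓSpecIso (Alg (g.FM A) E₀ h₀)).inv.hom z, ?_⟩
    exact (congrArg (fun φ => φ.hom z) (g.chartMap_appTop A E₀ h₀)).trans hz
  choose s hsc using hlift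
  let D : A → V.left.Opens := fun f => V.left.basicOpen (s f)
  have hD : ∀ f, c.left ⁻¹ᵁ D f = W.left.basicOpen (f.1 : Γ(W.left, ⊤)) := fun f => by
    rw [Scheme.preimage_basicOpen_top]
    exact congrArg W.left.basicOpen (hsc f)
  let O : Set (Points T.obj) := ⋃ f : A, Points.ofPt qc' '' (D f : Set V.left)
  have hO : IsOpen O := isOpen_iUnion fun f => hop.isOpenMap _ (D f).isOpen
  let j : openSubspace T.obj O ⟶ T.obj := openSubspaceι T.obj O
  have hQalg : IsAlgSpace (openSubspace T.obj O) := isAlgSpace_openSubspace T.property hO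
  let Vf : A → Over S := fun f => restrictOver V (D f)
  haveI hVf : ∀ f, IsAffine (Vf f).left := fun f => (isAffineOpen_top V.left).basicOpen (s f)
  have hb : ∀ f : A, ∃ l, l ≫ j = (yon S).map (restrictOverι V (D f)) ≫ qc' := fun f =>
    (exists_lift_openSubspace_iff O _).2 fun t => by
      rw [ofPt_map]
      exact Set.mem_iUnion.2 ⟨f, _, t.2, rfl⟩
  choose β hβ using hb
  have hβe : ∀ f, RepWith @Etale (β f) := fun f => by
    have hcomp : RepWith @Etale ((yon S).map (restrictOverι V (D f)) ≫ qc') :=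
      RepWith.comp ((repWith_yon_map_iff _ _).2 (inferInstanceAs (Etale (D f).ι))) hqe
    exact repWith_of_comp_mono (β f) j (by rw [hβ f]; exact hcomp)
  have hjinj : Function.Injective (Points.map j) :=
    ((isEmbedding_map_of_immersion T.property
      (RepWith.mono (fun _ _ g (_ : IsOpenImmersion g) => (inferInstance : IsImmersion g))
        (repWith_openSubspaceι T.obj hO))).1).injective
  have hβsurj : ∀ y : Points (openSubspace T.obj O), ∃ f, y ∈ Set.range (Points.map (β f)) := fun y => by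
    have hy : Points.map j y ∈ O := (range_openSubspaceι T.obj O).le ⟨y, rfl⟩
    obtain ⟨f, hf⟩ := Set.mem_iUnion.1 hy
    rw [← points_eq V qc' (D f)] at hf
    obtain ⟨p, hp⟩ := hf
    exact ⟨f, p, hjinj (by rw [← Points.map_comp, hβ f, hp])⟩
  have hQqc : IsQuasiCompactSp (openSubspace T.obj O) := by
    refine (isQuasiCompactSp_iff_compactSpace hQalg).2 ⟨?_⟩
    rw [show (Set.univ : Set (Points (openSubspace T.obj O))) = ⋃ f, Set.range (Points.map (β f)) from
      (Set.eq_univ_of_forall fun y => Set.mem_iUnion.2 (hβsurj y)).symm]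
    refine isCompact_iUnion fun f => ?_
    haveI : CompactSpace (Points ((yon S).obj (Vf f))) := (Points.schemeHomeo (Vf f)).compactSpace
    exact isCompact_range (Points.continuous_map _)
  have haff := isAffineMor_VS (g.FM A) (E₀ := E₀) h₀ hs₀
  have hTqs : IsQuasiSeparatedSp T.obj := isQuasiSeparatedSp_of_affineMor haff hqs
  have hQqs : IsQuasiSeparatedSp (openSubspace T.obj O) := Stk19b.ZarQs.isQuasiSeparatedSp_of_mono j hTqs
  have hxO : ∀ {R : Over S} (r : (yon S).obj R ⟶ X) (t : R.left), Points.ofPt (r ≫ g.x A) t ∈ O := by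
    intro R r t
    have hfs : RepWith @Surjective (hr.fst E₀.obj.hom) := RepWith.baseChange (hr.isPullback E₀.obj.hom).flip hs₀
    obtain ⟨p, hp⟩ := surjective_map_of_repWith hfs (Points.ofPt r t)
    obtain ⟨w, rfl⟩ := (Points.schemeEquiv _).surjective p
    obtain ⟨f, hfA, hwf⟩ := hcov w
    refine Set.mem_iUnion.2 ⟨⟨f, hfA⟩, c.left w, ?_, ?_⟩
    · show w ∈ c.left ⁻¹ᵁ D ⟨f, hfA⟩
      rw [hD]
      exact hwf
    · rw [← Points.map_ofPt, ← hp, Points.ofPt_eq_map_ofScheme, ← map_yon_map_ofScheme c w, ← Points.map_comp,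
        ← sq.w, Points.map_comp]
      rfl
  obtain ⟨a, ha⟩ : ∃ a : X ⟶ openSubspace T.obj O, a ≫ j = g.x A := by
    obtain ⟨U, u, hue, hus⟩ := hX.atlas
    obtain ⟨l, hl⟩ := (exists_lift_openSubspace_iff O (u ≫ g.x A)).2 (hxO u)
    obtain ⟨a, ha⟩ := LfpSpaces.exists_desc_of_etale hue hus l fun g₁ g₂ e => (cancel_mono j).1 (by
      rw [Category.assoc, Category.assoc, hl, ← Category.assoc, e, Category.assoc])
    haveI := epi_of_etale_surjective hue hus
    exact ⟨a, (cancel_epi u).1 (by rw [← Category.assoc, ha, hl])⟩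
  refine ⟨⟨_, hQalg⟩, a, j ≫ g.τ A, ?_, ?_, ⟨?_, ?_, ?_⟩, hQqc, hQqs⟩
  · rw [← Category.assoc, ha]
    exact g.x_τ A
  · have sqf : ∀ f, IsPullback ((yon S).map (restrictOverι W (c.left ⁻¹ᵁ D f)) ≫ hr.fst E₀.obj.hom)
        ((yon S).map (Over.homMk (c.left ∣_ D f) (by
          show (c.left ∣_ D f) ≫ (D f).ι ≫ V.hom = (c.left ⁻¹ᵁ D f).ι ≫ W.hom
          rw [← Category.assoc, morphismRestrict_ι, Category.assoc, Over.w c]) :
            restrictOver W (c.left ⁻¹ᵁ D f) ⟶ Vf f)) a (β f) := fun f => by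
      have h := (isPullback_restrict c (D f)).paste_horiz sq
      rw [← hβ f, ← ha] at h
      exact isPullback_of_comp_mono j h
    refine (isAffineMor_iff_isLocal (fun f => (yon S).obj (Vf f)) β hQalg (fun _ => IsAlgSpace.yon_obj _)
      (isFpqcCover_of_etale hQalg Vf β hβe hβsurj) a hX _ _ _ (fun _ => IsAlgSpace.yon_obj _) sqf).2 fun f => ?_
    rw [isAffineMor_iff_repWith]
    haveI : IsAffine (restrictOver W (c.left ⁻¹ᵁ D f)).left := (hD f).symm ▸ hA f.1 f.2
    haveI : IsAffine (Vf f).left := hVf f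
    exact (repWith_yon_map_iff _ _).2 (isAffineHom_of_isAffine _)
  · have hrτ := ((isAffineMor_iff_repWith _).1 haff).1
    haveI : Module.FinitePresentation (ΓE E₀) (Sec (g.FM A).G E₀) := g.fp_GA A E₀ h₀
    have hlfpτ : RepWith @LocallyOfFinitePresentation (g.τ A) := by
      have := etLocal_lfp.bc
      have := etLocal_lfp.localTarget
      have := isLocallySurjective_of_etale E₀.property hs₀
      exact repWith_of_isLocallySurjective hrτ E₀.obj.hom (isPullback_q (data (g.FM A)) E₀ h₀) _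
        ((AlgSp.repWith_yon_map_iff _ _).2 (lfp_v (g.FM A) E₀ h₀))
    exact locP_of_repWith etLocal_lfp hQalg (RepWith.comp
      (RepWith.mono (fun _ _ g (_ : IsOpenImmersion g) => (inferInstance : LocallyOfFinitePresentation g))
        (repWith_openSubspaceι T.obj hO)) hlfpτ)
  · exact isQuasiCompactMor_of_qc_qs hQalg P.property _ hQqc hqs
  · exact isQuasiSeparatedMor_comp (isQuasiSeparatedMor_of_mono j)
      (isQuasiSeparatedMor_of_isSeparatedMor (diag_separated haff))

end Groth.Agent.AlgSpLib.QAFactor
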