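import Groth.Agent.AlgSpLib.ApproxMain
import Groth.Agent.AlgSpLib.QuasiAffineCancel
import Groth.Agent.AlgSpLib.QuasiAffineFactor
import Groth.Agent.AlgSpLib.AffineLftClosed
import Groth.Agent.AlgSpLib.OpenFac

/-!
Morphisms of quasi-compact quasi-separated spaces factor as affine followed by finitely presented.
-/

universe u

open CategoryTheory CategoryTheory.Limits AlgebraicGeometry Opposite
open AlgSp

noncomputable section

set_option linter.style.haveILetI false

namespace Groth.Agent.AlgSpLib.Approx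

open Groth.Agent.AlgSpLib

set_option backward.isDefEq.respectTransparency.types false
set_option backward.isDefEq.respectTransparency false

variable {S : Scheme.{u}} [QuasiSeparatedSpace ↥S]

/-- an affine morphism followed by one of finite presentation -/
theorem exists_affine_fp_factor {X Y : AlgSp.Space S} (f : X.obj ⟶ Y.obj) (hc : IsQuasiCompactSp X.obj)
    (hs : IsQuasiSeparatedSp X.obj) (hYs : IsQuasiSeparatedSp Y.obj) :
    ∃ (Q : AlgSp.Space S) (a : X.obj ⟶ Q.obj) (g : Q.obj ⟶ Y.obj), a ≫ g = f ∧ IsAffineMor a ∧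
      IsFinitePresentationMor g ∧ IsQuasiCompactSp Q.obj ∧ IsQuasiSeparatedSp Q.obj := by
  obtain ⟨X₀, a, ha, hc₀, hs₀, hp₀⟩ := good_of_qcqs X hc hs
  obtain ⟨O, hOo, hOc, hfO, -⟩ := OpenFac.exists_compact_open Y.property (Induct.isCompact_range_map hc f)
    isOpen_univ (Set.subset_univ _)
  let Y' : AlgSp.Space S := ⟨openSubspace Y.obj O, isAlgSpace_openSubspace Y.property hOo⟩
  let j : Y'.obj ⟶ Y.obj := openSubspaceι Y.obj O
  have hj : RepWith @IsOpenImmersion j := repWith_openSubspaceι _ hOo
  haveI := Induct.mono_openImm hj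
  obtain ⟨f', hf'⟩ := (exists_lift_iff_range_subset hj f).2 (by rw [range_openSubspaceι]; exact hfO)
  have hY'c : IsQuasiCompactSp Y'.obj := Induct.isQuasiCompactSp_openImm Y'.property Y.property hj
    ((range_openSubspaceι Y.obj O).symm ▸ hOc)
  have hY's : IsQuasiSeparatedSp Y'.obj := Stk19b.ZarQs.isQuasiSeparatedSp_of_mono j hYs
  have hjfp : IsFinitePresentationMor j :=
    ⟨locP_of_repWith etLocal_lfp Y'.property
      (RepWith.mono (fun _ _ g (_ : IsOpenImmersion g) => (inferInstance : LocallyOfFinitePresentation g)) hj),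
      isQuasiCompactMor_of_qc_qs Y'.property Y.property j hY'c hYs,
      isQuasiSeparatedMor_of_isSeparatedMor (isSeparatedMor_of_mono j)⟩
  let B := (yon S).obj (Over.mk (𝟙 S))
  let p : X₀.obj ⟶ B := terminalBase.from _
  let r : Y'.obj ⟶ B := terminalBase.from _
  have sq := IsPullback.of_hasPullback p r
  have hB : IsAlgSpace B := IsAlgSpace.yon_obj _
  let P : AlgSp.Space S := ⟨pullback p r, isAlgSpace_of_isPullback hB.diag X₀.property Y'.property sq⟩
  have hr : IsQuasiSeparatedMor r := (isQuasiSeparatedMor_iff_sp r).2 hY's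
  have hp : IsQuasiSeparatedMor p := (isQuasiSeparatedMor_iff_sp p).2 hs₀
  have hfst : IsQuasiSeparatedMor (pullback.fst p r) := isQuasiSeparatedMor_of_isPullback sq.flip hr
  have hBs : IsQuasiSeparatedSp B :=
    (isQuasiSeparatedMor_iff_sp (𝟙 B)).1 (isQuasiSeparatedMor_of_isSeparatedMor (isSeparatedMor_of_mono _))
  have hPc : IsQuasiCompactSp P.obj :=
    isQuasiCompactMor_of_qc_qs X₀.property hB p hc₀ hBs Y'.property hY'c r _ _ sq
  have hPs : IsQuasiSeparatedSp P.obj :=
    (isQuasiSeparatedMor_iff_sp (pullback.fst p r ≫ p)).1 (isQuasiSeparatedMor_comp hfst hp)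
  have hsnd : IsFinitePresentationMor (pullback.snd p r) :=
    ⟨locP_of_isPullback etLocal_lfp X₀.property hB P.property sq (hp₀ p),
      isQuasiCompactMor_of_qc_qs P.property Y'.property _ hPc hY's,
      isQuasiSeparatedMor_of_isPullback sq hp⟩
  let k : X.obj ⟶ P.obj := pullback.lift a f' (terminalBase.hom_ext _ _)
  have hk : IsQuasiAffineMor k := isQuasiAffineMor_of_comp_affine X.property P.property X₀.property
    (q := pullback.fst p r) (by rw [pullback.lift_fst]; exact ha) hfst
  obtain ⟨Q, b, g, hbg, hb, hg, hQc, hQs⟩ := QAFactor.exists_affine_factor X.property hk hPc hPs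
  refine ⟨Q, b, g ≫ pullback.snd p r ≫ j, ?_, hb, ?_, hQc, hQs⟩
  · rw [← Category.assoc, hbg, ← Category.assoc, pullback.lift_snd, hf']
  · exact AffineLftClosed.fp_comp Q.property P.property Y.property hg
      (AffineLftClosed.fp_comp P.property Y'.property Y.property hsnd hjfp)

end Groth.Agent.AlgSpLib.Approx
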