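import Mathlib.CategoryTheory.Limits.Shapes.Terminal
import Mathlib.CategoryTheory.Category.Preorder
import Mathlib.Order.Directed

/-!
Limits over directed preorders may be computed above any element.
-/

universe u v w

open CategoryTheory CategoryTheory.Limits Opposite

namespace Groth.Agent.AlgSpLib.DirRes

variable {I : Type u} [Preorder I] [IsDirected I (fun a b => a ≤ b)] {C : Type w} [Category.{v} C]

/-- the indices above an element -/
abbrev Above (a₀ : I) : Type u := {a : I // a₀ ≤ a}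

instance (a₀ : I) : IsDirected (Above a₀) (fun a b => a ≤ b) :=
  ⟨fun a b => by
    obtain ⟨c, hac, hbc⟩ := exists_ge_ge a.1 b.1
    exact ⟨⟨c, a.2.trans hac⟩, hac, hbc⟩⟩

instance (a₀ : I) : Nonempty (Above a₀) := ⟨⟨a₀, le_rfl⟩⟩

/-- the inclusion of the indices above an element -/
def incl (a₀ : I) : (Above a₀)ᵒᵖ ⥤ Iᵒᵖ :=
  (Monotone.functor (f := fun a : Above a₀ => a.1) fun _ _ h => h).op

/-- the restricted limit -/
theorem nonempty_isLimit_restrict {D : Iᵒᵖ ⥤ C} (c : Cone D) (hc : IsLimit c) (a₀ : I) :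
    Nonempty (IsLimit (c.whisker (incl a₀))) := by
  classical
  let up : ∀ a : I, Above a₀ := fun a => ⟨(exists_ge_ge a a₀).choose, (exists_ge_ge a a₀).choose_spec.2⟩
  have hup : ∀ a : I, a ≤ (up a).1 := fun a => (exists_ge_ge a a₀).choose_spec.1
  let ext : ∀ s : Cone (incl a₀ ⋙ D), Cone D := fun s =>
    { pt := s.pt
      π :=
        { app := fun a => s.π.app ⟨up a.unop⟩ ≫ D.map (homOfLE (hup a.unop)).op
          naturality := fun a b φ => by
            obtain ⟨m, hma, hmb⟩ := exists_ge_ge (up a.unop) (up b.unop)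
            show 𝟙 _ ≫ s.π.app ⟨up b.unop⟩ ≫ D.map (homOfLE (hup b.unop)).op =
              (s.π.app ⟨up a.unop⟩ ≫ D.map (homOfLE (hup a.unop)).op) ≫ D.map φ
            rw [Category.id_comp, ← s.w (homOfLE hma).op, ← s.w (homOfLE hmb).op, Category.assoc, Category.assoc,
              Category.assoc]
            show s.π.app ⟨m⟩ ≫ D.map _ ≫ D.map _ = s.π.app ⟨m⟩ ≫ D.map _ ≫ D.map _ ≫ D.map φ
            rw [← D.map_comp, ← D.map_comp, ← D.map_comp]
            rfl } }
  refine ⟨{ lift := fun s => hc.lift (ext s)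
            fac := fun s a => ?_
            uniq := fun s m hm => ?_ }⟩
  · show hc.lift (ext s) ≫ c.π.app ⟨a.unop.1⟩ = s.π.app a
    rw [hc.fac]
    show s.π.app ⟨up a.unop.1⟩ ≫ D.map (homOfLE (hup a.unop.1)).op = s.π.app a
    exact (s.w (j := ⟨up a.unop.1⟩) (j' := a) (homOfLE (show a.unop ≤ up a.unop.1 from hup a.unop.1)).op)
  · refine hc.uniq (ext s) m fun a => ?_
    show m ≫ c.π.app a = s.π.app ⟨up a.unop⟩ ≫ D.map (homOfLE (hup a.unop)).op
    rw [← hm ⟨up a.unop⟩, ← c.w (homOfLE (hup a.unop)).op]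
    exact (Category.assoc _ _ _).symm

end Groth.Agent.AlgSpLib.DirRes
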