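import Groth.Agent.AlgSpLib.LimitDiag
import Groth.Agent.AlgSpLib.LqfScheme
import Groth.Agent.AlgSpLib.DiscreteFibres
import Groth.Agent.EGA43.Limit.Immersions
import Groth.Agent.H8Lim.Descent

/-!
# Descent along limits of properties of separated locally quasi-finite morphisms
-/

universe u

set_option autoImplicit false
set_option backward.isDefEq.respectTransparency.types false

open CategoryTheory CategoryTheory.Limits AlgebraicGeometry Opposite AlgSp

namespace Groth.Agent.AlgSpLib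

theorem limDescends_isFinite :
    EGA43.Limit.Descends.{u} @LocallyOfFiniteType @IsFinite := by
  intro I _ _ D c hc hI i₀ _ _ X₀ f₀ _ _ hQ X p f sq hf
  exact H8Lim.descends_isFinite D c hc (fun φ => hI _ _ φ) i₀ f₀ hQ f p sq hf

variable {S : Scheme.{u}} {I : Type u} [SmallCategory I] [IsCofiltered I] (D : I ⥤ Sp S) {i₀ : I}

set_option maxHeartbeats 800000 in
/-- Once a stage of `f₀` is separated and locally quasi-finite, properties of representable
morphisms descend. -/
theorem exists_stage_of_lqf_separated [QuasiSeparatedSpace ↥S]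
    (hD : ∀ i, IsAlgSpace (D.obj i))
    (hDa : ∀ (i j : I) (φ : i ⟶ j), IsAffineMor (D.map φ)) (c : Cone D) (hc : IsLimit c)
    {P : MorphismProperty Scheme.{u}}
    [P.IsStableUnderBaseChange] [P.IsLocalAtTarget Scheme.fppfPrecoverage]
    (hdesc : EGA43.Limit.Descends @LocallyOfFiniteType P) {X₀ Y₀ : Sp S} (hX₀ : IsAlgSpace X₀)
    (hY₀ : IsAlgSpace Y₀) (hXqc : IsQuasiCompactSp X₀) (hYqc : IsQuasiCompactSp Y₀)
    (hYqs : IsQuasiSeparatedSp Y₀)
    (f₀ : X₀ ⟶ Y₀) (b₀ : Y₀ ⟶ D.obj i₀) (hf₀ : LocP @LocallyOfFiniteType f₀)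
    {i₁ : I} (φ₁ : i₁ ⟶ i₀) (hsep : HoldsAtStage D IsSeparatedMor f₀ b₀ φ₁)
    (hlqf : HoldsAtStage D (LocP (@LocallyQuasiFinite ⊓ @LocallyOfFiniteType)) f₀ b₀ φ₁)
    {X Y : Sp S} (f : X ⟶ Y) (pY : Y ⟶ Y₀) (qY : Y ⟶ c.pt)
    (hY : IsPullback pY qY b₀ (c.π.app i₀)) (pX : X ⟶ X₀) (hX : IsPullback pX f f₀ pY)
    (hP : RepWith P f) :
    ∃ (i : I) (φ : i ⟶ i₀), HoldsAtStage D (RepWith P) f₀ b₀ φ := by
  let C := pullback b₀ (D.map φ₁)
  let pC : C ⟶ Y₀ := pullback.fst _ _
  let qC : C ⟶ D.obj i₁ := pullback.snd _ _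
  have hC : IsPullback pC qC b₀ (D.map φ₁) := IsPullback.of_hasPullback _ _
  let A := pullback f₀ pC
  let g : A ⟶ C := pullback.snd _ _
  have hA : IsPullback (pullback.fst f₀ pC) g f₀ pC := IsPullback.of_hasPullback _ _
  have hCa : IsAlgSpace C := isAlgSpace_of_isPullback (hD i₀).diag hY₀ (hD i₁) hC
  have hAa : IsAlgSpace A := isAlgSpace_of_isPullback hY₀.diag hX₀ hCa hA
  have hgsep := hsep A C g pC qC hC _ hA
  have hgr : Representable g :=
    representable_of_lqf_separated' hAa hCa g hgsep (hlqf A C g pC qC hC _ hA)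
  have hgl : RepWith @LocallyOfFiniteType g := (repWith_iff_locP etLocal_lft hAa hCa hgr).2
    (locP_of_isPullback etLocal_lft hX₀ hY₀ hAa hA hf₀)
  have hgs : RepWith @IsSeparated g :=
    RepWith.mono (fun _ _ m (hm : IsClosedImmersion (pullback.diagonal m)) => ⟨hm⟩)
      ((repWith_diagonal_iff hgr).1 hgsep)
  -- an affine chart of `C`
  have := (isQuasiCompactSp_iff_compactSpace hX₀).1 hXqc
  have := (isQuasiCompactSp_iff_compactSpace hY₀).1 hYqc
  obtain ⟨U, a, hU, hae, has⟩ := exists_affine_chart hX₀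
  obtain ⟨V₀, v₀, hV₀, hve₀, hvs₀⟩ := exists_affine_chart hY₀
  obtain ⟨V, w, vD, sqV, hV⟩ := hDa i₁ i₀ φ₁ hV₀ (v₀ ≫ b₀)
  let v : (yon S).obj V ⟶ C := hC.lift ((yon S).map w ≫ v₀) vD (by
    rw [Category.assoc]; exact sqV.w.symm)
  have sqv : IsPullback ((yon S).map w) v v₀ pC := by
    refine IsPullback.of_bot ?_ (hC.lift_fst _ _ _).symm hC
    rw [hC.lift_snd]
    exact sqV.flip
  have hve : RepWith @Etale v := RepWith.baseChange sqv hve₀
  have hvs : RepWith @Surjective v := RepWith.baseChange sqv hvs₀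
  have := isLocallySurjective_of_etale hve hvs
  have sqg := hgr.isPullback v
  let W : Over S := hgr.pullback v
  let d : W ⟶ V := hgr.snd v
  have hdsep : IsSeparated d.left := hgs.2 _ _ _ sqg
  have sqW : IsPullback (hgr.fst v ≫ pullback.fst f₀ pC) ((yon S).map d) f₀ (v ≫ pC) :=
    sqg.paste_horiz hA
  have : CompactSpace W.left := by
    have hr := hY₀.representable_from_yon (a ≫ f₀)
    have : QuasiCompact (hr.snd (v ≫ pC)).left :=
      (repWith_qc_chart hY₀ hYqs (a ≫ f₀)).2 _ _ _ (hr.isPullback' (v ≫ pC))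
    have : CompactSpace (hr.pullback (v ≫ pC)).left :=
      QuasiCompact.compactSpace_of_compactSpace (hr.snd (v ≫ pC)).left
    have sqR := hr.isPullback' (v ≫ pC)
    let l : (yon S).obj (hr.pullback (v ≫ pC)) ⟶ (yon S).obj W :=
      sqW.lift ((yon S).map (hr.fst' (v ≫ pC)) ≫ a) ((yon S).map (hr.snd (v ≫ pC)))
        (by rw [Category.assoc]; exact sqR.w)
    obtain ⟨l', hl'⟩ := (yon S).map_surjective l
    have sql : IsPullback ((yon S).map (hr.fst' (v ≫ pC))) ((yon S).map l') a
        (hgr.fst v ≫ pullback.fst f₀ pC) := by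
      rw [hl']
      refine IsPullback.of_bot ?_ (sqW.lift_fst _ _ _).symm sqW
      rw [sqW.lift_snd]
      exact sqR
    have : Surjective l'.left := (repWith_yon_map_iff @Surjective l').1 (RepWith.baseChange sql has)
    exact l'.left.surjective.compactSpace l'.left.continuous
  have hqc : RepWith @QuasiCompact g := repWith_of_isLocallySurjective hgr v sqg @QuasiCompact
    ((repWith_yon_map_iff @QuasiCompact _).2 (quasiCompact_of_compactSpace d.left))
  have hqs : RepWith @QuasiSeparated g :=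
    RepWith.mono (fun _ _ m (_ : IsSeparated m) => (inferInstance : QuasiSeparated m)) hgs
  -- the limit square
  let lY : Y ⟶ C := hC.lift pY (qY ≫ c.π.app i₁) (by rw [Category.assoc, c.w]; exact hY.w)
  have hlY : IsPullback lY qY qC (c.π.app i₁) := by
    refine IsPullback.of_right ?_ (hC.lift_snd _ _ _) hC
    rw [hC.lift_fst, c.w]
    exact hY
  let lX : X ⟶ A := hA.lift pX (f ≫ lY) (by rw [Category.assoc, hC.lift_fst]; exact hX.w)
  have hlX : IsPullback lX f g lY := by
    refine IsPullback.of_right ?_ (hA.lift_snd _ _ _) hA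
    rw [hA.lift_fst, hC.lift_fst]
    exact hX
  obtain ⟨i, ψ, hi⟩ := exists_stage_of_descends D hDa c hc hdesc g qC v hve hvs hgl hqc hqs f lY qY
    hlY lX hlX hP
  refine ⟨i, ψ ≫ φ₁, fun Ai Ci gi pCi qCi hCi pAi hAi => ?_⟩
  let y : Ci ⟶ C := hC.lift pCi (qCi ≫ D.map ψ) (by
    rw [Category.assoc, ← D.map_comp]; exact hCi.w)
  have hy : IsPullback y qCi qC (D.map ψ) := by
    refine IsPullback.of_right ?_ (hC.lift_snd _ _ _) hC
    rw [hC.lift_fst, ← D.map_comp]
    exact hCi
  let x : Ai ⟶ A := hA.lift pAi (gi ≫ y) (by rw [Category.assoc, hC.lift_fst]; exact hAi.w)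
  have hx : IsPullback x gi g y := by
    refine IsPullback.of_right ?_ (hA.lift_snd _ _ _) hA
    rw [hA.lift_fst, hC.lift_fst]
    exact hAi
  exact hi Ai Ci gi y qCi hy x hx

/-- A monomorphism locally of finite type is separated and locally quasi-finite. -/
theorem lqf_separated_of_mono {X Y : Sp S} (hX : IsAlgSpace X) (hY : IsAlgSpace Y) (f : X ⟶ Y)
    [Mono f] (hf : LocP @LocallyOfFiniteType f) :
    IsSeparatedMor f ∧ LocP (@LocallyQuasiFinite ⊓ @LocallyOfFiniteType) f := by
  have : IsIso (pullback.diagonal f) := inferInstance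
  refine ⟨repWith_of_isIso @IsClosedImmersion _, ?_⟩
  refine locP_lqf_of_discrete_fibres hX hY hf fun k Xk fst snd sq => ?_
  have : Mono snd := (MorphismProperty.monomorphisms (Sp S)).of_isPullback sq (inferInstance : Mono f)
  have : Subsingleton ↥k.pt.left := inferInstanceAs (Subsingleton ↥(Spec (CommRingCat.of k.K)))
  have : Subsingleton (Points ((yon S).obj k.pt)) := (Points.schemeEquiv k.pt).symm.subsingleton
  have : Subsingleton (Points Xk) := (injective_map_of_mono snd).subsingleton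
  infer_instance

end Groth.Agent.AlgSpLib
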