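import Groth.Agent.S10062
import Groth.Agent.S10019
import Groth.Agent.AlgSpLib.MorQC
import Groth.Agent.AlgSpLib.MorMore2

/-!
A limit of algebraic spaces is separated over a base only if a stage is.
-/

universe u

set_option autoImplicit false
set_option backward.isDefEq.respectTransparency.types false

open CategoryTheory CategoryTheory.Limits AlgebraicGeometry Opposite AlgSp

noncomputable section

namespace Groth.Agent.AlgSpLib.LimitSep

theorem isPullback_diag {C : Type*} [Category C] [HasPullbacks C] {X D Y : C} (a : X ⟶ D) (d : D ⟶ Y) (g : X ⟶ Y)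
    (h : a ≫ d = g) :
    IsPullback (pullback.fst a a ≫ a)
      (pullback.map a a g g (𝟙 X) (𝟙 X) d (by rw [h, Category.id_comp]) (by rw [h, Category.id_comp]))
      (pullback.diagonal d)
      (pullback.map g g d d a a (𝟙 Y) (by rw [h, Category.comp_id]) (by rw [h, Category.comp_id])) := by
  subst h
  exact pullback_map_diagonal_isPullback a a d

theorem diag_factor {C : Type*} [Category C] [HasPullbacks C] {X D Y : C} (a : X ⟶ D) (d : D ⟶ Y) (g : X ⟶ Y)
    (h : a ≫ d = g) : pullback.diagonal a ≫
      pullback.map a a g g (𝟙 X) (𝟙 X) d (by rw [h, Category.id_comp]) (by rw [h, Category.id_comp]) =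
      pullback.diagonal g := by
  apply pullback.hom_ext <;> simp [pullback.lift_fst, pullback.lift_snd]

variable {S : Scheme.{u}} {I : Type u} [SmallCategory I] {D : I ⥤ Sp S} {Y : Sp S}
  (t : D ⟶ (Functor.const I).obj Y) (c : Cone D)

theorem tn {i j : I} (φ : i ⟶ j) : D.map φ ≫ t.app j = t.app i :=
  (t.naturality φ).trans (Category.comp_id _)

theorem diag_separated {F G : Sp S} {a : F ⟶ G} (ha : IsAffineMor a) : IsSeparatedMor a :=
  (repWith_diagonal_iff ((isAffineMor_iff_repWith _).1 ha).1).2 (RepWith.mono (fun _ _ q (_ : IsAffineHom q) =>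
    (inferInstance : IsSeparated q).diagonal_isClosedImmersion) ((isAffineMor_iff_repWith _).1 ha))

/-- the fibre squares of the projections -/
def kSys : I ⥤ Sp S where
  obj i := pullback (c.π.app i) (c.π.app i)
  map {i j} φ := pullback.map _ _ _ _ (𝟙 c.pt) (𝟙 c.pt) (D.map φ)
    ((c.w φ).trans (Category.id_comp _).symm) ((c.w φ).trans (Category.id_comp _).symm)
  map_id i := by apply pullback.hom_ext <;> simp [pullback.lift_fst, pullback.lift_snd]
  map_comp φ ψ := by
    apply pullback.hom_ext <;>
      simp [pullback.lift_fst, pullback.lift_snd, pullback.lift_fst_assoc, pullback.lift_snd_assoc]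

/-- the diagonal cone -/
def kCone : Cone (kSys c) where
  pt := c.pt
  π :=
    { app := fun i => pullback.diagonal (c.π.app i)
      naturality := fun i j φ => by apply pullback.hom_ext <;> simp [kSys, pullback.lift_fst, pullback.lift_snd] }

theorem isLimit_kCone [IsCofiltered I] (hc : IsLimit c) : Nonempty (IsLimit (kCone c)) := by
  obtain ⟨o⟩ := IsCofiltered.nonempty (C := I)
  have hfst : ∀ (s : Cone (kSys c)) (i : I),
      s.π.app i ≫ pullback.fst (c.π.app i) (c.π.app i) = s.π.app o ≫ pullback.fst (c.π.app o) (c.π.app o) ∧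
      s.π.app i ≫ pullback.snd (c.π.app i) (c.π.app i) = s.π.app o ≫ pullback.snd (c.π.app o) (c.π.app o) := by
    intro s i
    obtain ⟨k, a, a', -⟩ := IsCofilteredOrEmpty.cone_objs i o
    constructor <;> rw [← s.w a, ← s.w a', Category.assoc, Category.assoc] <;>
      simp [kSys, pullback.lift_fst, pullback.lift_snd]
  have heq : ∀ s : Cone (kSys c),
      s.π.app o ≫ pullback.fst (c.π.app o) (c.π.app o) = s.π.app o ≫ pullback.snd (c.π.app o) (c.π.app o) := by
    intro s
    refine hc.hom_ext fun i => ?_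
    rw [← (hfst s i).1, ← (hfst s i).2]
    exact (Category.assoc _ _ _).trans ((congrArg (s.π.app i ≫ ·) pullback.condition).trans (Category.assoc _ _ _).symm)
  refine ⟨{ lift := fun s => s.π.app o ≫ pullback.fst (c.π.app o) (c.π.app o), fac := fun s i => ?_,
            uniq := fun s m hm => ?_ }⟩
  · apply pullback.hom_ext
    · exact (Category.assoc _ _ _).trans ((congrArg (_ ≫ ·) (pullback.diagonal_fst _)).trans
        ((Category.comp_id _).trans (hfst s i).1.symm))
    · exact (Category.assoc _ _ _).trans ((congrArg (_ ≫ ·) (pullback.diagonal_snd _)).trans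
        ((Category.comp_id _).trans ((heq s).trans (hfst s i).2.symm)))
  · rw [← hm o]
    exact (((Category.assoc _ _ _).trans (congrArg (m ≫ ·) (pullback.diagonal_fst _))).trans (Category.comp_id _)).symm

/-- the fibre squares of the stages -/
def tSys : I ⥤ Sp S where
  obj i := pullback (t.app i) (t.app i)
  map {i j} φ := pullback.map _ _ _ _ (D.map φ) (D.map φ) (𝟙 Y)
    ((Category.comp_id (t.app i)).trans (tn t φ).symm) ((Category.comp_id (t.app i)).trans (tn t φ).symm)
  map_id i := by apply pullback.hom_ext <;> simp [pullback.lift_fst, pullback.lift_snd]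
  map_comp φ ψ := by
    apply pullback.hom_ext <;>
      simp [pullback.lift_fst, pullback.lift_snd, pullback.lift_fst_assoc, pullback.lift_snd_assoc]

theorem tSys_fst {i j : I} (φ : i ⟶ j) :
    (tSys t).map φ ≫ pullback.fst (t.app j) (t.app j) = pullback.fst (t.app i) (t.app i) ≫ D.map φ :=
  pullback.lift_fst _ _ _

theorem tSys_snd {i j : I} (φ : i ⟶ j) :
    (tSys t).map φ ≫ pullback.snd (t.app j) (t.app j) = pullback.snd (t.app i) (t.app i) ≫ D.map φ :=
  pullback.lift_snd _ _ _

variable {c} {g : c.pt ⟶ Y} (hg : ∀ i, c.π.app i ≫ t.app i = g)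

/-- the fibre square cone -/
def tCone : Cone (tSys t) where
  pt := pullback g g
  π :=
    { app := fun i => pullback.map _ _ _ _ (c.π.app i) (c.π.app i) (𝟙 Y)
        ((Category.comp_id g).trans (hg i).symm) ((Category.comp_id g).trans (hg i).symm)
      naturality := fun i j φ => by
        apply pullback.hom_ext <;>
          simp [tSys, pullback.lift_fst, pullback.lift_snd, pullback.lift_fst_assoc, pullback.lift_snd_assoc] }

theorem tCone_fst (i : I) :
    (tCone t hg).π.app i ≫ pullback.fst (t.app i) (t.app i) = pullback.fst g g ≫ c.π.app i := pullback.lift_fst _ _ _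

theorem tCone_snd (i : I) :
    (tCone t hg).π.app i ≫ pullback.snd (t.app i) (t.app i) = pullback.snd g g ≫ c.π.app i := pullback.lift_snd _ _ _

theorem isLimit_tCone [IsCofiltered I] (hc : IsLimit c) : Nonempty (IsLimit (tCone t hg)) := by
  obtain ⟨o⟩ := IsCofiltered.nonempty (C := I)
  let s₁ : Cone (tSys t) → Cone D := fun s =>
    { pt := s.pt
      π :=
        { app := fun i => s.π.app i ≫ pullback.fst (t.app i) (t.app i)
          naturality := fun i j φ => by
            show 𝟙 s.pt ≫ s.π.app j ≫ pullback.fst (t.app j) (t.app j) =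
              (s.π.app i ≫ pullback.fst (t.app i) (t.app i)) ≫ D.map φ
            rw [Category.id_comp, ← s.w φ, Category.assoc, tSys_fst]
            exact (Category.assoc _ _ _).symm } }
  let s₂ : Cone (tSys t) → Cone D := fun s =>
    { pt := s.pt
      π :=
        { app := fun i => s.π.app i ≫ pullback.snd (t.app i) (t.app i)
          naturality := fun i j φ => by
            show 𝟙 s.pt ≫ s.π.app j ≫ pullback.snd (t.app j) (t.app j) =
              (s.π.app i ≫ pullback.snd (t.app i) (t.app i)) ≫ D.map φ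
            rw [Category.id_comp, ← s.w φ, Category.assoc, tSys_snd]
            exact (Category.assoc _ _ _).symm } }
  refine ⟨{
    lift := fun s => pullback.lift (hc.lift (s₁ s)) (hc.lift (s₂ s)) (by
      rw [← hg o, ← Category.assoc, ← Category.assoc, hc.fac, hc.fac]
      exact (Category.assoc _ _ _).trans ((congrArg (s.π.app o ≫ ·) pullback.condition).trans
        (Category.assoc _ _ _).symm))
    fac := fun s i => ?_
    uniq := fun s m hm => ?_ }⟩
  · apply pullback.hom_ext
    · exact (Category.assoc _ _ _).trans ((congrArg (_ ≫ ·) (tCone_fst t hg i)).trans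
        ((Category.assoc _ _ _).symm.trans
          ((congrArg (· ≫ c.π.app i) (pullback.lift_fst _ _ _)).trans (hc.fac (s₁ s) i))))
    · exact (Category.assoc _ _ _).trans ((congrArg (_ ≫ ·) (tCone_snd t hg i)).trans
        ((Category.assoc _ _ _).symm.trans
          ((congrArg (· ≫ c.π.app i) (pullback.lift_snd _ _ _)).trans (hc.fac (s₂ s) i))))
  · apply pullback.hom_ext
    · rw [pullback.lift_fst]
      refine hc.hom_ext fun i => ?_
      rw [hc.fac, Category.assoc, ← tCone_fst t hg]
      exact (Category.assoc _ _ _).symm.trans (congrArg (· ≫ pullback.fst (t.app i) (t.app i)) (hm i))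
    · rw [pullback.lift_snd]
      refine hc.hom_ext fun i => ?_
      rw [hc.fac, Category.assoc, ← tCone_snd t hg]
      exact (Category.assoc _ _ _).symm.trans (congrArg (· ≫ pullback.snd (t.app i) (t.app i)) (hm i))

/-- If the limit is separated over a quasi-separated base, so is a stage. -/
theorem exists_stage_isSeparatedMor [IsCofiltered I] [QuasiSeparatedSpace ↥S] (hY : IsAlgSpace Y)
    (hYqs : IsQuasiSeparatedSp Y) (hD : ∀ i, IsAlgSpace (D.obj i))
    (hDa : ∀ (i j : I) (φ : i ⟶ j), IsAffineMor (D.map φ)) (hc : IsLimit c)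
    (hg : ∀ i, c.π.app i ≫ t.app i = g)
    (hqc : ∀ i, IsQuasiCompactSp (D.obj i)) (hqs : ∀ i, IsQuasiSeparatedSp (D.obj i))
    (hX : IsSeparatedMor g) : ∃ o : I, ∀ i, (i ⟶ o) → IsSeparatedMor (t.app i) := by
  have hX' := isAlgSpace_limit D hD hDa c hc
  obtain ⟨i₀⟩ := IsCofiltered.nonempty (C := I)
  have hπ : ∀ i, IsAffineMor (c.π.app i) := fun i => isAffineMor_π D hDa c hc i
  have hπ' := fun i => (isAffineMor_iff_repWith _).1 (hπ i)
  -- the limit
  have hXqc : IsQuasiCompactSp c.pt :=
    (repWith_quasiCompact_iff hX' (hD i₀) (hπ' i₀).1).1 (RepWith.mono (fun _ _ q (_ : IsAffineHom q) =>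
      (inferInstance : QuasiCompact q)) (hπ' i₀)) (hD i₀) (hqc i₀) (𝟙 _) (𝟙 _) (c.π.app i₀)
      (IsPullback.of_horiz_isIso ⟨by simp⟩)
  have hXqs : IsQuasiSeparatedSp c.pt := by
    obtain ⟨q, -⟩ := exists_to_base (D.obj i₀)
    exact (isQuasiSeparatedMor_iff_sp (c.π.app i₀ ≫ q)).1 (isQuasiSeparatedMor_comp
      (isQuasiSeparatedMor_of_isSeparatedMor (diag_separated (hπ i₀))) ((isQuasiSeparatedMor_iff_sp q).2 (hqs i₀)))
  -- the fibre square of the limit
  have hT : IsAlgSpace (pullback g g) := isAlgSpace_of_isPullback hY.diag hX' hX' (IsPullback.of_hasPullback g g)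
  have hgqc : IsQuasiCompactMor g := isQuasiCompactMor_of_qc_qs hX' hY g hXqc hYqs
  have hTqc : IsQuasiCompactSp (pullback g g) := hgqc hX' hXqc g _ _ (IsPullback.of_hasPullback g g)
  have hTqs : IsQuasiSeparatedSp (pullback g g) := by
    obtain ⟨q, -⟩ := exists_to_base c.pt
    exact (isQuasiSeparatedMor_iff_sp (pullback.fst g g ≫ q)).1 (isQuasiSeparatedMor_comp
      (isQuasiSeparatedMor_of_isSeparatedMor
        (isSeparatedMor_of_isPullback (IsPullback.of_hasPullback g g).flip hX)) ((isQuasiSeparatedMor_iff_sp q).2 hXqs))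
  -- the system of fibre squares of the projections
  let K := kSys c
  have hKfst : ∀ i, IsAffineMor (pullback.fst (c.π.app i) (c.π.app i)) := fun i =>
    isAffineMor_of_isPullback (IsPullback.of_hasPullback _ _).flip (hπ i)
  have hK : ∀ i, IsAlgSpace (K.obj i) := fun i =>
    isAlgSpace_of_isPullback (hD i).diag hX' hX' (IsPullback.of_hasPullback _ _)
  let t' : K ⟶ (Functor.const I).obj (pullback g g) :=
    { app := fun i => pullback.map _ _ _ _ (𝟙 c.pt) (𝟙 c.pt) (t.app i)
        ((hg i).trans (Category.id_comp g).symm) ((hg i).trans (Category.id_comp g).symm)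
      naturality := fun i j φ => by
        apply pullback.hom_ext <;> simp [K, kSys, pullback.lift_fst, pullback.lift_snd] }
  have hKc : ∀ (i j : I) (φ : i ⟶ j), RepWith @IsClosedImmersion (K.map φ) := fun i j φ =>
    RepWith.baseChange (isPullback_diag (c.π.app i) (D.map φ) (c.π.app j) (c.w φ)) (diag_separated (hDa i j φ))
  obtain ⟨hKl⟩ := isLimit_kCone c hc
  have hKqc : ∀ i, IsQuasiCompactSp (K.obj i) := fun i => by
    have h := (isAffineMor_iff_repWith _).1 (hKfst i)
    exact (repWith_quasiCompact_iff (hK i) hX' h.1).1 (RepWith.mono (fun _ _ q (_ : IsAffineHom q) =>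
      (inferInstance : QuasiCompact q)) h) hX' hXqc (𝟙 _) (𝟙 _) (pullback.fst (c.π.app i) (c.π.app i))
      (IsPullback.of_horiz_isIso ⟨by simp⟩)
  have hKqs : ∀ i, IsQuasiSeparatedSp (K.obj i) := fun i => by
    obtain ⟨q, -⟩ := exists_to_base c.pt
    exact (isQuasiSeparatedMor_iff_sp (pullback.fst (c.π.app i) (c.π.app i) ≫ q)).1 (isQuasiSeparatedMor_comp
      (isQuasiSeparatedMor_of_isSeparatedMor (diag_separated (hKfst i))) ((isQuasiSeparatedMor_iff_sp q).2 hXqs))
  have hlft : ∀ i, RepWith @LocallyOfFiniteType (pullback.diagonal (t.app i)) := fun i =>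
    repWith_diagonal _ (repWith_diag_lft (hD i))
  obtain ⟨j, hj⟩ := S10062.result S ⟨pullback g g, hT⟩ K hK t' hKc (kCone c) hKl (pullback.diagonal g)
    (fun i => diag_factor (c.π.app i) (t.app i) g (hg i)) hKqc hKqs hTqc hTqs
    (fun i => locP_of_repWith etLocal_lft (hK i)
      (RepWith.baseChange (isPullback_diag (c.π.app i) (t.app i) g (hg i)) (hlft i)))
    hX
  -- descend to a stage
  obtain ⟨hTl⟩ := isLimit_tCone t hg hc
  have hTi : ∀ i, IsAlgSpace ((tSys t).obj i) := fun i =>
    isAlgSpace_of_isPullback hY.diag (hD i) (hD i) (IsPullback.of_hasPullback _ _)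
  have htqc : IsQuasiCompactMor (t.app j) := isQuasiCompactMor_of_qc_qs (hD j) hY _ (hqc j) hYqs
  have hTjqc : IsQuasiCompactSp ((tSys t).obj j) := htqc (hD j) (hqc j) _ _ _ (IsPullback.of_hasPullback _ _)
  have hTjqs : IsQuasiSeparatedSp ((tSys t).obj j) := by
    obtain ⟨q, -⟩ := exists_to_base (D.obj j)
    exact (isQuasiSeparatedMor_iff_sp (pullback.fst (t.app j) (t.app j) ≫ q)).1 (isQuasiSeparatedMor_comp
      (isQuasiSeparatedMor_of_isPullback (IsPullback.of_hasPullback _ _).flip
        (repWith_diagonal (t.app j) (hqs j))) ((isQuasiSeparatedMor_iff_sp q).2 (hqs j)))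
  obtain ⟨i, φ, hi⟩ := S10019.result S (tSys t) hTi
    (fun a b ψ => (isAffineMor_iff_repWith _).2 (MorphismProperty.pullback_map
      ((isAffineMor_iff_repWith _).1 (hDa a b ψ)) ((isAffineMor_iff_repWith _).1 (hDa a b ψ))
      (tn t ψ).symm (tn t ψ).symm))
    (tCone t hg) hTl j hTjqc hTjqs ⟨D.obj j, hD j⟩ ⟨(tSys t).obj j, hTi j⟩ (pullback.diagonal (t.app j)) (𝟙 _)
    (hqc j) (hqs j) hTjqc hTjqs (K.obj j) (pullback g g) (t'.app j) ((tCone t hg).π.app j) (𝟙 _)
    (IsPullback.id_vert ((tCone t hg).π.app j)) (pullback.fst (c.π.app j) (c.π.app j) ≫ c.π.app j)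
    (isPullback_diag (c.π.app j) (t.app j) g (hg j)) (hj j (𝟙 j)) (locP_of_repWith etLocal_lft (hD j) (hlft j))
  have hfi := hi _ ((tSys t).obj i) _ ((tSys t).map φ) (𝟙 _) (IsPullback.id_vert ((tSys t).map φ)) _
    (isPullback_diag (D.map φ) (t.app j) (t.app i) (tn t φ))
  have hsep : IsSeparatedMor (t.app i) := by
    show RepWith @IsClosedImmersion (pullback.diagonal (t.app i))
    rw [← diag_factor (D.map φ) (t.app j) (t.app i) (tn t φ)]
    exact RepWith.comp (diag_separated (hDa i j φ)) hfi
  refine ⟨i, fun k ψ => ?_⟩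
  rw [← tn t ψ]
  exact isSeparatedMor_comp (diag_separated (hDa k i ψ)) hsep

end Groth.Agent.AlgSpLib.LimitSep
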