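import Groth.Agent.AlgSpLib.VCartMap
import Groth.Agent.AlgSpLib.LimitSeparated
import Groth.Agent.AlgSpLib.MorProper
import Groth.Agent.AlgSpLib.MorQC
import Groth.Agent.AlgSpLib.FpqcBaseImm

/-!
The affine space of a finitely presented module is of finite presentation.
-/

universe u

open CategoryTheory CategoryTheory.Limits AlgebraicGeometry Opposite TensorProduct
open AlgSp

noncomputable section

set_option linter.style.haveILetI false

namespace Groth.Agent.AlgSpLib.VCart

open Groth.Agent.AlgSpLib.QCohEt SymRing RelSpecSp LimitSep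

set_option backward.isDefEq.respectTransparency.types false
set_option backward.isDefEq.respectTransparency false

variable {S : Scheme.{u}}

theorem isQuasiSeparatedSp_of_affineMor [QuasiSeparatedSpace ↥S] {Z Y : Sp S} {μ : Z ⟶ Y} (hμ : IsAffineMor μ)
    (hY : IsQuasiSeparatedSp Y) : IsQuasiSeparatedSp Z := by
  have hT : IsTerminal ((yon S).obj (Over.mk (𝟙 S))) := IsTerminal.isTerminalObj (yon S) _ Over.mkIdTerminal
  have h : IsQuasiSeparatedMor (μ ≫ hT.from Y) :=
    isQuasiSeparatedMor_comp (isQuasiSeparatedMor_of_isSeparatedMor (diag_separated hμ))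
      ((isQuasiSeparatedMor_iff_sp _).2 hY)
  exact (isQuasiSeparatedMor_iff_sp _).1 h

theorem isQuasiCompactMor_of_affineMor [QuasiSeparatedSpace ↥S] {Z Y : Sp S} (hZ : IsAlgSpace Z) (hY : IsAlgSpace Y)
    {μ : Z ⟶ Y} (hμ : IsAffineMor μ) : IsQuasiCompactMor μ :=
  (repWith_quasiCompact_iff hZ hY ((isAffineMor_iff_repWith _).1 hμ).1).1
    (RepWith.mono (fun _ _ g (_ : IsAffineHom g) => (inferInstance : QuasiCompact g)) ((isAffineMor_iff_repWith _).1 hμ))

variable {Y : AlgSp.Space S} (G : FinMod Y.obj) {E₀ : EtOver Y.obj}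

theorem isAffine_VE (E : EtOver Y.obj) (hE : IsAff E) : IsAffine ((data G).V E hE).left :=
  inferInstanceAs (IsAffine (Spec (Alg G E hE)))

/-- the space -/
def VS (h₀ : IsAff E₀) (hs₀ : RepWith @Surjective E₀.obj.hom) : AlgSp.Space S :=
  ⟨RelSpecSp.obj (data G), isAlgSpace_obj (data G) Y.property ⟨E₀, h₀, hs₀⟩⟩

theorem isAffineMor_VS (h₀ : IsAff E₀) (hs₀ : RepWith @Surjective E₀.obj.hom) : IsAffineMor (str (data G)) :=
  isAffineMor_str (data G) Y.property h₀ hs₀ (isAffine_VE G E₀ h₀)

theorem isQuasiCompactSp_VS (h₀ : IsAff E₀) (hs₀ : RepWith @Surjective E₀.obj.hom) :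
    IsQuasiCompactSp (RelSpecSp.obj (data G)) := by
  haveI := isAffine_VE G E₀ h₀
  exact ⟨_, q (data G) E₀ h₀, RepWith.baseChange (isPullback_q (data G) E₀ h₀).flip E₀.property,
    RepWith.baseChange (isPullback_q (data G) E₀ h₀).flip hs₀, inferInstance⟩

theorem finitePresentation_alg (E : EtOver Y.obj) (hE : IsAff E) [Module.FinitePresentation (ΓE E) (Sec G.G E)] :
    (strA G E hE).hom.FinitePresentation := by
  haveI : Module.FinitePresentation (R0 E) (SM G E hE) := by
    obtain ⟨n, π, hπ⟩ := Module.Finite.exists_fin' (ΓE E) (Sec G.G E)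
    obtain ⟨s, hs⟩ := Module.FinitePresentation.fg_ker π hπ
    let π' : (Fin n → R0 E) →ₗ[R0 E] SM G E hE :=
      { toFun := fun v => sh G E hE (π fun i => upHom E (v i))
        map_add' := fun v w => by
          rw [← map_add (sh G E hE), ← map_add π]
          exact congrArg (fun z => sh G E hE (π z)) (funext fun i => map_add (upHom E) _ _)
        map_smul' := fun r v => by
          rw [RingHom.id_apply, ← sh_smul, ← map_smul π]
          exact congrArg (fun z => sh G E hE (π z)) (funext fun i => map_mul (upHom E) r (v i)) }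
    have hπ' : Function.Surjective π' := fun m => by
      obtain ⟨x, rfl⟩ := (sh G E hE).surjective m
      obtain ⟨v, rfl⟩ := hπ x
      exact ⟨fun i => dnHom E (v i), rfl⟩
    refine Module.finitePresentation_of_surjective π' hπ' ?_
    classical
    refine ⟨s.image fun v i => dnHom E (v i), le_antisymm (Submodule.span_le.2 ?_) fun v hv => ?_⟩
    · intro v hv
      obtain ⟨w, hw, rfl⟩ := Finset.mem_image.1 (Finset.mem_coe.1 hv)
      show sh G E hE (π w) = 0
      rw [show π w = 0 from LinearMap.mem_ker.1 (hs ▸ Submodule.subset_span hw), map_zero]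
    · have hv' : (fun i => upHom E (v i)) ∈ Submodule.span (ΓE E) (s : Set (Fin n → ΓE E)) := by
        rw [hs]
        exact (sh G E hE).injective ((LinearMap.mem_ker.1 hv).trans (map_zero _).symm)
      have key : ∀ w ∈ Submodule.span (ΓE E) (s : Set (Fin n → ΓE E)),
          (fun i => dnHom E (w i)) ∈ Submodule.span (R0 E) ↑(s.image fun v i => dnHom E (v i)) := by
        intro w hw
        induction hw using Submodule.span_induction with
        | mem x hx => exact Submodule.subset_span (Finset.mem_coe.2 (Finset.mem_image_of_mem _ hx))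
        | zero => exact zero_mem _
        | add x y _ _ hx hy => exact add_mem hx hy
        | smul r x _ hx => exact Submodule.smul_mem _ (dnHom E r) hx
      exact key _ hv'
  haveI := SymRing.finitePresentation (R := R0 E) (M := SM G E hE)
  exact RingHom.finitePresentation_algebraMap.2 inferInstance

theorem lfp_v (E : EtOver Y.obj) (hE : IsAff E) [Module.FinitePresentation (ΓE E) (Sec G.G E)] :
    LocallyOfFinitePresentation ((data G).v E hE).left := by
  haveI : IsAffine E.obj.left.left := hE
  show LocallyOfFinitePresentation (Spec.map (strA G E hE) ≫ E.obj.left.left.isoSpec.inv)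
  haveI : LocallyOfFinitePresentation (Spec.map (strA G E hE)) :=
    (HasRingHomProperty.Spec_iff (P := @LocallyOfFinitePresentation)).2 (finitePresentation_alg G E hE)
  infer_instance

theorem isFinitePresentationMor_VS [QuasiSeparatedSpace ↥S] (h₀ : IsAff E₀) (hs₀ : RepWith @Surjective E₀.obj.hom)
    (hfp : Module.FinitePresentation (ΓE E₀) (Sec G.G E₀)) : IsFinitePresentationMor (str (data G)) := by
  haveI := hfp
  have haff := isAffineMor_VS G h₀ hs₀
  have hr := ((isAffineMor_iff_repWith _).1 haff).1
  have hZ : IsAlgSpace (RelSpecSp.obj (data G)) := (VS G h₀ hs₀).property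
  have := etLocal_lfp.bc
  have := etLocal_lfp.localTarget
  refine ⟨locP_of_repWith etLocal_lfp hZ ?_, isQuasiCompactMor_of_affineMor hZ Y.property haff,
    isQuasiSeparatedMor_of_isSeparatedMor (diag_separated haff)⟩
  have := isLocallySurjective_of_etale E₀.property hs₀
  exact repWith_of_isLocallySurjective hr E₀.obj.hom (isPullback_q (data G) E₀ h₀) _
    ((AlgSp.repWith_yon_map_iff _ _).2 (lfp_v G E₀ h₀))

end Groth.Agent.AlgSpLib.VCart
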