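import Mathlib.CategoryTheory.Limits.Shapes.Terminal
import Mathlib.CategoryTheory.Category.Preorder
import Mathlib.Order.Directed

/-!
Limits over directed preorders may be computed on cofinal subsets.
-/

universe u v w

open CategoryTheory CategoryTheory.Limits Opposite

namespace Groth.Agent.AlgSpLib.DirCof

variable {I : Type u} [Preorder I] [IsDirected I (fun a b => a ≤ b)] {C : Type w} [Category.{v} C]
  (P : I → Prop) (hP : ∀ a, ∃ b, a ≤ b ∧ P b)

include hP in
theorem isDirected : IsDirected {a // P a} (fun a b => a ≤ b) :=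
  ⟨fun a b => by
    obtain ⟨c, hac, hbc⟩ := exists_ge_ge a.1 b.1
    obtain ⟨d, hcd, hd⟩ := hP c
    exact ⟨⟨d, hd⟩, hac.trans hcd, hbc.trans hcd⟩⟩

include hP in
theorem nonempty [Nonempty I] : Nonempty {a // P a} :=
  let ⟨a⟩ := ‹Nonempty I›
  let ⟨b, _, hb⟩ := hP a
  ⟨⟨b, hb⟩⟩

/-- the inclusion -/
def incl : {a // P a}ᵒᵖ ⥤ Iᵒᵖ :=
  (Monotone.functor (f := fun a : {a // P a} => a.1) fun _ _ h => h).op

include hP in
/-- the restricted limit -/
theorem nonempty_isLimit_restrict {D : Iᵒᵖ ⥤ C} (c : Cone D) (hc : IsLimit c) :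
    Nonempty (IsLimit (c.whisker (incl P))) := by
  classical
  haveI := isDirected P hP
  let up : ∀ a : I, {a // P a} := fun a => ⟨(hP a).choose, (hP a).choose_spec.2⟩
  have hup : ∀ a : I, a ≤ (up a).1 := fun a => (hP a).choose_spec.1
  let ext : ∀ s : Cone (incl P ⋙ D), Cone D := fun s =>
    { pt := s.pt
      π :=
        { app := fun a => s.π.app ⟨up a.unop⟩ ≫ D.map (homOfLE (hup a.unop)).op
          naturality := fun a b φ => by
            obtain ⟨m, hma, hmb⟩ := exists_ge_ge (up a.unop) (up b.unop)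
            show 𝟙 _ ≫ s.π.app ⟨up b.unop⟩ ≫ D.map (homOfLE (hup b.unop)).op =
              (s.π.app ⟨up a.unop⟩ ≫ D.map (homOfLE (hup a.unop)).op) ≫ D.map φ
            rw [Category.id_comp, ← s.w (homOfLE hma).op, ← s.w (homOfLE hmb).op, Category.assoc, Category.assoc,
              Category.assoc]
            show s.π.app ⟨m⟩ ≫ D.map _ ≫ D.map _ = s.π.app ⟨m⟩ ≫ D.map _ ≫ D.map _ ≫ D.map φ
            rw [← D.map_comp, ← D.map_comp, ← D.map_comp]
            rfl } }
  refine ⟨{ lift := fun s => hc.lift (ext s)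
            fac := fun s a => ?_
            uniq := fun s m hm => ?_ }⟩
  · show hc.lift (ext s) ≫ c.π.app ⟨a.unop.1⟩ = s.π.app a
    rw [hc.fac]
    show s.π.app ⟨up a.unop.1⟩ ≫ D.map (homOfLE (hup a.unop.1)).op = s.π.app a
    exact (s.w (j := ⟨up a.unop.1⟩) (j' := a) (homOfLE (show a.unop ≤ up a.unop.1 from hup a.unop.1)).op)
  · refine hc.uniq (ext s) m fun a => ?_
    show m ≫ c.π.app a = s.π.app ⟨up a.unop⟩ ≫ D.map (homOfLE (hup a.unop)).op
    rw [← hm ⟨up a.unop⟩, ← c.w (homOfLE (hup a.unop)).op]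
    exact (Category.assoc _ _ _).symm

end Groth.Agent.AlgSpLib.DirCof
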