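import Groth.Agent.AlgSpLib.SubOpen
import Mathlib.AlgebraicGeometry.Morphisms.FinitePresentation
import Mathlib.RingTheory.FinitePresentation

/-!
Morphisms of affine schemes over an affine base which are isomorphisms over basic opens.
-/

universe u

open CategoryTheory CategoryTheory.Limits AlgebraicGeometry TopologicalSpace

noncomputable section

namespace Groth.Agent.AlgSpLib.BasicIso

set_option backward.isDefEq.respectTransparency.types false
set_option backward.isDefEq.respectTransparency false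

/-- isomorphism over a basic open: numerators in the image and torsion kernel -/
theorem isIso_morphismRestrict {N V : Scheme.{u}} [IsAffine N] [IsAffine V] (d : N ⟶ V) (g : Γ(V, ⊤))
    (hinj : ∀ b : Γ(V, ⊤), d.appTop b = 0 → ∃ k : ℕ, g ^ k * b = 0)
    (h : ∀ y : Γ(N, N.basicOpen (d.appTop g)), ∃ (m : ℕ) (a : Γ(N, ⊤)), a ∈ Set.range d.appTop ∧
        y * (N.presheaf.map (homOfLE le_top).op).hom (d.appTop g) ^ m = (N.presheaf.map (homOfLE le_top).op).hom a) :
    IsIso (d ∣_ V.basicOpen g) := by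
  haveI : IsAffineHom d := isAffineHom_of_isAffine d
  rw [isIso_morphismRestrict_iff_isIso_app d ((isAffineOpen_top V).basicOpen g)]
  let ιN := (N.presheaf.map (homOfLE (le_top : N.basicOpen (d.appTop g) ≤ ⊤)).op).hom
  let ιV := (V.presheaf.map (homOfLE (le_top : V.basicOpen g ≤ ⊤)).op).hom
  have he : N.basicOpen (d.appTop g) = d ⁻¹ᵁ V.basicOpen g := (Scheme.preimage_basicOpen d g).symm
  let θ : Γ(V, V.basicOpen g) →+* Γ(N, N.basicOpen (d.appTop g)) :=
    (d.app (V.basicOpen g) ≫ N.presheaf.map (eqToHom he).op).hom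
  have hθ : ∀ b : Γ(V, ⊤), θ (ιV b) = ιN (d.appTop.hom b) := fun b => by
    show (V.presheaf.map (homOfLE le_top).op ≫ d.app (V.basicOpen g) ≫ N.presheaf.map (eqToHom he).op) b = _
    rw [d.naturality_assoc, ← Functor.map_comp]
    rfl
  have hu : ∀ m : ℕ, IsUnit (ιN (d.appTop g) ^ m) := fun m =>
    (IsLocalization.Away.algebraMap_isUnit (S := Γ(N, N.basicOpen (d.appTop g))) (d.appTop g)).pow m
  have key : Function.Bijective θ := by
    constructor
    · rw [injective_iff_map_eq_zero]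
      intro z hz
      obtain ⟨⟨b, ⟨_, k, rfl⟩⟩, hb⟩ := IsLocalization.surj (Submonoid.powers g) z
      replace hb : z * ιV (g ^ k) = ιV b := hb
      have h1 : ιN (d.appTop.hom b) = ιN 0 := by
        rw [← hθ, ← hb, map_mul, hz, zero_mul, map_zero]
      obtain ⟨⟨_, j, rfl⟩, hj⟩ := IsLocalization.exists_of_eq (M := Submonoid.powers (d.appTop g))
        (S := Γ(N, N.basicOpen (d.appTop g))) h1
      obtain ⟨i, hi⟩ := hinj (g ^ j * b) (by
        show d.appTop.hom _ = 0
        simpa using hj)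
      have hu' : IsUnit (ιV (g ^ (i + j + k))) := by
        rw [map_pow]
        exact (IsLocalization.Away.algebraMap_isUnit (S := Γ(V, V.basicOpen g)) g).pow _
      refine (hu'.mul_left_eq_zero).1 ?_
      rw [pow_add, map_mul, mul_left_comm, hb, ← map_mul, pow_add, mul_assoc, hi, map_zero]
    · intro y
      obtain ⟨m, a, ⟨b, rfl⟩, hy⟩ := h y
      obtain ⟨w, hw⟩ := (IsLocalization.Away.algebraMap_isUnit (S := Γ(V, V.basicOpen g)) g).pow m
      refine ⟨ιV b * (↑w⁻¹ : Γ(V, V.basicOpen g)), (hu m).mul_left_injective ?_⟩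
      show θ _ * ιN (d.appTop g) ^ m = y * ιN (d.appTop g) ^ m
      rw [hy, show ιN (d.appTop g) ^ m = θ (↑w) by rw [hw, map_pow]; exact congrArg (· ^ m) (hθ g).symm,
        ← map_mul, mul_assoc, Units.inv_mul, mul_one, hθ]
  have h3 : IsIso (d.app (V.basicOpen g) ≫ N.presheaf.map (eqToHom he).op) :=
    (ConcreteCategory.isIso_iff_bijective _).2 key
  exact IsIso.of_isIso_comp_right _ (N.presheaf.map (eqToHom he).op)

theorem appLE_basicOpen_eq {N U : Scheme.{u}} (n : N ⟶ U) (a : Γ(N, ⊤)) :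
    n.appLE ⊤ (N.basicOpen a) le_top = n.appTop ≫ N.presheaf.map (homOfLE (le_top : N.basicOpen a ≤ ⊤)).op := by
  rfl

/-- the kernel over a basic open is finitely generated -/
theorem exists_ker_gens {N V U : Scheme.{u}} [IsAffine N] [IsAffine V] [IsAffine U] (n : N ⟶ U) (v : V ⟶ U)
    (d : N ⟶ V) (hdv : d ≫ v = n) [LocallyOfFinitePresentation v] (g : Γ(U, ⊤))
    (hfp : (n.appLE ⊤ (N.basicOpen (n.appTop g)) le_top).hom.FinitePresentation)
    (hnum : ∀ y : Γ(N, N.basicOpen (n.appTop g)), ∃ (m : ℕ) (a : Γ(N, ⊤)), a ∈ Set.range d.appTop ∧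
        y * (N.presheaf.map (homOfLE le_top).op).hom (n.appTop g) ^ m = (N.presheaf.map (homOfLE le_top).op).hom a) :
    ∃ t : Finset Γ(V, ⊤), (∀ z ∈ t, d.appTop z = 0) ∧
      ∀ z : Γ(V, ⊤), d.appTop z = 0 → ∃ k : ℕ, v.appTop g ^ k * z ∈ Ideal.span (t : Set Γ(V, ⊤)) := by
  classical
  have hdv' : ∀ r, d.appTop.hom (v.appTop.hom r) = n.appTop.hom r := fun r => by
    have h : v.appTop ≫ d.appTop = n.appTop := by rw [← Scheme.Hom.comp_appTop, hdv]
    exact congrArg (fun f => f.hom r) h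
  have hdg := hdv' g
  let A := Γ(V, V.basicOpen (v.appTop g))
  let B := Γ(N, N.basicOpen (n.appTop g))
  let ιN := (N.presheaf.map (homOfLE (le_top : N.basicOpen (n.appTop g) ≤ ⊤)).op).hom
  let ιV := (V.presheaf.map (homOfLE (le_top : V.basicOpen (v.appTop g) ≤ ⊤)).op).hom
  have hle : N.basicOpen (n.appTop g) ≤ d ⁻¹ᵁ V.basicOpen (v.appTop g) := by
    rw [Scheme.preimage_basicOpen]
    exact le_of_eq (congrArg N.basicOpen hdg).symm
  let θ : A →+* B := (d.appLE (V.basicOpen (v.appTop g)) (N.basicOpen (n.appTop g)) hle).hom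
  have hθ : ∀ b : Γ(V, ⊤), θ (ιV b) = ιN (d.appTop.hom b) := fun b => by
    show (V.presheaf.map (homOfLE le_top).op ≫ d.appLE _ _ hle) b = (d.appTop ≫ N.presheaf.map _) b
    rw [Scheme.Hom.map_appLE, ← appLE_basicOpen_eq]
  have hvA : (v.appLE ⊤ (V.basicOpen (v.appTop g)) le_top).hom.FinitePresentation :=
    v.finitePresentation_appLE (isAffineOpen_top U) ((isAffineOpen_top V).basicOpen _) le_top
  letI : Algebra Γ(U, ⊤) A := (v.appLE ⊤ (V.basicOpen (v.appTop g)) le_top).hom.toAlgebra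
  letI : Algebra Γ(U, ⊤) B := (n.appLE ⊤ (N.basicOpen (n.appTop g)) le_top).hom.toAlgebra
  haveI : Algebra.FinitePresentation Γ(U, ⊤) A := hvA
  haveI : Algebra.FinitePresentation Γ(U, ⊤) B := hfp
  let θA : A →ₐ[Γ(U, ⊤)] B :=
    { θ with
      commutes' := fun r => by
        show θ ((v.appLE ⊤ (V.basicOpen (v.appTop g)) le_top).hom r) =
          (n.appLE ⊤ (N.basicOpen (n.appTop g)) le_top).hom r
        rw [appLE_basicOpen_eq, appLE_basicOpen_eq]
        exact (hθ (v.appTop.hom r)).trans (congrArg ιN (hdv' r)) }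
  have hu : IsUnit (ιV (v.appTop g)) :=
    IsLocalization.Away.algebraMap_isUnit (S := A) (v.appTop g)
  have hsurj : Function.Surjective θA := fun y => by
    obtain ⟨m, a, ⟨b, rfl⟩, hy⟩ := hnum y
    obtain ⟨w, hw⟩ := hu.pow m
    have huN : IsUnit (ιN (n.appTop g) ^ m) :=
      (IsLocalization.Away.algebraMap_isUnit (S := B) (n.appTop g)).pow m
    refine ⟨ιV b * (↑w⁻¹ : A), huN.mul_left_injective ?_⟩
    show θ _ * ιN (n.appTop g) ^ m = y * ιN (n.appTop g) ^ m
    rw [hy, show ιN (n.appTop g) ^ m = θ (↑w) by rw [hw, map_pow, hθ, hdg],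
      ← map_mul, mul_assoc, Units.inv_mul, mul_one, hθ]
  obtain ⟨s, hs⟩ := Algebra.FinitePresentation.ker_fG_of_surjective θA hsurj
  have hnumer : ∀ y : A, θ y = 0 → ∃ z : Γ(V, ⊤), d.appTop z = 0 ∧ ∃ u : A, IsUnit u ∧ ιV z = y * u := by
    intro y hy
    obtain ⟨⟨b, ⟨_, k, rfl⟩⟩, hb⟩ := IsLocalization.surj (Submonoid.powers (v.appTop g)) y
    replace hb : y * ιV (v.appTop g ^ k) = ιV b := hb
    have h1 : ιN (d.appTop.hom b) = ιN 0 := by
      rw [← hθ, ← hb, map_mul, hy, zero_mul, map_zero]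
    obtain ⟨⟨_, j, rfl⟩, hj⟩ := IsLocalization.exists_of_eq (M := Submonoid.powers (n.appTop g))
      (S := Γ(N, N.basicOpen (n.appTop g))) h1
    refine ⟨v.appTop g ^ j * b, ?_, ιV (v.appTop g ^ (j + k)), by rw [map_pow]; exact hu.pow _, ?_⟩
    · show d.appTop.hom _ = 0
      rw [map_mul, map_pow, hdg]
      simpa using hj
    · rw [map_mul, ← hb, pow_add, map_mul]
      ring
  choose z hz0 u hu' hz using hnumer
  have hs0 : ∀ x ∈ s, θ x = 0 := fun x hx => (show x ∈ RingHom.ker θA.toRingHom from hs ▸ Ideal.subset_span hx)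
  refine ⟨s.attach.image fun x => z x.1 (hs0 x.1 x.2), fun w hw => ?_, fun w hw => ?_⟩
  · obtain ⟨x, -, rfl⟩ := Finset.mem_image.1 hw
    exact hz0 _ _
  · let T : Ideal Γ(V, ⊤) := Ideal.span ↑(s.attach.image fun x => z x.1 (hs0 x.1 x.2))
    have hker : ιV w ∈ RingHom.ker θA.toRingHom := by
      show θ (ιV w) = 0
      rw [hθ]
      exact (congrArg ιN hw).trans (map_zero _)
    rw [← hs] at hker
    have hmem : ιV w ∈ T.map ιV := by
      refine (Ideal.span_le.2 ?_ : Ideal.span (s : Set A) ≤ T.map ιV) hker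
      intro x hx
      obtain ⟨e, he⟩ := (hu' x (hs0 x hx)).exists_right_inv
      have h : ιV (z x (hs0 x hx)) ∈ T.map ιV := Ideal.mem_map_of_mem ιV
        (Ideal.subset_span (Finset.mem_coe.2 (Finset.mem_image.2 ⟨⟨x, hx⟩, Finset.mem_attach _ _, rfl⟩)))
      have hxe : x = ιV (z x (hs0 x hx)) * e := by rw [hz, mul_assoc, he, mul_one]
      rw [hxe]
      exact Ideal.mul_mem_right _ _ h
    obtain ⟨⟨⟨a, ha⟩, ⟨_, k, rfl⟩⟩, hk⟩ :=
      (IsLocalization.mem_map_algebraMap_iff (Submonoid.powers (v.appTop g)) A).1 hmem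
    replace hk : ιV w * ιV (v.appTop g ^ k) = ιV a := hk
    obtain ⟨⟨_, j, rfl⟩, hj⟩ := IsLocalization.exists_of_eq (M := Submonoid.powers (v.appTop g))
      (S := A) ((map_mul ιV w (v.appTop g ^ k)).trans hk)
    refine ⟨j + k, ?_⟩
    replace hj : v.appTop g ^ j * (w * v.appTop g ^ k) = v.appTop g ^ j * a := hj
    rw [pow_add, mul_assoc, mul_comm (v.appTop g ^ k) w, hj]
    exact T.mul_mem_left _ ha

end Groth.Agent.AlgSpLib.BasicIso
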