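import Groth.Agent.AlgSpLib.VCartLimit
import Groth.Agent.AlgSpLib.BasicIso

/-!
The cofinal subsystems: finite over the base, and isomorphic to the source over an open.
-/

universe u

open CategoryTheory CategoryTheory.Limits AlgebraicGeometry Opposite TensorProduct
open AlgSp

noncomputable section

set_option linter.style.haveILetI false

namespace Groth.Agent.AlgSpLib.VCart

open Groth.Agent.AlgSpLib.QCohEt Groth.Agent.AlgSpLib.SerreAff SymRing RelSpecSp LimitSep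

set_option backward.isDefEq.respectTransparency.types false
set_option backward.isDefEq.respectTransparency false

variable {S : Scheme.{u}}

namespace Gens

variable {Y : AlgSp.Space S} {X : Sp S} {ν : X ⟶ Y.obj} {hr : Representable ν} {E₀ : EtOver Y.obj}
  {g : Gens hr E₀} (h₀ : IsAff E₀) {A : Finset (Kap hr E₀)} (s : g.Sub A)

/-- the chart of a subspace -/
def Sub.W : Over S := s.cl.1.pullback (g.EA h₀ A).obj.hom

/-- the projection of the chart -/
def Sub.η : (yon S).obj (s.W h₀) ⟶ s.Z := s.cl.1.fst (g.EA h₀ A).obj.hom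

/-- the chart in the affine space -/
def Sub.ρ : s.W h₀ ⟶ (data (g.FM A)).V E₀ h₀ := s.cl.1.snd (g.EA h₀ A).obj.hom

/-- the chart over the base -/
def Sub.f : s.W h₀ ⟶ E₀.obj.left := s.ρ h₀ ≫ (data (g.FM A)).v E₀ h₀

theorem Sub.isPullback_ρ : IsPullback (s.η h₀) ((yon S).map (s.ρ h₀)) s.ι (q (data (g.FM A)) E₀ h₀) :=
  s.cl.1.isPullback (g.EA h₀ A).obj.hom

theorem Sub.isPullback_f : IsPullback (s.η h₀) ((yon S).map (s.f h₀)) (s.ι ≫ g.τ A) E₀.obj.hom := by
  rw [Sub.f, Functor.map_comp]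
  exact ((s.isPullback_ρ h₀).flip.paste_horiz (isPullback_q (data (g.FM A)) E₀ h₀).flip).flip

theorem Sub.isAffine_W : IsAffine (s.W h₀).left := by
  haveI : IsClosedImmersion (s.ρ h₀).left := s.cl.property_snd _
  haveI : IsAffine ((data (g.FM A)).V E₀ h₀).left := isAffine_VE _ E₀ h₀
  exact isAffine_of_isAffineHom (s.ρ h₀).left

theorem Sub.surjective_ρ : Function.Surjective (s.ρ h₀).left.appTop.hom := by
  haveI : IsClosedImmersion (s.ρ h₀).left := s.cl.property_snd _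
  haveI : IsAffine ((data (g.FM A)).V E₀ h₀).left := isAffine_VE _ E₀ h₀
  exact (IsClosedImmersion.isAffine_surjective_of_isAffine (s.ρ h₀).left).2

theorem Sub.mem_ker_iff (z : Γ((g.EA h₀ A).obj.left.left, ⊤)) :
    z ∈ s.ker h₀ ↔ (s.ρ h₀).left.appTop.hom z = 0 := Iff.rfl

include h₀ in
theorem isAffineMor_sysTAux (hs₀ : RepWith @Surjective E₀.obj.hom) : IsAffineMor (s.ι ≫ g.τ A) :=
  (isAffineMor_iff_repWith _).2 (RepWith.comp ((isAffineMor_iff_repWith _).1
    (isAffineMor_of_closedImmersion s.cl)) ((isAffineMor_iff_repWith _).1 (isAffineMor_VS (g.FM A) h₀ hs₀)))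

/-- a subspace killing monic relations of generators is finite over the base -/
theorem Sub.isFiniteMor (hs₀ : RepWith @Surjective E₀.obj.hom)
    (gens : Finset Γ(((data (g.FM A)).V E₀ h₀).left, ⊤))
    (hgens : letI := ((data (g.FM A)).v E₀ h₀).left.appTop.hom.toAlgebra
      Algebra.adjoin Γ(E₀.obj.left.left, ⊤) (gens : Set Γ(((data (g.FM A)).V E₀ h₀).left, ⊤)) = ⊤)
    (hrel : ∀ b ∈ gens, ∃ p : Polynomial Γ(E₀.obj.left.left, ⊤), p.Monic ∧
      p.eval₂ ((data (g.FM A)).v E₀ h₀).left.appTop.hom b ∈ s.ker h₀) :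
    IsFiniteMor (s.ι ≫ g.τ A) := by
  letI := ((data (g.FM A)).v E₀ h₀).left.appTop.hom.toAlgebra
  haveI : IsAffine E₀.obj.left.left := h₀
  haveI := s.isAffine_W h₀
  have hfin : IsFinite (s.f h₀).left := by
    refine (HasAffineProperty.iff_of_isAffine (P := @IsFinite)).2 ⟨inferInstance, ?_⟩
    show ((s.f h₀).left.appTop.hom).Finite
    rw [Sub.f, Over.comp_left, Scheme.Hom.comp_appTop]
    exact LimitOver.finite_comp_of_gens (s.ρ h₀).left.appTop.hom
      (RingHom.Finite.of_surjective _ (s.surjective_ρ h₀)) gens hgens fun b hb => by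
        obtain ⟨p, hp, hp0⟩ := hrel b hb
        exact ⟨p, hp, (Polynomial.hom_eval₂ p _ _ b).symm.trans hp0⟩
  rw [isFiniteMor_iff_repWith]
  have := isLocallySurjective_of_etale E₀.property hs₀
  have hrep : Representable (s.ι ≫ g.τ A) :=
    ((isAffineMor_iff_repWith _).1 (isAffineMor_sysTAux h₀ s hs₀)).1
  exact repWith_of_isLocallySurjective hrep E₀.obj.hom (s.isPullback_f h₀) _
    ((AlgSp.repWith_yon_map_iff _ _).2 hfin)

theorem Sub.lfp_v [QuasiSeparatedSpace ↥S] : LocallyOfFinitePresentation ((data (g.FM A)).v E₀ h₀).left :=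
  haveI : Module.FinitePresentation (ΓE E₀) (QCohEt.Sec (g.FM A).G E₀) := g.fp_GA A E₀ h₀
  VCart.lfp_v (g.FM A) E₀ h₀

section cofinal

variable [QuasiSeparatedSpace ↥S] (hX : IsAlgSpace X) (hint : IsIntegralMor ν)
  (hqs : IsQuasiSeparatedSp Y.obj) (hs₀ : RepWith @Surjective E₀.obj.hom)

include hint in
theorem isAffineMor_of_integralMor' : IsAffineMor ν := fun _ hZ z =>
  let ⟨W, w, fst, sq, hW, _⟩ := hint hZ z
  ⟨W, w, fst, sq, hW⟩

include h₀ hint in
/-- every function on the chart of the source satisfies a monic relation -/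
theorem isIntegralElem_kap (c : Kap hr E₀) :
    (hr.snd E₀.obj.hom).left.appTop.hom.IsIntegralElem c := by
  haveI : IsAffine E₀.obj.left.left := h₀
  haveI : IsAffine (EtOver.bcObj hr E₀).obj.left.left :=
    haveI := h₀
    isAff_bcObj hr (isAffineMor_of_integralMor' hint) E₀
  haveI : IsIntegralHom (hr.snd E₀.obj.hom).left :=
    ((isIntegralMor_iff_repWith ν).1 hint).2 _ _ _ (hr.isPullback E₀.obj.hom)
  exact ((HasAffineProperty.iff_of_isAffine (P := @IsIntegralHom) (f := (hr.snd E₀.obj.hom).left)).1 inferInstance).2 c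

include h₀ in
theorem chartMap_v_left (B : Finset (Kap hr E₀)) :
    (chartMap (g.FM B) hr (g.pA B) E₀ h₀).left ≫ ((data (g.FM B)).v E₀ h₀).left = (hr.snd E₀.obj.hom).left :=
  congrArg (fun m => m.left) (chartMap_v (g.FM B) hr (g.pA B) E₀ h₀)

theorem mem_range_chartMap {B : Finset (Kap hr E₀)} {c : Kap hr E₀} (hc : c ∈ B) :
    c ∈ Set.range (chartMap (g.FM B) hr (g.pA B) E₀ h₀).left.appTop.hom := by
  obtain ⟨z, hz⟩ := g.exists_evA_eq B h₀ hc
  rw [← g.chartMap_appTop B E₀ h₀] at hz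
  exact ⟨_, hz⟩

include hX hint hqs hs₀ in
/-- above an index, one finite over the base killing given relations -/
theorem exists_finite_above (i : g.Idx h₀) (t : Finset Γ((g.EA h₀ i.A).obj.left.left, ⊤))
    (ht : ∀ z ∈ t, (chartMap (g.FM i.A) hr (g.pA i.A) E₀ h₀).left.appTop.hom z = 0) :
    ∃ s : g.Sub i.A, (∀ z ∈ t, z ∈ s.ker h₀) ∧ IsFiniteMor (s.ι ≫ g.τ i.A) ∧ ∃ l, l ≫ i.sub.ι = s.ι := by
  classical
  haveI : IsAffine E₀.obj.left.left := h₀
  haveI : IsAffine ((data (g.FM i.A)).V E₀ h₀).left := isAffine_VE _ E₀ h₀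
  have hft : ((data (g.FM i.A)).v E₀ h₀).left.appTop.hom.FiniteType := by
    haveI := Sub.lfp_v h₀ (g := g) (A := i.A)
    exact (HasRingHomProperty.iff_of_isAffine (P := @LocallyOfFiniteType)).1 inferInstance
  letI := ((data (g.FM i.A)).v E₀ h₀).left.appTop.hom.toAlgebra
  obtain ⟨gens, hgens⟩ := (show Algebra.FiniteType Γ(E₀.obj.left.left, ⊤) Γ(((data (g.FM i.A)).V E₀ h₀).left, ⊤)
    from hft).out
  choose p hp hp0 using fun b : Γ(((data (g.FM i.A)).V E₀ h₀).left, ⊤) =>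
    isIntegralElem_kap h₀ hint ((chartMap (g.FM i.A) hr (g.pA i.A) E₀ h₀).left.appTop.hom b)
  let rel := fun b => (p b).eval₂ ((data (g.FM i.A)).v E₀ h₀).left.appTop.hom b
  have hrel : ∀ b, (chartMap (g.FM i.A) hr (g.pA i.A) E₀ h₀).left.appTop.hom (rel b) = 0 := fun b => by
    refine (Polynomial.hom_eval₂ (p b) _ _ b).trans ?_
    rw [← CommRingCat.hom_comp, ← Scheme.Hom.comp_appTop, chartMap_v_left h₀]
    exact hp0 b
  obtain ⟨s, hs⟩ := g.exists_sub_mem h₀ hX (isAffineMor_of_integralMor' hint) hqs hs₀ i.A (t ∪ gens.image rel) (by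
    intro z hz
    rcases Finset.mem_union.1 hz with h | h
    · exact ht z h
    · obtain ⟨b, -, rfl⟩ := Finset.mem_image.1 h
      exact hrel b)
  obtain ⟨s', ⟨a, ha⟩, b, hb⟩ := Sub.exists_inter h₀ hs₀ i.sub s
  have hle := s.ker_le_of_fac h₀ hs₀ s' hb
  exact ⟨s', fun z hz => hle (hs z (Finset.mem_union_left _ hz)), s'.isFiniteMor h₀ hs₀ gens hgens fun c hc =>
    ⟨p c, hp c, hle (hs _ (Finset.mem_union_right _ (Finset.mem_image_of_mem rel hc)))⟩, a, ha⟩

theorem exists_idx_of_sub (hs₀ : RepWith @Surjective E₀.obj.hom) {i : g.Idx h₀} (s : g.Sub i.A)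
    (hl : ∃ l, l ≫ i.sub.ι = s.ι) (hfin : IsFiniteMor (s.ι ≫ g.τ i.A)) :
    ∃ (j : g.Idx h₀) (e : j.A = i.A), i ≤ j ∧ IsFiniteMor (j.sub.ι ≫ g.τ j.A) ∧
      ∀ z, z ∈ s.ker h₀ → e ▸ z ∈ j.sub.ker h₀ := by
  let j : g.Idx h₀ := ⟨⟨i.A, s.ker h₀⟩, s, rfl⟩
  obtain ⟨a, ha⟩ := Sub.fac_of_ker_le h₀ hs₀ s j.sub (ge_of_eq j.ker_sub)
  obtain ⟨b, hb⟩ := Sub.fac_of_ker_le h₀ hs₀ j.sub s (le_of_eq j.ker_sub)
  obtain ⟨l, hl⟩ := hl
  haveI : IsIso a := ⟨b, (cancel_mono j.sub.ι).1 (by rw [Category.assoc, hb, ha, Category.id_comp]),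
    (cancel_mono s.ι).1 (by rw [Category.assoc, ha, hb, Category.id_comp])⟩
  refine ⟨j, rfl, ⟨subset_refl _, a ≫ l, by rw [Category.assoc, hl, ha, g.tT_refl]; exact (Category.comp_id _).symm⟩,
    ?_, fun z hz => (ge_of_eq j.ker_sub) hz⟩
  show IsFiniteMor (j.sub.ι ≫ g.τ i.A)
  rw [← ha, Category.assoc, isFiniteMor_iff_repWith]
  exact RepWith.comp (repWith_of_isIso @IsFinite a) ((isFiniteMor_iff_repWith _).1 hfin)

include hX hint hqs hs₀ in
theorem exists_idx_finite (i : g.Idx h₀) : ∃ j, i ≤ j ∧ IsFiniteMor (sysT.app (op j)) := by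
  obtain ⟨s, -, hfin, hl⟩ := exists_finite_above h₀ hX hint hqs hs₀ i ∅ (by simp)
  obtain ⟨j, e, hij, hjf, -⟩ := exists_idx_of_sub h₀ hs₀ s hl hfin
  exact ⟨j, hij, hjf⟩

end cofinal

end Gens

end Groth.Agent.AlgSpLib.VCart
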