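import Groth.Agent.AlgSpLib.NoethSpace
import Groth.Agent.AlgSpLib.EtaleAscend
import Groth.Prelude.Def_AlgSpSub

/-!
Reduced and regular algebraic spaces: ascent along smooth morphisms, descent along flat surjections.
-/

universe u

open CategoryTheory CategoryTheory.Limits AlgebraicGeometry
open AlgSp

noncomputable section

namespace Groth.Agent.AlgSpLib

set_option backward.isDefEq.respectTransparency.types false

variable {S : Scheme.{u}} {X Y : Sp S}

theorem isReducedSp_of_surjective (hY : IsAlgSpace Y) {f : X ⟶ Y} (hs : IsSurjectiveMor f)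
    (hfl : LocP @Flat f) (hX : IsReducedSp X) : IsReducedSp Y :=
  etaleLocally_of_surjective (R := @Flat.{u}) hY
    (fun c hc h => by
      have : Etale c := hc
      have : IsReduced _ := h
      exact isReduced_of_etale' c)
    (fun c hc hs' h => by
      have : Flat c := hc
      have : IsReduced _ := h
      exact isReduced_of_flat_surjective c) hs hfl hX

theorem isReducedSp_of_smooth (hX : IsAlgSpace X) (hY : IsAlgSpace Y) {f : X ⟶ Y}
    (hf : LocP @Smooth f) (h : IsReducedSp Y) : IsReducedSp X := by
  obtain ⟨V, b, hbe, hbs, hV⟩ := h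
  obtain ⟨U, a, k, hae, has, w⟩ := exists_chart_over hX hY f b hbe hbs
  have : Smooth k.left := hf a b k hae hbe w
  have : IsReduced V.left := hV
  exact ⟨U, a, hae, has, isReduced_of_smooth' k.left⟩

theorem regularSp_of_surjective (hY : IsAlgSpace Y) {f : X ⟶ Y} (hs : IsSurjectiveMor f)
    (hfl : LocP @Flat f) (hfp : LocP @LocallyOfFinitePresentation f)
    (hX : EtaleLocally (fun U => IsLocallyNoetherian U ∧
      ∀ u : ↥U, IsRegularLocalRing ↥(U.presheaf.stalk u)) X) :
    EtaleLocally (fun U => IsLocallyNoetherian U ∧
      ∀ u : ↥U, IsRegularLocalRing ↥(U.presheaf.stalk u)) Y :=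
  etaleLocally_of_surjective (R := (@Flat.{u} ⊓ @LocallyOfFinitePresentation.{u} : MorphismProperty Scheme.{u}))
    hY
    (fun c hc h => by
      have : Etale c := hc
      have := h.1
      exact ⟨LocallyOfFiniteType.isLocallyNoetherian c, regular_stalks_of_etale c h.2⟩)
    (fun c hc hs' h => by
      have : Flat c := hc.1
      have : LocallyOfFinitePresentation c := hc.2
      have := h.1
      have := isLocallyNoetherian_of_surjective c
      exact ⟨this, regular_stalks_of_flat_surjective c h.2⟩)
    hs (fun U V a b l ha hb w => ⟨hfl a b l ha hb w, hfp a b l ha hb w⟩) hX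

end Groth.Agent.AlgSpLib
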