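import Groth.Agent.AlgSpLib.MorMore2
import Groth.Agent.AlgSpLib.MorTop
import Groth.Agent.AlgSpLib.ReducedSpace
import Groth.Agent.AlgSpLib.EtLocalInst
import Groth.Agent.AlgSpLib.DecentPoints
import Groth.Agent.Stk19b.RedInd

/-!
Reduced induced subspaces: universal property, and integral closed subspaces.
-/

universe u

open CategoryTheory CategoryTheory.Limits AlgebraicGeometry
open AlgSp

noncomputable section

namespace Groth.Agent.AlgSpLib

variable {S : Scheme.{u}}

theorem isClosed_range_map_of_closedImmersion {F G : Sp S} (hG : IsAlgSpace G) {i : F ⟶ G}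
    (hi : RepWith @IsClosedImmersion i) : IsClosed (Set.range (Points.map i)) := by
  obtain ⟨U, a, hae, has⟩ := hG.atlas
  have sq := hi.1.isPullback a
  have hsnd : IsClosedImmersion (hi.1.snd a).left := hi.property_snd a
  have hpre : Points.ofPt a ⁻¹' Set.range (Points.map i) = Set.range (hi.1.snd a).left := by
    ext u
    constructor
    · rintro ⟨z, hz⟩
      rw [Points.ofPt_eq_map_ofScheme] at hz
      obtain ⟨v, -, hv⟩ := exists_point_of_isPullback sq hz
      obtain ⟨r, rfl⟩ := (Points.schemeEquiv _).surjective v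
      exact ⟨r, (Points.schemeEquiv U).injective ((map_yon_map_ofScheme _ r).symm.trans hv)⟩
    · rintro ⟨r, rfl⟩
      exact ⟨Points.ofPt (hi.1.fst a) r, by rw [Points.map_ofPt, sq.w, ofPt_map]⟩
  rw [← (isOpenQuotientMap_ofPt a hae has).isQuotientMap.isClosed_preimage, hpre]
  exact (hi.1.snd a).left.isClosedEmbedding.isClosed_range

theorem isEmbedding_map_of_closedImmersion {F G : Sp S} (hG : IsAlgSpace G) {i : F ⟶ G}
    (hi : RepWith @IsClosedImmersion i) : Topology.IsEmbedding (Points.map i) :=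
  (isEmbedding_map_of_immersion hG (RepWith.mono (fun _ _ g (hg : IsClosedImmersion g) =>
    (inferInstance : IsImmersion g)) hi)).1

theorem EtaleLocally.of_iso' {P : Scheme.{u} → Prop} {F G : Sp S} (h : EtaleLocally P F) (e : F ≅ G) :
    EtaleLocally P G := by
  obtain ⟨U, p, h1, h2, h3⟩ := h
  exact ⟨U, p ≫ e.hom, MorphismProperty.RespectsIso.postcomp _ _ _ h1,
    MorphismProperty.RespectsIso.postcomp _ _ _ h2, h3⟩

/-- a morphism from a reduced space with image inside a closed subspace factors through it -/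
theorem exists_lift_of_reduced {X G Z : Sp S} (hX : IsReducedSp X) {f : X ⟶ G} {i : Z ⟶ G}
    (hi : RepWith @IsClosedImmersion i) (h : Set.range (Points.map f) ⊆ Set.range (Points.map i)) :
    ∃ f' : X ⟶ Z, f' ≫ i = f := by
  obtain ⟨P, a, b, sq⟩ : ∃ (P : Sp S) (a : P ⟶ Z) (b : P ⟶ X), IsPullback a b i f :=
    ⟨_, _, _, IsPullback.of_hasPullback i f⟩
  have hb : RepWith @IsClosedImmersion b :=
    haveI := IsClosedImmersion.isStableUnderBaseChange
    RepWith.baseChange sq hi
  have hsurj : Function.Surjective (Points.map b) := fun x => by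
    obtain ⟨z, hz⟩ := h ⟨x, rfl⟩
    obtain ⟨w, -, hw⟩ := exists_point_of_isPullback sq hz
    exact ⟨w, hw⟩
  have := isIso_of_closedImmersion_of_surjective hX hb hsurj
  exact ⟨inv b ≫ a, by rw [Category.assoc, sq.w, IsIso.inv_hom_id_assoc]⟩

theorem isRedInduced_of_isSchImage {X Y Z : AlgSp.Space S} {f : X ⟶ Y} {i : Z ⟶ Y}
    (hX : IsReducedSp X.obj) (hZ : IsSchImage f.hom i.hom) :
    IsRedInduced (closure (Set.range (Points.map f.hom))) i.hom := by
  obtain ⟨hci, ⟨f', hf'⟩, huniv⟩ := hZ
  obtain ⟨Z₀, i₀, hi₀, hr₀, hred₀⟩ := Stk19b.RedInd.exists_isRedInduced Y (closure (Set.range (Points.map f.hom)))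
    isClosed_closure
  obtain ⟨k, hk⟩ := huniv i₀.hom Z₀.property hi₀ (exists_lift_of_reduced hX hi₀ (hr₀ ▸ subset_closure))
  have hcl : IsClosed (Set.range (Points.map i.hom)) := isClosed_range_map_of_closedImmersion Y.property hci
  have hsub : closure (Set.range (Points.map f.hom)) ⊆ Set.range (Points.map i.hom) := by
    refine closure_minimal ?_ hcl
    rintro _ ⟨x, rfl⟩
    exact ⟨Points.map f' x, by rw [← Points.map_comp, hf']⟩
  obtain ⟨l, hl⟩ := exists_lift_of_reduced hred₀ hci (f := i₀.hom) (hr₀ ▸ hsub)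
  have : Mono i.hom := mono_of_repWith (fun _ _ g (_ : IsClosedImmersion g) => (inferInstance : Mono g)) hci
  have : Mono i₀.hom := mono_of_repWith (fun _ _ g (_ : IsClosedImmersion g) => (inferInstance : Mono g)) hi₀
  let e : Z.obj ≅ Z₀.obj :=
    ⟨k, l, by rw [← cancel_mono i.hom, Category.assoc, hl, hk, Category.id_comp],
      by rw [← cancel_mono i₀.hom, Category.assoc, hk, hl, Category.id_comp]⟩
  refine ⟨hci, subset_antisymm ?_ hsub, ?_⟩
  · rintro _ ⟨z, rfl⟩
    rw [← hr₀]
    exact ⟨Points.map k z, by rw [← Points.map_comp, hk]⟩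
  · exact EtaleLocally.of_iso' hred₀ e.symm

theorem exists_integral_closed_subspace (X : AlgSp.Space S) (hX : IsDecent X.obj) (T : Set (Points X.obj))
    (hT : IsClosed T) (hTi : IsIrreducible T) :
    ∃ (Z : AlgSp.Space S) (i : Z ⟶ X), RepWith @IsClosedImmersion i.hom ∧ IsIntegralSp Z.obj ∧
      Set.range (Points.map i.hom) = T := by
  obtain ⟨Z, i, hi, hr, hred⟩ := Stk19b.RedInd.exists_isRedInduced X T hT
  refine ⟨Z, i, hi, ⟨hred, isDecent_of_representable' hi.1 hX, ?_⟩, hr⟩
  have he := isEmbedding_map_of_closedImmersion X.property hi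
  haveI : IrreducibleSpace T := Subtype.irreducibleSpace hTi
  let e := he.toHomeomorph.trans (Homeomorph.setCongr hr)
  exact e.symm.surjective.irreducibleSpace e.symm.continuous

theorem isSchImage_etale_baseChange {X Y Z V XV ZV : AlgSp.Space S} (f : X ⟶ Y) (i : Z ⟶ Y)
    (hX : IsReducedSp X.obj) (hZ : IsSchImage f.hom i.hom) (b : V ⟶ Y) (hb : IsEtaleMor b.hom)
    (f₁ : XV ⟶ X) (fV : XV ⟶ V) (i₁ : ZV ⟶ Z) (iV : ZV ⟶ V)
    (sqX : IsPullback f₁.hom fV.hom f.hom b.hom) (sqZ : IsPullback i₁.hom iV.hom i.hom b.hom) :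
    IsSchImage fV.hom iV.hom := by
  obtain ⟨hci, hr, hred⟩ := isRedInduced_of_isSchImage hX hZ
  haveI := IsClosedImmersion.isStableUnderBaseChange
  have hciV : RepWith @IsClosedImmersion iV.hom := RepWith.baseChange sqZ hci
  have hredV : IsReducedSp ZV.obj := isReducedSp_of_smooth ZV.property Z.property
    (f := i₁.hom) (fun U W a c h ha hc w => by
      have : Etale h.left := locP_of_isPullback etLocal_etale V.property Y.property ZV.property sqZ.flip
        ((isEtaleMor_iff_locP etLocal_etale V.property Y.property b.hom).1 hb) a c h ha hc w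
      exact inferInstanceAs (Smooth h.left)) hred
  obtain ⟨-, ⟨f', hf'⟩, -⟩ := hZ
  refine ⟨hciV, ⟨sqZ.lift (f₁.hom ≫ f') fV.hom (by rw [Category.assoc, hf', sqX.w]), sqZ.lift_snd _ _ _⟩,
    fun Z' i' hZ' hi' ⟨f'', hf''⟩ => ?_⟩
  refine exists_lift_of_reduced hredV hi' ?_
  have hsub : Set.range (Points.map iV.hom) ⊆ closure (Set.range (Points.map fV.hom)) := by
    rintro _ ⟨z, rfl⟩
    have hz : Points.map b.hom (Points.map iV.hom z) ∈ closure (Set.range (Points.map f.hom)) := by
      rw [← hr]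
      exact ⟨Points.map i₁.hom z, by rw [← Points.map_comp, ← Points.map_comp, sqZ.w]⟩
    refine closure_mono ?_ ((isOpenMap_map_of_isEtaleMor V.property hb).preimage_closure_subset_closure_preimage hz)
    rintro v ⟨x, hx⟩
    obtain ⟨w, -, hw⟩ := exists_point_of_isPullback sqX hx
    exact ⟨w, hw⟩
  refine hsub.trans (closure_minimal ?_ (isClosed_range_map_of_closedImmersion V.property hi'))
  rintro _ ⟨x, rfl⟩
  exact ⟨Points.map f'' x, by rw [← Points.map_comp, hf'']⟩

end Groth.Agent.AlgSpLib
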