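import Groth.Agent.AlgSpLib.WhereLocus
import Groth.Agent.AlgSpLib.MorProper
import Groth.Agent.AlgSpLib.RedUniv
import Groth.Agent.Stk19b.UnivClosedQcSp
import Groth.Agent.Stk19b.RedInd

/-!
Images of spaces proper over a base: separation and properness descend along jointly surjective
universally closed families.
-/

universe u

open CategoryTheory CategoryTheory.Limits AlgebraicGeometry
open AlgSp

noncomputable section

namespace Groth.Agent.AlgSpLib

set_option backward.isDefEq.respectTransparency.types false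

variable {S : Scheme.{u}} {W Z B Q : Sp S}

/-- the base change `W ×_B Q ⟶ Z ×_B Q` of a universally closed `h : W ⟶ Z` -/
theorem isUnivClosedMor_map_left {h : W ⟶ Z} (hh : IsUnivClosedMor h) (q : Z ⟶ B) (r : Q ⟶ B) :
    IsUnivClosedMor (pullback.map (h ≫ q) r q r h (𝟙 Q) (𝟙 B) (Category.comp_id _)
      (by rw [Category.comp_id, Category.id_comp])) := by
  refine isUnivClosedMor_of_isPullback (g := pullback.fst q r) (fst := pullback.fst (h ≫ q) r) ?_ hh
  refine IsPullback.of_bot (v₂₁ := pullback.snd q r) ?_ (pullback.lift_fst _ _ _).symm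
    (IsPullback.of_hasPullback q r)
  rw [show pullback.map (h ≫ q) r q r h (𝟙 Q) (𝟙 B) (Category.comp_id _)
      (by rw [Category.comp_id, Category.id_comp]) ≫ pullback.snd q r = pullback.snd (h ≫ q) r from
    (pullback.lift_snd _ _ _).trans (Category.comp_id _)]
  exact IsPullback.of_hasPullback (h ≫ q) r

/-- the same on the right -/
theorem isUnivClosedMor_map_right {h : W ⟶ Z} (hh : IsUnivClosedMor h) (q : Z ⟶ B) (r : Q ⟶ B) :
    IsUnivClosedMor (pullback.map r (h ≫ q) r q (𝟙 Q) h (𝟙 B)
      (by rw [Category.comp_id, Category.id_comp]) (Category.comp_id _)) := by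
  refine isUnivClosedMor_of_isPullback (g := pullback.snd r q) (fst := pullback.snd r (h ≫ q)) ?_ hh
  refine IsPullback.of_bot (v₂₁ := pullback.fst r q) ?_ (pullback.lift_snd _ _ _).symm
    (IsPullback.of_hasPullback r q).flip
  rw [show pullback.map r (h ≫ q) r q (𝟙 Q) h (𝟙 B)
      (by rw [Category.comp_id, Category.id_comp]) (Category.comp_id _) ≫ pullback.fst r q =
        pullback.fst r (h ≫ q) from
    (pullback.lift_fst _ _ _).trans (Category.comp_id _)]
  exact (IsPullback.of_hasPullback r (h ≫ q)).flip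

/-- the diagonal of `q` composed with a universally closed map factors as the diagonal of the composite
followed by a universally closed map -/
theorem exists_diagonal_factor (hZ : IsAlgSpace Z) (hW : IsAlgSpace W) (hB : IsAlgSpace B)
    {h : W ⟶ Z} (hh : IsUnivClosedMor h) (q : Z ⟶ B) :
    ∃ m : pullback (h ≫ q) (h ≫ q) ⟶ pullback q q,
      IsUnivClosedMor m ∧ pullback.diagonal (h ≫ q) ≫ m = h ≫ pullback.diagonal q := by
  refine ⟨_, isUnivClosedMor_comp (isAlgSpace_of_isPullback hB.diag hW hZ (IsPullback.of_hasPullback (h ≫ q) q))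
    (isAlgSpace_of_isPullback hB.diag hZ hZ (IsPullback.of_hasPullback q q))
    (isUnivClosedMor_map_right hh q (h ≫ q)) (isUnivClosedMor_map_left hh q q), ?_⟩
  apply pullback.hom_ext <;>
    simp only [Category.assoc, pullback.lift_fst, pullback.lift_snd, pullback.lift_fst_assoc,
      pullback.lift_snd_assoc, pullback.diagonal_fst, pullback.diagonal_snd, pullback.diagonal_fst_assoc,
      pullback.diagonal_snd_assoc, Category.comp_id, Category.id_comp]

/-- universal closedness of `q` may be tested on a finite jointly surjective family -/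
theorem isUnivClosedMor_of_jointly_surjective {ι : Type*} [Finite ι] {W : ι → Sp S}
    (h : ∀ k, W k ⟶ Z) (hs : ∀ z, ∃ k x, Points.map (h k) x = z) {q : Z ⟶ B}
    (hp : ∀ k, IsUnivClosedMor (h k ≫ q)) : IsUnivClosedMor q := by
  intro T P hT t fst snd sq A hA
  have key : Points.map snd '' A = ⋃ k, Points.map (pullback.snd (h k) fst ≫ snd) ''
      (Points.map (pullback.snd (h k) fst) ⁻¹' A) := by
    ext y
    constructor
    · rintro ⟨p, hp', rfl⟩
      obtain ⟨k, x, hx⟩ := hs (Points.map fst p)
      obtain ⟨w, -, hw⟩ := exists_point_of_isPullback (IsPullback.of_hasPullback (h k) fst) hx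
      exact Set.mem_iUnion.2 ⟨k, w, by rwa [Set.mem_preimage, hw], by rw [Points.map_comp, hw]⟩
    · rintro hy
      obtain ⟨k, w, hw, rfl⟩ := Set.mem_iUnion.1 hy
      exact ⟨_, hw, (Points.map_comp _ _ w).symm⟩
  show IsClosed (Points.map snd '' A)
  rw [key]
  exact isClosed_iUnion_of_finite fun k =>
    hp k hT t _ _ ((IsPullback.of_hasPullback (h k) fst).paste_vert sq) _
      (hA.preimage (Points.continuous_map _))

/-- quasi-compactness of `q` may be tested on a finite jointly surjective family -/
theorem isQuasiCompactMor_of_jointly_surjective (hZ : IsAlgSpace Z) (hB : IsAlgSpace B) {ι : Type*} [Finite ι]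
    {W : ι → Sp S} (h : ∀ k, W k ⟶ Z) (hs : ∀ z, ∃ k x, Points.map (h k) x = z) {q : Z ⟶ B}
    (hp : ∀ k, IsQuasiCompactMor (h k ≫ q)) : IsQuasiCompactMor q := by
  refine isQuasiCompactMor_of_affine hZ hB fun T _ g P fst snd sq => ⟨?_⟩
  have key : (Set.univ : Set (Points P)) = ⋃ k, Set.range (Points.map (pullback.snd (h k) fst)) := by
    refine (Set.eq_univ_of_forall fun p => ?_).symm
    obtain ⟨k, x, hx⟩ := hs (Points.map fst p)
    obtain ⟨w, -, hw⟩ := exists_point_of_isPullback (IsPullback.of_hasPullback (h k) fst) hx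
    exact Set.mem_iUnion.2 ⟨k, w, hw⟩
  rw [key]
  refine isCompact_iUnion fun k => ?_
  have := compactSpace_of_isQuasiCompactMor (hp k) ((IsPullback.of_hasPullback (h k) fst).paste_vert sq)
  exact isCompact_range (Points.continuous_map _)

/-- separatedness of `q` may be tested on a finite jointly surjective universally closed family -/
theorem isSeparatedMor_of_jointly_surjective (hZ : IsAlgSpace Z) (hB : IsAlgSpace B) {ι : Type*} [Finite ι]
    {W : ι → Sp S} (hW : ∀ k, IsAlgSpace (W k)) (h : ∀ k, W k ⟶ Z)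
    (hs : ∀ z, ∃ k x, Points.map (h k) x = z) (hh : ∀ k, IsUnivClosedMor (h k)) {q : Z ⟶ B}
    (hp : ∀ k, IsSeparatedMor (h k ≫ q)) : IsSeparatedMor q := by
  rw [isSeparatedMor_iff_diagonal_univClosed hZ hB]
  refine isUnivClosedMor_of_jointly_surjective h hs fun k => ?_
  obtain ⟨m, hm, e⟩ := exists_diagonal_factor hZ (hW k) hB (hh k) q
  rw [← e]
  exact isUnivClosedMor_comp
    (isAlgSpace_of_isPullback hB.diag (hW k) (hW k) (IsPullback.of_hasPullback (h k ≫ q) (h k ≫ q)))
    (isAlgSpace_of_isPullback hB.diag hZ hZ (IsPullback.of_hasPullback q q))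
    ((isSeparatedMor_iff_diagonal_univClosed (hW k) hB _).1 (hp k)) hm

/-- quasi-separatedness descends along a surjective universally closed morphism -/
theorem isQuasiSeparatedMor_of_surjective (hW : IsAlgSpace W) (hZ : IsAlgSpace Z) (hB : IsAlgSpace B)
    {h : W ⟶ Z} (hs : IsSurjectiveMor h) (hh : IsUnivClosedMor h) {q : Z ⟶ B}
    (hp : IsQuasiSeparatedMor (h ≫ q)) : IsQuasiSeparatedMor q := by
  obtain ⟨m, hm, e⟩ := exists_diagonal_factor hZ hW hB hh q
  have hWW := isAlgSpace_of_isPullback hB.diag hW hW (IsPullback.of_hasPullback (h ≫ q) (h ≫ q))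
  have hZZ := isAlgSpace_of_isPullback hB.diag hZ hZ (IsPullback.of_hasPullback q q)
  refine (repWith_quasiCompact_iff hZ hZZ (representable_diagonal hZ q)).2
    (isQuasiCompactMor_of_surjective hZ hZZ hs ?_)
  rw [← e]
  exact isQuasiCompactMor_comp hW hWW hZZ
    ((repWith_quasiCompact_iff hW hWW (representable_diagonal hW _)).1 hp)
    (Stk19b.UnivClosedQcSp.isQuasiCompactMor_of_univClosed hWW hZZ hm)

/-- properness descends along a finite jointly surjective universally closed family -/
theorem isProperMor_of_jointly_surjective (hZ : IsAlgSpace Z) (hB : IsAlgSpace B) {ι : Type*} [Finite ι]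
    {W : ι → Sp S} (hW : ∀ k, IsAlgSpace (W k)) (h : ∀ k, W k ⟶ Z)
    (hs : ∀ z, ∃ k x, Points.map (h k) x = z) (hh : ∀ k, IsUnivClosedMor (h k)) {q : Z ⟶ B}
    (hl : LocP @LocallyOfFiniteType q) (hp : ∀ k, IsProperMor (h k ≫ q)) : IsProperMor q :=
  ⟨isSeparatedMor_of_jointly_surjective hZ hB hW h hs hh fun k => (hp k).1,
    ⟨hl, isQuasiCompactMor_of_jointly_surjective hZ hB h hs fun k => (hp k).2.1.2⟩,
    isUnivClosedMor_of_jointly_surjective h hs fun k => (hp k).2.2⟩

/-- cancellation of a closed immersion -/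
theorem isUnivClosedMor_cancel_closedImmersion (hW : IsAlgSpace W) (hZ : IsAlgSpace Z) (hB : IsAlgSpace B)
    {h : W ⟶ Z} {i : Z ⟶ B} (hi : RepWith @IsClosedImmersion i) (hc : IsUnivClosedMor (h ≫ i)) :
    IsUnivClosedMor h :=
  haveI : Mono i := mono_of_repWith (fun _ _ g (_ : IsClosedImmersion g) => inferInstance) hi
  isUnivClosedMor_of_comp_separated hW hZ hB hc (isSeparatedMor_of_mono i)

/-- a factor of a separated morphism is separated -/
theorem isSeparatedMor_of_comp {f : W ⟶ Z} {q : Z ⟶ B} (h : IsSeparatedMor (f ≫ q)) : IsSeparatedMor f := by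
  let m : pullback f f ⟶ pullback (f ≫ q) (f ≫ q) :=
    pullback.lift (pullback.fst f f) (pullback.snd f f) (by rw [pullback.condition_assoc])
  have e : pullback.diagonal (f ≫ q) = pullback.diagonal f ≫ m := by
    apply pullback.hom_ext <;> simp [m, pullback.lift_fst, pullback.lift_snd]
  have : Mono m := ⟨fun a b hab => by
    apply pullback.hom_ext
    · simpa [m, pullback.lift_fst] using hab =≫ pullback.fst (f ≫ q) (f ≫ q)
    · simpa [m, pullback.lift_snd] using hab =≫ pullback.snd (f ≫ q) (f ≫ q)⟩
  have sq : IsPullback (𝟙 W) (pullback.diagonal f) (pullback.diagonal (f ≫ q)) m := by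
    refine ⟨⟨by rw [Category.id_comp, e]⟩, ⟨PullbackCone.IsLimit.mk _ (fun s => s.fst) (fun s => Category.comp_id _)
      (fun s => ?_) fun s l h₁ _ => (Category.comp_id l).symm.trans h₁⟩⟩
    rw [← cancel_mono m, Category.assoc, ← e]
    exact s.condition
  exact RepWith.baseChange sq h

/-- a morphism over `B` into a separated space from a proper one is proper -/
theorem isProperMor_of_comp_separated (hW : IsAlgSpace W) (hZ : IsAlgSpace Z) (hB : IsAlgSpace B)
    {f : W ⟶ Z} {q : Z ⟶ B} (hp : IsProperMor (f ≫ q)) (hq : IsSeparatedMor q) : IsProperMor f := by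
  have hc := isUnivClosedMor_of_comp_separated hW hZ hB hp.2.2 hq
  exact ⟨isSeparatedMor_of_comp hp.1,
    ⟨lft_of_comp hW hZ hB hp.2.1.1, Stk19b.UnivClosedQcSp.isQuasiCompactMor_of_univClosed hW hZ hc⟩, hc⟩

/-- shrink a closed subspace proper over `B` to the reduced one -/
theorem exists_reduced_proper {X Z B : AlgSp.Space S} (i : Z ⟶ X) (hi : RepWith @IsClosedImmersion i.hom)
    (a : X ⟶ B) (hZ : IsProperMor (i ≫ a).hom) :
    ∃ (Z₀ : AlgSp.Space S) (i₀ : Z₀ ⟶ X), RepWith @IsClosedImmersion i₀.hom ∧ IsReducedSp Z₀.obj ∧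
      Set.range (Points.map i₀.hom) = Set.range (Points.map i.hom) ∧ IsProperMor (i₀.hom ≫ a.hom) := by
  obtain ⟨Z₀, i₀, hi₀, hr, hred⟩ := Stk19b.RedInd.exists_isRedInduced X (Set.range (Points.map i.hom))
    (isClosed_range_map_of_closedImmersion X.property hi)
  obtain ⟨l, hl⟩ := exists_lift_of_reduced hred hi hr.subset
  have : Mono i₀.hom := mono_of_repWith (fun _ _ g (_ : IsClosedImmersion g) => inferInstance) hi₀
  have : Mono l := by
    have : Mono (l ≫ i.hom) := by rw [hl]; infer_instance
    exact mono_of_mono l i.hom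
  have hc : IsUnivClosedMor l := isUnivClosedMor_cancel_closedImmersion Z₀.property Z.property X.property hi
    (hl.symm ▸ (isProperMor_of_closedImmersion Z₀.property X.property hi₀).2.2)
  have hll : LocP @LocallyOfFiniteType l := lft_of_comp Z₀.property Z.property X.property
    (hl.symm ▸ locP_of_repWith_closedImmersion Z₀.property hi₀)
  refine ⟨Z₀, i₀, hi₀, hred, hr, ?_⟩
  rw [← hl, Category.assoc]
  exact isProperMor_comp Z₀.property Z.property B.property (isProperMor_of_closedImmersion Z₀.property Z.property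
    (closedImmersion_of_univClosed_mono_lft Z₀.property Z.property hc hll)) hZ

/-- closed subsets proper over `B` : a finite family of proper spaces mapping universally closed onto a
closed subspace makes it proper -/
theorem isProperMor_closedSubspace {X B Z : AlgSp.Space S} (b : X ⟶ B) (hb : LocP @LocallyOfFiniteType b.hom)
    (i : Z ⟶ X) (hi : RepWith @IsClosedImmersion i.hom) {ι : Type*} [Finite ι] (W : ι → AlgSp.Space S)
    (hred : ∀ k, IsReducedSp (W k).obj) (f : ∀ k, W k ⟶ X)
    (hr : Set.range (Points.map i.hom) = ⋃ k, Set.range (Points.map (f k).hom))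
    (hf : ∀ k, IsUnivClosedMor (f k).hom) (hp : ∀ k, IsProperMor ((f k).hom ≫ b.hom)) :
    IsProperMor (i ≫ b).hom := by
  choose l hl using fun k => exists_lift_of_reduced (hred k) hi
    (hr ▸ Set.subset_iUnion (fun k => Set.range (Points.map (f k).hom)) k)
  have hinj := (isEmbedding_map_of_closedImmersion X.property hi).injective
  refine isProperMor_of_jointly_surjective Z.property B.property (fun k => (W k).property) l (fun z => ?_)
    (fun k => isUnivClosedMor_cancel_closedImmersion (W k).property Z.property X.property hi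
      ((hl k).symm ▸ hf k))
    (locP_comp etLocal_lft Z.property X.property B.property (locP_of_repWith_closedImmersion Z.property hi) hb)
    fun k => ?_
  · have : Points.map i.hom z ∈ ⋃ k, Set.range (Points.map (f k).hom) := hr ▸ ⟨z, rfl⟩
    obtain ⟨k, x, hx⟩ := Set.mem_iUnion.1 this
    exact ⟨k, x, hinj (by rw [← Points.map_comp, hl k, hx])⟩
  · show IsProperMor (l k ≫ i.hom ≫ b.hom)
    rw [← Category.assoc, hl k]
    exact hp k

end Groth.Agent.AlgSpLib
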