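import Groth.Agent.AlgSpLib.NormSplit
import Groth.Agent.AlgSpLib.OpenCoverScheme
import Groth.Agent.AlgSpLib.MorMore
import Groth.Agent.AlgSpLib.FpqcBaseIso
import Groth.Agent.AlgSpLib.MorProper
import Groth.Agent.AlgSpLib.ProperImage
import Groth.Agent.HenselLib.QFProfinite
import Groth.Agent.HenselLib.WEtale

/-!
Normalisation in a totally disconnected scheme with separably closed residue fields is a scheme.
-/

universe u

open CategoryTheory CategoryTheory.Limits AlgebraicGeometry Opposite TensorProduct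
open AlgSp

noncomputable section

namespace Groth.Agent.AlgSpLib

set_option backward.isDefEq.respectTransparency.types false
set_option backward.isDefEq.respectTransparency false

variable {S : Scheme.{u}}

theorem t2Space_of_vnr {R : Type u} [CommRing R] (h : HenselLib.WEt.VNR R) : T2Space (PrimeSpectrum R) := by
  refine ⟨fun p q hpq => ?_⟩
  have hne : ¬ p.asIdeal ≤ q.asIdeal := fun hle => hpq (PrimeSpectrum.ext
    ((h.isMaximal p.asIdeal).eq_of_le q.2.ne_top hle))
  obtain ⟨x, hxp, hxq⟩ := SetLike.not_le_iff_exists.1 hne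
  obtain ⟨a, ha⟩ := h x
  have hmul : x * a * (1 - x * a) = 0 := by linear_combination a * ha
  refine ⟨_, _, (PrimeSpectrum.basicOpen (1 - x * a)).isOpen, (PrimeSpectrum.basicOpen (x * a)).isOpen, ?_, ?_, ?_⟩
  · intro hm
    exact p.2.ne_top ((Ideal.eq_top_iff_one _).2 (by
      have := p.asIdeal.add_mem hm (p.asIdeal.mul_mem_right a hxp)
      simpa using this))
  · intro hm
    rcases q.2.mem_or_mem hm with h1 | h1
    · exact hxq h1
    · apply hxq
      rw [ha]
      exact q.asIdeal.mul_mem_left _ h1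
  · rw [Set.disjoint_left]
    intro r h1 h2
    rcases r.2.mem_or_mem (show x * a * (1 - x * a) ∈ r.asIdeal by rw [hmul]; exact r.asIdeal.zero_mem) with h3 | h3
    · exact h2 h3
    · exact h1 h3

theorem isSepClosed_residueField_pi {ι : Type u} (K : ι → Type u) [∀ i, Field (K i)] [∀ i, IsAlgClosed (K i)]
    (p : PrimeSpectrum (∀ i, K i)) : IsSepClosed p.asIdeal.ResidueField := by
  haveI : p.asIdeal.IsMaximal := (HenselLib.WEt.vnr_pi_field ι K).isMaximal _
  have hsurj : Function.Surjective (algebraMap (∀ i, K i) p.asIdeal.ResidueField) :=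
    Ideal.algebraMap_residueField_surjective p.asIdeal
  haveI : IsAlgClosed p.asIdeal.ResidueField := by
    refine IsAlgClosed.of_exists_root _ fun g hg hirr => ?_
    obtain ⟨G, hG, hGd, hGm⟩ := Polynomial.lifts_and_degree_eq_and_monic (Polynomial.map_surjective _ hsurj g) hg
    have hd : ∀ i, (G.map (Pi.evalRingHom K i)).degree ≠ 0 := fun i => by
      rw [hGm.degree_map, hGd]
      exact ne_of_gt (Polynomial.degree_pos_of_irreducible hirr)
    choose x hx using fun i => IsAlgClosed.exists_root _ (hd i)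
    refine ⟨algebraMap _ _ x, ?_⟩
    have h0 : G.eval x = 0 := funext fun i => by
      show (Pi.evalRingHom K i) (G.eval x) = 0
      rw [← Polynomial.eval₂_hom, ← Polynomial.eval_map]
      exact hx i
    rw [← hG, Polynomial.eval_map, Polynomial.eval₂_hom, h0, map_zero]
  infer_instance

/-- near every point, the normalisation is an open subscheme lifting to the given etale chart -/
theorem exists_open_lift {R : Type u} [CommRing R] [T2Space (PrimeSpectrum R)]
    (hres : ∀ p : PrimeSpectrum R, IsSepClosed p.asIdeal.ResidueField)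
    {sR : Spec (CommRingCat.of R) ⟶ S} [QuasiSeparatedSpace ↥S] {X X' : Space S}
    (ρ : (⟨(yon S).obj (Over.mk sR), IsAlgSpace.yon_obj _⟩ : Space S) ⟶ X)
    (hX : IsQuasiSeparatedSp X.obj) (hqc : IsQuasiCompactMor ρ.hom) (hqs : IsQuasiSeparatedMor ρ.hom)
    {ν : X' ⟶ X} {f' : (⟨(yon S).obj (Over.mk sR), IsAlgSpace.yon_obj _⟩ : Space S) ⟶ X'}
    (H : LocNorm ρ.hom ν.hom f'.hom) {U : Over S} (b : (yon S).obj U ⟶ X.obj) (hb : RepWith @Etale b)
    (hbs : RepWith @Surjective b) (x' : Points X'.obj) :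
    ∃ (D : Over S) (j : (yon S).obj D ⟶ X'.obj) (k : D ⟶ U), RepWith @IsOpenImmersion j ∧
      j ≫ ν.hom = (yon S).map k ≫ b ∧ x' ∈ Set.range (Points.map j) := by
  obtain ⟨x₀, hx₀⟩ := surjective_map_of_repWith hbs (Points.map ν.hom x')
  obtain ⟨O, hO, hx, -⟩ := exists_isAffineOpen_mem_and_subset (X := U.left) (x := Points.toScheme U x₀) (U := ⊤) trivial
  let sA : Spec Γ(U.left, O) ⟶ S := hO.fromSpec ≫ U.hom
  let ι : oU sA ⟶ U := Over.homMk hO.fromSpec rfl
  let a : (yon S).obj (oU sA) ⟶ X.obj := (yon S).map ι ≫ b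
  have hι : IsOpenImmersion ι.left := inferInstanceAs (IsOpenImmersion hO.fromSpec)
  have hae : RepWith @Etale a :=
    RepWith.comp ((repWith_yon_map_iff @Etale ι).2 (inferInstance : Etale ι.left)) hb
  obtain ⟨W, w, fst, sq, -⟩ := exists_yon_of_repWith H.int a
  let YT : Space S := ⟨pullback ρ.hom a, isAlgSpace_pullback (X := ⟨(yon S).obj (Over.mk sR), IsAlgSpace.yon_obj _⟩)
    (Y := ⟨_, IsAlgSpace.yon_obj (oU sA)⟩) (Z := X) ρ.hom a⟩
  let k : YT.obj ⟶ (yon S).obj W := sq.lift (pullback.fst ρ.hom a ≫ f'.hom) (pullback.snd ρ.hom a)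
    (by rw [Category.assoc, H.fac, pullback.condition])
  have H' : LocNorm (pullback.snd ρ.hom a) ((yon S).map w) k := H.baseChange a
    (fun T b hb => RepWith.comp hb (RepWith.mono (fun _ _ q (h : Etale q) => (inferInstance : Smooth q)) hae))
    sq (IsPullback.of_hasPullback _ _) (sq.lift_fst _ _ _) (sq.lift_snd _ _ _)
  have hqsT : IsQuasiSeparatedMor (pullback.snd ρ.hom a) :=
    isQuasiSeparatedMor_of_isPullback (IsPullback.of_hasPullback ρ.hom a) hqs
  obtain ⟨P, C, _, _, _, _, pV, e, φ, hφ, -, hVe, hVs, hpV, hcomp, he⟩ := exists_injChart sA (Y := YT)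
    (N := ⟨_, IsAlgSpace.yon_obj W⟩)
    (isQuasiCompactMor_of_isPullback (IsAlgSpace.yon_obj _) X.property (IsAlgSpace.yon_obj _) (IsPullback.of_hasPullback ρ.hom a) hqc)
    hqsT H'
  let cC : (yon S).obj (oA sA C) ⟶ X'.obj := e.inv ≫ fst
  have hcC : RepWith @Etale cC := RepWith.comp (repWith_of_isIso _ _) (RepWith.baseChange sq.flip hae)
  have hcν : cC ≫ ν.hom = (yon S).map (oStr sA C) ≫ a := by
    show (e.inv ≫ fst) ≫ ν.hom = _
    rw [Category.assoc, sq.w, ← he, Category.assoc, e.inv_hom_id_assoc]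
  have hy : Points.map ν.hom x' = Points.map a (Points.ofScheme (oU sA)
      (hO.isoSpec.hom ⟨Points.toScheme U x₀, hx⟩)) := by
    rw [← Points.ofPt_eq_map_ofScheme, ofPt_map, ← hx₀, Points.ofPt_eq_map_ofScheme b]
    congr 1
    refine (Points.ofScheme_toScheme U x₀).symm.trans (congrArg _ ?_)
    have h1 : hO.isoSpec.hom ≫ hO.fromSpec = Scheme.Opens.ι O := hO.isoSpec_hom_fromSpec
    show Points.toScheme U x₀ = (hO.isoSpec.hom ≫ hO.fromSpec) ⟨Points.toScheme U x₀, hx⟩
    rw [h1]
    rfl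
  obtain ⟨z, hz, -⟩ := exists_point_of_isPullback sq hy
  obtain ⟨c, hc⟩ : ∃ c : PrimeSpectrum C, Points.ofPt cC (c : ↥(oA sA C).left) = x' :=
    ⟨Points.toScheme (oA sA C) (Points.map e.hom z), by
      rw [Points.ofPt_eq_map_ofScheme]
      erw [Points.ofScheme_toScheme]
      rw [← hz, ← Points.map_comp, ← Category.assoc]
      simp [cC]⟩
  -- the chart of the source over the profinite base
  obtain ⟨π₀, hπ₀⟩ := (yon S).map_surjective (pV ≫ pullback.fst ρ.hom a)
  have hπe : RepWith @Etale ((yon S).map π₀) := by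
    rw [hπ₀]
    exact RepWith.comp hVe (RepWith.baseChange (IsPullback.of_hasPullback ρ.hom a).flip hae)
  obtain ⟨ψ, hψ⟩ := Spec.map_surjective π₀.left
  letI : Algebra R P := ψ.hom.toAlgebra
  haveI : Algebra.Etale R P := by
    have : Etale (Spec.map ψ) := by rw [hψ]; exact (repWith_yon_map_iff _ π₀).1 hπe
    exact RingHom.etale_algebraMap.1 ((HasRingHomProperty.Spec_iff (P := @Etale)).1 this)
  haveI : T2Space (PrimeSpectrum P) := HenselLib.QFProf.t2Space R P
  -- the relation of the chart with itself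
  obtain ⟨Q, pr₂, fst₁, sqQ, -⟩ := exists_yon_of_repWith hcC cC
  obtain ⟨pr₁, rfl⟩ := (yon S).map_surjective fst₁
  obtain ⟨q, -⟩ := exists_to_base X'.obj
  have hqq : IsQuasiSeparatedMor q := by
    obtain ⟨q₀, -⟩ := exists_to_base X.obj
    rw [show q = ν.hom ≫ q₀ from (isTerminal_yon_base S).some.hom_ext _ _]
    refine isQuasiSeparatedMor_comp (isQuasiSeparatedMor_of_isSeparatedMor ?_) ((isQuasiSeparatedMor_iff_sp q₀).2 hX)
    refine repWith_diagonal_of_repWith X'.property @IsClosedImmersion H.int.1 fun Z g => ?_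
    have : IsIntegralHom (H.int.1.snd g).left := H.int.property_snd g
    exact IsSeparated.diagonal_isClosedImmersion
  let CC : Over S := Over.mk (pullback.fst (oA sA C).hom (oA sA C).hom ≫ (oA sA C).hom)
  let p₁ : CC ⟶ oA sA C := Over.homMk (pullback.fst _ _) rfl
  let p₂ : CC ⟶ oA sA C := Over.homMk (pullback.snd _ _) pullback.condition.symm
  let t₀ : oA sA C ⟶ Over.mk (𝟙 S) := Over.homMk (oA sA C).hom (Category.comp_id _)
  have ht : cC ≫ q = (yon S).map t₀ := (isTerminal_yon_base S).some.hom_ext _ _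
  have hq : IsPullback ((yon S).map p₁) ((yon S).map p₂) (cC ≫ q) (cC ≫ q) := by
    rw [ht]
    exact (IsPullback.of_map (Over.forget S) (f := p₁) (g := p₂) (h := t₀) (i := t₀)
      (Over.OverMorphism.ext pullback.condition) (IsPullback.of_hasPullback _ _)).map (yon S)
  have sqD := pullback_map_diagonal_isPullback cC cC q
  obtain ⟨d, hd⟩ := (yon S).map_surjective (sqQ.isoPullback.hom ≫ pullback.map cC cC (cC ≫ q) (cC ≫ q) (𝟙 _) (𝟙 _) q
    (by simp) (by simp) ≫ hq.isoPullback.inv)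
  have hdq : RepWith @QuasiCompact ((yon S).map d) := by
    rw [hd]
    exact RepWith.comp (repWith_of_isIso _ _) (RepWith.comp (RepWith.baseChange sqD hqq) (repWith_of_isIso _ _))
  haveI : QuasiCompact d.left := (repWith_yon_map_iff _ d).1 hdq
  haveI : CompactSpace ↥(oA sA C).left := inferInstanceAs (CompactSpace ↥(Spec (CommRingCat.of C)))
  haveI : IsAffine (oA sA C).left := inferInstanceAs (IsAffine (Spec (CommRingCat.of C)))
  haveI : QuasiCompact (oA sA C).hom := inferInstance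
  haveI : CompactSpace ↥CC.left :=
    QuasiCompact.compactSpace_of_compactSpace (pullback.fst (oA sA C).hom (oA sA C).hom)
  haveI : CompactSpace ↥Q.left := QuasiCompact.compactSpace_of_compactSpace d.left
  have hd1 : d ≫ p₁ = pr₁ := (yon S).map_injective (by
    rw [Functor.map_comp, hd]
    simp only [Category.assoc]
    rw [hq.isoPullback_inv_fst, pullback.lift_fst, Category.comp_id, sqQ.isoPullback_hom_fst])
  have hd2 : d ≫ p₂ = pr₂ := (yon S).map_injective (by
    rw [Functor.map_comp, hd]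
    simp only [Category.assoc]
    rw [hq.isoPullback_inv_snd, pullback.lift_snd, Category.comp_id, sqQ.isoPullback_hom_snd])
  haveI : Mono d := ⟨fun x y hxy => (yon S).map_injective (sqQ.hom_ext
    (by rw [← Functor.map_comp, ← Functor.map_comp, ← hd1, reassoc_of% hxy])
    (by rw [← Functor.map_comp, ← Functor.map_comp, ← hd2, reassoc_of% hxy]))⟩
  haveI hpr₁e : Etale pr₁.left := (repWith_yon_map_iff _ pr₁).1 (RepWith.baseChange sqQ.flip hcC)
  haveI : IsSeparated pr₁.left := by
    rw [← hd1]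
    show IsSeparated (d.left ≫ pullback.fst (oA sA C).hom (oA sA C).hom)
    infer_instance
  obtain ⟨δ, hδ⟩ := (yon S).map_surjective (sqQ.lift (𝟙 _) (𝟙 _) rfl)
  have hδ1 : δ ≫ pr₁ = 𝟙 _ := (yon S).map_injective (by rw [Functor.map_comp, hδ, sqQ.lift_fst]; simp)
  have hδ2 : δ ≫ pr₂ = 𝟙 _ := (yon S).map_injective (by rw [Functor.map_comp, hδ, sqQ.lift_snd]; simp)
  have hδl : δ.left ≫ pr₁.left = 𝟙 _ := congrArg (fun m => m.left) hδ1
  have hδc : IsClosed (Set.range δ.left) := by
    haveI : IsClosedImmersion (δ.left ≫ pr₁.left) := by rw [hδl]; infer_instance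
    haveI : IsClosedImmersion δ.left := IsClosedImmersion.of_comp δ.left pr₁.left
    exact δ.left.isClosedEmbedding.isClosed_range
  have hδo : IsOpen (Set.range δ.left) := by
    haveI : Etale (δ.left ≫ pr₁.left) := by rw [hδl]; infer_instance
    haveI : Etale δ.left := Etale.of_comp δ.left pr₁.left
    exact δ.left.isOpenMap.isOpen_range
  -- no pair of distinct points of the chart specialises to `(c, c)`
  have key : ∀ r : ↥Q.left, pr₁.left r ⤳ c → pr₂.left r ⤳ c → r ∈ Set.range δ.left := by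
    intro r s1 s2
    by_contra hr
    obtain ⟨Oq, hOq, hrO, -⟩ := exists_isAffineOpen_mem_and_subset (X := Q.left) (x := r) (U := ⊤) trivial
    let iQ : Over.mk (hOq.fromSpec ≫ Q.hom) ⟶ Q := Over.homMk hOq.fromSpec rfl
    haveI : IsOpenImmersion iQ.left := inferInstanceAs (IsOpenImmersion hOq.fromSpec)
    obtain ⟨m, hm⟩ := Spec.map_surjective ((iQ ≫ pr₁).left)
    letI : Algebra C Γ(Q.left, Oq) := m.hom.toAlgebra
    haveI : Module.Flat C Γ(Q.left, Oq) := by
      have : Flat (Spec.map m) := by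
        rw [hm]; show Flat (hOq.fromSpec ≫ pr₁.left); infer_instance
      exact (HasRingHomProperty.Spec_iff (P := @Flat)).1 this
    obtain ⟨r', hr'⟩ : ∃ r' : PrimeSpectrum Γ(Q.left, Oq), hOq.fromSpec r' = r := by
      have : r ∈ Set.range hOq.fromSpec := by rw [hOq.range_fromSpec]; exact hrO
      exact this
    obtain ⟨q₀, hq₀, hle⟩ := Ideal.exists_minimalPrimes_le (bot_le (a := r'.asIdeal))
    letI : Algebra C P := φ.toRingHom.toAlgebra
    have hinj : Function.Injective (Algebra.TensorProduct.includeLeft : Γ(Q.left, Oq) →ₐ[C] Γ(Q.left, Oq) ⊗[C] P) := by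
      intro x y hxy
      have h := Module.Flat.lTensor_preserves_injective_linearMap (M := Γ(Q.left, Oq))
        (Algebra.linearMap C P) hφ
      apply (TensorProduct.rid C Γ(Q.left, Oq)).symm.injective
      apply h
      simpa using hxy
    obtain ⟨z₀, hz₀, hzq⟩ := Ideal.exists_comap_eq_of_mem_minimalPrimes_of_injective
      (f := (Algebra.TensorProduct.includeLeft : Γ(Q.left, Oq) →ₐ[C] Γ(Q.left, Oq) ⊗[C] P).toRingHom) hinj q₀ hq₀
    let Ω := z₀.ResidueField
    let ω : Γ(Q.left, Oq) →+* Ω := (algebraMap _ Ω).comp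
      (Algebra.TensorProduct.includeLeft : Γ(Q.left, Oq) →ₐ[C] Γ(Q.left, Oq) ⊗[C] P).toRingHom
    let α : P →+* Ω := (algebraMap _ Ω).comp
      (Algebra.TensorProduct.includeRight : P →ₐ[C] Γ(Q.left, Oq) ⊗[C] P).toRingHom
    have hωα : ω.comp m.hom = α.comp φ.toRingHom := RingHom.ext fun x => congrArg (algebraMap _ Ω) <| by
      show (algebraMap C Γ(Q.left, Oq) x) ⊗ₜ[C] (1 : P) = (1 : Γ(Q.left, Oq)) ⊗ₜ[C] algebraMap C P x
      rw [Algebra.algebraMap_eq_smul_one, Algebra.algebraMap_eq_smul_one, TensorProduct.smul_tmul]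
    let Tω : Over S := Over.mk (Spec.map (CommRingCat.ofHom ω) ≫ hOq.fromSpec ≫ Q.hom)
    let ωQ : Tω ⟶ Q := Over.homMk (Spec.map (CommRingCat.ofHom ω) ≫ hOq.fromSpec) (Category.assoc _ _ _)
    have hωl : (ωQ ≫ pr₁).left = Spec.map (CommRingCat.ofHom α) ≫ Spec.map (CommRingCat.ofHom φ.toRingHom) := by
      show (Spec.map (CommRingCat.ofHom ω) ≫ hOq.fromSpec) ≫ pr₁.left = _
      rw [Category.assoc, show hOq.fromSpec ≫ pr₁.left = Spec.map m from hm.symm, ← Spec.map_comp, ← Spec.map_comp]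
      exact congrArg Spec.map (CommRingCat.hom_ext hωα)
    let αP : Tω ⟶ oA sA P := Over.homMk (Spec.map (CommRingCat.ofHom α)) (by
      rw [← Over.w (ωQ ≫ pr₁), hωl, Category.assoc]
      exact congrArg (_ ≫ ·) (Over.w (oMap sA φ)).symm)
    have hαφ : αP ≫ oMap sA φ = ωQ ≫ pr₁ := Over.OverMorphism.ext hωl.symm
    let pt : ↥Tω.left := IsLocalRing.closedPoint Ω
    haveI : Subsingleton ↥Tω.left := inferInstanceAs (Subsingleton (PrimeSpectrum Ω))
    have hptQ : ωQ.left pt ⤳ r ∧ ∀ ζ : ↥Tω.left, ωQ.left ζ = ωQ.left pt := by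
      refine ⟨?_, fun ζ => congrArg _ (Subsingleton.elim _ _)⟩
      rw [← hr']
      show hOq.fromSpec (Spec.map (CommRingCat.ofHom ω) pt) ⤳ _
      refine Specializes.map ?_ hOq.fromSpec.continuous
      refine (PrimeSpectrum.le_iff_specializes (Spec.map (CommRingCat.ofHom ω) pt : PrimeSpectrum Γ(Q.left, Oq)) r').1 ?_
      show (Spec.map (CommRingCat.ofHom ω) pt : PrimeSpectrum Γ(Q.left, Oq)).asIdeal ≤ r'.asIdeal
      refine le_trans (le_of_eq ?_) hle
      show (IsLocalRing.maximalIdeal Ω).comap ω = q₀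
      rw [IsLocalRing.maximalIdeal_eq_bot]
      show RingHom.ker ω = q₀
      rw [← hzq, show RingHom.ker ω = Ideal.comap _ (RingHom.ker (algebraMap (Γ(Q.left, Oq) ⊗[C] P) Ω)) from
        (RingHom.comap_ker _ _).symm, Ideal.ker_algebraMap_residueField]
    have hnot : ωQ.left pt ∉ Set.range δ.left := fun h => hr (hptQ.1.mem_closed hδc h)
    let c₂ : Tω ⟶ oA sA C := ωQ ≫ pr₂
    have hπ : (yon S).map π₀ ≫ f'.hom = (yon S).map (oMap sA φ) ≫ cC := by
      rw [hπ₀, ← hcomp]
      simp [cC, k, sq.lift_fst]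
    have eq₁ : ((yon S).map αP ≫ (yon S).map π₀) ≫ ρ.hom = (yon S).map (c₂ ≫ oStr sA C) ≫ a := by
      have hρ : ρ.hom = f'.hom ≫ ν.hom := H.fac.symm
      rw [Category.assoc, hρ, reassoc_of% hπ, ← Category.assoc, ← Functor.map_comp, hαφ, Functor.map_comp,
        Category.assoc, reassoc_of% sqQ.w, hcν, Functor.map_comp, Functor.map_comp]
      simp only [Category.assoc]
    let x₁ : (yon S).obj Tω ⟶ YT.obj := pullback.lift ((yon S).map αP ≫ (yon S).map π₀) ((yon S).map (c₂ ≫ oStr sA C)) eq₁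
    have hx₁ : x₁ ≫ k ≫ e.hom = (yon S).map c₂ := by
      rw [← cancel_mono e.inv, Category.assoc, Category.assoc, e.hom_inv_id, Category.comp_id]
      refine sq.hom_ext ?_ ?_
      · simp only [x₁, k, Category.assoc, sq.lift_fst, pullback.lift_fst_assoc]
        rw [hπ, ← Category.assoc, ← Functor.map_comp, hαφ, Functor.map_comp, Category.assoc, sqQ.w]
        simp [c₂, cC]
      · simp only [x₁, k, Category.assoc, sq.lift_snd, pullback.lift_snd]
        rw [← he, e.inv_hom_id_assoc, Functor.map_comp]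
    let qP : PrimeSpectrum P := αP.left pt
    obtain ⟨q', hq'⟩ := surjective_map_of_repWith hVs (Points.ofPt x₁ pt)
    let q'' : PrimeSpectrum P := Points.toScheme (oA sA P) q'
    have hq'' : Points.ofPt pV (q'' : ↥(oA sA P).left) = Points.ofPt x₁ pt := by
      rw [Points.ofPt_eq_map_ofScheme]
      erw [Points.ofScheme_toScheme]
      exact hq'
    have hφq'' : PrimeSpectrum.comap φ.toRingHom q'' = c₂.left pt := by
      have := congrArg (Points.map (k ≫ e.hom)) hq''
      rw [Points.map_ofPt, Points.map_ofPt, hcomp, hx₁] at this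
      have := congrArg (Points.toScheme _) this
      rw [Points.toScheme_ofPt, Points.toScheme_ofPt] at this
      exact this
    have hφqP : PrimeSpectrum.comap φ.toRingHom qP = pr₁.left (ωQ.left pt) := by
      show (αP ≫ oMap sA φ).left pt = (ωQ ≫ pr₁).left pt
      rw [hαφ]
    have hpts : Points.ofPt pV (qP : ↥(oA sA P).left) = Points.ofPt x₁ pt := by
      rw [← hq'']
      by_contra hne
      refine not_specializes_of_ne sA (N := ⟨_, IsAlgSpace.yon_obj W⟩) hqsT H' pV hVe hVs hpV e φ hcomp he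
        qP q'' hne c ⟨?_, ?_⟩
      · rw [hφqP]; exact (hptQ.1.map pr₁.left.continuous).trans s1
      · rw [hφq'']; exact (hptQ.1.map pr₂.left.continuous).trans s2
    -- lift to a common field valued point
    obtain ⟨T'', i, fst₂, sq'', -⟩ := exists_yon_of_repWith hVe x₁
    obtain ⟨a₂, rfl⟩ := (yon S).map_surjective fst₂
    obtain ⟨r'', hr1, -⟩ := (ofPt_eq_ofPt_iff sq'' (qP : ↥(oA sA P).left) pt).1 hpts
    let T₃ : Over S := Over.mk (T''.left.fromSpecResidueField r'' ≫ T''.hom)
    let m₃ : T₃ ⟶ T'' := Over.homMk (T''.left.fromSpecResidueField r'') rfl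
    have hm₃ : ∀ ζ, m₃.left ζ = r'' := fun ζ => Scheme.fromSpecResidueField_apply _ _
    obtain ⟨F, hF⟩ := Spec.map_surjective ((m₃ ≫ a₂).left)
    obtain ⟨G, hG⟩ := Spec.map_surjective ((m₃ ≫ i ≫ αP).left)
    have hfg : F.hom = G.hom := by
      refine ringHom_eq_of_ker_eq hres F.hom G.hom ?_ ?_
      · have e0 : (m₃ ≫ a₂) ≫ π₀ = (m₃ ≫ i ≫ αP) ≫ π₀ := (yon S).map_injective (by
          simp only [Functor.map_comp, Category.assoc]
          have := congrArg (fun t => (yon S).map m₃ ≫ t ≫ pullback.fst ρ.hom a) sq''.w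
          simp only [Category.assoc, x₁, pullback.lift_fst] at this
          rw [hπ₀] at this ⊢
          simpa using this)
        have := congrArg (fun t => t.left) e0
        simp only [Over.comp_left] at this
        rw [← hψ] at this
        simp only [← Category.assoc] at this
        have hF' : Spec.map F = m₃.left ≫ a₂.left := hF
        have hG' : Spec.map G = (m₃.left ≫ i.left) ≫ αP.left := by rw [Category.assoc]; exact hG
        rw [← hF', ← hG', ← Spec.map_comp, ← Spec.map_comp] at this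
        exact congrArg CommRingCat.Hom.hom (Spec.map_injective this)
      · have h1 : Spec.map F (IsLocalRing.closedPoint _) = qP := by
          rw [hF]
          show a₂.left (m₃.left _) = _
          rw [hm₃, hr1]
        have h2 : Spec.map G (IsLocalRing.closedPoint _) = qP := by
          rw [hG]
          show αP.left _ = αP.left pt
          exact congrArg _ (Subsingleton.elim _ _)
        have h12 := congrArg PrimeSpectrum.asIdeal (h1.trans h2.symm)
        simp only [IsLocalRing.closedPoint, IsLocalRing.maximalIdeal_eq_bot] at h12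
        exact h12
    have ea : m₃ ≫ a₂ = m₃ ≫ i ≫ αP := Over.OverMorphism.ext (by
      rw [← hF, ← hG, show F = G from CommRingCat.hom_ext hfg])
    have efin : (m₃ ≫ i ≫ ωQ) ≫ pr₁ = (m₃ ≫ i ≫ ωQ) ≫ pr₂ := (yon S).map_injective (by
      have h := congrArg (fun t => (yon S).map m₃ ≫ t ≫ k ≫ e.hom) sq''.w
      simp only [Category.assoc, hcomp, hx₁] at h
      rw [← Functor.map_comp, ← Functor.map_comp, ← Category.assoc, ea, Category.assoc, Category.assoc, hαφ,
        ← Functor.map_comp, ← Functor.map_comp] at h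
      simpa [c₂] using h)
    have efac : m₃ ≫ i ≫ ωQ = ((m₃ ≫ i ≫ ωQ) ≫ pr₁) ≫ δ := (yon S).map_injective (sqQ.hom_ext
      (by simp only [← Functor.map_comp, Category.assoc, hδ1, Category.comp_id])
      (by rw [← Functor.map_comp, ← Functor.map_comp, Category.assoc _ δ, hδ2, Category.comp_id, efin]))
    let ζ₃ : ↥T₃.left := IsLocalRing.closedPoint _
    refine hnot ⟨((m₃ ≫ i ≫ ωQ) ≫ pr₁).left ζ₃, ?_⟩
    rw [← hptQ.2 (i.left (m₃.left ζ₃))]
    exact (congrArg (fun t => t.left ζ₃) efac).symm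
  -- shrink
  have hsep : ∀ Oq : Q.left.affineOpens, ∃ s : C, s ∉ c.asIdeal ∧ ∀ r ∈ Oq.1,
      (pr₁.left r : PrimeSpectrum C) ∈ PrimeSpectrum.basicOpen s →
      (pr₂.left r : PrimeSpectrum C) ∈ PrimeSpectrum.basicOpen s → r ∈ Set.range δ.left := by
    intro Oq
    by_contra hcon
    push Not at hcon
    obtain ⟨π₁, hπ₁⟩ := Spec.map_surjective (Oq.2.fromSpec ≫ pr₁.left)
    obtain ⟨π₂, hπ₂⟩ := Spec.map_surjective (Oq.2.fromSpec ≫ pr₂.left)
    obtain ⟨I, hI⟩ := (PrimeSpectrum.isClosed_iff_zeroLocus_ideal _).1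
      (hδo.isClosed_compl.preimage Oq.2.fromSpec.continuous)
    let M : Submonoid Γ(Q.left, Oq.1) := c.asIdeal.primeCompl.map π₁.hom ⊔ c.asIdeal.primeCompl.map π₂.hom
    have hdis : Disjoint (I : Set Γ(Q.left, Oq.1)) M := by
      rw [Set.disjoint_left]
      intro y hyI hyM
      obtain ⟨_, ⟨s, hs, rfl⟩, _, ⟨t, ht, rfl⟩, rfl⟩ := Submonoid.mem_sup.1 hyM
      obtain ⟨r, hrO, hr1, hr2, hr⟩ := hcon (s * t) (fun h => (c.2.mem_or_mem h).elim hs ht)
      obtain ⟨r', rfl⟩ : ∃ r' : PrimeSpectrum Γ(Q.left, Oq.1), Oq.2.fromSpec r' = r := by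
        have : r ∈ Set.range Oq.2.fromSpec := by rw [Oq.2.range_fromSpec]; exact hrO
        exact this
      have hmem : r' ∈ PrimeSpectrum.zeroLocus (I : Set Γ(Q.left, Oq.1)) := hI ▸ hr
      have e1 : pr₁.left (Oq.2.fromSpec r') = Spec.map π₁ r' := by rw [hπ₁]; rfl
      have e2 : pr₂.left (Oq.2.fromSpec r') = Spec.map π₂ r' := by rw [hπ₂]; rfl
      rw [e1] at hr1
      rw [e2] at hr2
      rcases r'.2.mem_or_mem (hmem hyI) with h | h
      · exact hr1 (Ideal.mul_mem_right t _ (show s ∈ (Spec.map π₁ r' : PrimeSpectrum C).asIdeal from h))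
      · exact hr2 (Ideal.mul_mem_left _ s (show t ∈ (Spec.map π₂ r' : PrimeSpectrum C).asIdeal from h))
    obtain ⟨p, hp, hIp, hpM⟩ := I.exists_le_prime_disjoint M hdis
    let pp : PrimeSpectrum Γ(Q.left, Oq.1) := ⟨p, hp⟩
    have hpp : Oq.2.fromSpec pp ∉ Set.range δ.left := by
      have : pp ∈ PrimeSpectrum.zeroLocus (I : Set Γ(Q.left, Oq.1)) := hIp
      rw [← hI] at this
      exact this
    refine hpp (key _ ?_ ?_)
    · have e1 : pr₁.left (Oq.2.fromSpec pp) = Spec.map π₁ pp := by rw [hπ₁]; rfl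
      rw [e1]
      refine (PrimeSpectrum.le_iff_specializes (_ : PrimeSpectrum C) c).1 fun s hs => ?_
      by_contra hsc
      exact Set.disjoint_left.1 hpM hs (Submonoid.mem_sup_left ⟨s, hsc, rfl⟩)
    · have e2 : pr₂.left (Oq.2.fromSpec pp) = Spec.map π₂ pp := by rw [hπ₂]; rfl
      rw [e2]
      refine (PrimeSpectrum.le_iff_specializes (_ : PrimeSpectrum C) c).1 fun s hs => ?_
      by_contra hsc
      exact Set.disjoint_left.1 hpM hs (Submonoid.mem_sup_right ⟨s, hsc, rfl⟩)
  choose sO hsO hsr using hsep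
  obtain ⟨T₀, hT₀⟩ := isCompact_univ.elim_finite_subcover (fun Oq : Q.left.affineOpens => (Oq.1 : Set ↥Q.left))
    (fun Oq => Oq.1.2) (fun r _ => by
      obtain ⟨Oq, hOq, hr, -⟩ := exists_isAffineOpen_mem_and_subset (X := Q.left) (x := r) (U := ⊤) trivial
      exact Set.mem_iUnion.2 ⟨⟨Oq, hOq⟩, hr⟩)
  let s := ∏ Oq ∈ T₀, sO Oq
  have hs : s ∉ c.asIdeal := fun h => by
    obtain ⟨Oq, -, hO'⟩ := (Ideal.IsPrime.prod_mem_iff (hp := c.2)).1 h
    exact hsO Oq hO'
  let B : (oA sA C).left.Opens := PrimeSpectrum.basicOpen s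
  let D : Over S := Over.mk (B.ι ≫ (oA sA C).hom)
  let jD : D ⟶ oA sA C := Over.homMk B.ι rfl
  have hjD : IsOpenImmersion jD.left := inferInstanceAs (IsOpenImmersion B.ι)
  haveI : Mono jD := Over.mono_of_mono_left _
  let j : (yon S).obj D ⟶ X'.obj := (yon S).map jD ≫ cC
  have hje : RepWith @Etale j :=
    RepWith.comp ((repWith_yon_map_iff @Etale jD).2 (inferInstance : Etale jD.left)) hcC
  have hjm : ∀ ⦃T : Over S⦄ (u v : (yon S).obj T ⟶ (yon S).obj D), u ≫ j = v ≫ j → u = v := by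
    intro T u v huv
    obtain ⟨u, rfl⟩ := (yon S).map_surjective u
    obtain ⟨v, rfl⟩ := (yon S).map_surjective v
    obtain ⟨l, hl⟩ := (yon S).map_surjective (sqQ.lift ((yon S).map (u ≫ jD)) ((yon S).map (v ≫ jD)) (by
      simpa [j] using huv))
    have hl1 : l ≫ pr₁ = u ≫ jD := (yon S).map_injective (by rw [Functor.map_comp, hl, sqQ.lift_fst])
    have hl2 : l ≫ pr₂ = v ≫ jD := (yon S).map_injective (by rw [Functor.map_comp, hl, sqQ.lift_snd])
    have hrange : Set.range l.left ⊆ Set.range δ.left := by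
      rintro _ ⟨ζ, rfl⟩
      obtain ⟨Oq, hOq, hζ⟩ : ∃ Oq ∈ T₀, l.left ζ ∈ Oq.1 := by
        simpa using hT₀ (Set.mem_univ (l.left ζ))
      have hle : B ≤ PrimeSpectrum.basicOpen (sO Oq) := by
        intro z hz h
        exact hz (Ideal.mem_of_dvd _ (Finset.dvd_prod_of_mem _ hOq) h)
      refine hsr Oq _ hζ (hle ?_) (hle ?_)
      · show (l ≫ pr₁).left ζ ∈ B
        rw [hl1]; exact (u.left ζ).2
      · show (l ≫ pr₂).left ζ ∈ B
        rw [hl2]; exact (v.left ζ).2
    haveI : Mono δ.left := ⟨fun x y h => by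
      have := congrArg (· ≫ pr₁.left) h
      simpa [Category.assoc, hδl] using this⟩
    haveI : IsOpenImmersion δ.left := by
      haveI : Etale (δ.left ≫ pr₁.left) := by rw [hδl]; infer_instance
      haveI : Etale δ.left := Etale.of_comp δ.left pr₁.left
      haveI : Mono ((yon S).map δ) := by
        haveI : Mono δ := Over.mono_of_mono_left _
        infer_instance
      exact (repWith_yon_map_iff _ δ).1 ((repWith_isOpenImmersion_iff_mono_etale (IsAlgSpace.yon_obj _)
        (IsAlgSpace.yon_obj _) _).2 ⟨inferInstance, fun _ ψ hψ =>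
          RepWith.comp hψ ((repWith_yon_map_iff @Etale δ).2 inferInstance)⟩)
    have hlf := IsOpenImmersion.lift_fac δ.left l.left hrange
    let g₀ := IsOpenImmersion.lift δ.left l.left hrange
    have hu : (u ≫ jD).left = g₀ := by
      rw [← hl1]; show l.left ≫ pr₁.left = g₀
      rw [← hlf, Category.assoc, hδl, Category.comp_id]
    have hv : (v ≫ jD).left = g₀ := by
      rw [← hl2]; show l.left ≫ pr₂.left = g₀
      rw [← hlf, Category.assoc, show δ.left ≫ pr₂.left = 𝟙 _ from congrArg (fun m => m.left) hδ2, Category.comp_id]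
    have : u ≫ jD = v ≫ jD := Over.OverMorphism.ext (hu.trans hv.symm)
    exact congrArg _ ((cancel_mono jD).1 this)
  haveI : Mono j := ⟨fun u v huv => hom_ext_of_yon fun T x => hjm _ _ (by rw [Category.assoc, huv, Category.assoc])⟩
  have hjo : RepWith @IsOpenImmersion j := (repWith_isOpenImmersion_iff_mono_etale (IsAlgSpace.yon_obj _) X'.property j).2
    ⟨inferInstance, fun _ ψ hψ => RepWith.comp hψ hje⟩
  refine ⟨D, j, jD ≫ oStr sA C ≫ ι, hjo, ?_, ?_⟩
  · show ((yon S).map jD ≫ cC) ≫ ν.hom = _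
    rw [Category.assoc, hcν]
    simp [a, Category.assoc]
  · refine ⟨Points.ofScheme D ⟨c, hs⟩, ?_⟩
    rw [← Points.ofPt_eq_map_ofScheme]
    show Points.ofPt ((yon S).map jD ≫ cC) _ = x'
    rw [ofPt_map, ← hc]
    rfl

end Groth.Agent.AlgSpLib

namespace Groth.Agent.AlgSpLib

set_option backward.isDefEq.respectTransparency.types false
set_option backward.isDefEq.respectTransparency false

variable {S : Scheme.{u}}

theorem exists_scheme_integral_cover [QuasiSeparatedSpace ↥S] (X : Space S)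
    (hc : IsQuasiCompactSp X.obj) (hs : IsQuasiSeparatedSp X.obj)
    {U : Over S} (b : (yon S).obj U ⟶ X.obj) (hb : RepWith @Etale b) (hbs : RepWith @Surjective b) :
    ∃ (Y : Over S) (g : (yon S).obj Y ⟶ X.obj), RepWith @IsIntegralHom g ∧ RepWith @Surjective g ∧
      ∀ y : ↥Y.left, ∃ (W : Y.left.Opens) (c : Over.mk (W.ι ≫ Y.hom) ⟶ U), y ∈ W ∧
        (yon S).map c ≫ b = (yon S).map (Over.homMk W.ι rfl : Over.mk (W.ι ≫ Y.hom) ⟶ Y) ≫ g := by
  haveI : CompactSpace (Points X.obj) := compactSpace_points_of_isQuasiCompactSp hc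
  obtain ⟨U₀, p₀, hU₀, hpe, hps⟩ := exists_affine_chart X.property
  haveI := hU₀
  let K : {q : Ideal Γ(U₀.left, ⊤) // q ∈ minimalPrimes Γ(U₀.left, ⊤)} → Type u := fun q =>
    haveI : q.1.IsPrime := q.2.1.1
    AlgebraicClosure q.1.ResidueField
  letI : ∀ q, Field (K q) := fun q => by
    haveI : q.1.IsPrime := q.2.1.1
    exact inferInstanceAs (Field (AlgebraicClosure q.1.ResidueField))
  haveI : ∀ q, IsAlgClosed (K q) := fun q => by
    haveI : q.1.IsPrime := q.2.1.1
    exact inferInstanceAs (IsAlgClosed (AlgebraicClosure q.1.ResidueField))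
  let R := ∀ q, K q
  let ev : ∀ q, Γ(U₀.left, ⊤) →+* K q := fun q =>
    haveI : q.1.IsPrime := q.2.1.1
    (algebraMap q.1.ResidueField (AlgebraicClosure q.1.ResidueField)).comp (algebraMap _ q.1.ResidueField)
  let m : Spec (CommRingCat.of R) ⟶ U₀.left :=
    Spec.map (CommRingCat.ofHom (Pi.ringHom ev)) ≫ U₀.left.isoSpec.inv
  let sR : Spec (CommRingCat.of R) ⟶ S := m ≫ U₀.hom
  let mO : Over.mk sR ⟶ U₀ := Over.homMk m rfl
  let ρ : (⟨(yon S).obj (Over.mk sR), IsAlgSpace.yon_obj _⟩ : Space S) ⟶ X :=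
    ObjectProperty.homMk ((yon S).map mO ≫ p₀)
  haveI : CompactSpace ↥(Over.mk sR).left := inferInstanceAs (CompactSpace ↥(Spec (CommRingCat.of R)))
  have hcR : IsQuasiCompactSp ((yon S).obj (Over.mk sR)) :=
    ⟨_, 𝟙 _, repWith_id _ _, repWith_id _ _, (inferInstance : CompactSpace ↥(Over.mk sR).left)⟩
  have hρc : IsQuasiCompactMor ρ.hom := isQuasiCompactMor_of_qc_qs (IsAlgSpace.yon_obj _) X.property _ hcR hs
  have hρs : IsQuasiSeparatedMor ρ.hom := by
    refine isQuasiSeparatedMor_of_isSeparatedMor ?_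
    obtain ⟨q₀, -⟩ := exists_to_base X.obj
    refine isSeparatedMor_of_comp (q := q₀) ?_
    rw [show ρ.hom ≫ q₀ = (yon S).map (Over.homMk sR (Category.comp_id _) : Over.mk sR ⟶ Over.mk (𝟙 S)) from
      (isTerminal_yon_base S).some.hom_ext _ _]
    refine (repWith_diagonal_yon_map_iff _ _).2 ?_
    haveI : IsSeparated sR := inferInstance
    exact IsSeparated.diagonal_isClosedImmersion (f := sR)
  obtain ⟨X', ν, f', H⟩ := exists_locNorm ρ hρc hρs
  haveI : T2Space (PrimeSpectrum R) := t2Space_of_vnr (HenselLib.WEt.vnr_pi_field _ K)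
  obtain ⟨V, v, hve, hvs⟩ := X'.property.atlas
  choose D j k hj hjk hjx using fun t : ↥V.left =>
    exists_open_lift (isSepClosed_residueField_pi K) ρ hs hρc hρs H b hb hbs (Points.ofPt v t)
  obtain ⟨G, ⟨iG⟩⟩ := exists_iso_yon_of_openCover j hj fun x => by
    obtain ⟨t, rfl⟩ := surjective_ofPt v hvs x
    exact ⟨t, hjx t⟩
  have hint : RepWith @IsIntegralHom (iG.hom ≫ ν.hom) := RepWith.comp (repWith_of_isIso _ _) H.int
  refine ⟨G, iG.hom ≫ ν.hom, hint, ?_, fun y => ?_⟩
  · refine repWith_surjective_of_surjective_map hint.1 fun x => ?_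
    obtain ⟨u, rfl⟩ := surjective_ofPt p₀ hps x
    obtain ⟨W, w, fst, sq, hw⟩ := exists_yon_of_repWith H.int p₀
    haveI : IsIntegralHom w.left := hw
    suffices hsurj : ∀ u : ↥U₀.left, ∃ z : ↥W.left, w.left z = u by
      obtain ⟨z, rfl⟩ := hsurj u
      refine ⟨Points.map iG.inv (Points.ofPt fst z), ?_⟩
      rw [Points.map_ofPt, Points.map_ofPt]
      simp only [Category.assoc, iG.inv_hom_id_assoc, sq.w]
      rw [ofPt_map]
    intro u
    have hmin : ∀ q : {q : Ideal Γ(U₀.left, ⊤) // q ∈ minimalPrimes Γ(U₀.left, ⊤)},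
        U₀.left.isoSpec.inv (⟨q.1, q.2.1.1⟩ : PrimeSpectrum _) ∈ Set.range w.left := fun q => by
      haveI : q.1.IsPrime := q.2.1.1
      let rq : PrimeSpectrum R := PrimeSpectrum.comap (Pi.evalRingHom K q) ⟨⊥, Ideal.isPrime_bot⟩
      have hrq : mO.left (rq : ↥(Over.mk sR).left) = U₀.left.isoSpec.inv (⟨q.1, q.2.1.1⟩ : PrimeSpectrum _) := by
        show U₀.left.isoSpec.inv (Spec.map (CommRingCat.ofHom (Pi.ringHom ev)) rq) = _
        congr 1
        refine PrimeSpectrum.ext ?_
        show RingHom.ker ((Pi.evalRingHom K q).comp (Pi.ringHom ev)) = q.1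
        rw [show (Pi.evalRingHom K q).comp (Pi.ringHom ev) = ev q from RingHom.ext fun _ => rfl]
        show RingHom.ker ((algebraMap q.1.ResidueField (AlgebraicClosure q.1.ResidueField)).comp _) = q.1
        rw [RingHom.ker_comp_of_injective _ (algebraMap q.1.ResidueField (AlgebraicClosure q.1.ResidueField)).injective,
          Ideal.ker_algebraMap_residueField]
      let l : (yon S).obj (Over.mk sR) ⟶ (yon S).obj W := sq.lift f'.hom ((yon S).map mO) H.fac
      obtain ⟨l₀, hl₀⟩ := (yon S).map_surjective l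
      refine ⟨l₀.left rq, ?_⟩
      rw [← hrq, show mO = l₀ ≫ w from (yon S).map_injective (by rw [Functor.map_comp, hl₀, sq.lift_snd])]
      rfl
    obtain ⟨q, hq, hle⟩ := Ideal.exists_minimalPrimes_le (bot_le (a := (U₀.left.isoSpec.hom u : PrimeSpectrum _).asIdeal))
    have hsp : U₀.left.isoSpec.inv (⟨q, hq.1.1⟩ : PrimeSpectrum _) ⤳ u := by
      have h1 : (⟨q, hq.1.1⟩ : PrimeSpectrum Γ(U₀.left, ⊤)) ⤳ U₀.left.isoSpec.hom u :=
        (PrimeSpectrum.le_iff_specializes _ (U₀.left.isoSpec.hom u : PrimeSpectrum Γ(U₀.left, ⊤))).1 hle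
      have h2 := h1.map U₀.left.isoSpec.inv.continuous
      have h3 : U₀.left.isoSpec.inv (U₀.left.isoSpec.hom u) = u := by
        rw [← Scheme.Hom.comp_apply]; simp
      rwa [h3] at h2
    obtain ⟨z, hz⟩ := hsp.mem_closed w.left.isClosedMap.isClosed_range (hmin ⟨q, hq⟩)
    exact ⟨z, hz⟩
  · obtain ⟨t, ht⟩ := surjective_ofPt v hvs (Points.ofPt iG.hom y)
    obtain ⟨jG, hjG⟩ := (yon S).map_surjective (j t ≫ iG.inv)
    haveI : IsOpenImmersion jG.left := (repWith_yon_map_iff _ jG).1 (by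
      rw [hjG]; exact RepWith.comp (hj t) (repWith_of_isIso _ _))
    let i := jG.left.isoOpensRange
    let c₀ : Over.mk (jG.left.opensRange.ι ≫ G.hom) ⟶ D t := Over.homMk i.inv (by
      show i.inv ≫ (D t).hom = jG.left.opensRange.ι ≫ G.hom
      rw [Iso.inv_comp_eq, ← Category.assoc, Scheme.Hom.isoOpensRange_hom_ι]
      exact (Over.w jG).symm)
    refine ⟨jG.left.opensRange, c₀ ≫ k t, ?_, ?_⟩
    · obtain ⟨d, hd⟩ := hjx t
      refine ⟨Points.toScheme (D t) d, ?_⟩
      have h := congrArg (Points.map iG.inv) (hd.trans ht)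
      rw [← Points.map_comp, ← hjG, Points.map_ofPt, iG.hom_inv_id] at h
      have h' := congrArg (Points.toScheme G) h
      rw [← CategoryTheory.Functor.map_id, Points.toScheme_ofPt, ← Points.ofScheme_toScheme (D t) d,
        map_yon_map_ofScheme, Points.toScheme_ofScheme] at h'
      simpa using h'
    · have hc₀ : c₀ ≫ jG = (Over.homMk jG.left.opensRange.ι rfl : Over.mk (jG.left.opensRange.ι ≫ G.hom) ⟶ G) :=
        Over.OverMorphism.ext (Scheme.Hom.isoOpensRange_inv_comp _)
      rw [Functor.map_comp, Category.assoc, ← hjk, ← hc₀, Functor.map_comp, Category.assoc, hjG]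
      simp

end Groth.Agent.AlgSpLib
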