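import Groth.Agent.AlgSpLib.ProperYon
import Groth.Agent.AlgSpLib.LimitSystemNat
import Groth.Agent.AlgSpLib.OpenFac
import Groth.Agent.AlgSpLib.LimitClosed
import Groth.Agent.AlgSpLib.VCartSpace
import Groth.Agent.AlgSpLib.DirectedRestrict
import Groth.Agent.H8Lim.ProperStage
import Groth.Agent.H8Lim.ClosedLimit
import Groth.Agent.S10048
import Groth.Agent.S10271
import Groth.Agent.S10274
import Groth.Agent.S10275
import Groth.Agent.S10276

/-!
A limit of closed immersions which is proper over a base has a proper stage.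
-/

universe u

open CategoryTheory CategoryTheory.Limits AlgebraicGeometry Opposite
open AlgSp

noncomputable section

set_option linter.style.haveILetI false

namespace Groth.Agent.AlgSpLib.ProperSt

open Groth.Agent.AlgSpLib

set_option backward.isDefEq.respectTransparency.types false
set_option backward.isDefEq.respectTransparency false

variable {S : Scheme.{u}}

theorem isQuasiSeparatedSp_of_separated [QuasiSeparatedSpace ↥S] {Z Y : Sp S} {μ : Z ⟶ Y} (hμ : IsSeparatedMor μ)
    (hY : IsQuasiSeparatedSp Y) : IsQuasiSeparatedSp Z := by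
  have hT : IsTerminal ((yon S).obj (Over.mk (𝟙 S))) := IsTerminal.isTerminalObj (yon S) _ Over.mkIdTerminal
  exact (isQuasiSeparatedMor_iff_sp _).1 (isQuasiSeparatedMor_comp (g := hT.from Y)
    (isQuasiSeparatedMor_of_isSeparatedMor hμ) ((isQuasiSeparatedMor_iff_sp _).2 hY))

set_option maxHeartbeats 1600000 in
theorem exists_stage_isProperMor {I : Type u} [SmallCategory I] [IsCofiltered I] [QuasiSeparatedSpace ↥S]
    (D : I ⥤ Sp S) {Y : AlgSp.Space S} (t : D ⟶ (Functor.const I).obj Y.obj) (c : Cone D) (hc : IsLimit c)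
    (hD : ∀ i, IsAlgSpace (D.obj i)) (hDc : ∀ (i j : I) (φ : i ⟶ j), RepWith @IsClosedImmersion (D.map φ))
    (hYc : IsQuasiCompactSp Y.obj) (hYs : IsQuasiSeparatedSp Y.obj) (hsep : ∀ i, IsSeparatedMor (t.app i))
    (hft : ∀ i, IsFiniteTypeMor (t.app i)) {g : c.pt ⟶ Y.obj} (hg : ∀ i, c.π.app i ≫ t.app i = g)
    (hX : IsProperMor g) : ∃ o, IsProperMor (t.app o) := by
  have hDa : ∀ (i j : I) (φ : i ⟶ j), IsAffineMor (D.map φ) := fun i j φ =>
    isAffineMor_of_closedImmersion (hDc i j φ)
  have hqc : ∀ i, IsQuasiCompactSp (D.obj i) := fun i =>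
    OpenFac.isQuasiCompactSp_of_mor (hD i) Y.property (hft i).2 hYc
  have hqs : ∀ i, IsQuasiSeparatedSp (D.obj i) := fun i => isQuasiSeparatedSp_of_separated (hsep i) hYs
  have hc' : IsAlgSpace c.pt := isAlgSpace_limit D hD hDa c hc
  haveI := compactSpace_points_of_isQuasiCompactSp hYc
  obtain ⟨B, b, hB, hbe, hbs⟩ := exists_affine_chart Y.property
  haveI := hB
  obtain ⟨o⟩ := IsCofiltered.nonempty (C := I)
  have sqP := IsPullback.of_hasPullback (t.app o) b
  let P : AlgSp.Space S := ⟨pullback (t.app o) b,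
    isAlgSpace_of_isPullback Y.property.diag (hD o) (IsAlgSpace.yon_obj B) sqP⟩
  have hPsep : IsSeparatedMor (pullback.snd (t.app o) b) := isSeparatedMor_of_isPullback sqP (hsep o)
  have hPc : IsQuasiCompactSp P.obj :=
    OpenFac.isQuasiCompactSp_of_mor P.property (IsAlgSpace.yon_obj B)
      (isQuasiCompactMor_of_isPullback (hD o) Y.property (IsAlgSpace.yon_obj B) sqP (hft o).2)
      (Stk19.isQuasiCompactSp_yon B)
  have hBs : IsQuasiSeparatedSp ((yon S).obj B) := by
    haveI : QuasiSeparated (B.hom ≫ terminal.from S) := (quasiSeparated_iff_quasiSeparatedSpace _).2 inferInstance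
    haveI : QuasiSeparated B.hom := QuasiSeparated.of_comp _ (terminal.from S)
    exact (isQuasiSeparatedMor_iff_sp _).1
      ((isQuasiSeparatedMor_yon_map_iff (Over.homMk B.hom : B ⟶ Over.mk (𝟙 S))).2 ‹QuasiSeparated B.hom›)
  have hPs : IsQuasiSeparatedSp P.obj := isQuasiSeparatedSp_of_separated hPsep hBs
  haveI := compactSpace_points_of_isQuasiCompactSp hPc
  obtain ⟨U, p, -, hpe, hps⟩ := exists_affine_chart P.property
  obtain ⟨Y', h, hh, hhs, -, -⟩ := Groth.Agent.S10048.result S P hPc hPs U p hpe hps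
  have hY' := IsAlgSpace.yon_obj Y'
  let u : (yon S).obj Y' ⟶ D.obj o := h ≫ pullback.fst (t.app o) b
  obtain ⟨τ, hτ⟩ := (yon S).map_surjective (h ≫ pullback.snd (t.app o) b)
  have hhp : IsProperMor h := ((Groth.Agent.S10271.result (X := (AlgSp.ofScheme S).obj Y') (Y := P)
    (ObjectProperty.homMk h)).1 hh).2
  -- the system of schemes
  obtain ⟨E, η, pr, cE, hcE, θ, -, hnat, hsq, hpr, hprnat, ⟨g₀, sqθ⟩, hπ⟩ := exists_stage_system_nat D hDa c hc u
  let W : Over o ⥤ Scheme.{u} := E ⋙ Over.forget S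
  let cW : Cone W := (Over.forget S).mapCone cE
  haveI : ∀ {i j : Over o} (φ : i ⟶ j), IsClosedImmersion (W.map φ) := fun φ =>
    (repWith_yon_map_iff @IsClosedImmersion _).1 (RepWith.baseChange (hnat φ).flip (hDc _ _ φ.left))
  haveI : ∀ j, IsClosedImmersion (cW.π.app j) := fun j =>
    (repWith_yon_map_iff @IsClosedImmersion _).1 (RepWith.baseChange (hπ j).flip
      (OpenFac.isClosedImmersion_π hD hDc c hc j.left (hqc _)))
  let tB : W ⟶ (Functor.const (Over o)).obj B.left :=
    { app := fun j => (pr j ≫ τ).left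
      naturality := fun i j φ => by
        show (E.map φ).left ≫ (pr j ≫ τ).left = (pr i ≫ τ).left ≫ 𝟙 _
        rw [Category.comp_id, ← Over.comp_left, ← Category.assoc, hprnat φ] }
  let j₀ : Over o := Over.mk (𝟙 o)
  let s₀ : cE.pt ⟶ B := cE.π.app j₀ ≫ pr j₀ ≫ τ
  have hs₀ : ∀ j, cW.π.app j ≫ tB.app j = s₀.left := fun j => by
    show (cE.π.app j).left ≫ (pr j ≫ τ).left = s₀.left
    rw [← Over.comp_left]
    refine congrArg (fun k : cE.pt ⟶ B => k.left) ?_
    obtain ⟨m, a, a', -⟩ := IsCofilteredOrEmpty.cone_objs j j₀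
    have ea : cE.π.app m ≫ E.map a = cE.π.app j := cE.w a
    have ea' : cE.π.app m ≫ E.map a' = cE.π.app j₀ := cE.w a'
    rw [← ea, Category.assoc, ← Category.assoc (E.map a), hprnat a, show s₀ = cE.π.app j₀ ≫ pr j₀ ≫ τ from rfl,
      ← ea', Category.assoc, ← Category.assoc (E.map a'), hprnat a']
  -- the limit is proper
  have hQ₁ : (pullback.fst g b ≫ c.π.app o) ≫ t.app o = pullback.snd g b ≫ b := by
    rw [Category.assoc, hg o, pullback.condition]
  let q₁ : pullback g b ⟶ P.obj := pullback.lift (pullback.fst g b ≫ c.π.app o) (pullback.snd g b) hQ₁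
  have sqQ := IsPullback.of_hasPullback g b
  have sqq : IsPullback q₁ (pullback.fst g b) (pullback.fst (t.app o) b) (c.π.app o) := by
    refine IsPullback.of_right (h₁₂ := pullback.snd (t.app o) b) ?_ (pullback.lift_fst _ _ _) sqP.flip
    rw [show q₁ ≫ pullback.snd (t.app o) b = pullback.snd g b from pullback.lift_snd _ _ _, hg o]
    exact sqQ.flip
  let g₁ : (yon S).obj cE.pt ⟶ (yon S).obj Y' := (yon S).map (cE.π.app j₀) ≫ (yon S).map (pr j₀)
  have sq₀ : IsPullback g₁ θ (h ≫ pullback.fst (t.app o) b) (c.π.app o) := by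
    have := (hπ j₀).paste_horiz (hsq j₀)
    rwa [c.w] at this
  have hQ : IsAlgSpace (pullback g b) := isAlgSpace_of_isPullback Y.property.diag hc' (IsAlgSpace.yon_obj B) sqQ
  let m : (yon S).obj cE.pt ⟶ pullback g b := sqq.lift (g₁ ≫ h) θ (by rw [Category.assoc]; exact sq₀.w)
  have sqm : IsPullback g₁ m h q₁ := by
    refine IsPullback.of_bot ?_ (sqq.lift_fst _ _ _).symm sqq
    rw [show m ≫ pullback.fst g b = θ from sqq.lift_snd _ _ _]
    exact sq₀
  have hm : IsProperMor m := isProperMor_of_isPullback hY' P.property hQ sqm hhp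
  have hQp : IsProperMor (pullback.snd g b) := isProperMor_of_isPullback hc' Y.property (IsAlgSpace.yon_obj B) sqQ hX
  haveI : IsProper s₀.left := by
    refine (isProperMor_yon_map_iff' s₀).1 ?_
    have e : (yon S).map s₀ = m ≫ pullback.snd g b := by
      have : m ≫ q₁ = g₁ ≫ h := sqq.lift_fst _ _ _
      rw [show pullback.snd g b = q₁ ≫ pullback.snd (t.app o) b from (pullback.lift_snd _ _ _).symm,
        ← Category.assoc, this, Category.assoc, ← hτ]
      simp [s₀, g₁]
    rw [e]
    exact isProperMor_comp (IsAlgSpace.yon_obj _) hQ (IsAlgSpace.yon_obj B) hm hQp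
  let ti : W.obj j₀ ⟶ B.left := (pr j₀ ≫ τ).left
  haveI hprc : ∀ j, IsClosedImmersion (pr j).left := fun j =>
    (repWith_yon_map_iff @IsClosedImmersion _).1 (RepWith.baseChange (hsq j).flip (hDc _ _ j.hom))
  have hτs : IsSeparatedMor ((yon S).map τ) := by rw [hτ]; exact isSeparatedMor_comp hhp.1 hPsep
  haveI : IsSeparated τ.left := (isSeparatedMor_yon_map_iff _).1 hτs
  have hτl : LocP @LocallyOfFiniteType ((yon S).map τ) := by
    rw [hτ]
    exact locP_comp etLocal_lft hY' P.property (IsAlgSpace.yon_obj B) hhp.2.1.1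
      (locP_of_isPullback etLocal_lft (hD o) Y.property P.property sqP (hft o).1)
  haveI : LocallyOfFiniteType τ.left := locP_yon_map hτl
  have hτc : IsQuasiCompactMor ((yon S).map τ) := by
    rw [hτ]
    exact isQuasiCompactMor_comp hY' P.property (IsAlgSpace.yon_obj B) hhp.2.1.2
      (isQuasiCompactMor_of_isPullback (hD o) Y.property (IsAlgSpace.yon_obj B) sqP (hft o).2)
  haveI : QuasiCompact τ.left := (repWith_yon_map_iff _ _).1 ((repWith_quasiCompact_iff hY'
    (IsAlgSpace.yon_obj B) ((IsAlgSpace.yon_obj B).representable_from_yon _)).2 hτc)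
  haveI : IsSeparated ti := inferInstanceAs (IsSeparated ((pr j₀).left ≫ τ.left))
  haveI : LocallyOfFiniteType ti := inferInstanceAs (LocallyOfFiniteType ((pr j₀).left ≫ τ.left))
  haveI : QuasiCompact ti := inferInstanceAs (QuasiCompact ((pr j₀).left ≫ τ.left))
  obtain ⟨j, -, hj⟩ := H8Lim.exists_isProper_stage hcE tB s₀.left hs₀ j₀ ti rfl
  -- surjectivity down to the stage
  have hjp : IsProperMor ((yon S).map (pr j ≫ τ)) := (isProperMor_yon_map_iff' _).2 hj
  have tn : D.map j.hom ≫ t.app o = t.app j.left := (t.naturality j.hom).trans (Category.comp_id _)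
  have sqR := IsPullback.of_hasPullback (t.app j.left) b
  let R : AlgSp.Space S := ⟨pullback (t.app j.left) b,
    isAlgSpace_of_isPullback Y.property.diag (hD _) (IsAlgSpace.yon_obj B) sqR⟩
  let r : R.obj ⟶ P.obj := pullback.lift (pullback.fst _ _ ≫ D.map j.hom) (pullback.snd _ _)
    (by rw [Category.assoc, tn, pullback.condition])
  have sqr : IsPullback r (pullback.fst (t.app j.left) b) (pullback.fst (t.app o) b) (D.map j.hom) := by
    refine IsPullback.of_right (h₁₂ := pullback.snd (t.app o) b) ?_ (pullback.lift_fst _ _ _) sqP.flip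
    rw [show r ≫ pullback.snd (t.app o) b = pullback.snd (t.app j.left) b from pullback.lift_snd _ _ _, tn]
    exact sqR.flip
  let k : (yon S).obj (E.obj j) ⟶ R.obj := sqr.lift ((yon S).map (pr j) ≫ h) (η j) (by
    rw [Category.assoc]; exact (hsq j).w)
  have sqk : IsPullback ((yon S).map (pr j)) k h r := by
    refine IsPullback.of_bot ?_ (sqr.lift_fst _ _ _).symm sqr
    rw [show k ≫ pullback.fst (t.app j.left) b = η j from sqr.lift_snd _ _ _]
    exact hsq j
  have hk : IsSurjectiveMor k := surjective_map_of_isPullback sqk hhs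
  have ek : k ≫ pullback.snd (t.app j.left) b = (yon S).map (pr j ≫ τ) := by
    rw [show pullback.snd (t.app j.left) b = r ≫ pullback.snd (t.app o) b from (pullback.lift_snd _ _ _).symm,
      ← Category.assoc, show k ≫ r = (yon S).map (pr j) ≫ h from sqr.lift_fst _ _ _, Category.assoc, ← hτ,
      Functor.map_comp]
  have hR : IsProperMor (pullback.snd (t.app j.left) b) :=
    ⟨isSeparatedMor_of_isPullback sqR (hsep _),
      ⟨locP_of_isPullback etLocal_lft (hD _) Y.property R.property sqR (hft _).1,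
        isQuasiCompactMor_of_isPullback (hD _) Y.property (IsAlgSpace.yon_obj B) sqR (hft _).2⟩,
      isUnivClosedMor_of_surjective hk (ek ▸ hjp.2.2)⟩
  exact ⟨j.left, Groth.Agent.S10274.result (X := ⟨D.obj j.left, hD _⟩) (Y := Y)
    (ObjectProperty.homMk (t.app j.left)) B b hbe hbs _ _ sqR hR⟩

end Groth.Agent.AlgSpLib.ProperSt
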