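import Groth.Agent.AlgSpLib.ApproxClosed
import Groth.Agent.AlgSpLib.LimitSeparated
import Groth.Agent.AlgSpLib.DirectedRestrict
import Groth.Agent.AlgSpLib.ProperStage
import Groth.Agent.S10035

/-!
Separated morphisms of finite type as limits of closed immersions of separated morphisms of finite presentation.
-/

universe u

open CategoryTheory CategoryTheory.Limits AlgebraicGeometry Opposite
open AlgSp

noncomputable section

namespace Groth.Agent.AlgSpLib.Approx

open Groth.Agent.AlgSpLib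

set_option backward.isDefEq.respectTransparency.types false
set_option backward.isDefEq.respectTransparency false

variable {S : Scheme.{u}} [QuasiSeparatedSpace ↥S]

theorem exists_closed_system {X Y : AlgSp.Space S} (f : X.obj ⟶ Y.obj) (hft : IsFiniteTypeMor f)
    (hsep : IsSeparatedMor f) (hYc : IsQuasiCompactSp Y.obj) (hYs : IsQuasiSeparatedSp Y.obj) :
    ∃ (I : Type u) (_ : Preorder I) (_ : IsDirected I (fun a b => a ≤ b)) (_ : Nonempty I) (D : Iᵒᵖ ⥤ AlgSp.Sp S)
      (t : D ⟶ (Functor.const Iᵒᵖ).obj Y.obj) (c : Cone D) (_ : IsLimit c) (e : c.pt ≅ X.obj),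
      (∀ i, IsAlgSpace (D.obj i)) ∧ (∀ (i j : Iᵒᵖ) (φ : i ⟶ j), RepWith @IsClosedImmersion (D.map φ)) ∧
      (∀ i, RepWith @IsClosedImmersion (c.π.app i)) ∧
      (∀ i, IsSeparatedMor (t.app i) ∧ IsFinitePresentationMor (t.app i)) ∧
      (∀ i, e.inv ≫ c.π.app i ≫ t.app i = f) := by
  have hXc : IsQuasiCompactSp X.obj := OpenFac.isQuasiCompactSp_of_mor X.property Y.property hft.2 hYc
  have hXs : IsQuasiSeparatedSp X.obj := ProperSt.isQuasiSeparatedSp_of_separated hsep hYs
  obtain ⟨V, i₀, π₀, hfac, hi₀, hπ₀, hVc, hVs⟩ := exists_closed_fp_factor f hft.1 hXc hXs hYs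
  obtain ⟨I, _, _, _, D, t, c, hc, e, hD, hDc, ht, hcomp⟩ :=
    Groth.Agent.S10035.result S (X := X) (Y := V) (ObjectProperty.homMk i₀) hi₀ hVc hVs
  have hDa : ∀ (i j : Iᵒᵖ) (φ : i ⟶ j), IsAffineMor (D.map φ) := fun i j φ =>
    isAffineMor_of_closedImmersion (hDc i j φ)
  have hqc : ∀ i, IsQuasiCompactSp (D.obj i) := fun i =>
    OpenFac.isQuasiCompactSp_of_affine V.property (isAffineMor_of_closedImmersion (ht i).1) hVc
  have hqs : ∀ i, IsQuasiSeparatedSp (D.obj i) := fun i =>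
    VCart.isQuasiSeparatedSp_of_affineMor (isAffineMor_of_closedImmersion (ht i).1) hVs
  let t' : D ⟶ (Functor.const Iᵒᵖ).obj Y.obj := t ≫ (Functor.const Iᵒᵖ).map π₀
  have hg : ∀ i, c.π.app i ≫ t'.app i = e.hom ≫ f := fun i => by
    show c.π.app i ≫ t.app i ≫ π₀ = _
    have := hcomp i
    rw [Iso.inv_comp_eq] at this
    rw [← Category.assoc, this, ← hfac]
    exact Category.assoc _ _ _
  have hgs : IsSeparatedMor (e.hom ≫ f) := isSeparatedMor_comp (isSeparatedMor_of_mono e.hom) hsep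
  obtain ⟨o, ho⟩ := LimitSep.exists_stage_isSeparatedMor t' Y.property hYs hD hDa hc hg hqc hqs hgs
  obtain ⟨hlim⟩ := DirRes.nonempty_isLimit_restrict c hc o.unop
  refine ⟨DirRes.Above o.unop, inferInstance, inferInstance, inferInstance, DirRes.incl o.unop ⋙ D,
    Functor.whiskerLeft (DirRes.incl o.unop) t', c.whisker (DirRes.incl o.unop), hlim, e, fun i => hD _,
    fun i j φ => hDc _ _ _, fun i => OpenFac.isClosedImmersion_π hD hDc c hc _ (hqc _), fun i => ⟨?_, ?_⟩, fun i => ?_⟩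
  · exact ho _ (homOfLE i.unop.2).op
  · exact AffineLftClosed.fp_comp (hD _) V.property Y.property (ht _).2 hπ₀
  · show e.inv ≫ c.π.app _ ≫ t'.app _ = f
    rw [hg, Iso.inv_hom_id_assoc]

end Groth.Agent.AlgSpLib.Approx
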