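import Groth.Agent.AlgSpLib.QAEmbed
import Mathlib.AlgebraicGeometry.AffineTransitionLimit
import Groth.Prelude.Def_AlgSp

/-!
A system of schemes whose limit is open in an affine scheme: a stage embeds in an affine scheme of finite presentation.
-/

universe u

open CategoryTheory CategoryTheory.Limits AlgebraicGeometry TopologicalSpace

noncomputable section

set_option linter.style.haveILetI false

namespace Groth.Agent.AlgSpLib.Approx

set_option backward.isDefEq.respectTransparency.types false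
set_option backward.isDefEq.respectTransparency false

variable {S : Scheme.{u}} {J : Type u} [SmallCategory J] [IsCofiltered J]

set_option maxHeartbeats 1000000 in
theorem exists_affine_stage (E : J ⥤ Over S) (hEa : ∀ {i j : J} (φ : i ⟶ j), IsAffineHom (E.map φ).left)
    (hEc : ∀ j, CompactSpace ↥(E.obj j).left) (hEq : ∀ j, QuasiSeparatedSpace ↥(E.obj j).left)
    (hEp : ∀ j, LocallyOfFinitePresentation (E.obj j).hom)
    (c : Cone E) (hc : IsLimit ((Over.forget S).mapCone c))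
    (V : Over S) [IsAffine V.left] (jW : c.pt ⟶ V) [IsOpenImmersion jW.left]
    {S₁ : S.Opens} (hS₁ : IsAffineOpen S₁) (hV : ∀ v : ↥V.left, V.hom v ∈ S₁) :
    ∃ (m : J) (V₀ : Over S) (_ : IsAffine V₀.left) (b : V ⟶ V₀) (κ : E.obj m ⟶ V₀),
      LocallyOfFinitePresentation V₀.hom ∧ IsOpenImmersion κ.left ∧ c.π.app m ≫ κ = jW ≫ b ∧
      b.left ⁻¹' Set.range κ.left = Set.range jW.left := by
  classical
  let D : J ⥤ Scheme.{u} := E ⋙ Over.forget S
  let C : Cone D := (Over.forget S).mapCone c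
  haveI : ∀ {i j : J} (φ : i ⟶ j), IsAffineHom (D.map φ) := fun φ => hEa φ
  haveI : ∀ j, CompactSpace ↥(D.obj j) := hEc
  haveI : ∀ j, QuasiSeparatedSpace ↥(D.obj j) := hEq
  let W : Scheme.{u} := c.pt.left
  let j : W ⟶ V.left := jW.left
  haveI : CompactSpace ↥W := Scheme.compactSpace_of_isLimit D C hc
  haveI : QuasiSeparatedSpace ↥W := (j.isOpenEmbedding.quasiSeparatedSpace)
  -- basic opens
  have hloc : ∀ x : W, ∃ f : Γ(V.left, ⊤), j x ∈ V.left.basicOpen f ∧ V.left.basicOpen f ≤ j.opensRange := fun x => by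
    obtain ⟨f, hf, hxf⟩ := (isAffineOpen_top V.left).exists_basicOpen_le (V := j.opensRange)
      ⟨j x, ⟨x, rfl⟩⟩ trivial
    exact ⟨f, hxf, hf⟩
  choose f hxf hfle using hloc
  obtain ⟨σ, hσ⟩ := isCompact_univ.elim_finite_subcover (fun x : W => (j ⁻¹ᵁ V.left.basicOpen (f x) : Set W))
    (fun x => (j ⁻¹ᵁ V.left.basicOpen (f x)).2) (fun x _ => Set.mem_iUnion.2 ⟨x, hxf x⟩)
  let h : ↥σ → Γ(V.left, ⊤) := fun a => f a.1
  have hcov : ∀ x : V.left, x ∈ j.opensRange ↔ ∃ a, x ∈ V.left.basicOpen (h a) := fun x => by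
    constructor
    · rintro ⟨w, rfl⟩
      obtain ⟨a, ha, hw⟩ := Set.mem_iUnion₂.1 (hσ (Set.mem_univ w))
      exact ⟨⟨a, ha⟩, hw⟩
    · rintro ⟨a, ha⟩
      exact hfle _ ha
  -- lifts
  choose i t ht using fun a : ↥σ => exists_appTop_π_eq_of_isLimit D C hc (j.appTop (h a))
  have hpre : ∀ a, C.π.app (i a) ⁻¹ᵁ (D.obj (i a)).basicOpen (t a) = j ⁻¹ᵁ V.left.basicOpen (h a) := fun a => by
    rw [Scheme.preimage_basicOpen_top, Scheme.preimage_basicOpen_top, ht a]
    rfl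
  have haffW : ∀ a, IsAffineOpen (j ⁻¹ᵁ V.left.basicOpen (h a)) := fun a =>
    (((isAffineOpen_top V.left).basicOpen (h a)).preimage_of_isOpenImmersion j (hfle _))
  choose l A hA hlA using fun a => exists_isAffineOpen_preimage_eq D C hc _ (haffW a)
  have hsame : ∀ a, ∃ (n : J) (φ : n ⟶ i a), IsAffineOpen (D.map φ ⁻¹ᵁ (D.obj (i a)).basicOpen (t a)) := fun a => by
    obtain ⟨k, k₁, k₂, -⟩ := IsCofilteredOrEmpty.cone_objs (i a) (l a)
    obtain ⟨n, ψ, e⟩ := exists_map_preimage_eq_map_preimage D C hc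
      (U := D.map k₁ ⁻¹ᵁ (D.obj (i a)).basicOpen (t a)) (V := D.map k₂ ⁻¹ᵁ A a)
      (QuasiCompact.isCompact_preimage _ ((D.obj (i a)).basicOpen (t a)).2
        (isCompact_basicOpen _ isCompact_univ _))
      (((hA a).preimage _).isCompact)
      (by rw [← Scheme.Hom.comp_preimage, ← Scheme.Hom.comp_preimage, C.w, C.w, hpre, hlA])
    refine ⟨n, ψ ≫ k₁, ?_⟩
    rw [D.map_comp, Scheme.Hom.comp_preimage, e]
    exact ((hA a).preimage _).preimage _
  choose n φ hn using hsame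
  obtain ⟨o⟩ := IsCofiltered.nonempty (C := J)
  obtain ⟨s, φs, hs⟩ := exists_map_eq_top D C hc ((E.obj o).hom ⁻¹ᵁ S₁) (by
    refine top_le_iff.1 fun w _ => ?_
    show (E.obj o).hom ((c.π.app o).left w) ∈ S₁
    have e : (c.π.app o).left ≫ (E.obj o).hom = jW.left ≫ V.hom := (Over.w (c.π.app o)).trans (Over.w jW).symm
    rw [← Scheme.Hom.comp_apply, e, Scheme.Hom.comp_apply]
    exact hV _)
  obtain ⟨k, hk⟩ := IsCofiltered.inf_objs_exists (insert s (Finset.univ.image n))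
  let ks : k ⟶ s := (hk (Finset.mem_insert_self _ _)).some
  let kn : ∀ a, k ⟶ n a := fun a =>
    (hk (Finset.mem_insert_of_mem (Finset.mem_image_of_mem n (Finset.mem_univ a)))).some
  let T : ∀ a, Γ(D.obj k, ⊤) := fun a => (D.map (kn a ≫ φ a)).appTop (t a)
  obtain ⟨m, ψ, hm⟩ := exists_map_eq_top D C hc (⨆ a, (D.obj k).basicOpen (T a)) (by
    refine top_le_iff.1 fun w _ => ?_
    rw [Scheme.Hom.preimage_iSup]
    obtain ⟨a, ha, hw⟩ := Set.mem_iUnion₂.1 (hσ (Set.mem_univ w))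
    refine Opens.mem_iSup.2 ⟨⟨a, ha⟩, ?_⟩
    rw [← Scheme.preimage_basicOpen_top, ← Scheme.Hom.comp_preimage, C.w, hpre]
    exact hw)
  -- the data on the stage
  let h' : ↥σ → Γ(D.obj m, ⊤) := fun a => (D.map (ψ ≫ kn a ≫ φ a)).appTop (t a)
  let p : W ⟶ D.obj m := C.π.app m
  have hh : ∀ a, p.appTop (h' a) = j.appTop (h a) := fun a => by
    rw [ht a]
    show ((D.map (ψ ≫ kn a ≫ φ a)).appTop ≫ (C.π.app m).appTop) (t a) = _
    rw [← Scheme.Hom.comp_appTop, C.w]
    rfl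
  have haff : ∀ a, IsAffineOpen ((D.obj m).basicOpen (h' a)) := fun a => by
    rw [← Scheme.preimage_basicOpen_top, D.map_comp, D.map_comp, Scheme.Hom.comp_preimage, Scheme.Hom.comp_preimage]
    exact ((hn a).preimage _).preimage _
  have hZ : ∀ x : D.obj m, ∃ a, x ∈ (D.obj m).basicOpen (h' a) := fun x => by
    have hx : D.map ψ x ∈ ⨆ a, (D.obj k).basicOpen (T a) := hm.ge (Set.mem_univ x)
    obtain ⟨a, ha⟩ := Opens.mem_iSup.1 hx
    refine ⟨a, ?_⟩
    show x ∈ (D.obj m).basicOpen ((D.map (ψ ≫ kn a ≫ φ a)).appTop (t a))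
    rw [D.map_comp, ← Scheme.preimage_basicOpen_top, Scheme.Hom.comp_preimage, Scheme.preimage_basicOpen_top]
    exact ha
  have hmS : ∀ x : ↥(E.obj m).left, (E.obj m).hom x ∈ S₁ := fun x => by
    have := hs.ge (Set.mem_univ (D.map (ψ ≫ ks) x))
    show (E.obj m).hom x ∈ S₁
    rw [← Over.w (E.map ((ψ ≫ ks) ≫ φs)), Functor.map_comp, Over.comp_left, Scheme.Hom.comp_apply, Scheme.Hom.comp_apply]
    exact this
  let z : D.obj m ⟶ Spec Γ(S, S₁) := IsOpenImmersion.lift hS₁.fromSpec (E.obj m).hom (by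
    rw [hS₁.range_fromSpec]; rintro _ ⟨x, rfl⟩; exact hmS x)
  let v : V.left ⟶ Spec Γ(S, S₁) := IsOpenImmersion.lift hS₁.fromSpec V.hom (by
    rw [hS₁.range_fromSpec]; rintro _ ⟨x, rfl⟩; exact hV x)
  have hz : z ≫ hS₁.fromSpec = (E.obj m).hom := IsOpenImmersion.lift_fac _ _ _
  have hv : v ≫ hS₁.fromSpec = V.hom := IsOpenImmersion.lift_fac _ _ _
  haveI : LocallyOfFinitePresentation z := by
    haveI : LocallyOfFinitePresentation (z ≫ hS₁.fromSpec) := hz ▸ hEp m
    exact MorphismProperty.of_isPullback (P := @LocallyOfFinitePresentation)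
      (IsPullback.of_horiz_isIso_mono (fst := 𝟙 _) (snd := z) (f := z ≫ hS₁.fromSpec) (g := hS₁.fromSpec)
        ⟨by rw [Category.id_comp]⟩) this
  have w : p ≫ z = j ≫ v := by
    rw [← cancel_mono hS₁.fromSpec, Category.assoc, Category.assoc, hz, hv]
    exact (Over.w (c.π.app m)).trans (Over.w jW).symm
  obtain ⟨V₀, hV₀, v₀, b, κ, hlfp, hκ, hb, hκz, hpκ, hrange⟩ :=
    QAEmbed.exists_model j p z v w h h' hh hcov hZ haff
  refine ⟨m, Over.mk (v₀ ≫ hS₁.fromSpec), hV₀, Over.homMk b (by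
      show b ≫ v₀ ≫ hS₁.fromSpec = V.hom
      rw [reassoc_of% hb, hv]), Over.homMk κ (by
      show κ ≫ v₀ ≫ hS₁.fromSpec = (E.obj m).hom
      rw [reassoc_of% hκz, hz]), ?_, hκ, Over.OverMorphism.ext hpκ, hrange⟩
  show LocallyOfFinitePresentation (v₀ ≫ hS₁.fromSpec)
  infer_instance

end Groth.Agent.AlgSpLib.Approx
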