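import Groth.Agent.AlgSpLib.GeomRedFibre
import Groth.Agent.AlgSpLib.DimBasic
import Groth.Agent.AlgSpLib.FibreDimChart
import Groth.Agent.FlatMorDim.Semicont
import Groth.Agent.FlatMorDim.BaseChange
import Groth.Agent.EGA43.DimFormula.Levels

/-!
The dimension of the fibres of a morphism of algebraic spaces, read on charts.
-/

universe u

open CategoryTheory CategoryTheory.Limits AlgebraicGeometry
open AlgSp

noncomputable section

namespace Groth.Agent.AlgSpLib

set_option backward.isDefEq.respectTransparency.types false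

variable {S : Scheme.{u}} {X Y : Sp S}

theorem topologicalKrullDim_fiber_of_subsingleton {A B : Scheme.{u}} (c : A ⟶ B) [Subsingleton B] (y : B) :
    topologicalKrullDim ↥(c.fiber y) = topologicalKrullDim ↥A :=
  IsHomeomorph.topologicalKrullDim_eq _ ((c.fiberHomeo y).trans ((Homeomorph.setCongr
    (Set.eq_univ_of_forall fun a => Subsingleton.elim (c a) y)).trans (Homeomorph.Set.univ ↥A))).isHomeomorph

theorem subsingleton_spec_field (K : Type u) [Field K] : Subsingleton ↥(Spec (CommRingCat.of K)) :=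
  inferInstanceAs (Subsingleton (PrimeSpectrum K))

theorem topologicalKrullDim_pullback_field {k K : Type u} [Field k] [Field K] {W : Scheme.{u}}
    (c : W ⟶ Spec (CommRingCat.of k)) [LocallyOfFiniteType c] (φ : CommRingCat.of k ⟶ CommRingCat.of K) :
    topologicalKrullDim ↥(pullback c (Spec.map φ)) = topologicalKrullDim ↥W := by
  letI : Algebra k K := φ.hom.toAlgebra
  exact DimLib.topologicalKrullDim_bc c K

/-- the dimension of a fibre, on a chart of the base change to a chart of the target -/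
theorem dim_fibre_eq (hX : IsAlgSpace X) (hY : IsAlgSpace Y) (f : X ⟶ Y) (hl : LocP @LocallyOfFiniteType f)
    {U V : Over S} (b : (yon S).obj V ⟶ Y) {ψ : (yon S).obj U ⟶ pullback f b} (hψe : RepWith @Etale ψ)
    (hψs : RepWith @Surjective ψ) {m : U ⟶ V} [LocallyOfFiniteType m.left]
    (hm : ψ ≫ pullback.snd f b = (yon S).map m) (v : ↥V.left) (k : FieldPt Y)
    (hk : Points.mk k = Points.ofPt b v) {Xk : Sp S} {α : Xk ⟶ X} {β : Xk ⟶ (yon S).obj k.pt}
    (sq : IsPullback α β f k.toHom) :
    AlgSp.dim Xk = topologicalKrullDim ↥(m.left.fiber v) := by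
  let g := k.toHom
  let t : ↥k.pt.left := IsLocalRing.closedPoint k.K
  have hg : Points.ofPt g t = Points.ofPt b v := by
    rw [← hk, ← ptOfHom_toHom k]
    exact (ofPt_eq_ptOfHom_of_field k.toHom _)
  have hR := hY.representable_from_yon g
  have sqR := hR.isPullback' b
  obtain ⟨r, hr1, hr2⟩ := (ofPt_eq_ofPt_iff sqR t v).1 hg
  let p := hR.fst' b
  let q := hR.snd b
  let T : Over S := Over.mk ((hR.pullback b).left.fromSpecResidueField r ≫ (hR.pullback b).hom)
  let j₀ : T ⟶ hR.pullback b := Over.homMk ((hR.pullback b).left.fromSpecResidueField r)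
  let ι : T ⟶ V := j₀ ≫ q
  let j : T ⟶ k.pt := j₀ ≫ p
  have hc : (yon S).map ι ≫ b = (yon S).map j ≫ g := by
    rw [Functor.map_comp, Functor.map_comp, Category.assoc, Category.assoc, sqR.w]
  have sqT := IsPullback.of_hasPullback f ((yon S).map ι ≫ b)
  let U' : Over S := Over.mk (pullback.fst m.left ι.left ≫ U.hom)
  let pU : U' ⟶ U := Over.homMk (pullback.fst m.left ι.left)
  let qU : U' ⟶ T := Over.homMk (pullback.snd m.left ι.left) (by
    show _ = pullback.fst m.left ι.left ≫ U.hom
    rw [← Over.w m, ← Over.w ι, ← Category.assoc, ← pullback.condition, Category.assoc])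
  have sqU : IsPullback pU qU m ι :=
    IsPullback.of_map (Over.forget S) (Over.OverMorphism.ext pullback.condition)
      (IsPullback.of_hasPullback m.left ι.left)
  obtain ⟨a₃, -, -, ha3⟩ := exists_baseChange_chart hm sqU sqT (P := @Etale ⊓ @Surjective)
    ⟨hψe.1, fun _ _ g fst snd h => ⟨hψe.2 g fst snd h, hψs.2 g fst snd h⟩⟩
  let XT := pullback f ((yon S).map ι ≫ b)
  have hXT : IsAlgSpace XT := isAlgSpace_of_isPullback hY.diag hX (IsAlgSpace.yon_obj _) sqT
  have : Subsingleton ↥T.left := subsingleton_spec_field ((hR.pullback b).left.residueField r)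
  have e1 : AlgSp.dim XT = topologicalKrullDim ↥(m.left.fiber v) := by
    rw [dim_eq_atlas hXT a₃ (RepWith.mono (fun _ _ _ h => h.1) ha3) (RepWith.mono (fun _ _ _ h => h.2) ha3)]
    let s : ↥T.left := IsLocalRing.closedPoint ((hR.pullback b).left.residueField r)
    have hs : ι.left s = v := by
      rw [← hr2]
      show (j₀.left ≫ q.left) s = q.left r
      rw [Scheme.Hom.comp_apply]
      exact congrArg _ (Scheme.fromSpecResidueField_apply r s)
    refine (topologicalKrullDim_fiber_of_subsingleton (pullback.snd m.left ι.left) s).symm.trans ?_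
    rw [FlatMorDim.fiber_dim_baseChange (IsPullback.of_hasPullback m.left ι.left) s, hs]
  rw [← e1]
  have hXk : IsAlgSpace Xk := isAlgSpace_of_isPullback hY.diag hX (IsAlgSpace.yon_obj _) sq
  obtain ⟨W, w, hwe, hws⟩ := hXk.atlas
  obtain ⟨c, hc'⟩ := (yon S).map_surjective (w ≫ β)
  have : LocallyOfFiniteType c.left :=
    locP_of_isPullback etLocal_lft hX hY hXk sq hl w (𝟙 _) c hwe
      (repWith_id _ _) (by rw [Category.comp_id, hc'])
  let ρ : XT ⟶ Xk := sq.lift (pullback.fst _ _) (pullback.snd _ _ ≫ (yon S).map j) (by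
    rw [Category.assoc, ← hc]; exact sqT.w)
  have sqρ : IsPullback ρ (pullback.snd f ((yon S).map ι ≫ b)) β ((yon S).map j) :=
    IsPullback.of_right (h₁₂ := α) (by rw [sq.lift_fst]; exact hc ▸ sqT) (sq.lift_snd _ _ _) sq
  let W' : Over S := Over.mk (pullback.fst c.left j.left ≫ W.hom)
  let pW : W' ⟶ W := Over.homMk (pullback.fst c.left j.left)
  let qW : W' ⟶ T := Over.homMk (pullback.snd c.left j.left) (by
    show _ = pullback.fst c.left j.left ≫ W.hom
    rw [← Over.w c, ← Over.w j, ← Category.assoc, ← pullback.condition, Category.assoc])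
  have sqW : IsPullback pW qW c j :=
    IsPullback.of_map (Over.forget S) (Over.OverMorphism.ext pullback.condition)
      (IsPullback.of_hasPullback c.left j.left)
  have sqW' := sqW.map (yon S)
  rw [hc'] at sqW'
  let w' : (yon S).obj W' ⟶ XT := sqρ.lift ((yon S).map pW ≫ w) ((yon S).map qW)
    (by rw [Category.assoc]; exact sqW'.w)
  have sqw : IsPullback ((yon S).map pW) w' w ρ :=
    IsPullback.of_bot (by rw [sqρ.lift_snd]; exact sqW') (sqρ.lift_fst _ _ _).symm sqρ
  rw [dim_eq_atlas hXk w hwe hws,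
    dim_eq_atlas hXT w' (RepWith.baseChange sqw hwe) (RepWith.baseChange sqw hws)]
  obtain ⟨φ, hφ⟩ := Spec.map_surjective j.left
  show _ = topologicalKrullDim ↥(pullback c.left j.left)
  rw [← hφ]
  exact (topologicalKrullDim_pullback_field (k := k.K) (K := (hR.pullback b).left.residueField r) c.left φ).symm

/-- predicates on the fibre dimension, on a chart -/
theorem preimage_fibreDimSet (hX : IsAlgSpace X) (hY : IsAlgSpace Y) (f : X ⟶ Y) (hl : LocP @LocallyOfFiniteType f)
    {U V : Over S} (b : (yon S).obj V ⟶ Y) {ψ : (yon S).obj U ⟶ pullback f b} (hψe : RepWith @Etale ψ)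
    (hψs : RepWith @Surjective ψ) {m : U ⟶ V} [LocallyOfFiniteType m.left]
    (hm : ψ ≫ pullback.snd f b = (yon S).map m) (p : WithBot ℕ∞ → Prop) :
    Points.ofPt b ⁻¹' {y | ∀ k : FieldPt Y, Points.mk k = y →
      ∀ (Xk : Sp S) (fst : Xk ⟶ X) (snd : Xk ⟶ (yon S).obj k.pt), IsPullback fst snd f k.toHom → p (AlgSp.dim Xk)} =
      {v : ↥V.left | p (topologicalKrullDim ↥(m.left.fiber v))} := by
  ext v
  refine ⟨fun h => ?_, fun h k hk Xk fst snd sq => ?_⟩
  · have sq := IsPullback.of_hasPullback f (FieldPt.ofPt b v).toHom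
    show p _
    rw [← dim_fibre_eq hX hY f hl b hψe hψs hm v (FieldPt.ofPt b v) rfl sq]
    exact h _ rfl _ _ _ sq
  · rw [dim_fibre_eq hX hY f hl b hψe hψs hm v k hk sq]
    exact h

theorem dim_fibre_lt_top (hX : IsAlgSpace X) (hY : IsAlgSpace Y) (f : X ⟶ Y) (hl : LocP @LocallyOfFiniteType f)
    (hqc : IsQuasiCompactMor f) (k : FieldPt Y) {Xk : Sp S} {α : Xk ⟶ X} {β : Xk ⟶ (yon S).obj k.pt}
    (sq : IsPullback α β f k.toHom) : AlgSp.dim Xk < ((⊤ : ℕ∞) : WithBot ℕ∞) := by
  have hT := IsAlgSpace.yon_obj (S := S) k.pt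
  have hXk : IsAlgSpace Xk := isAlgSpace_of_isPullback hY.diag hX hT sq
  have : Subsingleton ↥k.pt.left := subsingleton_spec_field k.K
  have : IsAffine k.pt.left := inferInstanceAs (IsAffine (Spec (CommRingCat.of k.K)))
  have : CompactSpace (Points ((yon S).obj k.pt)) :=
    ⟨(Points.schemeEquiv k.pt).surjective.range_eq ▸ isCompact_range (Points.continuous_ofPt _)⟩
  have := compactSpace_points_of_isQuasiCompactSp
    (hqc hT ((isQuasiCompactSp_iff_compactSpace hT).2 this) k.toHom _ _ sq)
  obtain ⟨W, w, hW, hwe, hws⟩ := exists_affine_chart hXk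
  obtain ⟨c, hc'⟩ := (yon S).map_surjective (w ≫ β)
  have : LocallyOfFiniteType c.left :=
    locP_of_isPullback etLocal_lft hX hY hXk sq hl w (𝟙 _) c hwe
      (repWith_id _ _) (by rw [Category.comp_id, hc'])
  have : QuasiCompact c.left := inferInstance
  have : IsLocallyNoetherian k.pt.left := inferInstanceAs (IsLocallyNoetherian (Spec (CommRingCat.of k.K)))
  rw [dim_eq_atlas hXk w hwe hws]
  let t : ↥k.pt.left := IsLocalRing.closedPoint k.K
  rw [← topologicalKrullDim_fiber_of_subsingleton c.left t]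
  rcases isEmpty_or_nonempty ↥W.left with h | ⟨⟨x⟩⟩
  · rw [le_bot_iff.1 ((FlatMorDim.fiber_dim_le_bot_iff c.left t).2 fun ⟨x, _⟩ => h.elim x)]
    exact WithBot.bot_lt_coe _
  · obtain ⟨n, hn⟩ := EGA43.DimFormula.exists_fiber_dim_eq c.left t (x := x) (Subsingleton.elim _ _)
    rw [hn]
    exact WithBot.coe_lt_coe.2 (ENat.coe_lt_top n)

theorem exists_chart_fibreDim (hX : IsAlgSpace X) (hY : IsAlgSpace Y) (f : X ⟶ Y) :
    ∃ (U V : Over S) (b : (yon S).obj V ⟶ Y) (ψ : (yon S).obj U ⟶ pullback f b) (m : U ⟶ V),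
      RepWith @Etale b ∧ RepWith @Surjective b ∧ RepWith @Etale ψ ∧ RepWith @Surjective ψ ∧
        ψ ≫ pullback.snd f b = (yon S).map m := by
  obtain ⟨V, b, hbe, hbs⟩ := hY.atlas
  obtain ⟨U, ψ, hψe, hψs⟩ :=
    (isAlgSpace_of_isPullback hY.diag hX (IsAlgSpace.yon_obj V) (IsPullback.of_hasPullback f b)).atlas
  obtain ⟨m, hm⟩ := (yon S).map_surjective (ψ ≫ pullback.snd f b)
  exact ⟨U, V, b, ψ, m, hbe, hbs, hψe, hψs, hm.symm⟩

/-- images in a chart of the target of saturated closed subsets, for universally closed morphisms -/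
theorem isClosed_image_of_saturated (f : X ⟶ Y) (hc : IsUnivClosedMor f) {U V : Over S}
    (b : (yon S).obj V ⟶ Y) {ψ : (yon S).obj U ⟶ pullback f b} (hψe : RepWith @Etale ψ)
    (hψs : RepWith @Surjective ψ) {m : U ⟶ V} (hm : ψ ≫ pullback.snd f b = (yon S).map m)
    {Z : Set ↥U.left} (hZ : IsClosed Z)
    (hinv : ∀ {R : Scheme.{u}} (p q : R ⟶ U.left) [Etale p] [Etale q], p ≫ m.left = q ≫ m.left →
      ∀ r, p r ∈ Z → q r ∈ Z) :
    IsClosed (m.left '' Z) := by
  have hsat : Points.ofPt ψ ⁻¹' (Points.ofPt ψ '' Z) = Z := by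
    refine Set.Subset.antisymm ?_ (Set.subset_preimage_image _ _)
    rintro u ⟨u', hu', e⟩
    have sqR := hψe.1.isPullback' ψ
    obtain ⟨r, hr1, hr2⟩ := (ofPt_eq_ofPt_iff sqR u' u).1 e
    have : Etale (hψe.1.snd ψ).left := hψe.property_snd ψ
    have : Etale (hψe.1.fst' ψ).left := hψe.property _ _ _ sqR.flip
    have hcomp : (hψe.1.fst' ψ) ≫ m = (hψe.1.snd ψ) ≫ m := (yon S).map_injective (by
      rw [Functor.map_comp, Functor.map_comp, ← hm, ← Category.assoc, ← Category.assoc, sqR.w])
    rw [← hr2]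
    exact hinv _ _ ((congrArg (fun g => g.left) hcomp : _)) r (hr1.symm ▸ hu')
  have hqψ := (isOpenMap_ofPt ψ hψe).isQuotientMap (Points.continuous_ofPt ψ) (surjective_ofPt ψ hψs)
  have hclosed : IsClosed (Points.ofPt ψ '' Z) := hqψ.isClosed_preimage.1 (hsat.symm ▸ hZ)
  have hmap : IsClosed (Points.ofScheme V ⁻¹' (Points.map (pullback.snd f b) '' (Points.ofPt ψ '' Z))) :=
    (hc (IsAlgSpace.yon_obj (S := S) V) b (pullback.fst f b) (pullback.snd f b)
      (IsPullback.of_hasPullback f b) _ hclosed).preimage (Points.continuous_ofPt _)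
  have hh : ∀ u, Points.map (pullback.snd f b) (Points.ofPt ψ u) = Points.ofScheme V (m.left u) := fun u => by
    rw [Points.map_ofPt, hm, ← Category.comp_id ((yon S).map m), ofPt_map]
  convert hmap using 1
  ext v
  constructor
  · rintro ⟨u, hu, rfl⟩
    exact ⟨_, ⟨u, hu, rfl⟩, hh u⟩
  · rintro ⟨_, ⟨u, hu, rfl⟩, e⟩
    rw [hh] at e
    exact ⟨u, hu, (Points.schemeEquiv V).injective e⟩

theorem lt_natSucc_iff (x : WithBot ℕ∞) (n : ℕ) :
    x < (((n + 1 : ℕ) : ℕ∞) : WithBot ℕ∞) ↔ x ≤ ((n : ℕ∞) : WithBot ℕ∞) := by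
  induction x using WithBot.recBotCoe with
  | bot => simp
  | coe x =>
    rw [WithBot.coe_lt_coe, WithBot.coe_le_coe, Nat.cast_add, Nat.cast_one, ENat.lt_coe_add_one_iff]

theorem lt_zero_iff_le_bot (x : WithBot ℕ∞) : x < (((0 : ℕ) : ℕ∞) : WithBot ℕ∞) ↔ x ≤ ⊥ := by
  induction x using WithBot.recBotCoe with
  | bot => simp
  | coe x => simp

/-- closedness argument: the locus where the fibres of a universally closed lft morphism have dimension at most `c` -/
theorem isOpen_fiber_dim_le_of_univClosed (f : X ⟶ Y) (hc : IsUnivClosedMor f) {U V : Over S}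
    (b : (yon S).obj V ⟶ Y) {ψ : (yon S).obj U ⟶ pullback f b} (hψe : RepWith @Etale ψ)
    (hψs : RepWith @Surjective ψ) {m : U ⟶ V} [LocallyOfFiniteType m.left]
    (hm : ψ ≫ pullback.snd f b = (yon S).map m) (c : WithBot ℕ∞) :
    IsOpen {v : ↥V.left | topologicalKrullDim ↥(m.left.fiber v) ≤ c} := by
  induction c using WithBot.recBotCoe with
  | bot =>
    have h := isClosed_image_of_saturated f hc b hψe hψs hm isClosed_univ (fun _ _ _ _ _ _ _ => trivial)
    rw [Set.image_univ] at h
    simp only [FlatMorDim.fiber_dim_le_bot_iff]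
    exact h.isOpen_compl
  | coe c =>
    induction c using ENat.recTopCoe with
    | top => simp
    | coe n =>
      let Bad : Set ↥U.left := {u | FlatMor.fibreDimAt m.left u ≤ (n : WithBot ℕ∞)}ᶜ
      have hBad : IsClosed Bad := (FlatMorDim.isOpen_fibreDimAt_le m.left n).isClosed_compl
      have himg : IsClosed (m.left '' Bad) := isClosed_image_of_saturated f hc b hψe hψs hm hBad
        (fun p q _ _ e r hp hq => hp (by
          have h1 := fibreDimAt_eq_of_etale_square p (𝟙 V.left) (h' := p ≫ m.left) (Category.comp_id _).symm r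
          have h2 := fibreDimAt_eq_of_etale_square q (𝟙 V.left) (h' := p ≫ m.left)
            (by rw [Category.comp_id]; exact e.symm) r
          show FlatMor.fibreDimAt m.left (p r) ≤ _
          rw [h1, ← h2]
          exact hq))
      have : {v : ↥V.left | topologicalKrullDim ↥(m.left.fiber v) ≤ ((n : ℕ∞) : WithBot ℕ∞)} =
          (m.left '' Bad)ᶜ := by
        ext s
        simp only [Bad, Set.mem_ofPred_eq, Set.mem_compl_iff, Set.mem_image, not_exists, not_and]
        rw [show ((n : ℕ∞) : WithBot ℕ∞) = (n : WithBot ℕ∞) from rfl, FlatMorDim.fiber_dim_le_iff m.left s n]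
        constructor
        · intro h x hx hxs
          exact hx ((FlatMorDim.fibreDimAt_le_iff m.left x n).2 fun x' hx' _ => h x' (hx'.trans hxs))
        · intro h x hx
          refine FlatMorDim.trdegHom_le_of_fibreDimAt_le m.left x n (by_contra fun h' => h x h' hx)
      rw [this]
      exact himg.isOpen_compl

theorem isOpen_of_preimage_ofPt {V : Over S} (b : (yon S).obj V ⟶ Y) (hbe : RepWith @Etale b)
    (hbs : RepWith @Surjective b) {A : Set (Points Y)} (h : IsOpen (Points.ofPt b ⁻¹' A)) : IsOpen A :=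
  ((isOpenMap_ofPt b hbe).isQuotientMap (Points.continuous_ofPt b) (surjective_ofPt b hbs)).isOpen_preimage.1 h

theorem locP_lft_of_lfp {f : X ⟶ Y} (hp : LocP @LocallyOfFinitePresentation f) : LocP @LocallyOfFiniteType f :=
  fun _ _ a b h ha hb w => by
    have := hp a b h ha hb w
    infer_instance

/-- the fibre dimension of a flat lfp morphism is lower semicontinuous -/
theorem isOpen_lt_fibreDim (hX : IsAlgSpace X) (hY : IsAlgSpace Y) (f : X ⟶ Y) (hf : LocP @Flat f)
    (hp : LocP @LocallyOfFinitePresentation f) (d : WithBot ℕ∞) :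
    IsOpen {y | ∀ k : FieldPt Y, Points.mk k = y → ∀ (Xk : Sp S) (fst : Xk ⟶ X) (snd : Xk ⟶ (yon S).obj k.pt),
      IsPullback fst snd f k.toHom → d < AlgSp.dim Xk} := by
  obtain ⟨U, V, b, ψ, m, hbe, hbs, hψe, hψs, hm⟩ := exists_chart_fibreDim hX hY f
  obtain ⟨hae, haw⟩ := chart_of_baseChange f b hbe hψe hm
  have : Flat m.left := hf _ b m hae hbe haw
  have : LocallyOfFinitePresentation m.left := hp _ b m hae hbe haw
  refine isOpen_of_preimage_ofPt b hbe hbs ?_
  rw [preimage_fibreDimSet hX hY f (locP_lft_of_lfp hp) b hψe hψs hm (fun x => d < x)]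
  exact FlatMorDim.isOpen_lt_fiber_dim m.left d

/-- the fibre dimension of a proper morphism is upper semicontinuous -/
theorem isOpen_fibreDim_lt (hX : IsAlgSpace X) (hY : IsAlgSpace Y) (f : X ⟶ Y) (hl : LocP @LocallyOfFiniteType f)
    (hqc : IsQuasiCompactMor f) (hc : IsUnivClosedMor f) (d : WithBot ℕ∞) :
    IsOpen {y | ∀ k : FieldPt Y, Points.mk k = y → ∀ (Xk : Sp S) (fst : Xk ⟶ X) (snd : Xk ⟶ (yon S).obj k.pt),
      IsPullback fst snd f k.toHom → AlgSp.dim Xk < d} := by
  obtain ⟨U, V, b, ψ, m, hbe, hbs, hψe, hψs, hm⟩ := exists_chart_fibreDim hX hY f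
  obtain ⟨hae, haw⟩ := chart_of_baseChange f b hbe hψe hm
  have : LocallyOfFiniteType m.left := hl _ b m hae hbe haw
  induction d using WithBot.recBotCoe with
  | bot =>
    refine isOpen_of_preimage_ofPt b hbe hbs ?_
    rw [preimage_fibreDimSet hX hY f hl b hψe hψs hm (fun x => x < ⊥)]
    simp
  | coe d =>
    induction d using ENat.recTopCoe with
    | top =>
      convert isOpen_univ
      exact Set.eq_univ_of_forall fun y k _ Xk _ _ sq => dim_fibre_lt_top hX hY f hl hqc k sq
    | coe n =>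
      refine isOpen_of_preimage_ofPt b hbe hbs ?_
      rw [preimage_fibreDimSet hX hY f hl b hψe hψs hm (fun x => x < ((n : ℕ∞) : WithBot ℕ∞))]
      rcases n with _ | n
      · simp only [lt_zero_iff_le_bot]
        exact isOpen_fiber_dim_le_of_univClosed f hc b hψe hψs hm ⊥
      · simp only [lt_natSucc_iff]
        exact isOpen_fiber_dim_le_of_univClosed f hc b hψe hψs hm _

theorem isOpen_fibreDim_eq (hX : IsAlgSpace X) (hY : IsAlgSpace Y) (f : X ⟶ Y) (hf : LocP @Flat f)
    (hp : LocP @LocallyOfFinitePresentation f) (hqc : IsQuasiCompactMor f) (hc : IsUnivClosedMor f)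
    (d : WithBot ℕ∞) :
    IsOpen {y | ∀ k : FieldPt Y, Points.mk k = y → ∀ (Xk : Sp S) (fst : Xk ⟶ X) (snd : Xk ⟶ (yon S).obj k.pt),
      IsPullback fst snd f k.toHom → AlgSp.dim Xk = d} := by
  obtain ⟨U, V, b, ψ, m, hbe, hbs, hψe, hψs, hm⟩ := exists_chart_fibreDim hX hY f
  obtain ⟨hae, haw⟩ := chart_of_baseChange f b hbe hψe hm
  have : Flat m.left := hf _ b m hae hbe haw
  have : LocallyOfFinitePresentation m.left := hp _ b m hae hbe haw
  have hl := locP_lft_of_lfp hp
  refine isOpen_of_preimage_ofPt b hbe hbs ?_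
  rw [preimage_fibreDimSet hX hY f hl b hψe hψs hm (fun x => x = d)]
  induction d using WithBot.recBotCoe with
  | bot =>
    simp only [← le_bot_iff]
    exact isOpen_fiber_dim_le_of_univClosed f hc b hψe hψs hm ⊥
  | coe d =>
    induction d using ENat.recTopCoe with
    | top =>
      convert isOpen_empty
      refine Set.eq_empty_of_forall_notMem fun v hv => ?_
      have sq := IsPullback.of_hasPullback f (FieldPt.ofPt b v).toHom
      have h := dim_fibre_lt_top hX hY f hl hqc (FieldPt.ofPt b v) sq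
      rw [dim_fibre_eq hX hY f hl b hψe hψs hm v _ rfl sq] at h
      exact h.ne hv
    | coe n =>
      have : {v : ↥V.left | topologicalKrullDim ↥(m.left.fiber v) = ((n : ℕ∞) : WithBot ℕ∞)} =
          {v | topologicalKrullDim ↥(m.left.fiber v) ≤ ((n : ℕ∞) : WithBot ℕ∞)} \
            {v | topologicalKrullDim ↥(m.left.fiber v) < ((n : ℕ∞) : WithBot ℕ∞)} := by
        ext v
        exact ⟨fun h => ⟨h.le, fun h' => h'.ne h⟩, fun h => le_antisymm h.1 (not_lt.1 h.2)⟩
      rw [this]
      refine (isOpen_fiber_dim_le_of_univClosed f hc b hψe hψs hm _).inter ?_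
      rcases n with _ | n
      · convert FlatMorDim.isOpen_lt_fiber_dim m.left ⊥ using 1
        ext v
        exact (not_congr (lt_zero_iff_le_bot _)).trans not_le
      · convert FlatMorDim.isOpen_lt_fiber_dim m.left ((n : ℕ∞) : WithBot ℕ∞) using 1
        ext v
        exact (not_congr (lt_natSucc_iff _ _)).trans not_le

end Groth.Agent.AlgSpLib
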