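import Groth.Agent.FlatMorDegree.Levels
import Groth.Agent.AlgSpLib.MonoLft

/-!
Fibre degrees of etale morphisms of affine schemes: base change, boundedness, compactness.
-/

universe u

open CategoryTheory Limits AlgebraicGeometry TopologicalSpace Topology
open Groth.Agent.FlatMorDegree Groth.Agent.H8ProCons

namespace Groth.Agent.AlgSpLib.ThickDeg

set_option backward.isDefEq.respectTransparency false

theorem degGE_of_isPullback {P X T S : Scheme.{u}} {p : P ⟶ X} {q : P ⟶ T} {f : X ⟶ S} {g : T ⟶ S}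
    (h : IsPullback p q f g) [IsSeparated f] [LocallyQuasiFinite f] [LocallyOfFiniteType f]
    [IsSeparated q] [LocallyQuasiFinite q] [LocallyOfFiniteType q] (t : T) (d : ℕ) :
    degGE q t d ↔ degGE f (g t) d := by
  have hsq := (IsPullback.of_hasPullback q (T.fromSpecResidueField t)).paste_horiz h
  have e : (T.fromSpecResidueField t ≫ g) (IsLocalRing.closedPoint (T.residueField t)) = g t := by
    rw [Scheme.Hom.comp_apply, Scheme.fromSpecResidueField_apply]
  have h' : ∀ y, (T.fromSpecResidueField t ≫ g) (IsLocalRing.closedPoint (T.residueField t)) = y →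
      (degGE q t d ↔ degGE f y d) := by
    rintro _ rfl
    exact ge_fibre (L := T.residueField t) f hsq d
  exact h' _ e

theorem exists_finset_cover {X : Scheme.{u}} [IsAffine X] {ι : Type u} (E : ι → Set X)
    (hE : ∀ i, ProCons.IsIndConstructible (E i)) (hc : ∀ x, ∃ i, x ∈ E i) :
    ∃ s : Finset ι, ∀ x, ∃ i ∈ s, x ∈ E i := by
  have hW : IsAffineOpen (⊤ : X.Opens) := isAffineOpen_top X
  have := quasiSeparatedSpace_of_isAffineOpen hW
  have := compactSpace_opens hW.isCompact
  have ho : ∀ i, IsOpen (WithTopology.ofTopology (t := constructibleTopology ((⊤ : X.Opens) : Set X)) ⁻¹'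
      (Subtype.val ⁻¹' E i)) := fun i =>
    WithTopology.isOpen_iff _ |>.2 (isOpen_cons_of_isIndConstructible (hE i) hW)
  obtain ⟨s, hs⟩ := isCompact_univ.elim_finite_subcover _ ho (fun y _ => by
    obtain ⟨i, hi⟩ := hc (WithTopology.ofTopology y).1
    exact Set.mem_iUnion.2 ⟨i, hi⟩)
  refine ⟨s, fun x => ?_⟩
  simpa using hs (Set.mem_univ (WithTopology.toTopology _ (⟨x, trivial⟩ : ((⊤ : X.Opens) : Set X))))

variable {X S : Scheme.{u}} (f : X ⟶ S) [IsAffine X] [IsAffine S] [Etale f]

instance (priority := low) lqf_etale {X S : Scheme.{u}} (f : X ⟶ S) [Etale f] : LocallyQuasiFinite f :=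
  lqf_of_unramified f

theorem exists_nhd (s : S) :
    ∃ F, ProCons.IsIndConstructible F ∧ s ∈ F ∧ ∀ t ∈ F, ∀ d, degGE f t d ↔ degGE f s d := by
  obtain ⟨F, hF, hs, he⟩ := exists_indConstructible_nhd f s
  refine ⟨F, hF, hs, fun t ht d => ?_⟩
  obtain ⟨n, hn⟩ := exists_not_degGE f t
  obtain ⟨m, hm⟩ := exists_not_degGE f s
  rw [degGE_iff_le_deg f hn, degGE_iff_le_deg f hm, he t ht]

theorem exists_bound : ∃ n, ∀ s, ¬ degGE f s (n + 1) := by
  choose F hF hs he using exists_nhd f
  choose n hn using exists_not_degGE f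
  obtain ⟨σ, hσ⟩ := exists_finset_cover F hF fun x => ⟨x, hs x⟩
  refine ⟨σ.sup n, fun s h => ?_⟩
  obtain ⟨i, hi, hsi⟩ := hσ s
  exact hn i (degGE_antitone f (by have := Finset.le_sup (f := n) hi; omega) ((he i s hsi _).1 h))

theorem isIndConstructible_not_degGE (d : ℕ) : ProCons.IsIndConstructible {s : S | ¬ degGE f s d} :=
  FlatMorWeight.isIndConstructible_of_forall_subset fun s hs => by
    obtain ⟨F, hF, hsF, he⟩ := exists_nhd f s
    exact ⟨F, hF, hsF, fun t ht h => hs ((he t ht d).1 h)⟩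

end Groth.Agent.AlgSpLib.ThickDeg
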