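import Groth.Agent.AlgSpLib.LimitChart
import Groth.Agent.AlgSpLib.EtLocalInst
import Groth.Agent.AlgSpLib.Filtration

/-!
# Descent of properties of morphisms of algebraic spaces along limits, through charts of the source
-/

universe u

set_option autoImplicit false
set_option backward.isDefEq.respectTransparency.types false

open CategoryTheory CategoryTheory.Limits AlgebraicGeometry Opposite AlgSp

namespace Groth.Agent.AlgSpLib

variable {S : Scheme.{u}}

/-- A sheaf representable over an algebraic space is an algebraic space. -/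
theorem isAlgSpace_of_representable {F G : Sp S} (hG : IsAlgSpace G) {p : F ⟶ G}
    (hp : Representable p) : IsAlgSpace F := by
  have hd : Representable (Limits.diag F) := representable_diag_iff.2 fun U g => by
    let P := hp.pullback (g ≫ p)
    have sq := hp.isPullback (g ≫ p)
    let s : (yon S).obj U ⟶ (yon S).obj P := sq.lift g (𝟙 _) (Category.id_comp _).symm
    have hs : Representable s := by
      rw [← (yon S).map_preimage s]
      exact representable_yon_map _
    have hf : Representable (hp.fst (g ≫ p)) := fun T t =>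
      (representable_diag_iff.1 hG.diag (g ≫ p)) |> fun h =>
        (MorphismProperty.of_isPullback (P := (yon S).relativelyRepresentable) sq.flip h) t
    have e : g = s ≫ hp.fst (g ≫ p) := (sq.lift_fst _ _ _).symm
    rw [e]
    exact MorphismProperty.comp_mem _ _ _ hs hf
  obtain ⟨V, v, hve, hvs⟩ := hG.atlas
  have sq := hp.isPullback v
  exact isAlgSpace_of_atlas_sheaf hd (hp.fst v) (Iso.refl _)
    (RepWith.baseChange sq.flip hve) (RepWith.baseChange sq.flip hvs)

/-- Morphisms from affine schemes to quasi-separated spaces are quasi-separated. -/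
theorem repWith_qs_chart [QuasiSeparatedSpace ↥S] {X : Sp S} (hX : IsAlgSpace X)
    (hs : IsQuasiSeparatedSp X) {U : Over S} [IsAffine U.left] (a : (yon S).obj U ⟶ X)
    {V : Over S} [IsAffine V.left] (v : (yon S).obj V ⟶ X) (hve : RepWith @Etale v)
    (hvs : RepWith @Surjective v) : RepWith @QuasiSeparated a := by
  have hr := hX.representable_from_yon a
  have sq := hr.isPullback' v
  let l : (hr.pullback v).left ⟶ pullback U.hom V.hom :=
    pullback.lift (hr.fst' v).left (hr.snd v).left (by rw [Over.w, Over.w])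
  have : Mono l := ⟨fun {T} p q h => by
    have h1 : p ≫ (hr.fst' v).left = q ≫ (hr.fst' v).left := by
      simpa [l, pullback.lift_fst, pullback.lift_snd] using congrArg (· ≫ pullback.fst U.hom V.hom) h
    have h2 : p ≫ (hr.snd v).left = q ≫ (hr.snd v).left := by
      simpa [l, pullback.lift_fst, pullback.lift_snd] using congrArg (· ≫ pullback.snd U.hom V.hom) h
    have hw : q ≫ (hr.pullback v).hom = p ≫ (hr.pullback v).hom := by
      rw [← Over.w (hr.fst' v), ← Category.assoc, ← h1, Category.assoc]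
    let T' : Over S := Over.mk (p ≫ (hr.pullback v).hom)
    let p' : T' ⟶ hr.pullback v := Over.homMk p rfl
    let q' : T' ⟶ hr.pullback v := Over.homMk q hw
    have e : p' = q' := by
      apply hr.hom_ext'
      · exact Over.OverMorphism.ext h1
      · exact Over.OverMorphism.ext h2
    exact congrArg (fun m : T' ⟶ hr.pullback v => m.left) e⟩
  have : QuasiSeparatedSpace ↥(pullback U.hom V.hom) :=
    quasiSeparatedSpace_of_quasiSeparated (pullback.fst U.hom V.hom)
  have : QuasiSeparatedSpace ↥(hr.pullback v).left := quasiSeparatedSpace_of_quasiSeparated l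
  have : QuasiSeparated (hr.snd v).left :=
    QuasiSeparated.of_quasiSeparatedSpace (hr.snd v).left
  have := isLocallySurjective_of_etale hve hvs
  exact repWith_of_isLocallySurjective hr v sq @QuasiSeparated
    ((repWith_yon_map_iff @QuasiSeparated _).2 inferInstance)

variable {I : Type u} [SmallCategory I] [IsCofiltered I] (D : I ⥤ Sp S) {i₀ : I}

/-- The projections from a limit with affine transition maps are affine. -/
theorem isAffineMor_π (hDa : ∀ (i j : I) (φ : i ⟶ j), IsAffineMor (D.map φ)) (c : Cone D)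
    (hc : IsLimit c) (i : I) : IsAffineMor (c.π.app i) := by
  intro Z hZ g
  obtain ⟨E, e, haff⟩ := exists_scheme_system D hDa g
  let E' : Over i ⥤ Scheme.{u} := E ⋙ Over.forget S
  have haff' : ∀ {j k : Over i} (f : j ⟶ k), IsAffineHom (E'.map f) := fun f => haff f
  have : HasLimit E' := H8Lim.hasLimit_of_affine_transition E'
  have := CategoryTheory.isConnected_of_hasTerminal (C := Over i)
  have : HasLimit E := hasLimit_of_created E (Over.forget S)
  have hobj : ∀ j : Over i, IsAffine (E'.obj j) := fun j => by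
    obtain ⟨W, w, fst, sq, hW⟩ := hDa _ _ j.hom hZ g
    let κ : E.obj j ≅ W := (yon S).preimageIso (e.app j ≪≫ sq.flip.isoPullback.symm)
    have : IsIso κ.hom.left := ((Over.forget S).mapIso κ).isIso_hom
    exact @IsAffine.of_isIso _ _ κ.hom.left this hW
  have hlimV : IsLimit ((Cone.postcompose e.hom).obj ((yon S).mapCone (limit.cone E))) :=
    (IsLimit.postcomposeHomEquiv e _).symm (isLimitOfPreserves (yon S) (limit.isLimit E))
  let ρ := hlimV.conePointUniqueUpToIso (isLimit_spStageCone D g c hc).some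
  obtain ⟨w, hw⟩ := (yon S).map_surjective (ρ.hom ≫ pullback.fst g (c.π.app i))
  refine ⟨(limit.cone E).pt, w, ρ.hom ≫ pullback.snd g (c.π.app i), ?_, ?_⟩
  · rw [hw]
    exact (IsPullback.of_hasPullback g (c.π.app i)).flip.of_iso ρ.symm (Iso.refl _) (Iso.refl _)
      (Iso.refl _) (by simp [spStageCone]) (by simp [spStageCone]) (by simp) (by simp)
  · exact Scheme.isAffine_of_isLimit _ (isLimitOfPreserves (Over.forget S) (limit.isLimit E))

/-- Limits of algebraic spaces with affine transition maps are algebraic spaces. -/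
theorem isAlgSpace_limit (hD : ∀ i, IsAlgSpace (D.obj i))
    (hDa : ∀ (i j : I) (φ : i ⟶ j), IsAffineMor (D.map φ)) (c : Cone D) (hc : IsLimit c) :
    IsAlgSpace c.pt := by
  obtain ⟨i⟩ := IsCofiltered.nonempty (C := I)
  exact isAlgSpace_of_representable (hD i)
    ((isAffineMor_iff_repWith _).1 (isAffineMor_π D hDa c hc i)).1

/-- Descent along a limit of a property read on an affine chart of the source. -/
theorem exists_stage_source_chart [QuasiSeparatedSpace ↥S]
    (hDa : ∀ (i j : I) (φ : i ⟶ j), IsAffineMor (D.map φ)) (c : Cone D) (hc : IsLimit c)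
    {Q P : MorphismProperty Scheme.{u}} [Q.RespectsIso]
    [P.IsStableUnderBaseChange] [P.IsLocalAtTarget Scheme.fppfPrecoverage]
    (hdesc : EGA43.Limit.Descends Q P) {X₀ Y₀ : Sp S} (hX₀ : IsAlgSpace X₀) (hY₀ : IsAlgSpace Y₀)
    (hXqc : IsQuasiCompactSp X₀) (hYqc : IsQuasiCompactSp Y₀) (hYqs : IsQuasiSeparatedSp Y₀)
    (f₀ : X₀ ⟶ Y₀) (b₀ : Y₀ ⟶ D.obj i₀)
    (hQ : ∀ {U : Over S} (a : (yon S).obj U ⟶ X₀), RepWith @Etale a → RepWith Q (a ≫ f₀))
    {X Y : Sp S} (f : X ⟶ Y) (pY : Y ⟶ Y₀) (qY : Y ⟶ c.pt)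
    (hY : IsPullback pY qY b₀ (c.π.app i₀)) (pX : X ⟶ X₀) (hX : IsPullback pX f f₀ pY)
    (hXa : IsAlgSpace X)
    (hP : ∀ {U' : Sp S} (a' : U' ⟶ X), IsAlgSpace U' → RepWith @Etale a' → RepWith @Surjective a' →
      Representable (a' ≫ f) → RepWith P (a' ≫ f)) :
    ∃ (i : I) (φ : i ⟶ i₀), ∀ (Xi Yi : Sp S) (fi : Xi ⟶ Yi) (pYi : Yi ⟶ Y₀) (qYi : Yi ⟶ D.obj i)
      (_ : IsPullback pYi qYi b₀ (D.map φ)) (pXi : Xi ⟶ X₀) (_ : IsPullback pXi fi f₀ pYi),
      ∃ (Ui : Sp S) (ai : Ui ⟶ Xi), (IsAlgSpace Xi → IsAlgSpace Ui) ∧ RepWith @Etale ai ∧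
        RepWith @Surjective ai ∧ RepWith P (ai ≫ fi) := by
  have := (isQuasiCompactSp_iff_compactSpace hX₀).1 hXqc
  have := (isQuasiCompactSp_iff_compactSpace hY₀).1 hYqc
  obtain ⟨U, a, hU, hae, has⟩ := exists_affine_chart hX₀
  obtain ⟨V, v, hV, hve, hvs⟩ := exists_affine_chart hY₀
  have sqU : IsPullback (pullback.fst a pX) (pullback.snd a pX) a pX := IsPullback.of_hasPullback _ _
  have hg := sqU.paste_vert hX
  have hrep : Representable (pullback.snd a pX ≫ f) :=
    (RepWith.baseChange hg (hQ a hae)).1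
  obtain ⟨i, φ, hi⟩ := exists_stage_of_descends D hDa c hc hdesc (a ≫ f₀) b₀ v hve hvs (hQ a hae)
    (repWith_qc_chart hY₀ hYqs _) (repWith_qs_chart hY₀ hYqs _ v hve hvs)
    (pullback.snd a pX ≫ f) pY qY hY (pullback.fst a pX) hg
    (hP _ (isAlgSpace_of_isPullback hX₀.diag (IsAlgSpace.yon_obj U) hXa sqU)
      (RepWith.baseChange sqU hae) (RepWith.baseChange sqU has) hrep)
  refine ⟨i, φ, fun Xi Yi fi pYi qYi hYi pXi hXi => ?_⟩
  have sqi : IsPullback (pullback.fst a pXi) (pullback.snd a pXi) a pXi :=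
    IsPullback.of_hasPullback _ _
  exact ⟨_, pullback.snd a pXi,
    fun h => isAlgSpace_of_isPullback hX₀.diag (IsAlgSpace.yon_obj U) h sqi,
    RepWith.baseChange sqi hae, RepWith.baseChange sqi has,
    hi _ _ _ pYi qYi hYi (pullback.fst a pXi) (sqi.paste_vert hXi)⟩

/-- Descent along a limit of a property local on source and target. -/
theorem exists_stage_locP [QuasiSeparatedSpace ↥S]
    (hD : ∀ i, IsAlgSpace (D.obj i))
    (hDa : ∀ (i j : I) (φ : i ⟶ j), IsAffineMor (D.map φ)) (c : Cone D) (hc : IsLimit c)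
    {P : MorphismProperty Scheme.{u}} (hPl : EtLocal P)
    (hdesc : EGA43.Limit.Descends @LocallyOfFinitePresentation P) {X₀ Y₀ : Space S}
    (hXqc : IsQuasiCompactSp X₀.obj) (hYqc : IsQuasiCompactSp Y₀.obj)
    (hYqs : IsQuasiSeparatedSp Y₀.obj)
    (f₀ : X₀.obj ⟶ Y₀.obj) (b₀ : Y₀.obj ⟶ D.obj i₀) (hf₀ : LocP @LocallyOfFinitePresentation f₀)
    {X Y : Sp S} (f : X ⟶ Y) (pY : Y ⟶ Y₀.obj) (qY : Y ⟶ c.pt)
    (hY : IsPullback pY qY b₀ (c.π.app i₀)) (pX : X ⟶ X₀.obj) (hX : IsPullback pX f f₀ pY)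
    (hf : LocP P f) :
    ∃ (i : I) (φ : i ⟶ i₀), ∀ (Xi Yi : Sp S) (fi : Xi ⟶ Yi) (pYi : Yi ⟶ Y₀.obj) (qYi : Yi ⟶ D.obj i)
      (_ : IsPullback pYi qYi b₀ (D.map φ)) (pXi : Xi ⟶ X₀.obj) (_ : IsPullback pXi fi f₀ pYi),
      LocP P fi := by
  have := hPl.bc
  have := hPl.comp
  have := hPl.localTarget
  have hcalg := isAlgSpace_limit D hD hDa c hc
  have hYa : IsAlgSpace Y := isAlgSpace_of_isPullback (hD i₀).diag Y₀.property hcalg hY
  have hXa : IsAlgSpace X := isAlgSpace_of_isPullback Y₀.property.diag X₀.property hYa hX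
  obtain ⟨i, φ, hi⟩ := exists_stage_source_chart D hDa c hc hdesc X₀.property Y₀.property hXqc hYqc
    hYqs f₀ b₀ (fun a ha => repWith_comp_of_locP etLocal_lfp Y₀.property hf₀ a ha) f pY qY hY pX hX hXa
    (fun {U'} a' hU' ha' _ hr => by
      exact (repWith_iff_locP hPl hU' hYa hr).2
        (locP_comp hPl hU' hXa hYa (locP_of_repWith hPl hU' (RepWith.mono hPl.of_etale ha')) hf))
  refine ⟨i, φ, fun Xi Yi fi pYi qYi hYi pXi hXi => ?_⟩
  have hYia : IsAlgSpace Yi := isAlgSpace_of_isPullback (hD i₀).diag Y₀.property (hD i) hYi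
  have hXia : IsAlgSpace Xi := isAlgSpace_of_isPullback Y₀.property.diag X₀.property hYia hXi
  obtain ⟨Ui, ai, hUi, haie, hais, hP⟩ := hi Xi Yi fi pYi qYi hYi pXi hXi
  obtain ⟨W, w, hwe, hws⟩ := (hUi hXia).atlas
  refine locP_of_atlas hPl hXia (w ≫ ai) (RepWith.comp hwe haie) (RepWith.comp hws hais) ?_
  rw [Category.assoc]
  exact RepWith.comp (RepWith.mono hPl.of_etale hwe) hP

end Groth.Agent.AlgSpLib
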