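import Groth.Agent.EGA43.Limit.Properties
import Groth.Agent.LimSmooth.Scheme
import Groth.Agent.H8Lim.FlatDescent

/-!
# Properties of morphisms of schemes descending along limits
-/

universe u

set_option autoImplicit false
set_option backward.isDefEq.respectTransparency.types false

open CategoryTheory CategoryTheory.Limits AlgebraicGeometry

namespace Groth.Agent.AlgSpLib

theorem descends_of_affineSpreads {P : MorphismProperty Scheme.{u}} [P.IsStableUnderBaseChange]
    [P.IsStableUnderComposition] [IsZariskiLocalAtSource P]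
    (hA : LimSmooth.AffineSpreads P)
    (hιP : ∀ {A B : Scheme.{u}} (ι : A ⟶ B) [IsOpenImmersion ι], P ι) :
    EGA43.Limit.Descends @LocallyOfFinitePresentation P := by
  intro I _ _ D c hc _ i₀ _ _ X₀ f₀ _ _ hQ X p f sq hf
  have := hQ
  have : CompactSpace X₀ := QuasiCompact.compactSpace_of_compactSpace f₀
  have hY : IsPullback (c.π.app i₀) (𝟙 c.pt) (𝟙 (D.obj i₀)) (c.π.app i₀) :=
    IsPullback.id_vert _
  obtain ⟨j, φ, Xj, Yj, fj, gj, pY, pX, hYj, hXj, hP⟩ := LimSmooth.exists_stage hc hY sq hA hιP hf
  have : IsIso gj := hYj.isIso_snd_of_isIso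
  have h := hXj.paste_vert hYj
  rw [Category.comp_id] at h
  exact ⟨j, φ, H8Lim.prop_snd_of_isPullback h ((P.cancel_right_of_respectsIso fj gj).2 hP)⟩

theorem limDescends_smooth : EGA43.Limit.Descends.{u} @LocallyOfFinitePresentation @Smooth :=
  descends_of_affineSpreads LimSmooth.affineSpreads_smooth fun _ _ => inferInstance

theorem limDescends_etale : EGA43.Limit.Descends.{u} @LocallyOfFinitePresentation @Etale :=
  descends_of_affineSpreads LimSmooth.affineSpreads_etale fun _ _ => inferInstance

theorem limDescends_flat : EGA43.Limit.Descends.{u} @LocallyOfFinitePresentation @Flat :=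
  descends_of_affineSpreads H8Lim.affineSpreads_flat fun _ _ => inferInstance

end Groth.Agent.AlgSpLib
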