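import Groth.Agent.AlgSpLib.LimitDescend
import Groth.Agent.AlgSpLib.LimitDescendsSch
import Groth.Agent.AlgSpLib.MorMore

/-!
# Descent along limits of properties of diagonals
-/

universe u

set_option autoImplicit false
set_option backward.isDefEq.respectTransparency.types false

open CategoryTheory CategoryTheory.Limits AlgebraicGeometry Opposite AlgSp

namespace Groth.Agent.AlgSpLib

attribute [local simp] pullback.lift_fst pullback.lift_snd pullback.lift_fst_assoc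
  pullback.lift_snd_assoc pullback.map

variable {S : Scheme.{u}} {I : Type u} [SmallCategory I] [IsCofiltered I] (D : I ⥤ Sp S) {i₀ : I}

set_option maxHeartbeats 800000 in
/-- A chart of `X₀ ×_{Y₀} X₀` by a quasi-compact quasi-separated scheme, reading the diagonal. -/
theorem exists_diag_chart [QuasiSeparatedSpace ↥S] {X₀ Y₀ : Sp S} (hX₀ : IsAlgSpace X₀)
    (hY₀ : IsAlgSpace Y₀) (hXqc : IsQuasiCompactSp X₀) (hXqs : IsQuasiSeparatedSp X₀)
    (hYqc : IsQuasiCompactSp Y₀) (hYqs : IsQuasiSeparatedSp Y₀) (f₀ : X₀ ⟶ Y₀) :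
    ∃ (W : Over S) (w : (yon S).obj W ⟶ pullback f₀ f₀), RepWith @Etale w ∧ RepWith @Surjective w ∧
      CompactSpace W.left ∧ QuasiSeparatedSpace W.left ∧
      RepWith @QuasiCompact (pullback.diagonal f₀) ∧ RepWith @QuasiSeparated (pullback.diagonal f₀) ∧
      (LocP @LocallyOfFiniteType f₀ → RepWith @LocallyOfFinitePresentation (pullback.diagonal f₀)) := by
  have := (isQuasiCompactSp_iff_compactSpace hX₀).1 hXqc
  have := (isQuasiCompactSp_iff_compactSpace hY₀).1 hYqc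
  obtain ⟨U, a, hU, hae, has⟩ := exists_affine_chart hX₀
  obtain ⟨V, v, hV, hve, hvs⟩ := exists_affine_chart hY₀
  have hr := hY₀.representable_from_yon (a ≫ f₀)
  let W : Over S := hr.pullback (a ≫ f₀)
  let q₁ : W ⟶ U := hr.fst' (a ≫ f₀)
  let q₂ : W ⟶ U := hr.snd (a ≫ f₀)
  have sqW : IsPullback ((yon S).map q₁) ((yon S).map q₂) (a ≫ f₀) (a ≫ f₀) :=
    hr.isPullback' (a ≫ f₀)
  have hqc : RepWith @QuasiCompact (a ≫ f₀) := repWith_qc_chart hY₀ hYqs _
  have hqs : RepWith @QuasiSeparated (a ≫ f₀) := repWith_qs_chart hY₀ hYqs _ v hve hvs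
  have : QuasiCompact q₂.left := hqc.2 _ _ _ sqW
  have : QuasiSeparated q₂.left := hqs.2 _ _ _ sqW
  have : CompactSpace W.left := QuasiCompact.compactSpace_of_compactSpace q₂.left
  have : QuasiSeparatedSpace W.left := quasiSeparatedSpace_of_quasiSeparated q₂.left
  let w : (yon S).obj W ⟶ pullback f₀ f₀ := pullback.lift ((yon S).map q₁ ≫ a)
    ((yon S).map q₂ ≫ a) (by simpa using sqW.w)
  -- the chart as a composite of two base changes of `a`
  have sq₁ : IsPullback (pullback.fst (a ≫ f₀) f₀)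
      (pullback.map (a ≫ f₀) f₀ f₀ f₀ a (𝟙 _) (𝟙 _) (by simp) (by simp)) a (pullback.fst f₀ f₀) := by
    refine IsPullback.of_bot ?_ (by simp) (IsPullback.of_hasPullback f₀ f₀).flip.flip |>.flip.flip
    simpa using IsPullback.of_hasPullback (a ≫ f₀) f₀
  let k : (yon S).obj W ⟶ pullback (a ≫ f₀) f₀ :=
    pullback.lift ((yon S).map q₁) ((yon S).map q₂ ≫ a) (by simpa using sqW.w)
  have sq₂ : IsPullback ((yon S).map q₂) k a (pullback.snd (a ≫ f₀) f₀) := by
    refine IsPullback.of_bot ?_ (by simp [k]) (IsPullback.of_hasPullback (a ≫ f₀) f₀).flip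
    simpa [k] using sqW.flip
  have hw : w = k ≫ pullback.map (a ≫ f₀) f₀ f₀ f₀ a (𝟙 _) (𝟙 _) (by simp) (by simp) := by
    apply pullback.hom_ext <;> simp [w, k]
  have hwe : RepWith @Etale w := by
    rw [hw]
    exact RepWith.comp (RepWith.baseChange sq₂ hae) (RepWith.baseChange sq₁ hae)
  have hws : RepWith @Surjective w := by
    rw [hw]
    exact RepWith.comp (RepWith.baseChange sq₂ has) (RepWith.baseChange sq₁ has)
  -- the diagonal on this chart
  have hd : Representable (pullback.diagonal f₀) := representable_diagonal hX₀ f₀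
  have sqd := hd.isPullback w
  let R : Over S := hd.pullback w
  let d : R ⟶ W := hd.snd w
  have e₁ : (yon S).map (d ≫ q₁) ≫ a = hd.fst w := by
    have := congrArg (· ≫ pullback.fst f₀ f₀) sqd.w
    simp [w] at this
    simp [d, this]
  have e₂ : (yon S).map (d ≫ q₂) ≫ a = hd.fst w := by
    have := congrArg (· ≫ pullback.snd f₀ f₀) sqd.w
    simp [w] at this
    simp [d, this]
  have sqR : IsPullback ((yon S).map (d ≫ q₁)) ((yon S).map (d ≫ q₂)) a a := by
    refine ⟨⟨e₁.trans e₂.symm⟩, ⟨PullbackCone.IsLimit.mk _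
      (fun s => sqd.lift (s.fst ≫ a) (sqW.lift s.fst s.snd (by simp [reassoc_of% s.condition])) ?_)
      (fun s => ?_) (fun s => ?_) ?_⟩⟩
    · apply pullback.hom_ext
      · simp only [w, Category.assoc, pullback.lift_fst, pullback.diagonal_fst, Category.comp_id]
        rw [IsPullback.lift_fst_assoc]
      · simp only [w, Category.assoc, pullback.lift_snd, pullback.diagonal_snd, Category.comp_id]
        rw [IsPullback.lift_snd_assoc, s.condition]
    · simp [d]
    · simp [d]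
    · intro s m h1 h2
      apply sqd.hom_ext
      · rw [IsPullback.lift_fst, ← e₁, ← Category.assoc, h1]
      · rw [IsPullback.lift_snd]
        apply sqW.hom_ext <;> simp [← h1, ← h2, d]
  have hR₁ : QuasiCompact (d ≫ q₁).left :=
    (repWith_qc_chart hX₀ hXqs a).2 _ _ _ sqR.flip
  have hR₂ : Etale (d ≫ q₁).left := hae.2 _ _ _ sqR.flip
  have hR₃ : QuasiSeparated (d ≫ q₁).left :=
    (repWith_qs_chart hX₀ hXqs a a hae has).2 _ _ _ sqR.flip
  have : CompactSpace R.left := QuasiCompact.compactSpace_of_compactSpace (d ≫ q₁).left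
  have : QuasiSeparatedSpace R.left := quasiSeparatedSpace_of_quasiSeparated (d ≫ q₁).left
  have := isLocallySurjective_of_etale hwe hws
  refine ⟨W, w, hwe, hws, inferInstance, inferInstance, ?_, ?_, fun hf₀ => ?_⟩
  · exact repWith_of_isLocallySurjective hd w sqd @QuasiCompact
      ((repWith_yon_map_iff @QuasiCompact _).2 (quasiCompact_of_compactSpace d.left))
  · exact repWith_of_isLocallySurjective hd w sqd @QuasiSeparated
      ((repWith_yon_map_iff @QuasiSeparated _).2 (QuasiSeparated.of_quasiSeparatedSpace d.left))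
  · have : LocallyOfFiniteType q₁.left :=
      (repWith_comp_of_locP etLocal_lft hY₀ hf₀ a hae).2 _ _ _ sqW.flip
    have : LocallyOfFinitePresentation (d.left ≫ q₁.left) := etale_le_lfp _ _ _ hR₂
    exact repWith_of_isLocallySurjective hd w sqd @LocallyOfFinitePresentation
      ((repWith_yon_map_iff @LocallyOfFinitePresentation _).2
        (EGA43.Limit.locallyOfFinitePresentation_of_comp d.left q₁.left))

set_option maxHeartbeats 800000 in
/-- Descent along a limit of a property of the diagonal. -/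
theorem exists_stage_diagonal [QuasiSeparatedSpace ↥S]
    (hDa : ∀ (i j : I) (φ : i ⟶ j), IsAffineMor (D.map φ)) (c : Cone D) (hc : IsLimit c)
    {Q P : MorphismProperty Scheme.{u}} [Q.RespectsIso]
    [P.IsStableUnderBaseChange] [P.IsLocalAtTarget Scheme.fppfPrecoverage]
    (hdesc : EGA43.Limit.Descends Q P) {X₀ Y₀ : Sp S} (hX₀ : IsAlgSpace X₀) (hY₀ : IsAlgSpace Y₀)
    (hXqc : IsQuasiCompactSp X₀) (hXqs : IsQuasiSeparatedSp X₀)
    (hYqc : IsQuasiCompactSp Y₀) (hYqs : IsQuasiSeparatedSp Y₀)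
    (f₀ : X₀ ⟶ Y₀) (b₀ : Y₀ ⟶ D.obj i₀) (hQ : RepWith Q (pullback.diagonal f₀))
    {X Y : Sp S} (f : X ⟶ Y) (pY : Y ⟶ Y₀) (qY : Y ⟶ c.pt)
    (hY : IsPullback pY qY b₀ (c.π.app i₀)) (pX : X ⟶ X₀) (hX : IsPullback pX f f₀ pY)
    (hP : RepWith P (pullback.diagonal f)) :
    ∃ (i : I) (φ : i ⟶ i₀), ∀ (Xi Yi : Sp S) (fi : Xi ⟶ Yi) (pYi : Yi ⟶ Y₀) (qYi : Yi ⟶ D.obj i)
      (_ : IsPullback pYi qYi b₀ (D.map φ)) (pXi : Xi ⟶ X₀) (_ : IsPullback pXi fi f₀ pYi),
      RepWith P (pullback.diagonal fi) := by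
  obtain ⟨W, w, hwe, hws, hWc, hWs, hdqc, hdqs, -⟩ :=
    exists_diag_chart hX₀ hY₀ hXqc hXqs hYqc hYqs f₀
  have hmap : ∀ {X' Y' : Sp S} {f' : X' ⟶ Y'} {pX' : X' ⟶ X₀} {pY' : Y' ⟶ Y₀}
      (h : IsPullback pX' f' f₀ pY'),
      IsPullback (pullback.map f' f' f₀ f₀ pX' pX' pY' h.w.symm h.w.symm)
        (pullback.fst f' f' ≫ f') (pullback.fst f₀ f₀ ≫ f₀) pY' := by
    intro X' Y' f' pX' pY' h
    have h1 : IsPullback (pullback.map f' f' f₀ f₀ pX' pX' pY' h.w.symm h.w.symm)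
        (pullback.fst f' f') (pullback.fst f₀ f₀) pX' := by
      refine IsPullback.of_right ?_ (by simp) (IsPullback.of_hasPullback f₀ f₀).flip
      simp only [pullback.map, pullback.lift_snd]
      rw [h.w]
      exact ((IsPullback.of_hasPullback f' f').flip).paste_horiz h
    exact h1.paste_vert h
  obtain ⟨i, φ, hi⟩ := exists_stage_of_descends D hDa c hc hdesc (pullback.diagonal f₀)
    ((pullback.fst f₀ f₀ ≫ f₀) ≫ b₀) w hwe hws hQ hdqc hdqs (pullback.diagonal f)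
    (pullback.map f f f₀ f₀ pX pX pY hX.w.symm hX.w.symm) ((pullback.fst f f ≫ f) ≫ qY)
    ((hmap hX).paste_vert hY) pX (isPullback_diagonal_map hX) hP
  refine ⟨i, φ, fun Xi Yi fi pYi qYi hYi pXi hXi => ?_⟩
  exact hi _ _ _ (pullback.map fi fi f₀ f₀ pXi pXi pYi hXi.w.symm hXi.w.symm)
    ((pullback.fst fi fi ≫ fi) ≫ qYi) ((hmap hXi).paste_vert hYi) pXi (isPullback_diagonal_map hXi)

end Groth.Agent.AlgSpLib

namespace Groth.Agent.AlgSpLib

variable {S : Scheme.{u}} {I : Type u} [SmallCategory I] (D : I ⥤ Sp S) {i₀ : I}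

/-- `P` holds at every base change of `f₀` to the stage given by `φ`. -/
def HoldsAtStage (P : MorphismProperty (Sp S)) {X₀ Y₀ : Sp S} (f₀ : X₀ ⟶ Y₀)
    (b₀ : Y₀ ⟶ D.obj i₀) {i : I} (φ : i ⟶ i₀) : Prop :=
  ∀ (Xi Yi : Sp S) (fi : Xi ⟶ Yi) (pYi : Yi ⟶ Y₀) (qYi : Yi ⟶ D.obj i)
    (_ : IsPullback pYi qYi b₀ (D.map φ)) (pXi : Xi ⟶ X₀) (_ : IsPullback pXi fi f₀ pYi), P fi

theorem HoldsAtStage.comp {P : MorphismProperty (Sp S)} {X₀ Y₀ : Sp S} {f₀ : X₀ ⟶ Y₀}
    {b₀ : Y₀ ⟶ D.obj i₀} {i : I} {φ : i ⟶ i₀}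
    (hP : ∀ {A B A' B' : Sp S} {g : A ⟶ B} {g' : A' ⟶ B'} {a : A' ⟶ A} {b : B' ⟶ B},
      IsAlgSpace A → IsAlgSpace B → IsAlgSpace A' → IsPullback a g' g b → P g → P g')
    (hD : ∀ i, IsAlgSpace (D.obj i)) (hX₀ : IsAlgSpace X₀) (hY₀ : IsAlgSpace Y₀)
    (h : HoldsAtStage D P f₀ b₀ φ) {i' : I} (ψ : i' ⟶ i) :
    HoldsAtStage D P f₀ b₀ (ψ ≫ φ) := by
  intro Xi' Yi' fi' pYi' qYi' hYi' pXi' hXi'
  let y : Yi' ⟶ pullback b₀ (D.map φ) := pullback.lift pYi' (qYi' ≫ D.map ψ) (by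
    rw [Category.assoc, ← D.map_comp]; exact hYi'.w)
  let x : Xi' ⟶ pullback f₀ (pullback.fst b₀ (D.map φ)) := pullback.lift pXi' (fi' ≫ y) (by
    rw [Category.assoc, pullback.lift_fst]; exact hXi'.w)
  have sq : IsPullback x fi' (pullback.snd f₀ (pullback.fst b₀ (D.map φ))) y := by
    refine IsPullback.of_right ?_ (pullback.lift_snd _ _ _) (IsPullback.of_hasPullback _ _)
    simpa [x, y, pullback.lift_fst] using hXi'
  have hA := isAlgSpace_of_isPullback (hD i₀).diag hY₀ (hD i) (IsPullback.of_hasPullback b₀ (D.map φ))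
  have hB := isAlgSpace_of_isPullback hY₀.diag hX₀ hA (IsPullback.of_hasPullback f₀ (pullback.fst b₀ (D.map φ)))
  exact hP hB hA (isAlgSpace_of_isPullback hY₀.diag hX₀
      (isAlgSpace_of_isPullback (hD i₀).diag hY₀ (hD i') hYi') hXi') sq
    (h _ _ _ _ _ (IsPullback.of_hasPullback _ _) _ (IsPullback.of_hasPullback _ _))

end Groth.Agent.AlgSpLib
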