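import Groth.Agent.AlgSpLib.StageClosed
import Groth.Agent.AlgSpLib.SchemeDescent
import Groth.Agent.S10013
import Groth.Agent.AlgSpLib.OpenFac
import Groth.Agent.AlgSpLib.ThickDeg
import Groth.Agent.AlgSpLib.FibreDimFun
import Groth.Agent.S10020

/-!
A scheme etale and separated over a limit descends to a finite stage.
-/

universe u

open CategoryTheory CategoryTheory.Limits AlgebraicGeometry Opposite
open AlgSp

noncomputable section

set_option linter.style.haveILetI false

namespace Groth.Agent.AlgSpLib.EtStage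

open Groth.Agent.AlgSpLib Groth.Agent.AlgSpLib.QCohEt RelSpecSp LimitSep VCart

set_option backward.isDefEq.respectTransparency.types false
set_option backward.isDefEq.respectTransparency false

variable {S : Scheme.{u}}

/-- etale separated quasi-compact followed by affine is quasi-affine -/
theorem isQuasiAffineMor_etale_comp {W : Over S} {X Y : Sp S} (f : (yon S).obj W ⟶ X) (he : RepWith @Etale f)
    (hs : IsSeparatedMor f) (hc : IsQuasiCompactMor f) (ζ : X ⟶ Y) (hζ : IsAffineMor ζ) :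
    IsQuasiAffineMor (f ≫ ζ) := by
  intro Z hZ t
  obtain ⟨V, v, fst, sq, hV⟩ := hζ hZ t
  let P : Over S := he.1.pullback fst
  have sqP := he.1.isPullback fst
  haveI := hV
  haveI : Etale (he.1.snd fst).left := he.property_snd fst
  haveI : AlgebraicGeometry.IsSeparated (he.1.snd fst).left :=
    (isSeparatedMor_yon_map_iff _).1 (isSeparatedMor_of_isPullback sqP hs)
  haveI : CompactSpace (Points ((yon S).obj V)) := (Points.schemeHomeo V).compactSpace
  haveI : CompactSpace P.left := by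
    have hP := hc (IsAlgSpace.yon_obj V)
      ((isQuasiCompactSp_iff_compactSpace (IsAlgSpace.yon_obj V)).2 inferInstance) _ _ _ sqP
    haveI : CompactSpace (Points ((yon S).obj P)) :=
      (isQuasiCompactSp_iff_compactSpace (IsAlgSpace.yon_obj _)).1 hP
    exact (Points.schemeHomeo P).symm.compactSpace
  refine ⟨P, he.1.snd fst ≫ v, he.1.fst fst, ?_, isQuasiAffine_of_lqf (he.1.snd fst).left⟩
  rw [Functor.map_comp]
  exact sqP.paste_vert sq

theorem isPullback_id {X Y : Sp S} (f : X ⟶ Y) : IsPullback f (𝟙 X) (𝟙 Y) f :=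
  IsPullback.of_vert_isIso ⟨by simp⟩

section

variable {I : Type u} [SmallCategory I] [IsCofiltered I] {U₀ : AlgSp.Space S} (D : I ⥤ Sp S)
  (t : D ⟶ (Functor.const I).obj U₀.obj) (c : Cone D)

theorem π_t_eq (i j : I) : c.π.app i ≫ t.app i = c.π.app j ≫ t.app j := by
  obtain ⟨k, ki, kj, -⟩ := IsCofilteredOrEmpty.cone_objs i j
  have hk : ∀ {m : I} (φ : k ⟶ m), c.π.app m ≫ t.app m = c.π.app k ≫ t.app k := fun φ => by
    rw [← c.w φ, Category.assoc, t.naturality φ]
    simp
  rw [hk ki, hk kj]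

variable [QuasiSeparatedSpace ↥S] (hU₀c : IsQuasiCompactSp U₀.obj) (hU₀s : IsQuasiSeparatedSp U₀.obj)
  (hc : IsLimit c) (hD : ∀ i, IsAlgSpace (D.obj i)) (hDa : ∀ (i j : I) (φ : i ⟶ j), IsAffineMor (D.map φ))
  (hta : ∀ i, IsAffineMor (t.app i)) (htp : ∀ i, IsFinitePresentationMor (t.app i))

include hU₀c hU₀s hc hD hDa hta htp in
set_option maxHeartbeats 1600000 in
/-- the descent of the space, before descending properties -/
theorem exists_stage_model {W : Over S} [CompactSpace W.left] (f : (yon S).obj W ⟶ c.pt)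
    (he : RepWith @Etale f) (hs : IsSeparatedMor f) :
    ∃ (j : I) (Z : AlgSp.Space S) (f₀ : Z.obj ⟶ D.obj j) (k : (yon S).obj W ⟶ Z.obj),
      IsPullback k f f₀ (c.π.app j) ∧ LocP @LocallyOfFinitePresentation f₀ ∧
      IsQuasiCompactSp Z.obj ∧ IsQuasiSeparatedSp Z.obj := by
  obtain ⟨o⟩ := IsCofiltered.nonempty (C := I)
  have hc' : IsAlgSpace c.pt := isAlgSpace_limit D hD hDa c hc
  have hζ : IsAffineMor (c.π.app o ≫ t.app o) := isAffineMor_comp (isAffineMor_π D hDa c hc o) (hta o)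
  have hptqs : IsQuasiSeparatedSp c.pt := isQuasiSeparatedSp_of_affineMor hζ hU₀s
  have hWa : IsAlgSpace ((yon S).obj W) := IsAlgSpace.yon_obj W
  haveI : CompactSpace (Points ((yon S).obj W)) := (Points.schemeHomeo W).compactSpace
  have hfc : IsQuasiCompactMor f := isQuasiCompactMor_of_qc_qs hWa hc' f
    ((isQuasiCompactSp_iff_compactSpace hWa).2 inferInstance) hptqs
  obtain ⟨Q, a, g, hag, ha, hg, hQc, hQs⟩ :=
    QAFactor.exists_affine_factor hWa (isQuasiAffineMor_etale_comp f he hs hfc _ hζ) hU₀c hU₀s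
  haveI := compactSpace_points_of_isQuasiCompactSp hQc
  obtain ⟨B, b, hB, hbe, hbs⟩ := Groth.Agent.AlgSpLib.exists_affine_chart Q.property
  let E₀ : EtOver Q.obj := EtOver.mk b hbe
  have h₀ : IsAff E₀ := hB
  have hs₀ : RepWith @Surjective E₀.obj.hom := hbs
  have hr : Representable a := ((isAffineMor_iff_repWith _).1 ha).1
  let WE : Over S := (EtOver.bcObj hr E₀).obj.left
  haveI hWE : IsAffine WE.left := @isAff_bcObj _ _ _ _ hr ha E₀ h₀
  haveI hWE' : IsAffine (hr.pullback E₀.obj.hom).left := hWE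
  obtain ⟨G⟩ := exists_gens hr ha hQc hQs E₀ h₀
  obtain ⟨BQ, bq, bqf, sqQ, hBQ⟩ := hζ (Z := E₀.obj.left) hB (E₀.obj.hom ≫ g)
  haveI := hBQ
  have hw : hr.fst E₀.obj.hom ≫ f ≫ c.π.app o ≫ t.app o =
      (yon S).map (hr.snd E₀.obj.hom) ≫ E₀.obj.hom ≫ g := by
    rw [← hag, ← Category.assoc, hr.w, Category.assoc]
  obtain ⟨ρQ, hρQ⟩ := (yon S).map_surjective (sqQ.lift (hr.fst E₀.obj.hom ≫ f)
    ((yon S).map (hr.snd E₀.obj.hom)) (by rw [Category.assoc, hw]))
  haveI : LocallyOfFiniteType ρQ.left := by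
    have hWEe : RepWith @Etale (hr.fst E₀.obj.hom ≫ f) :=
      RepWith.comp (RepWith.baseChange (hr.isPullback E₀.obj.hom).flip E₀.property) he
    refine locP_yon_map (lft_of_comp (IsAlgSpace.yon_obj _) (IsAlgSpace.yon_obj BQ) hc' (q := bqf) ?_)
    rw [hρQ, IsPullback.lift_fst]
    exact locP_lft_of_lfp (locP_of_repWith etLocal_lfp (IsAlgSpace.yon_obj _) (RepWith.mono etale_le_lfp hWEe))
  have hft : ρQ.left.appTop.hom.FiniteType :=
    HasRingHomProperty.appTop (P := @LocallyOfFiniteType) _ inferInstance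
  obtain ⟨A, hA⟩ : ∃ A : Finset Γ((hr.pullback E₀.obj.hom).left, ⊤), letI := ρQ.left.appTop.hom.toAlgebra
      Algebra.adjoin Γ(BQ.left, ⊤) (A : Set Γ((hr.pullback E₀.obj.hom).left, ⊤)) = ⊤ := by
    letI := ρQ.left.appTop.hom.toAlgebra
    exact (show Algebra.FiniteType Γ(BQ.left, ⊤) Γ((hr.pullback E₀.obj.hom).left, ⊤) from hft).out
  let T : AlgSp.Space S := VS (G.FM A) (E₀ := E₀) h₀ hs₀
  have hτ : IsAffineMor (G.τ A) := isAffineMor_VS (G.FM A) h₀ hs₀
  have hTc : IsQuasiCompactSp T.obj := isQuasiCompactSp_VS (G.FM A) h₀ hs₀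
  have hTs : IsQuasiSeparatedSp T.obj := isQuasiSeparatedSp_of_affineMor hτ hQs
  have htq : IsFinitePresentationMor (G.τ A ≫ g) := AffineLftClosed.fp_comp T.property Q.property U₀.property
    (isFinitePresentationMor_VS (G.FM A) h₀ hs₀ (G.fp_GA A E₀ h₀)) hg
  let g₁ : pullback (G.τ A ≫ g) (t.app o) ⟶ D.obj o := pullback.snd _ _
  have sq₀ := IsPullback.of_hasPullback (G.τ A ≫ g) (t.app o)
  have hT₁ : IsAlgSpace (pullback (G.τ A ≫ g) (t.app o)) :=
    isAlgSpace_of_isPullback U₀.property.diag T.property (hD o) sq₀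
  have hT₁a : IsAffineMor (pullback.fst (G.τ A ≫ g) (t.app o)) := isAffineMor_of_isPullback sq₀.flip (hta o)
  have hT₁c : IsQuasiCompactSp (pullback (G.τ A ≫ g) (t.app o)) :=
    OpenFac.isQuasiCompactSp_of_affine T.property hT₁a hTc
  have hT₁s : IsQuasiSeparatedSp (pullback (G.τ A ≫ g) (t.app o)) := isQuasiSeparatedSp_of_affineMor hT₁a hTs
  have hg₁ : LocP @LocallyOfFinitePresentation g₁ :=
    locP_of_isPullback etLocal_lfp T.property U₀.property hT₁ sq₀ htq.1
  let D' := spStage D g₁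
  let c' := spStageCone D g₁ c
  obtain ⟨hlim⟩ := isLimit_spStageCone D g₁ c hc
  have sqst : ∀ j : Over o, IsPullback (pullback.fst g₁ (D.map j.hom)) (pullback.snd g₁ (D.map j.hom)) g₁ (D.map j.hom) :=
    fun j => IsPullback.of_hasPullback _ _
  have hDj : ∀ j, IsAlgSpace (D'.obj j) := fun j => isAlgSpace_of_isPullback (hD o).diag hT₁ (hD _) (sqst j)
  have hD'a : ∀ (i j : Over o) (φ : i ⟶ j), IsAffineMor (D'.map φ) := fun i j φ =>
    isAffineMor_of_isPullback (spStage_isPullback D g₁ φ).flip (hDa _ _ φ.left)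
  have hfsta : ∀ j : Over o, IsAffineMor (pullback.fst g₁ (D.map j.hom)) := fun j =>
    isAffineMor_of_isPullback (sqst j).flip (hDa _ _ j.hom)
  have sqInf : IsPullback (pullback.fst g₁ (c.π.app o) ≫ pullback.fst (G.τ A ≫ g) (t.app o))
      (pullback.snd g₁ (c.π.app o)) (G.τ A ≫ g) (c.π.app o ≫ t.app o) :=
    ((IsPullback.of_hasPullback g₁ (c.π.app o)).flip.paste_vert sq₀.flip).flip
  have hc'pt : IsAlgSpace c'.pt := isAlgSpace_of_isPullback U₀.property.diag T.property hc' sqInf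
  let xT : (yon S).obj W ⟶ T.obj := G.x A
  have hxT : xT ≫ G.τ A ≫ g = f ≫ c.π.app o ≫ t.app o := by
    rw [← Category.assoc, G.x_τ, hag]
  let x : (yon S).obj W ⟶ c'.pt := sqInf.lift xT f hxT
  -- the chart
  obtain ⟨B', b', b'f, sqB, hB'⟩ := hζ (Z := (G.EA h₀ A).obj.left) (G.isAff_EA h₀ A)
    ((G.EA h₀ A).obj.hom ≫ G.τ A ≫ g)
  haveI := hB'
  let bc : (yon S).obj B' ⟶ c'.pt := sqInf.lift ((yon S).map b' ≫ (G.EA h₀ A).obj.hom) b'f
    (by rw [Category.assoc, sqB.w])
  have sqbc : IsPullback bc ((yon S).map b')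
      (pullback.fst g₁ (c.π.app o) ≫ pullback.fst (G.τ A ≫ g) (t.app o)) (G.EA h₀ A).obj.hom := by
    refine (IsPullback.of_right (h₁₂ := pullback.snd g₁ (c.π.app o)) ?_ (sqInf.lift_fst _ _ _) sqInf.flip)
    rw [sqInf.lift_snd]
    exact sqB
  have hbce : RepWith @Etale bc := RepWith.baseChange sqbc.flip (G.EA h₀ A).property
  have hbcs : RepWith @Surjective bc := RepWith.baseChange sqbc.flip (G.surjective_EA h₀ hs₀ A)
  let cm : WE ⟶ (G.EA h₀ A).obj.left := chartMap (G.FM A) hr (G.pA A) E₀ h₀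
  have sqT : IsPullback (hr.fst E₀.obj.hom) ((yon S).map cm) xT (G.EA h₀ A).obj.hom :=
    isPullback_toV (G.FM A) hr (G.pA A) E₀ h₀
  obtain ⟨ρ, hρ⟩ := (yon S).map_surjective (sqB.lift (hr.fst E₀.obj.hom ≫ f) ((yon S).map cm) (by
    rw [Category.assoc, ← hxT, ← Category.assoc, sqT.w, Category.assoc]))
  have sqW : IsPullback (hr.fst E₀.obj.hom) ((yon S).map ρ) x bc := by
    have h : ((yon S).map ρ ≫ (yon S).map b') = (yon S).map cm := by rw [hρ, IsPullback.lift_snd]
    refine IsPullback.of_bot ?_ ?_ sqbc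
    · rw [h, sqInf.lift_fst]
      exact sqT
    · apply sqInf.hom_ext
      · rw [Category.assoc, sqInf.lift_fst, Category.assoc, sqInf.lift_fst, ← Category.assoc, h]
        exact sqT.w
      · rw [Category.assoc, sqInf.lift_snd, Category.assoc, sqInf.lift_snd, hρ, IsPullback.lift_fst]
  have hρc : IsClosedImmersion ρ.left := by
    obtain ⟨s, hs⟩ := (yon S).map_surjective (sqQ.lift b'f ((yon S).map (b' ≫ (data (G.FM A)).v E₀ h₀)) (by
      rw [sqB.w, Functor.map_comp, Category.assoc]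
      exact congrArg (fun k => (yon S).map b' ≫ k) (by
        show RelSpecSp.q (data (G.FM A)) E₀ h₀ ≫ str (data (G.FM A)) ≫ g = _
        rw [← Category.assoc, ← Category.assoc]
        exact congrArg (· ≫ g) (isPullback_q (data (G.FM A)) E₀ h₀).w)))
    have hs' : ρ ≫ s = ρQ := by
      apply (yon S).map_injective
      apply sqQ.hom_ext
      · rw [Functor.map_comp, Category.assoc, hs, IsPullback.lift_fst, hρ, IsPullback.lift_fst, hρQ, IsPullback.lift_fst]
      · rw [Functor.map_comp, Category.assoc, hs, IsPullback.lift_snd, hρQ, IsPullback.lift_snd,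
          Functor.map_comp, ← Category.assoc, hρ, IsPullback.lift_snd, ← Functor.map_comp]
        exact congrArg _ (chartMap_v (G.FM A) hr (G.pA A) E₀ h₀)
    have hsurj : Function.Surjective ρ.left.appTop.hom := by
      refine AffineLftClosed.surjective_of_finset s.left.appTop.hom _ A ?_ fun z hz => ?_
      · rw [show ρ.left.appTop.hom.comp s.left.appTop.hom = ρQ.left.appTop.hom by
          rw [← hs', Over.comp_left, Scheme.Hom.comp_appTop, CommRingCat.hom_comp]]
        exact hA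
      · obtain ⟨y, hy⟩ := G.exists_evA_eq A h₀ hz
        refine ⟨b'.left.appTop.hom ((Scheme.ΓSpecIso (Alg (G.FM A) E₀ h₀)).inv.hom y), ?_⟩
        have e : ρ ≫ b' = cm := (yon S).map_injective (by rw [Functor.map_comp, hρ, IsPullback.lift_snd])
        have e' := congrArg (fun φ : WE ⟶ (G.EA h₀ A).obj.left =>
          φ.left.appTop.hom ((Scheme.ΓSpecIso (Alg (G.FM A) E₀ h₀)).inv.hom y)) e
        simp only [Over.comp_left, Scheme.Hom.comp_appTop, CommRingCat.hom_comp, RingHom.comp_apply] at e'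
        exact (e'.trans (congrArg (fun φ => φ.hom y) (G.chartMap_appTop A E₀ h₀))).trans hy
    haveI : IsClosedImmersion (Spec.map ρ.left.appTop) := IsClosedImmersion.spec_of_surjective _ hsurj
    have e : ρ.left = WE.left.isoSpec.hom ≫ Spec.map ρ.left.appTop ≫ B'.left.isoSpec.inv := by
      simp [Scheme.isoSpec_hom_naturality_assoc]
    rw [e]
    infer_instance
  have hxr : Representable x := by
    have hsnd : IsAffineMor (pullback.fst g₁ (c.π.app o) ≫ pullback.fst (G.τ A ≫ g) (t.app o)) :=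
      isAffineMor_of_isPullback sqInf.flip hζ
    refine (repWith_of_comp ⊤ (b := pullback.fst g₁ (c.π.app o) ≫ pullback.fst (G.τ A ≫ g) (t.app o))
      (show RepWith ⊤ (x ≫ _) by
        rw [sqInf.lift_fst]; exact ⟨G.representable_x h₀ hs₀ A, fun _ _ _ _ _ _ => trivial⟩)
      (RepWith.mono le_top (diag_separated hsnd))).1
  have hxc : RepWith @IsClosedImmersion x := by
    haveI := isLocallySurjective_of_etale hbce hbcs
    exact repWith_of_isLocallySurjective hxr bc sqW _ ((AlgSp.repWith_yon_map_iff _ _).2 hρc)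
  have hxl : LocP @LocallyOfFinitePresentation x :=
    lfp_of_comp (q := pullback.snd g₁ (c.π.app o)) hWa hc'pt hc'
      (by rw [show x ≫ pullback.snd g₁ (c.π.app o) = f from sqInf.lift_snd _ _ _]
          exact locP_of_repWith etLocal_lfp hWa (RepWith.mono etale_le_lfp he))
      (locP_lft_of_lfp (locP_of_isPullback etLocal_lfp T.property U₀.property hc'pt sqInf htq.1))
  obtain ⟨j, Z, i, k, hi, hifp, sqk⟩ := StageClosed.exists_stage_closed D' hDj hD'a
    (fun j => OpenFac.isQuasiCompactSp_of_affine hT₁ (hfsta j) hT₁c)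
    (fun j => isQuasiSeparatedSp_of_affineMor (hfsta j) hT₁s) c' hlim hWa x hxc hxl
  have sqπ : IsPullback (c'.π.app j) (pullback.snd g₁ (c.π.app o)) (pullback.snd g₁ (D.map j.hom)) (c.π.app j.left) := by
    refine IsPullback.of_right ?_ (pullback.lift_snd _ _ _) (sqst j)
    have e : c'.π.app j ≫ pullback.fst g₁ (D.map j.hom) = pullback.fst g₁ (c.π.app o) := pullback.lift_fst _ _ _
    rw [e, c.w]
    exact IsPullback.of_hasPullback _ _
  refine ⟨j.left, Z, i ≫ pullback.snd g₁ (D.map j.hom), k, ?_, ?_, ?_, ?_⟩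
  · have := sqk.paste_vert sqπ
    rw [show x ≫ pullback.snd g₁ (c.π.app o) = f from sqInf.lift_snd _ _ _] at this
    exact this
  · exact locP_comp etLocal_lfp Z.property (hDj j) (hD _) hifp.1
      (locP_of_isPullback etLocal_lfp hT₁ (hD o) (hDj j) (sqst j) hg₁)
  · exact OpenFac.isQuasiCompactSp_of_affine (hDj j)
      ((isAffineMor_iff_repWith _).2 (RepWith.mono (fun _ _ q (_ : IsClosedImmersion q) => (inferInstance : IsAffineHom q)) hi))
      (OpenFac.isQuasiCompactSp_of_affine hT₁ (hfsta j) hT₁c)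
  · haveI := mono_closedImmersion hi
    exact Stk19b.ZarQs.isQuasiSeparatedSp_of_mono i (isQuasiSeparatedSp_of_affineMor (hfsta j) hT₁s)

include hU₀c hU₀s hc hD hDa hta htp in
/-- a scheme etale separated over a limit descends to an etale separated space over a stage -/
theorem exists_etale_descend {W : Over S} [CompactSpace W.left] (f : (yon S).obj W ⟶ c.pt)
    (he : RepWith @Etale f) (hs : IsSeparatedMor f) :
    ∃ (j : I) (Z : AlgSp.Space S) (f₀ : Z.obj ⟶ D.obj j) (k : (yon S).obj W ⟶ Z.obj),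
      IsPullback k f f₀ (c.π.app j) ∧ IsEtaleMor f₀ ∧ IsSeparatedMor f₀ ∧
      LocP @LocallyOfFinitePresentation f₀ ∧ IsQuasiCompactSp Z.obj ∧ IsQuasiSeparatedSp Z.obj := by
  have hqc : ∀ i, IsQuasiCompactSp (D.obj i) := fun i => OpenFac.isQuasiCompactSp_of_affine U₀.property (hta i) hU₀c
  have hqs : ∀ i, IsQuasiSeparatedSp (D.obj i) := fun i => isQuasiSeparatedSp_of_affineMor (hta i) hU₀s
  have hc' : IsAlgSpace c.pt := isAlgSpace_limit D hD hDa c hc
  obtain ⟨j, Z, f₀, k, sq, hlfp, hZc, hZs⟩ := exists_stage_model D t c hU₀c hU₀s hc hD hDa hta htp f he hs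
  have hfe : IsEtaleMor f := isEtaleMor_of_repWith f he
  obtain ⟨l, φ, hl⟩ := Groth.Agent.S10013.result S D hD hDa c hc j (hqc j) (hqs j) Z ⟨D.obj j, hD j⟩ f₀ (𝟙 _)
    hZc hZs (hqc j) (hqs j) _ _ f (c.π.app j) (𝟙 _) (isPullback_id _) k sq hfe hlfp
  have sqZ := IsPullback.of_hasPullback f₀ (D.map φ)
  have hel := hl _ _ _ _ _ (isPullback_id _) _ sqZ
  have hZ₁ : IsAlgSpace (pullback f₀ (D.map φ)) := isAlgSpace_of_isPullback (hD j).diag Z.property (hD l) sqZ
  have haff₁ : IsAffineMor (pullback.fst f₀ (D.map φ)) := isAffineMor_of_isPullback sqZ.flip (hDa _ _ φ)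
  have hc₁ := OpenFac.isQuasiCompactSp_of_affine Z.property haff₁ hZc
  have hs₁ := isQuasiSeparatedSp_of_affineMor haff₁ hZs
  let k₁ : (yon S).obj W ⟶ pullback f₀ (D.map φ) := pullback.lift k (f ≫ c.π.app l) (by
    rw [Category.assoc, c.w, sq.w])
  have sq₁ : IsPullback k₁ f (pullback.snd f₀ (D.map φ)) (c.π.app l) := by
    refine IsPullback.of_right ?_ (pullback.lift_snd _ _ _) sqZ
    rw [pullback.lift_fst, c.w]
    exact sq
  obtain ⟨m, ψ, hm⟩ := Groth.Agent.S10020.result S D hD hDa c hc l (hqc l) (hqs l) ⟨_, hZ₁⟩ ⟨D.obj l, hD l⟩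
    (pullback.snd f₀ (D.map φ)) (𝟙 _) hc₁ hs₁ (hqc l) (hqs l) _ _ f (c.π.app l) (𝟙 _) (isPullback_id _) k₁ sq₁ hs
  have sqZ₂ := IsPullback.of_hasPullback (pullback.snd f₀ (D.map φ)) (D.map ψ)
  have hZ₂ : IsAlgSpace (pullback (pullback.snd f₀ (D.map φ)) (D.map ψ)) :=
    isAlgSpace_of_isPullback (hD l).diag hZ₁ (hD m) sqZ₂
  have haff₂ := isAffineMor_of_isPullback sqZ₂.flip (hDa _ _ ψ)
  have hlfp₁ := locP_of_isPullback etLocal_lfp Z.property (hD j) hZ₁ sqZ hlfp
  refine ⟨m, ⟨_, hZ₂⟩, pullback.snd _ _, pullback.lift k₁ (f ≫ c.π.app m) (by rw [Category.assoc, c.w, sq₁.w]), ?_,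
    (isEtaleMor_iff_locP etLocal_etale hZ₂ (hD m) _).2 (locP_of_isPullback etLocal_etale hZ₁ (hD l) hZ₂ sqZ₂
      ((isEtaleMor_iff_locP etLocal_etale hZ₁ (hD l) _).1 hel)),
    hm _ _ _ _ _ (isPullback_id _) _ sqZ₂, locP_of_isPullback etLocal_lfp hZ₁ (hD l) hZ₂ sqZ₂ hlfp₁,
    OpenFac.isQuasiCompactSp_of_affine hZ₁ haff₂ hc₁, isQuasiSeparatedSp_of_affineMor haff₂ hs₁⟩
  refine IsPullback.of_right ?_ (pullback.lift_snd _ _ _) sqZ₂
  rw [pullback.lift_fst, c.w]
  exact sq₁

end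

end Groth.Agent.AlgSpLib.EtStage
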