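import Groth.Agent.AlgSpLib.LimitOverAffine
import Groth.Agent.AlgSpLib.EtLocalInst
import Mathlib.RingTheory.Finiteness.Basic
import Mathlib.AlgebraicGeometry.AffineTransitionLimit

/-!
Closed immersions and finite morphisms at a stage of a system over a base.
-/

universe u

set_option autoImplicit false
set_option backward.isDefEq.respectTransparency.types false

open CategoryTheory CategoryTheory.Limits AlgebraicGeometry Opposite AlgSp

noncomputable section

namespace Groth.Agent.AlgSpLib.LimitOver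

variable {J : Type u} [SmallCategory J] [IsCofiltered J]

/-- finitely many properties which hold eventually hold at one stage -/
theorem exists_common_stage {α : Type*} (s : Finset α) (o : J) (Q : α → ∀ j : J, (j ⟶ o) → Prop)
    (hQ : ∀ a ∈ s, ∀ {j k : J} (φ : j ⟶ k) (ψ : k ⟶ o), Q a k ψ → Q a j (φ ≫ ψ))
    (h : ∀ a ∈ s, ∃ (j : J) (ψ : j ⟶ o), Q a j ψ) : ∃ (j : J) (ψ : j ⟶ o), ∀ a ∈ s, Q a j ψ := by
  classical
  induction s using Finset.induction_on with
  | empty => exact ⟨o, 𝟙 o, by simp⟩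
  | insert a t _ ih =>
    obtain ⟨j, ψ, hj⟩ := ih (fun b hb => hQ b (Finset.mem_insert_of_mem hb))
      fun b hb => h b (Finset.mem_insert_of_mem hb)
    obtain ⟨j', ψ', hj'⟩ := h a (Finset.mem_insert_self a t)
    obtain ⟨l, g, g', hg⟩ := IsCofiltered.cospan ψ ψ'
    refine ⟨l, g ≫ ψ, fun b hb => ?_⟩
    rcases Finset.mem_insert.1 hb with rfl | hb
    · exact hg ▸ hQ _ (Finset.mem_insert_self _ t) g' ψ' hj'
    · exact hQ b (Finset.mem_insert_of_mem hb) g ψ (hj b hb)

theorem surjective_comp_of_gens {A R R' : Type u} [CommRing A] [CommRing R] [CommRing R'] [Algebra A R]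
    (ψ : R →+* R') (hψ : Function.Surjective ψ) (s : Finset R) (hs : Algebra.adjoin A (s : Set R) = ⊤)
    (h : ∀ b ∈ s, ψ b ∈ (ψ.comp (algebraMap A R)).range) : Function.Surjective (ψ.comp (algebraMap A R)) := by
  intro y
  obtain ⟨x, rfl⟩ := hψ y
  have hx : x ∈ Algebra.adjoin A (s : Set R) := hs ▸ trivial
  show ψ x ∈ (ψ.comp (algebraMap A R)).range
  induction hx using Algebra.adjoin_induction with
  | mem v hv => exact h v hv
  | algebraMap r => exact ⟨r, rfl⟩
  | add v w _ _ hv hw => rw [map_add]; exact add_mem hv hw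
  | mul v w _ _ hv hw => rw [map_mul]; exact mul_mem hv hw

theorem finite_comp_of_gens {A R R' : Type u} [CommRing A] [CommRing R] [CommRing R'] [Algebra A R]
    (ψ : R →+* R') (hψ : ψ.Finite) (s : Finset R) (hs : Algebra.adjoin A (s : Set R) = ⊤)
    (h : ∀ b ∈ s, (ψ.comp (algebraMap A R)).IsIntegralElem (ψ b)) : (ψ.comp (algebraMap A R)).Finite := by
  let q := Ideal.Quotient.mk (RingHom.ker ψ)
  let l := RingHom.kerLift ψ
  have hl : Function.Injective l := RingHom.kerLift_injective ψ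
  have hlq : l.comp q = ψ := RingHom.ext fun x => rfl
  have hft : (q.comp (algebraMap A R)).FiniteType :=
    (RingHom.FiniteType.of_surjective q Ideal.Quotient.mk_surjective).comp (show (algebraMap A R).FiniteType from
      RingHom.finiteType_algebraMap.2 ⟨⟨s, hs⟩⟩)
  have hint : (q.comp (algebraMap A R)).IsIntegral := by
    intro y
    obtain ⟨x, rfl⟩ := Ideal.Quotient.mk_surjective y
    have hx : x ∈ Algebra.adjoin A (s : Set R) := hs ▸ trivial
    induction hx using Algebra.adjoin_induction with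
    | mem v hv =>
      obtain ⟨p, hp, hp0⟩ := h v hv
      refine ⟨p, hp, hl ?_⟩
      rw [map_zero, Polynomial.hom_eval₂, ← RingHom.comp_assoc, hlq]
      exact hp0
    | algebraMap r => exact RingHom.isIntegralElem_map _
    | add v w _ _ hv hw => rw [map_add]; exact hv.add _ hw
    | mul v w _ _ hv hw => rw [map_mul]; exact hv.mul _ hw
  rw [← hlq, RingHom.comp_assoc]
  exact (RingHom.Finite.of_comp_finite (f := q) (hlq.symm ▸ hψ)).comp (RingHom.IsIntegral.to_finite hint hft)

variable {B : Scheme.{u}} [IsAffine B] {E : J ⥤ Scheme.{u}} [∀ j, IsAffine (E.obj j)] {cE : Cone E}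
  (hcE : IsLimit cE) (f : ∀ j, E.obj j ⟶ B) (hf : ∀ {j k : J} (φ : j ⟶ k), E.map φ ≫ f k = f j) (finf : cE.pt ⟶ B)
  (hfinf : ∀ j, cE.π.app j ≫ f j = finf) (o : J) [LocallyOfFiniteType (f o)]

theorem appTop_map_zero {j k : J} (φ : j ⟶ k) (ψ : k ⟶ o) (x : Γ(E.obj o, ⊤))
    (h : (E.map ψ).appTop x = 0) : (E.map (φ ≫ ψ)).appTop x = 0 := by
  rw [E.map_comp, Scheme.Hom.comp_appTop, ConcreteCategory.comp_apply, h, map_zero]

include hcE hf hfinf o in
theorem exists_stage_closedImmersion (htr : ∀ {j k : J} (φ : j ⟶ k), IsClosedImmersion (E.map φ))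
    [IsClosedImmersion finf] : ∃ j : J, ∀ k, (k ⟶ j) → IsClosedImmersion (f k) := by
  classical
  haveI : IsAffine cE.pt := Scheme.isAffine_of_isLimit _ hcE
  have hsur : Function.Surjective finf.appTop := (IsClosedImmersion.isAffine_surjective_of_isAffine finf).2
  algebraize [(f o).appTop.hom]
  have hft : (f o).appTop.hom.FiniteType :=
    (HasRingHomProperty.iff_of_isAffine (P := @LocallyOfFiniteType)).1 inferInstance
  obtain ⟨s, hs⟩ := (show Algebra.FiniteType Γ(B, ⊤) Γ(E.obj o, ⊤) from hft).out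
  obtain ⟨j, ψ, hj⟩ := exists_common_stage s o
    (fun b j ψ => ∃ a : Γ(B, ⊤), (E.map ψ).appTop (b - (f o).appTop a) = 0)
    (fun b _ j k φ ψ h => h.imp fun a ha => appTop_map_zero o φ ψ _ ha) fun b _ => by
      obtain ⟨a, ha⟩ := hsur ((cE.π.app o).appTop b)
      obtain ⟨j, φ, hφ⟩ := exists_appTop_map_eq_zero_of_isAffine_of_isLimit E cE hcE o (b - (f o).appTop a) (by
        rw [map_sub, sub_eq_zero, ← ConcreteCategory.comp_apply, ← Scheme.Hom.comp_appTop, hfinf, ha])
      exact ⟨j, φ, a, hφ⟩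
  refine ⟨j, fun k φ => ?_⟩
  have h1 : Function.Surjective (E.map (φ ≫ ψ)).appTop :=
    have := htr (φ ≫ ψ)
    (IsClosedImmersion.isAffine_surjective_of_isAffine (E.map (φ ≫ ψ))).2
  have h2 := surjective_comp_of_gens (E.map (φ ≫ ψ)).appTop.hom h1 s hs fun b hb => by
    obtain ⟨a, ha⟩ := hj b hb
    refine ⟨a, ?_⟩
    have := appTop_map_zero o φ ψ _ ha
    rw [map_sub, sub_eq_zero] at this
    exact this.symm
  refine IsClosedImmersion.of_surjective_of_isAffine _ ?_
  rw [← hf (φ ≫ ψ), Scheme.Hom.comp_appTop]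
  exact h2

include hcE hf hfinf o in
theorem exists_stage_isFinite (htr : ∀ {j k : J} (φ : j ⟶ k), IsFinite (E.map φ))
    [IsIntegralHom finf] : ∃ j : J, ∀ k, (k ⟶ j) → IsFinite (f k) := by
  classical
  haveI : IsAffine cE.pt := Scheme.isAffine_of_isLimit _ hcE
  have hint : finf.appTop.hom.IsIntegral :=
    ((HasAffineProperty.iff_of_isAffine (P := @IsIntegralHom)).1 inferInstance).2
  algebraize [(f o).appTop.hom]
  have hft : (f o).appTop.hom.FiniteType :=
    (HasRingHomProperty.iff_of_isAffine (P := @LocallyOfFiniteType)).1 inferInstance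
  obtain ⟨s, hs⟩ := (show Algebra.FiniteType Γ(B, ⊤) Γ(E.obj o, ⊤) from hft).out
  obtain ⟨j, ψ, hj⟩ := exists_common_stage s o
    (fun b j ψ => ∃ p : Polynomial Γ(B, ⊤), p.Monic ∧ (E.map ψ).appTop (p.eval₂ (f o).appTop.hom b) = 0)
    (fun b _ j k φ ψ h => h.imp fun p hp => ⟨hp.1, appTop_map_zero o φ ψ _ hp.2⟩) fun b _ => by
      obtain ⟨p, hp, hp0⟩ := hint ((cE.π.app o).appTop b)
      obtain ⟨j, φ, hφ⟩ := exists_appTop_map_eq_zero_of_isAffine_of_isLimit E cE hcE o
        (p.eval₂ (f o).appTop.hom b) (by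
          refine (Polynomial.hom_eval₂ p _ (cE.π.app o).appTop.hom b).trans ?_
          rw [← CommRingCat.hom_comp, ← Scheme.Hom.comp_appTop, hfinf]
          exact hp0)
      exact ⟨j, φ, p, hp, hφ⟩
  refine ⟨j, fun k φ => ?_⟩
  have h1 : (E.map (φ ≫ ψ)).appTop.hom.Finite := ((HasAffineProperty.iff_of_isAffine (P := @IsFinite)).1 (htr (φ ≫ ψ))).2
  have h2 := finite_comp_of_gens (E.map (φ ≫ ψ)).appTop.hom h1 s hs fun b hb => by
    obtain ⟨p, hp, hp0⟩ := hj b hb
    have := appTop_map_zero o φ ψ _ hp0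
    exact ⟨p, hp, (Polynomial.hom_eval₂ p _ _ b).symm.trans this⟩
  refine (HasAffineProperty.iff_of_isAffine (P := @IsFinite)).2 ⟨inferInstance, ?_⟩
  show (f k).appTop.hom.Finite
  rw [← hf (φ ≫ ψ), Scheme.Hom.comp_appTop]
  exact h2

end Groth.Agent.AlgSpLib.LimitOver
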