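import Groth.Agent.AlgSpLib.VCartSub
import Groth.Agent.AlgSpLib.LimitOverFinite
import Groth.Agent.AlgSpLib.FpqcBaseAffine2

/-!
An affine morphism is the limit of the finitely presented closed subspaces of the affine spaces.
-/

universe u

open CategoryTheory CategoryTheory.Limits AlgebraicGeometry Opposite TensorProduct
open AlgSp

noncomputable section

set_option linter.style.haveILetI false

namespace Groth.Agent.AlgSpLib.VCart

open Groth.Agent.AlgSpLib.QCohEt Groth.Agent.AlgSpLib.SerreAff SymRing RelSpecSp LimitSep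

set_option backward.isDefEq.respectTransparency.types false
set_option backward.isDefEq.respectTransparency false

variable {S : Scheme.{u}}

/-- a system affine over the base, on a given affine chart of the base -/
theorem exists_affine_system_chart {I : Type u} [SmallCategory I] [IsCofiltered I] {D : I ⥤ Sp S} {Y : Sp S}
    (t : D ⟶ (Functor.const I).obj Y) (hDa : ∀ (i j : I) (φ : i ⟶ j), IsAffineMor (D.map φ))
    (c : Cone D) (hc : IsLimit c) (γ : c.pt ⟶ Y) (hγ : ∀ i, c.π.app i ≫ t.app i = γ) (o : I)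
    (ho : IsAffineMor (t.app o)) {B : Over S} (hB : IsAffine B.left) (p : (yon S).obj B ⟶ Y)
    (hpe : RepWith @Etale p) (hps : RepWith @Surjective p) :
    ∃ (E : Over o ⥤ Over S) (cE : Cone E) (f : ∀ j, E.obj j ⟶ B) (finf : cE.pt ⟶ B)
      (η : ∀ j, (yon S).obj (E.obj j) ⟶ D.obj j.left)
      (θ : (yon S).obj cE.pt ⟶ c.pt) (_ : IsLimit ((Over.forget S).mapCone cE)),
      (∀ j, IsAffine (E.obj j).left) ∧ RepWith @Etale θ ∧ RepWith @Surjective θ ∧
      (∀ j, cE.π.app j ≫ f j = finf) ∧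
      (∀ {j k : Over o} (φ : j ⟶ k), (yon S).map (E.map φ) ≫ η k = η j ≫ D.map φ.left) ∧
      (∀ {j k : Over o} (φ : j ⟶ k), E.map φ ≫ f k = f j) ∧
      (∀ j, IsPullback (η j) ((yon S).map (f j)) (t.app j.left) p) ∧
      (∀ j, (yon S).map (cE.π.app j) ≫ η j = θ ≫ c.π.app j.left) ∧
      IsPullback θ ((yon S).map finf) γ p := by
  obtain ⟨V, i, v, sqV, hV⟩ := ho hB p
  have hve : RepWith @Etale v := RepWith.baseChange sqV.flip hpe
  have hvs : RepWith @Surjective v := RepWith.baseChange sqV.flip hps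
  obtain ⟨E, η, pr, cE, hcE, θ, haff, hnat, hsq, hpr, hη, hθe, hθs, hπ⟩ :=
    exists_chart_system D hDa c hc v hve hvs
  haveI := hV
  let top : Over o := Over.mk (𝟙 o)
  let u : ∀ j : Over o, j ⟶ top := fun j => Over.homMk j.hom (Category.comp_id _)
  let f₀ : E.obj top ⟶ B := pr top ≫ i
  have sq₀ : IsPullback (η top) ((yon S).map f₀) (t.app o) p := by
    rw [Functor.map_comp]
    have e : t.app o = D.map top.hom ≫ t.app o := (LimitOver.t_naturality t top.hom).symm
    rw [e]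
    exact ((hsq top).paste_horiz sqV.flip).flip
  have hsqj : ∀ j, IsPullback (η j) ((yon S).map (E.map (u j) ≫ f₀)) (t.app j.left) p := fun j => by
    rw [Functor.map_comp, ← LimitOver.t_naturality t j.hom]
    exact (((hnat (u j)).paste_horiz sq₀.flip)).flip
  refine ⟨E, cE, fun j => E.map (u j) ≫ f₀, cE.π.app top ≫ f₀, η, θ, hcE, fun j => ?_, hθe, hθs, fun j => ?_,
    fun {j k} φ => (hnat φ).w, fun {j k} φ => ?_, hsqj, fun j => (hπ j).w, ?_⟩
  · haveI := hpr j
    exact isAffine_of_isAffineHom (pr j).left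
  · rw [← Category.assoc, cE.w]
  · rw [← Category.assoc, ← E.map_comp, show φ ≫ u k = u j from Over.OverMorphism.ext (Over.w φ)]
  · rw [Functor.map_comp, ← hγ o]
    exact ((hπ top).paste_horiz sq₀.flip).flip

/-- the chart of a subspace of the affine space -/
theorem exists_chart_map {Y : Sp S} (G : FinMod Y) (E : EtOver Y) (hE : IsAff E) {Z : Sp S}
    {i : Z ⟶ RelSpecSp.obj (data G)} {W : Over S} {η : (yon S).obj W ⟶ Z} {f : W ⟶ E.obj.left}
    (sq : IsPullback η ((yon S).map f) (i ≫ str (data G)) E.obj.hom) :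
    ∃ ρ : W ⟶ (data G).V E hE, IsPullback η ((yon S).map ρ) i (q (data G) E hE) ∧ ρ ≫ (data G).v E hE = f := by
  have hq := isPullback_q (data G) E hE
  obtain ⟨ρ, hρ⟩ := (yon S).map_surjective (hq.lift (η ≫ i) ((yon S).map f) (by rw [Category.assoc]; exact sq.w))
  have h2 : ρ ≫ (data G).v E hE = f := (yon S).map_injective (by rw [Functor.map_comp, hρ, hq.lift_snd])
  refine ⟨ρ, IsPullback.of_bot ?_ (by rw [hρ, hq.lift_fst]) hq, h2⟩
  rw [← Functor.map_comp, h2]
  exact sq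

namespace Gens

variable {Y : AlgSp.Space S} {X : Sp S} {ν : X ⟶ Y.obj} {hr : Representable ν} {E₀ : EtOver Y.obj}
  {g : Gens hr E₀} {h₀ : IsAff E₀}

theorem isAffineMor_sysT (hs₀ : RepWith @Surjective E₀.obj.hom) (i : (g.Idx h₀)ᵒᵖ) :
    IsAffineMor (sysT.app i) :=
  (isAffineMor_iff_repWith _).2 (RepWith.comp ((isAffineMor_iff_repWith _).1
    (isAffineMor_of_closedImmersion i.unop.sub.cl))
    ((isAffineMor_iff_repWith _).1 (isAffineMor_VS (g.FM i.unop.A) h₀ hs₀)))

theorem isFinitePresentationMor_sysT [QuasiSeparatedSpace ↥S] (hs₀ : RepWith @Surjective E₀.obj.hom)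
    (i : (g.Idx h₀)ᵒᵖ) : IsFinitePresentationMor (sysT.app i) := by
  have hτ : IsFinitePresentationMor (g.τ i.unop.A) :=
    isFinitePresentationMor_VS (g.FM i.unop.A) h₀ hs₀ (g.fp_GA i.unop.A E₀ h₀)
  exact ⟨locP_comp etLocal_lfp i.unop.sub.alg (g.isAlgSpace_T h₀ hs₀ _) Y.property i.unop.sub.fp.1 hτ.1,
    isQuasiCompactMor_comp i.unop.sub.alg (g.isAlgSpace_T h₀ hs₀ _) Y.property i.unop.sub.fp.2.1 hτ.2.1,
    isQuasiSeparatedMor_comp i.unop.sub.fp.2.2 hτ.2.2⟩

theorem isAffineMor_sysD (hs₀ : RepWith @Surjective E₀.obj.hom) (i j : (g.Idx h₀)ᵒᵖ) (φ : i ⟶ j) :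
    IsAffineMor (sysD.map φ) := by
  have h : sysD.map φ ≫ sysT.app j = sysT.app i := (sysT.naturality φ).trans (Category.comp_id _)
  refine (isAffineMor_iff_repWith _).2 (repWith_of_comp @IsAffineHom (b := sysT.app j) ?_ ?_)
  · rw [h]
    exact (isAffineMor_iff_repWith _).1 (isAffineMor_sysT hs₀ i)
  · exact RepWith.mono (fun _ _ q (_ : IsClosedImmersion q) => (inferInstance : IsAffineHom q))
      (diag_separated (isAffineMor_sysT hs₀ j))

section ctx

variable [QuasiSeparatedSpace ↥S] (hX : IsAlgSpace X) (haff : IsAffineMor ν)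
  (hqs : IsQuasiSeparatedSp Y.obj) (hs₀ : RepWith @Surjective E₀.obj.hom)

include hX haff hqs hs₀

theorem exists_idx_family (i : g.Idx h₀) (B : Finset (Kap hr E₀)) : ∃ j, i ≤ j ∧ B ⊆ j.A := by
  classical
  obtain ⟨s, -⟩ := g.exists_sub_mem h₀ hX haff hqs hs₀ (i.A ∪ B) ∅ (by simp)
  obtain ⟨j, hj, h', -⟩ := exists_above hs₀ i Finset.subset_union_left s
  exact ⟨j, hj, Finset.subset_union_right.trans h'⟩

theorem nonempty_idx : Nonempty (g.Idx h₀) := by
  obtain ⟨s, -⟩ := g.exists_sub_mem h₀ hX haff hqs hs₀ ∅ ∅ (by simp)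
  exact ⟨(exists_idx hs₀ s).choose⟩

/-- a relation is killed above -/
theorem exists_kill (i : g.Idx h₀) (z : Γ((g.EA h₀ i.A).obj.left.left, ⊤))
    (hz : (chartMap (g.FM i.A) hr (g.pA i.A) E₀ h₀).left.appTop.hom z = 0) :
    ∃ j, ∃ h : i ≤ j, ∀ (W : Over S) (η : (yon S).obj W ⟶ j.sub.Z) (ρ : W ⟶ (data (g.FM j.A)).V E₀ h₀),
      (yon S).map ρ ≫ q (data (g.FM j.A)) E₀ h₀ = η ≫ j.sub.ι →
      (ρ ≫ (cartT (G := g.FM j.A) (G' := g.FM i.A) (g.tA h.1)).f E₀ h₀).left.appTop.hom z = 0 := by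
  classical
  obtain ⟨s, hs⟩ := g.exists_sub_mem h₀ hX haff hqs hs₀ i.A {z} (by simpa using hz)
  have hzs : z ∈ s.ker h₀ := hs z (Finset.mem_singleton_self z)
  obtain ⟨j, hij, h', l, hl⟩ := exists_above hs₀ i (subset_refl i.A) s
  refine ⟨j, hij, fun W η ρ hρ => ?_⟩
  let ρ' : W ⟶ (g.EA h₀ i.A).obj.left := ρ ≫ (cartT (G := g.FM j.A) (G' := g.FM i.A) (g.tA hij.1)).f E₀ h₀
  have e : (yon S).map ρ' ≫ (g.EA h₀ i.A).obj.hom = (η ≫ l) ≫ s.ι := by
    show (yon S).map (ρ ≫ _) ≫ q (data (g.FM i.A)) E₀ h₀ = _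
    rw [Functor.map_comp, Category.assoc, ← CartHom.q_hom, ← Category.assoc, hρ, Category.assoc, Category.assoc,
      hl]
    rfl
  let m := s.cl.1.lift (η ≫ l) ρ' e.symm
  have hm : m ≫ s.cl.1.snd (g.EA h₀ i.A).obj.hom = ρ' := s.cl.1.lift_snd _ _ _
  have hz0 : (s.cl.1.snd (g.EA h₀ i.A).obj.hom).left.appTop.hom z = 0 := hzs
  show ρ'.left.appTop.hom z = 0
  rw [← hm, Over.comp_left, Scheme.Hom.comp_appTop, CommRingCat.hom_comp, RingHom.comp_apply, hz0, map_zero]

/-- the cone at the source -/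
def sysC : Cone (sysD : (g.Idx h₀)ᵒᵖ ⥤ Sp S) where
  pt := X
  π :=
    { app := fun i => i.unop.sub.k
      naturality := fun i j φ => by
        show 𝟙 X ≫ j.unop.sub.k = i.unop.sub.k ≫ Idx.lmap (leOfHom φ.unop)
        rw [Category.id_comp, k_lmap hs₀] }

theorem sysC_sysT (i : (g.Idx h₀)ᵒᵖ) : (sysC hs₀).π.app i ≫ sysT.app i = ν := by
  show i.unop.sub.k ≫ i.unop.sub.ι ≫ g.τ _ = ν
  rw [← Category.assoc, Sub.hk, x_τ]

theorem isIso_comparison (c : Cone (sysD : (g.Idx h₀)ᵒᵖ ⥤ Sp S)) (hc : IsLimit c) :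
    IsIso (hc.lift (sysC hs₀)) := by
  classical
  haveI := isDirected_idx (g := g) (h₀ := h₀) hs₀
  obtain ⟨o₀⟩ := nonempty_idx (g := g) (h₀ := h₀) hX haff hqs hs₀
  haveI : Nonempty (g.Idx h₀) := ⟨o₀⟩
  let o : (g.Idx h₀)ᵒᵖ := op o₀
  let γ : c.pt ⟶ Y.obj := c.π.app o ≫ sysT.app o
  have hnat : ∀ {i j : (g.Idx h₀)ᵒᵖ} (φ : i ⟶ j), sysD.map φ ≫ sysT.app j = sysT.app i := fun φ =>
    (sysT.naturality φ).trans (Category.comp_id _)
  have hγ : ∀ i, c.π.app i ≫ sysT.app i = γ := fun i => by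
    obtain ⟨k, hki, hko⟩ := exists_ge_ge i.unop o₀
    show _ = c.π.app o ≫ sysT.app o
    rw [← c.w (homOfLE hki).op, ← c.w (homOfLE hko).op, Category.assoc, Category.assoc]
    exact congrArg (c.π.app ⟨k⟩ ≫ ·) ((hnat (homOfLE hki).op).trans (hnat (homOfLE hko).op).symm)
  let x := hc.lift (sysC hs₀)
  have hx : ∀ i, x ≫ c.π.app i = i.unop.sub.k := fun i => hc.fac _ i
  have hxγ : x ≫ γ = ν := by
    rw [← hγ o, ← Category.assoc, hx]
    exact sysC_sysT hX haff hqs hs₀ o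
  obtain ⟨E, cE, f, finf, η, θ, hcE, hEaff, hθe, hθs, hfinf, hη, hf, hsq, hθ, hsqi⟩ :=
    exists_affine_system_chart sysT (isAffineMor_sysD hs₀) c hc γ hγ o (isAffineMor_sysT hs₀ o)
      h₀ E₀.obj.hom E₀.property hs₀
  have hρex := fun j : Over o => exists_chart_map (g.FM j.left.unop.A) E₀ h₀ (i := j.left.unop.sub.ι) (hsq j)
  choose ρ hρ hρv using hρex
  let XE := (EtOver.bcObj hr E₀).obj.left
  have sqX : IsPullback (hr.fst E₀.obj.hom) ((yon S).map (hr.snd E₀.obj.hom)) ν E₀.obj.hom :=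
    hr.isPullback E₀.obj.hom
  obtain ⟨χ, hχ⟩ := (yon S).map_surjective (hsqi.lift (hr.fst E₀.obj.hom ≫ x) ((yon S).map (hr.snd E₀.obj.hom))
    (by rw [Category.assoc, hxγ]; exact sqX.w))
  have hχ1 : (yon S).map χ ≫ θ = hr.fst E₀.obj.hom ≫ x := by rw [hχ, hsqi.lift_fst]
  have hχ2 : χ ≫ finf = hr.snd E₀.obj.hom :=
    (yon S).map_injective (by rw [Functor.map_comp, hχ, hsqi.lift_snd])
  have key : ∀ j : Over o, χ ≫ cE.π.app j ≫ ρ j = chartMap (g.FM j.left.unop.A) hr (g.pA j.left.unop.A) E₀ h₀ := by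
    intro j
    refine (yon S).map_injective ((isPullback_q (data (g.FM j.left.unop.A)) E₀ h₀).hom_ext ?_ ?_)
    · rw [Functor.map_comp, Functor.map_comp, Category.assoc, Category.assoc, ← (hρ j).w, reassoc_of% (hθ j),
        reassoc_of% hχ1, reassoc_of% (hx j.left), Sub.hk]
      exact fst_toV _ hr _ E₀ h₀
    · rw [← Functor.map_comp, ← Functor.map_comp, Category.assoc, Category.assoc, hρv, chartMap_v]
      show (yon S).map (χ ≫ cE.π.app j ≫ f j) = _
      rw [hfinf, hχ2]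
  let E' := E ⋙ Over.forget S
  let C : Cone E' := (Over.forget S).mapCone cE
  haveI : ∀ j, IsAffine (E'.obj j) := hEaff
  haveI : IsAffine C.pt := Scheme.isAffine_of_isLimit C hcE
  haveI : IsAffine XE.left := haveI := h₀; isAff_bcObj hr haff E₀
  haveI : ∀ j : Over o, IsAffine ((data (g.FM j.left.unop.A)).V E₀ h₀).left := fun j => isAffine_VE _ E₀ h₀
  have keyΓ : ∀ (j : Over o) (z : Γ(((data (g.FM j.left.unop.A)).V E₀ h₀).left, ⊤)),
      χ.left.appTop.hom ((C.π.app j).appTop.hom ((ρ j).left.appTop.hom z)) =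
        (chartMap (g.FM j.left.unop.A) hr (g.pA j.left.unop.A) E₀ h₀).left.appTop.hom z := fun j z => by
    rw [← key j]
    rfl
  have hρs : ∀ j : Over o, Function.Surjective (ρ j).left.appTop.hom := fun j => by
    haveI : IsClosedImmersion (ρ j).left := (repWith_yon_map_iff @IsClosedImmersion (ρ j)).1
      (RepWith.baseChange (hρ j) j.left.unop.sub.cl)
    exact (IsClosedImmersion.isAffine_surjective_of_isAffine (ρ j).left).2
  have hbij : Function.Bijective χ.left.appTop.hom := by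
    refine ⟨(injective_iff_map_eq_zero χ.left.appTop.hom).2 fun y hy => ?_, fun cc => ?_⟩
    · obtain ⟨j, w, hw⟩ := exists_appTop_π_eq_of_isAffine_of_isLimit E' C hcE y
      obtain ⟨z, rfl⟩ := hρs j w
      have hz : (chartMap (g.FM j.left.unop.A) hr (g.pA j.left.unop.A) E₀ h₀).left.appTop.hom z = 0 :=
        (keyΓ j z).symm.trans ((congrArg χ.left.appTop.hom hw).trans hy)
      obtain ⟨k, hjk, hk⟩ := exists_kill hX haff hqs hs₀ j.left.unop z hz
      let K : Over o := Over.mk ((homOfLE hjk).op ≫ j.hom)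
      let φ : K ⟶ j := Over.homMk (homOfLE hjk).op rfl
      have e : E.map φ ≫ ρ j = ρ K ≫ (cartT (G := g.FM k.A) (G' := g.FM j.left.unop.A) (g.tA hjk.1)).f E₀ h₀ := by
        refine (yon S).map_injective ((isPullback_q (data (g.FM j.left.unop.A)) E₀ h₀).hom_ext ?_ ?_)
        · rw [Functor.map_comp, Functor.map_comp, Category.assoc, Category.assoc, ← (hρ j).w, reassoc_of% (hη φ)]
          refine (congrArg (η K ≫ ·) (Idx.lmap_ι hjk)).trans ?_
          exact ((Category.assoc _ _ _).symm.trans (congrArg (· ≫ g.tT hjk.1) (hρ K).w)).trans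
            ((Category.assoc _ _ _).trans (congrArg ((yon S).map (ρ K) ≫ ·) (CartHom.q_hom _ E₀ h₀)))
        · rw [← Functor.map_comp, ← Functor.map_comp, Category.assoc, Category.assoc, hρv, CartHom.f_v]
          exact congrArg ((yon S).map ·) ((hf φ).trans (hρv K).symm)
      have h0 : (E'.map φ).appTop.hom ((ρ j).left.appTop.hom z) = 0 := by
        show (E.map φ ≫ ρ j).left.appTop.hom z = 0
        rw [e]
        exact hk (E.obj K) (η K) (ρ K) (hρ K).w.symm
      rw [← hw, ← C.w φ, Scheme.Hom.comp_appTop]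
      exact (congrArg (C.π.app K).appTop.hom h0).trans (map_zero _)
    · obtain ⟨k, hok, hck⟩ := exists_idx_family hX haff hqs hs₀ o₀ {cc}
      let K : Over o := Over.mk (homOfLE hok).op
      obtain ⟨z, hz⟩ := g.exists_evA_eq k.A h₀ (hck (Finset.mem_singleton_self cc))
      rw [← g.chartMap_appTop k.A E₀ h₀] at hz
      exact ⟨_, (keyΓ K _).trans hz⟩
  let χl : XE.left ⟶ C.pt := χ.left
  haveI : IsClosedImmersion χl := IsClosedImmersion.of_surjective_of_isAffine χl hbij.2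
  have hχi : IsIso χl := IsClosedImmersion.isIso_of_injective_of_isAffine hbij.1
  have sq : IsPullback (hr.fst E₀.obj.hom) ((yon S).map χ) x θ := by
    refine IsPullback.of_bot ?_ hχ1.symm hsqi
    rw [hxγ, ← Functor.map_comp, hχ2]
    exact sqX
  have hγa : IsAffineMor γ := by
    rw [← hγ o]
    exact (isAffineMor_iff_repWith _).2 (RepWith.comp ((isAffineMor_iff_repWith _).1
      (isAffineMor_π sysD (isAffineMor_sysD hs₀) c hc o)) ((isAffineMor_iff_repWith _).1 (isAffineMor_sysT hs₀ o)))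
  have hxr : Representable x := (repWith_of_comp ⊤ (b := γ)
    (show RepWith ⊤ (x ≫ γ) by rw [hxγ]; exact ⟨hr, fun _ _ _ _ _ _ => trivial⟩)
    (RepWith.mono le_top (diag_separated hγa))).1
  have := isLocallySurjective_of_etale hθe hθs
  exact isIso_of_repWith_isomorphisms (repWith_of_isLocallySurjective hxr θ sq
    (MorphismProperty.isomorphisms Scheme.{u}) ((AlgSp.repWith_yon_map_iff _ _).2 hχi))

theorem nonempty_isLimit : Nonempty (IsLimit (sysC (g := g) (h₀ := h₀) hs₀)) := by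
  haveI : HasLimit (sysD : (g.Idx h₀)ᵒᵖ ⥤ Sp S) := inferInstance
  haveI := isIso_comparison (g := g) (h₀ := h₀) hX haff hqs hs₀ _ (limit.isLimit _)
  exact ⟨IsLimit.ofPointIso (limit.isLimit _)⟩

end ctx

end Gens

end Groth.Agent.AlgSpLib.VCart
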