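import Groth.Agent.AlgSpLib.EtGlueQs
import Groth.Agent.AlgSpLib.ApproxStage
import Groth.Agent.AlgSpLib.EtStageDescend
import Groth.Agent.AlgSpLib.LimitSystem
import Groth.Agent.AlgSpLib.SheafCoprod2
import Groth.Agent.S10032
import Groth.Agent.S10007
import Groth.Agent.AlgSpLib.SchemeStage
import Groth.Agent.AlgSpLib.VCartSpace

/-!
Affine maps to spaces of finite presentation pass through an etale gluing with an affine scheme.
-/

universe u

open CategoryTheory CategoryTheory.Limits AlgebraicGeometry Opposite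
open AlgSp

noncomputable section

set_option linter.style.haveILetI false

namespace Groth.Agent.AlgSpLib.Approx

open Groth.Agent.AlgSpLib Groth.Agent.AlgSpLib.QCohEt RelSpecSp LimitSep VCart SchStage

set_option backward.isDefEq.respectTransparency.types false
set_option backward.isDefEq.respectTransparency false

variable {S : Scheme.{u}}

/-- the terminal sheaf -/
def terminalBase : IsTerminal ((yon S).obj (Over.mk (𝟙 S))) :=
  IsTerminal.isTerminalObj (yon S) _ Over.mkIdTerminal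

/-- affine over a quasi-compact quasi-separated space locally of finite presentation over the base -/
def Good (F : Sp S) : Prop :=
  ∃ (U₀ : AlgSp.Space S) (a : F ⟶ U₀.obj), IsAffineMor a ∧ IsQuasiCompactSp U₀.obj ∧
    IsQuasiSeparatedSp U₀.obj ∧ ∀ q : U₀.obj ⟶ (yon S).obj (Over.mk (𝟙 S)), LocP @LocallyOfFinitePresentation q

theorem Good.of_iso {F G : Sp S} (e : F ≅ G) (h : Good F) : Good G := by
  obtain ⟨U₀, a, ha, h1, h2, h3⟩ := h
  exact ⟨U₀, e.inv ≫ a, isAffineMor_comp (isAffineMor_of_repWith (repWith_of_isIso _ _)) ha, h1, h2, h3⟩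

theorem isSeparatedMor_of_separated_source {W : Over S} [IsSeparated W.hom] {F : Sp S} (f : (yon S).obj W ⟶ F) :
    IsSeparatedMor f := by
  refine isSeparatedMor_of_comp (q := terminalBase.from F) ?_
  rw [show f ≫ terminalBase.from F = (yon S).map (Over.homMk W.hom : W ⟶ Over.mk (𝟙 S)) from terminalBase.hom_ext _ _]
  exact (isSeparatedMor_yon_map_iff _).2 ‹IsSeparated W.hom›

variable [QuasiSeparatedSpace ↥S]

set_option maxHeartbeats 2000000 in
theorem good_glue (U : AlgSp.Space S) (hgood : Good U.obj) {V : Over S} [IsAffine V.left] {S₁ : S.Opens}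
    (hS₁ : IsAffineOpen S₁) (hV : ∀ v : ↥V.left, V.hom v ∈ S₁) (O : V.left.Opens) [CompactSpace ↥O]
    (fW : (yon S).obj (Over.mk (O.ι ≫ V.hom)) ⟶ U.obj) (he : RepWith @Etale fW) :
    Good (EtGlue.glue ((yon S).map (Induct.opHom V O)) fW) := by
  obtain ⟨U₀, a, ha, hU₀c, hU₀s, hU₀p⟩ := hgood
  obtain ⟨I, _, _, _, D, t, c, hc, e, hD, hDa, ht, -⟩ :=
    Groth.Agent.S10032.result S (X := U) (Y := U₀) (ObjectProperty.homMk a) ha hU₀c hU₀s
  let W : Over S := Over.mk (O.ι ≫ V.hom)
  haveI : CompactSpace ↥W.left := ‹CompactSpace ↥O›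
  haveI : IsSeparated W.hom := by
    haveI : IsSeparated ((O.ι ≫ V.hom) ≫ terminal.from S) := by
      rw [Category.assoc, terminal.comp_from]
      infer_instance
    exact IsSeparated.of_comp (O.ι ≫ V.hom) (terminal.from S)
  let f : (yon S).obj W ⟶ c.pt := fW ≫ e.inv
  have hfe : RepWith @Etale f := RepWith.comp he (repWith_of_isIso _ _)
  obtain ⟨j₀, Z, f₀, k, sq, hZe, hZsep, hZp, hZc, hZs⟩ :=
    EtStage.exists_etale_descend D t c hU₀c hU₀s hc hD hDa (fun i => (ht i).1) (fun i => (ht i).2) f hfe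
      (isSeparatedMor_of_separated_source f)
  -- a stage which is a scheme
  let D' := spStage D f₀
  let c' := spStageCone D f₀ c
  obtain ⟨hlim⟩ := isLimit_spStageCone D f₀ c hc
  have sqst : ∀ j : Over j₀, IsPullback (pullback.fst f₀ (D.map j.hom)) (pullback.snd f₀ (D.map j.hom)) f₀ (D.map j.hom) :=
    fun j => IsPullback.of_hasPullback _ _
  have hDj : ∀ j, IsAlgSpace (D'.obj j) := fun j => isAlgSpace_of_isPullback (hD j₀).diag Z.property (hD _) (sqst j)
  have hD'a : ∀ (i j : Over j₀) (φ : i ⟶ j), IsAffineMor (D'.map φ) := fun i j φ =>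
    isAffineMor_of_isPullback (spStage_isPullback D f₀ φ).flip (hDa _ _ φ.left)
  have hfsta : ∀ j : Over j₀, IsAffineMor (pullback.fst f₀ (D.map j.hom)) := fun j =>
    isAffineMor_of_isPullback (sqst j).flip (hDa _ _ j.hom)
  have hD'c : ∀ j, IsQuasiCompactSp (D'.obj j) := fun j => OpenFac.isQuasiCompactSp_of_affine Z.property (hfsta j) hZc
  have hD's : ∀ j, IsQuasiSeparatedSp (D'.obj j) := fun j => isQuasiSeparatedSp_of_affineMor (hfsta j) hZs
  obtain ⟨l, hl⟩ := Groth.Agent.S10007.result S D' hDj hD'a hD'c hD's c' hlim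
    (isRepresentable_of_iso_yon sq.isoPullback)
  obtain ⟨T, ⟨σ⟩⟩ := exists_iso_yon_of_isRepresentable hl
  let v : (yon S).obj T ⟶ D.obj l.left := σ.hom ≫ pullback.snd f₀ (D.map l.hom)
  have sqv : IsPullback (σ.hom ≫ pullback.fst f₀ (D.map l.hom)) v f₀ (D.map l.hom) :=
    (sqst l).of_iso σ.symm (Iso.refl _) (Iso.refl _) (Iso.refl _) (by simp) (by simp [v]) (by simp) (by simp)
  have hTa := IsAlgSpace.yon_obj T
  have hve : LocP @Etale v := locP_of_isPullback etLocal_etale Z.property (hD j₀) hTa sqv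
    ((isEtaleMor_iff_locP etLocal_etale Z.property (hD j₀) _).1 hZe)
  have hσa : IsAffineMor σ.hom := isAffineMor_of_repWith (repWith_of_isIso _ _)
  have hTc : IsQuasiCompactSp ((yon S).obj T) := OpenFac.isQuasiCompactSp_of_affine (hDj l) hσa (hD'c l)
  have hTs : IsQuasiSeparatedSp ((yon S).obj T) := isQuasiSeparatedSp_of_affineMor hσa (hD's l)
  haveI : CompactSpace ↥T.left := compactSpace_of_sp T hTc
  haveI : QuasiSeparatedSpace ↥T.left := quasiSeparatedSpace_of_sp T hTs
  let k₁ : (yon S).obj W ⟶ (yon S).obj T := sqv.lift k (f ≫ c.π.app l.left)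
    (by rw [Category.assoc, c.w]; exact sq.w)
  have sq₁ : IsPullback k₁ f v (c.π.app l.left) := by
    refine IsPullback.of_right ?_ (sqv.lift_snd _ _ _) sqv
    rw [sqv.lift_fst, c.w]
    exact sq
  -- the system of schemes
  obtain ⟨E, η, pr, cE, hcE, θ, haff, hnat, hsq, hpr, ⟨g₀, sqθ⟩, hπ⟩ := exists_stage_system D hDa c hc v
  let ω := sq₁.isoIsPullback _ _ sqθ
  let ω₀ : W ≅ cE.pt := (Functor.FullyFaithful.ofFullyFaithful (yon S)).preimageIso ω
  let cW : Cone E := cE.extend ω₀.hom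
  have hcW : IsLimit ((Over.forget S).mapCone cW) :=
    IsLimit.ofIsoLimit hcE (Cone.ext ((Over.forget S).mapIso ω₀) (fun j => by simp [cW])).symm
  haveI : ∀ j, IsAffineHom (pr j).left := hpr
  have hEc : ∀ j, CompactSpace ↥(E.obj j).left := fun j =>
    QuasiCompact.compactSpace_of_compactSpace (pr j).left
  have hEq : ∀ j, QuasiSeparatedSpace ↥(E.obj j).left := fun j =>
    quasiSeparatedSpace_of_quasiSeparated (pr j).left
  have hηe : ∀ j, LocP @Etale (η j) := fun j =>
    locP_of_isPullback etLocal_etale hTa (hD _) (IsAlgSpace.yon_obj _) (hsq j) hve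
  have htp : ∀ i, LocP @LocallyOfFinitePresentation (t.app i ≫ terminalBase.from U₀.obj) := fun i =>
    locP_comp etLocal_lfp (hD i) U₀.property (IsAlgSpace.yon_obj _) (ht i).2.1 (hU₀p _)
  have hEp : ∀ j, LocallyOfFinitePresentation (E.obj j).hom := fun j => by
    have h := locP_comp etLocal_lfp (IsAlgSpace.yon_obj (E.obj j)) (hD _) (IsAlgSpace.yon_obj _)
      (locP_mono etale_le_lfp (hηe j)) (htp j.left)
    rw [show η j ≫ t.app j.left ≫ terminalBase.from U₀.obj =
      (yon S).map (Over.homMk (E.obj j).hom : E.obj j ⟶ Over.mk (𝟙 S)) from terminalBase.hom_ext _ _] at h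
    exact locP_yon_map (g := (Over.homMk (E.obj j).hom : E.obj j ⟶ Over.mk (𝟙 S))) h
  let jW : cW.pt ⟶ V := Induct.opHom V O
  haveI : IsOpenImmersion jW.left := inferInstanceAs (IsOpenImmersion O.ι)
  obtain ⟨m, V₀, hV₀, b, κ, hV₀p, hκ, hb, hrange⟩ :=
    exists_affine_stage E haff hEc hEq hEp cW hcW V jW hS₁ hV
  haveI := hV₀
  haveI := hκ
  let U₁ : AlgSp.Space S := ⟨D.obj m.left, hD _⟩
  let V' : AlgSp.Space S := (AlgSp.ofScheme S).obj (E.obj m)
  let jV : V'.obj ⟶ (yon S).obj V₀ := (yon S).map κ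
  haveI : Mono κ := (Over.forget S).mono_of_mono_map (show Mono κ.left from inferInstance)
  haveI : Mono jV := (yon S).map_mono κ
  have hjV : RepWith @IsOpenImmersion jV := (repWith_yon_map_iff _ _).2 hκ
  have het : IsEtaleMor (η m) := (isEtaleMor_iff_locP etLocal_etale (IsAlgSpace.yon_obj _) (hD _) _).2 (hηe m)
  haveI : Mono ((yon S).map (Induct.opHom V O)) := (yon S).map_mono _
  have hjW : RepWith @IsOpenImmersion ((yon S).map (Induct.opHom V O)) := Induct.repWith_opHom V O
  let α : U.obj ⟶ D.obj m.left := e.inv ≫ c.π.app m.left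
  let β : (yon S).obj V ⟶ (yon S).obj V₀ := (yon S).map b
  let γ : (yon S).obj W ⟶ (yon S).obj (E.obj m) := (yon S).map (cW.π.app m)
  have hj : IsPullback γ ((yon S).map (Induct.opHom V O)) jV β := by
    refine isPullback_of_yon ?_ fun T x y exy => ?_
    · show (yon S).map (cW.π.app m) ≫ (yon S).map κ = (yon S).map jW ≫ (yon S).map b
      rw [← Functor.map_comp, hb, Functor.map_comp]
    · obtain ⟨x', rfl⟩ := (yon S).map_surjective x
      obtain ⟨y', rfl⟩ := (yon S).map_surjective y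
      have exy' : x' ≫ κ = y' ≫ b := (yon S).map_injective (by simpa only [Functor.map_comp] using exy)
      have hsub : Set.range y'.left ⊆ Set.range jW.left := by
        rw [← hrange]
        rintro _ ⟨z, rfl⟩
        exact ⟨x'.left z, by rw [← Scheme.Hom.comp_apply, ← Over.comp_left, exy']; rfl⟩
      let l₀ : T ⟶ cW.pt := Over.homMk (IsOpenImmersion.lift jW.left y'.left hsub) (by
        rw [← Over.w jW, IsOpenImmersion.lift_fac_assoc, Over.w y'])
      have hl₀ : l₀ ≫ jW = y' := Over.OverMorphism.ext (IsOpenImmersion.lift_fac _ _ _)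
      refine ⟨(yon S).map l₀, ⟨?_, ?_⟩, fun l' hl' => ?_⟩
      · rw [← cancel_mono jV]
        show ((yon S).map l₀ ≫ (yon S).map (cW.π.app m)) ≫ (yon S).map κ = (yon S).map x' ≫ (yon S).map κ
        rw [Category.assoc, ← Functor.map_comp, ← Functor.map_comp, hb, ← Functor.map_comp, exy', ← Category.assoc, hl₀]
      · show (yon S).map l₀ ≫ (yon S).map jW = _
        rw [← Functor.map_comp, hl₀]
      · rw [← cancel_mono ((yon S).map (Induct.opHom V O)), hl'.2]
        show _ = (yon S).map l₀ ≫ (yon S).map jW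
        rw [← Functor.map_comp, hl₀]
  have hf : IsPullback γ fW (η m) α := by
    refine (hπ m).of_iso ω.symm (Iso.refl _) e (Iso.refl _) ?_ ?_ ?_ ?_
    · show (yon S).map (cE.π.app m) ≫ 𝟙 _ = ω.inv ≫ (yon S).map (ω₀.hom ≫ cE.π.app m)
      rw [Category.comp_id, Functor.map_comp, ← Category.assoc]
      have : (yon S).map ω₀.hom = ω.hom := (yon S).map_preimage _
      rw [this, Iso.inv_hom_id, Category.id_comp]
    · show θ ≫ e.hom = ω.inv ≫ fW
      have hθ : ω.inv ≫ fW ≫ e.inv = θ := sq₁.isoIsPullback_inv_snd _ _ sqθ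
      rw [← hθ, Category.assoc, Category.assoc, Iso.inv_hom_id, Category.comp_id]
    · simp
    · simp [α]
  obtain ⟨h, ⟨hU, hV'⟩, -⟩ := EtGlue.existsUnique_desc ((yon S).map (Induct.opHom V O)) fW
    (α ≫ EtGlue.inU jV (η m)) (β ≫ EtGlue.inV jV (η m))
    (by rw [← Category.assoc, ← hf.w, Category.assoc, EtGlue.glue_w, ← Category.assoc, hj.w, Category.assoc])
  have hW₁ := (EtGlue.isAlgSpace_glue (V := (AlgSp.ofScheme S).obj V) (V' := (AlgSp.ofScheme S).obj W) hjW
    (isEtaleMor_of_repWith fW he)).1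
  have hX₀ := (EtGlue.isAlgSpace_glue (U := U₁) (V := (AlgSp.ofScheme S).obj V₀) (V' := V') hjV het).1
  have hU₁c : IsQuasiCompactSp U₁.obj := OpenFac.isQuasiCompactSp_of_affine U₀.property (ht m.left).1 hU₀c
  have hU₁s : IsQuasiSeparatedSp U₁.obj := isQuasiSeparatedSp_of_affineMor (ht m.left).1 hU₀s
  refine ⟨⟨_, hX₀⟩, h, EtGlue.isAffineMor_to_glue (U := U₁) (V := (AlgSp.ofScheme S).obj V₀) (V' := V') hjV het hW₁
      (EtGlue.isPullback_map_inU hj hf hU hV')
      (isAffineMor_comp (isAffineMor_of_repWith (repWith_of_isIso _ _)) (isAffineMor_π D hDa c hc _))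
      (EtGlue.isPullback_map_inV hj hf hU hV')
      ((isAffineMor_iff_repWith _).2 ((repWith_yon_map_iff _ _).2 (isAffineHom_of_isAffine b.left))),
    EtGlue.isQuasiCompactSp_glue (U := U₁) (V := (AlgSp.ofScheme S).obj V₀) (V' := V') hjV het hU₁c
      (Stk19.isQuasiCompactSp_yon V₀),
    EtGlue.isQuasiSeparatedSp_glue (U := U₁) (V' := V') hjV het hU₁c hU₁s
      (haveI := hEc m; Stk19.isQuasiCompactSp_yon (E.obj m)),
    fun q => ?_⟩
  refine EtGlue.locP_lfp_glue (U := U₁) (V := (AlgSp.ofScheme S).obj V₀) (V' := V') hjV het q ?_ ?_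
  · rw [show EtGlue.inU jV (η m) ≫ q = t.app m.left ≫ terminalBase.from U₀.obj from terminalBase.hom_ext _ _]
    exact htp _
  · rw [show EtGlue.inV jV (η m) ≫ q = (yon S).map (Over.homMk V₀.hom : V₀ ⟶ Over.mk (𝟙 S)) from
      terminalBase.hom_ext _ _]
    exact locP_of_repWith etLocal_lfp (IsAlgSpace.yon_obj V₀) ((repWith_yon_map_iff _ _).2 hV₀p)

end Groth.Agent.AlgSpLib.Approx
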