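import Groth.Prelude.Def_AlgSp
import Mathlib.AlgebraicGeometry.Sites.Fpqc
import Mathlib.CategoryTheory.Sites.LocallySurjective
import Mathlib.CategoryTheory.Limits.FullSubcategory

/-!
Formal lemmas on fppf sheaves of sets over a scheme and representable morphisms.
-/

universe u

open CategoryTheory CategoryTheory.Limits AlgebraicGeometry Opposite
open AlgSp

namespace Groth.Agent.AlgSpLib

set_option backward.isDefEq.respectTransparency.types false

variable {S : Scheme.{u}}

section Mono

variable {C : Type*} [Category C]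

/-- `c` is the base change of `c ≫ i` along a monomorphism `i`. -/
theorem isPullback_of_mono {A B D : C} (c : A ⟶ B) (i : B ⟶ D) [Mono i] :
    IsPullback (𝟙 A) c (c ≫ i) i := by
  refine ⟨⟨by simp⟩, ⟨PullbackCone.IsLimit.mk _ (fun s => s.fst) (fun s => by simp) (fun s => ?_) ?_⟩⟩
  · rw [← cancel_mono i]; simpa using s.condition
  · intro s m h1 _; simpa using h1

end Mono

variable {F G H : Sp S}

theorem repWith_of_comp_mono {P : MorphismProperty Scheme.{u}} (c : F ⟶ G) (i : G ⟶ H) [Mono i]
    (h : RepWith P (c ≫ i)) : RepWith P c :=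
  MorphismProperty.of_isPullback (isPullback_of_mono c i) h

theorem representable_of_comp_mono (c : F ⟶ G) (i : G ⟶ H) [Mono i]
    (h : Representable (c ≫ i)) : Representable c :=
  MorphismProperty.of_isPullback (isPullback_of_mono c i) h

theorem RepWith.comp {P : MorphismProperty Scheme.{u}} [P.IsStableUnderComposition]
    {f : F ⟶ G} {g : G ⟶ H} (hf : RepWith P f) (hg : RepWith P g) : RepWith P (f ≫ g) :=
  MorphismProperty.comp_mem _ f g hf hg

/-- the base change of a morphism with `RepWith P` -/
theorem RepWith.baseChange {P : MorphismProperty Scheme.{u}} {Q : Sp S} {f : F ⟶ G} {g : H ⟶ G}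
    {fst : Q ⟶ F} {snd : Q ⟶ H} (sq : IsPullback fst snd f g) (hf : RepWith P f) : RepWith P snd :=
  MorphismProperty.of_isPullback sq hf

theorem RepWith.mono {P P' : MorphismProperty Scheme.{u}} (h : P ≤ P') {f : F ⟶ G}
    (hf : RepWith P f) : RepWith P' f :=
  MorphismProperty.relative_monotone (F := yon S) (fun _ _ _ hp => h _ hp) f hf

theorem RepWith.and {P P' : MorphismProperty Scheme.{u}} {f : F ⟶ G}
    (hf : RepWith P f) (hf' : RepWith P' f) : RepWith (P ⊓ P') f :=
  ⟨hf.1, fun _ _ g fst snd h => ⟨hf.2 g fst snd h, hf'.2 g fst snd h⟩⟩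

theorem repWith_of_isIso (P : MorphismProperty Scheme.{u}) [P.IsStableUnderBaseChange]
    [P.IsMultiplicative] (f : F ⟶ G) [IsIso f] : RepWith P f := by
  refine MorphismProperty.relative.of_exists (fun T g => ?_)
  refine ⟨T, g ≫ inv f, 𝟙 T, ?_, P.id_mem _⟩
  rw [(yon S).map_id]
  exact IsPullback.of_vert_isIso ⟨by simp⟩

/-- a pullback of a representable morphism along a map from a scheme is a scheme -/
theorem exists_scheme_pullback {f : F ⟶ G} (hf : Representable f) {U : Over S}
    {g : (yon S).obj U ⟶ G} {W : Sp S} {fst : W ⟶ F} {snd : W ⟶ (yon S).obj U}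
    (sq : IsPullback fst snd f g) :
    ∃ (V : Over S) (_ : (yon S).obj V ≅ W), True :=
  ⟨hf.pullback g, IsPullback.isoIsPullback _ _ (hf.isPullback g) sq, trivial⟩

theorem isAlgSpace_of_atlas_sheaf (hd : Representable (Limits.diag F)) {W : Sp S} (p : W ⟶ F)
    {V : Over S} (e : (yon S).obj V ≅ W) (he : RepWith @Etale p) (hs : RepWith @Surjective p) :
    IsAlgSpace F :=
  ⟨hd, V, e.hom ≫ p, MorphismProperty.RespectsIso.precomp _ _ _ he,
    MorphismProperty.RespectsIso.precomp _ _ _ hs⟩

/-- the map `prod.map` is a composite of base changes -/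
theorem isPullback_prod_map_id {C : Type*} [Category C] {X Y Z : C} (f : X ⟶ Y)
    [HasBinaryProduct X Z] [HasBinaryProduct Y Z] :
    IsPullback (prod.fst : X ⨯ Z ⟶ X) (prod.map f (𝟙 Z)) f prod.fst := by
  refine ⟨⟨by simp⟩, ⟨PullbackCone.IsLimit.mk _ (fun s => prod.lift s.fst (s.snd ≫ prod.snd))
    (fun s => by simp [prod.lift_fst, prod.lift_snd]) (fun s => ?_) ?_⟩⟩
  · apply Limits.prod.hom_ext
    · simpa [prod.lift_fst, prod.lift_snd] using s.condition
    · simp [prod.lift_fst, prod.lift_snd]
  · intro s m h1 h2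
    apply Limits.prod.hom_ext
    · simpa [prod.lift_fst, prod.lift_snd] using h1
    · rw [← h2]; simp [prod.lift_fst, prod.lift_snd]

theorem isPullback_prod_id_map {C : Type*} [Category C] {X Y Z : C} (f : X ⟶ Y)
    [HasBinaryProduct Z X] [HasBinaryProduct Z Y] :
    IsPullback (prod.snd : Z ⨯ X ⟶ X) (prod.map (𝟙 Z) f) f prod.snd := by
  refine ⟨⟨by simp⟩, ⟨PullbackCone.IsLimit.mk _ (fun s => prod.lift (s.snd ≫ prod.fst) s.fst)
    (fun s => by simp [prod.lift_fst, prod.lift_snd]) (fun s => ?_) ?_⟩⟩
  · apply Limits.prod.hom_ext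
    · simp [prod.lift_fst, prod.lift_snd]
    · simpa [prod.lift_fst, prod.lift_snd] using s.condition
  · intro s m h1 h2
    apply Limits.prod.hom_ext
    · rw [← h2]; simp [prod.lift_fst, prod.lift_snd]
    · simpa [prod.lift_fst, prod.lift_snd] using h1

theorem repWith_prod_map {P : MorphismProperty Scheme.{u}} [P.IsStableUnderComposition]
    {F' G' : Sp S} {f : F ⟶ G} {f' : F' ⟶ G'} (hf : RepWith P f) (hf' : RepWith P f') :
    RepWith P (prod.map f f') := by
  have e : prod.map f f' = prod.map f (𝟙 F') ≫ prod.map (𝟙 G) f' := by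
    apply Limits.prod.hom_ext <;> simp
  rw [e]
  exact RepWith.comp (RepWith.baseChange (isPullback_prod_map_id f) hf)
    (RepWith.baseChange (isPullback_prod_id_map f') hf')

theorem representable_prod_map {F' G' : Sp S} {f : F ⟶ G} {f' : F' ⟶ G'}
    (hf : Representable f) (hf' : Representable f') : Representable (prod.map f f') := by
  have e : prod.map f f' = prod.map f (𝟙 F') ≫ prod.map (𝟙 G) f' := by
    apply Limits.prod.hom_ext <;> simp
  rw [e]
  exact MorphismProperty.comp_mem _ _ _ (MorphismProperty.of_isPullback (isPullback_prod_map_id f) hf)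
    (MorphismProperty.of_isPullback (isPullback_prod_id_map f') hf')

/-- diagonal representable iff every map from a scheme is representable -/
theorem representable_diag_iff :
    Representable (Limits.diag F) ↔ ∀ ⦃U : Over S⦄ (g : (yon S).obj U ⟶ F), Representable g :=
  ⟨fun h _ g => Functor.relativelyRepresentable.of_diag h g,
    fun h => Functor.relativelyRepresentable.diag_of_map_from_obj (fun _ g => h g)⟩

/-- a sheaf with a monomorphism to a sheaf with representable diagonal has representable diagonal -/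
theorem representable_diag_of_mono (i : F ⟶ G) [Mono i] (hG : Representable (Limits.diag G)) :
    Representable (Limits.diag F) :=
  representable_diag_iff.2 fun _ g =>
    representable_of_comp_mono g i (representable_diag_iff.1 hG _)

theorem representable_diag_prod (hF : Representable (Limits.diag F))
    (hG : Representable (Limits.diag G)) : Representable (Limits.diag (F ⨯ G)) := by
  refine representable_diag_iff.2 fun U g => ?_
  have e : g = Limits.diag ((yon S).obj U) ≫ prod.map (g ≫ prod.fst) (g ≫ prod.snd) := by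
    apply Limits.prod.hom_ext <;> simp [prod.lift_fst, prod.lift_snd]
  rw [e]
  exact MorphismProperty.comp_mem _ _ _ (IsAlgSpace.yon_obj U).diag
    (representable_prod_map (representable_diag_iff.1 hF _) (representable_diag_iff.1 hG _))

/-- fibre product over a sheaf with representable diagonal -/
theorem isAlgSpace_of_isPullback {X Y P K : Sp S} (hK : Representable (Limits.diag K))
    (hX : IsAlgSpace X) (hY : IsAlgSpace Y) {f : X ⟶ K} {g : Y ⟶ K} {fst : P ⟶ X} {snd : P ⟶ Y}
    (h : IsPullback fst snd f g) : IsAlgSpace P := by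
  have hd : Representable (Limits.diag P) := by
    have : Mono (prod.lift fst snd) := ⟨fun a b w => h.hom_ext
      (by simpa [prod.lift_fst] using congrArg (· ≫ prod.fst) w) (by simpa [prod.lift_snd] using congrArg (· ≫ prod.snd) w)⟩
    exact representable_diag_of_mono (prod.lift fst snd) (representable_diag_prod hX.diag hY.diag)
  obtain ⟨U, p, hpe, hps⟩ := hX.atlas
  obtain ⟨V, q, hqe, hqs⟩ := hY.atlas
  -- Q₁ = h_U ×_K Y
  have sq₁ := IsPullback.of_hasPullback fst p
  have h₁ : IsPullback (pullback.fst fst p ≫ snd) (pullback.snd fst p) g (p ≫ f) :=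
    sq₁.paste_horiz h.flip
  -- Q₂ = h_U ×_K h_V
  let b : pullback fst p ⟶ Y := pullback.fst fst p ≫ snd
  have sq₂ := IsPullback.of_hasPullback b q
  have h₂ : IsPullback (pullback.snd b q) (pullback.fst b q ≫ pullback.snd fst p) (q ≫ g) (p ≫ f) :=
    sq₂.flip.paste_vert h₁
  obtain ⟨W, e, -⟩ := exists_scheme_pullback (representable_diag_iff.1 hK (q ≫ g)) h₂
  refine isAlgSpace_of_atlas_sheaf hd (pullback.fst b q ≫ pullback.fst fst p) e ?_ ?_
  · exact RepWith.comp (RepWith.baseChange sq₂.flip hqe) (RepWith.baseChange sq₁.flip hpe)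
  · exact RepWith.comp (RepWith.baseChange sq₂.flip hqs) (RepWith.baseChange sq₁.flip hps)

theorem isAlgSpace_pullback {X Y Z : Space S} (f : X.obj ⟶ Z.obj) (g : Y.obj ⟶ Z.obj) :
    IsAlgSpace (pullback f g) :=
  isAlgSpace_of_isPullback Z.property.diag X.property Y.property (IsPullback.of_hasPullback f g)

theorem isTerminal_yon_base (S : Scheme.{u}) :
    Nonempty (IsTerminal ((yon S).obj (Over.mk (𝟙 S)))) :=
  ⟨IsTerminal.isTerminalObj (yon S) _ Over.mkIdTerminal⟩

theorem isAlgSpace_terminal (S : Scheme.{u}) : IsAlgSpace (⊤_ (Sp S)) :=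
  (IsAlgSpace.yon_obj _).of_iso ((isTerminal_yon_base S).some.uniqueUpToIso terminalIsTerminal)

theorem isAlgSpace_prod (hF : IsAlgSpace F) (hG : IsAlgSpace G) : IsAlgSpace (F ⨯ G) :=
  isAlgSpace_of_isPullback (isAlgSpace_terminal S).diag hF hG
    (IsPullback.of_isLimit_binaryFan_of_isTerminal (prodIsProd F G) terminalIsTerminal)

instance closedUnderLimitsOfShape_walkingCospan :
    ObjectProperty.IsClosedUnderLimitsOfShape (IsAlgSpace (S := S)) WalkingCospan :=
  ⟨fun X hX => by
    obtain ⟨h⟩ := hX
    have sq := IsPullback.of_isLimit_cone h.isLimit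
    exact isAlgSpace_of_isPullback (h.prop_diag_obj _).diag (h.prop_diag_obj _) (h.prop_diag_obj _) sq⟩

end Groth.Agent.AlgSpLib
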