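import Mathlib
import Groth.Agent.AlgSpLib.QuasiSober
import Groth.Agent.AlgSpLib.PointsTop
import Groth.Agent.VarietyLib.GeomComponents
import Groth.Agent.FlatMorWeight.GeomPoints
import Groth.Agent.AlgSpLib.InductPrinciple
import Groth.Prelude.Def_W4stk3decentspacesp2Birat

/-!
Birational morphisms of decent spaces over generic points of the target.
-/

set_option autoImplicit false
universe u

open CategoryTheory CategoryTheory.Limits AlgebraicGeometry Opposite
open AlgSp

noncomputable section

namespace Groth.Agent.AlgSpLib.Birat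

set_option backward.isDefEq.respectTransparency.types false

/-- a specialisation in a fibre with algebraic residue field at the source is trivial -/
theorem eq_of_specializes_of_integral_residue {T V : Scheme.{u}} (l : T ⟶ V) {t₀ t : T} (hs : t₀ ⤳ t)
    (he : l t₀ = l t) (hint : (l.residueFieldMap t₀).hom.IsIntegral) : t₀ = t := by
  set σ := T.presheaf.stalkSpecializes hs
  set φ : T.presheaf.stalk t ⟶ T.residueField t₀ := σ ≫ T.residue t₀
  set ρ : V.presheaf.stalk (l t) ⟶ V.residueField (l t₀) :=
    V.presheaf.stalkSpecializes (hs.map l.continuous) ≫ V.residue (l t₀)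
  have hρ : Function.Surjective ρ.hom := by
    haveI : IsIso (V.presheaf.stalkSpecializes (hs.map l.continuous)) := by
      have : ∀ {a b : V} (_ : a = b) (h : a ⤳ b), IsIso (V.presheaf.stalkSpecializes h) := by
        rintro a b rfl h
        rw [TopCat.Presheaf.stalkSpecializes_refl]
        infer_instance
      exact this he _
    exact (V.residue_surjective _).comp (ConcreteCategory.bijective_of_isIso
      (V.presheaf.stalkSpecializes (hs.map l.continuous))).2
  have hsq : l.stalkMap t ≫ φ = ρ ≫ l.residueFieldMap t₀ := by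
    simp only [φ, ρ, σ, Category.assoc, Scheme.residue_residueFieldMap]
    rw [Scheme.Hom.stalkSpecializes_stalkMap_assoc]
  let K' : Subring (T.residueField t₀) := (l.residueFieldMap t₀).hom.range
  let R : Subring (T.residueField t₀) := φ.hom.range
  have hKR : K' ≤ R := by
    rintro _ ⟨c, rfl⟩
    obtain ⟨b, rfl⟩ := hρ c
    exact ⟨l.stalkMap t b, congr($(hsq).hom b)⟩
  let ι : V.residueField (l t₀) →+* R :=
    (l.residueFieldMap t₀).hom.codRestrict R fun c => hKR ⟨c, rfl⟩
  letI := ι.toAlgebra
  letI := (l.residueFieldMap t₀).hom.toAlgebra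
  haveI : Algebra.IsIntegral (V.residueField (l t₀)) R := ⟨fun r => by
    obtain ⟨p, hp, hp'⟩ := hint r.1
    refine ⟨p, hp, Subtype.coe_injective ((Polynomial.hom_eval₂ p _ R.subtype r).trans ?_)⟩
    exact hp'⟩
  have hR : IsField R := isField_of_isIntegral_of_isField' (Field.toIsField (V.residueField (l t₀)))
  have hker : RingHom.ker φ.hom = IsLocalRing.maximalIdeal _ := by
    refine IsLocalRing.eq_maximalIdeal ?_
    rw [← φ.hom.ker_rangeRestrict]
    letI := hR.toField
    exact RingHom.ker_isMaximal_of_surjective _ φ.hom.rangeRestrict_surjective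
  have hcl : Spec.map σ (IsLocalRing.closedPoint _) = IsLocalRing.closedPoint _ := by
    refine PrimeSpectrum.ext (Eq.trans ?_ hker)
    ext a
    exact (IsLocalRing.residue_eq_zero_iff (σ.hom a)).symm
  have := congr($(Scheme.SpecMap_stalkSpecializes_fromSpecStalk hs) (IsLocalRing.closedPoint _))
  rw [Scheme.Hom.comp_apply, hcl, Scheme.fromSpecStalk_closedPoint, Scheme.fromSpecStalk_closedPoint] at this
  exact this.symm

/-- the base change to the local ring of a morphism inducing an isomorphism at the only point of the fibre -/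
theorem isIso_pullback_stalk {X Y : Scheme.{u}} (f : X ⟶ Y) (x : X) (hxiso : IsIso (f.stalkMap x))
    (hfib : ∀ x' : X, f x' = f x → x' = x) (hmaxy : ∀ w : Y, w ⤳ f x → w = f x) :
    IsIso (pullback.snd f (Y.fromSpecStalk (f x))) := by
  set y := f x
  let Z := pullback f (Y.fromSpecStalk y)
  let p₂ : Z ⟶ Spec (Y.presheaf.stalk y) := pullback.snd _ _
  let p₁ : Z ⟶ X := pullback.fst _ _
  let s : Spec (Y.presheaf.stalk y) ⟶ X := Spec.map (inv (f.stalkMap x)) ≫ X.fromSpecStalk x
  have hs : s ≫ f = Y.fromSpecStalk y := by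
    rw [Category.assoc, ← Scheme.SpecMap_stalkMap_fromSpecStalk, ← Spec.map_comp_assoc,
      IsIso.hom_inv_id, Spec.map_id, Category.id_comp]
  have hz : ∀ z : Z, p₁ z = x := by
    intro z
    refine hfib _ ?_
    have h1 : f (p₁ z) = Y.fromSpecStalk y (p₂ z) := congr($(pullback.condition (f := f) (g := Y.fromSpecStalk y)) z)
    have h2 : Y.fromSpecStalk y (p₂ z) ⤳ y := Scheme.range_fromSpecStalk.le ⟨_, rfl⟩
    rw [h1]
    exact hmaxy _ h2
  haveI : IsPreimmersion p₁ := MorphismProperty.pullback_fst _ _ inferInstance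
  have hsub : Subsingleton Z := ⟨fun a b => p₁.isEmbedding.injective ((hz a).trans (hz b).symm)⟩
  refine ⟨pullback.lift s (𝟙 _) (by rw [hs, Category.id_comp]), ?_, pullback.lift_snd _ _ _⟩
  apply pullback.hom_ext
  · rw [Category.assoc, pullback.lift_fst, Category.id_comp]
    show p₂ ≫ s = p₁
    -- compare on the unique local ring
    obtain hemp | ⟨⟨z⟩⟩ := isEmpty_or_nonempty Z
    · exact (isInitialOfIsEmpty (X := Z)).hom_ext _ _
    haveI : Surjective (Z.fromSpecStalk z) := ⟨fun w => ⟨IsLocalRing.closedPoint _, by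
      rw [Scheme.fromSpecStalk_closedPoint]; exact Subsingleton.elim _ _⟩⟩
    haveI : CompactSpace Z := Finite.compactSpace
    haveI : QuasiCompact (Z.fromSpecStalk z) := by
      haveI : IsAffine Z := by
        obtain ⟨U, hU, hzU, -⟩ := exists_isAffineOpen_mem_and_subset (x := z) (U := ⊤) trivial
        have : U = ⊤ := top_le_iff.1 fun w _ => Subsingleton.elim z w ▸ hzU
        subst this
        haveI : IsAffine (⊤ : Z.Opens).toScheme := hU
        exact IsAffine.of_isIso Z.topIso.inv
      infer_instance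
    haveI : Flat (Z.fromSpecStalk z) := by
      obtain ⟨U, hU, hzU, -⟩ := exists_isAffineOpen_mem_and_subset (x := z) (U := ⊤) trivial
      rw [← hU.fromSpecStalk_eq_fromSpecStalk hzU, IsAffineOpen.fromSpecStalk]
      haveI : Flat (Spec.map (Z.presheaf.germ U z hzU)) := by
        rw [Flat.SpecMap_iff]
        letI := Z.presheaf.algebra_section_stalk (⟨z, hzU⟩ : U)
        haveI := hU.isLocalization_stalk ⟨z, hzU⟩
        exact IsLocalization.flat (Z.presheaf.stalk z) (hU.primeIdealOf ⟨z, hzU⟩).asIdeal.primeCompl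
      infer_instance
    haveI := Flat.isIso_of_surjective_of_mono (Z.fromSpecStalk z)
    rw [← cancel_epi (Z.fromSpecStalk z)]
    have gen : ∀ {R : CommRingCat.{u}} [IsLocalRing R] (t : Spec R ⟶ X)
        (γ : Y.presheaf.stalk y ⟶ R), t (IsLocalRing.closedPoint R) = x →
        t ≫ f = Spec.map γ ≫ Y.fromSpecStalk y → t = Spec.map γ ≫ s := by
      intro R _ t γ ht htf
      obtain ⟨α, rfl⟩ : ∃ α : X.presheaf.stalk x ⟶ R, t = Spec.map α ≫ X.fromSpecStalk x := by
        subst ht
        exact ⟨_, (Scheme.Spec_stalkClosedPointTo_fromSpecStalk t).symm⟩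
      have hγ : γ = f.stalkMap x ≫ α := by
        apply Spec.map_injective
        rw [← cancel_mono (Y.fromSpecStalk y), ← htf, Spec.map_comp, Category.assoc, Category.assoc,
          ← Scheme.SpecMap_stalkMap_fromSpecStalk]
      rw [hγ, Spec.map_comp, Category.assoc, ← Spec.map_comp_assoc (inv (f.stalkMap x))]
      simp
    obtain ⟨γ, hγ⟩ := Spec.map_surjective (Z.fromSpecStalk z ≫ p₂)
    rw [reassoc_of% hγ.symm]
    symm
    refine gen _ γ ?_ ?_
    · rw [Scheme.Hom.comp_apply]; exact hz _
    · rw [Category.assoc, pullback.condition, ← Category.assoc, hγ]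
  · rw [Category.assoc, pullback.lift_snd, Category.comp_id, Category.id_comp]

variable {S : Scheme.{u}} {X Y : Space S} {f : X ⟶ Y}

theorem map_ofPt_square {U V : Over S} {a : (yon S).obj U ⟶ X.obj} {b : (yon S).obj V ⟶ Y.obj} {g : U ⟶ V}
    (w : a ≫ f.hom = (yon S).map g ≫ b) (u : U.left) :
    Points.map f.hom (Points.ofPt a u) = Points.ofPt b (g.left u) := by
  rw [Points.map_ofPt, w, ofPt_map]

theorem injective_ofPt_openImm {F : Sp S} {V : Over S} (b : (yon S).obj V ⟶ F) (hb : RepWith @IsOpenImmersion b) :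
    Function.Injective (Points.ofPt b) := fun v v' h => by
  haveI : Mono b := Induct.mono_openImm hb
  rw [Points.ofPt_eq_map_ofScheme, Points.ofPt_eq_map_ofScheme] at h
  exact (Points.schemeHomeo V).injective (injective_map_of_mono b h)

/-- generic points are maximal -/
theorem eq_of_generic {F : Space S} (hd : IsDecent F.obj) {x y : Points F.obj}
    (hx : x ∈ genericPoints (Points F.obj)) (h : y ⤳ x) : y = x := by
  haveI := t0Space_points F.property hd
  haveI := quasiSober_points F.property hd
  exact VarietyLib.eq_of_specializes_genericPoints hx h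

/-- a common open chart at a generic point of the target -/
theorem exists_chart (hY : IsDecent Y.obj) (hf : W4stk3decentspacesp2.IsBirational f.hom) {V : Over S}
    (b : (yon S).obj V ⟶ Y.obj) (hb : RepWith @IsOpenImmersion b) (v : V.left)
    (hv : Points.ofPt b v ∈ genericPoints (Points Y.obj)) :
    ∃ (U : Over S) (a : (yon S).obj U ⟶ X.obj) (g : U ⟶ V) (u : U.left), RepWith @IsOpenImmersion a ∧
      a ≫ f.hom = (yon S).map g ≫ b ∧ g.left u = v ∧ IsIso (g.left.stalkMap u) ∧
      Points.ofPt a u ∈ genericPoints (Points X.obj) := by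
  obtain ⟨x, hx, hxy⟩ := hf.bijOn.surjOn hv
  obtain ⟨U, V₁, a, b₁, g, u, ha, hb₁, w, hux, hiso⟩ := hf.stalkIso x hx
  let U' := hb.1.pullback (a ≫ f.hom)
  let pU : U' ⟶ U := hb.1.snd (a ≫ f.hom)
  obtain ⟨q, hq⟩ := (yon S).map_surjective (hb.1.fst (a ≫ f.hom))
  have sq : IsPullback ((yon S).map q) ((yon S).map pU) b (a ≫ f.hom) := hq ▸ hb.1.isPullback _
  have hpU : IsOpenImmersion pU.left := hb.property_snd _
  obtain ⟨z, hz1, hz2⟩ := exists_point_of_isPullback sq (x := Points.ofScheme V v) (y := Points.ofScheme U u) (by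
    rw [← Points.ofPt_eq_map_ofScheme, ← Points.ofPt_eq_map_ofScheme, ← Points.map_ofPt, hux]
    exact hxy.symm)
  obtain ⟨u', rfl⟩ := (Points.schemeHomeo U').surjective z
  have e1 : q.left u' = v := (Points.schemeHomeo V).injective ((map_yon_map_ofScheme q u').symm.trans hz1)
  have e2 : pU.left u' = u := (Points.schemeHomeo U).injective ((map_yon_map_ofScheme pU u').symm.trans hz2)
  refine ⟨U', (yon S).map pU ≫ a, q, u', RepWith.comp ((repWith_yon_map_iff _ _).2 hpU) ha,
    (Category.assoc _ _ _).trans sq.w.symm, e1, ?_, by rw [ofPt_map, e2, hux]; exact hx⟩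
  let R := hb.1.pullback b₁
  let r₂ : R ⟶ V₁ := hb.1.snd b₁
  obtain ⟨r₁, hr₁⟩ := (yon S).map_surjective (hb.1.fst b₁)
  have sqR : IsPullback ((yon S).map r₁) ((yon S).map r₂) b b₁ := hr₁ ▸ hb.1.isPullback _
  have hr₂ : IsOpenImmersion r₂.left := hb.property_snd _
  have hr₁' : IsOpenImmersion r₁.left := hb₁.property _ _ _ sqR.flip
  obtain ⟨h, hh⟩ := (yon S).map_surjective (sqR.lift ((yon S).map q) ((yon S).map (pU ≫ g))
    (sq.w.trans ((congrArg (fun k => (yon S).map pU ≫ k) w).trans ((Category.assoc _ _ _).symm.trans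
      (congrArg (fun k => k ≫ b₁) ((yon S).map_comp pU g).symm)))))
  have h1 : h ≫ r₁ = q := (yon S).map_injective (by rw [Functor.map_comp, hh, sqR.lift_fst])
  have h2 : h ≫ r₂ = pU ≫ g := (yon S).map_injective (by rw [Functor.map_comp, hh, sqR.lift_snd])
  haveI hg1 : IsIso (g.left.stalkMap (pU.left u')) := e2 ▸ hiso
  haveI hp1 : IsIso (pU.left.stalkMap u') := inferInstance
  have hb2 : IsIso ((pU.left ≫ g.left).stalkMap u') := by
    rw [Scheme.Hom.stalkMap_comp]; exact IsIso.comp_isIso' hg1 hp1
  have h2' : pU.left ≫ g.left = h.left ≫ r₂.left := congrArg (fun k => k.left) h2.symm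
  rw [h2', Scheme.Hom.stalkMap_comp] at hb2
  haveI hr2 : IsIso (r₂.left.stalkMap (h.left u')) := inferInstance
  have hh1 : IsIso (h.left.stalkMap u') := @IsIso.of_isIso_comp_left _ _ _ _ _ _ _ hr2 hb2
  have hh2 : IsIso (r₁.left.stalkMap (h.left u')) := inferInstance
  rw [show q.left = h.left ≫ r₁.left from congrArg (fun k => k.left) h1.symm, Scheme.Hom.stalkMap_comp]
  exact IsIso.comp_isIso' hh2 hh1

/-- the only point over a generic point of the target -/
theorem eq_of_map_eq_generic (hX : IsDecent X.obj) (hY : IsDecent Y.obj)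
    (hf : W4stk3decentspacesp2.IsBirational f.hom) {V : Over S} (b : (yon S).obj V ⟶ Y.obj)
    (hb : RepWith @IsOpenImmersion b) {v : V.left} (hv : Points.ofPt b v ∈ genericPoints (Points Y.obj))
    {U : Over S} {a : (yon S).obj U ⟶ X.obj} (ha : RepWith @IsOpenImmersion a) {g : U ⟶ V} {u : U.left}
    (w : a ≫ f.hom = (yon S).map g ≫ b) (hu : g.left u = v) (hiso : IsIso (g.left.stalkMap u))
    (hx : Points.ofPt a u ∈ genericPoints (Points X.obj)) (x' : Points X.obj)
    (h : Points.map f.hom x' = Points.ofPt b v) : x' = Points.ofPt a u := by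
  haveI := t0Space_points X.property hX
  haveI := quasiSober_points X.property hX
  have hfx : Points.map f.hom (Points.ofPt a u) = Points.ofPt b v := by rw [map_ofPt_square w, hu]
  obtain ⟨T, c, hce, hcs⟩ := X.property.atlas
  obtain ⟨t₁, rfl⟩ := surjective_ofPt c hcs x'
  let Q := hb.1.pullback (c ≫ f.hom)
  let pQ : Q ⟶ T := hb.1.snd (c ≫ f.hom)
  obtain ⟨l, hl⟩ := (yon S).map_surjective (hb.1.fst (c ≫ f.hom))
  have sq : IsPullback ((yon S).map l) ((yon S).map pQ) b (c ≫ f.hom) := hl ▸ hb.1.isPullback _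
  have hpQ : IsOpenImmersion pQ.left := hb.property_snd _
  let c' := (yon S).map pQ ≫ c
  have hc' : RepWith @Etale c' := RepWith.comp ((repWith_yon_map_iff (P := @Etale) pQ).2 inferInstance) hce
  have wc : c' ≫ f.hom = (yon S).map l ≫ b := (Category.assoc _ _ _).trans sq.w.symm
  obtain ⟨z, -, hz2⟩ := exists_point_of_isPullback sq (x := Points.ofScheme V v) (y := Points.ofScheme T t₁) (by
    rw [← Points.ofPt_eq_map_ofScheme, ← Points.ofPt_eq_map_ofScheme, ← Points.map_ofPt]
    exact h.symm)
  obtain ⟨t, rfl⟩ := (Points.schemeHomeo Q).surjective z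
  have et : pQ.left t = t₁ := (Points.schemeHomeo T).injective ((map_yon_map_ofScheme pQ t).symm.trans hz2)
  have hx' : Points.ofPt c t₁ = Points.ofPt c' t := by rw [ofPt_map, et]
  rw [hx'] at h ⊢
  obtain ⟨t₀, ht₀, hts⟩ := VarietyLib.exists_genericPoints_specializes t
  have hgen : Points.ofPt c' t₀ ∈ genericPoints (Points X.obj) := by
    refine VarietyLib.mem_genericPoints_iff.2 fun y hy => ?_
    obtain ⟨t'', ht'', rfl⟩ := exists_specializes_chart (FiniteFibres.of_mk (hX y)).1 c' hc' t₀ hy
    rw [VarietyLib.eq_of_specializes_genericPoints ht₀ ht'']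
  have h0 : Points.map f.hom (Points.ofPt c' t₀) = Points.ofPt b v :=
    eq_of_generic hY hv (h ▸ (hts.map (Points.continuous_ofPt c')).map (Points.continuous_map f.hom))
  have hx0 : Points.ofPt c' t₀ = Points.ofPt a u := hf.bijOn.injOn hgen hx (h0.trans hfx.symm)
  have hlt : ∀ s, Points.map f.hom (Points.ofPt c' s) = Points.ofPt b v → l.left s = v := fun s hs => by
    rw [map_ofPt_square wc] at hs
    exact injective_ofPt_openImm b hb hs
  suffices t₀ = t by rw [← this, hx0]
  refine eq_of_specializes_of_integral_residue l.left hts ((hlt t₀ h0).trans (hlt t h).symm) ?_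
  -- a common etale neighbourhood with the open chart
  let W := hc'.1.pullback a
  let qW : W ⟶ U := hc'.1.snd a
  obtain ⟨pW, hpW⟩ := (yon S).map_surjective (hc'.1.fst a)
  have sqW : IsPullback ((yon S).map pW) ((yon S).map qW) c' a := hpW ▸ hc'.1.isPullback _
  haveI : Etale qW.left := hc'.property_snd _
  obtain ⟨z, hz1, hz2⟩ := exists_point_of_isPullback sqW (x := Points.ofScheme Q t₀) (y := Points.ofScheme U u)
    (by rw [← Points.ofPt_eq_map_ofScheme, ← Points.ofPt_eq_map_ofScheme, hx0])
  obtain ⟨r, rfl⟩ := (Points.schemeHomeo W).surjective z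
  have ep : pW.left r = t₀ := (Points.schemeHomeo Q).injective ((map_yon_map_ofScheme pW r).symm.trans hz1)
  have eq' : qW.left r = u := (Points.schemeHomeo U).injective ((map_yon_map_ofScheme qW r).symm.trans hz2)
  have e : pW ≫ l = qW ≫ g := by
    haveI : Mono b := Induct.mono_openImm hb
    refine (yon S).map_injective ((cancel_mono b).1 ?_)
    rw [Functor.map_comp, Functor.map_comp, Category.assoc, Category.assoc, ← wc, ← w, sqW.w_assoc]
  subst ep eq'
  haveI : IsIso (g.left.stalkMap (qW.left r)) := hiso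
  haveI := AlgSpLib.locallyQuasiFinite_of_etale qW.left
  have h1 : ((qW.left ≫ g.left).residueFieldMap r).hom.Finite := by
    rw [Scheme.residueFieldMap_comp]
    erw [CommRingCat.hom_comp]
    refine RingHom.Finite.comp (FlatMorWeight.residueFieldMap_finite qW.left r) (RingHom.Finite.of_surjective _ ?_)
    intro z
    obtain ⟨z', rfl⟩ := U.left.residue_surjective (qW.left r) z
    obtain ⟨y', rfl⟩ := (ConcreteCategory.bijective_of_isIso (g.left.stalkMap (qW.left r))).2 z'
    exact ⟨V.left.residue _ y', congr($(Scheme.residue_residueFieldMap g.left (qW.left r)).hom y')⟩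
  have h2 : ((pW.left ≫ l.left).residueFieldMap r).hom.IsIntegral := by
    rw [show pW.left ≫ l.left = qW.left ≫ g.left from congrArg (fun k => k.left) e]
    exact h1.to_isIntegral
  rw [Scheme.residueFieldMap_comp] at h2
  erw [CommRingCat.hom_comp] at h2
  exact RingHom.IsIntegral.tower_bot _ _ (RingHom.injective _) h2

end Groth.Agent.AlgSpLib.Birat
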