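import Groth.Agent.AlgSpLib.DenseScheme
import Groth.Agent.AlgSpLib.DecentMore

/-!
Decent spaces with finitely many irreducible components.
-/

universe u

open CategoryTheory CategoryTheory.Limits AlgebraicGeometry Opposite
open AlgSp

noncomputable section

namespace Groth.Agent.AlgSpLib

set_option backward.isDefEq.respectTransparency.types false

/-- finitely many irreducible closed sets covering give finitely many components -/
theorem finite_irreducibleComponents_of_cover {α : Type*} [TopologicalSpace α] {F : Set α} (hF : F.Finite)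
    (h : ∀ x, ∃ f ∈ F, f ⤳ x) : (irreducibleComponents α).Finite := by
  refine (hF.image fun f => closure ({f} : Set α)).subset fun T hT => ?_
  classical
  obtain ⟨z, hz, hsub⟩ := isIrreducible_iff_sUnion_isClosed.1 hT.1
    (hF.image fun f => closure ({f} : Set α)).toFinset
    (fun z hz => by
      obtain ⟨f, -, rfl⟩ := (Set.Finite.mem_toFinset _).1 hz
      exact isClosed_closure)
    (fun x _ => by
      obtain ⟨f, hf, hfx⟩ := h x
      exact ⟨_, Finset.mem_coe.2 ((Set.Finite.mem_toFinset _).2 ⟨f, hf, rfl⟩), hfx.mem_closure⟩)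
  obtain ⟨f, hf, rfl⟩ := (Set.Finite.mem_toFinset _).1 hz
  exact ⟨f, hf, hsub.antisymm' (hT.2 isIrreducible_singleton.closure hsub)⟩

/-- an open embedding into a space with finitely many components -/
theorem finite_irreducibleComponents_of_isOpenEmbedding {α β : Type*} [TopologicalSpace α] [TopologicalSpace β]
    {f : α → β} (hf : Topology.IsOpenEmbedding f) (h : (irreducibleComponents β).Finite) :
    (irreducibleComponents α).Finite := by
  refine (h.image fun C => f ⁻¹' C).subset fun T hT => ?_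
  obtain ⟨C, hCp, hTC, hCm⟩ := exists_preirreducible (f '' T) (hT.1.image f hf.continuous.continuousOn).2
  have hCi : IsIrreducible C := ⟨(hT.1.1.image f).mono hTC, hCp⟩
  have hCc : C ∈ irreducibleComponents β := ⟨hCi, fun D hD hCD => (hCm D hD.2 hCD).le⟩
  refine ⟨C, hCc, ?_⟩
  obtain ⟨a, ha⟩ := hT.1.1
  have hne : (C ∩ Set.range f).Nonempty := ⟨f a, hTC ⟨a, ha, rfl⟩, a, rfl⟩
  have hi : IsIrreducible (f ⁻¹' C) := hCi.preimage hf hne
  exact (hT.2 hi fun t ht => hTC ⟨t, ht, rfl⟩).antisymm fun t ht => hTC ⟨t, ht, rfl⟩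

/-- finiteness of fibres of separated etale morphisms propagates to specialisations -/
theorem finite_fibre_of_specializes {R U : Scheme.{u}} (s : R ⟶ U) [Etale s] [IsSeparated s] {e v : ↥U}
    (h : e ⤳ v) (hfin : (s ⁻¹' {e}).Finite) : (s ⁻¹' {v}).Finite := by
  classical
  choose D π p hπ hqc hp hinj hfac using fun n => exists_distinct_lifts s n
  have := locallyQuasiFinite_of_etale s
  obtain ⟨n, hn⟩ := notMem_range_of_finite s π p hπ hp hinj e hfin
  by_contra hinf
  obtain ⟨r, hr⟩ := Set.Infinite.exists_subset_card_eq (hinf : (s ⁻¹' {v}).Infinite) n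
  obtain ⟨g, hg⟩ := FlatMorWeight.exists_geomPt v
  let r' : Fin n → ↥R := fun i => (r.equivFinOfCardEq hr.2).symm i
  have hr' : ∀ i, s (r' i) = v := fun i => hr.1 ((r.equivFinOfCardEq hr.2).symm i).2
  choose f hf hfr using fun i => FlatMorWeight.exists_GP_at s g (r' i) ((hr' i).trans hg.symm)
  obtain ⟨d, hd, -⟩ := hfac n _ g f hf fun i j hij => by
    have : r' i = r' j := by rw [← hfr i, ← hfr j, hij]
    exact (r.equivFinOfCardEq hr.2).symm.injective (Subtype.ext this)
  refine hn (h.mem_open (π n).isOpenMap.isOpen_range ⟨FlatMorWeight.pt d, ?_⟩)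
  rw [← FlatMorWeight.pt_comp, hd, hg]

variable {S : Scheme.{u}} {X : Sp S}

theorem isOpenEmbedding_ofPt {G : Over S} {j : (yon S).obj G ⟶ X} (hj : RepWith @IsOpenImmersion j) :
    Topology.IsOpenEmbedding (Points.ofPt j) := by
  have : Mono j := mono_of_repWith (P := @IsOpenImmersion)
    (fun _ _ f (_ : IsOpenImmersion f) => (inferInstance : Mono f)) hj
  refine .of_continuous_injective_isOpenMap (Points.continuous_ofPt j) (fun a b hab => ?_)
    (isOpenMap_ofPt j (RepWith.mono (fun _ _ f (h : IsOpenImmersion f) => (inferInstance : Etale f)) hj))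
  rw [Points.ofPt_eq_map_ofScheme, Points.ofPt_eq_map_ofScheme] at hab
  exact (Points.schemeEquiv G).injective (injective_map_of_mono j hab)

theorem exists_dense_subscheme_of_decent (hX : IsAlgSpace X) (hd : IsDecent X)
    (hc : (irreducibleComponents (Points X)).Finite) :
    ∃ (G : Over S) (j : (yon S).obj G ⟶ X), RepWith @IsOpenImmersion j ∧
      Dense (Set.range (Points.ofPt j)) ∧ (irreducibleComponents ↥G.left).Finite ∧
      ∀ x : ↥G.left, RepWith @QuasiCompact (FieldPt.ofPt j x).toHom := by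
  obtain ⟨G, j, hj, hdense, -⟩ := exists_dense_scheme hX hd
  have hrg : Set.range (Points.map j) ⊆ Set.range (Points.ofPt j) := by
    rintro _ ⟨z, rfl⟩
    obtain ⟨w, rfl⟩ := (Points.schemeEquiv G).surjective z
    exact ⟨w, Points.ofPt_eq_map_ofScheme j w⟩
  refine ⟨G, j, hj, hdense.mono hrg,
    finite_irreducibleComponents_of_isOpenEmbedding (isOpenEmbedding_ofPt hj) hc, fun x => ?_⟩
  obtain ⟨p, hp, hm, hq⟩ := hd (Points.ofPt j x)
  exact repWith_qc_of_mono_point p.toHom hq (FieldPt.ofPt j x).toHom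
    ((ptOfHom_toHom _).trans (hp.symm.trans (ptOfHom_toHom p).symm))

/-- a dense set of points with quasi-compact representatives, finite in number -/
theorem isDecent_of_finite_dense_qc (hX : IsAlgSpace X) {W : Set (Points X)} (hW : Dense W)
    {F : Set (Points X)} (hF : F.Finite) (hWF : ∀ y ∈ W, ∃ f ∈ F, f ⤳ y) (hqc' : ∀ f ∈ F, ∃ p : FieldPt X, Points.mk p = f ∧ RepWith @QuasiCompact p.toHom) :
    IsDecent X ∧ (irreducibleComponents (Points X)).Finite := by
  classical
  have hqc : ∀ f ∈ F, HasQcPoint f := fun f hf => by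
    obtain ⟨p, hp, hq⟩ := hqc' f hf
    exact hasQcPoint_of_fieldPt p.toHom hq ((ptOfHom_toHom p).trans hp)
  refine ⟨fun x => ?_, finite_irreducibleComponents_of_cover hF fun x => ?_⟩
  swap
  · have h := closure_mono (show W ⊆ ⋃ f ∈ F, closure {f} from fun y hy => by
      obtain ⟨f, hf, h⟩ := hWF y hy
      exact Set.mem_biUnion hf h.mem_closure) (hW x)
    rw [hF.closure_biUnion] at h
    simp only [closure_closure] at h
    obtain ⟨f, hf, h⟩ := Set.mem_iUnion₂.1 h
    exact ⟨f, hf, specializes_iff_mem_closure.2 h⟩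
  have hgen : ∀ (U : Over S) (φ : (yon S).obj U ⟶ X), IsAffine U.left → RepWith @Etale φ →
      ∀ v : ↥U.left, ∃ e, Points.ofPt φ e ∈ F ∧ e ⤳ v := fun U φ hU hφ v => by
    let E := Points.ofPt φ ⁻¹' F
    have hE : E.Finite := Set.Finite.preimage' hF fun f hf => finite_preimage_ofPt (hqc f hf) φ hφ
    have h := closure_mono (show Points.ofPt φ ⁻¹' W ⊆ ⋃ e ∈ E, closure {e} from fun w hw => by
      obtain ⟨f, hf, h⟩ := hWF _ hw
      obtain ⟨e, he, hef⟩ := exists_specializes_chart (hqc f hf) φ hφ w h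
      exact Set.mem_biUnion (show e ∈ E from (show Points.ofPt φ e ∈ F by rw [hef]; exact hf)) he.mem_closure)
      ((hW.preimage (isOpenMap_ofPt φ hφ)) v)
    rw [hE.closure_biUnion] at h
    simp only [closure_closure] at h
    obtain ⟨e, he, h⟩ := Set.mem_iUnion₂.1 h
    exact ⟨e, he, specializes_iff_mem_closure.2 h⟩
  have hfib : ∀ (U R : Over S) (a : (yon S).obj U ⟶ X) (s t : R ⟶ U), IsAffine U.left → RepWith @Etale a →
      IsPullback ((yon S).map t) ((yon S).map s) a a → ∀ v, (s.left ⁻¹' {v}).Finite :=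
    fun U R a s t hU ha sqR v => by
    have : Etale s.left := ha.property _ _ _ sqR
    have : IsSeparated U.hom := inferInstance
    have : IsSeparated s.left := (repWith_isSeparated_of_isSeparated_source hX a).property _ _ _ sqR
    obtain ⟨e, he, hev⟩ := hgen U a hU ha v
    obtain ⟨p, hp, hq⟩ := hqc' _ he
    refine finite_fibre_of_specializes s.left hev ((finite_arrows_of_qc hX p.toHom hq a ha sqR).subset
      fun r hr => ?_)
    show Points.ofPt _ r = _
    rw [sqR.w, ofPt_map, ptOfHom_toHom, hp]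
    exact congrArg _ hr
  have hpre : ∀ (U : Over S) (φ : (yon S).obj U ⟶ X), IsAffine U.left → RepWith @Etale φ →
      (Points.ofPt φ ⁻¹' {x}).Finite := fun U φ hU hφ => by
    rcases Set.eq_empty_or_nonempty (Points.ofPt φ ⁻¹' {x}) with h | ⟨u, hu⟩
    · rw [h]; exact Set.finite_empty
    obtain ⟨t, ht⟩ := (yon S).map_surjective (hφ.1.fst φ)
    have sqR : IsPullback ((yon S).map t) ((yon S).map (hφ.1.snd φ)) φ φ := ht ▸ hφ.1.isPullback φ
    refine ((hfib U _ φ (hφ.1.snd φ) t hU hφ sqR u).image t.left).subset fun v hv => ?_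
    obtain ⟨r, h1, h2⟩ := (ofPt_eq_ofPt_iff sqR v u).1 ((hv : _ = x).trans (hu : _ = x).symm)
    exact ⟨r, h2, h1⟩
  refine exists_qc_mono_point hX x hpre fun U R a s t hU ha sqR => ?_
  refine ((hpre U a hU ha).preimage' fun v _ => hfib U R a s t hU ha sqR v).subset fun r hr => ?_
  show Points.ofPt a (s.left r) = x
  rw [← ofPt_map, ← sqR.w]
  exact hr

end Groth.Agent.AlgSpLib
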