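import Groth.Agent.AlgSpLib.PointsTop
import Groth.Agent.AlgSpLib.LocP
import Groth.Agent.AlgSpLib.EtLocalInst
import Groth.Agent.AlgSpLib.EtaleAscend
import Groth.Agent.AlgSpLib.DecentPoints
import Groth.Agent.Et18.EtaleLocalRing
import Groth.Agent.FBaseLib.Geom
import Groth.Agent.FlatMorGeomRed.Constr
import Groth.Prelude.Def_FDesc

/-!
Geometric reducedness of algebraic spaces over a field at a point, and products with field extensions.
-/

universe u

open CategoryTheory CategoryTheory.Limits AlgebraicGeometry
open AlgSp

noncomputable section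

namespace Groth.Agent.AlgSpLib

set_option backward.isDefEq.respectTransparency.types false

/-- geometric reducedness at a point is etale local -/
theorem isGeomReducedAt_iff_of_etale {k : Type u} [Field k] {X X' : Scheme.{u}} (h : X' ⟶ X) [Etale h]
    (f : X ⟶ Spec (CommRingCat.of k)) (x' : X') :
    FBase.IsGeomReducedAt (h ≫ f) x' ↔ FBase.IsGeomReducedAt f (h x') := by
  have key : ∀ (K : Type u) [Field K] [Algebra k K], ∃ hK : FBase.bc (h ≫ f) K ⟶ FBase.bc f K,
      Etale hK ∧ IsPullback hK (FBase.bcπ (h ≫ f) K) (FBase.bcπ f K) h := by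
    intro K _ _
    let s := Spec.map (CommRingCat.ofHom (algebraMap k K))
    let hK : pullback (h ≫ f) s ⟶ pullback f s :=
      pullback.lift (pullback.fst _ _ ≫ h) (pullback.snd _ _) (by rw [Category.assoc, pullback.condition])
    have sq : IsPullback hK (pullback.fst (h ≫ f) s) (pullback.fst f s) h :=
      IsPullback.of_right (h₁₂ := pullback.snd f s)
        (by rw [pullback.lift_snd]; exact (IsPullback.of_hasPullback (h ≫ f) s).flip)
        (pullback.lift_fst _ _ _) (IsPullback.of_hasPullback f s).flip
    exact ⟨hK, MorphismProperty.of_isPullback (P := @Etale) sq.flip inferInstance, sq⟩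
  constructor
  · intro hx K _ _ z hz
    obtain ⟨hK, he, sq⟩ := key K
    obtain ⟨w, hw1, hw2⟩ := Scheme.exists_preimage_of_isPullback sq z x' hz
    have := hx K w hw2
    rw [← hw1]
    exact (Et18.isReduced_stalk_iff_of_etale hK w).1 this
  · intro hx K _ _ w hw
    obtain ⟨hK, he, sq⟩ := key K
    refine (Et18.isReduced_stalk_iff_of_etale hK w).2 (hx K (hK w) ?_)
    rw [← hw]
    exact congr($(sq.w) w)

variable {k : Type u} [Field k]

local notation "B" => Spec (CommRingCat.of k)

variable {X : Sp (Spec (CommRingCat.of k))}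

/-- geometric reducedness at a point does not depend on the chart -/
theorem isGeomReducedAt_chart {U V : Over B} (a : (yon B).obj U ⟶ X) (ha : RepWith @Etale a)
    (b : (yon B).obj V ⟶ X) (hb : RepWith @Etale b) {u : U.left} {v : V.left}
    (he : Points.ofPt a u = Points.ofPt b v) :
    FBase.IsGeomReducedAt U.hom u ↔ FBase.IsGeomReducedAt V.hom v := by
  have sq := ha.1.isPullback' b
  obtain ⟨r, hr1, hr2⟩ := (ofPt_eq_ofPt_iff sq u v).1 he
  have : Etale (ha.1.fst' b).left := hb.property _ _ _ sq.flip
  have : Etale (ha.1.snd b).left := ha.property_snd b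
  rw [← hr1, ← hr2, ← isGeomReducedAt_iff_of_etale, ← isGeomReducedAt_iff_of_etale,
    Over.w (ha.1.fst' b), Over.w (ha.1.snd b)]

variable {S : Scheme.{u}} {F : Sp S}

/-- a chart of a product with a scheme -/
theorem exists_chart_prod_scheme (T : Over S) {U : Over S} (a : (yon S).obj U ⟶ F)
    (hae : RepWith @Etale a) :
    ∃ (W : Over S) (p₁ : W ⟶ U) (p₂ : W ⟶ T) (a' : (yon S).obj W ⟶ F ⨯ (yon S).obj T),
      RepWith @Etale a' ∧ (RepWith @Surjective a → RepWith @Surjective a') ∧
      IsPullback p₁.left p₂.left U.hom T.hom ∧ a' ≫ prod.fst = (yon S).map p₁ ≫ a ∧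
      a' ≫ prod.snd = (yon S).map p₂ := by
  let W : Over S := Over.mk (pullback.fst U.hom T.hom ≫ U.hom)
  let p₁ : W ⟶ U := Over.homMk (pullback.fst U.hom T.hom) rfl
  let p₂ : W ⟶ T := Over.homMk (pullback.snd U.hom T.hom) pullback.condition.symm
  let a' : (yon S).obj W ⟶ F ⨯ (yon S).obj T := prod.lift ((yon S).map p₁ ≫ a) ((yon S).map p₂)
  have h1 : a' ≫ prod.fst = (yon S).map p₁ ≫ a := prod.lift_fst _ _
  have h2 : a' ≫ prod.snd = (yon S).map p₂ := prod.lift_snd _ _
  have sq : IsPullback ((yon S).map p₁) a' a (prod.fst : F ⨯ (yon S).obj T ⟶ F) := by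
    refine isPullback_of_yon h1.symm fun V x y e => ?_
    obtain ⟨x, rfl⟩ := (yon S).map_surjective x
    obtain ⟨t, ht⟩ := (yon S).map_surjective (y ≫ prod.snd)
    let l : V ⟶ W := Over.homMk
      (pullback.lift x.left t.left ((Over.w x).trans (Over.w t).symm))
      (by show _ ≫ pullback.fst _ _ ≫ U.hom = _; rw [pullback.lift_fst_assoc]; exact Over.w x)
    have l1 : l ≫ p₁ = x := Over.OverMorphism.ext (pullback.lift_fst _ _ _)
    have l2 : l ≫ p₂ = t := Over.OverMorphism.ext (pullback.lift_snd _ _ _)
    refine ⟨(yon S).map l, ⟨by rw [← Functor.map_comp, l1], ?_⟩, fun m hm => ?_⟩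
    · apply Limits.prod.hom_ext
      · rw [Category.assoc, h1, ← Category.assoc, ← Functor.map_comp, l1, e]
      · rw [Category.assoc, h2, ← Functor.map_comp, l2, ht]
    · obtain ⟨m, rfl⟩ := (yon S).map_surjective m
      have m1 : m ≫ p₁ = x := (yon S).map_injective (by rw [Functor.map_comp]; exact hm.1)
      have m2 : m ≫ p₂ = t := (yon S).map_injective (by
        rw [Functor.map_comp, ht, ← hm.2, Category.assoc, h2])
      exact congrArg _ (Over.OverMorphism.ext (pullback.hom_ext
        ((congr($(m1).left)).trans (congr($(l1).left)).symm)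
        ((congr($(m2).left)).trans (congr($(l2).left)).symm)))
  exact ⟨W, p₁, p₂, a', RepWith.baseChange sq hae, fun hs => RepWith.baseChange sq hs,
    IsPullback.of_hasPullback _ _, h1, h2⟩

/-- reducedness of a space can be read on any atlas -/
theorem isReduced_of_etaleLocally (h : EtaleLocally (fun U => IsReduced U) F)
    {U : Over S} (a : (yon S).obj U ⟶ F) (ha : RepWith @Etale a) : IsReduced U.left := by
  obtain ⟨V, b, hbe, hbs, hV⟩ := h
  have sq := ha.1.isPullback' b
  have : Etale (ha.1.snd b).left := ha.property_snd b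
  have : Etale (ha.1.fst' b).left := hbe.property _ _ _ sq.flip
  have : Surjective (ha.1.fst' b).left := hbs.property _ _ _ sq.flip
  have : IsReduced V.left := hV
  have : IsReduced (ha.1.pullback b).left := isReduced_of_etale' (ha.1.snd b).left
  exact isReduced_of_flat_surjective (ha.1.fst' b).left

/-- reducedness after a field extension, on a chart -/
theorem etaleLocally_reduced_prod_iff {U : Over B} (a : (yon B).obj U ⟶ X) (hae : RepWith @Etale a)
    (has : RepWith @Surjective a) (K : Type u) [Field K] [Algebra k K] :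
    EtaleLocally (fun V => IsReduced V)
        (X ⨯ (yon B).obj (Over.mk (Spec.map (CommRingCat.ofHom (algebraMap k K))))) ↔
      IsReduced (FBase.bc U.hom K) := by
  obtain ⟨W, p₁, p₂, a', he, hs, sq, -, -⟩ :=
    exists_chart_prod_scheme (Over.mk (Spec.map (CommRingCat.ofHom (algebraMap k K)))) a hae
  let e : W.left ≅ FBase.bc U.hom K := sq.isoPullback
  constructor
  · intro h
    have := isReduced_of_etaleLocally h a' he
    exact isReduced_of_isOpenImmersion e.inv
  · intro h
    exact ⟨W, a', he, hs has, isReduced_of_isOpenImmersion e.hom⟩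

/-- geometric reducedness of a space at all points, on a chart -/
theorem forall_geomReduced_iff {U : Over B} (a : (yon B).obj U ⟶ X) (hae : RepWith @Etale a)
    (has : RepWith @Surjective a) :
    (∀ x : Points X, ∃ (V : Over B) (b : (yon B).obj V ⟶ X) (v : ↥V.left),
      RepWith @Etale b ∧ Points.ofPt b v = x ∧ FBase.IsGeomReducedAt V.hom v) ↔
      GeometricallyReduced U.hom := by
  rw [FlatMorGeomRed.geometricallyReduced_iff_forall]
  constructor
  · intro h u
    obtain ⟨V, b, v, hb, e, hv⟩ := h (Points.ofPt a u)
    exact (isGeomReducedAt_chart b hb a hae e).1 hv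
  · intro h x
    obtain ⟨u, rfl⟩ := surjective_ofPt a has x
    exact ⟨U, a, u, hae, rfl, h u⟩

end Groth.Agent.AlgSpLib

namespace Groth.Agent.AlgSpLib

set_option backward.isDefEq.respectTransparency.types false

open TensorProduct in
theorem reduced_pullback_perfectClosure_spec {k : Type u} [Field k] {A : CommRingCat.{u}}
    (a : Spec A ⟶ Spec (CommRingCat.of k))
    (h : ∀ (k' : Type u) [Field k'] [Algebra k k'], Module.Finite k k' → IsPurelyInseparable k k' →
      IsReduced (pullback a (Spec.map (CommRingCat.ofHom (algebraMap k k'))))) :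
    IsReduced (pullback a (Spec.map (CommRingCat.ofHom
      (algebraMap k (perfectClosure k (AlgebraicClosure k)))))) := by
  obtain ⟨φ, rfl⟩ := Spec.map_surjective a
  algebraize [φ.hom]
  let Ω := perfectClosure k (AlgebraicClosure k)
  have : _root_.IsReduced (A ⊗[k] Ω) := by
    refine IsReduced.tensorProduct_of_flat_of_forall_fg fun B hB => ?_
    have : Algebra.IsAlgebraic k B := ⟨fun x =>
      (isAlgebraic_algHom_iff B.val Subtype.val_injective).1 (Algebra.IsAlgebraic.isAlgebraic (x : Ω))⟩
    have hBf : IsField B := Subalgebra.isField_of_algebraic B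
    letI := hBf.toField
    have : Algebra.FiniteType k B := (Subalgebra.fg_iff_finiteType B).1 hB
    have : Module.Finite k B := Algebra.IsIntegral.finite
    have : IsPurelyInseparable k B := by
      obtain ⟨q, hq⟩ := ExpChar.exists k
      rw [isPurelyInseparable_iff_pow_mem k q]
      intro x
      obtain ⟨n, y, hy⟩ := (isPurelyInseparable_iff_pow_mem k q).1
        (inferInstance : IsPurelyInseparable k Ω) (x : Ω)
      exact ⟨n, y, Subtype.val_injective hy⟩
    have := h B inferInstance inferInstance
    have : IsReduced (Spec (CommRingCat.of (A ⊗[k] B))) :=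
      isReduced_of_isOpenImmersion (pullbackSpecIso k A B).inv
    exact isReduced_of_injective (Scheme.ΓSpecIso (CommRingCat.of (A ⊗[k] B))).inv.hom
      (Scheme.ΓSpecIso _).commRingCatIsoToRingEquiv.symm.injective
  have : IsReduced (Spec (CommRingCat.of (A ⊗[k] Ω))) := inferInstance
  exact isReduced_of_isOpenImmersion (pullbackSpecIso k A Ω).hom

/-- reducedness over all finite purely inseparable extensions gives geometric reducedness -/
theorem geometricallyReduced_of_forall_purelyInseparable {k : Type u} [Field k] {U : Scheme.{u}}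
    (f : U ⟶ Spec (CommRingCat.of k))
    (h : ∀ (k' : Type u) [Field k'] [Algebra k k'], Module.Finite k k' → IsPurelyInseparable k k' →
      IsReduced (FBase.bc f k')) : GeometricallyReduced f := by
  suffices IsReduced (pullback f (Spec.map (CommRingCat.ofHom
      (algebraMap k (perfectClosure k (AlgebraicClosure k)))))) from
    FBaseLib.geometricallyReduced_of_perfect (Ω := perfectClosure k (AlgebraicClosure k)) f
  refine @IsReduced.of_openCover _ (Scheme.Pullback.openCoverOfLeft U.affineCover f _) fun i => ?_
  show IsReduced (pullback (U.affineCover.f i ≫ f) _)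
  refine reduced_pullback_perfectClosure_spec _ fun k' _ _ h1 h2 => ?_
  have : IsReduced (pullback f (Spec.map (CommRingCat.ofHom (algebraMap k k')))) := h k' h1 h2
  let c := (Scheme.Pullback.openCoverOfLeft U.affineCover f
    (Spec.map (CommRingCat.ofHom (algebraMap k k'))))
  exact @isReduced_of_isOpenImmersion _ _ (c.f i) (c.map_prop i) this

end Groth.Agent.AlgSpLib
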