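import Groth.Agent.AlgSpLib.BiratGeneric
import Groth.Agent.AlgSpLib.SheafCoprod2
import Groth.Agent.AlgSpLib.DecentComponents
import Groth.Agent.AlgSpLib.GeomReducedPt
import Groth.Agent.S9678

/-!
Birational morphisms of decent spaces are isomorphisms over dense open subschemes.
-/

set_option autoImplicit false
universe u

open CategoryTheory CategoryTheory.Limits AlgebraicGeometry Opposite Topology
open AlgSp

noncomputable section

namespace Groth.Agent.AlgSpLib.Birat

set_option backward.isDefEq.respectTransparency.types false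

variable {S : Scheme.{u}}

theorem isOpenEmbedding_ofPt {F : Sp S} {V : Over S} (b : (yon S).obj V ⟶ F) (hb : RepWith @IsOpenImmersion b) :
    IsOpenEmbedding (Points.ofPt b) :=
  .of_continuous_injective_isOpenMap (Points.continuous_ofPt b) (injective_ofPt_openImm b hb)
    (isOpenMap_ofPt b (Induct.repWith_etale hb))

theorem generic_iff {F : Space S} (hd : IsDecent F.obj) {V : Over S} (b : (yon S).obj V ⟶ F.obj)
    (hb : RepWith @IsOpenImmersion b) (v : V.left) :
    Points.ofPt b v ∈ genericPoints (Points F.obj) ↔ v ∈ genericPoints V.left := by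
  haveI := t0Space_points F.property hd
  haveI := quasiSober_points F.property hd
  rw [VarietyLib.mem_genericPoints_iff, VarietyLib.mem_genericPoints_iff]
  have he := isOpenEmbedding_ofPt b hb
  constructor
  · exact fun h w hw => he.injective (h _ (hw.map he.continuous))
  · intro h y hy
    obtain ⟨w, rfl⟩ := hy.mem_open he.isOpen_range ⟨v, rfl⟩
    exact congrArg _ (h w (he.isInducing.specializes_iff.1 hy))

theorem dense_of_generic {α : Type*} [TopologicalSpace α] [T0Space α] [QuasiSober α] {U : Set α}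
    (h : genericPoints α ⊆ U) : Dense U := fun x => by
  obtain ⟨w, hw, hwx⟩ := VarietyLib.exists_genericPoints_specializes x
  exact closure_mono (Set.singleton_subset_iff.2 (h hw)) hwx.mem_closure

theorem mem_of_dense {X : Scheme.{u}} (hX : (irreducibleComponents (X : Type u)).Finite) {U : X.Opens}
    (hU : Dense (U : Set X)) {y : X} (hy : closure {y} ∈ irreducibleComponents (X : Type u)) : y ∈ U := by
  obtain ⟨W, hW, hWd⟩ := Misc15.exists_disjoint_nhds hX
  obtain ⟨z, hzW, hzU⟩ := hU.inter_open_nonempty _ (W y).2 ⟨y, hW y hy⟩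
  obtain ⟨w, hw, hwz⟩ := Misc15.exists_generic_specializes z
  have : w = y := by
    by_contra hne
    exact (hWd w y hw hy hne).le_bot ⟨hW w hw, hwz.mem_open (W y).2 hzW⟩
  exact this ▸ hwz.mem_open U.2 hzU

/-- isomorphic open subschemes containing the generic points -/
theorem exists_iso_opens {X Y : Space S} (f : X ⟶ Y)
    (hX : IsDecent X.obj) (hY : IsDecent Y.obj)
    (hXf : (irreducibleComponents (Points X.obj)).Finite) (hYf : (irreducibleComponents (Points Y.obj)).Finite)
    (hf : W4stk3decentspacesp2.IsBirational f.hom)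
    (h : (LocP @LocallyOfFiniteType f.hom ∧ EtaleLocally (fun T => IsReduced T) Y.obj) ∨
      LocP @LocallyOfFinitePresentation f.hom) :
    ∃ (U V : Over S) (a : (yon S).obj U ⟶ X.obj) (b : (yon S).obj V ⟶ Y.obj) (g : U ⟶ V),
      RepWith @IsOpenImmersion a ∧ RepWith @IsOpenImmersion b ∧
      a ≫ f.hom = (yon S).map g ≫ b ∧ IsIso g.left ∧
      genericPoints (Points X.obj) ⊆ Set.range (Points.ofPt a) ∧
      genericPoints (Points Y.obj) ⊆ Set.range (Points.ofPt b) := by
  classical
  obtain ⟨WY, hWYo, hWYr, hWYmax⟩ := exists_largest_scheme_open Y.property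
  obtain ⟨WX, hWXo, hWXr, hWXmax⟩ := exists_largest_scheme_open X.property
  obtain ⟨V₀, ⟨eV⟩⟩ := exists_iso_yon_of_isRepresentable hWYr
  obtain ⟨U₀, ⟨eU⟩⟩ := exists_iso_yon_of_isRepresentable hWXr
  let b₀ := eV.hom ≫ openSubspaceι Y.obj WY
  let a₀ := eU.hom ≫ openSubspaceι X.obj WX
  have hb₀ : RepWith @IsOpenImmersion b₀ :=
    RepWith.comp (repWith_of_isIso _ eV.hom) (repWith_openSubspaceι _ hWYo)
  have ha₀ : RepWith @IsOpenImmersion a₀ :=
    RepWith.comp (repWith_of_isIso _ eU.hom) (repWith_openSubspaceι _ hWXo)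
  have hmem : ∀ {F : Sp S} (W : Set (Points F)) {T : Over S} (e : (yon S).obj T ≅ openSubspace F W) (x : Points F),
      x ∈ W → x ∈ Set.range (Points.ofPt (e.hom ≫ openSubspaceι F W)) := by
    intro F W T e x hx
    obtain ⟨p, rfl⟩ := (range_openSubspaceι F W).ge hx
    obtain ⟨t, ht⟩ := (Points.schemeHomeo T).surjective (Points.map e.inv p)
    refine ⟨t, ?_⟩
    rw [Points.ofPt_eq_map_ofScheme]
    refine (congrArg (Points.map _) ht).trans ?_
    rw [← Points.map_comp, e.inv_hom_id_assoc]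
  have hYgen : genericPoints (Points Y.obj) ⊆ Set.range (Points.ofPt b₀) := fun y hy => by
    obtain ⟨x, hx, rfl⟩ := hf.bijOn.surjOn hy
    obtain ⟨U, V, a, b, g, u, ha, hb, w, hu, -⟩ := hf.stalkIso x hx
    refine hmem WY eV _ (hWYmax _ b hb (isRepresentable_of_iso_yon (Iso.refl _))
      ⟨Points.ofScheme V (g.left u), ?_⟩)
    rw [← Points.ofPt_eq_map_ofScheme, ← map_ofPt_square w, hu]
  have hXgen : genericPoints (Points X.obj) ⊆ Set.range (Points.ofPt a₀) := fun x hx => by
    obtain ⟨U, V, a, b, g, u, ha, hb, w, hu, -⟩ := hf.stalkIso x hx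
    refine hmem WX eU _ (hWXmax _ a ha (isRepresentable_of_iso_yon (Iso.refl _)) ⟨Points.ofScheme U u, ?_⟩)
    rw [← Points.ofPt_eq_map_ofScheme, hu]
  -- the open of the source over the open of the target
  let O : U₀.left.Opens := ⟨Points.ofPt (a₀ ≫ f.hom) ⁻¹' Set.range (Points.ofPt b₀),
    (isOpenEmbedding_ofPt b₀ hb₀).isOpen_range.preimage (Points.continuous_ofPt _)⟩
  let U₁ := restrictOver U₀ O
  let a₁ := (yon S).map (restrictOverι U₀ O) ≫ a₀
  have ha₁ : RepWith @IsOpenImmersion a₁ := RepWith.comp ((repWith_yon_map_iff _ _).2 inferInstance) ha₀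
  have hX1 : genericPoints (Points X.obj) ⊆ Set.range (Points.ofPt a₁) := fun x hx => by
    obtain ⟨u, rfl⟩ := hXgen hx
    have hu : u ∈ O := by
      show Points.ofPt (a₀ ≫ f.hom) u ∈ Set.range (Points.ofPt b₀)
      rw [← Points.map_ofPt]
      exact hYgen (hf.bijOn.mapsTo hx)
    obtain ⟨u', hu'⟩ : u ∈ Set.range (restrictOverι U₀ O).left := by rw [range_restrictOverι]; exact hu
    exact ⟨u', (ofPt_map _ a₀ u').trans (congrArg _ hu')⟩
  obtain ⟨l, hl⟩ := (exists_lift_iff_range_subset hb₀ (a₁ ≫ f.hom)).2 (by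
    rintro _ ⟨z, rfl⟩
    obtain ⟨u, rfl⟩ := (Points.schemeHomeo U₁).surjective z
    show Points.map _ (Points.ofScheme U₁ u) ∈ Set.range (Points.map b₀)
    rw [← Points.ofPt_eq_map_ofScheme]
    obtain ⟨v, hv⟩ : Points.ofPt (a₁ ≫ f.hom) u ∈ Set.range (Points.ofPt b₀) := by
      show Points.ofPt (((yon S).map (restrictOverι U₀ O) ≫ a₀) ≫ f.hom) u ∈ _
      rw [Category.assoc, ofPt_map]
      exact u.2
    exact ⟨Points.ofScheme V₀ v, by rw [← Points.ofPt_eq_map_ofScheme, hv]⟩)
  obtain ⟨g, rfl⟩ := (yon S).map_surjective l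
  have w₁ : a₁ ≫ f.hom = (yon S).map g ≫ b₀ := hl.symm
  -- the scheme statement
  have hcompX : ∀ u : U₁.left, closure {u} ∈ irreducibleComponents U₁.left ↔
      Points.ofPt a₁ u ∈ genericPoints (Points X.obj) := fun u => (generic_iff hX a₁ ha₁ u).symm
  have hcompY : ∀ v : V₀.left, closure {v} ∈ irreducibleComponents V₀.left ↔
      Points.ofPt b₀ v ∈ genericPoints (Points Y.obj) := fun v => (generic_iff hY b₀ hb₀ v).symm
  have hUf := finite_irreducibleComponents_of_isOpenEmbedding (isOpenEmbedding_ofPt a₁ ha₁) hXf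
  have hVf := finite_irreducibleComponents_of_isOpenEmbedding (isOpenEmbedding_ofPt b₀ hb₀) hYf
  have hbij : Set.BijOn (fun x : U₁.left => g.left.base x) {u | closure {u} ∈ irreducibleComponents U₁.left}
      {v | closure {v} ∈ irreducibleComponents V₀.left} := by
    refine ⟨fun u hu => ?_, fun u hu u' hu' e => ?_, fun v hv => ?_⟩
    · have := hf.bijOn.mapsTo ((hcompX u).1 hu)
      rw [map_ofPt_square w₁] at this
      exact (hcompY _).2 this
    · refine injective_ofPt_openImm a₁ ha₁ (hf.bijOn.injOn ((hcompX u).1 hu) ((hcompX u').1 hu') ?_)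
      rw [map_ofPt_square w₁, map_ofPt_square w₁]
      exact congrArg _ e
    · obtain ⟨x, hx, hxv⟩ := hf.bijOn.surjOn ((hcompY v).1 hv)
      obtain ⟨u, rfl⟩ := hX1 hx
      rw [map_ofPt_square w₁] at hxv
      exact ⟨u, (hcompX u).2 hx, injective_ofPt_openImm b₀ hb₀ hxv⟩
  have hiso : ∀ u : U₁.left, closure {u} ∈ irreducibleComponents U₁.left → IsIso (g.left.stalkMap u) := by
    intro u hu
    have hy : Points.ofPt b₀ (g.left u) ∈ genericPoints (Points Y.obj) := (hcompY _).1 (hbij.mapsTo hu)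
    obtain ⟨U₂, a₂, g₂, u₂, ha₂, w₂, hu₂, hiso₂, hx₂⟩ := exists_chart hY hf b₀ hb₀ _ hy
    have hxx : Points.ofPt a₂ u₂ = Points.ofPt a₁ u := hf.bijOn.injOn hx₂ ((hcompX u).1 hu)
      (by rw [map_ofPt_square w₂, map_ofPt_square w₁, hu₂])
    let R := ha₁.1.pullback a₂
    let q : R ⟶ U₂ := ha₁.1.snd a₂
    obtain ⟨p, hp⟩ := (yon S).map_surjective (ha₁.1.fst a₂)
    have sq : IsPullback ((yon S).map p) ((yon S).map q) a₁ a₂ := hp ▸ ha₁.1.isPullback _
    have hq : IsOpenImmersion q.left := ha₁.property_snd _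
    have hp' : IsOpenImmersion p.left := ha₂.property _ _ _ sq.flip
    obtain ⟨z, hz1, hz2⟩ := exists_point_of_isPullback sq (x := Points.ofScheme U₁ u) (y := Points.ofScheme U₂ u₂)
      (by rw [← Points.ofPt_eq_map_ofScheme, ← Points.ofPt_eq_map_ofScheme, hxx])
    obtain ⟨r, rfl⟩ := (Points.schemeHomeo R).surjective z
    have e1 : p.left r = u := (Points.schemeHomeo U₁).injective ((map_yon_map_ofScheme p r).symm.trans hz1)
    have e2 : q.left r = u₂ := (Points.schemeHomeo U₂).injective ((map_yon_map_ofScheme q r).symm.trans hz2)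
    have e : p ≫ g = q ≫ g₂ := by
      haveI : Mono b₀ := Induct.mono_openImm hb₀
      refine (yon S).map_injective ((cancel_mono b₀).1 ?_)
      rw [Functor.map_comp, Functor.map_comp, Category.assoc, Category.assoc, ← w₁, ← w₂, sq.w_assoc]
    subst e1 e2
    have hc : IsIso ((q.left ≫ g₂.left).stalkMap r) := by
      rw [Scheme.Hom.stalkMap_comp]; exact IsIso.comp_isIso' hiso₂ inferInstance
    rw [show q.left ≫ g₂.left = p.left ≫ g.left from congrArg (fun k => k.left) e.symm,
      Scheme.Hom.stalkMap_comp] at hc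
    haveI hpi : IsIso (p.left.stalkMap r) := inferInstance
    exact @IsIso.of_isIso_comp_right _ _ _ _ _ _ (p.left.stalkMap r) hpi hc
  have hft : (LocallyOfFiniteType g.left ∧ IsReduced V₀.left) ∨ LocallyOfFinitePresentation g.left := by
    rcases h with ⟨h1, h2⟩ | h1
    · exact Or.inl ⟨h1 a₁ b₀ g (Induct.repWith_etale ha₁) (Induct.repWith_etale hb₀) w₁,
        isReduced_of_etaleLocally h2 b₀ (Induct.repWith_etale hb₀)⟩
    · exact Or.inr (h1 a₁ b₀ g (Induct.repWith_etale ha₁) (Induct.repWith_etale hb₀) w₁)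
  obtain ⟨Uo, Vo, hUV, hUd, hVd, hres⟩ := S9678.result g.left hUf hVf hbij hiso hft
  let U := restrictOver U₁ Uo
  let V := restrictOver V₀ Vo
  let k : U ⟶ V := Over.homMk (g.left.resLE Vo Uo hUV) (by
    show g.left.resLE Vo Uo hUV ≫ Vo.ι ≫ V₀.hom = Uo.ι ≫ U₁.hom
    rw [Scheme.Hom.resLE_comp_ι_assoc, Over.w g])
  have hk : k ≫ restrictOverι V₀ Vo = restrictOverι U₁ Uo ≫ g :=
    Over.OverMorphism.ext (Scheme.Hom.resLE_comp_ι g.left hUV)
  refine ⟨U, V, (yon S).map (restrictOverι U₁ Uo) ≫ a₁, (yon S).map (restrictOverι V₀ Vo) ≫ b₀, k,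
    RepWith.comp ((repWith_yon_map_iff _ _).2 inferInstance) ha₁,
    RepWith.comp ((repWith_yon_map_iff _ _).2 inferInstance) hb₀, ?_, hres, fun x hx => ?_, fun y hy => ?_⟩
  · refine (Category.assoc _ _ _).trans ((congrArg (_ ≫ ·) w₁).trans ?_)
    refine (Category.assoc _ _ _).symm.trans (Eq.trans ?_ (Category.assoc _ _ _))
    exact congrArg (· ≫ b₀) (((yon S).map_comp _ _).symm.trans ((congrArg _ hk.symm).trans ((yon S).map_comp _ _)))
  · obtain ⟨u, rfl⟩ := hX1 hx
    obtain ⟨u', hu'⟩ : u ∈ Set.range (restrictOverι U₁ Uo).left := by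
      rw [range_restrictOverι]; exact mem_of_dense hUf hUd ((hcompX u).2 hx)
    exact ⟨u', (ofPt_map _ a₁ u').trans (congrArg _ hu')⟩
  · obtain ⟨v, rfl⟩ := hYgen hy
    obtain ⟨v', hv'⟩ : v ∈ Set.range (restrictOverι V₀ Vo).left := by
      rw [range_restrictOverι]; exact mem_of_dense hVf hVd ((hcompY v).2 hy)
    exact ⟨v', (ofPt_map _ b₀ v').trans (congrArg _ hv')⟩

end Groth.Agent.AlgSpLib.Birat
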