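import Groth.Agent.SDiv28.BlowUp
import Mathlib.RingTheory.Flat.FaithfullyFlat.Algebra

/-!
Effective Cartier ideals descend along flat surjective open maps.
-/

universe u

open CategoryTheory CategoryTheory.Limits AlgebraicGeometry
open Groth.Agent.ModPairLib (res res_res ideal_restrict res_mem_nonZeroDivisors)

noncomputable section

namespace Groth.Agent.AlgSpLib

set_option backward.isDefEq.respectTransparency.types false

variable {X Y : Scheme.{u}}

/-- effective Cartier ideals descend along flat surjections that are open maps -/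
theorem isEffCartierIdeal_of_comap (f : X ⟶ Y) [Flat f] [Surjective f] (hopen : IsOpenMap f)
    {I : Y.IdealSheafData} (h : BlowUp.IsEffCartierIdeal (I.comap f)) : BlowUp.IsEffCartierIdeal I := by
  intro y
  obtain ⟨x, rfl⟩ := f.surjective y
  obtain ⟨V₀, hxV₀, g₀, hg₀, hJ₀⟩ := h x
  obtain ⟨_, ⟨U, hU, rfl⟩, hyU, -⟩ := Y.isBasis_affineOpens.exists_subset_of_mem_open (Set.mem_univ (f x)) isOpen_univ
  obtain ⟨t, ht, hxt⟩ := V₀.2.exists_basicOpen_le (V := f ⁻¹ᵁ U) ⟨x, hyU⟩ hxV₀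
  let V := X.affineBasicOpen (U := V₀) t
  have hVV₀ : V.1 ≤ V₀.1 := X.basicOpen_le t
  let g := res hVV₀ g₀
  have hg : g ∈ nonZeroDivisors Γ(X, V.1) := res_mem_nonZeroDivisors hVV₀ hg₀
  have hJ : (I.comap f).ideal V = Ideal.span {g} := ideal_restrict _ hVV₀ hJ₀
  let φ : Γ(Y, U) →+* Γ(X, V.1) := (f.appLE U V.1 ht).hom
  have hmap : (I.comap f).ideal V = (I.ideal ⟨U, hU⟩).map φ := ProjLib.comap_ideal_eq I f ⟨U, hU⟩ V ht
  let p : Ideal Γ(X, V.1) :=
    (IsLocalRing.maximalIdeal (X.presheaf.stalk x)).comap (X.presheaf.germ V.1 x hxt).hom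
  obtain ⟨a, ha, c, hc, hac⟩ : ∃ a ∈ I.ideal ⟨U, hU⟩, ∃ c, c ∉ p ∧ c * g = φ a := by
    by_contra hcon
    push Not at hcon
    have hle : (I.ideal ⟨U, hU⟩).map φ ≤ p * Ideal.span {g} := by
      rw [Ideal.map_le_iff_le_comap]
      intro a ha
      obtain ⟨c, hc⟩ := Ideal.mem_span_singleton'.1 ((hmap.symm.trans hJ).le (Ideal.mem_map_of_mem φ ha))
      exact Ideal.mem_mul_span_singleton.2 ⟨c, by_contra fun hcp => hcon a ha c hcp hc, hc⟩
    obtain ⟨d, hd, hdg⟩ := Ideal.mem_mul_span_singleton.1 (hle ((hJ.symm.trans hmap).le (Ideal.mem_span_singleton_self g)))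
    have : d = 1 := (mul_cancel_right_mem_nonZeroDivisors hg).1 (hdg.trans (one_mul g).symm)
    subst this
    exact (Ideal.ne_top_iff_one p).1 (Ideal.comap_ne_top _ (IsLocalRing.maximalIdeal.isMaximal _).ne_top) hd
  have hxc : x ∈ X.basicOpen c := by
    rw [Scheme.mem_basicOpen X c x hxt]
    exact IsLocalRing.notMem_maximalIdeal.1 hc
  let W : Y.Opens := ⟨f '' (X.basicOpen c : Set X), hopen _ (X.basicOpen c).2⟩
  obtain ⟨r, hr, hyr⟩ := hU.exists_basicOpen_le (V := W ⊓ U) ⟨f x, ⟨x, hxc, rfl⟩, hyU⟩ hyU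
  let U' := Y.affineBasicOpen (U := ⟨U, hU⟩) r
  have hU'U : U'.1 ≤ U := Y.basicOpen_le r
  let V' := X.affineBasicOpen (U := V) (c * φ r)
  have hV'V : V'.1 ≤ V.1 := X.basicOpen_le _
  have hpre : V'.1 = X.basicOpen c ⊓ f ⁻¹ᵁ U'.1 := by
    show X.basicOpen (c * φ r) = _
    rw [Scheme.basicOpen_mul]
    have : X.basicOpen (φ r) = V.1 ⊓ f ⁻¹ᵁ U'.1 := Scheme.basicOpen_appLE f V.1 U ht r
    rw [this, ← inf_assoc, inf_eq_left.2 (X.basicOpen_le c)]
  have hle' : V'.1 ≤ f ⁻¹ᵁ U'.1 := hpre ▸ inf_le_right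
  let ψ : Γ(Y, U'.1) →+* Γ(X, V'.1) := (f.appLE U'.1 V'.1 hle').hom
  have hψ : ∀ s, ψ (res hU'U s) = res hV'V (φ s) := fun s => by
    show (Y.presheaf.map _ ≫ f.appLE U'.1 V'.1 hle') s = (f.appLE U V.1 ht ≫ X.presheaf.map _) s
    rw [Scheme.Hom.map_appLE, Scheme.Hom.appLE_map]
  have hff : ψ.FaithfullyFlat := by
    algebraize [ψ]
    haveI : Module.Flat Γ(Y, U'.1) Γ(X, V'.1) := f.flat_appLE U'.2 V'.2 hle'
    refine Module.FaithfullyFlat.of_comap_surjective fun q => ?_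
    have hq : U'.2.fromSpec q ∈ U'.1 := by
      rw [← SetLike.mem_coe, ← U'.2.range_fromSpec]; exact ⟨q, rfl⟩
    obtain ⟨x', hx', e⟩ := (hr hq).1
    have hxV' : x' ∈ V'.1 := hpre.ge ⟨hx', show f x' ∈ U'.1 from e ▸ hq⟩
    obtain ⟨q', hq'⟩ : x' ∈ Set.range V'.2.fromSpec := by rw [IsAffineOpen.range_fromSpec]; exact hxV'
    refine ⟨q', U'.2.fromSpec.isOpenEmbedding.injective ?_⟩
    rw [← e, ← hq', ← Scheme.Hom.comp_apply, ← U'.2.SpecMap_appLE_fromSpec f V'.2 hle', Scheme.Hom.comp_apply]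
    rfl
  have hcu : IsUnit (res hV'V c) := by
    refine isUnit_of_dvd_unit ⟨res hV'V (φ r), (map_mul _ _ _)⟩ ?_
    exact RingedSpace.isUnit_res_basicOpen X.toRingedSpace (c * φ r)
  have hgen : (I.comap f).ideal V' = Ideal.span {res hV'V (φ a)} := by
    rw [ideal_restrict _ hV'V hJ, ← hac, map_mul, Ideal.span_singleton_mul_left_unit hcu]
  have hnzd : res hV'V (φ a) ∈ nonZeroDivisors Γ(X, V'.1) := by
    rw [← hac, map_mul]
    exact mul_mem hcu.mem_nonZeroDivisors (res_mem_nonZeroDivisors hV'V hg)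
  refine ⟨U', hyr, res hU'U a, ?_, ?_⟩
  · rw [mem_nonZeroDivisors_iff_right]
    intro z hz
    refine hff.injective ?_
    rw [map_zero]
    refine mem_nonZeroDivisors_iff_right.1 hnzd (ψ z) ?_
    rw [← hψ, ← map_mul, hz, map_zero]
  · algebraize [ψ]
    rw [← Ideal.comap_map_eq_self_of_faithfullyFlat (B := Γ(X, V'.1)) (I.ideal U'),
      ← Ideal.comap_map_eq_self_of_faithfullyFlat (B := Γ(X, V'.1)) (Ideal.span {res hU'U a})]
    congr 1
    rw [Ideal.map_span, Set.image_singleton]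
    show (I.ideal U').map ψ = Ideal.span {ψ _}
    rw [← ProjLib.comap_ideal_eq I f U' V' hle', hgen, hψ]

end Groth.Agent.AlgSpLib
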