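import Groth.Agent.AlgSpLib.AffineDescent
import Groth.Agent.AlgSpLib.RepLocal
import Groth.Agent.Et18.Descent

/-!
Affine, finite, integral and quasi-affine morphisms, closed immersions are fpqc local on the base.
-/

universe u

open CategoryTheory CategoryTheory.Limits AlgebraicGeometry
open AlgSp

noncomputable section

namespace Groth.Agent.AlgSpLib

set_option backward.isDefEq.respectTransparency.types false

variable {S : Scheme.{u}}

section single

variable {Z V : Over S} (c : V ⟶ Z) [hZ : IsAffine Z.left] [hV : IsAffine V.left] [hc : Flat c.left]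
  [hcs : Surjective c.left] {X : Sp S} {f : X ⟶ (yon S).obj Z} {Q : Sp S} {a : Q ⟶ X}
  {b : Q ⟶ (yon S).obj V}

theorem mono_etale_of_fpqc (hX : IsAlgSpace X) (sq : IsPullback a b f ((yon S).map c))
    (hbm : Mono b) (hbe : IsEtaleMor b) : Mono f ∧ IsEtaleMor f := by
  have hQ : IsAlgSpace Q :=
    isAlgSpace_of_isPullback (IsAlgSpace.yon_obj Z).diag hX (IsAlgSpace.yon_obj V) sq
  have hs : ∀ z : ↥Z.left, ∃ j : Fin 1, z ∈ Set.range c.left := fun z => ⟨0, c.left.surjective z⟩
  refine ⟨(mono_iff_repWith_diagonal f).2 ?_,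
    (isEtaleMor_iff_locP etLocal_etale hX (IsAlgSpace.yon_obj Z) f).2 ?_⟩
  · exact repWith_diagonal_of_fpqc_family _ (fun _ : Fin 1 => c) hZ (fun _ => hV) (fun _ => hc) hs hX
      (fun _ => sq) fun _ => (mono_iff_repWith_diagonal b).1 hbm
  · exact locP_of_fpqc_family etLocal_etale (fun _ : Fin 1 => c) hZ (fun _ => hV) (fun _ => hc) hs hX
      (fun _ => sq) fun _ => (isEtaleMor_iff_locP etLocal_etale hQ (IsAlgSpace.yon_obj V) b).1 hbe

theorem isIso_of_fpqc (hX : IsAlgSpace X) (sq : IsPullback a b f ((yon S).map c)) (hb : IsIso b) :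
    IsIso f := by
  have hQ : IsAlgSpace Q :=
    isAlgSpace_of_isPullback (IsAlgSpace.yon_obj Z).diag hX (IsAlgSpace.yon_obj V) sq
  obtain ⟨h1, h2, h3⟩ := (isomorphisms_iff hQ (IsAlgSpace.yon_obj V) b).1 hb
  obtain ⟨hm, he⟩ := mono_etale_of_fpqc c hX sq h1 h2
  exact (isomorphisms_iff hX (IsAlgSpace.yon_obj Z) f).2 ⟨hm, he,
    univSubmersive_of_fpqc_family (fun _ : Fin 1 => c) hZ (fun _ => hV) (fun _ => hc)
      (fun z => ⟨0, c.left.surjective z⟩) (fun _ => sq) fun _ => h3⟩

end single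

theorem exists_yon_of_isIso {X : Sp S} {A Z : Over S} (g : X ⟶ (yon S).obj A) [IsIso g] (a : A ⟶ Z)
    {f : X ⟶ (yon S).obj Z} (h : g ≫ (yon S).map a = f) :
    IsPullback (inv g) ((yon S).map a) f (𝟙 _) := by
  refine IsPullback.of_horiz_isIso ⟨?_⟩
  rw [← h, IsIso.inv_hom_id_assoc, Category.comp_id]

/-- from a finite family to a single morphism -/
theorem exists_single_pullback {Z : Over S} {m : ℕ} {V : Fin m → Over S} (c : ∀ j, V j ⟶ Z)
    (hV : ∀ j, IsAffine (V j).left) (hc : ∀ j, Flat (c j).left)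
    (hs : ∀ z : ↥Z.left, ∃ j, z ∈ Set.range (c j).left)
    {X : Sp S} {f : X ⟶ (yon S).obj Z} {W : Fin m → Over S} {w : ∀ j, W j ⟶ V j}
    {a : ∀ j, (yon S).obj (W j) ⟶ X}
    (sq : ∀ j, IsPullback (a j) ((yon S).map (w j)) f ((yon S).map (c j))) :
    ∃ (V' : Over S) (c' : V' ⟶ Z) (W' : Over S) (w' : W' ⟶ V') (a' : (yon S).obj W' ⟶ X),
      IsAffine V'.left ∧ Flat c'.left ∧ Surjective c'.left ∧
      IsPullback a' ((yon S).map w') f ((yon S).map c') ∧
      W' = sigmaOver (fun j : ULift.{u} (Fin m) => W j.down) := by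
  let V₀ : ULift.{u} (Fin m) → Over S := fun j => V j.down
  let c' : sigmaOver V₀ ⟶ Z :=
    Over.homMk (Sigma.desc fun j : ULift.{u} (Fin m) => (c j.down).left)
      (Sigma.hom_ext _ _ fun j => by simp [sigmaOver, V₀])
  have hc' : ∀ j, sigmaOverι V₀ j ≫ c' = c j.down := fun j => Over.OverMorphism.ext (Sigma.ι_desc _ _)
  have : ∀ j, IsAffine (V₀ j).left := fun j => hV j.down
  have sq' := IsPullback.of_hasPullback f ((yon S).map c')
  have sqj : ∀ j : ULift.{u} (Fin m), IsPullback
      (sq'.lift (a j.down) ((yon S).map (w j.down) ≫ (yon S).map (sigmaOverι V₀ j)) (by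
        rw [Category.assoc, ← Functor.map_comp _ (sigmaOverι V₀ j), hc', (sq j.down).w]))
      ((yon S).map (w j.down)) (pullback.snd f ((yon S).map c')) ((yon S).map (sigmaOverι V₀ j)) :=
    fun j => IsPullback.of_right (by
      rw [sq'.lift_fst, ← Functor.map_comp, hc']; exact sq j.down) (sq'.lift_snd _ _ _) sq'
  obtain ⟨hcol⟩ := nonempty_isColimit_of_isPullback V₀ _ _ _ sqj
  let e := (isColimitYonCofan fun j : ULift.{u} (Fin m) => W j.down).coconePointUniqueUpToIso hcol
  obtain ⟨w', hw'⟩ := (yon S).map_surjective (e.hom ≫ pullback.snd f ((yon S).map c'))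
  refine ⟨_, c', _, w', e.hom ≫ pullback.fst f ((yon S).map c'),
    inferInstanceAs (IsAffine (∐ fun j => (V₀ j).left)), IsZariskiLocalAtSource.sigmaDesc fun j => hc _,
    ⟨fun z => ?_⟩, ?_, rfl⟩
  · obtain ⟨j, v, hv⟩ := hs z
    refine ⟨(sigmaOverι V₀ ⟨j⟩).left v, ?_⟩
    rw [show c'.left ((sigmaOverι V₀ ⟨j⟩).left v) = (sigmaOverι V₀ ⟨j⟩ ≫ c').left v from rfl, hc']
    exact hv
  · rw [hw']
    exact sq'.of_iso e.symm (Iso.refl _) (Iso.refl _) (Iso.refl _) (by simp) (by simp) (by simp)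
      (by simp)

theorem exists_affine_of_fpqc_family {Z : Over S} {m : ℕ} {V : Fin m → Over S} (c : ∀ j, V j ⟶ Z)
    (hZ : IsAffine Z.left) (hV : ∀ j, IsAffine (V j).left) (hc : ∀ j, Flat (c j).left)
    (hs : ∀ z : ↥Z.left, ∃ j, z ∈ Set.range (c j).left)
    {X : Sp S} (hX : IsAlgSpace X) {f : X ⟶ (yon S).obj Z} {W : Fin m → Over S}
    (hW : ∀ j, IsAffine (W j).left) {w : ∀ j, W j ⟶ V j} {a : ∀ j, (yon S).obj (W j) ⟶ X}
    (sq : ∀ j, IsPullback (a j) ((yon S).map (w j)) f ((yon S).map (c j))) :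
    ∃ (A : Over S) (i : A ⟶ Z) (fst : (yon S).obj A ⟶ X),
      IsAffine A.left ∧ IsPullback fst ((yon S).map i) f (𝟙 _) := by
  obtain ⟨V', c', W', w', a', hV', hc', hcs', sq', rfl⟩ := exists_single_pullback c hV hc hs sq
  have : IsAffine (sigmaOver fun j : ULift.{u} (Fin m) => W j.down).left := by
    have : ∀ j : ULift.{u} (Fin m), IsAffine (W j.down).left := fun j => hW _
    exact inferInstanceAs (IsAffine (∐ fun j : ULift.{u} (Fin m) => (W j.down).left))
  obtain ⟨A, i, g, A', πA, i', g', hA, hA', hgf, sqA, sqg, -, hiso⟩ :=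
    exists_affinization_of_fpqc c' hX sq'
  have : IsIso g'.left := Et18.isIso_of_isIso_appTop g'.left
  have : IsIso g' := by
    have : IsIso ((Over.forget S).map g') := ‹IsIso g'.left›
    exact isIso_of_reflects_iso _ (Over.forget S)
  have : Flat πA.left := MorphismProperty.of_isPullback (P := @Flat) (sqA.map (Over.forget S)).flip hc'
  have : Surjective πA.left :=
    MorphismProperty.of_isPullback (P := @Surjective) (sqA.map (Over.forget S)).flip hcs'
  have := isIso_of_fpqc πA hX sqg inferInstance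
  exact ⟨A, i, inv g, hA, exists_yon_of_isIso g i hgf⟩

theorem exists_quasiAffine_of_fpqc_family {Z : Over S} {m : ℕ} {V : Fin m → Over S} (c : ∀ j, V j ⟶ Z)
    (hZ : IsAffine Z.left) (hV : ∀ j, IsAffine (V j).left) (hc : ∀ j, Flat (c j).left)
    (hs : ∀ z : ↥Z.left, ∃ j, z ∈ Set.range (c j).left)
    {X : Sp S} (hX : IsAlgSpace X) {f : X ⟶ (yon S).obj Z} {W : Fin m → Over S}
    (hW : ∀ j, (W j).left.IsQuasiAffine) {w : ∀ j, W j ⟶ V j} {a : ∀ j, (yon S).obj (W j) ⟶ X}
    (sq : ∀ j, IsPullback (a j) ((yon S).map (w j)) f ((yon S).map (c j))) :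
    ∃ (A : Over S) (i : A ⟶ Z) (fst : (yon S).obj A ⟶ X),
      A.left.IsQuasiAffine ∧ IsPullback fst ((yon S).map i) f (𝟙 _) := by
  obtain ⟨V', c', W', w', a', hV', hc', hcs', sq', rfl⟩ := exists_single_pullback c hV hc hs sq
  have hWq : (sigmaOver fun j : ULift.{u} (Fin m) => W j.down).left.IsQuasiAffine := by
    let Wl := fun j : ULift.{u} (Fin m) => (W j.down).left
    have : ∀ j, (Wl j).IsQuasiAffine := fun j => hW _
    let p : ∀ j, Wl j ⟶ ∐ fun j => Spec Γ(Wl j, ⊤) := fun j =>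
      (Wl j).toSpecΓ ≫ Sigma.ι (fun j => Spec Γ(Wl j, ⊤)) j
    have : IsOpenImmersion (Sigma.desc p) := by
      refine isOpenImmersion_sigmaDesc _ _ fun i j hij => ?_
      refine Set.disjoint_left.2 fun y hy hy' => ?_
      obtain ⟨x, rfl⟩ := hy
      obtain ⟨x', hx'⟩ := hy'
      exact (disjoint_opensRange_sigmaι (fun j => Spec Γ(Wl j, ⊤)) i j hij).le_bot
        (x := (p i) x) ⟨⟨_, rfl⟩, ⟨_, hx'⟩⟩
    have : CompactSpace ↥(∐ Wl) := (sigmaMk Wl).compactSpace
    have : (∐ Wl).IsQuasiAffine := Scheme.IsQuasiAffine.of_isImmersion (Sigma.desc p)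
    exact this
  obtain ⟨A, i, g, A', πA, i', g', hA, hA', hgf, sqA, sqg, -, hiso⟩ :=
    exists_affinization_of_fpqc c' hX sq'
  have hg' : IsOpenImmersion g'.left := by
    have e := Scheme.toSpecΓ_naturality g'.left
    have : IsIso A'.left.toSpecΓ := IsAffine.affine
    rw [← cancel_mono (inv A'.left.toSpecΓ), Category.assoc, IsIso.hom_inv_id, Category.comp_id] at e
    rw [e]
    infer_instance
  have : Flat πA.left := MorphismProperty.of_isPullback (P := @Flat) (sqA.map (Over.forget S)).flip hc'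
  have : Surjective πA.left :=
    MorphismProperty.of_isPullback (P := @Surjective) (sqA.map (Over.forget S)).flip hcs'
  have hg : RepWith @IsOpenImmersion ((yon S).map g') := (repWith_yon_map_iff _ g').2 hg'
  obtain ⟨h1, h2⟩ := (repWith_isOpenImmersion_iff_mono_etale (IsAlgSpace.yon_obj _)
    (IsAlgSpace.yon_obj A') _).1 hg
  have hgo : RepWith @IsOpenImmersion g :=
    (repWith_isOpenImmersion_iff_mono_etale hX (IsAlgSpace.yon_obj A) g).2
      (mono_etale_of_fpqc πA hX sqg h1 h2)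
  have sq0 := hgo.1.isPullback (𝟙 ((yon S).obj A))
  have h0 : IsIso (hgo.1.fst (𝟙 ((yon S).obj A))) := sq0.isIso_fst_of_isIso
  have : IsOpenImmersion (hgo.1.snd (𝟙 ((yon S).obj A))).left := hgo.property_snd _
  have hXc : CompactSpace (Points X) := by
    have := surjective_map_of_flat_surjective c' hcs' sq'
    have := (Points.schemeHomeo (sigmaOver fun j : ULift.{u} (Fin m) => W j.down)).compactSpace
    exact ⟨‹Function.Surjective _›.range_eq ▸ isCompact_range (Points.continuous_map _)⟩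
  have : CompactSpace ↥(hgo.1.pullback (𝟙 ((yon S).obj A))).left := by
    have := (pointsHomeo (asIso (hgo.1.fst (𝟙 ((yon S).obj A))))).symm.compactSpace
    exact (Points.schemeHomeo _).symm.compactSpace
  refine ⟨_, hgo.1.snd (𝟙 ((yon S).obj A)) ≫ i, hgo.1.fst (𝟙 _),
    Scheme.IsQuasiAffine.of_isImmersion (hgo.1.snd (𝟙 ((yon S).obj A))).left, ?_⟩
  refine IsPullback.of_horiz_isIso ⟨?_⟩
  rw [Category.comp_id, ← hgf, ← Category.assoc, sq0.w, Category.comp_id, Functor.map_comp]

/-- representability by schemes with a property, checked over affines -/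
theorem repWith_of_affine (P : MorphismProperty Scheme.{u}) [P.IsStableUnderBaseChange]
    [IsZariskiLocalAtTarget P] {F G : Sp S} {f : F ⟶ G}
    (h : ∀ (Z : Over S), IsAffine Z.left → ∀ (g : (yon S).obj Z ⟶ G),
      ∃ (W : Over S) (w : W ⟶ Z) (fst : (yon S).obj W ⟶ F),
        IsPullback fst ((yon S).map w) f g ∧ P w.left) : RepWith P f := by
  have : P.RespectsIso := inferInstance
  have hr : Representable f := representable_of_affine f fun Z hZ g => by
    obtain ⟨W, w, fst, sq, -⟩ := h Z hZ g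
    exact ⟨W, w, fst, sq⟩
  refine MorphismProperty.relative.of_exists fun T t => ?_
  refine ⟨_, _, hr.snd t, hr.isPullback t,
    IsZariskiLocalAtTarget.of_iSup_eq_top (P := P) (fun W : T.left.affineOpens => W.1)
      (iSup_affineOpens_eq_top _) fun U => ?_⟩
  obtain ⟨W, w, fst, sq, hw⟩ := h (restrictOver T U.1) U.2 ((yon S).map (restrictOverι T U.1) ≫ t)
  let q := hr.snd t
  let Q' : Over S := restrictOver (hr.pullback t) (q.left ⁻¹ᵁ U.1)
  let q' : Q' ⟶ restrictOver T U.1 := Over.homMk (q.left ∣_ U.1)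
    ((morphismRestrict_ι_assoc _ _ _).trans (congrArg _ (Over.w q)))
  have sqO : IsPullback (restrictOverι (hr.pullback t) (q.left ⁻¹ᵁ U.1)) q' q (restrictOverι T U.1) :=
    IsPullback.of_map (Over.forget S) (Over.OverMorphism.ext (morphismRestrict_ι q.left U.1).symm)
      (isPullback_morphismRestrict q.left U.1).flip
  have sq₂ := (sqO.map (yon S)).paste_horiz (hr.isPullback t)
  obtain ⟨e, he⟩ := (yon S).map_surjective (sq₂.isoIsPullback _ _ sq).hom
  have he' : e ≫ w = q' := (yon S).map_injective (by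
    rw [Functor.map_comp, he, sq₂.isoIsPullback_hom_snd _ _ sq])
  have : IsIso e := by
    have : IsIso ((yon S).map e) := by rw [he]; infer_instance
    exact isIso_of_fully_faithful (yon S) e
  have : IsIso e.left := inferInstanceAs (IsIso ((Over.forget S).map e))
  show P (q'.left)
  rw [← he', Over.comp_left]
  exact (P.cancel_left_of_respectsIso _ _).2 hw

theorem exists_yon_of_repWith {P : MorphismProperty Scheme.{u}} {F G : Sp S} {f : F ⟶ G}
    (hf : RepWith P f) {Z : Over S} (g : (yon S).obj Z ⟶ G) :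
    ∃ (W : Over S) (w : W ⟶ Z) (fst : (yon S).obj W ⟶ F),
      IsPullback fst ((yon S).map w) f g ∧ P w.left :=
  ⟨_, _, _, hf.1.isPullback g, hf.property_snd g⟩

theorem isAffineMor_iff_repWith {F G : Sp S} (f : F ⟶ G) :
    IsAffineMor f ↔ RepWith @IsAffineHom f :=
  ⟨fun h => repWith_of_affine @IsAffineHom fun Z hZ g => by
      obtain ⟨W, w, fst, sq, hW⟩ := h hZ g
      exact ⟨W, w, fst, sq, isAffineHom_of_isAffine _⟩,
    isAffineMor_of_repWith⟩

theorem isLocalOnBase_fpqc_repWith (P : MorphismProperty Scheme.{u}) [P.IsStableUnderBaseChange]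
    [IsZariskiLocalAtTarget P] [P.DescendsAlong Et18.FPQC.{u}] (hP : P ≤ @IsAffineHom) :
    IsLocalOnBase (IsFpqcCover (S := S)) (RepWith P) := by
  refine isLocalOnBase_fpqc_of_affine _
    (fun _ _ _ _ _ _ _ _ _ _ _ _ sq h => RepWith.baseChange sq h)
    (fun X Y hX hY f h => repWith_of_affine P fun Z hZ g => ?_)
    (fun Z m V c hZ hV hc hs X f Q a b hX hQ sq hb => ?_)
  · have sq := IsPullback.of_hasPullback f g
    obtain ⟨W, w, fst, sqW, hw⟩ := exists_yon_of_repWith (h Z hZ g _ _ _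
      (isAlgSpace_of_isPullback hY.diag hX (IsAlgSpace.yon_obj Z) sq) sq) (𝟙 ((yon S).obj Z))
    exact ⟨W, w, fst ≫ pullback.fst f g, by simpa using sqW.paste_horiz sq, hw⟩
  choose W w fst sqW hw using fun j => exists_yon_of_repWith (hb j) (𝟙 ((yon S).obj (V j)))
  have sqj : ∀ j, IsPullback (fst j ≫ a j) ((yon S).map (w j)) f ((yon S).map (c j)) := fun j => by
    simpa using (sqW j).paste_horiz (sq j)
  obtain ⟨A, i, fstA, hA, sqA⟩ := exists_affine_of_fpqc_family c hZ hV hc hs hX
    (fun j => by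
      have := hV j
      have : IsAffineHom (w j).left := hP _ (hw j)
      exact isAffine_of_isAffineHom (w j).left) sqj
  have : IsIso fstA := sqA.isIso_fst_of_isIso
  have e : f = inv fstA ≫ (yon S).map i := by
    rw [← Category.comp_id ((yon S).map i), ← sqA.w, IsIso.inv_hom_id_assoc]
  rw [e]
  refine (MorphismProperty.cancel_left_of_respectsIso (RepWith P) _ _).2
    ((repWith_yon_map_iff P i).2 ?_)
  obtain ⟨W', π, r, hsq, -, -, -, -⟩ := exists_base_change_family i V c hZ hV hc hs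
  refine property_of_fpqc_family (P := P) i.left (fun j => (c j).left) hc
    (fun j => by have := hV j; infer_instance) hs fun j => ?_
  have h1 : IsPullback (π j).left (r j).left i.left (c j).left := (hsq j).map (Over.forget S)
  rw [show pullback.snd i.left (c j).left = h1.isoPullback.inv ≫ (r j).left by simp]
  refine (P.cancel_left_of_respectsIso _ _).2 ?_
  have h2 := ((hsq j).map (yon S)).paste_horiz sqA
  rw [Category.comp_id] at h2
  have hb' : RepWith P (b j) := hb j
  exact hb'.property (𝟙 _) ((sq j).lift ((yon S).map (π j) ≫ fstA) ((yon S).map (r j)) h2.w) (r j)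
    (IsPullback.of_right' (by rw [Category.id_comp]; exact h2) (sq j))

theorem isAffineMor_iff_isLocal :
    IsLocalOnBase (IsFpqcCover (S := S)) IsAffineMor :=
  haveI := Et18.descends_isAffineHom.{u}
  isLocalOnBase_congr (fun _ _ _ _ f => isAffineMor_iff_repWith f)
    (isLocalOnBase_fpqc_repWith @IsAffineHom le_rfl)

end Groth.Agent.AlgSpLib
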