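import Groth.Agent.AlgSpLib.SchDense
import Groth.Agent.AlgSpLib.EffCartierDescent
import Groth.Agent.AlgSpLib.FpqcBaseAffine
import Groth.Agent.AlgSpLib.EtLocalInst
import Groth.Agent.Desc19b.IdealDescent
import Groth.Prelude.Def_W4stk3spdivLocPr
import Groth.Prelude.Def_AlgSpModX

/-!
Effective Cartier divisors on algebraic spaces through charts.
-/

universe u

open CategoryTheory CategoryTheory.Limits AlgebraicGeometry
open AlgSp

noncomputable section

namespace Groth.Agent.AlgSpLib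

set_option backward.isDefEq.respectTransparency.types false

variable {S : Scheme.{u}} {D X : Sp S}

/-- the subscheme of the chart ideal is the pullback of the closed subspace -/
theorem exists_subscheme_chart {i : D ⟶ X} (hi : RepWith @IsClosedImmersion i) {V : Over S} (a : (yon S).obj V ⟶ X) :
    ∃ fst : (yon S).obj (Over.mk ((chartIdeal hi a).subschemeι ≫ V.hom)) ⟶ D,
      IsPullback fst ((yon S).map (Over.homMk (chartIdeal hi a).subschemeι rfl :
        Over.mk ((chartIdeal hi a).subschemeι ≫ V.hom) ⟶ V)) i a := by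
  have : IsClosedImmersion (hi.1.snd a).left := hi.property_snd a
  have hiso : IsIso (hi.1.snd a).left.toImage :=
    IsClosedImmersion.isIso_of_ker_eq _ _ _ (hi.1.snd a).left.toImage_imageι
      (by rw [Scheme.Hom.imageι, Scheme.IdealSheafData.ker_subschemeι])
  let e : hi.1.pullback a ≅ Over.mk ((chartIdeal hi a).subschemeι ≫ V.hom) :=
    Over.isoMk (@asIso _ _ _ _ (hi.1.snd a).left.toImage hiso) (by
      show (hi.1.snd a).left.toImage ≫ (hi.1.snd a).left.imageι ≫ V.hom = _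
      rw [Scheme.Hom.toImage_imageι_assoc]
      exact Over.w (hi.1.snd a))
  refine ⟨(yon S).map e.inv ≫ hi.1.fst a, (hi.1.isPullback a).of_iso ((yon S).mapIso e) (Iso.refl _)
    (Iso.refl _) (Iso.refl _) ?_ ?_ (by simp) (by simp)⟩
  · simp only [Iso.refl_hom, Category.comp_id, Functor.mapIso_hom, ← Category.assoc, ← Functor.map_comp,
      Iso.hom_inv_id, CategoryTheory.Functor.map_id, Category.id_comp]
  · simp only [Iso.refl_hom, Category.comp_id, Functor.mapIso_hom, ← Functor.map_comp]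
    congr 1
    ext : 1
    exact ((hi.1.snd a).left.toImage_imageι).symm

theorem chartIdeal_eq_ideal {i : D ⟶ X} (hi : RepWith @IsClosedImmersion i) {V : Over S}
    {a : (yon S).obj V ⟶ X} {I : V.left.IdealSheafData}
    {fst : (yon S).obj (Over.mk (I.subschemeι ≫ V.hom)) ⟶ D}
    (sq : IsPullback fst ((yon S).map (Over.homMk I.subschemeι rfl : Over.mk (I.subschemeι ≫ V.hom) ⟶ V)) i a) :
    chartIdeal hi a = I :=
  (chartIdeal_eq_of_isPullback hi sq).trans (Scheme.IdealSheafData.ker_subschemeι I)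

theorem isEffCartierSub_of_atlas {i : D ⟶ X} (hi : RepWith @IsClosedImmersion i) {V : Over S}
    {p : (yon S).obj V ⟶ X} (he : RepWith @Etale p) (hs : RepWith @Surjective p)
    (h : BlowUp.IsEffCartierIdeal (chartIdeal hi p)) : IsEffCartierSub i := by
  obtain ⟨fst, sq⟩ := exists_subscheme_chart hi p
  exact ⟨hi, V, p, _, fst, he, hs, sq, h⟩

theorem exists_atlas_of_isEffCartierSub {i : D ⟶ X} (h : IsEffCartierSub i) :
    ∃ (V : Over S) (p : (yon S).obj V ⟶ X), RepWith @Etale p ∧ RepWith @Surjective p ∧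
      BlowUp.IsEffCartierIdeal (chartIdeal h.1 p) := by
  obtain ⟨V, p, I, fst, he, hs, sq, hI⟩ := h.2
  exact ⟨V, p, he, hs, (chartIdeal_eq_ideal h.1 sq).symm ▸ hI⟩

/-- an effective Cartier divisor has effective Cartier ideal on every etale chart -/
theorem isEffCartierIdeal_chartIdeal {i : D ⟶ X} (h : IsEffCartierSub i) {U : Over S} {φ : (yon S).obj U ⟶ X}
    (hφ : RepWith @Etale φ) : BlowUp.IsEffCartierIdeal (chartIdeal h.1 φ) := by
  obtain ⟨V, p, he, hs, hI⟩ := exists_atlas_of_isEffCartierSub h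
  have sq := he.1.isPullback φ
  obtain ⟨r, hr⟩ := (yon S).map_surjective (he.1.fst φ)
  have hsq : IsPullback ((yon S).map r) ((yon S).map (he.1.snd φ)) p φ := hr ▸ sq
  have h1 : Etale r.left := hφ.property p _ _ hsq.flip
  have h2 : Etale (he.1.snd φ).left := he.property_snd φ
  have h3 : Surjective (he.1.snd φ).left := hs.property φ _ _ sq
  refine isEffCartierIdeal_of_comap (he.1.snd φ).left (he.1.snd φ).left.isOpenMap ?_
  rw [← chartIdeal_comp, ← hsq.w, chartIdeal_comp]
  exact SDiv28.isEffCartier_comap_of_flat hI r.left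

theorem isEffCartierIdeal_of_forall_nhd {Y : Scheme.{u}} {I : Y.IdealSheafData}
    (h : ∀ y : Y, ∃ (R : Scheme.{u}) (g : R ⟶ Y), Etale g ∧ y ∈ Set.range g ∧
      BlowUp.IsEffCartierIdeal (I.comap g)) : BlowUp.IsEffCartierIdeal I := by
  refine FlatMor12.BlowUpDisjoint.isEffCartierIdeal_of_cover I fun y => ?_
  obtain ⟨R, g, hg, hy, hI⟩ := h y
  let W : Y.Opens := ⟨Set.range g, g.isOpenMap.isOpen_range⟩
  let g' : R ⟶ W.toScheme := IsOpenImmersion.lift W.ι g (by rw [Scheme.Opens.range_ι]; rfl)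
  have hfac : g' ≫ W.ι = g := IsOpenImmersion.lift_fac _ _ _
  have : Etale (g' ≫ W.ι) := hfac.symm ▸ hg
  have : Etale g' := Etale.of_comp g' W.ι
  have : Surjective g' := ⟨fun ⟨w, hw⟩ => by
    obtain ⟨z, hz⟩ := hw
    exact ⟨z, W.ι.isOpenEmbedding.injective (by rw [← Scheme.Hom.comp_apply, hfac]; exact hz)⟩⟩
  refine ⟨W.toScheme, W.ι, inferInstance, by rw [Scheme.Opens.range_ι]; exact hy, ?_⟩
  refine isEffCartierIdeal_of_comap g' g'.isOpenMap ?_
  rwa [← Scheme.IdealSheafData.comap_comp, hfac]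

theorem chartIdeal_comap_open {i : D ⟶ X} (hi : RepWith @IsClosedImmersion i) {V : Over S}
    (p : (yon S).obj V ⟶ X) (U : V.left.Opens) :
    chartIdeal hi ((yon S).map (Over.homMk U.ι rfl : Over.mk (U.ι ≫ V.hom) ⟶ V) ≫ p) =
      (chartIdeal hi p).comap U.ι :=
  chartIdeal_comp hi _ p

/-- the ideal of a chart is nontrivial only over the points of the closed subspace -/
theorem mem_range_of_mem_support {i : D ⟶ X} (hi : RepWith @IsClosedImmersion i) {V : Over S}
    (p : (yon S).obj V ⟶ X) (v : V.left) :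
    v ∈ (chartIdeal hi p).support ↔ Points.ofPt p v ∈ Set.range (Points.map i) := by
  have : IsClosedImmersion (hi.1.snd p).left := hi.property_snd p
  have h : Set.range (hi.1.snd p).left = ((chartIdeal hi p).support : Set V.left) := by
    rw [chartIdeal, Scheme.Hom.support_ker]
    exact ((hi.1.snd p).left.isClosedEmbedding.isClosed_range.closure_eq).symm
  rw [← SetLike.mem_coe, ← h]
  constructor
  · rintro ⟨r, rfl⟩
    exact ⟨Points.ofPt (hi.1.fst p) r, by rw [Points.map_ofPt, (hi.1.isPullback p).w, ofPt_map]⟩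
  · rintro ⟨z, hz⟩
    rw [Points.ofPt_eq_map_ofScheme] at hz
    obtain ⟨w, -, hw⟩ := exists_point_of_isPullback (hi.1.isPullback p) hz
    obtain ⟨r, rfl⟩ := (Points.schemeEquiv _).surjective w
    exact ⟨r, (Points.schemeEquiv V).injective ((map_yon_map_ofScheme _ r).symm.trans hw)⟩

/-- effective Cartier divisors from principal charts around the points of the subspace -/
theorem isEffCartierSub_of_nhds (hX : IsAlgSpace X) {i : D ⟶ X} (hi : RepWith @IsClosedImmersion i)
    (h : ∀ x : Points D, ∃ (U : Over S) (a : (yon S).obj U ⟶ X) (u : U.left),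
      RepWith @Etale a ∧ Points.ofPt a u = Points.map i x ∧ BlowUp.IsEffCartierIdeal (chartIdeal hi a)) :
    IsEffCartierSub i := by
  obtain ⟨V, p, he, hs⟩ := hX.atlas
  refine isEffCartierSub_of_atlas hi he hs (isEffCartierIdeal_of_forall_nhd fun v => ?_)
  by_cases hv : v ∈ (chartIdeal hi p).support
  · obtain ⟨x, hx⟩ := (mem_range_of_mem_support hi p v).1 hv
    obtain ⟨U, a, u, ha, hu, hI⟩ := h x
    have sq := he.1.isPullback a
    obtain ⟨r, hr⟩ := (yon S).map_surjective (he.1.fst a)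
    have hsq : IsPullback ((yon S).map r) ((yon S).map (he.1.snd a)) p a := hr ▸ sq
    refine ⟨_, r.left, ha.property p _ _ hsq.flip, ?_, ?_⟩
    · have e : Points.map p (Points.ofScheme V v) = Points.map a (Points.ofScheme U u) := by
        rw [← Points.ofPt_eq_map_ofScheme, ← Points.ofPt_eq_map_ofScheme, hu, hx]
      obtain ⟨w, hw, -⟩ := exists_point_of_isPullback hsq e
      obtain ⟨z, rfl⟩ := (Points.schemeEquiv _).surjective w
      exact ⟨z, (Points.schemeEquiv V).injective ((map_yon_map_ofScheme _ z).symm.trans hw)⟩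
    · rw [← chartIdeal_comp, hsq.w, chartIdeal_comp]
      have : Etale (he.1.snd a).left := he.property_snd a
      exact SDiv28.isEffCartier_comap_of_flat hI _
  · let W : V.left.Opens := (chartIdeal hi p).support.compl
    refine ⟨W.toScheme, W.ι, inferInstance, ⟨⟨v, hv⟩, rfl⟩, ?_⟩
    rw [ProjLib.comap_eq_top_of_disjoint (chartIdeal hi p) W.ι
      (by rw [Scheme.Opens.range_ι]; exact Set.disjoint_left.2 fun _ h1 h2 => h1 h2)]
    exact ProjLib.isEffCartierIdeal_top

theorem isEffCartierIdeal_of_span {Y : Scheme.{u}} [IsAffine Y] {I : Y.IdealSheafData} {f : Γ(Y, ⊤)}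
    (hf : f ∈ nonZeroDivisors Γ(Y, ⊤)) (h : I.ideal ⟨⊤, isAffineOpen_top Y⟩ = Ideal.span {f}) :
    BlowUp.IsEffCartierIdeal I :=
  fun _ => ⟨⟨⊤, isAffineOpen_top Y⟩, trivial, f, hf, h⟩

theorem exists_span_on_open {Y : Scheme.{u}} {I : Y.IdealSheafData} (hI : BlowUp.IsEffCartierIdeal I) (y : Y) :
    ∃ (U : Y.affineOpens), y ∈ U.1 ∧ ∃ f : Γ(U.1.toScheme, ⊤), f ∈ nonZeroDivisors Γ(U.1.toScheme, ⊤) ∧
      (I.comap U.1.ι).ideal ⟨⊤, have : IsAffine U.1.toScheme := U.2; isAffineOpen_top _⟩ = Ideal.span {f} := by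
  obtain ⟨U, hy, f, hf, hU⟩ := hI y
  refine ⟨U, hy, ?_⟩
  have key : ∀ E : Y.affineOpens, E = U → ∃ a ∈ nonZeroDivisors Γ(Y, E.1), I.ideal E = Ideal.span {a} := by
    rintro E rfl
    exact ⟨f, hf, hU⟩
  have : IsAffine U.1.toScheme := U.2
  obtain ⟨a, ha, haI⟩ := key ⟨U.1.ι ''ᵁ ⊤, (isAffineOpen_top _).image_of_isOpenImmersion U.1.ι⟩
    (Subtype.ext (by simp))
  obtain ⟨h1, h2⟩ := FlatMor12.BlowUpDisjoint.span_transport
    (U.1.ι.appIso ⊤).symm.commRingCatIsoToRingEquiv _ ha haI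
  refine ⟨_, h1, ?_⟩
  rw [Scheme.IdealSheafData.ideal_comap_of_isOpenImmersion]
  exact h2

theorem exists_affine_nhd (hX : IsAlgSpace X) {i : D ⟶ X} (h : IsEffCartierSub i) (x : Points D) :
    ∃ (U : Over S) (_ : IsAffine U.left) (a : (yon S).obj U ⟶ X) (u : ↥U.left) (f : Γ(U.left, ⊤))
      (I : U.left.IdealSheafData) (fst : (yon S).obj (Over.mk (I.subschemeι ≫ U.hom)) ⟶ D),
      RepWith @Etale a ∧ Points.ofPt a u = Points.map i x ∧ f ∈ nonZeroDivisors Γ(U.left, ⊤) ∧
        I.ideal ⟨⊤, isAffineOpen_top U.left⟩ = Ideal.span {f} ∧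
        IsPullback fst ((yon S).map (Over.homMk I.subschemeι rfl : Over.mk (I.subschemeι ≫ U.hom) ⟶ U)) i a := by
  obtain ⟨V, p, he, hs, hI⟩ := exists_atlas_of_isEffCartierSub h
  obtain ⟨v, hv⟩ := surjective_ofPt p hs (Points.map i x)
  obtain ⟨U, hy, f, hf, hfI⟩ := exists_span_on_open hI v
  let U' : Over S := Over.mk (U.1.ι ≫ V.hom)
  let ι : U' ⟶ V := Over.homMk U.1.ι
  have hU : IsAffine U'.left := U.2
  have he' : RepWith @Etale ((yon S).map ι ≫ p) :=
    RepWith.comp ((repWith_yon_map_iff _ ι).2 (inferInstanceAs (Etale U.1.ι))) he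
  obtain ⟨fst, sq⟩ := exists_subscheme_chart h.1 ((yon S).map ι ≫ p)
  refine ⟨U', hU, (yon S).map ι ≫ p, ⟨v, hy⟩, f, _, fst, he', by rw [ofPt_map]; exact hv, hf, ?_, sq⟩
  rw [chartIdeal_comp]
  exact hfI

theorem isEffCartierSub_of_isPullback {P Y : Sp S} (hP : IsAlgSpace X) (hY : IsAlgSpace Y) {i : D ⟶ Y}
    (h : IsEffCartierSub i) {f : X ⟶ Y} (hf : LocP @Flat f) {fst : P ⟶ D} {snd : P ⟶ X}
    (sq : IsPullback fst snd i f) : IsEffCartierSub snd := by
  obtain ⟨V, p, he, hs, hI⟩ := exists_atlas_of_isEffCartierSub h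
  obtain ⟨U, q, w, hqe, hqs, hw⟩ := exists_chart_over hP hY f p he hs
  have : Flat w.left := hf q p w hqe he hw
  haveI := IsClosedImmersion.isStableUnderBaseChange.{u}
  have hc : RepWith @IsClosedImmersion snd := RepWith.baseChange sq h.1
  refine isEffCartierSub_of_atlas hc hqe hqs ?_
  rw [chartIdeal_of_isPullback h.1 sq hc, hw, chartIdeal_comp]
  exact SDiv28.isEffCartier_comap_of_flat hI w.left

theorem isAffineHom_compl_of_locPrincipal {Y : Scheme.{u}} {E : Y.IdealSheafData}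
    (hE : ∀ y ∈ E.support, ∃ U : Y.affineOpens, y ∈ U.1 ∧ ∃ f, E.ideal U = Ideal.span {f})
    (W : Y.Opens) (hW : (W : Set Y) = (E.support : Set Y)ᶜ) : IsAffineHom W.ι := by
  refine isAffineHom_of_forall_exists_isAffineOpen _ fun y => ?_
  by_cases hy : y ∈ E.support
  · obtain ⟨U, hyU, f, hfI⟩ := hE y hy
    refine ⟨U.1, hyU, U.2, ?_⟩
    rw [← W.ι.isAffineOpen_iff_of_isOpenImmersion, Scheme.Hom.image_preimage_eq_opensRange_inf,
      Scheme.Opens.opensRange_ι]
    have : W ⊓ U.1 = Y.basicOpen f := by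
      apply TopologicalSpace.Opens.ext
      rw [TopologicalSpace.Opens.coe_inf, hW]
      ext z
      constructor
      · rintro ⟨hz, hzU⟩
        by_contra hzf
        refine hz ((E.mem_support_iff_of_mem hzU).2 ?_)
        rw [hfI, Scheme.zeroLocus_span, Scheme.zeroLocus_singleton]
        exact hzf
      · intro hz
        refine ⟨fun hz' => ?_, Y.basicOpen_le f hz⟩
        have := (E.mem_support_iff_of_mem (Y.basicOpen_le f hz)).1 hz'
        rw [hfI, Scheme.zeroLocus_span, Scheme.zeroLocus_singleton] at this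
        exact this hz
    rw [this]
    exact U.2.basicOpen f
  · obtain ⟨_, ⟨U, hU, rfl⟩, hyU, hle⟩ := Y.isBasis_affineOpens.exists_subset_of_mem_open
      (show y ∈ (W : Set Y) by rw [hW]; exact hy) W.2
    refine ⟨U, hyU, hU, hU.preimage_of_isOpenImmersion W.ι ?_⟩
    rw [Scheme.Opens.opensRange_ι]
    exact hle

theorem chart_open_eq_compl {U : Sp S} {i : D ⟶ X} (hi : RepWith @IsClosedImmersion i) {j : U ⟶ X}
    (hU : Set.range (Points.map j) = (Set.range (Points.map i))ᶜ) {V : Over S} {p : (yon S).obj V ⟶ X}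
    {W : V.left.Opens} {fst : (yon S).obj (Over.mk (W.ι ≫ V.hom)) ⟶ U}
    (sq : IsPullback fst ((yon S).map (Over.homMk W.ι rfl : Over.mk (W.ι ≫ V.hom) ⟶ V)) j p) :
    (W : Set V.left) = ((chartIdeal hi p).support : Set V.left)ᶜ := by
  ext v
  rw [Set.mem_compl_iff, SetLike.mem_coe, SetLike.mem_coe, mem_range_of_mem_support hi p v, ← Set.mem_compl_iff, ← hU]
  constructor
  · intro hv
    refine ⟨Points.ofPt fst (⟨v, hv⟩ : W.toScheme), ?_⟩
    rw [Points.map_ofPt, sq.w, ofPt_map]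
    exact congrArg (Points.ofPt p) rfl
  · rintro ⟨z, hz⟩
    rw [Points.ofPt_eq_map_ofScheme] at hz
    obtain ⟨w, -, hw⟩ := exists_point_of_isPullback sq hz
    obtain ⟨r, rfl⟩ := (Points.schemeEquiv _).surjective w
    have hr : (Over.homMk W.ι rfl : Over.mk (W.ι ≫ V.hom) ⟶ V).left r = v :=
      (Points.schemeEquiv V).injective ((map_yon_map_ofScheme _ r).symm.trans hw)
    subst hr
    exact (r : W.toScheme).2

theorem isAffineMor_compl {U : Sp S} {i : D ⟶ X} (hi : RepWith @IsClosedImmersion i) {j : U ⟶ X}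
    (hj : RepWith @IsOpenImmersion j) (hU : Set.range (Points.map j) = (Set.range (Points.map i))ᶜ)
    {V : Over S} {p : (yon S).obj V ⟶ X} (he : RepWith @Etale p) (hs : RepWith @Surjective p)
    (hE : ∀ y ∈ (chartIdeal hi p).support, ∃ W : V.left.affineOpens, y ∈ W.1 ∧
      ∃ f, (chartIdeal hi p).ideal W = Ideal.span {f}) :
    IsAffineMor j := by
  obtain ⟨W, fst, sq⟩ := exists_open_chart hj p
  have := isAffineHom_compl_of_locPrincipal hE W (chart_open_eq_compl hi hU sq)
  have := isLocallySurjective_of_etale he hs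
  refine isAffineMor_of_repWith (repWith_of_isLocallySurjective hj.1 p sq _ ?_)
  exact (repWith_yon_map_iff _ _).2 (inferInstanceAs (IsAffineHom W.ι))

theorem isSchDense_compl {U : Sp S} {i : D ⟶ X} (h : IsEffCartierSub i) {j : U ⟶ X}
    (hj : RepWith @IsOpenImmersion j) (hU : Set.range (Points.map j) = (Set.range (Points.map i))ᶜ) :
    IsSchDense j := by
  obtain ⟨V, p, he, hs, hI⟩ := exists_atlas_of_isEffCartierSub h
  obtain ⟨W, fst, sq⟩ := exists_open_chart hj p
  refine ⟨hj, V, p, W, fst, he, hs, sq, ?_⟩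
  have hW : ModPair.interior (chartIdeal h.1 p) = W :=
    TopologicalSpace.Opens.ext (chart_open_eq_compl h.1 hU sq).symm
  have hd := ModPairLib.isDenseOpen_interior hI
  rw [hW] at hd
  intro O
  rw [injective_iff_map_eq_zero]
  exact hd O

theorem chartIdeal_eq_ext {Y : Scheme.{u}} {I J : Y.IdealSheafData}
    (h : ∀ U : Y.affineOpens, I.comap U.1.ι = J.comap U.1.ι) : I = J := by
  refine le_antisymm ?_ ?_ <;>
    refine Desc19b.idealSheafData_le_of_family (fun U : Y.affineOpens => U.1.ι) (fun y => ?_) fun U => ?_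
  · obtain ⟨_, ⟨U, hU, rfl⟩, hy, -⟩ := Y.isBasis_affineOpens.exists_subset_of_mem_open (Set.mem_univ y) isOpen_univ
    exact ⟨⟨U, hU⟩, ⟨y, hy⟩, rfl⟩
  · exact (h U).le
  · obtain ⟨_, ⟨U, hU, rfl⟩, hy, -⟩ := Y.isBasis_affineOpens.exists_subset_of_mem_open (Set.mem_univ y) isOpen_univ
    exact ⟨⟨U, hU⟩, ⟨y, hy⟩, rfl⟩
  · exact (h U).ge

theorem idealOfRep_eq_chartIdeal {i : D ⟶ X} (hi : RepWith @IsClosedImmersion i) (E : EtOver X)
    (hE : IsAffine E.obj.left.left) :
    (idealOfRep hi.1).ideal E hE = (chartIdeal hi E.obj.hom).ideal ⟨⊤, isAffineOpen_top E.obj.left.left⟩ := by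
  have : IsClosedImmersion (hi.1.snd E.obj.hom).left := hi.property_snd _
  rw [chartIdeal, Scheme.Hom.ker_apply]
  rfl

/-- a product of ideals cuts out the product on charts -/
theorem chartIdeal_mul {D₁ D₂ : Sp S} {I₁ I₂ : IdealEt X} {i₁ : D₁ ⟶ X} {i₂ : D₂ ⟶ X} {i : D ⟶ X}
    (h₁ : IsCutOutBy I₁ i₁) (h₂ : IsCutOutBy I₂ i₂) (hD : IsCutOutBy (I₁ * I₂) i) {V : Over S}
    {p : (yon S).obj V ⟶ X} (he : RepWith @Etale p) :
    chartIdeal hD.1 p = chartIdeal h₁.1 p * chartIdeal h₂.1 p := by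
  refine chartIdeal_eq_ext fun U => ?_
  let ι : Over.mk (U.1.ι ≫ V.hom) ⟶ V := Over.homMk U.1.ι
  have he' : RepWith @Etale ((yon S).map ι ≫ p) :=
    RepWith.comp ((repWith_yon_map_iff _ ι).2 (inferInstanceAs (Etale U.1.ι))) he
  let E : EtOver X := EtOver.mk ((yon S).map ι ≫ p) he'
  have hE : IsAffine E.obj.left.left := U.2
  rw [ModPairLib.comap_mul, ← chartIdeal_comap_open, ← chartIdeal_comap_open, ← chartIdeal_comap_open]
  have : IsAffine U.1.toScheme := U.2
  have : IsAffine (Over.mk (U.1.ι ≫ V.hom)).left := U.2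
  refine Scheme.IdealSheafData.ext_of_isAffine ?_
  have e := (idealOfRep_eq_chartIdeal hD.1 E hE).symm.trans (congrArg (fun I => IdealEt.ideal I E hE) hD.2)
  have e₁ := (idealOfRep_eq_chartIdeal h₁.1 E hE).symm.trans (congrArg (fun I => IdealEt.ideal I E hE) h₁.2)
  have e₂ := (idealOfRep_eq_chartIdeal h₂.1 E hE).symm.trans (congrArg (fun I => IdealEt.ideal I E hE) h₂.2)
  refine e.trans ?_
  rw [IdealEt.mul_ideal, ← e₁, ← e₂, Scheme.IdealSheafData.ideal_mul, Pi.mul_apply]
  rfl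

end Groth.Agent.AlgSpLib
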