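import Groth.Agent.AlgSpLib.SchImage
import Groth.Agent.AlgSpLib.EffCartierSub
import Groth.Agent.AlgSpLib.LfpSpaces
import Groth.Agent.AlgSpLib.FpqcBaseAffine2
import Groth.Agent.BlowUpLib.Proper
import Groth.Agent.S10855
import Groth.Agent.S9997
import Groth.Agent.H8Lim.IdealDescent
import Groth.Prelude.Def_W4stk3spdivBlowUp

/-!
Blowing ups of algebraic spaces are computed on etale charts.
-/

universe u

open CategoryTheory CategoryTheory.Limits AlgebraicGeometry Opposite
open AlgSp

noncomputable section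

set_option linter.style.haveILetI false

namespace Groth.Agent.AlgSpLib.BlowUpSp

open Groth.Agent.AlgSpLib

set_option backward.isDefEq.respectTransparency.types false
set_option backward.isDefEq.respectTransparency false

variable {S : Scheme.{u}} {X X' Y Z : Sp S}

/-- the chart ideal of a base change of a closed subspace -/
theorem chartIdeal_baseChange {i : Z ⟶ X} (hi : RepWith @IsClosedImmersion i) {g : Y ⟶ X} {P : Sp S}
    {fst : P ⟶ Z} {snd : P ⟶ Y} (sq : IsPullback fst snd i g) (hsnd : RepWith @IsClosedImmersion snd)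
    {U : Over S} (φ : (yon S).obj U ⟶ Y) : chartIdeal hsnd φ = chartIdeal hi (φ ≫ g) :=
  (chartIdeal_eq_of_isPullback hi ((hsnd.1.isPullback φ).paste_horiz sq)).symm

theorem effCartier_chart {i : Z ⟶ X} (hi : RepWith @IsClosedImmersion i) {g : Y ⟶ X}
    (h : InvImageIsEffCartier i g) {U : Over S} (φ : (yon S).obj U ⟶ Y) (hφ : RepWith @Etale φ) :
    BlowUp.IsEffCartierIdeal (chartIdeal hi (φ ≫ g)) := by
  obtain ⟨P, fst, snd, sq, hsnd⟩ := h
  rw [← chartIdeal_baseChange hi sq hsnd.1 φ]
  exact isEffCartierIdeal_chartIdeal hsnd hφ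

theorem invImage_of_chart {i : Z ⟶ X} (hi : RepWith @IsClosedImmersion i) (g : Y ⟶ X) {U : Over S}
    (φ : (yon S).obj U ⟶ Y) (he : RepWith @Etale φ) (hs : RepWith @Surjective φ)
    (h : BlowUp.IsEffCartierIdeal (chartIdeal hi (φ ≫ g))) : InvImageIsEffCartier i g := by
  have sq := IsPullback.of_hasPullback i g
  have hsnd : RepWith @IsClosedImmersion (pullback.snd i g) := RepWith.baseChange sq hi
  exact ⟨_, _, _, sq, isEffCartierSub_of_atlas hsnd he hs (by rwa [chartIdeal_baseChange hi sq hsnd φ])⟩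

theorem invImage_yon {i : Z ⟶ X} (hi : RepWith @IsClosedImmersion i) {V : Over S} (v : (yon S).obj V ⟶ X)
    (h : BlowUp.IsEffCartierIdeal (chartIdeal hi v)) : InvImageIsEffCartier i v :=
  invImage_of_chart hi v (𝟙 _) (repWith_of_isIso _ _) (repWith_of_isIso _ _) (by rwa [Category.id_comp])

/-- kernel pairs of etale maps from schemes can be tested on schemes -/
theorem exists_desc {W H : Sp S} {W' : Over S} {q : (yon S).obj W' ⟶ W} (hqe : RepWith @Etale q)
    (hqs : RepWith @Surjective q) (x : (yon S).obj W' ⟶ H)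
    (h : ∀ (R : Over S) (a₁ a₂ : R ⟶ W'), Etale a₁.left → (yon S).map a₁ ≫ q = (yon S).map a₂ ≫ q →
      (yon S).map a₁ ≫ x = (yon S).map a₂ ≫ x) :
    ∃ g : W ⟶ H, q ≫ g = x := by
  refine LfpSpaces.exists_desc_of_etale hqe hqs x fun g₁ g₂ e => ?_
  have sqR := hqe.1.isPullback' q
  have : Etale (hqe.1.fst' q).left :=
    (repWith_yon_map_iff @Etale _).1 (RepWith.baseChange sqR.flip hqe)
  have hR := h _ (hqe.1.fst' q) (hqe.1.snd q) this sqR.w
  have e1 := sqR.lift_fst g₁ g₂ e
  have e2 := sqR.lift_snd g₁ g₂ e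
  rw [← e1, Category.assoc, hR, ← Category.assoc, e2]

theorem epi_fst (p : Y ⟶ X) {V : Sp S} (v : V ⟶ X) (he : RepWith @Etale p) (hs : RepWith @Surjective p) :
    Epi (pullback.snd p v) :=
  epi_of_etale_surjective (RepWith.baseChange (IsPullback.of_hasPullback p v) he)
    (RepWith.baseChange (IsPullback.of_hasPullback p v) hs)

/-- maps of schemes into a chart of a blow up are unique -/
theorem hom_ext_chart {b : X' ⟶ X} {i : Z ⟶ X} (hi : RepWith @IsClosedImmersion i) {U : Over S}
    {p : (yon S).obj U ⟶ X} (he : RepWith @Etale p) (hs : RepWith @Surjective p) {B : Over S} {β : B ⟶ U}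
    {ψ : (yon S).obj B ⟶ X'} (sq : IsPullback ψ ((yon S).map β) b p)
    (hβ : BlowUp.IsBlowUp β.left (chartIdeal hi p)) {V : Over S} (m₁ m₂ : (yon S).obj V ⟶ X')
    (e : m₁ ≫ b = m₂ ≫ b) (hv : BlowUp.IsEffCartierIdeal (chartIdeal hi (m₁ ≫ b))) : m₁ = m₂ := by
  let v := m₁ ≫ b
  have sqv := he.1.isPullback v
  let V' := he.1.pullback v
  let a : V' ⟶ V := he.1.snd v
  have hae : Etale a.left := he.property_snd v
  have has : Surjective a.left := hs.property_snd v
  haveI : Epi ((yon S).map a) :=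
    epi_of_etale_surjective ((repWith_yon_map_iff @Etale a).2 hae) ((repWith_yon_map_iff @Surjective a).2 has)
  obtain ⟨u, hu⟩ := (yon S).map_surjective (he.1.fst v)
  have hw : (yon S).map u ≫ p = (yon S).map a ≫ v := by rw [hu]; exact sqv.w
  obtain ⟨n₁, hn₁⟩ := (yon S).map_surjective (sq.lift ((yon S).map a ≫ m₁) ((yon S).map u)
    (by rw [hw, Category.assoc]))
  obtain ⟨n₂, hn₂⟩ := (yon S).map_surjective (sq.lift ((yon S).map a ≫ m₂) ((yon S).map u)
    (by rw [hw, Category.assoc, ← e]))
  have h₁ : n₁ ≫ β = u := (yon S).map_injective (by rw [Functor.map_comp, hn₁, sq.lift_snd])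
  have h₂ : n₂ ≫ β = u := (yon S).map_injective (by rw [Functor.map_comp, hn₂, sq.lift_snd])
  have hc : BlowUp.IsEffCartierIdeal ((chartIdeal hi p).comap u.left) := by
    rw [← chartIdeal_comp, hw, chartIdeal_comp]
    haveI := hae
    exact Groth.Agent.S10855.result a.left _ hv
  have hn : n₁ = n₂ := Over.OverMorphism.ext ((hβ.2 _ u.left hc).unique
    (by rw [← Over.comp_left, h₁]) (by rw [← Over.comp_left, h₂]))
  rw [← cancel_epi ((yon S).map a), ← sq.lift_fst ((yon S).map a ≫ m₁) ((yon S).map u) (by rw [hw, Category.assoc]),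
    ← hn₁, hn, hn₂, sq.lift_fst]

/-- a morphism whose base change to an atlas is the blow up of the chart ideal is the blow up -/
theorem isBlowUpSp_of_chart {b : X' ⟶ X} {i : Z ⟶ X} (hX : IsAlgSpace X) (hi : RepWith @IsClosedImmersion i)
    {U : Over S} {p : (yon S).obj U ⟶ X} (he : RepWith @Etale p) (hs : RepWith @Surjective p) {B : Over S}
    {β : B ⟶ U} {ψ : (yon S).obj B ⟶ X'} (sq : IsPullback ψ ((yon S).map β) b p)
    (hβ : BlowUp.IsBlowUp β.left (chartIdeal hi p)) : IsBlowUpSp b i := by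
  refine ⟨invImage_of_chart hi b ψ (RepWith.baseChange sq.flip he) (RepWith.baseChange sq.flip hs)
    (by rw [sq.w, chartIdeal_comp]; exact hβ.1), fun W hW g hg => ?_⟩
  have sqQ := IsPullback.of_hasPullback g p
  obtain ⟨W', w, hwe, hws⟩ := (isAlgSpace_of_isPullback hX.diag hW (IsAlgSpace.yon_obj U) sqQ).atlas
  let q : (yon S).obj W' ⟶ W := w ≫ pullback.fst g p
  have hqe : RepWith @Etale q := RepWith.comp hwe (RepWith.baseChange sqQ.flip he)
  have hqs : RepWith @Surjective q := RepWith.comp hws (RepWith.baseChange sqQ.flip hs)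
  haveI := epi_of_etale_surjective hqe hqs
  obtain ⟨g', hg'⟩ := (yon S).map_surjective (w ≫ pullback.snd g p)
  have hw : q ≫ g = (yon S).map g' ≫ p := by
    rw [hg', Category.assoc, Category.assoc, pullback.condition]
  have hc : BlowUp.IsEffCartierIdeal ((chartIdeal hi p).comap g'.left) := by
    rw [← chartIdeal_comp, ← hw]; exact effCartier_chart hi hg q hqe
  obtain ⟨h₀, hh₀, -⟩ := hβ.2 _ g'.left hc
  let h' : W' ⟶ B := Over.homMk h₀ (by rw [← Over.w β, reassoc_of% hh₀, Over.w g'])
  have hh' : h' ≫ β = g' := Over.OverMorphism.ext hh₀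
  have hx : ((yon S).map h' ≫ ψ) ≫ b = q ≫ g := by
    rw [Category.assoc, sq.w, ← Category.assoc, ← Functor.map_comp, hh', hw]
  obtain ⟨h, hh⟩ := exists_desc hqe hqs ((yon S).map h' ≫ ψ) fun R a₁ a₂ ha e => by
    refine hom_ext_chart hi he hs sq hβ _ _ ?_ ?_
    · refine (Category.assoc _ _ _).trans (Eq.trans ?_ (Category.assoc _ _ _).symm)
      rw [hx, ← Category.assoc, e, Category.assoc]
    · rw [Category.assoc, hx, hw, ← Category.assoc, ← Functor.map_comp, chartIdeal_comp, Over.comp_left,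
        Scheme.IdealSheafData.comap_comp]
      haveI := ha
      exact Groth.Agent.S10855.result a₁.left _ hc
  have hhb : h ≫ b = g := by rw [← cancel_epi q, reassoc_of% hh, ← hx, Category.assoc]
  refine ⟨h, hhb, fun h₁ hh₁ => ?_⟩
  rw [← cancel_epi q]
  refine hom_ext_chart hi he hs sq hβ _ _
    ((Category.assoc _ _ _).trans ((congrArg (q ≫ ·) (hh₁.trans hhb.symm)).trans (Category.assoc _ _ _).symm)) ?_
  rw [show (q ≫ h₁) ≫ b = q ≫ g from (Category.assoc _ _ _).trans (congrArg (q ≫ ·) hh₁)]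
  exact effCartier_chart hi hg q hqe

/-- the base change of a blow up to an etale chart is the blow up of the chart ideal -/
theorem exists_chart {b : X' ⟶ X} {i : Z ⟶ X} (hX : IsAlgSpace X) (hX' : IsAlgSpace X')
    (hi : RepWith @IsClosedImmersion i) (hb : IsBlowUpSp b i)
    {U : Over S} (p : (yon S).obj U ⟶ X) (he : RepWith @Etale p) :
    ∃ (B : Over S) (β : B ⟶ U) (φ : (yon S).obj B ⟶ X'),
      IsPullback φ ((yon S).map β) b p ∧ BlowUp.IsBlowUp β.left (chartIdeal hi p) := by
  let I := chartIdeal hi p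
  let B : Over S := Over.mk (Groth.Agent.BlowUpLib.blowUpMap I ≫ U.hom)
  let β : B ⟶ U := Over.homMk (Groth.Agent.BlowUpLib.blowUpMap I) rfl
  have hβ : BlowUp.IsBlowUp β.left I := Groth.Agent.BlowUpLib.isBlowUp_blowUpMap
  have hB : InvImageIsEffCartier i ((yon S).map β ≫ p) :=
    invImage_yon hi _ (by rw [chartIdeal_comp]; exact hβ.1)
  obtain ⟨φ, hφ, -⟩ := hb.2 (IsAlgSpace.yon_obj B) _ hB
  have sqP := IsPullback.of_hasPullback b p
  have hP := isAlgSpace_of_isPullback hX.diag hX' (IsAlgSpace.yon_obj U) sqP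
  obtain ⟨W, w, hwe, hws⟩ := hP.atlas
  haveI := epi_of_etale_surjective hwe hws
  obtain ⟨g, hg⟩ := (yon S).map_surjective (w ≫ pullback.snd b p)
  have hwb : (w ≫ pullback.fst b p) ≫ b = (yon S).map g ≫ p := by
    rw [hg, Category.assoc, Category.assoc, pullback.condition]
  have hwf : RepWith @Etale (w ≫ pullback.fst b p) := RepWith.comp hwe (RepWith.baseChange sqP.flip he)
  have hWc : BlowUp.IsEffCartierIdeal (chartIdeal hi ((w ≫ pullback.fst b p) ≫ b)) :=
    effCartier_chart hi hb.1 _ hwf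
  have hgc : BlowUp.IsEffCartierIdeal (I.comap g.left) := by
    rw [← chartIdeal_comp, ← hwb]; exact hWc
  obtain ⟨h₀, hh₀, -⟩ := hβ.2 _ g.left hgc
  let h : W ⟶ B := Over.homMk h₀ (by rw [← Over.w β, reassoc_of% hh₀, Over.w g])
  have hh : h ≫ β = g := Over.OverMorphism.ext hh₀
  obtain ⟨d, hd⟩ := exists_desc hwe hws ((yon S).map h) fun R a₁ a₂ ha e => by
    rw [← Functor.map_comp, ← Functor.map_comp]
    refine congrArg _ (Over.OverMorphism.ext ?_)
    have hg₁ : (a₁ ≫ g).left = (a₂ ≫ g).left := by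
      refine congrArg _ ((yon S).map_injective ?_)
      rw [Functor.map_comp, Functor.map_comp, hg, reassoc_of% e]
    have hc : BlowUp.IsEffCartierIdeal (I.comap (a₁ ≫ g).left) := by
      rw [Over.comp_left, Scheme.IdealSheafData.comap_comp]
      haveI := ha
      exact Groth.Agent.S10855.result a₁.left _ hgc
    refine (hβ.2 _ _ hc).unique ?_ ?_
    · simp only [Over.comp_left, Category.assoc]
      exact congrArg (_ ≫ ·) hh₀
    · rw [hg₁]
      simp only [Over.comp_left, Category.assoc]
      exact congrArg (_ ≫ ·) hh₀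
  have hdβ : d ≫ (yon S).map β = pullback.snd b p := by
    rw [← cancel_epi w, reassoc_of% hd, ← Functor.map_comp, hh, hg]
  let c : (yon S).obj B ⟶ pullback b p := pullback.lift φ ((yon S).map β) hφ
  have hcd : c ≫ d = 𝟙 _ := by
    obtain ⟨n, hn⟩ := (yon S).map_surjective (c ≫ d)
    have hnβ : n ≫ β = β := (yon S).map_injective (by
      rw [Functor.map_comp, hn, Category.assoc, hdβ, pullback.lift_snd])
    have : n = 𝟙 B := Over.OverMorphism.ext ((hβ.2 _ β.left hβ.1).unique
      (by rw [← Over.comp_left, hnβ]) (by rw [← Over.comp_left, Category.id_comp]))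
    rw [← hn, this]
    exact (yon S).map_id B
  have hdc : d ≫ c = 𝟙 _ := by
    apply pullback.hom_ext
    · rw [Category.assoc, pullback.lift_fst, Category.id_comp]
      obtain ⟨k, -, hku⟩ := hb.2 hP (pullback.fst b p ≫ b)
        (invImage_of_chart hi _ w hwe hws (by rw [← Category.assoc]; exact hWc))
      rw [hku (d ≫ φ) (by
        show (d ≫ φ) ≫ b = pullback.fst b p ≫ b
        rw [Category.assoc, hφ, reassoc_of% hdβ, pullback.condition]), hku (pullback.fst b p) rfl]
    · rw [Category.assoc, pullback.lift_snd, hdβ, Category.id_comp]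
  exact ⟨B, β, φ, IsPullback.of_iso_pullback ⟨hφ⟩ ⟨c, d, hcd, hdc⟩ (pullback.lift_fst _ _ _)
    (pullback.lift_snd _ _ _), hβ⟩

/-- the ideal of a finitely presented closed subspace is of finite type -/
theorem isFiniteTypeIdeal_chartIdeal {i : Z ⟶ X}
    (hi : RepWith (@IsClosedImmersion ⊓ @LocallyOfFinitePresentation) i)
    (hi' : RepWith @IsClosedImmersion i) {U : Over S} (p : (yon S).obj U ⟶ X) :
    BlowUp.IsFiniteTypeIdeal (chartIdeal hi' p) := fun V => by
  have sq := hi.1.isPullback p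
  obtain ⟨h1, h2⟩ := hi.property_snd p
  let j := (hi.1.snd p).left
  haveI : IsClosedImmersion j := h1
  haveI : LocallyOfFinitePresentation j := h2
  rw [show chartIdeal hi' p = j.ker from chartIdeal_eq_of_isPullback hi' sq, Scheme.Hom.ker_apply]
  have h := j.finitePresentation_appLE V.2 (V.2.preimage j) le_rfl
  rw [← Scheme.Hom.app_eq_appLE] at h
  let _ := (j.app V.1).hom.toAlgebra
  have : Algebra.FinitePresentation Γ(U.left, V.1) Γ((hi.1.pullback p).left, j ⁻¹ᵁ V.1) := h
  exact Algebra.FinitePresentation.ker_fG_of_surjective (Algebra.ofId Γ(U.left, V.1) Γ((hi.1.pullback p).left, j ⁻¹ᵁ V.1))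
    (j.app_surjective V.1 V.2)

/-- a closed subspace with finite type ideal on an atlas is finitely presented -/
theorem repWith_fp_of_chartIdeal {i : Z ⟶ X} (hi : RepWith @IsClosedImmersion i) {U : Over S}
    {p : (yon S).obj U ⟶ X} (he : RepWith @Etale p) (hs : RepWith @Surjective p)
    (h : BlowUp.IsFiniteTypeIdeal (chartIdeal hi p)) :
    RepWith (@IsClosedImmersion ⊓ @LocallyOfFinitePresentation) i := by
  haveI := etLocal_lfp.localTarget
  haveI := isLocallySurjective_of_etale he hs
  haveI : IsClosedImmersion (hi.1.snd p).left := hi.property_snd p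
  have hl : RepWith @LocallyOfFinitePresentation i :=
    repWith_of_isLocallySurjective hi.1 p (hi.1.isPullback p) @LocallyOfFinitePresentation
      ((repWith_yon_map_iff @LocallyOfFinitePresentation (hi.1.snd p)).2
        (Groth.Agent.H8Lim.locallyOfFinitePresentation_of_ker_fg _ h))
  exact ⟨hi.1, fun _ _ g fst snd sq => ⟨hi.property g fst snd sq, hl.property g fst snd sq⟩⟩

theorem comap_pow {A B : Scheme.{u}} (f : A ⟶ B) (I : B.IdealSheafData) (n : ℕ) :
    (I ^ n).comap f = (I.comap f) ^ n := by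
  induction n with
  | zero =>
    rw [pow_zero, pow_zero, show (1 : B.IdealSheafData) = ⊤ from rfl, show (1 : A.IdealSheafData) = ⊤ from rfl]
    exact Scheme.IdealSheafData.comap_top _
  | succ k ih => rw [pow_succ, pow_succ, ModPairLib.comap_mul, ih]

end Groth.Agent.AlgSpLib.BlowUpSp
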