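import Groth.Agent.AlgSpLib.SheafDescent
import Groth.Agent.AlgSpLib.RepBySpLemmas
import Groth.Agent.AlgSpLib.MonoLft
import Groth.Agent.AlgSpLib.LocPMore
import Groth.Agent.AlgSpLib.RepLocal
import Groth.Agent.AlgSpLib.FpqcBaseAffine
import Groth.Agent.AlgSpLib.FppfLocal
import Groth.Agent.Et18.Descent

/-!
Representability by schemes descends along maps representable by algebraic spaces, surjective, flat and locally of
finite presentation, for separated locally quasi-finite morphisms.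
-/

universe u

open CategoryTheory CategoryTheory.Limits AlgebraicGeometry Opposite
open AlgSp

noncomputable section

namespace Groth.Agent.AlgSpLib

set_option backward.isDefEq.respectTransparency.types false

variable {S : Scheme.{u}}

/-- points with values in an affine scheme lift fppf locally -/
theorem exists_affine_lift_of_fppf {F G : Sp S} (g : F ⟶ G)
    (hg : RepBySpWith (IsSurjectiveMor ⊓ LocP @Flat ⊓ LocP @LocallyOfFinitePresentation) g.hom) {T : Over S}
    [IsAffine T.left] (ξ : (yon S).obj T ⟶ G) :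
    ∃ (V : Over S) (c : V ⟶ T) (ζ : (yon S).obj V ⟶ F), IsAffine V.left ∧ Flat c.left ∧
      LocallyOfFinitePresentation c.left ∧ Surjective c.left ∧ ζ ≫ g = (yon S).map c ≫ ξ := by
  have sq := IsPullback.of_hasPullback g ξ
  obtain ⟨hs, hP, ⟨hsur, hfl⟩, hfp⟩ := hg ξ.hom _ _ (sq.map (sheafToPresheaf (J S) (Type (u + 1))))
  have hP' : IsAlgSpace (pullback g ξ) := hP
  have hsur' : Function.Surjective (Points.map (pullback.snd g ξ)) := hsur
  have hfl' : LocP @Flat (pullback.snd g ξ) := hfl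
  have hfp' : LocP @LocallyOfFinitePresentation (pullback.snd g ξ) := hfp
  obtain ⟨U, a, hae, has⟩ := hP'.atlas
  obtain ⟨l, hl⟩ := (yon S).map_surjective (a ≫ pullback.snd g ξ)
  have wl : a ≫ pullback.snd g ξ = (yon S).map l ≫ 𝟙 _ := by rw [Category.comp_id, hl]
  have : Flat l.left := hfl' a (𝟙 _) l hae (repWith_id _ _) wl
  have : LocallyOfFinitePresentation l.left := hfp' a (𝟙 _) l hae (repWith_id _ _) wl
  have hls : Function.Surjective l.left := ((surjective_map_yon_map_iff l).1 (by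
    rw [hl]
    intro y
    obtain ⟨z, rfl⟩ := hsur' y
    obtain ⟨u, rfl⟩ := surjective_ofPt a has z
    exact ⟨Points.ofScheme U u, by rw [Points.map_comp, ← Points.ofPt_eq_map_ofScheme]⟩)).surj
  -- finitely many affine opens cover
  obtain ⟨t, ht⟩ := CompactSpace.isCompact_univ.elim_finite_subcover
    (fun O : U.left.affineOpens => l.left '' (O.1 : Set U.left))
    (fun O => l.left.isOpenMap _ O.1.isOpen) (fun y _ => by
      obtain ⟨x, rfl⟩ := hls y
      obtain ⟨O, hO, hxO, -⟩ := exists_isAffineOpen_mem_and_subset (x := x) (U := ⊤) trivial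
      exact Set.mem_iUnion.2 ⟨⟨O, hO⟩, x, hxO, rfl⟩)
  let O : U.left.Opens := ⨆ i ∈ t, (i.1 : U.left.Opens)
  have hOc : IsCompact (O : Set U.left) := by
    rw [show (O : Set U.left) = ⋃ i ∈ t, ((i.1 : U.left.Opens) : Set U.left) by simp [O]]
    exact t.finite_toSet.isCompact_biUnion fun i _ => i.2.isCompact
  let W : Over S := Over.mk (O.ι ≫ U.hom)
  have : CompactSpace ↥W.left := isCompact_iff_compactSpace.1 hOc
  obtain ⟨V, r, hV, hre, hrs⟩ := exists_affine_surjective_etale W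
  let j : W ⟶ U := Over.homMk O.ι
  have hjO : IsOpenImmersion j.left := inferInstanceAs (IsOpenImmersion O.ι)
  refine ⟨V, r ≫ j ≫ l, (yon S).map (r ≫ j) ≫ a ≫ pullback.fst g ξ, hV,
    (inferInstance : Flat (r.left ≫ j.left ≫ l.left)),
    (inferInstance : LocallyOfFinitePresentation (r.left ≫ j.left ≫ l.left)), ⟨fun y => ?_⟩, ?_⟩
  · obtain ⟨i, hi, x, hx, rfl⟩ := Set.mem_iUnion₂.1 (ht (Set.mem_univ y))
    obtain ⟨v, hv⟩ := hrs.surj (⟨x, TopologicalSpace.Opens.mem_iSup.2 ⟨i,
      TopologicalSpace.Opens.mem_iSup.2 ⟨hi, hx⟩⟩⟩ : ↥W.left)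
    refine ⟨v, ?_⟩
    show (r.left ≫ j.left ≫ l.left) v = _
    rw [Scheme.Hom.comp_apply, Scheme.Hom.comp_apply, hv]
    rfl
  · rw [Category.assoc, Category.assoc, pullback.condition, ← reassoc_of% hl]
    simp only [Functor.map_comp, Category.assoc]

/-- representability of separated lqf morphisms is fppf local on the target -/
theorem repWith_of_fppf_local {H G : Sp S} (b : H ⟶ G)
    (h : ∀ (T : Over S), IsAffine T.left → ∀ (ξ : (yon S).obj T ⟶ G),
      ∃ (V : Over S) (c : V ⟶ T) (W : Over S) (w : W ⟶ V) (fst : (yon S).obj W ⟶ H),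
        IsAffine V.left ∧ Flat c.left ∧ LocallyOfFinitePresentation c.left ∧ Surjective c.left ∧
        IsSeparated w.left ∧ LocallyQuasiFinite w.left ∧ LocallyOfFiniteType w.left ∧
        IsPullback fst ((yon S).map w) b ((yon S).map c ≫ ξ)) :
    RepWith @IsSeparated b ∧ RepWith (@LocallyQuasiFinite ⊓ @LocallyOfFiniteType) b := by
  have main : ∀ (Z : Over S), IsAffine Z.left → ∀ (ξ : (yon S).obj Z ⟶ G),
      ∃ (W : Over S) (w : W ⟶ Z) (fst : (yon S).obj W ⟶ H), IsPullback fst ((yon S).map w) b ξ ∧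
        (IsSeparated w.left ∧ (LocallyQuasiFinite w.left ∧ LocallyOfFiniteType w.left)) := by
    intro Z hZ ξ
    obtain ⟨V, c, W, w, fst, hV, hcf, hcp, hcs, hws, hwq, hwt, sqW⟩ := h Z hZ ξ
    have sqP := IsPullback.of_hasPullback b ξ
    let π : (yon S).obj W ⟶ pullback b ξ := sqP.lift fst ((yon S).map w ≫ (yon S).map c) (by
      rw [sqW.w, Category.assoc])
    have sqπ : IsPullback π ((yon S).map w) (pullback.snd b ξ) ((yon S).map c) :=
      IsPullback.of_right (h₁₂ := pullback.fst b ξ) (by rw [sqP.lift_fst]; exact sqW) (sqP.lift_snd _ _ _) sqP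
    obtain ⟨P, ⟨e⟩⟩ := exists_iso_yon_of_fppf_descent c w sqπ
    obtain ⟨p, hp⟩ := (yon S).map_surjective (e.hom ≫ pullback.snd b ξ)
    refine ⟨P, p, e.hom ≫ pullback.fst b ξ,
      sqP.of_iso e.symm (Iso.refl _) (Iso.refl _) (Iso.refl _) (by simp) (by simp [hp]) (by simp) (by simp), ?_⟩
    have sqS : IsPullback (π ≫ e.inv) ((yon S).map w) ((yon S).map p) ((yon S).map c) :=
      sqπ.of_iso (Iso.refl _) e.symm (Iso.refl _) (Iso.refl _) (by simp) (by simp) (by simp [hp]) (by simp)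
    obtain ⟨q, hq⟩ := (yon S).map_surjective (π ≫ e.inv)
    rw [← hq] at sqS
    have sqL : IsPullback q.left w.left p.left c.left :=
      (IsPullback.of_map (yon S) ((yon S).map_injective (by simpa using sqS.w)) sqS).map (Over.forget S)
    have hcq : QuasiCompact c.left := inferInstance
    have hQ : (@Surjective ⊓ @Flat ⊓ @QuasiCompact : MorphismProperty Scheme.{u}) c.left := ⟨⟨hcs, hcf⟩, hcq⟩
    have := Et18.descends_isSeparated.{u}
    have := Et18.descends_locallyQuasiFinite.{u}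
    exact ⟨MorphismProperty.of_isPullback_of_descendsAlong sqL.flip hQ hws,
      MorphismProperty.of_isPullback_of_descendsAlong
        (P := (@LocallyQuasiFinite ⊓ @LocallyOfFiniteType : MorphismProperty Scheme.{u})) sqL.flip hQ ⟨hwq, hwt⟩⟩
  exact ⟨repWith_of_affine _ fun Z hZ ξ => by
      obtain ⟨W, w, fst, sq, h1, -⟩ := main Z hZ ξ
      exact ⟨W, w, fst, sq, h1⟩,
    repWith_of_affine _ fun Z hZ ξ => by
      obtain ⟨W, w, fst, sq, -, h2⟩ := main Z hZ ξ
      exact ⟨W, w, fst, sq, h2⟩⟩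

/-- `S10098` -/
theorem repWith_of_isPullback_fppf {E F G H : Sp S} {a : E ⟶ F} {f : E ⟶ H} {g : F ⟶ G} {b : H ⟶ G}
    (sq : IsPullback a f g b)
    (hg : RepBySpWith (IsSurjectiveMor ⊓ LocP @Flat ⊓ LocP @LocallyOfFinitePresentation) g.hom)
    (ha : RepBySpWith (IsSeparatedMor ⊓ LocP (@LocallyQuasiFinite ⊓ @LocallyOfFiniteType)) a.hom) :
    RepWith @IsSeparated b ∧ RepWith (@LocallyQuasiFinite ⊓ @LocallyOfFiniteType) b := by
  refine repWith_of_fppf_local b fun T hT ξ => ?_
  obtain ⟨V, c, ζ, hV, hcf, hcp, hcs, hζ⟩ := exists_affine_lift_of_fppf g hg ξ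
  have sqP := IsPullback.of_hasPullback a ζ
  obtain ⟨hs, hP, hsep, hq⟩ := ha ζ.hom _ _ (sqP.map (sheafToPresheaf (J S) (Type (u + 1))))
  have hP' : IsAlgSpace (pullback a ζ) := hP
  have hsep' : IsSeparatedMor (pullback.snd a ζ) := hsep
  have hq' : LocP (@LocallyQuasiFinite ⊓ @LocallyOfFiniteType) (pullback.snd a ζ) := hq
  obtain ⟨W, ⟨e⟩⟩ := exists_iso_yon_of_lqf_separated hP' (pullback.snd a ζ) hsep' hq'
  obtain ⟨w, hw⟩ := (yon S).map_surjective (e.hom ≫ pullback.snd a ζ)
  have h2 := hq' e.hom (𝟙 _) w (repWith_of_isIso _ _) (repWith_id _ _) (by rw [Category.comp_id, hw])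
  have hws : IsSeparated w.left := (isSeparatedMor_yon_map_iff w).1
    (by rw [hw]; exact isSeparatedMor_comp (isSeparatedMor_of_mono e.hom) hsep')
  have sqW : IsPullback (e.hom ≫ pullback.fst a ζ ≫ f) ((yon S).map w) b ((yon S).map c ≫ ξ) := by
    rw [← hζ]
    exact (sqP.paste_horiz sq.flip).of_iso e.symm (Iso.refl _) (Iso.refl _) (Iso.refl _) (by simp)
      (by simp [hw]) (by simp) (by simp)
  exact ⟨V, c, W, w, _, hV, hcf, hcp, hcs, hws, h2.1, h2.2, sqW⟩

/-- the diagonal of a sheaf with an fppf cover by an algebraic space -/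
theorem representable_diag_of_fppf_cover {F : Sp S} {X : Sp S} (hX : IsAlgSpace X) (p : X ⟶ F)
    (hp : RepBySpWith (IsSurjectiveMor ⊓ LocP @Flat ⊓ LocP @LocallyOfFinitePresentation) p.hom) :
    Representable (Limits.diag F) := by
  refine (repWith_of_fppf_local (Limits.diag F) fun T hT ξ => ?_).1.1
  obtain ⟨V₁, c₁, ζ₁, hV₁, hf₁, hp₁, hs₁, e₁⟩ := exists_affine_lift_of_fppf p hp (ξ ≫ prod.fst)
  obtain ⟨V, c₂, ζ₂, hV, hf₂, hp₂, hs₂, e₂⟩ :=
    exists_affine_lift_of_fppf p hp ((yon S).map c₁ ≫ ξ ≫ prod.snd)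
  let x₁ := (yon S).map c₂ ≫ ζ₁
  let c := c₂ ≫ c₁
  have hξ : (yon S).map c ≫ ξ = prod.lift (x₁ ≫ p) (ζ₂ ≫ p) := by
    apply Limits.prod.hom_ext
    · rw [prod.lift_fst]
      simp only [c, x₁, Functor.map_comp, Category.assoc, e₁]
    · rw [prod.lift_snd]
      simp only [c, Functor.map_comp, Category.assoc, e₂]
  -- the points of `X` over the second point
  have sqQ := IsPullback.of_hasPullback p (ζ₂ ≫ p)
  obtain ⟨hQs, hQ, ⟨-, -⟩, hQl⟩ := hp (ζ₂ ≫ p).hom _ _ (sqQ.map (sheafToPresheaf (J S) (Type (u + 1))))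
  have hQ' : IsAlgSpace (pullback p (ζ₂ ≫ p)) := hQ
  have hQl' : LocP @LocallyOfFinitePresentation (pullback.snd p (ζ₂ ≫ p)) := hQl
  have hXV := isAlgSpace_prod hX (IsAlgSpace.yon_obj V)
  let m : pullback p (ζ₂ ≫ p) ⟶ X ⨯ (yon S).obj V := prod.lift (pullback.fst _ _) (pullback.snd _ _)
  have m1 : m ≫ prod.fst = pullback.fst p (ζ₂ ≫ p) := prod.lift_fst _ _
  have m2 : m ≫ prod.snd = pullback.snd p (ζ₂ ≫ p) := prod.lift_snd _ _
  have : Mono m := ⟨fun u v e => pullback.hom_ext (by rw [← m1, reassoc_of% e])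
    (by rw [← m2, reassoc_of% e])⟩
  have hml : LocP @LocallyOfFiniteType m := by
    refine locP_of_comp' (Q := ⊤) etLocal_lft hQ' hXV (IsAlgSpace.yon_obj V)
      (fun A B C g₁ g₂ h _ => by
        have : LocallyOfFiniteType (g₁ ≫ g₂) := h
        exact locallyOfFiniteType_of_comp g₁ g₂) (g := prod.snd) ?_ (locP_top _)
    rw [prod.lift_snd]
    exact locP_mono (fun _ _ g (_ : LocallyOfFinitePresentation g) => (inferInstance : LocallyOfFiniteType g)) hQl'
  obtain ⟨hmr, -, hmq⟩ := mono_lft_package hQ' hXV hml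
  have hmq' := (repWith_iff_locP etLocal_lqf hQ' hXV hmr).2 hmq
  let γ : (yon S).obj V ⟶ X ⨯ (yon S).obj V := prod.lift x₁ (𝟙 _)
  have sW := hmr.isPullback γ
  let W := hmr.pullback γ
  let w := hmr.snd γ
  have h2 := hmq'.property _ _ _ sW
  have hw : Mono w.left := (repWith_monomorphisms_of_mono hmr).property _ _ _ sW
  have k1 : hmr.fst γ ≫ pullback.fst p (ζ₂ ≫ p) = (yon S).map w ≫ x₁ := by
    rw [← m1, reassoc_of% sW.w, prod.lift_fst]
  have k2 : hmr.fst γ ≫ pullback.snd p (ζ₂ ≫ p) = (yon S).map w := by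
    rw [← m2, reassoc_of% sW.w, prod.lift_snd, Category.comp_id]
  have key : (yon S).map w ≫ x₁ ≫ p = (yon S).map w ≫ ζ₂ ≫ p := by
    rw [← reassoc_of% k1, sqQ.w, reassoc_of% k2]
  refine ⟨V, c, W, w, (yon S).map w ≫ x₁ ≫ p, hV, (inferInstance : Flat (c₂.left ≫ c₁.left)),
    (inferInstance : LocallyOfFinitePresentation (c₂.left ≫ c₁.left)),
    (inferInstance : Surjective (c₂.left ≫ c₁.left)), inferInstance, h2.1, h2.2, ?_⟩
  rw [hξ]
  refine isPullback_of_yon ?_ fun Z u v huv => ?_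
  · apply Limits.prod.hom_ext
    · simp only [Category.assoc]
      rw [prod.lift_fst, prod.lift_fst, Category.comp_id]
    · simp only [Category.assoc]
      rw [prod.lift_snd, prod.lift_snd, Category.comp_id, key]
  · have h1 : u = v ≫ x₁ ≫ p := by
      have h := congrArg (· ≫ prod.fst) huv
      simp only [Category.assoc] at h
      rwa [prod.lift_fst, prod.lift_fst, Category.comp_id] at h
    have h3 : u = v ≫ ζ₂ ≫ p := by
      have h := congrArg (· ≫ prod.snd) huv
      simp only [Category.assoc] at h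
      rwa [prod.lift_snd, prod.lift_snd, Category.comp_id] at h
    let y := sqQ.lift (v ≫ x₁) v (by rw [Category.assoc, ← h1, ← h3])
    obtain ⟨l, hl⟩ : ∃ l, l ≫ (yon S).map w = v := ⟨sW.lift y v (by
      apply Limits.prod.hom_ext
      · rw [Category.assoc, Category.assoc, m1, sqQ.lift_fst, prod.lift_fst]
      · rw [Category.assoc, Category.assoc, m2, sqQ.lift_snd, prod.lift_snd, Category.comp_id]), sW.lift_snd _ _ _⟩
    have : Mono w := (Over.forget S).mono_of_mono_map (f := w) hw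
    refine ⟨l, ⟨?_, hl⟩, fun l' hl' => (cancel_mono ((yon S).map w)).1 (hl'.2.trans hl.symm)⟩
    rw [← Category.assoc, hl, ← h1]

/-- a sheaf covered by an algebraic space by a surjective etale map representable by algebraic spaces -/
theorem isAlgSpace_of_repBySp_etale_surjective {F X : Sp S} (hX : IsAlgSpace X) (p : X ⟶ F)
    (hp : RepBySpWith (IsSurjectiveMor ⊓ IsEtaleMor) p.hom) : IsAlgSpace F := by
  have hp' : RepBySpWith (IsSurjectiveMor ⊓ LocP @Flat ⊓ LocP @LocallyOfFinitePresentation) p.hom :=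
    fun U ξ F' fst snd sq => by
      obtain ⟨hs, hP, h1, h2⟩ := hp ξ fst snd sq
      have hl := (isEtaleMor_iff_locP etLocal_etale hP (IsAlgSpace.yon_obj U) _).1 h2
      exact ⟨hs, hP, ⟨h1, locP_mono (fun _ _ g (_ : Etale g) => (inferInstance : Flat g)) hl⟩,
        locP_mono (fun _ _ g (_ : Etale g) => (inferInstance : LocallyOfFinitePresentation g)) hl⟩
  have hd := representable_diag_of_fppf_cover hX p hp'
  obtain ⟨U, a, hae, has⟩ := hX.atlas
  have hr : Representable (a ≫ p) := Functor.relativelyRepresentable.of_diag hd _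
  have key : ∀ (T : Over S) (ξ : (yon S).obj T ⟶ F), Etale (hr.snd ξ).left ∧ Surjective (hr.snd ξ).left := by
    intro T ξ
    have sqX := IsPullback.of_hasPullback p ξ
    obtain ⟨hs, hP, h1, h2⟩ := hp ξ.hom _ _ (sqX.map (sheafToPresheaf (J S) (Type (u + 1))))
    have h2' : IsEtaleMor (pullback.snd p ξ) := h2
    have h1' : Function.Surjective (Points.map (pullback.snd p ξ)) := h1
    let y := sqX.lift (hr.fst ξ ≫ a) ((yon S).map (hr.snd ξ)) (by rw [Category.assoc, hr.w ξ])
    have ey : y ≫ pullback.snd p ξ = (yon S).map (hr.snd ξ) := sqX.lift_snd _ _ _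
    have sqy : IsPullback (hr.fst ξ) y a (pullback.fst p ξ) :=
      IsPullback.of_bot (by rw [ey]; exact hr.isPullback ξ) (sqX.lift_fst _ _ _).symm sqX
    have hye : RepWith @Etale y := RepWith.baseChange sqy hae
    refine ⟨(repWith_yon_map_iff @Etale _).1 ?_, (surjective_map_yon_map_iff _).1 ?_⟩
    · rw [← ey]
      exact h2' y hye
    · rw [← ey]
      intro t
      obtain ⟨z, rfl⟩ := h1' t
      obtain ⟨w, rfl⟩ := surjective_map_of_isPullback sqy
        (fun x => let ⟨u, hu⟩ := surjective_ofPt a has x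
          ⟨Points.ofScheme U u, by rw [← Points.ofPt_eq_map_ofScheme, hu]⟩) z
      exact ⟨w, Points.map_comp _ _ _⟩
  have rep : ∀ {P : MorphismProperty Scheme.{u}} [P.IsStableUnderBaseChange],
      (∀ (T : Over S) (ξ : (yon S).obj T ⟶ F), P (hr.snd ξ).left) → RepWith P (a ≫ p) := fun {P} _ h =>
    MorphismProperty.relative.of_exists fun T ξ => ⟨_, _, _, hr.isPullback ξ, h T ξ⟩
  exact ⟨hd, U, a ≫ p, rep fun T ξ => (key T ξ).1, rep fun T ξ => (key T ξ).2⟩

end Groth.Agent.AlgSpLib
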