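import Groth.Agent.AlgSpLib.FpqcBaseAffine
import Groth.Agent.AlgSpLib.EqvQuot
import Groth.Agent.AlgSpLib.ClosedSub
import Groth.Agent.AlgSpLib.UnivBdd
import Mathlib.AlgebraicGeometry.Sites.Fpqc

/-!
Quotients of affine schemes by equivalence relations cartesian over an etale covering of affine schemes.
-/

universe u

open CategoryTheory CategoryTheory.Limits AlgebraicGeometry Opposite
open AlgSp

noncomputable section

namespace Groth.Agent.AlgSpLib

set_option backward.isDefEq.respectTransparency.types false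

/-- an equivalence relation which is cartesian over an etale covering has an affine quotient scheme -/
theorem exists_affine_quot_cartesian {U R V W : Scheme.{u}} [IsAffine U] [IsAffine V] [IsAffine W]
    (s t : R ⟶ U) [Etale s] [Etale t] (c : V ⟶ W) [Etale c] [Surjective c] (v : U ⟶ V)
    (hc : t ≫ v ≫ c = s ≫ v ≫ c) (sqc : IsPullback t (s ≫ v) (v ≫ c) c)
    (hinj : ∀ (T : Scheme.{u}) (r r' : T ⟶ R), r ≫ t = r' ≫ t → r ≫ s = r' ≫ s → r = r')
    (heq : ∀ T : Scheme.{u}, _root_.Equivalence (fun a b : T ⟶ U => ∃ r : T ⟶ R, r ≫ t = a ∧ r ≫ s = b)) :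
    ∃ (A : Scheme.{u}) (π : U ⟶ A), IsAffine A ∧ Etale π ∧ Surjective π ∧ IsPullback t s π π := by
  let U' : Over W := Over.mk (v ≫ c)
  let R' : Over W := Over.mk (t ≫ v ≫ c)
  let V' : Over W := Over.mk c
  let B : Over W := Over.mk (𝟙 W)
  let tW : R' ⟶ U' := Over.homMk t rfl
  let sW : R' ⟶ U' := Over.homMk s hc.symm
  let vW : U' ⟶ V' := Over.homMk v rfl
  let cW : V' ⟶ B := Over.homMk c (Category.comp_id _)
  let uB : U' ⟶ B := Over.homMk (v ≫ c) (Category.comp_id _)
  have hEqv : IsEqvRel sW tW := by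
    refine ⟨fun T r r' h1 h2 => Over.OverMorphism.ext
      (hinj T.left r.left r'.left (congrArg (fun m => m.left) h1) (congrArg (fun m => m.left) h2)), fun T => ?_⟩
    have key : ∀ a b : T ⟶ U', (∃ r : T ⟶ R', r ≫ tW = a ∧ r ≫ sW = b) ↔
        ∃ r : T.left ⟶ R, r ≫ t = a.left ∧ r ≫ s = b.left := fun a b =>
      ⟨fun ⟨r, h1, h2⟩ => ⟨r.left, congrArg (fun m => m.left) h1, congrArg (fun m => m.left) h2⟩,
        fun ⟨r, h1, h2⟩ => ⟨Over.homMk (U := T) (V := R') r (by
          show r ≫ t ≫ v ≫ c = T.hom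
          rw [← Category.assoc, h1]
          exact Over.w a), Over.OverMorphism.ext h1, Over.OverMorphism.ext h2⟩⟩
    exact ⟨fun a => (key a a).2 ((heq _).refl _), fun {a b} h => (key b a).2 ((heq _).symm ((key a b).1 h)),
      fun {a b d} h h' => (key a d).2 ((heq _).trans ((key a b).1 h) ((key b d).1 h'))⟩
  have hEt : IsEtaleEqvRel sW tW := ⟨hEqv, ‹Etale s›, ‹Etale t›⟩
  have hpres := isPresentation_quotSp hEt
  have hQ := isAlgSpace_quotSp hEt
  let π := quotSpπ ((yon W).map sW) ((yon W).map tW)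
  have hpe : RepWith @Etale π := hpres.etale
  have hps : RepWith @Surjective π := hpres.surjective
  have sqπ : IsPullback ((yon W).map tW) ((yon W).map sW) π π := hpres.isPullback
  have hwU : sW ≫ uB = tW ≫ uB := Over.OverMorphism.ext hc.symm
  let g : quotSp ((yon W).map sW) ((yon W).map tW) ⟶ (yon W).obj B :=
    quotSpDesc ((yon W).map uB) (by rw [← Functor.map_comp, hwU, Functor.map_comp])
  have hg : π ≫ g = (yon W).map uB := quotSpπ_desc (s := (yon W).map sW) (t := (yon W).map tW) _ _
  have hvc : vW ≫ cW = uB := Over.OverMorphism.ext rfl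
  have s1 : IsPullback ((yon W).map tW) ((yon W).map (sW ≫ vW)) (π ≫ g) ((yon W).map cW) := by
    rw [hg]
    have sqcW : IsPullback tW (sW ≫ vW) uB cW :=
      IsPullback.of_map (Over.forget W) (Over.OverMorphism.ext sqc.w) sqc
    exact sqcW.map (yon W)
  have sqP := IsPullback.of_hasPullback g ((yon W).map cW)
  let σ : (yon W).obj U' ⟶ pullback g ((yon W).map cW) :=
    pullback.lift π ((yon W).map vW) (by rw [hg, ← Functor.map_comp, hvc])
  let q : (yon W).obj R' ⟶ pullback g ((yon W).map cW) :=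
    pullback.lift ((yon W).map tW ≫ π) ((yon W).map (sW ≫ vW)) (by rw [Category.assoc]; exact s1.w)
  have sqq : IsPullback ((yon W).map tW) q π (pullback.fst g ((yon W).map cW)) :=
    IsPullback.of_bot (by rw [pullback.lift_snd]; exact s1) (pullback.lift_fst _ _ _).symm sqP
  have : Epi q := epi_of_etale_surjective (RepWith.baseChange sqq hpe) (RepWith.baseChange sqq hps)
  have hqσ : (yon W).map sW ≫ σ = q := pullback.hom_ext
    (by rw [Category.assoc, pullback.lift_fst, pullback.lift_fst, sqπ.w])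
    (by rw [Category.assoc, pullback.lift_snd, pullback.lift_snd, Functor.map_comp])
  have : Epi ((yon W).map sW ≫ σ) := by rw [hqσ]; infer_instance
  have : Epi σ := epi_of_epi ((yon W).map sW) σ
  have : Mono σ := ⟨fun {T} a b h => by
    have h1 := congrArg (· ≫ pullback.fst g ((yon W).map cW)) h
    have h2 := congrArg (· ≫ pullback.snd g ((yon W).map cW)) h
    simp only [σ, Category.assoc, pullback.lift_fst, pullback.lift_snd] at h1 h2
    let d := sqπ.lift (𝟙 _) (𝟙 _) rfl
    have e : sqπ.lift a b h1 = a ≫ d := s1.hom_ext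
      (by rw [sqπ.lift_fst, Category.assoc, sqπ.lift_fst, Category.comp_id])
      (by rw [Functor.map_comp, ← Category.assoc, sqπ.lift_snd, Category.assoc, ← Category.assoc d,
        sqπ.lift_snd, Category.id_comp, h2])
    have := congrArg (· ≫ (yon W).map sW) e
    simp only [Category.assoc] at this
    rw [sqπ.lift_snd, sqπ.lift_snd, Category.comp_id] at this
    exact this.symm⟩
  have : IsIso σ := isIso_of_mono_of_epi σ
  have sqV : IsPullback π ((yon W).map vW) g ((yon W).map cW) :=
    sqP.of_iso (asIso σ).symm (Iso.refl _) (Iso.refl _) (Iso.refl _) (by simp [σ, pullback.lift_fst]) (by simp [σ, pullback.lift_snd]) (by simp) (by simp)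
  obtain ⟨A, i, fst, hA, sqA⟩ := exists_affine_of_fpqc_family (fun _ : Fin 1 => cW) (inferInstanceAs (IsAffine W))
    (fun _ => (inferInstanceAs (IsAffine V))) (fun _ => (inferInstanceAs (Flat c)))
    (fun z => ⟨0, c.surjective z⟩) hQ (fun _ => (inferInstanceAs (IsAffine U))) (fun _ => sqV)
  have : IsIso fst := sqA.isIso_fst_of_isIso
  obtain ⟨π', hπ'⟩ := (yon W).map_surjective (π ≫ inv fst)
  have h1 : RepWith @Etale ((yon W).map π') := by
    rw [hπ']; exact (MorphismProperty.cancel_right_of_respectsIso (RepWith @Etale) _ _).2 hpe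
  have h2 : RepWith @Surjective ((yon W).map π') := by
    rw [hπ']; exact (MorphismProperty.cancel_right_of_respectsIso (RepWith @Surjective) _ _).2 hps
  have sq' : IsPullback ((yon W).map tW) ((yon W).map sW) ((yon W).map π') ((yon W).map π') := by
    rw [hπ']
    exact sqπ.of_iso (Iso.refl _) (Iso.refl _) (Iso.refl _) (asIso fst).symm (by simp) (by simp) (by simp) (by simp)
  exact ⟨A.left, π'.left, hA, (repWith_yon_map_iff _ _).1 h1, (repWith_yon_map_iff _ _).1 h2,
    (isPullback_of_map_yon sq').map (Over.forget W)⟩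

variable {S : Scheme.{u}}

/-- a space with an affine chart whose relation is cartesian over an etale covering is affine -/
theorem exists_affine_of_cartesian_chart {X : Sp S} {U R : Over S} [IsAffine U.left]
    {p : (yon S).obj U ⟶ X} (he : RepWith @Etale p) (hs : RepWith @Surjective p) {s t : R ⟶ U}
    (sq : IsPullback ((yon S).map t) ((yon S).map s) p p) {V W : Scheme.{u}} [IsAffine V] [IsAffine W]
    (c : V ⟶ W) [Etale c] [Surjective c] (v : U.left ⟶ V)
    (hc : t.left ≫ v ≫ c = s.left ≫ v ≫ c) (sqc : IsPullback t.left (s.left ≫ v) (v ≫ c) c) :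
    ∃ T : Over S, IsAffine T.left ∧ Nonempty ((yon S).obj T ≅ X) := by
  have hp := isPresentation_of_isPullback he hs sq
  have := hp.eqvRel.etale_left
  have := hp.eqvRel.etale_right
  have hh : t.left ≫ U.hom = s.left ≫ U.hom := (Over.w t).trans (Over.w s).symm
  have hr := hp.eqvRel.toIsEqvRel
  obtain ⟨A, π, hA, hπe, hπs, sqA⟩ := exists_affine_quot_cartesian s.left t.left c v hc sqc
    (fun T r r' h1 h2 => by
      have hr1 : r' ≫ R.hom = r ≫ R.hom := by
        rw [← Over.w t, ← Category.assoc, ← h1, Category.assoc]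
      exact congrArg (fun m => m.left) (hr.injective (Over.mk (r ≫ R.hom)) (Over.homMk r)
        (Over.homMk r' hr1) (Over.OverMorphism.ext h1) (Over.OverMorphism.ext h2)))
    (fun T => by
      have hsame : ∀ a b : T ⟶ U.left, (∃ r : T ⟶ R.left, r ≫ t.left = a ∧ r ≫ s.left = b) →
          b ≫ U.hom = a ≫ U.hom := by
        rintro a b ⟨r, rfl, rfl⟩
        rw [Category.assoc, Category.assoc, hh]
      have key : ∀ a b : T ⟶ U.left, ∀ hb : b ≫ U.hom = a ≫ U.hom,
          (∃ r : T ⟶ R.left, r ≫ t.left = a ∧ r ≫ s.left = b) ↔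
          ∃ r : Over.mk (a ≫ U.hom) ⟶ R, r ≫ t = Over.homMk a ∧ r ≫ s = Over.homMk b hb := fun a b hb =>
        ⟨fun ⟨r, h1, h2⟩ => ⟨Over.homMk r (by
            show r ≫ R.hom = a ≫ U.hom
            rw [← Over.w t, ← Category.assoc, h1]), Over.OverMorphism.ext h1, Over.OverMorphism.ext h2⟩,
          fun ⟨r, h1, h2⟩ => ⟨r.left, congrArg (fun m => m.left) h1, congrArg (fun m => m.left) h2⟩⟩
      refine ⟨fun a => (key a a rfl).2 ((hr.equivalence _).refl _), fun {a b} h => ?_, fun {a b d} h h' => ?_⟩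
      · obtain ⟨r, h1, h2⟩ := h
        obtain ⟨r', h1', h2'⟩ := (hr.equivalence (Over.mk (r ≫ R.hom))).symm
          (⟨Over.homMk r, rfl, rfl⟩ : ∃ q : Over.mk (r ≫ R.hom) ⟶ R, q ≫ t = Over.homMk r ≫ t ∧ q ≫ s = _)
        exact ⟨r'.left, (congrArg (fun m => m.left) h1').trans h2, (congrArg (fun m => m.left) h2').trans h1⟩
      · have hb := hsame a b h
        have hd := (hsame b d h').trans hb
        obtain ⟨r', h1', h2'⟩ := h'
        exact (key a d hd).2 ((hr.equivalence _).trans ((key a b hb).1 h)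
          ⟨Over.homMk r' (by
              show r' ≫ R.hom = a ≫ U.hom
              rw [← Over.w t, ← Category.assoc, h1', hb]),
            Over.OverMorphism.ext h1', Over.OverMorphism.ext h2'⟩))
  have : IsAffineHom π := inferInstance
  have hd : ∀ {Z : Scheme.{u}} (g₁ g₂ : Z ⟶ U.left), g₁ ≫ π = g₂ ≫ π → g₁ ≫ U.hom = g₂ ≫ U.hom := fun g₁ g₂ e => by
    rw [← sqA.lift_fst g₁ g₂ e, Category.assoc, hh]
    rw [← Category.assoc, sqA.lift_snd]
  let h : A ⟶ S := EffectiveEpi.desc π U.hom hd
  let T : Over S := Over.mk h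
  let π' : U ⟶ T := Over.homMk π (EffectiveEpi.fac π U.hom hd)
  have sqT : IsPullback t s π' π' := IsPullback.of_map (Over.forget S) (Over.OverMorphism.ext sqA.w) sqA
  have sqY := sqT.map (yon S)
  have : Epi p := epi_of_etale_surjective he hs
  have : Epi ((yon S).map π') := epi_of_etale_surjective ((repWith_yon_map_iff _ _).2 hπe)
    ((repWith_yon_map_iff _ _).2 hπs)
  have : IsIso (pullback.lift ((yon S).map t) ((yon S).map s) sq.w : (yon S).obj R ⟶ pullback p p) := by
    rw [show pullback.lift ((yon S).map t) ((yon S).map s) sq.w = sq.isoPullback.hom from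
      pullback.hom_ext (by simp [pullback.lift_fst]) (by simp [pullback.lift_snd])]
    infer_instance
  have : IsIso (pullback.lift ((yon S).map t) ((yon S).map s) sqY.w :
      (yon S).obj R ⟶ pullback ((yon S).map π') ((yon S).map π')) := by
    rw [show pullback.lift ((yon S).map t) ((yon S).map s) sqY.w = sqY.isoPullback.hom from
      pullback.hom_ext (by simp [pullback.lift_fst]) (by simp [pullback.lift_snd])]
    infer_instance
  have := isIso_quotSpDesc (s := (yon S).map s) (t := (yon S).map t) p sq.w.symm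
  have := isIso_quotSpDesc (s := (yon S).map s) (t := (yon S).map t) ((yon S).map π') sqY.w.symm
  exact ⟨T, hA, ⟨(asIso (quotSpDesc ((yon S).map π') sqY.w.symm)).symm ≪≫ asIso (quotSpDesc p sq.w.symm)⟩⟩

end Groth.Agent.AlgSpLib
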