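import Groth.Agent.AlgSpLib.ClosedSub
import Groth.Agent.AlgSpLib.MorQC
import Groth.Agent.AlgSpLib.PointsCompact
import Groth.Agent.AlgSpLib.LocP
import Groth.Agent.Desc19b.Imm

/-!
Scheme theoretic images of morphisms of algebraic spaces through charts.
-/

universe u

open CategoryTheory CategoryTheory.Limits AlgebraicGeometry
open AlgSp

noncomputable section

namespace Groth.Agent.AlgSpLib

set_option backward.isDefEq.respectTransparency.types false

variable {S : Scheme.{u}} {F G Z Z' : Sp S}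

/-- the kernel of a chart composite does not depend on the atlas -/
theorem ker_eq_of_atlases {V U₁ U₂ : Over S} {φ : F ⟶ (yon S).obj V} {a₁ : (yon S).obj U₁ ⟶ F}
    {a₂ : (yon S).obj U₂ ⟶ F} (he₁ : RepWith @Etale a₁) (hs₁ : RepWith @Surjective a₁)
    (he₂ : RepWith @Etale a₂) (hs₂ : RepWith @Surjective a₂) {g₁ : U₁ ⟶ V} {g₂ : U₂ ⟶ V}
    (w₁ : a₁ ≫ φ = (yon S).map g₁) (w₂ : a₂ ≫ φ = (yon S).map g₂) : g₁.left.ker = g₂.left.ker := by
  suffices ∀ J : V.left.IdealSheafData, J ≤ g₁.left.ker ↔ J ≤ g₂.left.ker from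
    le_antisymm ((this _).1 le_rfl) ((this _).2 le_rfl)
  intro J
  let j : Over.mk (J.subschemeι ≫ V.hom) ⟶ V := Over.homMk J.subschemeι
  have hj : RepWith @IsClosedImmersion ((yon S).map j) :=
    haveI := IsClosedImmersion.isStableUnderBaseChange
    (repWith_yon_map_iff _ j).2 (inferInstanceAs (IsClosedImmersion J.subschemeι))
  have hJ : chartIdeal hj (𝟙 _) = J := (chartIdeal_eq_of_isPullback hj (a := 𝟙 _) (w := j) (fst := 𝟙 _)
    (IsPullback.of_horiz_isIso ⟨by rw [Category.id_comp, Category.comp_id]⟩)).trans (Scheme.IdealSheafData.ker_subschemeι J)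
  rw [← hJ, ← factors_iff_of_chart hj he₁ hs₁ (p := 𝟙 _) g₁ (by rw [Category.comp_id, w₁]),
    ← factors_iff_of_chart hj he₂ hs₂ (p := 𝟙 _) g₂ (by rw [Category.comp_id, w₂])]

/-- a chart of a morphism over an atlas of its target -/
structure ImgChart (f : F ⟶ G) where
  V : Over S
  p : (yon S).obj V ⟶ G
  he : RepWith @Etale p
  hs : RepWith @Surjective p
  P : Sp S
  fst : P ⟶ F
  snd : P ⟶ (yon S).obj V
  sq : IsPullback fst snd f p
  W : Over S
  a : (yon S).obj W ⟶ P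
  hae : RepWith @Etale a
  has : RepWith @Surjective a
  h : W ⟶ V
  w : a ≫ snd = (yon S).map h

namespace ImgChart

variable {f : F ⟶ G} (C : ImgChart f)

/-- the kernel ideal on the chart -/
def ker : C.V.left.IdealSheafData := C.h.left.ker

theorem etale_fst : RepWith @Etale (C.a ≫ C.fst) :=
  RepWith.comp C.hae (RepWith.baseChange C.sq.flip C.he)

theorem surjective_fst : RepWith @Surjective (C.a ≫ C.fst) :=
  RepWith.comp C.has (RepWith.baseChange C.sq.flip C.hs)

theorem factors_iff {i : Z ⟶ G} (hi : RepWith @IsClosedImmersion i) :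
    (∃ l, l ≫ i = f) ↔ chartIdeal hi C.p ≤ C.ker :=
  factors_iff_of_chart hi C.etale_fst C.surjective_fst C.h
    (by rw [Category.assoc, C.sq.w, ← Category.assoc, C.w])

/-- kernels on charts commute with flat base change of quasi-compact maps -/
theorem comap_ker (hqc : QuasiCompact C.h.left) {T : Over S} (g : T ⟶ C.V) [Flat g.left] {P' : Sp S}
    {fst' : P' ⟶ F} {snd' : P' ⟶ (yon S).obj T} (sq' : IsPullback fst' snd' f ((yon S).map g ≫ C.p))
    {U : Over S} {a' : (yon S).obj U ⟶ P'} (he' : RepWith @Etale a') (hs' : RepWith @Surjective a')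
    {h' : U ⟶ T} (w' : a' ≫ snd' = (yon S).map h') : C.ker.comap g.left = h'.left.ker := by
  let m : P' ⟶ C.P := C.sq.lift fst' (snd' ≫ (yon S).map g) (by rw [sq'.w, Category.assoc])
  have sqm : IsPullback m snd' C.snd ((yon S).map g) :=
    IsPullback.of_right (by rw [C.sq.lift_fst]; exact sq') (C.sq.lift_snd _ _ _) C.sq
  let WT : Over S := Over.mk (pullback.fst C.h.left g.left ≫ C.W.hom)
  let x : WT ⟶ C.W := Over.homMk (pullback.fst C.h.left g.left)
  let y : WT ⟶ T := Over.homMk (pullback.snd C.h.left g.left) (by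
    show pullback.snd C.h.left g.left ≫ T.hom = pullback.fst C.h.left g.left ≫ C.W.hom
    rw [← Over.w C.h, ← Over.w g, pullback.condition_assoc])
  have sqW : IsPullback x y C.h g :=
    IsPullback.of_map (Over.forget S) (Over.OverMorphism.ext pullback.condition)
      (IsPullback.of_hasPullback C.h.left g.left)
  have sqY : IsPullback ((yon S).map x) ((yon S).map y) (C.a ≫ C.snd) ((yon S).map g) := by
    rw [C.w]; exact sqW.map (yon S)
  let b : (yon S).obj WT ⟶ P' := sqm.lift ((yon S).map x ≫ C.a) ((yon S).map y)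
    (by rw [Category.assoc, sqY.w])
  have sqb : IsPullback ((yon S).map x) b C.a m :=
    IsPullback.of_bot (by rw [sqm.lift_snd]; exact sqY) (sqm.lift_fst _ _ _).symm sqm
  rw [ker_eq_of_atlases he' hs' (RepWith.baseChange sqb C.hae) (RepWith.baseChange sqb C.has) w'
    (sqm.lift_snd _ _ _)]
  exact (Desc19b.ker_pullback_snd_of_flat C.h.left g.left).symm

/-- the kernel ideal of a quasi-compact morphism descends -/
theorem invariant (hF : IsAlgSpace F) (hG : IsAlgSpace G) (hqc : QuasiCompact C.h.left) (T : Over S)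
    (x y : T ⟶ C.V) (e : (yon S).map x ≫ C.p = (yon S).map y ≫ C.p) :
    C.ker.comap x.left = C.ker.comap y.left := by
  have sqR := C.he.1.isPullback' C.p
  obtain ⟨r, rfl, rfl⟩ := (exists_of_isPullback_yon sqR x y).1 e
  rw [Over.comp_left, Over.comp_left, Scheme.IdealSheafData.comap_comp, Scheme.IdealSheafData.comap_comp]
  congr 1
  have hR := isPresentation_of_isPullback C.he C.hs sqR
  have := hR.eqvRel.etale_left
  have := hR.eqvRel.etale_right
  obtain ⟨P', f', s', sq'⟩ : ∃ (P' : Sp S) (f' : P' ⟶ F) (s' : P' ⟶ _),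
      IsPullback f' s' f ((yon S).map (C.he.1.snd C.p) ≫ C.p) := ⟨_, _, _, IsPullback.of_hasPullback _ _⟩
  obtain ⟨U, a', he', hs'⟩ := (isAlgSpace_of_isPullback hG.diag hF (IsAlgSpace.yon_obj _) sq').atlas
  obtain ⟨h', hh'⟩ := (yon S).map_surjective (a' ≫ s')
  have sq'' : IsPullback f' s' f ((yon S).map (C.he.1.fst' C.p) ≫ C.p) := by rw [sqR.w]; exact sq'
  rw [C.comap_ker hqc _ sq'' he' hs' hh'.symm, C.comap_ker hqc _ sq' he' hs' hh'.symm]

end ImgChart

theorem exists_imgChart (hF : IsAlgSpace F) (hG : IsAlgSpace G) (f : F ⟶ G) : Nonempty (ImgChart f) := by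
  obtain ⟨V, p, he, hs⟩ := hG.atlas
  obtain ⟨P, fst, snd, sq⟩ : ∃ (P : Sp S) (fst : P ⟶ F) (snd : P ⟶ _), IsPullback fst snd f p :=
    ⟨_, _, _, IsPullback.of_hasPullback f p⟩
  obtain ⟨W, a, hae, has⟩ := (isAlgSpace_of_isPullback hG.diag hF (IsAlgSpace.yon_obj V) sq).atlas
  obtain ⟨h, w⟩ := (yon S).map_surjective (a ≫ snd)
  exact ⟨⟨V, p, he, hs, P, fst, snd, sq, W, a, hae, has, h, w.symm⟩⟩

/-- a quasi-compact morphism has a chart with quasi-compact kernel map -/
theorem exists_imgChart_qc (hF : IsAlgSpace F) (hG : IsAlgSpace G) (f : F ⟶ G) (hf : IsQuasiCompactMor f) :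
    ∃ C : ImgChart f, QuasiCompact C.h.left := by
  obtain ⟨ι, Vi, hVi, q, p, he, hs, -⟩ := exists_etale_surjective_sigma_affine hG
  let V : Over S := Over.mk q
  obtain ⟨P, fst, snd, sq⟩ : ∃ (P : Sp S) (fst : P ⟶ F) (snd : P ⟶ (yon S).obj V), IsPullback fst snd f p :=
    ⟨_, _, _, IsPullback.of_hasPullback f p⟩
  have hP := isAlgSpace_of_isPullback hG.diag hF (IsAlgSpace.yon_obj V) sq
  obtain ⟨W₀, a₀, he₀, hs₀⟩ := hP.atlas
  obtain ⟨h₀, w₀⟩ := (yon S).map_surjective (a₀ ≫ snd)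
  let O : ι → V.left.Opens := fun j => (Sigma.ι Vi j).opensRange
  have hOa : ∀ j, IsAffineOpen (O j) := fun j => isAffineOpen_opensRange (Sigma.ι Vi j)
  have hK : ∀ j, IsCompact (Points.map snd ⁻¹' (Points.schemeHomeo V '' (O j : Set V.left))) := fun j =>
    isCompact_preimage_of_isQuasiCompactMor (IsAlgSpace.yon_obj V)
      (isQuasiCompactMor_of_isPullback hF hG (IsAlgSpace.yon_obj V) sq hf)
      ((Points.schemeHomeo V).isOpenMap _ (O j).2)
      ((hOa j).isCompact.image (Points.schemeHomeo V).continuous)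
  have hpt : ∀ w : W₀.left, Points.map snd (Points.ofPt a₀ w) = Points.schemeHomeo V (h₀.left w) := fun w => by
    show _ = Points.ofScheme V (h₀.left w)
    rw [Points.map_ofPt, ← w₀, ← map_yon_map_ofScheme]
    exact Points.ofPt_eq_map_ofScheme _ _
  have hfin : ∀ j, ∃ σ : Finset {U : W₀.left.affineOpens // U.1 ≤ h₀.left ⁻¹ᵁ O j},
      Points.map snd ⁻¹' (Points.schemeHomeo V '' (O j : Set V.left)) ⊆
        ⋃ i ∈ σ, Points.ofPt a₀ '' (i.1.1 : Set W₀.left) := fun j => by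
    refine (hK j).elim_finite_subcover _ (fun i => isOpenMap_ofPt a₀ he₀ _ i.1.1.2) fun z hz => ?_
    obtain ⟨w, rfl⟩ := surjective_ofPt a₀ hs₀ z
    obtain ⟨v, hv, e⟩ := hz
    rw [hpt] at e
    have hw : w ∈ h₀.left ⁻¹ᵁ O j := by
      show h₀.left w ∈ O j
      rw [← (Points.schemeHomeo V).injective e]; exact hv
    obtain ⟨_, ⟨U, hU, rfl⟩, hwU, hle⟩ := W₀.left.isBasis_affineOpens.exists_subset_of_mem_open hw
      (h₀.left ⁻¹ᵁ O j).2
    exact Set.mem_iUnion.2 ⟨⟨⟨U, hU⟩, hle⟩, w, hwU, rfl⟩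
  choose σ hσ using hfin
  let U : (Σ j, σ j) → W₀.left.Opens := fun i => i.2.1.1.1
  have hU : ∀ i, U i ≤ h₀.left ⁻¹ᵁ O i.1 := fun i => i.2.1.2
  let W : Over S := Over.mk (Sigma.desc (fun i => (U i).ι) ≫ W₀.hom)
  let π : W ⟶ W₀ := Over.homMk (Sigma.desc fun i => (U i).ι)
  have hπ : Etale π.left := IsZariskiLocalAtSource.sigmaDesc (P := @Etale) fun i => inferInstance
  have hπι : ∀ i (x : (U i).toScheme), π.left (Sigma.ι (fun i => (U i).toScheme) i x) = x.1 := fun i x => by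
    show ((Sigma.ι (fun i => (U i).toScheme) i) ≫ Sigma.desc fun i => (U i).ι) x = x.1
    rw [Sigma.ι_desc]
    rfl
  have hjcov : ∀ v : V.left, ∃ j, v ∈ O j := fun v => by
    obtain ⟨j, x, hx⟩ := (sigmaOpenCover Vi).exists_eq v
    exact ⟨j, x, hx⟩
  have he' : RepWith @Etale ((yon S).map π ≫ a₀) := RepWith.comp ((repWith_yon_map_iff _ π).2 hπ) he₀
  have hs' : RepWith @Surjective ((yon S).map π ≫ a₀) := by
    refine repWith_surjective_of_surjective_ofPt _ he'.1 fun z => ?_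
    obtain ⟨w, rfl⟩ := surjective_ofPt a₀ hs₀ z
    obtain ⟨j, hj⟩ := hjcov (h₀.left w)
    obtain ⟨i, hi, x, hx, e⟩ := Set.mem_iUnion₂.1 (hσ j ⟨_, hj, (hpt w).symm⟩)
    exact ⟨Sigma.ι (fun i => (U i).toScheme) ⟨j, i, hi⟩ ⟨x, hx⟩, by rw [ofPt_map, hπι]; exact e⟩
  refine ⟨⟨V, p, he, hs, P, fst, snd, sq, W, (yon S).map π ≫ a₀, he', hs', π ≫ h₀,
    by rw [Category.assoc, ← w₀, Functor.map_comp]⟩, ?_⟩
  refine IsZariskiLocalAtTarget.of_iSup_eq_top (P := @QuasiCompact) O
    (top_le_iff.1 fun v _ => TopologicalSpace.Opens.mem_iSup.2 (hjcov v)) fun j => ?_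
  have : IsAffine (O j).toScheme := hOa j
  refine HasAffineProperty.iff_of_isAffine.mpr ?_
  have e : (((π ≫ h₀).left ⁻¹ᵁ O j : W.left.Opens) : Set W.left) =
      ⋃ i : σ j, Set.range (Sigma.ι (fun i => (U i).toScheme) ⟨j, i⟩) := by
    ext z
    obtain ⟨⟨j', i⟩, x, rfl⟩ : ∃ i x, Sigma.ι (fun i => (U i).toScheme) i x = z :=
      (sigmaOpenCover fun i => (U i).toScheme).exists_eq z
    constructor
    · intro hz
      have hz' : h₀.left (π.left (Sigma.ι (fun i => (U i).toScheme) ⟨j', i⟩ x)) ∈ O j := hz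
      rw [hπι] at hz'
      obtain rfl : j' = j := by
        by_contra hne
        exact (disjoint_opensRange_sigmaι (g := Vi) j' j hne).le_bot ⟨hU ⟨j', i⟩ x.2, hz'⟩
      exact Set.mem_iUnion.2 ⟨i, x, rfl⟩
    · intro hz
      obtain ⟨i', y, hy⟩ := Set.mem_iUnion.1 hz
      rw [← hy]
      show h₀.left (π.left (Sigma.ι (fun i => (U i).toScheme) ⟨j, i'⟩ y)) ∈ O j
      rw [hπι]
      exact hU ⟨j, i'⟩ y.2
  refine isCompact_iff_compactSpace.1 ?_
  rw [e]
  refine isCompact_iUnion fun i => ?_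
  have : IsAffine (U ⟨j, i⟩).toScheme := i.1.1.2
  exact isCompact_range (Sigma.ι (fun i => (U i).toScheme) ⟨j, i⟩).continuous

theorem chartIdeal_eq_of_iff {i : Z ⟶ G} (hi : RepWith @IsClosedImmersion i) {i' : Z' ⟶ G}
    (hi' : RepWith @IsClosedImmersion i') {V : Over S} {p : (yon S).obj V ⟶ G}
    (he : RepWith @Etale p) (hs : RepWith @Surjective p) (h1 : ∃ k, k ≫ i' = i) (h2 : ∃ k, k ≫ i = i') :
    chartIdeal hi p = chartIdeal hi' p :=
  le_antisymm ((factors_closed_iff hi' hi he hs).1 h2) ((factors_closed_iff hi hi' he hs).1 h1)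

/-- closed immersion with the kernel ideal is the scheme theoretic image -/
theorem isSchImage_of_chartIdeal_eq {f : F ⟶ G} (C : ImgChart f) {i : Z ⟶ G}
    (hi : RepWith @IsClosedImmersion i) (h : chartIdeal hi C.p = C.ker) : IsSchImage f i :=
  ⟨hi, (C.factors_iff hi).2 h.le, fun _ i' _ hi' hf' =>
    (factors_closed_iff hi hi' C.he C.hs).2 (((C.factors_iff hi').1 hf').trans h.ge)⟩

/-- the scheme theoretic image of a quasi-compact morphism on a chart -/
theorem chartIdeal_of_isSchImage (hF : IsAlgSpace F) (hG : IsAlgSpace G) {f : F ⟶ G} (C : ImgChart f)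
    (hqc : QuasiCompact C.h.left) {i : Z ⟶ G} (hZ : IsSchImage f i) : chartIdeal hZ.1 C.p = C.ker := by
  obtain ⟨Z₀, i₀, hi₀, hZ₀, h₀⟩ := exists_closedSub hG C.he C.hs C.ker (C.invariant hF hG hqc)
  refine le_antisymm ((C.factors_iff hZ.1).1 hZ.2.1) (h₀ ▸ ?_)
  exact (factors_closed_iff hZ.1 hi₀ C.he C.hs).1 (hZ.2.2 i₀ hZ₀ hi₀ ((C.factors_iff hi₀).2 h₀.le))

theorem exists_isSchImage (hF : IsAlgSpace F) (hG : IsAlgSpace G) (f : F ⟶ G) :
    ∃ (Z : Sp S) (i : Z ⟶ G), IsAlgSpace Z ∧ IsSchImage f i := by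
  obtain ⟨C⟩ := exists_imgChart hF hG f
  let inv : C.V.left.IdealSheafData → Prop := fun I =>
    ∀ (T : Over S) (x y : T ⟶ C.V), (yon S).map x ≫ C.p = (yon S).map y ≫ C.p →
      I.comap x.left = I.comap y.left
  let J := sSup {I | I ≤ C.ker ∧ inv I}
  have hJ : inv J := fun T x y e => by
    show Scheme.IdealSheafData.comap _ x.left = Scheme.IdealSheafData.comap _ y.left
    rw [(Scheme.IdealSheafData.map_gc x.left).l_sSup, (Scheme.IdealSheafData.map_gc y.left).l_sSup]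
    exact iSup_congr fun I => iSup_congr fun hI => hI.2 T x y e
  obtain ⟨Z, i, hi, hZ, h⟩ := exists_closedSub hG C.he C.hs J hJ
  refine ⟨Z, i, hZ, hi, (C.factors_iff hi).2 (h ▸ sSup_le fun I hI => hI.1), fun Z' i' hZ' hi' hf' => ?_⟩
  refine (factors_closed_iff hi hi' C.he C.hs).2 (h ▸ le_sSup ?_)
  exact ⟨(C.factors_iff hi').1 hf', fun T x y e => chartIdeal_invariant hi' e⟩

theorem chartIdeal_of_isPullback {P : Sp S} {i : Z ⟶ G} (hi : RepWith @IsClosedImmersion i) {i₁ : P ⟶ Z}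
    {iX : P ⟶ F} {f : F ⟶ G} (sq : IsPullback i₁ iX i f) (hX : RepWith @IsClosedImmersion iX)
    {V : Over S} (a : (yon S).obj V ⟶ F) : chartIdeal hX a = chartIdeal hi (a ≫ f) :=
  (chartIdeal_eq_of_isPullback hi ((hX.1.isPullback a).paste_horiz sq)).symm

/-- scheme theoretic images of quasi-compact morphisms commute with flat base change -/
theorem isSchImage_of_flat_baseChange {X Y V ZX VX : Sp S} (hX : IsAlgSpace X) (hY : IsAlgSpace Y)
    (hV : IsAlgSpace V) {f : X ⟶ Y} (hf : LocP @Flat f) {g : V ⟶ Y} (hg : IsQuasiCompactMor g) {i : Z ⟶ Y}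
    (hZ : IsSchImage g i) {g₁ : VX ⟶ V} {gX : VX ⟶ X} (sqV : IsPullback g₁ gX g f)
    {i₁ : ZX ⟶ Z} {iX : ZX ⟶ X} (sqZ : IsPullback i₁ iX i f) : IsSchImage gX iX := by
  obtain ⟨C, hqc⟩ := exists_imgChart_qc hV hY g hg
  obtain ⟨U, q, w, hqe, hqs, hw⟩ := exists_chart_over hX hY f C.p C.he C.hs
  have : Flat w.left := hf q C.p w hqe C.he hw
  haveI := IsClosedImmersion.isStableUnderBaseChange.{u}
  have hiX : RepWith @IsClosedImmersion iX := RepWith.baseChange sqZ hZ.1
  obtain ⟨⟨f', hf'⟩, -⟩ := hZ.2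
  refine ⟨hiX, ⟨sqZ.lift (g₁ ≫ f') gX (by rw [Category.assoc, hf', sqV.w]), sqZ.lift_snd _ _ _⟩,
    fun Z' i' _ hi' hgX => (factors_closed_iff hiX hi' hqe hqs).2 ?_⟩
  have sqP := IsPullback.of_hasPullback gX q
  have hVX : IsAlgSpace VX := isAlgSpace_of_isPullback hY.diag hV hX sqV
  obtain ⟨U', a', he', hs'⟩ := (isAlgSpace_of_isPullback hX.diag hVX (IsAlgSpace.yon_obj U) sqP).atlas
  obtain ⟨h', hh'⟩ := (yon S).map_surjective (a' ≫ pullback.snd gX q)
  have hle := (factors_iff_of_chart hi' (RepWith.comp he' (RepWith.baseChange sqP.flip hqe))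
    (RepWith.comp hs' (RepWith.baseChange sqP.flip hqs)) h'
    (by rw [hh', Category.assoc, Category.assoc, sqP.w])).1 hgX
  have sq' : IsPullback (pullback.fst gX q ≫ g₁) (pullback.snd gX q) g ((yon S).map w ≫ C.p) := by
    rw [← hw]; exact sqP.paste_horiz sqV
  refine hle.trans (le_of_eq ?_)
  rw [chartIdeal_of_isPullback hZ.1 sqZ, hw, chartIdeal_comp, chartIdeal_of_isSchImage hV hY C hqc hZ,
    C.comap_ker hqc w sq' he' hs' hh'.symm]

/-- the image of a quasi-compact morphism is dense in the scheme theoretic image -/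
theorem range_subset_closure (hF : IsAlgSpace F) (hG : IsAlgSpace G) {f : F ⟶ G} (hf : IsQuasiCompactMor f)
    {i : Z ⟶ G} (hZ : IsSchImage f i) :
    Set.range (Points.map i) ⊆ closure (Set.range (Points.map f)) := by
  obtain ⟨C, hqc⟩ := exists_imgChart_qc hF hG f hf
  have hI := chartIdeal_of_isSchImage hF hG C hqc hZ
  have sqi := hZ.1.1.isPullback C.p
  rintro _ ⟨z, rfl⟩
  obtain ⟨v, hv⟩ := surjective_ofPt C.p C.hs (Points.map i z)
  rw [Points.ofPt_eq_map_ofScheme] at hv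
  obtain ⟨r, hr1, hr2⟩ := exists_point_of_isPullback sqi hv.symm
  obtain ⟨r, rfl⟩ := (Points.schemeEquiv _).surjective r
  have hvr : (hZ.1.1.snd C.p).left r = v :=
    (Points.schemeEquiv C.V).injective ((map_yon_map_ofScheme _ r).symm.trans hr2)
  have hmem : v ∈ closure (Set.range C.h.left) := by
    rw [← Scheme.Hom.support_ker]
    show v ∈ (C.h.left.ker.support : Set _)
    rw [show C.h.left.ker = chartIdeal hZ.1 C.p from hI.symm]
    exact Scheme.Hom.range_subset_ker_support _ ⟨r, hvr⟩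
  rw [← hv, ← Points.ofPt_eq_map_ofScheme]
  refine closure_mono ?_ (image_closure_subset_closure_image (Points.continuous_ofPt C.p) ⟨v, hmem, rfl⟩)
  rintro _ ⟨_, ⟨w, rfl⟩, rfl⟩
  refine ⟨Points.ofPt (C.a ≫ C.fst) w, ?_⟩
  rw [Points.map_ofPt, Category.assoc, C.sq.w, ← Category.assoc, C.w, ofPt_map]

end Groth.Agent.AlgSpLib
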