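import Groth.Agent.AlgSpLib.SmoothClosure
import Groth.Agent.AlgSpLib.EffCartierSub
import Groth.Agent.AlgSpLib.SchImage
import Groth.Agent.AlgSpLib.EffCartierDescent

/-!
# Closures of effective Cartier divisors of generic fibres over valuation rings
-/

set_option autoImplicit false
set_option backward.isDefEq.respectTransparency false
set_option backward.isDefEq.respectTransparency.types false
set_option linter.style.haveILetI false

universe u

open CategoryTheory CategoryTheory.Limits AlgebraicGeometry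

namespace Groth.Agent.AlgSpLib

open Groth.Agent.ModPairLib (res res_mem_nonZeroDivisors ideal_restrict)

variable {R K : Type u} [CommRing R] [Field K] [Algebra R K]

theorem exists_localData {X : Scheme.{u}} [IsAffine X] {I : X.IdealSheafData} (hI : BlowUp.IsEffCartierIdeal I)
    (P : Ideal Γ(X, ⊤)) [hP : P.IsPrime] :
    ∃ q ∈ I.ideal ⟨⊤, isAffineOpen_top X⟩, ∃ h ∉ P,
      (∀ x ∈ I.ideal ⟨⊤, isAffineOpen_top X⟩, ∃ n : ℕ, h ^ n * x ∈ Ideal.span {q}) ∧
        ∀ z, q * z = 0 → ∃ n : ℕ, h ^ n * z = 0 := by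
  have hT : IsAffineOpen (⊤ : X.Opens) := isAffineOpen_top X
  let y : X := hT.fromSpec ⟨P, hP⟩
  obtain ⟨U₀, hy, f, hf, hU₀⟩ := hI y
  obtain ⟨h, hle, hyh⟩ := hT.exists_basicOpen_le (V := U₀.1) ⟨y, hy⟩ trivial
  have hhP : h ∉ P := by
    have h1 : (⟨P, hP⟩ : PrimeSpectrum Γ(X, ⊤)) ∈ hT.fromSpec ⁻¹ᵁ X.basicOpen h := hyh
    rw [hT.fromSpec_preimage_basicOpen] at h1
    exact h1
  let D : X.affineOpens := ⟨X.basicOpen h, hT.basicOpen h⟩
  let f' : Γ(X, D.1) := res (U := U₀.1) (V := X.basicOpen h) hle f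
  have hf' : f' ∈ nonZeroDivisors Γ(X, D.1) := res_mem_nonZeroDivisors hle hf
  have hD : I.ideal D = Ideal.span {f'} := ideal_restrict _ hle hU₀
  have hloc : IsLocalization.Away h Γ(X, D.1) := hT.isLocalization_basicOpen h
  have hmap : I.ideal D = (I.ideal ⟨⊤, hT⟩).map (algebraMap Γ(X, ⊤) Γ(X, D.1)) :=
    (I.map_ideal_basicOpen ⟨⊤, hT⟩ h).symm
  have hfmem : f' ∈ (I.ideal ⟨⊤, hT⟩).map (algebraMap Γ(X, ⊤) Γ(X, D.1)) := by
    rw [← hmap, hD]; exact Ideal.mem_span_singleton_self _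
  obtain ⟨⟨⟨q, hq⟩, m⟩, hqm⟩ := (IsLocalization.mem_map_algebraMap_iff (Submonoid.powers h) Γ(X, D.1)).1 hfmem
  have hspan : Ideal.span {algebraMap Γ(X, ⊤) Γ(X, D.1) q} = I.ideal D := by
    rw [← hqm, Ideal.span_singleton_mul_right_unit (IsLocalization.map_units _ m), hD]
  refine ⟨q, hq, h, hhP, fun x hx => ?_, fun z hz => ?_⟩
  · have h1 : algebraMap Γ(X, ⊤) Γ(X, D.1) x ∈ (Ideal.span {q}).map (algebraMap Γ(X, ⊤) Γ(X, D.1)) := by
      rw [Ideal.map_span, Set.image_singleton, hspan, hmap]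
      exact Ideal.mem_map_of_mem _ hx
    obtain ⟨_, ⟨n, rfl⟩, hn⟩ := (IsLocalization.algebraMap_mem_map_algebraMap_iff (Submonoid.powers h) _ _ x).1 h1
    exact ⟨n, hn⟩
  · have h1 : algebraMap Γ(X, ⊤) Γ(X, D.1) q ∈ nonZeroDivisors Γ(X, D.1) := by
      rw [← hqm]
      exact mul_mem hf' (IsLocalization.map_units _ m).mem_nonZeroDivisors
    have h2 : algebraMap Γ(X, ⊤) Γ(X, D.1) z = 0 :=
      (mul_right_mem_nonZeroDivisors_eq_zero_iff h1).1 (by rw [← map_mul, mul_comm, hz, map_zero])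
    obtain ⟨⟨_, n, rfl⟩, hn⟩ := (IsLocalization.map_eq_zero_iff (Submonoid.powers h) _ z).1 h2
    exact ⟨n, hn⟩

variable [IsDomain R] [ValuationRing R] [IsFractionRing R K]

theorem isEffCartierIdeal_map_generic_affine {Y YK : Scheme.{u}} [IsAffine Y]
    {π : Y ⟶ Spec (CommRingCat.of R)} [Smooth π] {pr : YK ⟶ Y} {πK : YK ⟶ Spec (CommRingCat.of K)}
    (sq : IsPullback pr πK π (Spec.map (CommRingCat.ofHom (algebraMap R K))))
    {I : YK.IdealSheafData} (hI : BlowUp.IsEffCartierIdeal I) :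
    BlowUp.IsEffCartierIdeal (I.map pr) ∧ (I.map pr).comap pr = I := by
  have : IsAffine YK := IsAffine.of_isPullback sq
  have : IsAffineHom pr := isAffineHom_of_isAffine pr
  have hpush := isPushout_appTop_of_isPullback sq.flip
  let A := Γ(Y, ⊤)
  let B := Γ(YK, ⊤)
  let eR : CommRingCat.of R ≅ Γ(Spec (CommRingCat.of R), ⊤) := (Scheme.ΓSpecIso (CommRingCat.of R)).symm
  let eK : CommRingCat.of K ≅ Γ(Spec (CommRingCat.of K), ⊤) := (Scheme.ΓSpecIso (CommRingCat.of K)).symm
  let _ : Algebra R A := (eR.hom ≫ π.appTop).hom.toAlgebra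
  let _ : Algebra A B := pr.appTop.hom.toAlgebra
  let _ : Algebra R B := (eR.hom ≫ π.appTop ≫ pr.appTop).hom.toAlgebra
  let _ : Algebra K B := (eK.hom ≫ πK.appTop).hom.toAlgebra
  have : IsScalarTower R A B := .of_algebraMap_eq' rfl
  have hnat : CommRingCat.ofHom (algebraMap R K) ≫ eK.hom =
      eR.hom ≫ (Spec.map (CommRingCat.ofHom (algebraMap R K))).appTop :=
    Scheme.ΓSpecIso_inv_naturality (CommRingCat.ofHom (algebraMap R K))
  have : IsScalarTower R K B := .of_algebraMap_eq' (congrArg CommRingCat.Hom.hom (show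
    eR.hom ≫ π.appTop ≫ pr.appTop = CommRingCat.ofHom (algebraMap R K) ≫ eK.hom ≫ πK.appTop by
      rw [reassoc_of% hnat, ← Scheme.Hom.comp_appTop, ← Scheme.Hom.comp_appTop, sq.w]))
  have hpo : Algebra.IsPushout R K A B := by
    refine CommRingCat.isPushout_iff_isPushout.1 ?_
    refine hpush.of_iso eR.symm eK.symm (Iso.refl _) (Iso.refl _) ?_ ?_ ?_ ?_
    · rw [← Iso.cancel_iso_hom_left eR]
      show eR.hom ≫ _ ≫ eK.inv = eR.hom ≫ eR.inv ≫ _
      rw [reassoc_of% hnat.symm]; simp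
    · show π.appTop ≫ 𝟙 _ = eR.inv ≫ eR.hom ≫ π.appTop
      simp
    · show πK.appTop ≫ 𝟙 _ = eK.inv ≫ eK.hom ≫ πK.appTop
      simp
    · show pr.appTop ≫ 𝟙 _ = 𝟙 _ ≫ pr.appTop
      simp
  have hloc : IsLocalization (Algebra.algebraMapSubmonoid A (nonZeroDivisors R)) B :=
    (Algebra.isLocalization_iff_isPushout (nonZeroDivisors R) K).2 (Algebra.IsPushout.symm hpo)
  have hsm : Algebra.Smooth R A := RingHom.smooth_algebraMap.1
    (RingHom.Smooth.respectsIso.2 π.appTop.hom eR.commRingCatIsoToRingEquiv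
      (HasRingHomProperty.appTop @Smooth π inferInstance))
  have hN : IsNoetherianRing B := by
    let e := Algebra.IsPushout.equiv R K A B
    have : Algebra.FiniteType K B := Algebra.FiniteType.equiv inferInstance e
    exact Algebra.FiniteType.isNoetherianRing K B
  let T : Y.affineOpens := ⟨⊤, isAffineOpen_top Y⟩
  let J : Ideal B := I.ideal ⟨⊤, isAffineOpen_top YK⟩
  have hTeq : (I.map pr).ideal T = J.comap (algebraMap A B) :=
    Scheme.IdealSheafData.ideal_map_of_isAffineHom I pr T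
  refine ⟨fun y => ?_, ?_⟩
  · let q : Ideal A := ((isAffineOpen_top Y).primeIdealOf ⟨y, trivial⟩).asIdeal
    obtain ⟨g, hg, a, ha, h1, h2⟩ := exists_local_generator (R := R) (A := A) (B := B) J
      (fun P hP => exists_localData hI P) q
    let D : Y.affineOpens := ⟨Y.basicOpen g, (isAffineOpen_top Y).basicOpen g⟩
    have hloc' : IsLocalization.Away g Γ(Y, D.1) := (isAffineOpen_top Y).isLocalization_basicOpen g
    refine ⟨D, ?_, algebraMap A Γ(Y, D.1) a, ?_, ?_⟩
    · have h3 : (isAffineOpen_top Y).primeIdealOf ⟨y, trivial⟩ ∈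
          (isAffineOpen_top Y).fromSpec ⁻¹ᵁ Y.basicOpen g := by
        rw [(isAffineOpen_top Y).fromSpec_preimage_basicOpen]; exact hg
      show y ∈ Y.basicOpen g
      rw [Scheme.Hom.mem_preimage, IsAffineOpen.fromSpec_primeIdealOf] at h3
      exact h3
    · rw [mem_nonZeroDivisors_iff_right]
      intro z hz
      obtain ⟨⟨w, m⟩, hwm⟩ := IsLocalization.surj (Submonoid.powers g) z
      dsimp only at hwm
      have h4 : algebraMap A Γ(Y, D.1) (w * a) = 0 := by
        rw [map_mul, ← hwm, mul_right_comm, hz, zero_mul]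
      obtain ⟨⟨_, n, rfl⟩, hn⟩ := (IsLocalization.map_eq_zero_iff (Submonoid.powers g) _ (w * a)).1 h4
      obtain ⟨n', hn'⟩ := h2 (g ^ n * w) (by rw [mul_comm]; linear_combination hn)
      refine (IsLocalization.map_units Γ(Y, D.1) m).mul_left_injective ?_
      show z * _ = 0 * _
      rw [hwm, zero_mul, IsLocalization.map_eq_zero_iff (Submonoid.powers g)]
      refine ⟨⟨g ^ (n' + n), n' + n, rfl⟩, ?_⟩
      show g ^ (n' + n) * w = 0
      rw [pow_add, mul_assoc]
      exact hn'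
    · rw [show (I.map pr).ideal D = _ from ((I.map pr).map_ideal_basicOpen T g).symm, hTeq]
      refine le_antisymm (Ideal.map_le_iff_le_comap.2 fun x hx => ?_) ?_
      · obtain ⟨n, hn⟩ := h1 x hx
        rw [Ideal.mem_comap]
        show algebraMap A Γ(Y, D.1) x ∈ _
        rw [← Set.image_singleton, ← Ideal.map_span,
          IsLocalization.algebraMap_mem_map_algebraMap_iff (Submonoid.powers g)]
        exact ⟨g ^ n, ⟨n, rfl⟩, hn⟩
      · rw [Ideal.span_singleton_le_iff_mem]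
        exact Ideal.mem_map_of_mem _ ha
  · refine Scheme.IdealSheafData.ext_of_isAffine ?_
    rw [ProjLib.comap_ideal_eq (I.map pr) pr T ⟨⊤, isAffineOpen_top YK⟩ le_rfl, hTeq]
    have h5 : (pr.appLE T.1 ⊤ le_rfl).hom = algebraMap A B :=
      congrArg CommRingCat.Hom.hom (Scheme.Hom.appLE_eq_app pr)
    rw [h5]
    exact IsLocalization.map_comap (Algebra.algebraMapSubmonoid A (nonZeroDivisors R)) B J

theorem comap_map_ι {Y YK : Scheme.{u}} (pr : YK ⟶ Y) [QuasiCompact pr] (I : YK.IdealSheafData) {Y' YK' : Scheme.{u}}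
    {g : Y' ⟶ Y} [Flat g] {g' : YK' ⟶ YK} {pr' : YK' ⟶ Y'} (sq : IsPullback g' pr' pr g) :
    (I.map pr).comap g = (I.comap g').map pr' := by
  show (I.subschemeι ≫ pr).ker.comap g = _
  rw [← Desc19b.ker_pullback_snd_of_flat]
  have sq2 := (IsPullback.of_hasPullback g' I.subschemeι).flip.paste_vert sq
  rw [← Scheme.Hom.ker_comp_of_isIso sq2.isoPullback.hom, sq2.isoPullback_hom_snd, Scheme.Hom.ker_comp]
  rfl

theorem isEffCartierIdeal_map_generic {Y YK : Scheme.{u}}
    {π : Y ⟶ Spec (CommRingCat.of R)} [Smooth π] {pr : YK ⟶ Y} {πK : YK ⟶ Spec (CommRingCat.of K)}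
    (sq : IsPullback pr πK π (Spec.map (CommRingCat.ofHom (algebraMap R K))))
    {I : YK.IdealSheafData} (hI : BlowUp.IsEffCartierIdeal I) :
    BlowUp.IsEffCartierIdeal (I.map pr) ∧ (I.map pr).comap pr = I := by
  have : IsAffineHom pr := MorphismProperty.of_isPullback sq.flip inferInstance
  have key : ∀ U : Y.affineOpens, BlowUp.IsEffCartierIdeal ((I.map pr).comap U.1.ι) ∧
      ((I.map pr).comap pr).comap (pr ⁻¹ᵁ U.1).ι = I.comap (pr ⁻¹ᵁ U.1).ι := by
    intro U
    have : IsAffine U.1.toScheme := U.2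
    have sqU : IsPullback (pr ⁻¹ᵁ U.1).ι (pr ∣_ U.1) pr U.1.ι := (isPullback_morphismRestrict pr U.1).flip
    have hc : BlowUp.IsEffCartierIdeal (I.comap (pr ⁻¹ᵁ U.1).ι) := SDiv28.isEffCartier_comap_of_flat hI _
    have h := isEffCartierIdeal_map_generic_affine (R := R) (K := K) (sqU.flip.paste_vert sq) hc
    rw [comap_map_ι pr I sqU]
    refine ⟨h.1, ?_⟩
    rw [← Scheme.IdealSheafData.comap_comp, ← morphismRestrict_ι, Scheme.IdealSheafData.comap_comp,
      comap_map_ι pr I sqU]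
    exact h.2
  refine ⟨FlatMor12.BlowUpDisjoint.isEffCartierIdeal_of_cover _ fun y => ?_, ?_⟩
  · obtain ⟨_, ⟨U, hU, rfl⟩, hy, -⟩ := Y.isBasis_affineOpens.exists_subset_of_mem_open (Set.mem_univ y) isOpen_univ
    exact ⟨_, Scheme.Opens.ι U, inferInstance, ⟨⟨y, hy⟩, rfl⟩, (key ⟨U, hU⟩).1⟩
  · have hcov : ∀ y : YK, ∃ U : Y.affineOpens, y ∈ Set.range (pr ⁻¹ᵁ U.1).ι := fun y => by
      obtain ⟨_, ⟨U, hU, rfl⟩, hy, -⟩ :=
        Y.isBasis_affineOpens.exists_subset_of_mem_open (Set.mem_univ (pr y)) isOpen_univ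
      exact ⟨⟨U, hU⟩, ⟨y, hy⟩, rfl⟩
    exact le_antisymm (Desc19b.idealSheafData_le_of_family _ hcov fun U => (key U).2.le)
      (Desc19b.idealSheafData_le_of_family _ hcov fun U => (key U).2.ge)

open AlgSp

/-- an effective Cartier divisor on the generic fibre of a smooth space over a valuation ring extends -/
theorem exists_cartier_extension {S : Scheme.{u}} (str : Spec (CommRingCat.of R) ⟶ S) {X XK D : Sp S}
    (hX : IsAlgSpace X) (hD' : IsAlgSpace D) (f : X ⟶ (yon S).obj (Over.mk str)) (hf : LocP @Smooth f)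
    (g : XK ⟶ X) (fK : XK ⟶ (yon S).obj (Over.mk ((Spec.map (CommRingCat.ofHom (algebraMap R K))) ≫ str)))
    (hXK : IsPullback g fK f ((yon S).map (Over.homMk (Spec.map (CommRingCat.ofHom (algebraMap R K))) rfl :
      Over.mk ((Spec.map (CommRingCat.ofHom (algebraMap R K))) ≫ str) ⟶ Over.mk str)))
    (i : D ⟶ XK) (hD : IsEffCartierSub i) :
    ∃ (Z : Sp S) (i' : Z ⟶ X) (k : D ⟶ Z), IsAlgSpace Z ∧ IsEffCartierSub i' ∧ IsPullback k i i' g := by
  obtain ⟨V, p, he, hs⟩ := hX.atlas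
  obtain ⟨w, hw⟩ := (yon S).map_surjective (p ≫ f)
  have hsm : Smooth w.left := hf p (𝟙 _) w he (repWith_id _ _) (by rw [Category.comp_id, hw])
  let ιK := Spec.map (CommRingCat.ofHom (algebraMap R K))
  let VK : Over S := Over.mk (pullback.fst w.left ιK ≫ V.hom)
  let pr : VK ⟶ V := Over.homMk (pullback.fst w.left ιK)
  let prK : VK ⟶ Over.mk (ιK ≫ str) := Over.homMk (pullback.snd w.left ιK) (by
    show pullback.snd w.left ιK ≫ ιK ≫ str = pullback.fst w.left ιK ≫ V.hom
    rw [← pullback.condition_assoc, show w.left ≫ str = V.hom from Over.w w])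
  have sq₀ : IsPullback prK pr (Over.homMk ιK rfl : Over.mk (ιK ≫ str) ⟶ Over.mk str) w :=
    IsPullback.of_map (Over.forget S) (Over.OverMorphism.ext pullback.condition.symm)
      (IsPullback.of_hasPullback w.left ιK).flip
  let aK : (yon S).obj VK ⟶ XK := hXK.lift ((yon S).map pr ≫ p) ((yon S).map prK) (by
    rw [Category.assoc, ← hw, ← Functor.map_comp, ← Functor.map_comp, sq₀.w])
  have sqK : IsPullback aK ((yon S).map pr) g p := by
    refine IsPullback.of_right ?_ (hXK.lift_fst _ _ _) hXK.flip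
    rw [hXK.lift_snd, ← hw]
    exact sq₀.map (yon S)
  have heK : RepWith @Etale aK := RepWith.baseChange sqK.flip he
  have hsK : RepWith @Surjective aK := RepWith.baseChange sqK.flip hs
  let IK := chartIdeal hD.1 aK
  have hIK : BlowUp.IsEffCartierIdeal IK := isEffCartierIdeal_chartIdeal hD heK
  obtain ⟨fst, sq1⟩ := exists_subscheme_chart hD.1 aK
  let j : Over.mk (IK.subschemeι ≫ VK.hom) ⟶ VK := Over.homMk IK.subschemeι rfl
  haveI : QuasiCompact (pullback.fst w.left ιK) := inferInstance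
  let C : ImgChart (i ≫ g) :=
    { V := V, p := p, he := he, hs := hs, P := _, fst := fst, snd := (yon S).map j ≫ (yon S).map pr
      sq := sq1.paste_vert sqK
      W := _, a := 𝟙 _, hae := repWith_id _ _, has := repWith_id _ _, h := j ≫ pr
      w := by rw [Category.id_comp, Functor.map_comp] }
  have hqc : QuasiCompact C.h.left := inferInstanceAs (QuasiCompact (IK.subschemeι ≫ pullback.fst w.left ιK))
  obtain ⟨Z, i', hZ, hImg⟩ := exists_isSchImage hD' hX (i ≫ g)
  have hker : chartIdeal hImg.1 p = IK.map (pullback.fst w.left ιK) := chartIdeal_of_isSchImage hD' hX C hqc hImg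
  obtain ⟨hEff, hcomap⟩ := isEffCartierIdeal_map_generic (R := R) (K := K)
    (IsPullback.of_hasPullback w.left ιK) hIK
  obtain ⟨k, hk⟩ := hImg.2.1
  refine ⟨Z, i', k, hZ, isEffCartierSub_of_atlas hImg.1 he hs (hker ▸ hEff), ?_⟩
  obtain ⟨P, pP, iX, sqP⟩ : ∃ (P : Sp S) (pP : P ⟶ Z) (iX : P ⟶ XK), IsPullback pP iX i' g :=
    ⟨_, _, _, IsPullback.of_hasPullback i' g⟩
  have hiX : RepWith @IsClosedImmersion iX := RepWith.baseChange sqP hImg.1
  have heq : chartIdeal hiX aK = IK := by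
    rw [chartIdeal_of_isPullback hImg.1 sqP hiX aK, sqK.w, chartIdeal_comp, hker]
    exact hcomap
  obtain ⟨l', hl'⟩ := (factors_closed_iff hiX hD.1 heK hsK).2 heq.ge
  let l : D ⟶ P := sqP.lift k i hk
  have hl : l ≫ iX = i := sqP.lift_snd _ _ _
  haveI := mono_closedImmersion hiX
  haveI := mono_closedImmersion hD.1
  let e : P ≅ D := ⟨l', l, (cancel_mono iX).1 (by rw [Category.assoc, hl, hl', Category.id_comp]),
    (cancel_mono i).1 (by rw [Category.assoc, hl', hl, Category.id_comp])⟩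
  refine sqP.of_iso e (Iso.refl _) (Iso.refl _) (Iso.refl _) ?_ ?_ (by simp) (by simp)
  · rw [Iso.refl_hom, Category.comp_id]
    show pP = l' ≫ k
    haveI := mono_closedImmersion hImg.1
    refine (cancel_mono i').1 ?_
    rw [Category.assoc, hk, sqP.w, ← Category.assoc, hl']
  · rw [Iso.refl_hom, Category.comp_id]
    exact hl'.symm

end Groth.Agent.AlgSpLib
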