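import Groth.Agent.AlgSpLib.DimFun
import Groth.Agent.AlgSpLib.LocP
import Groth.Agent.AlgSpLib.EtLocalInst
import Groth.Agent.AlgSpLib.PointsTop
import Groth.Agent.EGA43.DimFormula.Interval
import Groth.Agent.EGA43.DimFormula.Charts
import Groth.Prelude.Def_W4stk3decentspacesp2Birat

/-!
Points of decent spaces locally of finite type over a universally catenary base form a catenary space.
-/

universe u

open CategoryTheory CategoryTheory.Limits AlgebraicGeometry IsLocalRing TopologicalSpace
open AlgSp

noncomputable section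

namespace Groth.Agent.AlgSpLib

set_option backward.isDefEq.respectTransparency.types false

open Groth.Agent.EGA43.DimFormula

theorem cod_le_one_of_immediate {Y : Scheme.{u}} [IsLocallyNoetherian Y] {a b : Y} (hab : a ⤳ b)
    (himm : ∀ z : Y, a ⤳ z → z ⤳ b → z = a ∨ z = b) : cod a b ≤ 1 := by
  obtain ⟨P, rfl⟩ := exists_toPt hab
  rw [cod_toPt]
  haveI := isLocalRing_quotient P.asIdeal P.isPrime.ne_top
  let R := Y.presheaf.stalk b
  let A := R ⧸ P.asIdeal
  let g : PrimeSpectrum A → PrimeSpectrum R := PrimeSpectrum.comap (Ideal.Quotient.mk P.asIdeal)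
  have hg : ∀ Q, g Q = P ∨ g Q = closedPoint R := fun Q => by
    have hPQ : P ≤ g Q := by
      intro r hr
      show Ideal.Quotient.mk P.asIdeal r ∈ Q.asIdeal
      rw [Ideal.Quotient.eq_zero_iff_mem.2 hr]
      exact zero_mem _
    rcases himm _ ((toPt_specializes_iff b P (g Q)).2 hPQ) (toPt_specializes b (g Q)) with e | e
    · exact Or.inl (toPt_injective b e)
    · exact Or.inr (toPt_injective b (e.trans (toPt_closedPoint b).symm))
  classical
  let F : PrimeSpectrum A → Fin 2 := fun Q => if g Q = P then 0 else 1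
  have hgi : Function.Injective g := fun Q Q' e => PrimeSpectrum.ext
    (Ideal.comap_injective_of_surjective _ Ideal.Quotient.mk_surjective (congrArg PrimeSpectrum.asIdeal e))
  have hF : StrictMono F := fun Q Q' hQ => by
    have hlt : g Q < g Q' := lt_of_le_of_ne (fun r hr => hQ.le hr) fun e => hQ.ne (hgi e)
    rcases hg Q with h1 | h1
    · rcases hg Q' with h2 | h2
      · exact absurd (h1.trans h2.symm) hlt.ne
      · rw [show F Q = 0 from if_pos h1, show F Q' = 1 from if_neg fun e => hlt.ne (h1.trans e.symm)]
        decide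
    · exact absurd (IsLocalRing.le_maximalIdeal (g Q').isPrime.ne_top) (fun hle => by
        have : g Q' ≤ g Q := by rw [h1]; exact hle
        exact (hlt.trans_le this).false)
  have h1 : ringKrullDim A ≤ Order.krullDim (Fin 2) := Order.krullDim_le_of_strictMono F hF
  have h2 : Order.krullDim (Fin 2) ≤ (1 : ℕ) := by
    refine iSup_le fun p => ?_
    have : p.length ≤ 1 := by
      have := Fintype.card_le_of_injective p.toFun p.strictMono.injective
      simp only [Fintype.card_fin] at this
      omega
    exact_mod_cast this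
  rw [ringKrullDim_eq_natDim] at h1
  exact_mod_cast h1.trans h2

variable {S : Scheme.{u}} [IsLocallyNoetherian S]
  (hS : ∀ s : ↥S, CAlg.IsUniversallyCatenary ↥(S.presheaf.stalk s))

include hS in
theorem cod_add_of_lft {U : Scheme.{u}} (f : U ⟶ S) [LocallyOfFiniteType f] {a b c : U} (hab : a ⤳ b)
    (hbc : b ⤳ c) : cod a b + cod b c = cod a c := by
  have h1 := eq_formula f hab (hS (f b))
  have h2 := eq_formula f hbc (hS (f c))
  have h3 := eq_formula f (hab.trans hbc) (hS (f c))
  have h4 := cod_add (hab.map f.continuous) (hbc.map f.continuous) (hS (f c))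
  omega

include hS in
/-- for a chart, the codimension over a fixed point only depends on the image in the space -/
theorem cod_eq_of_ofPt_eq {X : Sp S} {U : Over S} (a : (yon S).obj U ⟶ X) (ha : RepWith @Etale a)
    [LocallyOfFiniteType U.hom] {w w' u : ↥U.left} (he : Points.ofPt a w = Points.ofPt a w')
    (h : w ⤳ u) (h' : w' ⤳ u) : cod w u = cod w' u := by
  have sq := ha.1.isPullback' a
  obtain ⟨r, hr1, hr2⟩ := (ofPt_eq_ofPt_iff sq w w').1 he
  have het1 : Etale (ha.1.fst' a).left := ha.property _ _ _ sq.flip
  have het2 : Etale (ha.1.snd a).left := ha.property_snd a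
  have := locallyQuasiFinite_of_etale (ha.1.fst' a).left
  have := locallyQuasiFinite_of_etale (ha.1.snd a).left
  have hf : U.hom w = U.hom w' := by
    rw [← hr1, ← hr2, ← Scheme.Hom.comp_apply, ← Scheme.Hom.comp_apply, Over.w (ha.1.fst' a), Over.w (ha.1.snd a)]
  have ht : trdAt U.hom w = trdAt U.hom w' := by
    rw [← hr1, ← hr2, ← trdAt_comp_locallyQuasiFinite, ← trdAt_comp_locallyQuasiFinite,
      Over.w (ha.1.fst' a), Over.w (ha.1.snd a)]
  have h1 := eq_formula U.hom h (hS (U.hom u))
  have h2 := eq_formula U.hom h' (hS (U.hom u))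
  rw [hf] at h1
  omega

include hS in
theorem isCatenary_points (X : AlgSp.Space S) (hX : IsDecent X.obj)
    (p : X.obj ⟶ (yon S).obj (Over.mk (𝟙 S))) (hp : LocP @LocallyOfFiniteType p) :
    W4stk3decentspacesp2.IsCatenarySpace (Points X.obj) := by
  have := quasiSober_points X.property hX
  have := t0Space_points X.property hX
  obtain ⟨U, a, hae, has⟩ := X.property.atlas
  have hl : LocallyOfFiniteType U.hom := by
    have h := repWith_comp_of_locP etLocal_lft (IsAlgSpace.yon_obj _) hp a hae
    obtain ⟨m, hm⟩ := (yon S).map_surjective (a ≫ p)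
    rw [← hm] at h
    have h' := (repWith_yon_map_iff (P := @LocallyOfFiniteType) m).1 h
    have : m.left = U.hom := (Category.comp_id m.left).symm.trans (Over.w m)
    rwa [this] at h'
  intro T T' hTT'
  let g : IrreducibleCloseds (Points X.obj) → Points X.obj := fun Z => Z.2.genericPoint
  have hg : ∀ Z : IrreducibleCloseds (Points X.obj), closure {g Z} = (Z : Set (Points X.obj)) := fun Z =>
    Z.2.isGenericPoint_genericPoint_closure.def.trans Z.3.closure_eq
  have hle : ∀ Z Z' : IrreducibleCloseds (Points X.obj), Z ≤ Z' → g Z' ⤳ g Z := fun Z Z' h =>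
    specializes_iff_mem_closure.2 (by
      rw [hg Z']
      exact h ((hg Z).le (subset_closure rfl)))
  have hge : ∀ Z Z' : IrreducibleCloseds (Points X.obj), g Z' ⤳ g Z → Z ≤ Z' := fun Z Z' h => by
    show (Z : Set (Points X.obj)) ⊆ Z'
    rw [← hg Z, ← hg Z']
    exact closure_minimal (Set.singleton_subset_iff.2 (specializes_iff_mem_closure.1 h)) isClosed_closure
  obtain ⟨u, hu⟩ := surjective_ofPt a has (g T)
  have := LocallyOfFiniteType.isLocallyNoetherian U.hom
  have hff : ∀ z : Points X.obj, FiniteFibres z := fun z => (FiniteFibres.of_mk (hX z)).2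
  have key : ∀ s : LTSeries (IrreducibleCloseds (Points X.obj)), s.head = T → ∀ i : Fin (s.length + 1),
      ∃ w : ↥U.left, w ⤳ u ∧ Points.ofPt a w = g (s i) ∧ (i : ℕ) ≤ cod w u ∧
        ((∀ j : Fin s.length, s j.castSucc ⋖ s j.succ) → cod w u = i) := by
    intro s hs i
    induction i using Fin.induction with
    | zero =>
      refine ⟨u, specializes_rfl, hu.trans (congrArg g hs.symm), Nat.zero_le _, fun _ => ?_⟩
      exact cod_self u
    | succ i ih =>
      obtain ⟨w, hw, hwa, hwi, hwc⟩ := ih
      have hlt := s.step i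
      obtain ⟨w', hw', hw'a⟩ := exists_specializes_chart (FiniteFibres.of_mk (hX (g (s i.succ)))).1 a hae w
        (hwa ▸ hle _ _ hlt.le)
      have hne : w' ≠ w := fun e => by
        subst e
        exact hlt.not_ge (hge _ _ (by rw [← hwa, hw'a]))
      have hadd := cod_add_of_lft hS U.hom hw' hw
      have hpos := cod_pos hw' hne
      refine ⟨w', hw'.trans hw, hw'a, ?_, fun hsat => ?_⟩
      · rw [Fin.val_succ]
        rw [Fin.val_castSucc] at hwi
        omega
      · have h1 : cod w' w ≤ 1 := cod_le_one_of_immediate hw' fun z hz1 hz2 => by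
          let Z : IrreducibleCloseds (Points X.obj) :=
            ⟨closure {Points.ofPt a z}, isIrreducible_singleton.closure, isClosed_closure⟩
          have hZ : g Z = Points.ofPt a z :=
            IsGenericPoint.eq (S := (Z : Set (Points X.obj))) (hg Z) rfl
          have l1 : s i.castSucc ≤ Z := hge _ _ (by
            rw [hZ, ← hwa]; exact hz2.map (Points.continuous_ofPt a))
          have l2 : Z ≤ s i.succ := hge _ _ (by
            rw [hZ, ← hw'a]; exact hz1.map (Points.continuous_ofPt a))
          rcases (hsat i).eq_or_eq l1 l2 with e | e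
          · right
            have he : Points.ofPt a z = Points.ofPt a w := by rw [← hZ, e, hwa]
            exact (eq_of_specializes_of_finiteFibres (hff _) a hae rfl he hz2).symm
          · left
            have he : Points.ofPt a z = Points.ofPt a w' := by rw [← hZ, e, hw'a]
            exact eq_of_specializes_of_finiteFibres (hff _) a hae he rfl hz1
        have h2 := hwc hsat
        rw [Fin.val_succ]
        rw [Fin.val_castSucc] at h2
        omega
  obtain ⟨w₀, hw₀, hw₀a⟩ := exists_specializes_chart (FiniteFibres.of_mk (hX (g T'))).1 a hae u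
    (hu ▸ hle _ _ hTT')
  have hlen : ∀ s : LTSeries (IrreducibleCloseds (Points X.obj)), s.head = T → s.last = T' →
      s.length ≤ cod w₀ u ∧ ((∀ j : Fin s.length, s j.castSucc ⋖ s j.succ) → cod w₀ u = s.length) := by
    intro s h1 h2
    obtain ⟨w, hw, hwa, hwi, hwc⟩ := key s h1 (Fin.last _)
    have he : cod w u = cod w₀ u := cod_eq_of_ofPt_eq hS a hae
      (hwa.trans ((congrArg g h2).trans hw₀a.symm)) hw hw₀
    rw [Fin.val_last] at hwi hwc
    exact ⟨he ▸ hwi, fun h => he ▸ hwc h⟩
  exact ⟨⟨cod w₀ u, fun s h1 h2 => (hlen s h1 h2).1⟩,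
    fun s t hs1 hs2 ht1 ht2 hs ht => ((hlen s hs1 hs2).2 hs).symm.trans ((hlen t ht1 ht2).2 ht)⟩

end Groth.Agent.AlgSpLib
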