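import Groth.Agent.AlgSpLib.DiagCrit
import Groth.Agent.AlgSpLib.MorTop
import Groth.Agent.AlgSpLib.MorProper
import Groth.Agent.AlgSpLib.PointsTop
import Groth.Agent.AlgSpLib.FpqcBaseAffine

/-!
Targets of universally closed surjections from affine schemes over a separated base are separated, and such
morphisms are integral.
-/

universe u

open CategoryTheory CategoryTheory.Limits AlgebraicGeometry Opposite
open AlgSp

noncomputable section

set_option linter.style.haveILetI false
set_option linter.unusedSectionVars false

namespace Groth.Agent.AlgSpLib.ChevGen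

open Groth.Agent.AlgSpLib

set_option backward.isDefEq.respectTransparency.types false
set_option backward.isDefEq.respectTransparency false

variable {S : Scheme.{u}} {X : Sp S}

/-- properties of the diagonal seen on a fibre product of schemes -/
theorem lift_of_repWith_diag {P : MorphismProperty Scheme.{u}} [P.IsStableUnderBaseChange]
    (hd : RepWith P (Limits.diag X)) {R U V : Over S} {a : (yon S).obj U ⟶ X} {b : (yon S).obj V ⟶ X}
    {fst : R ⟶ U} {snd : R ⟶ V} (sq : IsPullback ((yon S).map fst) ((yon S).map snd) a b) :
    P (pullback.lift fst.left snd.left ((Over.w fst).trans (Over.w snd).symm)) := by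
  haveI : P.RespectsIso := MorphismProperty.IsStableUnderBaseChange.respectsIso
  have h := RepWith.baseChange (isPullback_diag_prod_map sq) hd
  have e : prod.lift ((yon S).map fst) ((yon S).map snd) =
      (yon S).map (prod.lift fst snd) ≫ prodComparison (yon S) U V := by
    apply Limits.prod.hom_ext <;> simp [← Functor.map_comp, prod.lift_fst, prod.lift_snd]
  rw [e, MorphismProperty.cancel_right_of_respectsIso (RepWith P), repWith_yon_map_iff P,
    ← MorphismProperty.cancel_right_of_respectsIso P _ (Over.prodLeftIsoPullback U V).hom] at h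
  convert h using 1
  apply pullback.hom_ext
  · simp [← Over.comp_left, prod.lift_fst, pullback.lift_fst]
  · simp [← Over.comp_left, prod.lift_snd, pullback.lift_snd]

variable (hX : IsAlgSpace X) {T : Over S} (f : (yon S).obj T ⟶ X) (hsurj : IsSurjectiveMor f)

include hX hsurj in
/-- base changes of a surjection are surjective -/
theorem surjective_snd {U : Over S} (g : (yon S).obj U ⟶ X) :
    Surjective ((hX.representable_from_yon f).snd g).left := by
  refine ⟨fun u => ?_⟩
  let hf := hX.representable_from_yon f
  obtain ⟨t, ht⟩ := hsurj (Points.map g (Points.schemeEquiv U u))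
  obtain ⟨z, -, hz⟩ := exists_point_of_isPullback (hf.isPullback g) ht
  obtain ⟨w, rfl⟩ := (Points.schemeEquiv _).surjective z
  exact ⟨w, (Points.schemeEquiv U).injective ((map_yon_map_ofScheme _ w).symm.trans hz)⟩

variable (huc : IsUnivClosedMor f)

include hX huc in
/-- base changes of a universally closed morphism are universally closed -/
theorem universallyClosed_snd {U : Over S} (g : (yon S).obj U ⟶ X) :
    UniversallyClosed ((hX.representable_from_yon f).snd g).left :=
  ((repWith_universallyClosed_iff (hX.representable_from_yon f)).2 huc).property_snd g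

include hX huc hsurj in
/-- the diagonal of the target of a universally closed surjection from a separated source is closed -/
theorem isSeparatedSp_of_univClosed [IsSeparated T.hom] : IsSeparatedSp X := by
  refine repWith_diag_of_affine hX _ fun U R a b fst snd hU sq => ?_
  let hf := hX.representable_from_yon f
  let j := pullback.lift fst.left snd.left ((Over.w fst).trans (Over.w snd).symm)
  haveI : Mono j := mono_lift_left sq
  haveI : LocallyOfFiniteType j := lift_of_repWith_diag (repWith_diag_lft hX) sq
  let V₁ := hf.pullback a
  let V₂ := hf.pullback b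
  let t₁ : V₁ ⟶ T := hf.fst' a
  let t₂ : V₂ ⟶ T := hf.fst' b
  let P' : Over S := Over.mk (pullback.fst t₁.left t₂.left ≫ V₁.hom)
  let c₁ : P' ⟶ V₁ := Over.homMk (pullback.fst t₁.left t₂.left)
  let c₂ : P' ⟶ V₂ := Over.homMk (pullback.snd t₁.left t₂.left) (by
    show pullback.snd t₁.left t₂.left ≫ V₂.hom = pullback.fst t₁.left t₂.left ≫ V₁.hom
    rw [← Over.w t₁, ← Over.w t₂, pullback.condition_assoc])
  have hc : c₁ ≫ t₁ = c₂ ≫ t₂ := Over.OverMorphism.ext pullback.condition
  have hπ : (yon S).map (c₁ ≫ hf.snd a) ≫ a = (yon S).map (c₂ ≫ hf.snd b) ≫ b := by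
    rw [Functor.map_comp_assoc, Functor.map_comp_assoc, ← (hf.isPullback' a).w, ← (hf.isPullback' b).w,
      ← Functor.map_comp_assoc, hc, Functor.map_comp_assoc]
  obtain ⟨π, hπ₁, hπ₂⟩ := (exists_of_isPullback_yon sq (c₁ ≫ hf.snd a) (c₂ ≫ hf.snd b)).1 hπ
  haveI : Surjective π.left := by
    let g := (yon S).map fst ≫ a
    let r := hf.snd g
    have hr : Surjective r.left := surjective_snd hX f hsurj g
    obtain ⟨q₁, hq₁t, hq₁⟩ := (exists_of_isPullback_yon (hf.isPullback' a) (hf.fst' g) (r ≫ fst)).1 (by
      rw [Functor.map_comp_assoc]; exact (hf.isPullback' g).w)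
    obtain ⟨q₂, hq₂t, hq₂⟩ := (exists_of_isPullback_yon (hf.isPullback' b) (hf.fst' g) (r ≫ snd)).1 (by
      rw [Functor.map_comp_assoc, ← sq.w]; exact (hf.isPullback' g).w)
    have hw : q₁.left ≫ t₁.left = q₂.left ≫ t₂.left := by
      rw [← Over.comp_left, ← Over.comp_left, hq₁t, hq₂t]
    let κ : hf.pullback g ⟶ P' := Over.homMk (pullback.lift q₁.left q₂.left hw) (by
      show pullback.lift q₁.left q₂.left hw ≫ pullback.fst t₁.left t₂.left ≫ V₁.hom = _
      rw [pullback.lift_fst_assoc, Over.w q₁])
    have hκ : κ ≫ π = r := by
      refine (yon S).map_injective (sq.hom_ext ?_ ?_)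
      · rw [← Functor.map_comp, ← Functor.map_comp, Category.assoc, hπ₁, ← Category.assoc]
        exact congrArg (yon S).map ((congrArg (· ≫ hf.snd a)
          (Over.OverMorphism.ext (pullback.lift_fst _ _ _) : κ ≫ c₁ = q₁)).trans hq₁)
      · rw [← Functor.map_comp, ← Functor.map_comp, Category.assoc, hπ₂, ← Category.assoc]
        exact congrArg (yon S).map ((congrArg (· ≫ hf.snd b)
          (Over.OverMorphism.ext (pullback.lift_snd _ _ _) : κ ≫ c₂ = q₂)).trans hq₂)
    refine ⟨fun x => ?_⟩
    obtain ⟨y, hy⟩ := hr.surj x
    exact ⟨κ.left y, by rw [← hy, ← hκ, Over.comp_left, Scheme.Hom.comp_apply]⟩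
  haveI : UniversallyClosed (π.left ≫ j) := by
    haveI : UniversallyClosed (hf.snd a).left := universallyClosed_snd hX f huc a
    haveI : UniversallyClosed (hf.snd b).left := universallyClosed_snd hX f huc b
    haveI : UniversallyClosed (pullback.map V₁.hom V₂.hom U.hom U.hom (hf.snd a).left (hf.snd b).left (𝟙 S)
        (by rw [Category.comp_id, Over.w (hf.snd a)]) (by rw [Category.comp_id, Over.w (hf.snd b)])) :=
      MorphismProperty.pullbackMap (P := @UniversallyClosed)
        (universallyClosed_snd hX f huc a) (universallyClosed_snd hX f huc b) (Over.w (hf.snd a)).symm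
        (Over.w (hf.snd b)).symm
    have e : π.left ≫ j =
        (pullback.mapDesc t₁.left t₂.left T.hom ≫ (pullback.congrHom (Over.w t₁) (Over.w t₂)).hom) ≫
        pullback.map V₁.hom V₂.hom U.hom U.hom (hf.snd a).left (hf.snd b).left (𝟙 S)
          (by rw [Category.comp_id, Over.w (hf.snd a)]) (by rw [Category.comp_id, Over.w (hf.snd b)]) := by
      apply pullback.hom_ext
      · simp only [j, Category.assoc, pullback.lift_fst, pullback.mapDesc, pullback.map, pullback.congrHom_hom,
          pullback.lift_fst_assoc]
        rw [← Over.comp_left, hπ₁, Over.comp_left]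
        simp [c₁]
      · simp only [j, Category.assoc, pullback.lift_snd, pullback.mapDesc, pullback.map, pullback.congrHom_hom,
          pullback.lift_snd_assoc]
        rw [← Over.comp_left, hπ₂, Over.comp_left]
        simp [c₂]
    rw [e]
    infer_instance
  haveI : UniversallyClosed j := UniversallyClosed.of_comp_surjective π.left j
  haveI : IsProper j := {}
  exact (IsClosedImmersion.iff_isProper_and_mono _).2 ⟨inferInstance, inferInstance⟩

include hX in
/-- over a separated base, morphisms from affine schemes to separated spaces are affine -/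
theorem isAffine_pullback [S.IsSeparated] [IsAffine T.left] (hsep : IsSeparatedSp X) {U : Over S}
    [IsAffine U.left] (g : (yon S).obj U ⟶ X) :
    IsClosedImmersion (pullback.lift ((hX.representable_from_yon f).fst' g).left
      ((hX.representable_from_yon f).snd g).left ((Over.w _).trans (Over.w _).symm)) ∧
      IsAffine ((hX.representable_from_yon f).pullback g).left := by
  let hf := hX.representable_from_yon f
  haveI : IsAffineHom T.hom := by
    haveI : IsAffineHom (T.hom ≫ terminal.from S) := by rw [terminal.comp_from]; infer_instance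
    exact MorphismProperty.of_postcomp (W := @IsAffineHom) (W' := @IsSeparated) T.hom (terminal.from S)
      inferInstance inferInstance
  haveI h := lift_of_repWith_diag (P := @IsClosedImmersion) hsep (hf.isPullback' g)
  exact ⟨h, isAffine_of_isAffineHom (pullback.lift (hf.fst' g).left (hf.snd g).left
    ((Over.w _).trans (Over.w _).symm))⟩

include hX huc in
/-- universally closed morphisms from affine schemes to separated spaces are integral -/
theorem isIntegralMor_of_univClosed [S.IsSeparated] [IsAffine T.left] (hsep : IsSeparatedSp X) :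
    IsIntegralMor f := fun Z hZ g => by
  let hf := hX.representable_from_yon f
  haveI := hZ
  haveI : IsAffine (hf.pullback g).left := (isAffine_pullback hX f hsep g).2
  haveI : IsAffineHom (hf.snd g).left := isAffineHom_of_isAffine _
  exact ⟨hf.pullback g, hf.snd g, hf.fst g, hf.isPullback g, inferInstance,
    IsIntegralHom.iff_universallyClosed_and_isAffineHom.2 ⟨universallyClosed_snd hX f huc g, inferInstance⟩⟩

end Groth.Agent.AlgSpLib.ChevGen
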