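import Groth.Agent.AlgSpLib.ChevCoord
import Groth.Agent.AlgSpLib.ChevSep
import Groth.Agent.AlgSpLib.SchImage
import Groth.Agent.AlgSpLib.CutOut
import Groth.Agent.AlgSpLib.LimitAffine
import Groth.Agent.AlgSpLib.FpqcBaseAffine2
import Groth.Agent.Stk19b.ZarQs

/-!
An integral morphism from an affine scheme to a separated space factors through a finite one with affine source.
-/

universe u

open CategoryTheory CategoryTheory.Limits AlgebraicGeometry Opposite TensorProduct
open AlgSp

noncomputable section

set_option linter.style.haveILetI false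
set_option linter.unusedSectionVars false

namespace Groth.Agent.AlgSpLib.ChevGen

open Groth.Agent.AlgSpLib

set_option backward.isDefEq.respectTransparency.types false
set_option backward.isDefEq.respectTransparency false

variable {A : Type u} [CommRing A]

instance isAffine_oB (C : Type u) [CommRing C] [Algebra A C] : IsAffine (oB A C).left :=
  inferInstanceAs (IsAffine (Spec (CommRingCat.of C)))

section algebra

variable {B R : Type u} [CommRing B] [CommRing R] [Algebra A B] [Algebra A R]

/-- the subalgebra generated by finitely many elements -/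
abbrev Rt (A : Type u) [CommRing A] {R : Type u} [CommRing R] [Algebra A R] (t : Finset R) : Subalgebra A R :=
  Algebra.adjoin A (t : Set R)

/-- the map of tensor products -/
abbrev φt (B : Type u) [CommRing B] [Algebra A B] (t : Finset R) : B ⊗[A] (Rt A t) →ₐ[A] B ⊗[A] R :=
  Algebra.TensorProduct.map (AlgHom.id A B) (Rt A t).val

theorem Rt_mono {t t' : Finset R} (h : t ⊆ t') : Rt A t ≤ Rt A t' :=
  Algebra.adjoin_mono (Finset.coe_subset.2 h)

theorem map_val_inclusion {P Q : Subalgebra A R} (h : P ≤ Q) (y : B ⊗[A] P) :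
    Algebra.TensorProduct.map (AlgHom.id A B) Q.val
      (Algebra.TensorProduct.map (AlgHom.id A B) (Subalgebra.inclusion h) y) =
      Algebra.TensorProduct.map (AlgHom.id A B) P.val y := by
  induction y using TensorProduct.induction_on with
  | zero => rw [map_zero, map_zero, map_zero]
  | tmul b r =>
    rw [Algebra.TensorProduct.map_tmul, Algebra.TensorProduct.map_tmul, Algebra.TensorProduct.map_tmul]
    rfl
  | add x y hx hy => rw [map_add, map_add, map_add, hx, hy]

theorem φt_mono {t t' : Finset R} (h : t ⊆ t') (y : B ⊗[A] (Rt A t)) :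
    φt B t' (Algebra.TensorProduct.map (AlgHom.id A B) (Subalgebra.inclusion (Rt_mono h)) y) = φt B t y :=
  map_val_inclusion (Rt_mono h) y

theorem exists_φt (k : B ⊗[A] R) : ∃ (t : Finset R) (y : B ⊗[A] (Rt A t)), φt B t y = k := by
  classical
  induction k using TensorProduct.induction_on with
  | zero => exact ⟨∅, 0, map_zero _⟩
  | tmul b r =>
    exact ⟨{r}, b ⊗ₜ ⟨r, Algebra.subset_adjoin (by simp)⟩, rfl⟩
  | add x y hx hy =>
    obtain ⟨t, a, rfl⟩ := hx
    obtain ⟨t', a', rfl⟩ := hy
    have h1 : t ⊆ t ∪ t' := Finset.subset_union_left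
    have h2 : t' ⊆ t ∪ t' := Finset.subset_union_right
    exact ⟨t ∪ t', Algebra.TensorProduct.map (AlgHom.id A B) (Subalgebra.inclusion (Rt_mono h1)) a +
      Algebra.TensorProduct.map (AlgHom.id A B) (Subalgebra.inclusion (Rt_mono h2)) a',
      by rw [map_add, φt_mono h1, φt_mono h2]⟩

end algebra

variable {X : AlgSp.Space (S0 A)} {B R : Type u} [CommRing B] [CommRing R] [Algebra A B] [Algebra A R]
  (f : (yon (S0 A)).obj (oB A R) ⟶ X.obj) (p : (yon (S0 A)).obj (oB A B) ⟶ X.obj)

/-- the graph into the product with a finite stage -/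
abbrev graphT (t : Finset R) : (yon (S0 A)).obj (oB A R) ⟶ X.obj ⨯ (yon (S0 A)).obj (oB A (Rt A t)) :=
  prod.lift f ((yon (S0 A)).map (bMap (Rt A t).val))

/-- the chart of the product -/
abbrev chartT (t : Finset R) :
    (yon (S0 A)).obj (oB A (B ⊗[A] (Rt A t))) ⟶ X.obj ⨯ (yon (S0 A)).obj (oB A (Rt A t)) :=
  prod.lift ((yon (S0 A)).map (bMap (Algebra.TensorProduct.includeLeft : B →ₐ[A] B ⊗[A] (Rt A t))) ≫ p)
    ((yon (S0 A)).map (bMap (Algebra.TensorProduct.includeRight : (Rt A t) →ₐ[A] B ⊗[A] (Rt A t))))

theorem bMap_comp {C D E : Type u} [CommRing C] [CommRing D] [CommRing E] [Algebra A C] [Algebra A D] [Algebra A E]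
    (φ : C →ₐ[A] D) (ψ : D →ₐ[A] E) : bMap ψ ≫ bMap φ = bMap (ψ.comp φ) := oMap_comp _ _ _

variable {f p}
variable (hsep : IsSeparatedSp X.obj) (hint : IsIntegralMor f) (hpe : RepWith @Etale p) (hps : RepWith @Surjective p)

include hsep in
theorem repWith_affine_chart : RepWith @IsAffineHom p :=
  (isAffineMor_iff_repWith p).1 fun Z hZ g => by
    haveI := hZ
    exact ⟨_, _, _, (X.property.representable_from_yon p).isPullback g, (isAffine_pullback X.property p hsep g).2⟩

include hpe in
theorem etale_chartT (t : Finset R) : RepWith @Etale (chartT p t) :=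
  RepWith.baseChange (isPullback_graph p) hpe

include hps in
theorem surjective_chartT (t : Finset R) : RepWith @Surjective (chartT p t) :=
  RepWith.baseChange (isPullback_graph p) hps

include hsep in
theorem affine_chartT (t : Finset R) : RepWith @IsAffineHom (chartT p t) :=
  RepWith.baseChange (isPullback_graph p) (repWith_affine_chart hsep)

theorem isAlgSpace_prodT (X : AlgSp.Space (S0 A)) (t : Finset R) :
    IsAlgSpace (X.obj ⨯ (yon (S0 A)).obj (oB A (Rt A t))) :=
  isAlgSpace_prod X.property (IsAlgSpace.yon_obj _)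

include hsep hpe hps in
theorem qs_prodT (t : Finset R) : IsQuasiSeparatedSp (X.obj ⨯ (yon (S0 A)).obj (oB A (Rt A t))) :=
  Stk19b.ZarQs.isQuasiSeparatedSp_of_affine_chart (isAlgSpace_prodT X t) (chartT p t)
    (RepWith.mono (fun _ _ g (_ : IsAffineHom g) => (inferInstance : QuasiCompact g)) (affine_chartT hsep t))
    (etale_chartT hpe t) (surjective_chartT hps t)

variable (Z : Finset R → Sp (S0 A)) (i : ∀ t, Z t ⟶ X.obj ⨯ (yon (S0 A)).obj (oB A (Rt A t)))
  (hZ : ∀ t, IsAlgSpace (Z t)) (hi : ∀ t, IsSchImage (graphT f t) (i t))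

/-- the chart of a stage as an object of the etale site -/
abbrev chartE (t : Finset R) : EtOver (X.obj ⨯ (yon (S0 A)).obj (oB A (Rt A t))) :=
  EtOver.mk (chartT p t) (etale_chartT hpe t)

/-- the fibre over the chart mapped to the tensor product -/
def graphN : (X.property.representable_from_yon f).pullback p ⟶ oB A (B ⊗[A] R) :=
  (isPullback_oA (A := A) (B := B) (C := R) (𝟙 (S0 A))).lift
    ((X.property.representable_from_yon f).snd p) ((X.property.representable_from_yon f).fst' p)
    (Over.mkIdTerminal.hom_ext _ _)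

theorem graphN_left : graphN (f := f) (p := p) ≫ bMap (Algebra.TensorProduct.includeLeft : B →ₐ[A] B ⊗[A] R) =
    (X.property.representable_from_yon f).snd p := IsPullback.lift_fst _ _ _ _

theorem graphN_right : graphN (f := f) (p := p) ≫ bMap (Algebra.TensorProduct.includeRight : R →ₐ[A] B ⊗[A] R) =
    (X.property.representable_from_yon f).fst' p := IsPullback.lift_snd _ _ _ _

theorem graphN_t_left (t : Finset R) :
    (graphN (f := f) (p := p) ≫ bMap (φt B t)) ≫
      bMap (Algebra.TensorProduct.includeLeft : B →ₐ[A] B ⊗[A] (Rt A t)) =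
    (X.property.representable_from_yon f).snd p := by
  rw [Category.assoc, bMap_comp]
  refine Eq.trans ?_ graphN_left
  congr 2

theorem graphN_t_right (t : Finset R) :
    (graphN (f := f) (p := p) ≫ bMap (φt B t)) ≫
      bMap (Algebra.TensorProduct.includeRight : (Rt A t) →ₐ[A] B ⊗[A] (Rt A t)) =
    (X.property.representable_from_yon f).fst' p ≫ bMap (Rt A t).val := by
  rw [Category.assoc, bMap_comp, ← graphN_right, Category.assoc, bMap_comp]
  congr 2

/-- the fibre over the chart is the fibre of the graph -/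
theorem isPullback_graphN (t : Finset R) :
    IsPullback ((X.property.representable_from_yon f).fst p)
      ((yon (S0 A)).map (graphN (f := f) (p := p) ≫ bMap (φt B t))) (graphT f t) (chartT p t) := by
  let hf := X.property.representable_from_yon f
  have hsq := hf.isPullback p
  have hg : hf.fst p = (yon (S0 A)).map (hf.fst' p) := (hf.map_fst' p).symm
  refine IsPullback.of_bot ?_ ?_ (isPullback_graph p).flip
  · rw [prod.lift_fst, ← Functor.map_comp, graphN_t_left]
    exact hsq
  · apply Limits.prod.hom_ext
    · rw [Category.assoc, Category.assoc, prod.lift_fst, prod.lift_fst, ← Functor.map_comp_assoc, graphN_t_left]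
      exact hsq.w
    · rw [Category.assoc, Category.assoc, prod.lift_snd, prod.lift_snd, ← Functor.map_comp, graphN_t_right, hg,
        ← Functor.map_comp]

include hsep hpe hps hi in
/-- the functions vanishing on a stage over the chart -/
theorem stage_ker (t : Finset R) (y : B ⊗[A] (Rt A t)) :
    coord (U := (EtOver.bcObj (hi t).1.1 (chartE hpe t)).obj.left) (EtOver.bcπ (hi t).1.1 (chartE hpe t)) y = 0 ↔
      coord (graphN (f := f) (p := p) ≫ bMap (φt B t)) y = 0 := by
  have hG := isAlgSpace_prodT X t
  have hr : Representable (graphT f t) := hG.representable_from_yon _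
  have hqc : IsQuasiCompactMor (graphT f t) :=
    isQuasiCompactMor_of_qc_qs (IsAlgSpace.yon_obj _) hG _
      ⟨oB A R, 𝟙 _, repWith_id _ _, repWith_id _ _, inferInstance⟩ (qs_prodT hsep hpe hps t)
  have e := idealOfRep_eq_of_isSchImage (IsAlgSpace.yon_obj _) hG hr hqc (hi t)
  have h1 : coord (U := (EtOver.bcObj (hi t).1.1 (chartE hpe t)).obj.left) (EtOver.bcπ (hi t).1.1 (chartE hpe t)) y = 0 ↔
      (EtOver.bcπ hr (chartE hpe t)).left.appTop.hom ((Scheme.ΓSpecIso (CommRingCat.of (B ⊗[A] (Rt A t)))).inv.hom y) = 0 := by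
    have hA : IsAffine (chartE hpe t).obj.left.left := inferInstanceAs (IsAffine (oB A (B ⊗[A] (Rt A t))).left)
    have := congrArg (fun I : IdealEt _ => (Scheme.ΓSpecIso (CommRingCat.of (B ⊗[A] (Rt A t)))).inv.hom y ∈
      I.ideal (chartE hpe t) hA) e
    exact (iff_of_eq this)
  rw [h1]
  have sq1 := isPullback_graphN (f := f) (p := p) t
  have sq2 := hr.isPullback (chartT p t)
  let hf := X.property.representable_from_yon f
  obtain ⟨a, ha⟩ := (yon (S0 A)).map_surjective (sq1.isoIsPullback _ _ sq2).hom
  obtain ⟨a', ha'⟩ := (yon (S0 A)).map_surjective (sq1.isoIsPullback _ _ sq2).inv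
  have h2 : a ≫ EtOver.bcπ hr (chartE hpe t) = graphN (f := f) (p := p) ≫ bMap (φt B t) :=
    (yon (S0 A)).map_injective (by
      rw [Functor.map_comp, ha]
      exact IsPullback.isoIsPullback_hom_snd _ _ sq1 sq2)
  have h3 : a' ≫ graphN (f := f) (p := p) ≫ bMap (φt B t) = EtOver.bcπ hr (chartE hpe t) :=
    (yon (S0 A)).map_injective (by
      rw [Functor.map_comp, ha']
      exact IsPullback.isoIsPullback_inv_snd _ _ sq1 sq2)
  constructor
  · intro h
    rw [← h2, coord_comp, RingHom.comp_apply]
    exact (congrArg _ h).trans (map_zero _)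
  · intro h
    rw [← h3]
    have := congrArg a'.left.appTop.hom h
    rw [map_zero] at this
    rw [Over.comp_left, Scheme.Hom.comp_appTop]
    exact this

/-- the chart of a stage -/
abbrev chartW (t : Finset R) : Over (S0 A) := (EtOver.bcObj (hi t).1.1 (chartE hpe t)).obj.left

include hi in
theorem isAffine_chartW (t : Finset R) : IsAffine (chartW hpe Z i hi t).left := by
  haveI : IsClosedImmersion (EtOver.bcπ (hi t).1.1 (chartE hpe t)).left := (hi t).1.property_snd _
  haveI : IsAffine (chartE hpe t).obj.left.left := inferInstanceAs (IsAffine (oB A (B ⊗[A] (Rt A t))).left)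
  exact isAffine_of_isAffineHom (EtOver.bcπ (hi t).1.1 (chartE hpe t)).left

include hsep hint hpe hps hi in
/-- the stages are finite over the chart -/
theorem finite_stage_chart (t : Finset R) :
    RepWith @IsFinite (i t ≫ prod.fst) := by
  have hrep : Representable (i t ≫ prod.fst) := by
    refine MorphismProperty.comp_mem _ _ _ (hi t).1.1 ?_
    exact MorphismProperty.of_isPullback
      (IsPullback.of_isLimit_binaryFan_of_isTerminal (prodIsProd X.obj _) terminalIsTerminal).flip
      ((isAlgSpace_terminal (S0 A)).representable_from_yon _)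
  let π := EtOver.bcπ (hi t).1.1 (chartE hpe t)
  let l : chartW hpe Z i hi t ⟶ oB A B :=
    π ≫ bMap (Algebra.TensorProduct.includeLeft : B →ₐ[A] B ⊗[A] (Rt A t))
  have sq : IsPullback ((hi t).1.1.fst (chartT p t)) ((yon (S0 A)).map l) (i t ≫ prod.fst) p := by
    rw [Functor.map_comp]
    exact ((hi t).1.1.isPullback (chartT p t)).paste_vert (isPullback_graph p).flip |>.flip.flip
  haveI := isLocallySurjective_of_etale hpe hps
  refine repWith_of_isLocallySurjective hrep p sq @IsFinite ?_
  refine (repWith_yon_map_iff _ l).2 ?_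
  haveI : IsClosedImmersion π.left := (hi t).1.property_snd _
  haveI := isAffine_chartW hpe Z i hi t
  let hf := X.property.representable_from_yon f
  haveI : IsIntegralHom (hf.snd p).left := ((isIntegralMor_iff_repWith f).1 hint).property_snd p
  haveI : IsAffine (hf.pullback p).left := (isAffine_pullback X.property f hsep p).2
  let ν := graphN (f := f) (p := p) ≫ bMap (φt B t)
  have hint' : ((coord ν).comp
      (Algebra.TensorProduct.includeLeft : B →ₐ[A] B ⊗[A] (Rt A t)).toRingHom).IsIntegral := by
    rw [← coord_bMap, graphN_t_left]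
    have h1 : ((hf.snd p).left.appTop.hom).IsIntegral :=
      (HasAffineProperty.iff_of_isAffine (P := @IsIntegralHom)).1 inferInstance |>.2
    refine RingHom.IsIntegral.trans _ _ (RingHom.isIntegral_of_surjective _ ?_) h1
    exact (ConcreteCategory.bijective_of_isIso (Scheme.ΓSpecIso (CommRingCat.of B)).inv).2
  have hsur : Function.Surjective (coord (U := chartW hpe Z i hi t) π) := by
    haveI : IsAffine (oB A (B ⊗[A] (Rt A t))).left := inferInstance
    haveI : IsAffine (chartE hpe t).obj.left.left := inferInstanceAs (IsAffine (oB A (B ⊗[A] (Rt A t))).left)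
    have h1 : Function.Surjective π.left.appTop.hom := π.left.app_surjective ⊤ (isAffineOpen_top _)
    have h2 : Function.Surjective (Scheme.ΓSpecIso (CommRingCat.of (B ⊗[A] (Rt A t)))).inv.hom :=
      (ConcreteCategory.bijective_of_isIso (Scheme.ΓSpecIso (CommRingCat.of (B ⊗[A] (Rt A t)))).inv).2
    exact h1.comp h2
  let β : B →+* Γ((chartW hpe Z i hi t).left, ⊤) := coord l
  have hβ : β = (coord (U := chartW hpe Z i hi t) π).comp
      (Algebra.TensorProduct.includeLeft : B →ₐ[A] B ⊗[A] (Rt A t)).toRingHom := coord_bMap _ _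
  have hβi : β.IsIntegral := fun x => by
    obtain ⟨y, rfl⟩ := hsur x
    obtain ⟨P, hP, hP0⟩ := hint' (coord ν y)
    refine ⟨P, hP, ?_⟩
    rw [hβ, ← Polynomial.hom_eval₂, stage_ker hsep hpe hps Z i hi t, Polynomial.hom_eval₂]
    exact hP0
  have hβt : β.FiniteType := by
    haveI : Algebra.FiniteType A (Rt A t) :=
      (Subalgebra.fg_iff_finiteType _).1 (Subalgebra.fg_adjoin_finset t)
    rw [hβ]
    refine RingHom.FiniteType.comp_surjective ?_ hsur
    exact (RingHom.finiteType_algebraMap (A := B) (B := B ⊗[A] (Rt A t))).2 inferInstance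
  haveI : IsAffine (oB A B).left := inferInstance
  refine (HasAffineProperty.iff_of_isAffine (P := @IsFinite)).2 ⟨inferInstance, ?_⟩
  have hβf : β.Finite := RingHom.IsIntegral.to_finite hβi hβt
  have e : l.left.appTop.hom = β.comp (Scheme.ΓSpecIso (CommRingCat.of B)).hom.hom := by
    refine RingHom.ext fun b => ?_
    show _ = l.left.appTop.hom ((Scheme.ΓSpecIso (CommRingCat.of B)).inv.hom _)
    rw [Iso.hom_inv_id_apply (C := CommRingCat) (Scheme.ΓSpecIso (CommRingCat.of B))]
  rw [e]
  exact hβf.comp (RingHom.Finite.of_surjective _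
    (ConcreteCategory.bijective_of_isIso (Scheme.ΓSpecIso (CommRingCat.of B)).hom).2)

end Groth.Agent.AlgSpLib.ChevGen
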