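import Groth.Agent.AlgSpLib.NormAffine
import Groth.Agent.AlgSpLib.PointsTop
import Groth.Agent.AlgSpLib.Basic
import Groth.Agent.AlgSpLib.Pres

/-!
Affine schemes over an affine base through coordinates, and graphs into products with affine schemes.
-/

universe u

open CategoryTheory CategoryTheory.Limits AlgebraicGeometry Opposite TensorProduct
open AlgSp

noncomputable section

namespace Groth.Agent.AlgSpLib.ChevGen

open Groth.Agent.AlgSpLib

set_option backward.isDefEq.respectTransparency.types false
set_option backward.isDefEq.respectTransparency false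

/-- the affine base scheme -/
abbrev S0 (A : Type u) [CommRing A] : Scheme.{u} := Spec (CommRingCat.of A)

/-- affine schemes over the affine base -/
abbrev oB (A B : Type u) [CommRing A] [CommRing B] [Algebra A B] : Over (S0 A) := oA (𝟙 (S0 A)) B

variable {A : Type u} [CommRing A] {B C : Type u} [CommRing B] [CommRing C] [Algebra A B] [Algebra A C]
  {U W : Over (S0 A)}

/-- maps between affine schemes over the base -/
abbrev bMap (φ : B →ₐ[A] C) : oB A C ⟶ oB A B := oMap (𝟙 (S0 A)) φ

/-- pullback of functions along a map to an affine scheme -/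
def coord (m : U ⟶ oB A B) : B →+* Γ(U.left, ⊤) :=
  m.left.appTop.hom.comp (Scheme.ΓSpecIso (CommRingCat.of B)).inv.hom

theorem coord_ext {m m' : U ⟶ oB A B} (h : coord m = coord m') : m = m' :=
  Over.OverMorphism.ext (ext_to_Spec (CommRingCat.hom_ext h))

theorem coord_comp (x : W ⟶ U) (m : U ⟶ oB A B) : coord (x ≫ m) = x.left.appTop.hom.comp (coord m) := by
  simp only [coord, Over.comp_left, Scheme.Hom.comp_appTop, CommRingCat.hom_comp]
  exact RingHom.comp_assoc _ _ _

theorem coord_bMap (m : U ⟶ oB A C) (φ : B →ₐ[A] C) : coord (m ≫ bMap φ) = (coord m).comp φ.toRingHom := by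
  have h := Scheme.ΓSpecIso_inv_naturality (CommRingCat.ofHom φ.toRingHom)
  refine RingHom.ext fun b => ?_
  have h2 := ConcreteCategory.congr_hom h b
  simp only [coord, Over.comp_left, Scheme.Hom.comp_appTop, CommRingCat.hom_comp, RingHom.comp_apply]
  exact congrArg _ h2.symm

/-- every ring map compatible with the base is the pullback of functions along a map -/
theorem exists_of_coord (φ : B →+* Γ(U.left, ⊤))
    (h : φ.comp (algebraMap A B) = U.hom.appTop.hom.comp (Scheme.ΓSpecIso (CommRingCat.of A)).inv.hom) :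
    ∃ m : U ⟶ oB A B, coord m = φ := by
  let l : U.left ⟶ Spec (CommRingCat.of B) :=
    ΓSpec.adjunction.homEquiv U.left (op (CommRingCat.of B)) (CommRingCat.ofHom φ).op
  have hl : (Scheme.ΓSpecIso (CommRingCat.of B)).inv ≫ l.appTop = CommRingCat.ofHom φ :=
    ΓSpecIso_inv_ΓSpec_adjunction_homEquiv _
  have hb : l ≫ Spec.map (CommRingCat.ofHom (algebraMap A B)) = U.hom := by
    refine ext_to_Spec ?_
    show (Scheme.ΓSpecIso (CommRingCat.of A)).inv ≫ (l ≫ Spec.map (CommRingCat.ofHom (algebraMap A B))).appTop =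
      (Scheme.ΓSpecIso (CommRingCat.of A)).inv ≫ U.hom.appTop
    have e1 := congrArg (fun g => g ≫ l.appTop) (Scheme.ΓSpecIso_inv_naturality (CommRingCat.ofHom (algebraMap A B)))
    simp only [Category.assoc] at e1
    rw [Scheme.Hom.comp_appTop, ← e1, hl]
    exact CommRingCat.hom_ext h
  exact ⟨Over.homMk l (by show l ≫ _ ≫ 𝟙 _ = _; rw [Category.comp_id, hb]), congrArg CommRingCat.Hom.hom hl⟩

theorem coord_algebraMap (m : U ⟶ oB A B) :
    (coord m).comp (algebraMap A B) = U.hom.appTop.hom.comp (Scheme.ΓSpecIso (CommRingCat.of A)).inv.hom := by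
  have hw : m.left ≫ Spec.map (CommRingCat.ofHom (algebraMap A B)) = U.hom := by
    have := Over.w m
    rwa [show (oB A B).hom = Spec.map (CommRingCat.ofHom (algebraMap A B)) from Category.comp_id _] at this
  refine RingHom.ext fun a => ?_
  have h2 := ConcreteCategory.congr_hom (Scheme.ΓSpecIso_inv_naturality (CommRingCat.ofHom (algebraMap A B))) a
  simp only [coord, ← hw, Scheme.Hom.comp_appTop, CommRingCat.hom_comp, RingHom.comp_apply]
  exact congrArg _ h2

/-- the graph of a map from an affine scheme times an affine scheme is a pullback of the map -/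
theorem isPullback_graph {X : Sp (S0 A)} (g : (yon (S0 A)).obj (oB A B) ⟶ X) :
    IsPullback ((yon (S0 A)).map (bMap (Algebra.TensorProduct.includeLeft : B →ₐ[A] B ⊗[A] C)))
      (prod.lift ((yon (S0 A)).map (bMap (Algebra.TensorProduct.includeLeft : B →ₐ[A] B ⊗[A] C)) ≫ g)
        ((yon (S0 A)).map (bMap (Algebra.TensorProduct.includeRight : C →ₐ[A] B ⊗[A] C))))
      g (prod.fst : X ⨯ (yon (S0 A)).obj (oB A C) ⟶ X) := by
  refine isPullback_of_yon (prod.lift_fst _ _).symm fun T x y e => ?_
  obtain ⟨x₀, rfl⟩ := (yon (S0 A)).map_surjective x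
  obtain ⟨y₀, hy₀⟩ := (yon (S0 A)).map_surjective (y ≫ prod.snd)
  have sq := isPullback_oA (A := A) (B := B) (C := C) (𝟙 (S0 A))
  have hterm : ∀ p q : T ⟶ oU (𝟙 (S0 A)), p = q := fun p q => Over.mkIdTerminal.hom_ext p q
  refine ⟨(yon (S0 A)).map (sq.lift x₀ y₀ (hterm _ _)), ⟨?_, ?_⟩, fun l hl => ?_⟩
  · rw [← Functor.map_comp, sq.lift_fst]
  · apply Limits.prod.hom_ext
    · rw [Category.assoc, prod.lift_fst, ← Functor.map_comp_assoc, sq.lift_fst]
      exact e
    · rw [Category.assoc, prod.lift_snd, ← Functor.map_comp, sq.lift_snd, hy₀]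
  · obtain ⟨l₀, rfl⟩ := (yon (S0 A)).map_surjective l
    refine congrArg (yon (S0 A)).map (sq.hom_ext ?_ ?_)
    · rw [sq.lift_fst]
      exact (yon (S0 A)).map_injective (by rw [Functor.map_comp]; exact hl.1)
    · rw [sq.lift_snd]
      refine (yon (S0 A)).map_injective ?_
      rw [hy₀, Functor.map_comp, ← hl.2, Category.assoc, prod.lift_snd]

end Groth.Agent.AlgSpLib.ChevGen
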