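import Groth.Agent.AlgSpLib.QCohEtClosedImage

/-!
Finiteness for direct images along closed immersions.
-/

universe u

open CategoryTheory CategoryTheory.Limits AlgebraicGeometry Opposite TensorProduct
open AlgSp

noncomputable section

set_option linter.style.haveILetI false

namespace Groth.Agent.AlgSpLib.QCohEt

set_option backward.isDefEq.respectTransparency.types false
set_option backward.isDefEq.respectTransparency false

open Groth.Agent.Stk19b Groth.Agent.AlgSpLib.PushEtStalk

variable {S : Scheme.{u}} {X Y : Sp S} {f : X ⟶ Y} (hi : RepWith @IsClosedImmersion f)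

include hi in
/-- closed immersions are affine -/
theorem isAffineMor_closed : IsAffineMor f := by
  intro Z hZ g
  haveI : IsClosedImmersion (hi.1.snd g).left := hi.property_snd g
  exact ⟨_, _, _, hi.1.isPullback g, isAffine_of_isAffineHom (hi.1.snd g).left⟩

theorem finite_of_spanTop {R A : Type*} [CommRing R] [CommRing A] (φ : R →+* A) (hφ : Function.Surjective φ)
    {N : Type*} [AddCommGroup N] [Module A N] [Module R N] (h : ∀ (r : R) (n : N), r • n = φ r • n)
    [Module.Finite A N] : Module.Finite R N := by
  letI := φ.toAlgebra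
  haveI : IsScalarTower R A N := IsScalarTower.of_algebraMap_smul fun r n => (h r n).symm
  haveI : Module.Finite R A := Module.Finite.of_surjective (Algebra.linearMap R A) hφ
  exact Module.Finite.trans A N

theorem finite_of_restrict {R A : Type*} [CommRing R] [CommRing A] (φ : R →+* A)
    {N : Type*} [AddCommGroup N] [Module A N] [Module R N] (h : ∀ (r : R) (n : N), r • n = φ r • n)
    [Module.Finite R N] : Module.Finite A N := by
  letI := φ.toAlgebra
  haveI : IsScalarTower R A N := IsScalarTower.of_algebraMap_smul fun r n => (h r n).symm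
  exact Module.Finite.of_restrictScalars_finite R A N

/-- direct images of finitely generated modules along closed immersions are finitely generated -/
theorem finite_sec_push (G : ModEt X) [G.IsQuasicoherent] [G.IsFiniteType] (E : EtOver Y) [IsAff E] :
    Module.Finite (ΓE E) (Sec ((pushModEt hi.1).obj G) E) := by
  haveI := isAff_bcObj_closed hi E
  haveI := finite_sec G (EtOver.bcObj hi.1 E)
  letI : Module (ΓE E) (Sec G (EtOver.bcObj hi.1 E)) :=
    (inferInstance : Module (ΓE E) (Sec ((pushModEt hi.1).obj G) E))
  exact finite_of_spanTop (N := Sec G (EtOver.bcObj hi.1 E)) (bcΓ hi.1 E) (surjective_bcΓ_closed hi E)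
    fun r n => rfl

/-- finitely presented direct images along closed immersions into locally Noetherian spaces -/
theorem isFinitePresentation_push (hN : IsLocNoethSp Y) (G : ModEt X) [G.IsQuasicoherent] [G.IsFiniteType] :
    ((pushModEt hi.1).obj G).IsFinitePresentation :=
  isFinitePresentation_of_forall _ (fun E hE => by haveI := hE; exact isBC_push hi.1 (isAffineMor_closed hi) G E)
    fun E hE => by
      haveI := hE
      haveI := isNoetherianRing_ΓE hN E
      haveI := finite_sec_push hi G E
      exact Module.finitePresentation_of_finite _ _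

/-- modules with finitely generated direct image along a closed immersion into a space -/
theorem isFinitePresentation_of_push (hY : IsAlgSpace Y) (hN : IsLocNoethSp X) (G : ModEt X) [G.IsQuasicoherent]
    {M : ModEt Y} [M.IsQuasicoherent] [M.IsFiniteType] (e : (pushModEt hi.1).obj G ≅ M) : G.IsFinitePresentation := by
  refine isFinitePresentation_of_sec G fun W hW => ?_
  obtain ⟨ι, E, h, hE, hc⟩ := exists_bc_cover hi hY W
  refine ⟨ULift.{u + 1} ι, fun j => (EtOver.bc hi.1).obj (E j.down), fun j => h j.down,
    fun x => (hc x).elim fun j hj => ⟨⟨j⟩, hj⟩, fun j => ?_⟩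
  haveI := hE j.down
  haveI : IsAff (EtOver.bcObj hi.1 (E j.down)) := isAff_bcObj_closed hi (E j.down)
  refine ⟨‹IsAff (EtOver.bcObj hi.1 (E j.down))›, isBC G (EtOver.bcObj hi.1 (E j.down)), ?_⟩
  haveI := finite_sec M (E j.down)
  let l := secMap e.inv (E j.down)
  have hl : Function.Surjective l := fun y => ⟨secMap e.hom (E j.down) y,
    congrArg (fun t : (pushModEt hi.1).obj G ⟶ (pushModEt hi.1).obj G => t.val.app (op (E j.down)) y) e.hom_inv_id⟩
  letI : Module (ΓE (E j.down)) (Sec G (EtOver.bcObj hi.1 (E j.down))) :=
    (inferInstance : Module (ΓE (E j.down)) (Sec ((pushModEt hi.1).obj G) (E j.down)))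
  haveI : Module.Finite (ΓE (E j.down)) (Sec G (EtOver.bcObj hi.1 (E j.down))) :=
    Module.Finite.of_surjective (P := Sec G (EtOver.bcObj hi.1 (E j.down))) l hl
  haveI := isNoetherianRing_ΓE hN (EtOver.bcObj hi.1 (E j.down))
  haveI : Module.Finite (ΓE (EtOver.bcObj hi.1 (E j.down))) (Sec G (EtOver.bcObj hi.1 (E j.down))) :=
    finite_of_restrict (bcΓ hi.1 (E j.down)) fun r n => rfl
  show Module.FinitePresentation (ΓE (EtOver.bcObj hi.1 (E j.down))) (Sec G (EtOver.bcObj hi.1 (E j.down)))
  exact Module.finitePresentation_of_finite _ _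

end Groth.Agent.AlgSpLib.QCohEt
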