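import Groth.Agent.AlgSpLib.ChevApprox
import Groth.Agent.AlgSpLib.QCohEtClosedFinite
import Groth.Agent.AlgSpLib.MorMore2

/-!
The finite stages of an integral affine cover have the cover as limit, hence one stage is affine.
-/

universe u

open CategoryTheory CategoryTheory.Limits AlgebraicGeometry Opposite TensorProduct
open AlgSp

noncomputable section

set_option linter.style.haveILetI false
set_option linter.unusedSectionVars false

namespace Groth.Agent.AlgSpLib.ChevGen

open Groth.Agent.AlgSpLib

set_option backward.isDefEq.respectTransparency.types false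
set_option backward.isDefEq.respectTransparency false

variable {A : Type u} [CommRing A] {X : AlgSp.Space (S0 A)} {B R : Type u} [CommRing B] [CommRing R]
  [Algebra A B] [Algebra A R]
  {f : (yon (S0 A)).obj (oB A R) ⟶ X.obj} {p : (yon (S0 A)).obj (oB A B) ⟶ X.obj}
  (hsep : IsSeparatedSp X.obj) (hint : IsIntegralMor f) (hpe : RepWith @Etale p) (hps : RepWith @Surjective p)
  (Z : Finset R → Sp (S0 A)) (i : ∀ t, Z t ⟶ X.obj ⨯ (yon (S0 A)).obj (oB A (Rt A t)))
  (hZ : ∀ t, IsAlgSpace (Z t)) (hi : ∀ t, IsSchImage (graphT f t) (i t))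

/-- the projection between products with stages -/
abbrev prodTrans (X : AlgSp.Space (S0 A)) {t t' : Finset R} (h : t ⊆ t') :
    X.obj ⨯ (yon (S0 A)).obj (oB A (Rt A t')) ⟶ X.obj ⨯ (yon (S0 A)).obj (oB A (Rt A t)) :=
  prod.map (𝟙 X.obj) ((yon (S0 A)).map (bMap (Subalgebra.inclusion (Rt_mono h))))

include hZ hi in
/-- transition maps of the stages -/
theorem exists_transition {t t' : Finset R} (h : t ⊆ t') :
    ∃ l : Z t' ⟶ Z t, l ≫ i t = i t' ≫ prodTrans X h ∧ IsAffineMor l := by
  let qq := prodTrans X h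
  have sq := IsPullback.of_hasPullback qq (i t)
  have hfst : RepWith @IsClosedImmersion (pullback.fst qq (i t)) := RepWith.baseChange sq.flip (hi t).1
  haveI : Mono (pullback.fst qq (i t)) := mono_closedImmersion hfst
  obtain ⟨f', hf'⟩ := (hi t).2.1
  have hq : graphT f t' ≫ qq = f' ≫ i t := by
    rw [hf']
    apply Limits.prod.hom_ext
    · simp [qq, prod.lift_fst]
    · simp only [qq, Category.assoc, prod.map_snd, prod.lift_snd_assoc, prod.lift_snd, ← Functor.map_comp]
      rw [bMap_comp]
      rfl
  obtain ⟨k, hk⟩ := (hi t').2.2 (pullback.fst qq (i t))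
    (isAlgSpace_of_isPullback (isAlgSpace_prodT X t).diag (isAlgSpace_prodT X t') (hZ t) sq) hfst
    ⟨pullback.lift (graphT f t') f' hq, pullback.lift_fst _ _ _⟩
  refine ⟨k ≫ pullback.snd qq (i t), ?_, ?_⟩
  · rw [Category.assoc, ← pullback.condition, ← Category.assoc, hk]
  · refine isAffineMor_comp ?_ ?_
    · have sqk : IsPullback (𝟙 (Z t')) k (i t') (pullback.fst qq (i t)) :=
        ⟨⟨by rw [Category.id_comp, hk]⟩, ⟨PullbackCone.IsLimit.mk _ (fun c => c.fst) (fun c => Category.comp_id _)
          (fun c => (cancel_mono (pullback.fst qq (i t))).1 (by rw [Category.assoc, hk]; exact c.condition))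
          fun c m h1 _ => by rw [← h1]; exact (Category.comp_id m).symm⟩⟩
      exact isAffineMor_of_isPullback sqk
        (isAffineMor_of_repWith (RepWith.mono (fun _ _ g (_ : IsClosedImmersion g) =>
          (inferInstance : IsAffineHom g)) (hi t').1))
    · refine isAffineMor_of_isPullback sq ?_
      refine isAffineMor_of_isPullback (isPullback_prod_id_map _) ?_
      refine isAffineMor_of_repWith ((repWith_yon_map_iff _ _).2 ?_)
      exact isAffineHom_of_isAffine _

include hsep hpe hps hi hZ in
/-- the chart of a stage is affine, etale, surjective with affine relation -/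
theorem stage_chart (t : Finset R) :
    ∃ (W : Over (S0 A)) (w : (yon (S0 A)).obj W ⟶ Z t), IsAffine W.left ∧ RepWith @Etale w ∧
      RepWith @Surjective w ∧ RepWith @IsAffineHom w := by
  refine ⟨chartW hpe Z i hi t, (hi t).1.1.fst (chartT p t), isAffine_chartW hpe Z i hi t, ?_, ?_, ?_⟩
  · exact RepWith.baseChange ((hi t).1.1.isPullback (chartT p t)).flip (etale_chartT hpe t)
  · exact RepWith.baseChange ((hi t).1.1.isPullback (chartT p t)).flip (surjective_chartT hps t)
  · exact RepWith.baseChange ((hi t).1.1.isPullback (chartT p t)).flip (affine_chartT hsep t)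

include hsep hpe hps hi in
/-- a map factoring through all the stages factors through the graph -/
theorem comp_eq_of_stages {U : Over (S0 A)} (h : U ⟶ oB A R) (g : (yon (S0 A)).obj U ⟶ X.obj)
    (hz : ∀ t : Finset R, ∃ z : (yon (S0 A)).obj U ⟶ Z t,
      z ≫ i t = prod.lift g ((yon (S0 A)).map (h ≫ bMap (Rt A t).val))) :
    (yon (S0 A)).map h ≫ f = g := by
  let hp := X.property.representable_from_yon p
  let a : hp.pullback g ⟶ U := hp.snd g
  let v : hp.pullback g ⟶ oB A B := hp.fst' g
  have hae : RepWith @Etale ((yon (S0 A)).map a) := RepWith.baseChange (hp.isPullback g) hpe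
  have has : RepWith @Surjective ((yon (S0 A)).map a) := RepWith.baseChange (hp.isPullback g) hps
  haveI := epi_of_etale_surjective hae has
  rw [← cancel_epi ((yon (S0 A)).map a)]
  let sq := isPullback_oA (A := A) (B := B) (C := R) (𝟙 (S0 A))
  let m : hp.pullback g ⟶ oB A (B ⊗[A] R) := sq.lift v (a ≫ h) (Over.mkIdTerminal.hom_ext _ _)
  have hm1 : m ≫ bMap (Algebra.TensorProduct.includeLeft : B →ₐ[A] B ⊗[A] R) = v := sq.lift_fst _ _ _
  have hm2 : m ≫ bMap (Algebra.TensorProduct.includeRight : R →ₐ[A] B ⊗[A] R) = a ≫ h := sq.lift_snd _ _ _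
  let hf := X.property.representable_from_yon f
  let n := graphN (f := f) (p := p)
  haveI : IsClosedImmersion n.left := by
    obtain ⟨hcl, -⟩ := isAffine_pullback X.property f hsep p
    have sqS : IsPullback (bMap (Algebra.TensorProduct.includeRight : R →ₐ[A] B ⊗[A] R)).left
        (bMap (Algebra.TensorProduct.includeLeft : B →ₐ[A] B ⊗[A] R)).left (oB A R).hom (oB A B).hom := by
      have h0 := (sq.map (Over.forget (S0 A))).flip
      simpa [oStr] using h0
    have e : n.left = pullback.lift (hf.fst' p).left (hf.snd p).left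
        ((Over.w _).trans (Over.w _).symm) ≫ sqS.isoPullback.inv := by
      apply sqS.hom_ext
      · rw [Category.assoc, IsPullback.isoPullback_inv_fst, pullback.lift_fst, ← Over.comp_left, graphN_right]
      · rw [Category.assoc, IsPullback.isoPullback_inv_snd, pullback.lift_snd, ← Over.comp_left, graphN_left]
    rw [e]
    infer_instance
  have hker : ∀ k : B ⊗[A] R, coord n k = 0 → coord m k = 0 := by
    intro k hk
    obtain ⟨t, y, rfl⟩ := exists_φt k
    obtain ⟨z, hz'⟩ := hz t
    have hy : coord (U := chartW hpe Z i hi t) (EtOver.bcπ (hi t).1.1 (chartE hpe t)) y = 0 := by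
      rw [stage_ker hsep hpe hps Z i hi t, coord_bMap]
      exact hk
    let m' := m ≫ bMap (φt B t)
    have e1 : m' ≫ bMap (Algebra.TensorProduct.includeLeft : B →ₐ[A] B ⊗[A] (Rt A t)) = v := by
      rw [Category.assoc, bMap_comp]
      refine Eq.trans ?_ hm1
      congr 2
    have e2 : m' ≫ bMap (Algebra.TensorProduct.includeRight : (Rt A t) →ₐ[A] B ⊗[A] (Rt A t)) =
        a ≫ h ≫ bMap (Rt A t).val := by
      rw [Category.assoc, bMap_comp, ← Category.assoc, ← hm2, Category.assoc, bMap_comp]
      congr 2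
    have hfac : ((yon (S0 A)).map a ≫ z) ≫ i t = (yon (S0 A)).map m' ≫ chartT p t := by
      rw [Category.assoc, hz']
      apply Limits.prod.hom_ext
      · rw [Category.assoc, Category.assoc, prod.lift_fst, prod.lift_fst, ← Functor.map_comp_assoc, e1]
        exact (hp.isPullback' g).w.symm
      · rw [Category.assoc, Category.assoc, prod.lift_snd, prod.lift_snd, ← Functor.map_comp, ← Functor.map_comp, e2]
    obtain ⟨r, hr⟩ := (yon (S0 A)).map_surjective (((hi t).1.1.isPullback (chartT p t)).lift _ _ hfac)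
    have hr2 : r ≫ EtOver.bcπ (hi t).1.1 (chartE hpe t) = m' := (yon (S0 A)).map_injective (by
      rw [Functor.map_comp, hr]
      exact IsPullback.lift_snd _ _ _ _)
    have h2 : coord m' y = 0 := by
      rw [← hr2, coord_comp, RingHom.comp_apply]
      exact (congrArg _ hy).trans (map_zero _)
    rw [coord_bMap] at h2
    exact h2
  have hle : n.left.ker ≤ m.left.ker := by
    refine (le_ker_iff_appTop m.left _).2 ?_
    haveI : IsAffine (oB A (B ⊗[A] R)).left := inferInstance
    rw [Scheme.Hom.ker_apply]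
    intro x hx
    obtain ⟨k, rfl⟩ := (ConcreteCategory.bijective_of_isIso (Scheme.ΓSpecIso (CommRingCat.of (B ⊗[A] R))).inv).2 x
    exact hker k hx
  let w : hp.pullback g ⟶ hf.pullback p :=
    Over.homMk (IsClosedImmersion.lift n.left m.left hle) (by
      rw [← Over.w n, IsClosedImmersion.lift_fac_assoc, Over.w m])
  have hw : w ≫ n = m := Over.OverMorphism.ext (IsClosedImmersion.lift_fac _ _ _)
  have w1 : w ≫ hf.fst' p = a ≫ h := by rw [← hm2, ← hw, Category.assoc, graphN_right]
  have w2 : w ≫ hf.snd p = v := by rw [← hm1, ← hw, Category.assoc, graphN_left]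
  rw [← (hp.isPullback' g).w]
  refine (((yon (S0 A)).map_comp_assoc a h f).symm.trans ?_)
  rw [← w1, Functor.map_comp_assoc, (hf.isPullback' p).w, ← Functor.map_comp_assoc, w2]

include hsep hint hpe hps hZ hi in
/-- one of the stages is an affine scheme -/
theorem exists_affine_stage : ∃ (t : Finset R) (T' : Over (S0 A)),
    IsAffine T'.left ∧ Nonempty ((yon (S0 A)).obj T' ≅ Z t) := by
  classical
  choose l hl hla using fun (t t' : Finset R) (h : t ⊆ t') => exists_transition Z i hZ hi h
  haveI : ∀ t, Mono (i t) := fun t => mono_closedImmersion (hi t).1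
  choose f' hf' using fun t => (hi t).2.1
  have hcomp : ∀ (a b c : Finset R) (h₁ : a ⊆ b) (h₂ : b ⊆ c),
      prodTrans X h₂ ≫ prodTrans X h₁ = prodTrans X (h₁.trans h₂) := fun a b c h₁ h₂ => by
    apply Limits.prod.hom_ext
    · simp
    · simp only [Category.assoc, prod.map_snd, prod.map_snd_assoc, ← Functor.map_comp, bMap_comp]
      rfl
  let D : (Finset R)ᵒᵖ ⥤ Sp (S0 A) :=
    { obj := fun t => Z t.unop
      map := fun φ => l _ _ (leOfHom φ.unop)
      map_id := fun t => by
        rw [← cancel_mono (i t.unop), hl, Category.id_comp]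
        refine Eq.trans ?_ (Category.comp_id _)
        congr 1
        apply Limits.prod.hom_ext
        · simp
        · simp only [prod.map_snd, Category.id_comp]
          refine Eq.trans (congrArg (prod.snd ≫ ·) ?_) (Category.comp_id _)
          exact ((yon (S0 A)).congr_map (Over.OverMorphism.ext (by
            show Spec.map _ = 𝟙 _
            exact Spec.map_id _))).trans ((yon (S0 A)).map_id _)
      map_comp := fun {a b c} φ ψ => by
        rw [← cancel_mono (i c.unop), Category.assoc, hl, hl, ← Category.assoc, hl, Category.assoc, hcomp] }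
  let c : Cone D :=
    { pt := (yon (S0 A)).obj (oB A R)
      π :=
        { app := fun t => f' t.unop
          naturality := fun a b φ => by
            show 𝟙 _ ≫ f' b.unop = f' a.unop ≫ l _ _ (leOfHom φ.unop)
            rw [Category.id_comp, ← cancel_mono (i b.unop), Category.assoc, hl, ← Category.assoc, hf', hf']
            apply Limits.prod.hom_ext
            · simp [prod.lift_fst]
            · simp only [Category.assoc, prod.map_snd, prod.lift_snd_assoc, prod.lift_snd, ← Functor.map_comp, bMap_comp]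
              rfl } }
  have key : ∀ (s : Cone D) (U : Over (S0 A)) (x : (yon (S0 A)).obj U ⟶ s.pt),
      ∃! h : U ⟶ oB A R, ∀ t : Finset R,
        (yon (S0 A)).map (h ≫ bMap (Rt A t).val) = x ≫ s.π.app (op t) ≫ i t ≫ prod.snd := by
    intro s U x
    choose hP hhP using fun t : Finset R => (yon (S0 A)).map_surjective (x ≫ s.π.app (op t) ≫ i t ≫ prod.snd)
    have hcompat : ∀ (t t' : Finset R) (h : t ⊆ t') (r : Rt A t),
        coord (hP t') (Subalgebra.inclusion (Rt_mono h) r) = coord (hP t) r := fun t t' h r => by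
      have e : hP t' ≫ bMap (Subalgebra.inclusion (Rt_mono h)) = hP t := (yon (S0 A)).map_injective (by
        rw [Functor.map_comp, hhP, hhP]
        have hs : s.π.app (op t') ≫ l t t' h = s.π.app (op t) := s.w (homOfLE h : t ⟶ t').op
        rw [← hs]
        simp only [Category.assoc]
        rw [← Category.assoc (l t t' h), hl, Category.assoc, prod.map_snd])
      rw [← e, coord_bMap]
      rfl
    have hmem : ∀ r : R, r ∈ Rt A ({r} : Finset R) := fun r => Algebra.subset_adjoin (by simp)
    let φ : R → Γ(U.left, ⊤) := fun r => coord (hP {r}) ⟨r, hmem r⟩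
    have hφ : ∀ (t : Finset R) (r : Rt A t), φ r.1 = coord (hP t) r := fun t r => by
      have h1 : ({r.1} : Finset R) ⊆ t ∪ {r.1} := Finset.subset_union_right
      have h2 : t ⊆ t ∪ {r.1} := Finset.subset_union_left
      rw [← hcompat t _ h2 r, ← show coord (hP (t ∪ {r.1})) (Subalgebra.inclusion (Rt_mono h1) ⟨r.1, hmem r.1⟩) = φ r.1 from
        hcompat {r.1} _ h1 ⟨r.1, hmem r.1⟩]
      rfl
    have hin : ∀ a b : R, a ∈ Rt A ({a, b} : Finset R) ∧ b ∈ Rt A ({a, b} : Finset R) := fun a b =>
      ⟨Algebra.subset_adjoin (by simp), Algebra.subset_adjoin (by simp)⟩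
    let φ' : R →+* Γ(U.left, ⊤) :=
      { toFun := φ
        map_one' := (hφ ∅ (1 : Rt A (∅ : Finset R))).trans (map_one _)
        map_zero' := (hφ ∅ (0 : Rt A (∅ : Finset R))).trans (map_zero _)
        map_mul' := fun a b => by
          obtain ⟨ha, hb⟩ := hin a b
          have h1 := hφ _ ((⟨a, ha⟩ : Rt A ({a, b} : Finset R)) * ⟨b, hb⟩)
          rw [map_mul, ← hφ, ← hφ] at h1
          exact h1
        map_add' := fun a b => by
          obtain ⟨ha, hb⟩ := hin a b
          have h1 := hφ _ ((⟨a, ha⟩ : Rt A ({a, b} : Finset R)) + ⟨b, hb⟩)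
          rw [map_add, ← hφ, ← hφ] at h1
          exact h1 }
    obtain ⟨h, hh⟩ := exists_of_coord (U := U) φ' (RingHom.ext fun a => by
      refine ((hφ ∅ (algebraMap A (Rt A (∅ : Finset R)) a)).trans ?_)
      exact RingHom.congr_fun (coord_algebraMap (hP ∅)) a)
    refine ⟨h, fun t => ?_, fun h' hh' => coord_ext ?_⟩
    · rw [← hhP]
      refine congrArg (yon (S0 A)).map (coord_ext (RingHom.ext fun r => ?_))
      rw [coord_bMap, hh]
      exact hφ t r
    · refine RingHom.ext fun r => ?_
      rw [hh]
      have e : h' ≫ bMap (Rt A ({r} : Finset R)).val = hP {r} :=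
        (yon (S0 A)).map_injective ((hh' {r}).trans (hhP {r}).symm)
      show coord h' r = φ r
      rw [show φ r = coord (hP {r}) ⟨r, hmem r⟩ from rfl, ← e, coord_bMap]
      rfl
  have hfac : ∀ (s : Cone D) (U : Over (S0 A)) (x : (yon (S0 A)).obj U ⟶ s.pt) (h : U ⟶ oB A R),
      (∀ t : Finset R, (yon (S0 A)).map (h ≫ bMap (Rt A t).val) = x ≫ s.π.app (op t) ≫ i t ≫ prod.snd) →
      ∀ t : Finset R, (yon (S0 A)).map h ≫ f' t = x ≫ s.π.app (op t) := by
    intro s U x h hh t
    have hg : ∀ t' : Finset R, x ≫ s.π.app (op t') ≫ i t' ≫ prod.fst = x ≫ s.π.app (op ∅) ≫ i ∅ ≫ prod.fst :=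
      fun t' => by
        have hs : s.π.app (op t') ≫ l ∅ t' (Finset.empty_subset _) = s.π.app (op ∅) :=
          s.w (homOfLE (Finset.empty_subset t') : (∅ : Finset R) ⟶ t').op
        rw [← hs]
        simp only [Category.assoc]
        rw [← Category.assoc (l _ _ _), hl, Category.assoc, prod.map_fst, Category.comp_id]
    have hfg := comp_eq_of_stages hsep hpe hps Z i hi h (x ≫ s.π.app (op ∅) ≫ i ∅ ≫ prod.fst) fun t' =>
      ⟨x ≫ s.π.app (op t'), by
        apply Limits.prod.hom_ext
        · rw [Category.assoc, Category.assoc, prod.lift_fst, hg]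
        · rw [Category.assoc, Category.assoc, prod.lift_snd]
          exact (hh t').symm⟩
    rw [← cancel_mono (i t), Category.assoc, hf']
    apply Limits.prod.hom_ext
    · rw [Category.assoc, Category.assoc, Category.assoc, prod.lift_fst, hfg]
      exact (hg t).symm
    · rw [Category.assoc, Category.assoc, Category.assoc, prod.lift_snd, ← Functor.map_comp]
      exact hh t
  choose hH hHs hHu using key
  have hnat : ∀ (s : Cone D) (U U' : Over (S0 A)) (m : U' ⟶ U) (x : (yon (S0 A)).obj U ⟶ s.pt),
      m ≫ hH s U x = hH s U' ((yon (S0 A)).map m ≫ x) := fun s U U' m x =>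
    hHu s U' _ _ fun t => by
      rw [Category.assoc, Functor.map_comp, hHs s U x t, Category.assoc]
  let L : ∀ s : Cone D, s.pt ⟶ (yon (S0 A)).obj (oB A R) := fun s =>
    ⟨{ app := fun U => ↾fun e => (AlgSp.J (S0 A)).uliftYonedaEquiv
          ((yon (S0 A)).map (hH s U.unop ((AlgSp.J (S0 A)).uliftYonedaEquiv.symm e)))
       naturality := fun U U' m => by
        ext e
        show (AlgSp.J (S0 A)).uliftYonedaEquiv
            ((yon (S0 A)).map (hH s U'.unop ((AlgSp.J (S0 A)).uliftYonedaEquiv.symm (s.pt.obj.map m e)))) =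
          ((yon (S0 A)).obj (oB A R)).obj.map m ((AlgSp.J (S0 A)).uliftYonedaEquiv
            ((yon (S0 A)).map (hH s U.unop ((AlgSp.J (S0 A)).uliftYonedaEquiv.symm e))))
        rw [GrothendieckTopology.uliftYonedaEquiv_naturality', ← Functor.map_comp, hnat]
        congr 3
        exact (AlgSp.J (S0 A)).uliftYonedaEquiv_symm_naturality_left m.unop s.pt e |>.symm }⟩
  have hL : ∀ (s : Cone D) (U : Over (S0 A)) (x : (yon (S0 A)).obj U ⟶ s.pt),
      x ≫ L s = (yon (S0 A)).map (hH s U x) := fun s U x => by
    refine (AlgSp.J (S0 A)).uliftYonedaEquiv.injective ?_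
    rw [GrothendieckTopology.uliftYonedaEquiv_comp]
    show (AlgSp.J (S0 A)).uliftYonedaEquiv
      ((yon (S0 A)).map (hH s U ((AlgSp.J (S0 A)).uliftYonedaEquiv.symm ((AlgSp.J (S0 A)).uliftYonedaEquiv x)))) = _
    rw [Equiv.symm_apply_apply]
  have hc : IsLimit c :=
    { lift := L
      fac := fun s t => hom_ext_of_yon fun U x => by
        rw [← Category.assoc, hL]
        exact hfac s U x _ (hHs s U x) t.unop
      uniq := fun s m hm => hom_ext_of_yon fun U x => by
        rw [hL]
        obtain ⟨h', hh'⟩ := (yon (S0 A)).map_surjective (x ≫ m)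
        rw [← hh']
        refine congrArg (yon (S0 A)).map (hHu s U x h' fun t => ?_)
        rw [← hm (op t), Functor.map_comp, hh']
        simp only [Category.assoc]
        rw [← Category.assoc (c.π.app (op t)), show c.π.app (op t) = f' t from rfl, hf', prod.lift_snd] }
  obtain ⟨W, w, hW, hwe, hws, hwa⟩ := stage_chart hsep hpe hps Z i hZ hi (∅ : Finset R)
  haveI := hW
  obtain ⟨b, hb⟩ := (yon (S0 A)).map_surjective (hwe.1.fst w)
  have sqR : IsPullback ((yon (S0 A)).map b) ((yon (S0 A)).map (hwe.1.snd w)) w w := hb ▸ hwe.1.isPullback w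
  haveI : IsAffineHom (hwe.1.snd w).left := hwa.property _ _ _ sqR
  haveI : IsAffine (hwe.1.pullback w).left := isAffine_of_isAffineHom (hwe.1.snd w).left
  obtain ⟨j, -, T', hT', ⟨e⟩⟩ := LimitAffine.exists_stage_affine D (fun a b φ => hla _ _ _) c hc (Iso.refl _)
    (i₀ := op (∅ : Finset R)) w hwe hws sqR
  exact ⟨j.unop, T', hT', ⟨e⟩⟩

include hsep hint hpe hps in
/-- an integral surjection from an affine scheme gives a finite one with affine source -/
theorem exists_finite_surjective (hsurj : IsSurjectiveMor f) :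
    ∃ (T' : Over (S0 A)) (f₀ : (yon (S0 A)).obj T' ⟶ X.obj),
      IsAffine T'.left ∧ IsFiniteMor f₀ ∧ IsSurjectiveMor f₀ := by
  classical
  choose Z i hZ hi using fun t : Finset R =>
    exists_isSchImage (IsAlgSpace.yon_obj (oB A R)) (isAlgSpace_prodT X t) (graphT f t)
  obtain ⟨t, T', hT', ⟨e⟩⟩ := exists_affine_stage hsep hint hpe hps Z i hZ hi
  refine ⟨T', e.hom ≫ i t ≫ prod.fst, hT', (isFiniteMor_iff_repWith _).2 ?_, fun x => ?_⟩
  · exact RepWith.comp (repWith_of_isIso @IsFinite e.hom) (finite_stage_chart hsep hint hpe hps Z i hi t)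
  · obtain ⟨y, hy⟩ := hsurj x
    obtain ⟨f', hf'⟩ := (hi t).2.1
    refine ⟨Points.map (f' ≫ e.inv) y, ?_⟩
    rw [← Points.map_comp, Category.assoc, Iso.inv_hom_id_assoc, ← Category.assoc, hf', prod.lift_fst]
    exact hy

end Groth.Agent.AlgSpLib.ChevGen
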