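import Groth.Agent.AlgSpLib.ProperStage
import Groth.Agent.AlgSpLib.FppfLocal
import Groth.Agent.S0590
import Groth.Agent.S2076
import Groth.Agent.S9199
import Groth.Agent.H8Lim.ApproxFP

/-!
A scheme separated of finite type over a separated space embeds in the product of the space with a
scheme of finite type over `ℤ`.
-/

universe u

open CategoryTheory CategoryTheory.Limits AlgebraicGeometry Opposite
open AlgSp

noncomputable section

set_option linter.style.haveILetI false

namespace Groth.Agent.AlgSpLib.GraphModel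

open Groth.Agent.AlgSpLib

set_option backward.isDefEq.respectTransparency.types false
set_option backward.isDefEq.respectTransparency false

variable {S : Scheme.{u}}

theorem compactSpace_of_isQuasiCompactSp_yon {W : Over S} (h : IsQuasiCompactSp ((yon S).obj W)) :
    CompactSpace W.left := by
  obtain ⟨U, p, -, hs, hc⟩ := h
  obtain ⟨p', rfl⟩ := (yon S).map_surjective p
  haveI : Surjective p'.left := (repWith_yon_map_iff @Surjective p').1 hs
  exact p'.left.surjective.compactSpace p'.left.continuous

/-- The base change of schemes over `ℤ` to `S`, as schemes over `S`. -/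
abbrev baseS (S : Scheme.{u}) (A : Scheme.{u}) : Over S :=
  Over.mk (pullback.snd (specULiftZIsTerminal.from A) (specULiftZIsTerminal.from S))

theorem isPullback_prod_map_snd {T A B : Sp S} (b : A ⟶ B) :
    IsPullback (prod.map (𝟙 T) b) (prod.snd : T ⨯ A ⟶ A) (prod.snd : T ⨯ B ⟶ B) b := by
  refine ⟨⟨prod.map_snd _ _⟩, ⟨PullbackCone.IsLimit.mk _ (fun s => prod.lift (s.fst ≫ prod.fst) s.snd)
    (fun s => ?_) (fun s => prod.lift_snd _ _) (fun s m h₁ h₂ => ?_)⟩⟩
  · apply prod.hom_ext <;> simp [s.condition]
  · apply prod.hom_ext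
    · simpa using congrArg (· ≫ prod.fst) h₁
    · simpa using h₂

theorem isPullback_prod_map_fst {A B Y : Sp S} (b : A ⟶ B) :
    IsPullback (prod.map b (𝟙 Y)) (prod.fst : A ⨯ Y ⟶ A) (prod.fst : B ⨯ Y ⟶ B) b := by
  refine ⟨⟨prod.map_fst _ _⟩, ⟨PullbackCone.IsLimit.mk _ (fun s => prod.lift s.snd (s.fst ≫ prod.snd))
    (fun s => ?_) (fun s => prod.lift_fst _ _) (fun s m h₁ h₂ => ?_)⟩⟩
  · apply prod.hom_ext <;> simp [s.condition]
  · apply prod.hom_ext
    · simpa using h₂
    · simpa using congrArg (· ≫ prod.snd) h₁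

/-- The stage of the limit into which the chart of `W` embeds. -/
theorem exists_stage {W V R : Scheme.{u}} [CompactSpace W] [CompactSpace V] [W.IsSeparated]
    [QuasiSeparatedSpace V] (x : R ⟶ W) (y : R ⟶ V) [LocallyOfFiniteType y]
    (h : IsClosedImmersion (pullback.lift x y (specULiftZIsTerminal.hom_ext _ _) :
      R ⟶ pullback (specULiftZIsTerminal.from W) (specULiftZIsTerminal.from V))) :
    ∃ (A : Scheme.{u}) (π : W ⟶ A), CompactSpace A ∧ IsSeparated (specULiftZIsTerminal.from A) ∧
      LocallyOfFiniteType (specULiftZIsTerminal.from A) ∧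
      IsClosedImmersion (pullback.lift (x ≫ π) y (specULiftZIsTerminal.hom_ext _ _) :
        R ⟶ pullback (specULiftZIsTerminal.from A) (specULiftZIsTerminal.from V)) := by
  haveI : QuasiSeparatedSpace W := inferInstance
  obtain ⟨I, _, _, _, D, c, hc, hDa, hD, ⟨e⟩⟩ := Groth.Agent.S0590.result W
  let Z : Scheme.{u} := Spec (.of (ULift.{u} ℤ))
  haveI : ∀ i, CompactSpace (D.obj i) := fun i => (hD i).1
  haveI : ∀ i, QuasiSeparatedSpace (D.obj i) := fun i => by
    haveI := (hD i).2
    haveI := Groth.Agent.H8Lim.isLocallyNoetherian_specULiftZ.{u}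
    haveI : IsLocallyNoetherian (D.obj i) :=
      LocallyOfFiniteType.isLocallyNoetherian (specULiftZIsTerminal.from (D.obj i))
    infer_instance
  let t : D ⟶ (Functor.const Iᵒᵖ).obj Z :=
    { app := fun i => specULiftZIsTerminal.from _
      naturality := fun i j f => specULiftZIsTerminal.hom_ext _ _ }
  haveI := hDa
  haveI : c.pt.IsSeparated := ⟨by
    have : IsSeparated (e.hom ≫ terminal.from W) := inferInstance
    rwa [show e.hom ≫ terminal.from W = terminal.from c.pt from terminal.hom_ext _ _] at this⟩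
  obtain ⟨i₀⟩ := (inferInstance : Nonempty Iᵒᵖ)
  haveI : IsSeparated (c.π.app i₀ ≫ t.app i₀) := by
    haveI : IsSeparated ((c.π.app i₀ ≫ t.app i₀) ≫ terminal.from Z) := by
      rw [show (c.π.app i₀ ≫ t.app i₀) ≫ terminal.from Z = terminal.from c.pt from terminal.hom_ext _ _]
      exact ‹c.pt.IsSeparated›.1
    exact IsSeparated.of_comp _ (terminal.from Z)
  obtain ⟨i₁, hi₁⟩ := Groth.Agent.S9199.result Z D t c hc i₀
  -- the product with `V`
  let D₁ : Iᵒᵖ ⥤ Over Z :=
    { obj := fun i => Over.mk (specULiftZIsTerminal.from (D.obj i))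
      map := fun f => Over.homMk (D.map f) (specULiftZIsTerminal.hom_ext _ _) }
  let c₁ : Cone D₁ :=
    { pt := Over.mk (specULiftZIsTerminal.from c.pt)
      π :=
      { app := fun i => Over.homMk (c.π.app i) (specULiftZIsTerminal.hom_ext _ _)
        naturality := fun i j f => by ext; exact c.π.naturality f } }
  have hc₁ : IsLimit c₁ :=
    { lift := fun s => Over.homMk (hc.lift ((Over.forget Z).mapCone s)) (specULiftZIsTerminal.hom_ext _ _)
      fac := fun s j => by ext; exact hc.fac ((Over.forget Z).mapCone s) j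
      uniq := fun s m hm => by
        ext
        exact hc.uniq ((Over.forget Z).mapCone s) m.left fun j => congrArg (fun k => k.left) (hm j) }
  let P := Over.pullback (specULiftZIsTerminal.from V)
  have hcP : IsLimit (P.mapCone c₁) := isLimitOfPreserves P hc₁
  haveI : ∀ (i j : Iᵒᵖ) (f : i ⟶ j), IsAffineHom ((D₁ ⋙ P).map f).left := fun i j f => by
    haveI := hDa i j f
    refine MorphismProperty.of_isPullback (P := @IsAffineHom) (IsPullback.flip ?_ : IsPullback
      (pullback.fst (specULiftZIsTerminal.from (D.obj i)) (specULiftZIsTerminal.from V))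
      ((D₁ ⋙ P).map f).left (D.map f)
      (pullback.fst (specULiftZIsTerminal.from (D.obj j)) (specULiftZIsTerminal.from V))) ‹_›
    refine IsPullback.of_right (h₁₂ := pullback.snd (specULiftZIsTerminal.from (D.obj j))
      (specULiftZIsTerminal.from V)) ?_ (by simp [P, D₁]) (IsPullback.of_hasPullback _ _).flip
    simpa [P, D₁] using (IsPullback.of_hasPullback (specULiftZIsTerminal.from (D.obj i))
      (specULiftZIsTerminal.from V)).flip
  haveI : ∀ i, CompactSpace ((D₁ ⋙ P).obj i).left := fun i => by
    show CompactSpace ↥(pullback (specULiftZIsTerminal.from (D.obj i)) (specULiftZIsTerminal.from V))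
    exact QuasiCompact.compactSpace_of_compactSpace (pullback.snd _ _)
  let h' : R ⟶ (P.mapCone c₁).pt.left :=
    pullback.lift (x ≫ e.inv) y (specULiftZIsTerminal.hom_ext _ _)
  haveI : IsClosedImmersion h' := by
    let m : pullback (specULiftZIsTerminal.from W) (specULiftZIsTerminal.from V) ⟶
        pullback (specULiftZIsTerminal.from c.pt) (specULiftZIsTerminal.from V) :=
      pullback.map _ _ _ _ e.inv (𝟙 _) (𝟙 _) (specULiftZIsTerminal.hom_ext _ _) (specULiftZIsTerminal.hom_ext _ _)
    have em : pullback.lift x y (specULiftZIsTerminal.hom_ext _ _) ≫ m = h' := by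
      apply pullback.hom_ext
      · simp [m, h']
        exact (pullback.lift_fst _ _ _).symm
      · simp [m, h']
        exact (pullback.lift_snd _ _ _).symm
    rw [← em]
    infer_instance
  haveI : LocallyOfFiniteType (h' ≫ (P.mapCone c₁).pt.hom) := by
    rw [show h' ≫ (P.mapCone c₁).pt.hom = y from pullback.lift_snd _ _ _]
    infer_instance
  obtain ⟨i, hi⟩ := Groth.Agent.S2076.result V (D₁ ⋙ P) (P.mapCone c₁) hcP h'
  obtain ⟨j, a, b, -⟩ := IsCofilteredOrEmpty.cone_objs i i₁
  refine ⟨D.obj j, e.inv ≫ c.π.app j, (hD j).1, hi₁ j b, (hD j).2, ?_⟩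
  haveI : IsSeparated (specULiftZIsTerminal.from (D.obj j)) := hi₁ j b
  haveI := hi
  let m : pullback (specULiftZIsTerminal.from (D.obj j)) (specULiftZIsTerminal.from V) ⟶
      ((D₁ ⋙ P).obj i).left := ((D₁ ⋙ P).map a).left
  have em : pullback.lift (x ≫ e.inv ≫ c.π.app j) y (specULiftZIsTerminal.hom_ext _ _) ≫ m =
      h' ≫ ((P.mapCone c₁).π.app i).left := by
    apply pullback.hom_ext
    · simp [m, h', P, D₁, c₁]
    · simp [m, h', P, D₁, c₁]
  haveI : IsSeparated m := inferInstance
  haveI : IsClosedImmersion (pullback.lift (x ≫ e.inv ≫ c.π.app j) y (specULiftZIsTerminal.hom_ext _ _) ≫ m) :=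
    em ▸ hi
  exact IsClosedImmersion.of_comp _ m

variable [S.IsSeparated]

theorem exists_graph_model {Y : Sp S} (hY : IsAlgSpace Y) (hYc : IsQuasiCompactSp Y) (hYs : IsSeparatedSp Y)
    (W : Over S) [CompactSpace W.left] (φ : (yon S).obj W ⟶ Y) (hsep : IsSeparatedMor φ)
    (hlft : LocP @LocallyOfFiniteType φ) :
    ∃ (A : Scheme.{u}) (ψ : W ⟶ baseS S A), CompactSpace A ∧ IsSeparated (specULiftZIsTerminal.from A) ∧
      LocallyOfFiniteType (specULiftZIsTerminal.from A) ∧
      RepWith @IsClosedImmersion (prod.lift ((yon S).map ψ) φ) := by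
  have hT : IsTerminal ((yon S).obj (Over.mk (𝟙 S))) := IsTerminal.isTerminalObj (yon S) _ Over.mkIdTerminal
  haveI := compactSpace_points_of_isQuasiCompactSp hYc
  obtain ⟨V, b, hV, hbe, hbs⟩ := exists_affine_chart hY
  haveI := hV
  haveI := isLocallySurjective_of_etale hbe hbs
  have hr := hY.representable_from_yon φ
  let R : Over S := hr.pullback b
  let a₁ : R ⟶ W := hr.fst' b
  let a₂ : R ⟶ V := hr.snd b
  have sqR : IsPullback ((yon S).map a₁) ((yon S).map a₂) φ b := hr.isPullback' b
  haveI : LocallyOfFiniteType a₂.left :=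
    locP_yon_map (locP_of_isPullback etLocal_lft (IsAlgSpace.yon_obj W) hY (IsAlgSpace.yon_obj _) sqR hlft)
  -- the scheme `W` is separated
  have hYs' : IsSeparatedMor (hT.from Y) := (repWith_diagonal_iff_diag _ hT _).2 hYs
  haveI : IsSeparated W.hom := by
    have h := isSeparatedMor_comp hsep hYs'
    rw [show φ ≫ hT.from Y = (yon S).map (Over.homMk W.hom : W ⟶ Over.mk (𝟙 S)) from hT.hom_ext _ _] at h
    exact (isSeparatedMor_yon_map_iff _).1 h
  haveI : W.left.IsSeparated := ⟨by
    have : IsSeparated (W.hom ≫ terminal.from S) := inferInstance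
    rwa [show W.hom ≫ terminal.from S = terminal.from W.left from terminal.hom_ext _ _] at this⟩
  -- the graph over `S`
  let Q : Over S := Over.mk (pullback.snd W.hom V.hom ≫ V.hom)
  let q₁ : Q ⟶ W := Over.homMk (pullback.fst W.hom V.hom) (by simp [Q, pullback.condition])
  let q₂ : Q ⟶ V := Over.homMk (pullback.snd W.hom V.hom) rfl
  let k : R ⟶ Q := Over.homMk (pullback.lift a₁.left a₂.left (by rw [Over.w a₁, Over.w a₂])) (by simp [Q])
  haveI hk : IsClosedImmersion k.left := by
    have hd : RepWith @IsClosedImmersion (pullback.map φ b (φ ≫ hT.from Y) (b ≫ hT.from Y) _ _ (hT.from Y)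
        (Category.id_comp _).symm (Category.id_comp _).symm) :=
      RepWith.baseChange (pullback_map_diagonal_isPullback φ b (hT.from Y)) hYs'
    have sqQ : IsPullback ((yon S).map q₁) ((yon S).map q₂) (φ ≫ hT.from Y) (b ≫ hT.from Y) := by
      rw [show φ ≫ hT.from Y = (yon S).map (Over.homMk W.hom : W ⟶ Over.mk (𝟙 S)) from hT.hom_ext _ _,
        show b ≫ hT.from Y = (yon S).map (Over.homMk V.hom : V ⟶ Over.mk (𝟙 S)) from hT.hom_ext _ _]
      exact isPullback_over_forget (IsPullback.of_hasPullback W.hom V.hom)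
    refine (repWith_yon_map_iff @IsClosedImmersion k).1 ?_
    have e : (yon S).map k = sqR.isoPullback.hom ≫ pullback.map φ b (φ ≫ hT.from Y) (b ≫ hT.from Y) _ _
        (hT.from Y) (Category.id_comp _).symm (Category.id_comp _).symm ≫ sqQ.isoPullback.inv := by
      apply sqQ.hom_ext
      · simp only [Category.assoc, IsPullback.isoPullback_inv_fst, pullback.lift_fst, Category.comp_id,
          IsPullback.isoPullback_hom_fst, ← Functor.map_comp]
        congr 1
        ext
        simp [k, q₁]
      · simp only [Category.assoc, IsPullback.isoPullback_inv_snd, pullback.lift_snd, Category.comp_id,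
          IsPullback.isoPullback_hom_snd, ← Functor.map_comp]
        congr 1
        ext
        simp [k, q₂]
    rw [e]
    exact RepWith.comp (repWith_of_isIso @IsClosedImmersion _) (RepWith.comp hd (repWith_of_isIso @IsClosedImmersion _))
  haveI : CompactSpace V.left := inferInstance
  obtain ⟨A, π, hAc, hAs, hAl, hcl⟩ := exists_stage (W := W.left) (V := V.left) a₁.left a₂.left (by
    have e : pullback.lift a₁.left a₂.left (specULiftZIsTerminal.hom_ext _ _) =
        k.left ≫ pullback.mapDesc W.hom V.hom (specULiftZIsTerminal.from S) ≫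
          (pullback.congrHom (f₁ := W.hom ≫ specULiftZIsTerminal.from S) (g₁ := V.hom ≫ specULiftZIsTerminal.from S)
            (f₂ := specULiftZIsTerminal.from W.left) (g₂ := specULiftZIsTerminal.from V.left)
            (specULiftZIsTerminal.hom_ext _ _) (specULiftZIsTerminal.hom_ext _ _)).hom := by
      apply pullback.hom_ext <;> simp [k]
    rw [e]
    haveI : IsSeparated (specULiftZIsTerminal.from S) := by
      haveI : IsSeparated (specULiftZIsTerminal.from S ≫ terminal.from _) := by
        rw [show specULiftZIsTerminal.from S ≫ terminal.from _ = terminal.from S from terminal.hom_ext _ _]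
        infer_instance
      exact IsSeparated.of_comp _ (terminal.from _)
    infer_instance)
  let ψ : W ⟶ baseS S A := Over.homMk (pullback.lift π W.hom (specULiftZIsTerminal.hom_ext _ _))
    (pullback.lift_snd _ _ _)
  refine ⟨A, ψ, hAc, hAs, hAl, ?_⟩
  let T : Over S := baseS S A
  let Q' : Over S := Over.mk (pullback.snd T.hom V.hom ≫ V.hom)
  let t₁ : Q' ⟶ T := Over.homMk (pullback.fst T.hom V.hom) (by simp [Q', pullback.condition])
  let t₂ : Q' ⟶ V := Over.homMk (pullback.snd T.hom V.hom) rfl
  have sqT : IsPullback ((yon S).map t₁) ((yon S).map t₂) ((yon S).map (Over.homMk T.hom : T ⟶ Over.mk (𝟙 S)))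
      ((yon S).map (Over.homMk V.hom : V ⟶ Over.mk (𝟙 S))) :=
    isPullback_over_forget (IsPullback.of_hasPullback T.hom V.hom)
  have sqprod : IsPullback (prod.fst : (yon S).obj T ⨯ (yon S).obj V ⟶ _) prod.snd
      ((yon S).map (Over.homMk T.hom : T ⟶ Over.mk (𝟙 S))) ((yon S).map (Over.homMk V.hom : V ⟶ Over.mk (𝟙 S))) :=
    by
      have h := IsPullback.of_is_product' (prodIsProd ((yon S).obj T) ((yon S).obj V)) hT
      rwa [hT.hom_ext (hT.from ((yon S).obj T)) ((yon S).map (Over.homMk T.hom : T ⟶ Over.mk (𝟙 S))),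
        hT.hom_ext (hT.from ((yon S).obj V)) ((yon S).map (Over.homMk V.hom : V ⟶ Over.mk (𝟙 S)))] at h
  let k' : R ⟶ Q' := Over.homMk (pullback.lift (a₁ ≫ ψ).left a₂.left (by rw [Over.w (a₁ ≫ ψ), Over.w a₂]))
    (by simp [Q'])
  haveI : IsClosedImmersion k'.left := by
    let m : pullback T.hom V.hom ⟶ pullback (specULiftZIsTerminal.from A) (specULiftZIsTerminal.from V.left) :=
      pullback.lift (pullback.fst _ _ ≫ pullback.fst _ _) (pullback.snd _ _) (specULiftZIsTerminal.hom_ext _ _)
    have em : k'.left ≫ m = pullback.lift (a₁.left ≫ π) a₂.left (specULiftZIsTerminal.hom_ext _ _) := by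
      apply pullback.hom_ext <;> simp [m, k', ψ, T]
    haveI : IsClosedImmersion (k'.left ≫ m) := em ▸ hcl
    haveI : IsSeparated T.hom :=
      MorphismProperty.pullback_snd (P := @IsSeparated) _ _ hAs
    haveI : IsSeparated (m ≫ pullback.snd _ _) := by
      rw [show m ≫ pullback.snd _ _ = pullback.snd T.hom V.hom from pullback.lift_snd _ _ _]
      exact MorphismProperty.pullback_snd (P := @IsSeparated) _ _ ‹_›
    haveI : IsSeparated m := IsSeparated.of_comp m (pullback.snd _ _)
    exact IsClosedImmersion.of_comp k'.left m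
  let g : (yon S).obj R ⟶ (yon S).obj T ⨯ (yon S).obj V :=
    prod.lift ((yon S).map (a₁ ≫ ψ)) ((yon S).map a₂)
  have hg : RepWith @IsClosedImmersion g := by
    have e : g = (yon S).map k' ≫ (sqT.isoIsPullback _ _ sqprod).hom := by
      apply prod.hom_ext
      · rw [Category.assoc, IsPullback.isoIsPullback_hom_fst, ← Functor.map_comp, prod.lift_fst]
        congr 1
        ext
        simp [k', t₁]
      · rw [Category.assoc, IsPullback.isoIsPullback_hom_snd, ← Functor.map_comp, prod.lift_snd]
        congr 1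
        ext
        simp [k', t₂]
    rw [e]
    exact RepWith.comp ((repWith_yon_map_iff @IsClosedImmersion k').2 inferInstance)
      (repWith_of_isIso @IsClosedImmersion _)
  have sqb := isPullback_prod_map_snd (T := (yon S).obj T) b
  have sqg : IsPullback ((yon S).map a₁) g (prod.lift ((yon S).map ψ) φ) (prod.map (𝟙 _) b) := by
    refine IsPullback.of_bot ?_ ?_ sqb
    · rw [show g ≫ prod.snd = (yon S).map a₂ from prod.lift_snd _ _, prod.lift_snd]
      exact sqR
    · apply prod.hom_ext
      · simp [g]
      · simpa [g] using sqR.w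
  have hTY : IsAlgSpace ((yon S).obj T ⨯ Y) :=
    isAlgSpace_of_isPullback (IsAlgSpace.yon_obj (Over.mk (𝟙 S))).diag (IsAlgSpace.yon_obj T) hY
      (IsPullback.of_is_product' (prodIsProd _ _) hT)
  haveI := isLocallySurjective_of_etale (RepWith.baseChange sqb.flip hbe) (RepWith.baseChange sqb.flip hbs)
  exact repWith_of_isLocallySurjective (hTY.representable_from_yon _) _ sqg @IsClosedImmersion hg

end Groth.Agent.AlgSpLib.GraphModel
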