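import Groth.Agent.AlgSpLib.ProperStage
import Groth.Agent.AlgSpLib.GraphModel
import Groth.Agent.AlgSpLib.InductPrinciple
import Groth.Agent.AlgSpLib.ThickScheme
import Groth.Agent.AlgSpLib.WhereLocus
import Groth.Agent.AlgSpLib.BaseSch
import Groth.Agent.AlgSpLib.ChevMain
import Groth.Agent.S1366

/-!
Clopen subsets of the closed fibre of a space proper over a henselian pair lift.
-/

universe u

open CategoryTheory CategoryTheory.Limits AlgebraicGeometry Opposite
open AlgSp

noncomputable section

set_option linter.style.haveILetI false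

namespace Groth.Agent.AlgSpLib.ClopenLift

open Groth.Agent.AlgSpLib

set_option backward.isDefEq.respectTransparency.types false
set_option backward.isDefEq.respectTransparency false
set_option maxHeartbeats 1600000

variable {S : Scheme.{u}}

theorem map_schemePt {F : Sp S} {T T' : Over S} (φ : T ⟶ T') (g : (yon S).obj T' ⟶ F) (t : T.left) :
    Points.map ((yon S).map φ ≫ g) (Points.ofScheme T t) = Points.map g (Points.ofScheme T' (φ.left t)) := by
  rw [Points.map_comp, map_yon_map_ofScheme]

/-- A finite surjective scheme cover, the base being arbitrary. -/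
theorem exists_finite_cover (X : AlgSp.Space S) {B : Over S} [IsAffine B.left] (s : X.obj ⟶ (yon S).obj B)
    (hs : IsSeparatedMor s) (hc : IsQuasiCompactMor s) :
    ∃ (W : Over S) (h : (yon S).obj W ⟶ X.obj), IsFiniteMor h ∧ Function.Surjective (Points.map h) := by
  let Z : Scheme.{u} := Spec (.of (ULift.{u} ℤ))
  let g : S ⟶ Z := specULiftZIsTerminal.from S
  let X' : AlgSp.Space Z := ⟨(BaseSch.shriek g).obj X.obj, (BaseSch.isAlgSpace_shriek_iff X.obj).2 X.property⟩
  let B' : Over Z := (Over.map g).obj B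
  haveI : IsAffine B'.left := ‹IsAffine B.left›
  let s' : X'.obj ⟶ (yon Z).obj B' := (BaseSch.shriek g).map s ≫ (BaseSch.shriekYonIso g B).hom
  have hs' : IsSeparatedMor s' := by
    refine isSeparatedMor_comp ?_ (isSeparatedMor_of_mono _)
    have sqd := IsPullback.of_hasPullback s s
    have sqd' := (BaseSch.isPullback_shriek_iff (g := g)).2 sqd
    have e : pullback.diagonal ((BaseSch.shriek g).map s) = (BaseSch.shriek g).map (pullback.diagonal s) ≫
        sqd'.isoPullback.hom := by
      apply pullback.hom_ext <;> simp [← Functor.map_comp]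
    show RepWith @IsClosedImmersion _
    rw [e]
    exact RepWith.comp ((BaseSch.repWith_shriek_iff _ _).2 hs) (repWith_of_isIso @IsClosedImmersion _)
  have hB's : IsQuasiSeparatedSp ((yon Z).obj B') := by
    haveI : QuasiSeparated B'.hom := inferInstance
    exact (isQuasiSeparatedMor_iff_sp _).1
      ((isQuasiSeparatedMor_yon_map_iff (Over.homMk B'.hom : B' ⟶ Over.mk (𝟙 Z))).2 ‹_›)
  have hX's : IsQuasiSeparatedSp X'.obj := ProperSt.isQuasiSeparatedSp_of_separated hs' hB's
  have hX'c : IsQuasiCompactSp X'.obj := by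
    have hXc : IsQuasiCompactSp X.obj :=
      OpenFac.isQuasiCompactSp_of_mor X.property (IsAlgSpace.yon_obj B) hc (Stk19.isQuasiCompactSp_yon B)
    obtain ⟨U, p, he, hp, hU⟩ := hXc
    refine ⟨(Over.map g).obj U, (BaseSch.shriekYonIso g U).inv ≫ (BaseSch.shriek g).map p, ?_, ?_, hU⟩
    · exact RepWith.comp (repWith_of_isIso @Etale _) ((BaseSch.repWith_shriek_iff _ _).2 he)
    · exact RepWith.comp (repWith_of_isIso @Surjective _) ((BaseSch.repWith_shriek_iff _ _).2 hp)
  haveI := compactSpace_points_of_isQuasiCompactSp hX'c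
  obtain ⟨U, p, -, hpe, hps⟩ := exists_affine_chart X'.property
  obtain ⟨W', h', hh', hhs', -, -⟩ := Groth.Agent.S10048.result Z X' hX'c hX's U p hpe hps
  obtain ⟨φ, hφ⟩ := (yon Z).map_surjective (h' ≫ BaseSch.proj g X.obj)
  obtain ⟨h, hh⟩ := BaseSch.exists_lift_over φ h' hφ.symm
  have key : ∀ (P : MorphismProperty Scheme.{u}) [P.IsStableUnderBaseChange], RepWith P h' → RepWith P h := by
    intro P _ hp
    rw [← BaseSch.repWith_shriek_iff (g := g), hh]
    exact MorphismProperty.RespectsIso.precomp _ _ _ (MorphismProperty.RespectsIso.precomp _ _ _ hp)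
  refine ⟨_, h, (isFiniteMor_iff_repWith h).2 (key _ ((isFiniteMor_iff_repWith h').1 hh')), ?_⟩
  exact surjective_map_of_repWith (key _ (ChevGen.repWith_surjective_of X'.property h' hhs'))

variable {A : Type u} [CommRing A] (I : Ideal A) [HenselianRing A I] (str : Spec (CommRingCat.of A) ⟶ S)

/-- `Spec A` over `S` -/
abbrev base : Over S := Over.mk str

/-- `Spec (A ⧸ I)` over `S` -/
abbrev base0 : Over S := Over.mk (Spec.map (CommRingCat.ofHom (Ideal.Quotient.mk I)) ≫ str)

/-- the inclusion -/
abbrev baseι : base0 I str ⟶ base str := Over.homMk (Spec.map (CommRingCat.ofHom (Ideal.Quotient.mk I))) rfl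

/-- Clopen subsets of the closed fibre lift. -/
theorem exists_clopen_lift (X : AlgSp.Space S) (s : X.obj ⟶ (yon S).obj (base str)) (hs : IsProperMor s)
    (X0 : AlgSp.Space S) (i0 : X0.obj ⟶ X.obj) (s0 : X0.obj ⟶ (yon S).obj (base0 I str))
    (hX0 : IsPullback i0 s0 s ((yon S).map (baseι I str))) {C0 : Set (Points X0.obj)} (hC0 : IsClopen C0) :
    ∃ C : Set (Points X.obj), IsClopen C ∧ Points.map i0 ⁻¹' C = C0 := by
  let B1 := base str
  let B0 := base0 I str
  let q : Spec (CommRingCat.of (A ⧸ I)) ⟶ Spec (CommRingCat.of A) := Spec.map (CommRingCat.ofHom (Ideal.Quotient.mk I))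
  haveI : IsAffine B1.left := inferInstanceAs (IsAffine (Spec (CommRingCat.of A)))
  have hB1 := IsAlgSpace.yon_obj B1
  have hB0 := IsAlgSpace.yon_obj B0
  obtain ⟨W', h, hh, hhs⟩ := exists_finite_cover X s hs.1 hs.2.1.2
  have hW' := IsAlgSpace.yon_obj W'
  have hhp : IsProperMor h := ((Groth.Agent.S10271.result (X := (AlgSp.ofScheme S).obj W') (Y := X)
    (ObjectProperty.homMk h)).1 hh).2
  obtain ⟨w, ew⟩ := (yon S).map_surjective (h ≫ s)
  haveI hwp : IsProper w.left := (isProperMor_yon_map_iff' w).1 (ew ▸ isProperMor_comp hW' X.property hB1 hhp hs)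
  -- the special fibre of the cover
  let W0 : Over S := Over.mk (pullback.fst w.left q ≫ W'.hom)
  let ι0 : W0 ⟶ W' := Over.homMk (pullback.fst w.left q) rfl
  let p0 : W0 ⟶ B0 := Over.homMk (pullback.snd w.left q) (by
    show pullback.snd w.left q ≫ q ≫ str = pullback.fst w.left q ≫ W'.hom
    rw [← pullback.condition_assoc, ← Over.w w]
    rfl)
  have sqW0 : IsPullback ((yon S).map ι0) ((yon S).map p0) ((yon S).map w) ((yon S).map (baseι I str)) :=
    isPullback_over_forget (IsPullback.of_hasPullback w.left q)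
  let h0 : (yon S).obj W0 ⟶ X0.obj := hX0.lift ((yon S).map ι0 ≫ h) ((yon S).map p0) (by
    rw [Category.assoc, ← ew]; exact sqW0.w)
  have eh0 : h0 ≫ i0 = (yon S).map ι0 ≫ h := hX0.lift_fst _ _ _
  have es0 : h0 ≫ s0 = (yon S).map p0 := hX0.lift_snd _ _ _
  have sqh0 : IsPullback ((yon S).map ι0) h0 h i0 := by
    refine IsPullback.of_bot ?_ eh0.symm hX0
    rw [es0, ← ew]
    exact sqW0
  have hh0s : Function.Surjective (Points.map h0) := surjective_map_of_isPullback sqh0 hhs
  let Oy : (pullback w.left q).Opens := ⟨(fun y => Points.map h0 (Points.ofScheme W0 y)) ⁻¹' C0,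
    (hC0.2.preimage (Points.continuous_map h0)).preimage (Points.schemeHomeo W0).continuous⟩
  have hOyc : IsClosed (Oy : Set ↥(pullback w.left q)) :=
    (hC0.1.preimage (Points.continuous_map h0)).preimage (Points.schemeHomeo W0).continuous
  haveI : IsProper (Oy.ι ≫ pullback.snd w.left q) := by
    haveI : IsClosedImmersion Oy.ι := IsClosedImmersion.of_isPreimmersion _ (by
      rw [Scheme.Opens.range_ι]; exact hOyc)
    haveI : IsProper (pullback.snd w.left q) := MorphismProperty.pullback_snd (P := @IsProper) _ _ hwp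
    infer_instance
  obtain ⟨W, hWc, hWp, hWY⟩ := Groth.Agent.S1366.result I w.left Oy hOyc ‹_›
  haveI := hWp
  have hWYi : ∀ y : W0.left, ι0.left y ∈ W ↔ Points.map h0 (Points.ofScheme W0 y) ∈ C0 := fun y => by
    show y ∈ pullback.fst w.left q ⁻¹ᵁ W ↔ y ∈ Oy
    rw [hWY]
  let m : W'.left → Points X.obj := fun z => Points.map h (Points.ofScheme W' z)
  have hm0 : ∀ y : W0.left, m (ι0.left y) = Points.map i0 (Points.map h0 (Points.ofScheme W0 y)) := fun y => by
    rw [← Points.map_comp, eh0, map_schemePt]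
  haveI : Mono i0 := by
    refine mono_of_repWith (P := @IsClosedImmersion) (fun _ _ g (_ : IsClosedImmersion g) => (inferInstance : Mono g)) ?_
    haveI : IsClosedImmersion q := IsClosedImmersion.spec_of_surjective _ Ideal.Quotient.mk_surjective
    exact RepWith.baseChange hX0.flip ((repWith_yon_map_iff @IsClosedImmersion (baseι I str)).2 ‹IsClosedImmersion q›)
  have hi0inj := injective_map_of_mono i0
  -- saturation
  have hrh := X.property.representable_from_yon h
  let R2 : Over S := hrh.pullback h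
  let a : R2 ⟶ W' := hrh.fst' h
  let b : R2 ⟶ W' := hrh.snd h
  have sq2 : IsPullback ((yon S).map a) ((yon S).map b) h h := hrh.isPullback' h
  haveI : IsProper a.left := (isProperMor_yon_map_iff' a).1
    (isProperMor_of_isPullback hW' X.property hW' sq2.flip hhp)
  haveI : IsProper b.left := (isProperMor_yon_map_iff' b).1
    (isProperMor_of_isPullback hW' X.property hW' sq2 hhp)
  have hab : ∀ r : R2.left, m (a.left r) = m (b.left r) := fun r => by
    show Points.map h _ = Points.map h _
    rw [← map_schemePt, sq2.w, map_schemePt]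
  have habw : a.left ≫ w.left = b.left ≫ w.left := by
    rw [← Over.comp_left, ← Over.comp_left]
    refine congrArg (fun k : R2 ⟶ B1 => k.left) ((yon S).map_injective ?_)
    rw [Functor.map_comp, Functor.map_comp, ew, ← Category.assoc, ← Category.assoc, sq2.w]
  have hzero : ∀ r₀ : R2.left, a.left r₀ ∈ W → b.left r₀ ∈ W := by
    intro r₀ hx₀
    by_contra hy₀
    let O : R2.left.Opens := a.left ⁻¹ᵁ W
    let π : (O : Scheme.{u}) ⟶ Spec (CommRingCat.of A) := (O.ι ≫ a.left) ≫ w.left
    haveI : IsProper π := by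
      rw [show π = (a.left ∣_ W) ≫ W.ι ≫ w.left by simp [π, O, morphismRestrict_ι_assoc]]
      haveI : IsProper (a.left ∣_ W) := IsZariskiLocalAtTarget.restrict (P := @IsProper) ‹_› _
      exact MorphismProperty.comp_mem @IsProper _ _ ‹_› hWp
    let K : Set O := (fun r => b.left (O.ι r)) ⁻¹' (W : Set W'.left)ᶜ
    have hK : IsClosed K := W.isOpen.isClosed_compl.preimage (b.left.continuous.comp O.ι.continuous)
    obtain ⟨m', hm', hmc⟩ := IsClosed.exists_closed_singleton (π.isClosedMap K hK) ⟨_, ⟨r₀, hx₀⟩, hy₀, rfl⟩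
    have hmI : m' ∈ Set.range q := by
      have hmax : m'.asIdeal.IsMaximal := (PrimeSpectrum.isClosed_singleton_iff_isMaximal m').1 hmc
      show m' ∈ Set.range (PrimeSpectrum.comap (Ideal.Quotient.mk I))
      rw [range_comap_of_surjective _ _ Ideal.Quotient.mk_surjective, Ideal.mk_ker]
      exact SetLike.coe_subset_coe.2 ((HenselianRing.jac (R := A) (I := I)).trans
        (sInf_le ⟨bot_le, hmax⟩))
    obtain ⟨r, hr, rfl⟩ := hm'
    obtain ⟨c, hc⟩ := hmI
    obtain ⟨x0, hx0, -⟩ := Scheme.Pullback.exists_preimage_pullback (f := w.left) (g := q) (a.left (O.ι r)) c (by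
      exact hc.symm)
    obtain ⟨y0, hy0, -⟩ := Scheme.Pullback.exists_preimage_pullback (f := w.left) (g := q) (b.left (O.ι r)) c (by
      refine Eq.trans ?_ hc.symm
      show w.left (b.left (O.ι r)) = w.left (a.left (O.ι r))
      rw [← Scheme.Hom.comp_apply, ← habw]; rfl)
    have he := hab (O.ι r)
    have hx1 : ι0.left x0 = a.left (O.ι r) := hx0
    have hy1 : ι0.left y0 = b.left (O.ι r) := hy0
    rw [← hx1, ← hy1, hm0, hm0] at he
    have h1 := (hWYi x0).1 (by rw [hx1]; exact r.2)
    rw [hi0inj he] at h1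
    exact hr (by
      show b.left (O.ι r) ∈ W
      rw [← hy1]
      exact (hWYi y0).2 h1)
  have hsat : ∀ z₁ z₂ : W'.left, m z₁ = m z₂ → z₁ ∈ W → z₂ ∈ W := fun z₁ z₂ he h1 => by
    obtain ⟨u, hu1, hu2⟩ := exists_point_of_isPullback sq2 he
    obtain ⟨r, rfl⟩ := (Points.schemeEquiv R2).surjective u
    have e1 : a.left r = z₁ := (Points.schemeEquiv W').injective ((map_yon_map_ofScheme a r).symm.trans hu1)
    have e2 : b.left r = z₂ := (Points.schemeEquiv W').injective ((map_yon_map_ofScheme b r).symm.trans hu2)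
    exact e2 ▸ hzero r (e1 ▸ h1)
  have hmsurj : Function.Surjective m := fun x => by
    obtain ⟨u, hu⟩ := hhs x
    obtain ⟨z, rfl⟩ := (Points.schemeEquiv W').surjective u
    exact ⟨z, hu⟩
  have hmcl : IsClosedMap m :=
    (isClosedMap_of_univClosed X.property hhp.2.2).comp (Points.schemeHomeo W').isClosedMap
  refine ⟨m '' W, ⟨hmcl _ hWc, ?_⟩, ?_⟩
  · have e : (m '' W)ᶜ = m '' (W : Set W'.left)ᶜ := by
      ext x
      obtain ⟨z, rfl⟩ := hmsurj x
      exact ⟨fun hx => ⟨z, fun hz => hx ⟨z, hz, rfl⟩, rfl⟩,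
        fun ⟨z', hz', e'⟩ ⟨z'', hz'', e''⟩ => hz' (hsat z'' z' (e''.trans e'.symm) hz'')⟩
    have := hmcl _ W.isOpen.isClosed_compl
    rw [← e] at this
    exact isClosed_compl_iff.1 this
  · ext x
    obtain ⟨u, hu⟩ := hh0s x
    obtain ⟨y, rfl⟩ := (Points.schemeEquiv W0).surjective u
    subst hu
    show _ ∈ _ ↔ Points.map h0 (Points.ofScheme W0 y) ∈ _
    rw [← hWYi, Set.mem_preimage, show Points.map i0 (Points.map h0 ((Points.schemeEquiv W0) y)) = m (ι0.left y) from (hm0 y).symm]
    exact ⟨fun ⟨z, hz, e⟩ => hsat z _ e hz, fun hy => ⟨_, hy, rfl⟩⟩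

end Groth.Agent.AlgSpLib.ClopenLift
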