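import Groth.Agent.AlgSpLib.ProperStage
import Groth.Agent.AlgSpLib.ThickScheme
import Groth.Agent.AlgSpLib.PointsTop

/-!
Clopen subsets of a limit of spaces with affine transition maps come from a stage.
-/

universe u

open CategoryTheory CategoryTheory.Limits AlgebraicGeometry Opposite
open AlgSp

noncomputable section

set_option linter.style.haveILetI false

namespace Groth.Agent.AlgSpLib.ClopenStage

open Groth.Agent.AlgSpLib

set_option backward.isDefEq.respectTransparency.types false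
set_option backward.isDefEq.respectTransparency false
set_option maxHeartbeats 1600000

variable {S : Scheme.{u}}

theorem isCompact_preimage_image {G : Sp S} (hG : IsAlgSpace G) {U : Over S} (η : (yon S).obj U ⟶ G)
    (hq : IsQuasiCompactMor η) {A : U.left.Opens} (hA : IsCompact (A : Set U.left)) :
    IsCompact (Points.ofPt η ⁻¹' (Points.ofPt η '' A)) := by
  have hr := hG.representable_from_yon η
  let R : Over S := hr.pullback η
  have sq : IsPullback ((yon S).map (hr.fst' η)) ((yon S).map (hr.snd η)) η η := hr.isPullback' η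
  have hqc := (repWith_quasiCompact_iff (IsAlgSpace.yon_obj U) hG hr).2 hq
  haveI : QuasiCompact (hr.fst' η).left := hqc.2 η _ _ sq.flip
  have e : Points.ofPt η ⁻¹' (Points.ofPt η '' A) = (hr.snd η).left '' ((hr.fst' η).left ⁻¹' A) := by
    ext x
    constructor
    · rintro ⟨a, ha, e⟩
      rw [Points.ofPt_eq_map_ofScheme, Points.ofPt_eq_map_ofScheme] at e
      obtain ⟨z, hz1, hz2⟩ := exists_point_of_isPullback sq e
      obtain ⟨r, rfl⟩ := (Points.schemeEquiv R).surjective z
      have e1 : (hr.fst' η).left r = a :=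
        (Points.schemeEquiv U).injective ((map_yon_map_ofScheme _ r).symm.trans hz1)
      have e2 : (hr.snd η).left r = x :=
        (Points.schemeEquiv U).injective ((map_yon_map_ofScheme _ r).symm.trans hz2)
      exact ⟨r, show (hr.fst' η).left r ∈ A from e1.symm ▸ ha, e2⟩
    · rintro ⟨r, hr', rfl⟩
      refine ⟨_, hr', ?_⟩
      rw [Points.ofPt_eq_map_ofScheme, Points.ofPt_eq_map_ofScheme, ← map_yon_map_ofScheme, ← map_yon_map_ofScheme,
        ← Points.map_comp, ← Points.map_comp, sq.w]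
  rw [e]
  exact (QuasiCompact.isCompact_preimage (f := (hr.fst' η).left) _ A.isOpen hA).image (hr.snd η).left.continuous

variable {I : Type u} [SmallCategory I] [IsCofiltered I] (D : I ⥤ Sp S) (hD : ∀ i, IsAlgSpace (D.obj i))
  (hDa : ∀ (i j : I) (φ : i ⟶ j), IsAffineMor (D.map φ)) (c : Cone D) (hc : IsLimit c)

include hD hDa hc in
/-- Clopen subsets come from a stage. -/
theorem exists_stage_clopen (o : I) (hqc : IsQuasiCompactSp (D.obj o)) {B : Over S} [IsAffine B.left]
    (s : D.obj o ⟶ (yon S).obj B) (hs : IsSeparatedMor s) {C : Set (Points c.pt)} (hC : IsClopen C) :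
    ∃ (i : I) (O : Set (Points (D.obj i))), IsClopen O ∧ Points.map (c.π.app i) ⁻¹' O = C := by
  haveI := compactSpace_points_of_isQuasiCompactSp hqc
  obtain ⟨U, v, hU, hve, hvs⟩ := exists_affine_chart (hD o)
  haveI := hU
  obtain ⟨τ, hτ⟩ := (yon S).map_surjective (v ≫ s)
  have hvc : IsQuasiCompactMor v := by
    refine isQuasiCompactMor_cancel (IsAlgSpace.yon_obj U) (hD o) (IsAlgSpace.yon_obj B) (g := s) ?_
      (isQuasiSeparatedMor_of_isSeparatedMor hs)
    rw [← hτ]
    haveI : QuasiCompact τ.left := inferInstance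
    exact (repWith_quasiCompact_iff (IsAlgSpace.yon_obj U) (IsAlgSpace.yon_obj B)
      ((IsAlgSpace.yon_obj B).representable_from_yon _)).1 ((repWith_yon_map_iff @QuasiCompact τ).2 ‹_›)
  obtain ⟨E, η, pr, cE, hcE, θ, haff, hnat, hsq, hpr, hprnat, ⟨g₀, sqθ⟩, hπ⟩ := exists_stage_system_nat D hDa c hc v
  let E' : Over o ⥤ Scheme.{u} := E ⋙ Over.forget S
  let cE' : Cone E' := (Over.forget S).mapCone cE
  haveI : ∀ {a b : Over o} (f : a ⟶ b), IsAffineHom (E'.map f) := fun f => haff f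
  haveI hEaff : ∀ j, IsAffine (E.obj j).left := fun j => by
    haveI := hpr j
    exact isAffine_of_isAffineHom (pr j).left
  haveI : ∀ j, IsAffine (E'.obj j) := hEaff
  have hηe : ∀ j, RepWith @Etale (η j) := fun j => RepWith.baseChange (hsq j) hve
  have hηs : ∀ j, RepWith @Surjective (η j) := fun j => RepWith.baseChange (hsq j) hvs
  have hηc : ∀ j, IsQuasiCompactMor (η j) := fun j =>
    isQuasiCompactMor_of_isPullback (IsAlgSpace.yon_obj U) (hD o) (hD _) (hsq j) hvc
  have hθs : Function.Surjective (Points.map θ) := surjective_map_of_repWith (RepWith.baseChange sqθ hvs)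
  haveI : CompactSpace cE.pt.left := by
    let j₀ : Over o := Over.mk (𝟙 o)
    haveI : IsAffine cE'.pt := Scheme.isAffine_of_isLimit cE' hcE
    exact inferInstanceAs (CompactSpace cE'.pt)
  -- a clopen set comes from an open set of a stage
  have step : ∀ C : Set (Points c.pt), IsClopen C → ∃ (j : Over o) (O : Set (Points (D.obj j.left))),
      IsOpen O ∧ IsCompact (Points.ofPt (η j) ⁻¹' O) ∧ Points.map (c.π.app j.left) ⁻¹' O = C := by
    intro C hC
    let A : cE'.pt.Opens := ⟨(fun w => Points.map θ (Points.ofScheme cE.pt w)) ⁻¹' C,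
      (hC.2.preimage (Points.continuous_map θ)).preimage (Points.schemeHomeo cE.pt).continuous⟩
    have hA : IsCompact (A : Set cE'.pt) :=
      ((hC.1.preimage (Points.continuous_map θ)).preimage (Points.schemeHomeo cE.pt).continuous).isCompact
    obtain ⟨j, Aj, hAjc, hAj⟩ := exists_preimage_eq E' cE' hcE A hA
    refine ⟨j, Points.ofPt (η j) '' (Aj : Set (E'.obj j)), isOpenMap_ofPt (η j) (hηe j) _ Aj.isOpen,
      isCompact_preimage_image (hD _) (η j) (hηc j) hAjc, ?_⟩
    ext z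
    constructor
    · rintro ⟨a, ha, e⟩
      rw [Points.ofPt_eq_map_ofScheme] at e
      obtain ⟨q, hq1, hq2⟩ := exists_point_of_isPullback (hπ j) e
      obtain ⟨w, rfl⟩ := (Points.schemeEquiv cE.pt).surjective q
      have e1 : (cE.π.app j).left w = a :=
        (Points.schemeEquiv _).injective ((map_yon_map_ofScheme _ w).symm.trans hq1)
      have hw : w ∈ A := by
        rw [← hAj]
        show (cE.π.app j).left w ∈ Aj
        rw [e1]
        exact ha
      exact hq2 ▸ hw
    · intro hz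
      obtain ⟨q, hq⟩ := hθs z
      obtain ⟨w, rfl⟩ := (Points.schemeEquiv cE.pt).surjective q
      subst hq
      have hw : w ∈ cE'.π.app j ⁻¹ᵁ Aj := by rw [hAj]; exact hz
      refine ⟨_, hw, ?_⟩
      rw [Points.ofPt_eq_map_ofScheme]
      show Points.map (η j) (Points.ofScheme (E.obj j) ((cE.π.app j).left w)) = _
      rw [← map_yon_map_ofScheme, ← Points.map_comp, (hπ j).w, Points.map_comp]
      rfl
  obtain ⟨j₁, O₁, hO₁, hc₁, h₁⟩ := step C hC
  obtain ⟨j₂, O₂, hO₂, hc₂, h₂⟩ := step Cᶜ hC.compl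
  obtain ⟨k, a₁, a₂, -⟩ := IsCofilteredOrEmpty.cone_objs j₁ j₂
  -- at a common stage
  have hcomp : ∀ {a b : Over o} (f : a ⟶ b) (O : Set (Points (D.obj b.left))) (x : (E.obj a).left),
      Points.ofPt (η a) x ∈ Points.map (D.map f.left) ⁻¹' O ↔ Points.ofPt (η b) ((E.map f).left x) ∈ O := by
    intro a b f O x
    show Points.map (D.map f.left) (Points.ofPt (η a) x) ∈ O ↔ _
    rw [Points.ofPt_eq_map_ofScheme, Points.ofPt_eq_map_ofScheme, ← map_yon_map_ofScheme, ← Points.map_comp,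
      ← Points.map_comp, (hnat f).w]
  let pre : ∀ (j : Over o) (O : Set (Points (D.obj j.left))), IsOpen O → (E'.obj j).Opens := fun j O hO =>
    ⟨Points.ofPt (η j) ⁻¹' O, hO.preimage (Points.continuous_ofPt _)⟩
  let U₁ : (E'.obj k).Opens := E'.map a₁ ⁻¹ᵁ pre j₁ O₁ hO₁
  let U₂ : (E'.obj k).Opens := E'.map a₂ ⁻¹ᵁ pre j₂ O₂ hO₂
  have hU₁ : IsCompact (U₁ : Set (E'.obj k)) :=
    QuasiCompact.isCompact_preimage (f := E'.map a₁) _ (pre j₁ O₁ hO₁).isOpen hc₁
  have hU₂ : IsCompact (U₂ : Set (E'.obj k)) :=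
    QuasiCompact.isCompact_preimage (f := E'.map a₂) _ (pre j₂ O₂ hO₂).isOpen hc₂
  have hlim : ∀ {b : Over o} (a : k ⟶ b) (O : Set (Points (D.obj b.left))) (w : cE.pt.left),
      Points.ofPt (η b) ((E.map a).left ((cE.π.app k).left w)) ∈ O ↔
        Points.map θ (Points.ofScheme cE.pt w) ∈ Points.map (c.π.app b.left) ⁻¹' O := by
    intro b a O w
    have e : (E.map a).left ((cE.π.app k).left w) = (cE.π.app b).left w := by
      rw [← cE.w a]; rfl
    rw [e, Points.ofPt_eq_map_ofScheme, ← map_yon_map_ofScheme, ← Points.map_comp, (hπ b).w, Points.map_comp]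
    rfl
  haveI : IsAffine (E'.obj k) := hEaff k
  obtain ⟨l₁, f₁, hl₁⟩ := exists_map_preimage_eq_map_preimage E' cE' hcE (U := U₁ ⊔ U₂) (V := ⊤)
    (hU₁.union hU₂) isCompact_univ (by
      ext w
      simp only [Scheme.Hom.coe_preimage, TopologicalSpace.Opens.coe_top, Set.preimage_univ, Set.mem_univ, iff_true]
      rcases em (Points.map θ (Points.ofScheme cE.pt w) ∈ C) with h | h
      · exact Or.inl ((hlim a₁ O₁ w).2 (h₁.symm ▸ h))
      · exact Or.inr ((hlim a₂ O₂ w).2 (h₂.symm ▸ h)))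
  obtain ⟨l₂, f₂, hl₂⟩ := exists_map_preimage_eq_map_preimage E' cE' hcE (U := U₁ ⊓ U₂) (V := ⊥)
    (hU₁.inter_of_isOpen hU₂ U₁.isOpen U₂.isOpen) isCompact_empty (by
      ext w
      simp only [Scheme.Hom.coe_preimage, TopologicalSpace.Opens.coe_bot, Set.preimage_empty, Set.mem_empty_iff_false,
        iff_false]
      rintro ⟨hw1, hw2⟩
      have e1 := (hlim a₁ O₁ w).1 hw1
      have e2 := (hlim a₂ O₂ w).1 hw2
      rw [h₁] at e1
      rw [h₂] at e2
      exact e2 e1)
  obtain ⟨m, g₁, g₂, -⟩ := IsCofilteredOrEmpty.cone_objs l₁ l₂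
  obtain ⟨m', e, he⟩ := IsCofilteredOrEmpty.cone_maps (g₁ ≫ f₁) (g₂ ≫ f₂)
  let f : m' ⟶ k := e ≫ g₁ ≫ f₁
  let P₁ : Set (Points (D.obj m'.left)) := Points.map (D.map (f ≫ a₁).left) ⁻¹' O₁
  let P₂ : Set (Points (D.obj m'.left)) := Points.map (D.map (f ≫ a₂).left) ⁻¹' O₂
  have hmem : ∀ {b : Over o} (a : k ⟶ b) (O : Set (Points (D.obj b.left))) (x : (E.obj m').left),
      Points.ofPt (η m') x ∈ Points.map (D.map (f ≫ a).left) ⁻¹' O ↔
        Points.ofPt (η b) ((E.map a).left ((E.map f).left x)) ∈ O := by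
    intro b a O x
    rw [hcomp (f ≫ a) O x, E.map_comp]
    rfl
  have hU : ∀ x : (E.obj m').left, (E.map f).left x ∈ U₁ ⊔ U₂ ∧ (E.map f).left x ∉ U₁ ⊓ U₂ := by
    intro x
    constructor
    · have hx : (E'.map (e ≫ g₁)) x ∈ E'.map f₁ ⁻¹ᵁ (U₁ ⊔ U₂) := by rw [hl₁]; trivial
      have e' : (E'.map f) x = E'.map f₁ (E'.map (e ≫ g₁) x) := by
        show (E'.map (e ≫ g₁ ≫ f₁)) x = _
        rw [← Category.assoc, E'.map_comp]; rfl
      exact (show (E'.map f) x ∈ U₁ ⊔ U₂ from e' ▸ hx)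
    · intro hx
      have e' : (E'.map f) x = E'.map f₂ (E'.map (e ≫ g₂) x) := by
        show (E'.map (e ≫ g₁ ≫ f₁)) x = _
        rw [he, ← Category.assoc, E'.map_comp]; rfl
      have hx' : (E'.map (e ≫ g₂)) x ∈ E'.map f₂ ⁻¹ᵁ (U₁ ⊓ U₂) := (e' ▸ hx : E'.map f₂ _ ∈ U₁ ⊓ U₂)
      rw [hl₂] at hx'
      exact hx'
  refine ⟨m'.left, P₁, ⟨?_, hO₁.preimage (Points.continuous_map _)⟩, ?_⟩
  · have : P₁ = P₂ᶜ := by
      ext y
      obtain ⟨x, rfl⟩ := surjective_ofPt (η m') (hηs m') y
      have h := hU x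
      rw [Set.mem_compl_iff, hmem a₁, hmem a₂]
      rcases h.1 with h1 | h2
      · exact ⟨fun _ h2 => h.2 ⟨h1, h2⟩, fun _ => h1⟩
      · exact ⟨fun h1 h2' => h.2 ⟨h1, h2'⟩, fun hn => absurd h2 hn⟩
    rw [this]
    exact (hO₂.preimage (Points.continuous_map _)).isClosed_compl
  · rw [← Set.preimage_comp, show Points.map (D.map (f ≫ a₁).left) ∘ Points.map (c.π.app m'.left) =
      Points.map (c.π.app j₁.left) from funext fun z => by
        show Points.map _ (Points.map _ z) = _
        rw [← Points.map_comp, c.w]]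
    exact h₁

end Groth.Agent.AlgSpLib.ClopenStage
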