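import Groth.Agent.AlgSpLib.LqfScheme
import Groth.Agent.AlgSpLib.RelDimLocus
import Groth.Agent.AlgSpLib.MorProper
import Groth.Agent.AlgSpLib.MorTop
import Groth.Agent.AlgSpLib.FpqcBaseAffine2
import Mathlib.AlgebraicGeometry.ZariskisMainTheorem

/-!
Proper morphisms of algebraic spaces are finite near points over which they are quasi-finite.
-/

universe u

open CategoryTheory CategoryTheory.Limits AlgebraicGeometry Opposite
open AlgSp

noncomputable section

namespace Groth.Agent.AlgSpLib

set_option backward.isDefEq.respectTransparency.types false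

variable {S : Scheme.{u}} {X Y : Sp S}

/-- a proper locally quasi-finite morphism is finite -/
theorem repWith_isFinite_of_proper_lqf (hX : IsAlgSpace X) (hY : IsAlgSpace Y) {f : X ⟶ Y}
    (hf : IsProperMor f) (hq : LocP (@LocallyQuasiFinite ⊓ @LocallyOfFiniteType) f) :
    RepWith @IsFinite f := by
  have hr := representable_of_lqf_separated' hX hY f hf.1 hq
  have hu := (repWith_universallyClosed_iff hr).2 hf.2.2
  have hl := (repWith_iff_locP etLocal_lqf hX hY hr).2 hq
  refine ⟨hr, fun U V g fst snd sq => ?_⟩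
  have : UniversallyClosed snd.left := hu.2 g fst snd sq
  have : LocallyQuasiFinite snd.left := (hl.2 g fst snd sq).1
  have : LocallyOfFiniteType snd.left := (hl.2 g fst snd sq).2
  have : IsSeparated snd.left := (isSeparatedMor_yon_map_iff snd).1 (isSeparatedMor_of_isPullback sq hf.1)
  have : IsProper snd.left := {}
  exact IsFinite.of_isProper_of_locallyQuasiFinite snd.left

theorem isOpen_lqfPoints (f : X ⟶ Y) :
    IsOpen {x : Points X | HasAtMor (fun U _ h u => ∃ W : U.Opens, u ∈ W ∧ LocallyQuasiFinite (W.ι ≫ h) ∧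
      LocallyOfFiniteType (W.ι ≫ h)) f x} := by
  refine isOpen_iff_forall_mem_open.2 fun x hx => ?_
  obtain ⟨U, V, a, b, h, u, ha, hb, w, rfl, W, hu, hW⟩ := hx
  refine ⟨Points.ofPt a '' (W : Set ↥U.left), ?_, isOpenMap_ofPt a ha _ W.2, ⟨u, hu, rfl⟩⟩
  rintro _ ⟨u', hu', rfl⟩
  exact ⟨U, V, a, b, h, u', ha, hb, w, rfl, W, hu', hW⟩

/-- a proper morphism is finite over a neighbourhood of a point over which it is quasi-finite -/
theorem exists_finite_nhd_of_proper {X Y : AlgSp.Space S} (f : X ⟶ Y) (y : Points Y.obj)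
    (hf : IsProperMor f.hom)
    (hq : ∀ x : Points X.obj, Points.map f.hom x = y →
      HasAtMor (fun U _ h u => ∃ W : U.Opens, u ∈ W ∧ LocallyQuasiFinite (W.ι ≫ h) ∧
        LocallyOfFiniteType (W.ι ≫ h)) f.hom x) :
    ∃ (Y' : AlgSp.Space S) (j : Y' ⟶ Y), RepWith @IsOpenImmersion j.hom ∧
      y ∈ Set.range (Points.map j.hom) ∧
      ∀ (P : Sp S) (fst : P ⟶ X.obj) (snd : P ⟶ Y'.obj), IsPullback fst snd f.hom j.hom →
        IsFiniteMor snd := by
  let O := {x : Points X.obj | HasAtMor (fun U _ h u => ∃ W : U.Opens, u ∈ W ∧ LocallyQuasiFinite (W.ι ≫ h) ∧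
      LocallyOfFiniteType (W.ι ≫ h)) f.hom x}
  have hcl : IsClosedMap (Points.map f.hom) :=
    hf.2.2 Y.property (𝟙 _) (𝟙 _) f.hom (IsPullback.of_horiz_isIso ⟨by simp⟩)
  let C := Points.map f.hom '' Oᶜ
  have hC : IsOpen Cᶜ := (hcl _ (isOpen_lqfPoints f.hom).isClosed_compl).isOpen_compl
  let Y' : AlgSp.Space S := ⟨openSubspace Y.obj Cᶜ, isAlgSpace_openSubspace Y.property hC⟩
  refine ⟨Y', ObjectProperty.homMk (openSubspaceι Y.obj Cᶜ), repWith_openSubspaceι Y.obj hC, ?_, ?_⟩
  · show y ∈ Set.range (Points.map (openSubspaceι Y.obj Cᶜ))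
    rw [range_openSubspaceι]
    rintro ⟨x, hx, e⟩
    exact hx (hq x e)
  intro P fst snd sq
  have hP : IsAlgSpace P := isAlgSpace_of_isPullback Y.property.diag X.property Y'.property sq
  have hlft := hf.2.1.1
  refine (isFiniteMor_iff_repWith snd).2 (repWith_isFinite_of_proper_lqf hP Y'.property
    (isProperMor_of_isPullback X.property Y.property Y'.property sq hf) ?_)
  refine locP_lqf_of_relDim_zero hP Y'.property
    (locP_of_isPullback etLocal_lft X.property Y.property hP sq hlft) fun z => ?_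
  refine (relDim_baseChange X.property Y.property Y'.property hP sq hlft z (fun d => d = 0)).2 ?_
  have hz : Points.map fst z ∈ O := by
    by_contra h
    refine (range_openSubspaceι Y.obj Cᶜ).subset ⟨Points.map snd z, rfl⟩ ⟨_, h, ?_⟩
    rw [← Points.map_comp, sq.w, Points.map_comp]
    rfl
  exact (hasAtMor_lqf_iff X.property Y.property hlft _).1 hz

end Groth.Agent.AlgSpLib
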