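import Groth.Agent.AlgSpLib.CodimZeroFibre
import Groth.Agent.AlgSpLib.ProperQF
import Groth.Agent.AlgSpLib.DecentMore
import Groth.Agent.AlgSpLib.MorSep
import Groth.Agent.S9798

/-!
Quasi-finite points read on fibres over points of schemes.
-/

universe u

open CategoryTheory CategoryTheory.Limits AlgebraicGeometry Opposite
open AlgSp

noncomputable section

namespace Groth.Agent.AlgSpLib

set_option backward.isDefEq.respectTransparency.types false

variable {S : Scheme.{u}} {X Y P : Sp S}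

/-- isolated in the fibre gives quasi-finite after base change to any scheme -/
theorem lqf_of_baseChange (hX : IsAlgSpace X) (hY : IsAlgSpace Y) {f : X ⟶ Y}
    (hf : LocP @LocallyOfFiniteType f) {T : Over S} {r : (yon S).obj T ⟶ Y} {fst : P ⟶ X}
    {snd : P ⟶ (yon S).obj T} (sq : IsPullback fst snd f r) {W : Over S} (a : (yon S).obj W ⟶ P)
    (ha : RepWith @Etale a) (π : W ⟶ T) (hπ : (yon S).map π = a ≫ snd) (w : ↥W.left)
    (h : π.left.QuasiFiniteAt w) :
    HasAtMor (fun U _ h u => ∃ W : U.Opens, u ∈ W ∧ LocallyQuasiFinite (W.ι ≫ h) ∧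
      LocallyOfFiniteType (W.ι ≫ h)) f (Points.map fst (Points.ofPt a w)) := by
  have hP := isAlgSpace_of_isPullback hY.diag hX (IsAlgSpace.yon_obj T) sq
  have hsnd : LocP @LocallyOfFiniteType snd := locP_of_isPullback etLocal_lft hX hY hP sq hf
  have : LocallyOfFiniteType π.left := hsnd a (𝟙 _) π ha (repWith_id _ T) (by rw [Category.comp_id, hπ])
  refine (hasAtMor_lqf_iff hX hY hf _).2
    ((relDim_baseChange hX hY (IsAlgSpace.yon_obj T) hP sq hf (Points.ofPt a w) (fun d => d = 0)).1 ?_)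
  rw [hasAtMor_fibreDim_pred hP (IsAlgSpace.yon_obj T) snd a (𝟙 _) π ha (repWith_id _ T)
    (by rw [Category.comp_id, hπ]) w (fun d => d = 0)]
  exact (fibreDimAt_eq_zero_iff π.left w).2 h

theorem quasiFiniteAt_of_finite_fibre {U V : Scheme.{u}} (h : U ⟶ V) [LocallyOfFiniteType h] (u : ↥U)
    (hfin : (h ⁻¹' {h u}).Finite) : h.QuasiFiniteAt u := by
  have : Finite (h.fiber (h u)) := (h.fiberHomeo (h u)).finite_iff.mpr hfin.to_subtype
  exact Scheme.Hom.quasiFiniteAt_iff_isOpen_singleton_asFiber.mpr (isOpen_discrete _)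

/-- finitely many points over a point of a scheme, in a decent base change, are quasi-finite points -/
theorem lqf_of_finite_fibre (hX : IsAlgSpace X) (hY : IsAlgSpace Y) {f : X ⟶ Y}
    (hf : LocP @LocallyOfFiniteType f) {T : Over S} {r : (yon S).obj T ⟶ Y} {fst : P ⟶ X}
    {snd : P ⟶ (yon S).obj T} (sq : IsPullback fst snd f r) (hd : IsDecent P) (t : ↥T.left)
    (hfin : (Points.map snd ⁻¹' {Points.ofScheme T t}).Finite) {x : Points X}
    (hx : Points.map f x = Points.map r (Points.ofScheme T t)) :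
    HasAtMor (fun U _ h u => ∃ W : U.Opens, u ∈ W ∧ LocallyQuasiFinite (W.ι ≫ h) ∧
      LocallyOfFiniteType (W.ι ≫ h)) f x := by
  have hP := isAlgSpace_of_isPullback hY.diag hX (IsAlgSpace.yon_obj T) sq
  obtain ⟨z, rfl, hz⟩ := exists_point_of_isPullback sq hx
  obtain ⟨W₀, a₀, hae, has⟩ := hP.atlas
  obtain ⟨w₀, rfl⟩ := surjective_ofPt a₀ has z
  obtain ⟨O, hO, hwO, -⟩ := exists_isAffineOpen_mem_and_subset (x := w₀) (U := ⊤) trivial
  let W : Over S := Over.mk (O.ι ≫ W₀.hom)
  let k : W ⟶ W₀ := Over.homMk O.ι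
  let a := (yon S).map k ≫ a₀
  have : IsAffine W.left := hO
  have ha : RepWith @Etale a :=
    RepWith.comp ((repWith_yon_map_iff (P := @Etale) k).2 (inferInstanceAs (Etale O.ι))) hae
  let w : ↥W.left := (⟨w₀, hwO⟩ : O)
  have haw : Points.ofPt a w = Points.ofPt a₀ w₀ := ofPt_map k a₀ w
  obtain ⟨π, hπ⟩ := (yon S).map_surjective (a ≫ snd)
  have hsnd : LocP @LocallyOfFiniteType snd := locP_of_isPullback etLocal_lft hX hY hP sq hf
  have : LocallyOfFiniteType π.left := hsnd a (𝟙 _) π ha (repWith_id _ T) (by rw [Category.comp_id, hπ])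
  have hπw : ∀ v : ↥W.left, Points.map snd (Points.ofPt a v) = Points.ofScheme T (π.left v) := fun v => by
    rw [Points.map_ofPt, ← hπ, ← Category.comp_id ((yon S).map π), ofPt_map, Points.ofPt_eq_map_ofScheme,
      Points.map_id]
  have hwt : π.left w = t :=
    (Points.schemeEquiv T).injective ((hπw w).symm.trans ((congrArg (Points.map snd) haw).trans hz))
  rw [← haw]
  refine lqf_of_baseChange hX hY hf sq a ha π hπ w (quasiFiniteAt_of_finite_fibre π.left w ?_)
  refine (hfin.preimage' fun z _ => ?_ : (Points.ofPt a ⁻¹' _).Finite).subset fun v hv => ?_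
  · exact finite_preimage_ofPt (FiniteFibres.of_mk (hd z)).1 a ha
  · show Points.map snd (Points.ofPt a v) = Points.ofScheme T t
    rw [hπw, show π.left v = π.left w from hv, hwt]

/-- geometric or field valued points with finite fibre -/
theorem lqf_of_finite_field_fibre (hX : IsAlgSpace X) (hY : IsAlgSpace Y) {f : X ⟶ Y}
    (hf : LocP @LocallyOfFiniteType f) (hqs : IsQuasiSeparatedMor f) (r : FieldPt Y) {fst : P ⟶ X}
    {snd : P ⟶ (yon S).obj r.pt} (sq : IsPullback fst snd f r.toHom) (hfin : Finite (Points P)) {x : Points X}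
    (hx : Points.map f x = Points.mk r) :
    HasAtMor (fun U _ h u => ∃ W : U.Opens, u ∈ W ∧ LocallyQuasiFinite (W.ι ≫ h) ∧
      LocallyOfFiniteType (W.ι ≫ h)) f x := by
  have hP := isAlgSpace_of_isPullback hY.diag hX (IsAlgSpace.yon_obj _) sq
  have hd : IsDecent P := isDecentMor_of_isQuasiSeparatedMor hP (IsAlgSpace.yon_obj _)
    (isQuasiSeparatedMor_of_isPullback sq hqs) (𝟙 _) (𝟙 _) snd (IsPullback.of_horiz_isIso ⟨by simp⟩)
  refine lqf_of_finite_fibre hX hY hf sq hd (IsLocalRing.closedPoint r.K) (Set.toFinite _) ?_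
  rw [hx, ← Points.ofPt_eq_map_ofScheme, ofPt_eq_ptOfHom_of_field, ptOfHom_toHom]

/-- the open subspace of quasi-finite points -/
theorem exists_open_lqf {X Y : AlgSp.Space S} (f : X ⟶ Y) (hf : LocP @LocallyOfFiniteType f.hom)
    {x : Points X.obj} (hx : HasAtMor (fun U _ h u => ∃ W : U.Opens, u ∈ W ∧ LocallyQuasiFinite (W.ι ≫ h) ∧
      LocallyOfFiniteType (W.ι ≫ h)) f.hom x) :
    ∃ (X' : AlgSp.Space S) (j : X' ⟶ X), RepWith @IsOpenImmersion j.hom ∧
      x ∈ Set.range (Points.map j.hom) ∧ LocP (@LocallyQuasiFinite ⊓ @LocallyOfFiniteType) (j ≫ f).hom := by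
  let O := {x : Points X.obj | HasAtMor (fun U _ h u => ∃ W : U.Opens, u ∈ W ∧ LocallyQuasiFinite (W.ι ≫ h) ∧
      LocallyOfFiniteType (W.ι ≫ h)) f.hom x}
  have hO : IsOpen O := isOpen_lqfPoints f.hom
  let j := openSubspaceι X.obj O
  have hj : RepWith @IsOpenImmersion j := repWith_openSubspaceι X.obj hO
  refine ⟨⟨openSubspace X.obj O, isAlgSpace_openSubspace X.property hO⟩, ObjectProperty.homMk j, hj,
    (range_openSubspaceι X.obj O).symm.subset hx, fun U V a b h ha hb w => ?_⟩
  have haj : RepWith @Etale (a ≫ j) := RepWith.comp ha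
    (RepWith.mono (fun _ _ k (_ : IsOpenImmersion k) => (inferInstance : Etale k)) hj)
  have w' : (a ≫ j) ≫ f.hom = (yon S).map h ≫ b := (Category.assoc _ _ _).trans w
  have : LocallyOfFiniteType h.left := hf (a ≫ j) b h haj hb w'
  refine ⟨(Scheme.Hom.quasiFiniteLocus_eq_top_iff h.left).1 (top_le_iff.1 fun u _ => ?_), this⟩
  refine (hasAtMor_lqf_chart_iff X.property Y.property hf (a ≫ j) b h haj hb w' u).1 ?_
  exact (range_openSubspaceι X.obj O).subset ⟨Points.ofPt a u, Points.map_ofPt a j u⟩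

/-- local dimension zero in a fibre over a field -/
theorem lqf_of_localDim_zero (hX : IsAlgSpace X) (hY : IsAlgSpace Y) {f : X ⟶ Y}
    (hf : LocP @LocallyOfFiniteType f) {k : Type u} [Field k] {str : Spec (CommRingCat.of k) ⟶ S}
    {r : (yon S).obj (Over.mk str) ⟶ Y} {fst : P ⟶ X} {snd : P ⟶ (yon S).obj (Over.mk str)}
    (sq : IsPullback fst snd f r) {z : Points P}
    (hz : HasAt (fun U u => FlatMor.localDim ↥U u = 0) P z) :
    HasAtMor (fun U _ h u => ∃ W : U.Opens, u ∈ W ∧ LocallyQuasiFinite (W.ι ≫ h) ∧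
      LocallyOfFiniteType (W.ι ≫ h)) f (Points.map fst z) := by
  obtain ⟨W, a, w, ha, rfl, hw⟩ := hz
  obtain ⟨π, hπ⟩ := (yon S).map_surjective (a ≫ snd)
  have hP := isAlgSpace_of_isPullback hY.diag hX (IsAlgSpace.yon_obj _) sq
  have : LocallyOfFiniteType π.left := (locP_of_isPullback etLocal_lft hX hY hP sq hf) a (𝟙 _) π ha
    (repWith_id _ (Over.mk str)) (by rw [Category.comp_id, hπ])
  refine lqf_of_baseChange hX hY hf sq a ha π hπ w ?_
  have p : W.left ⟶ Spec (CommRingCat.of k) := π.left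
  have : IsLocallyNoetherian (Over.mk str).left := inferInstanceAs (IsLocallyNoetherian (Spec (CommRingCat.of k)))
  have := LocallyOfFiniteType.isLocallyNoetherian π.left
  have ho : IsOpen ({w} : Set ↥W.left) := (S9798.result W.left w).1 hw
  refine Scheme.Hom.quasiFiniteAt_iff_isOpen_singleton_asFiber.2 ?_
  convert ho.preimage (π.left.fiberι (π.left w)).continuous using 1
  ext v
  simp only [Set.mem_singleton_iff, Set.mem_preimage]
  exact ⟨fun e => by rw [e, Scheme.Hom.fiberι_asFiber], fun e =>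
    (π.left.fiberι _).isEmbedding.injective (by rw [e, Scheme.Hom.fiberι_asFiber])⟩

end Groth.Agent.AlgSpLib
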