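import Groth.Agent.AlgSpLib.DecentSingleton
import Groth.Agent.AlgSpLib.DecentPoints
import Groth.Agent.AlgSpLib.FibreQF

/-!
Points algebraic over closed points of the base are closed on decent spaces.
-/

universe u

open CategoryTheory CategoryTheory.Limits AlgebraicGeometry
open AlgSp

noncomputable section

namespace Groth.Agent.AlgSpLib

set_option backward.isDefEq.respectTransparency.types false

variable {S : Scheme.{u}} {X : Sp S}

/-- a field point integral over the base gives a closed point -/
theorem isClosed_point_of_integral (hX : IsAlgSpace X) (hd : IsDecent X) {k : Type u} [Field k]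
    {str : Spec (CommRingCat.of k) ⟶ S} [IsIntegralHom str]
    (p : (yon S).obj (Over.mk str) ⟶ X) (t : ↥(Over.mk str).left) :
    IsClosed ({Points.ofPt p t} : Set (Points X)) := by
  obtain ⟨U, a, hae, has⟩ := hX.atlas
  refine isClosed_of_closure_subset fun y hy => ?_
  obtain ⟨v, rfl⟩ := surjective_ofPt a has y
  obtain ⟨v', hv', he⟩ := exists_specializes_chart (FiniteFibres.of_mk (hd _)).1 a hae v
    (specializes_iff_mem_closure.2 hy)
  have sq := hae.1.isPullback' p
  obtain ⟨w, hw1, -⟩ := (ofPt_eq_ofPt_iff sq v' t).1 he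
  let W := (hae.1.pullback p).left
  let π : W ⟶ Spec (CommRingCat.of k) := (hae.1.snd p).left
  have : Etale π := hae.property_snd p
  have : LocallyQuasiFinite π := locallyQuasiFinite_of_etale π
  have : IsFinite (W.fromSpecResidueField w ≫ π) := by
    have : DiscreteTopology ↥W := by
      have hd' := π.isDiscrete_preimage_singleton (IsLocalRing.closedPoint k)
      refine isDiscrete_univ_iff.1 ?_
      convert hd' using 1
      exact (Set.eq_univ_of_forall fun z =>
        (inferInstance : Subsingleton ↥(Spec (CommRingCat.of k))).elim _ _).symm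
    have : IsClosedImmersion (W.fromSpecResidueField w) :=
      isClosed_singleton_iff_isClosedImmersion.1 (isClosed_discrete _)
    have : QuasiCompact (W.fromSpecResidueField w ≫ π) :=
      (quasiCompact_iff_compactSpace (f := W.fromSpecResidueField w ≫ π)).2 inferInstance
    exact IsFinite.of_locallyQuasiFinite _
  have : IsIntegralHom ((W.fromSpecResidueField w ≫ π) ≫ str) := inferInstance
  -- into an affine neighbourhood of the specialisation
  obtain ⟨O, hO, hvO, -⟩ := exists_isAffineOpen_mem_and_subset (x := v) (U := ⊤) trivial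
  have : IsAffine O.toScheme := hO
  let c : Spec (W.residueField w) ⟶ U.left := W.fromSpecResidueField w ≫ (hae.1.fst' p).left
  have hc : Set.range c = {v'} := by
    rw [Scheme.Hom.comp_base, TopCat.coe_comp, Set.range_comp, Scheme.range_fromSpecResidueField,
      Set.image_singleton, hw1]
  let l : Spec (W.residueField w) ⟶ O.toScheme := IsOpenImmersion.lift O.ι c (by
    rw [hc, Scheme.Opens.range_ι, Set.singleton_subset_iff]; exact hv'.mem_open O.2 hvO)
  have hl : l ≫ O.ι = c := IsOpenImmersion.lift_fac _ _ _
  have : IsSeparated (O.ι ≫ U.hom) := inferInstance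
  have hcw : (hae.1.fst' p).left ≫ U.hom = π ≫ str := by
    show _ = (hae.1.snd p).left ≫ (Over.mk str).hom
    rw [Over.w, Over.w]
  have : IsIntegralHom (l ≫ O.ι ≫ U.hom) := by
    rw [reassoc_of% hl, Category.assoc, hcw, ← Category.assoc]
    infer_instance
  have : IsIntegralHom l := IsIntegralHom.of_comp l (O.ι ≫ U.hom)
  have hcl : IsClosed (Set.range l) := l.isClosedMap.isClosed_range
  have hv'O : v' ∈ O := hv'.mem_open O.2 hvO
  have key : ∀ z, O.ι (l z) = c z := fun z => congr($hl z)
  have hr : Set.range l = {(⟨v', hv'O⟩ : O.toScheme)} := by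
    refine Set.eq_singleton_iff_unique_mem.2 ⟨?_, ?_⟩
    · obtain ⟨z, hz⟩ : v' ∈ Set.range c := hc ▸ rfl
      exact ⟨z, Subtype.ext ((key z).trans hz)⟩
    · rintro _ ⟨z, rfl⟩
      apply Subtype.ext
      have : c z ∈ Set.range c := ⟨z, rfl⟩
      rw [hc, Set.mem_singleton_iff] at this
      exact (key z).trans this
  have hs : (⟨v', hv'O⟩ : O.toScheme) ⤳ (⟨v, hvO⟩ : O.toScheme) := (subtype_specializes_iff _ _).2 hv'
  rw [hr] at hcl
  have h2 : (⟨v, hvO⟩ : O.toScheme) ∈ ({⟨v', hv'O⟩} : Set O.toScheme) :=
    hs.mem_closed hcl (Set.mem_singleton _)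
  have h3 : v = v' := congrArg Subtype.val (Set.mem_singleton_iff.1 h2)
  rw [Set.mem_singleton_iff, h3]
  exact he

/-- a field point finite over the base is finite -/
theorem isFinite_fieldPt (hX : IsAlgSpace X) (hd : IsDecent X) {k : Type u} [Field k]
    {str : Spec (CommRingCat.of k) ⟶ S} [IsFinite str]
    (p : (yon S).obj (Over.mk str) ⟶ X) :
    RepWith @IsFinite p ∧ (IsClosedImmersion str → RepWith @IsClosedImmersion p) := by
  let T : Over S := Over.mk str
  have hTs : Subsingleton ↥T.left := inferInstanceAs (Subsingleton ↥(Spec (CommRingCat.of k)))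
  have hTn : Nonempty ↥T.left := inferInstanceAs (Nonempty ↥(Spec (CommRingCat.of k)))
  have hTr : IsReduced T.left := inferInstanceAs (IsReduced (Spec (CommRingCat.of k)))
  obtain ⟨q, hq, hqc⟩ := exists_closedImmersion_point hX hd (ptOfHom p)
    (by
      rw [← Category.id_comp p, ← (yon S).map_id, ptOfHom_yon_map]
      exact isClosed_point_of_integral hX hd p _)
  have sq := hqc.1.isPullback' p
  have : IsClosedImmersion (hqc.1.snd p).left := hqc.property_snd p
  have : Surjective (hqc.1.snd p).left := by
    refine (surjective_map_yon_map_iff _).1 fun z => ?_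
    have : Subsingleton (Points ((yon S).obj T)) := (Points.schemeHomeo T).symm.toEquiv.subsingleton
    obtain ⟨w, -, hw⟩ := exists_point_of_isPullback sq (x := ptOfHom (𝟙 _)) (y := z) (by
      rw [map_ptOfHom, Category.id_comp, Subsingleton.elim z (ptOfHom (𝟙 _)), map_ptOfHom,
        Category.id_comp, ← hq, ptOfHom_toHom])
    exact ⟨w, hw⟩
  have := isIso_of_isClosedImmersion_of_surjective (hqc.1.snd p).left
  have : IsIso (hqc.1.snd p) := by
    have : IsIso ((Over.forget S).map (hqc.1.snd p)) := this
    exact isIso_of_reflects_iso _ (Over.forget S)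
  let j : T ⟶ q.pt := inv (hqc.1.snd p) ≫ hqc.1.fst' p
  have hj : (yon S).map j ≫ q.toHom = p := by
    rw [Functor.map_comp, Category.assoc, sq.w, ← Category.assoc, ← Functor.map_comp, IsIso.inv_hom_id,
      (yon S).map_id, Category.id_comp]
  have hsep : IsSeparated q.pt.hom := by
    have : IsAffine q.pt.left := inferInstanceAs (IsAffine (Spec (CommRingCat.of q.K)))
    infer_instance
  refine ⟨?_, fun h => ?_⟩
  · have : IsFinite (j.left ≫ q.pt.hom) := by rw [Over.w j]; exact ‹IsFinite str›
    have : IsFinite j.left := IsFinite.of_comp j.left q.pt.hom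
    rw [← hj]
    exact RepWith.comp ((repWith_yon_map_iff (P := @IsFinite) j).2 this)
      (RepWith.mono (fun _ _ g (_ : IsClosedImmersion g) => (inferInstance : IsFinite g)) hqc)
  · have : IsClosedImmersion (j.left ≫ q.pt.hom) := by rw [Over.w j]; exact h
    have : IsClosedImmersion j.left := IsClosedImmersion.of_comp j.left q.pt.hom
    rw [← hj]
    exact RepWith.comp ((repWith_yon_map_iff (P := @IsClosedImmersion) j).2 this) hqc

end Groth.Agent.AlgSpLib
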