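import Groth.Agent.AlgSpLib.StratCovUnion
import Groth.Agent.S10043

/-!
A space which is the union of two closed subspaces which are schemes is a scheme.
-/

universe u

open CategoryTheory CategoryTheory.Limits AlgebraicGeometry TopologicalSpace
open AlgSp

noncomputable section

namespace Groth.Agent.AlgSpLib.ClosedUnion

set_option backward.isDefEq.respectTransparency.types false
set_option backward.isDefEq.respectTransparency false
set_option linter.style.haveILetI false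

variable {S : Scheme.{u}}

/-- basic opens with equal traces on a common closed subscheme -/
theorem exists_traces {C T₁ T₂ : Scheme.{u}} (p₁ : C ⟶ T₁) (p₂ : C ⟶ T₂) [IsClosedImmersion p₁] [IsClosedImmersion p₂]
    (c : ↥C) : ∃ (D₁ : T₁.Opens) (D₂ : T₂.Opens), IsAffineOpen D₁ ∧ IsAffineOpen D₂ ∧ p₁ c ∈ D₁ ∧
      p₁ ⁻¹ᵁ D₁ = p₂ ⁻¹ᵁ D₂ := by
  obtain ⟨O₁, hO₁, ha, -⟩ := exists_isAffineOpen_mem_and_subset (x := p₁ c) (U := ⊤) trivial
  obtain ⟨O₂, hO₂, hb, -⟩ := exists_isAffineOpen_mem_and_subset (x := p₂ c) (U := ⊤) trivial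
  obtain ⟨N, hNo, hN⟩ := p₁.isClosedEmbedding.isInducing.isOpen_iff.1
    ((p₁ ⁻¹ᵁ O₁) ⊓ (p₂ ⁻¹ᵁ O₂)).2
  obtain ⟨g₁, hg₁, hag⟩ := hO₁.exists_basicOpen_le (V := ⟨N, hNo⟩) ⟨p₁ c, (show c ∈ p₁ ⁻¹' N by
    rw [hN]; exact ⟨ha, hb⟩)⟩ ha
  let D₁ := T₁.basicOpen g₁
  have hD₁ : IsAffineOpen D₁ := hO₁.basicOpen g₁
  let E := p₁ ⁻¹ᵁ D₁
  have hE : E ≤ p₂ ⁻¹ᵁ O₂ := fun z hz => by
    have : z ∈ p₁ ⁻¹' N := hg₁ hz
    rw [hN] at this
    exact this.2
  obtain ⟨N', hNo', hN'⟩ := p₂.isClosedEmbedding.isInducing.isOpen_iff.1 E.2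
  obtain ⟨g₂, hg₂, hbg⟩ := hO₂.exists_basicOpen_le (V := ⟨N', hNo'⟩) ⟨p₂ c, (show c ∈ p₂ ⁻¹' N' by
    rw [hN']; exact hag)⟩ hb
  let h : Γ(C, E) := C.presheaf.map (homOfLE hE).op (p₂.app O₂ g₂)
  obtain ⟨d, hd⟩ := p₁.app_surjective D₁ hD₁ h
  have e1 : p₁ ⁻¹ᵁ T₁.basicOpen d = C.basicOpen h := by rw [Scheme.preimage_basicOpen]; exact congrArg C.basicOpen hd
  have e2 : C.basicOpen h = p₂ ⁻¹ᵁ T₂.basicOpen g₂ := by
    rw [Scheme.preimage_basicOpen]
    refine (Scheme.basicOpen_res _ _ _).trans (inf_eq_right.2 fun z hz => ?_)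
    rw [← Scheme.preimage_basicOpen] at hz
    have : z ∈ p₂ ⁻¹' N' := hg₂ hz
    rw [hN'] at this
    exact this
  refine ⟨T₁.basicOpen d, T₂.basicOpen g₂, hD₁.basicOpen d, hO₂.basicOpen g₂, ?_, e1.trans e2⟩
  have hc : c ∈ p₁ ⁻¹ᵁ T₁.basicOpen d := by rw [e1, e2]; exact hbg
  exact hc

theorem isOpen_image_compl {X : Sp S} {T : Over S} {t : (yon S).obj T ⟶ X} (hX : IsAlgSpace X)
    (ht : RepWith @IsClosedImmersion t) (D : T.left.Opens) : IsClosed (Points.ofPt t '' (D : Set ↥T.left)ᶜ) := by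
  have hu : IsUnivClosedMor t := (repWith_universallyClosed_iff ht.1).1
    (RepWith.mono (fun _ _ q (_ : IsClosedImmersion q) => (inferInstance : UniversallyClosed q)) ht)
  have : Points.ofPt t '' (D : Set ↥T.left)ᶜ = Points.map t '' (Points.ofScheme T '' (D : Set ↥T.left)ᶜ) := by
    rw [Set.image_image]
    exact Set.image_congr' fun z => Points.ofPt_eq_map_ofScheme t z
  rw [this]
  exact isClosedMap_of_univClosed hX hu _ ((Points.schemeHomeo T).isClosedMap _ D.2.isClosed_compl)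

theorem injective_ofPt {X : Sp S} {T : Over S} {t : (yon S).obj T ⟶ X} [Mono t] :
    Function.Injective (Points.ofPt t) := fun p q h => by
  rw [Points.ofPt_eq_map_ofScheme, Points.ofPt_eq_map_ofScheme] at h
  exact (Points.schemeEquiv T).injective (injective_map_of_mono t h)

/-- opens of the two pieces with equal traces give an affine open subspace -/
theorem exists_affine_open (X : AlgSp.Space S) {T₁ T₂ : Over S} (t₁ : (yon S).obj T₁ ⟶ X.obj)
    (t₂ : (yon S).obj T₂ ⟶ X.obj) (h₁ : RepWith @IsClosedImmersion t₁) (h₂ : RepWith @IsClosedImmersion t₂)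
    (hcov : ∀ x : Points X.obj, x ∈ Set.range (Points.ofPt t₁) ∨ x ∈ Set.range (Points.ofPt t₂))
    (D₁ : T₁.left.Opens) (D₂ : T₂.left.Opens) (hD₁ : IsAffineOpen D₁) (hD₂ : IsAffineOpen D₂)
    (htr : ∀ a b, Points.ofPt t₁ a = Points.ofPt t₂ b → (a ∈ D₁ ↔ b ∈ D₂)) :
    ∃ (V : Over S) (j : (yon S).obj V ⟶ X.obj), RepWith @IsOpenImmersion j ∧
      ∀ a ∈ D₁, Points.ofPt t₁ a ∈ Set.range (Points.map j) := by
  classical
  haveI := mono_closedImmersion h₁
  haveI := mono_closedImmersion h₂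
  let O : Set (Points X.obj) :=
    ((Points.ofPt t₁ '' (D₁ : Set ↥T₁.left)ᶜ) ∪ (Points.ofPt t₂ '' (D₂ : Set ↥T₂.left)ᶜ))ᶜ
  have hO : IsOpen O := ((isOpen_image_compl X.property h₁ D₁).union
    (isOpen_image_compl X.property h₂ D₂)).isOpen_compl
  have hm₁ : ∀ a, Points.ofPt t₁ a ∈ O ↔ a ∈ D₁ := fun a => by
    refine ⟨fun h => by_contra fun ha => h (Or.inl ⟨a, ha, rfl⟩), fun ha h => ?_⟩
    rcases h with ⟨a', ha', e⟩ | ⟨b, hb, e⟩
    · exact ha' (injective_ofPt e ▸ ha)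
    · exact hb ((htr a b e.symm).1 ha)
  have hm₂ : ∀ b, Points.ofPt t₂ b ∈ O ↔ b ∈ D₂ := fun b => by
    refine ⟨fun h => by_contra fun hb => h (Or.inr ⟨b, hb, rfl⟩), fun hb h => ?_⟩
    rcases h with ⟨a, ha, e⟩ | ⟨b', hb', e⟩
    · exact ha ((htr a b e).2 hb)
    · exact hb' (injective_ofPt e ▸ hb)
  let VS : AlgSp.Space S := ⟨openSubspace X.obj O, isAlgSpace_openSubspace X.property hO⟩
  let jV := openSubspaceι X.obj O
  have hjV : RepWith @IsOpenImmersion jV := repWith_openSubspaceι X.obj hO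
  haveI := Induct.mono_openImm hjV
  let W₁ : Over S := Over.mk (D₁.ι ≫ T₁.hom)
  let W₂ : Over S := Over.mk (D₂.ι ≫ T₂.hom)
  have piece : ∀ {T : Over S} (t : (yon S).obj T ⟶ X.obj), RepWith @IsClosedImmersion t → ∀ (D : T.left.Opens),
      (∀ a, Points.ofPt t a ∈ O ↔ a ∈ D) → ∃ k : (yon S).obj (Over.mk (D.ι ≫ T.hom)) ⟶ VS.obj,
        k ≫ jV = (yon S).map (Over.homMk D.ι rfl : Over.mk (D.ι ≫ T.hom) ⟶ T) ≫ t ∧ RepWith @IsFinite k := by
    intro T t ht D hm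
    haveI := mono_closedImmersion ht
    let ι : Over.mk (D.ι ≫ T.hom) ⟶ T := Over.homMk D.ι rfl
    obtain ⟨k, hk⟩ := OpenFac.exists_fac_openImm hjV ((yon S).map ι ≫ t) fun z => by
      obtain ⟨z, rfl⟩ := (Points.schemeEquiv _).surjective z
      refine (range_openSubspaceι X.obj O).symm.subset ?_
      show Points.map _ (Points.ofScheme _ z) ∈ O
      rw [← Points.ofPt_eq_map_ofScheme, ofPt_map]
      exact (hm _).2 z.2
    refine ⟨k, hk, ?_⟩
    have sq : IsPullback ((yon S).map ι) k t jV := by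
      refine isPullback_of_yon hk.symm fun Q x y h => ?_
      obtain ⟨x', rfl⟩ := (yon S).map_surjective x
      have hr : Set.range x'.left ⊆ Set.range ι.left := by
        rintro _ ⟨q, rfl⟩
        refine ⟨⟨x'.left q, (hm _).1 ?_⟩, rfl⟩
        rw [← ofPt_map x' t q, h, ← Points.map_ofPt]
        exact (range_openSubspaceι X.obj O).subset ⟨_, rfl⟩
      haveI : IsOpenImmersion ι.left := inferInstanceAs (IsOpenImmersion D.ι)
      let l : Q ⟶ Over.mk (D.ι ≫ T.hom) := Over.homMk (IsOpenImmersion.lift ι.left x'.left hr) (by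
        rw [← Over.w ι, ← Category.assoc, IsOpenImmersion.lift_fac]; exact Over.w x')
      have hl : l ≫ ι = x' := Over.OverMorphism.ext (IsOpenImmersion.lift_fac _ _ _)
      haveI : Mono ι := (Over.forget S).mono_of_mono_map (inferInstanceAs (Mono D.ι))
      refine ⟨(yon S).map l, ⟨by rw [← Functor.map_comp, hl], ?_⟩, fun w hw => ?_⟩
      · rw [← cancel_mono jV, Category.assoc, hk, ← Category.assoc, ← Functor.map_comp, hl]; exact h
      · obtain ⟨w', rfl⟩ := (yon S).map_surjective w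
        have : w' ≫ ι = l ≫ ι := (yon S).map_injective (by rw [Functor.map_comp, hw.1, hl])
        rw [(cancel_mono ι).1 this]
    exact RepWith.mono (fun _ _ q (_ : IsClosedImmersion q) => (inferInstance : IsFinite q))
      (RepWith.baseChange sq ht)
  obtain ⟨k₁, hk₁, hf₁⟩ := piece t₁ h₁ D₁ hm₁
  obtain ⟨k₂, hk₂, hf₂⟩ := piece t₂ h₂ D₂ hm₂
  let W := StratCov.pairW W₁ W₂
  let c : Cofan (fun b => (yon S).obj (W b)) :=
    Cofan.mk ((yon S).obj (sigmaOver W)) fun b => (yon S).map (sigmaOverι W b)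
  have hc : IsColimit c := Cofan.IsColimit.mk _
    (fun s => (existsUnique_desc_sigma W fun b => s.inj b).exists.choose)
    (fun s b => (existsUnique_desc_sigma W fun b => s.inj b).exists.choose_spec b)
    (fun s m hm => (existsUnique_desc_sigma W fun b => s.inj b).unique hm
      (existsUnique_desc_sigma W fun b => s.inj b).exists.choose_spec)
  let gb : ∀ b, (yon S).obj (W b) ⟶ VS.obj := fun b => match b with
    | ⟨0⟩ => k₁
    | ⟨1⟩ => k₂
  obtain ⟨g, hg, -⟩ := existsUnique_desc_sigma W gb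
  have hfin : RepWith @IsFinite g := repWith_isFinite_of_cofan hc g fun b => by
    show RepWith @IsFinite ((yon S).map (sigmaOverι W b) ≫ g)
    rw [hg b]
    match b with
    | ⟨0⟩ => exact hf₁
    | ⟨1⟩ => exact hf₂
  haveI : ∀ b, IsAffine (W b).left := fun b => match b with
    | ⟨0⟩ => hD₁
    | ⟨1⟩ => hD₂
  haveI : IsAffine (sigmaOver W).left := inferInstanceAs (IsAffine (∐ fun b => (W b).left))
  let YS : AlgSp.Space S := ⟨(yon S).obj (sigmaOver W), IsAlgSpace.yon_obj _⟩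
  obtain ⟨V, hV, ⟨e⟩⟩ := Groth.Agent.S10043.result S (X := YS) (Y := VS) (ObjectProperty.homMk g)
    ((isFiniteMor_iff_repWith _).2 hfin) (fun v => by
      have hv : Points.map jV v ∈ O := (range_openSubspaceι X.obj O).subset ⟨v, rfl⟩
      have lift : ∀ {T : Over S} (t : (yon S).obj T ⟶ X.obj) (D : T.left.Opens),
          (∀ a, Points.ofPt t a ∈ O ↔ a ∈ D) → ∀ (k : (yon S).obj (Over.mk (D.ι ≫ T.hom)) ⟶ VS.obj),
          k ≫ jV = (yon S).map (Over.homMk D.ι rfl : Over.mk (D.ι ≫ T.hom) ⟶ T) ≫ t →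
          ∀ a, Points.ofPt t a = Points.map jV v → ∃ z, Points.map k z = v := by
        intro T t D hm k hk a ha
        refine ⟨Points.ofScheme (Over.mk (D.ι ≫ T.hom)) ⟨a, (hm a).1 (ha ▸ hv)⟩, injective_map_of_mono jV ?_⟩
        rw [← Points.map_comp, hk, ← Points.ofPt_eq_map_ofScheme, ofPt_map]
        exact ha
      rcases hcov (Points.map jV v) with ⟨a, ha⟩ | ⟨b, hb⟩
      · obtain ⟨z, hz⟩ := lift t₁ D₁ hm₁ k₁ hk₁ a ha
        refine ⟨Points.map ((yon S).map (sigmaOverι W ⟨0⟩)) z, ?_⟩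
        show Points.map g _ = v
        rw [← Points.map_comp, hg]; exact hz
      · obtain ⟨z, hz⟩ := lift t₂ D₂ hm₂ k₂ hk₂ b hb
        refine ⟨Points.map ((yon S).map (sigmaOverι W ⟨1⟩)) z, ?_⟩
        show Points.map g _ = v
        rw [← Points.map_comp, hg]; exact hz)
    ⟨sigmaOver W, inferInstance, ⟨Iso.refl _⟩⟩
  refine ⟨V, e.hom ≫ jV, RepWith.comp (repWith_of_isIso _ _) hjV, fun a ha => ?_⟩
  obtain ⟨v, hv⟩ := (range_openSubspaceι X.obj O).symm.subset ((hm₁ a).2 ha)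
  exact ⟨Points.map e.inv v, by rw [← Points.map_comp, e.inv_hom_id_assoc]; exact hv⟩

/-- a space covered by two closed subspaces which are schemes is a scheme -/
theorem isRepresentable_of_union (X : AlgSp.Space S) {T₁ T₂ : Over S} (t₁ : (yon S).obj T₁ ⟶ X.obj)
    (t₂ : (yon S).obj T₂ ⟶ X.obj) (h₁ : RepWith @IsClosedImmersion t₁) (h₂ : RepWith @IsClosedImmersion t₂)
    (hcov : ∀ x : Points X.obj, x ∈ Set.range (Points.ofPt t₁) ∨ x ∈ Set.range (Points.ofPt t₂)) :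
    X.obj.obj.IsRepresentable := by
  classical
  have main : ∀ {T₁ T₂ : Over S} (t₁ : (yon S).obj T₁ ⟶ X.obj) (t₂ : (yon S).obj T₂ ⟶ X.obj),
      RepWith @IsClosedImmersion t₁ → RepWith @IsClosedImmersion t₂ →
      (∀ x : Points X.obj, x ∈ Set.range (Points.ofPt t₁) ∨ x ∈ Set.range (Points.ofPt t₂)) →
      ∀ a : ↥T₁.left, ∃ (V : Over S) (j : (yon S).obj V ⟶ X.obj), RepWith @IsOpenImmersion j ∧
        Points.ofPt t₁ a ∈ Set.range (Points.map j) := by
    intro T₁ T₂ t₁ t₂ h₁ h₂ hcov a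
    haveI := mono_closedImmersion h₁
    haveI := mono_closedImmersion h₂
    obtain ⟨C, p₁, fst, sq, hp₁⟩ := exists_yon_of_repWith h₂ t₁
    obtain ⟨p₂, rfl⟩ := (yon S).map_surjective fst
    haveI : IsClosedImmersion p₁.left := hp₁
    haveI : IsClosedImmersion p₂.left := h₁.property _ _ _ sq.flip
    have pts : ∀ a b, Points.ofPt t₁ a = Points.ofPt t₂ b → ∃ c, p₁.left c = a ∧ p₂.left c = b :=
      fun a b e => by
        obtain ⟨r, hr1, hr2⟩ := (ofPt_eq_ofPt_iff sq.flip a b).1 e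
        exact ⟨r, hr1, hr2⟩
    by_cases h : a ∈ Set.range p₁.left
    · obtain ⟨c, rfl⟩ := h
      obtain ⟨D₁, D₂, hD₁, hD₂, hc, e⟩ := exists_traces p₁.left p₂.left c
      obtain ⟨V, j, hj, hV⟩ := exists_affine_open X t₁ t₂ h₁ h₂ hcov D₁ D₂ hD₁ hD₂ fun a' b' hab => by
        obtain ⟨r, rfl, rfl⟩ := pts a' b' hab
        exact SetLike.ext_iff.1 e r
      exact ⟨V, j, hj, hV _ hc⟩
    · obtain ⟨D₁, hD₁, haD, hDsub⟩ := exists_isAffineOpen_mem_and_subset (x := a)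
        (U := ⟨(Set.range p₁.left)ᶜ, p₁.left.isClosedEmbedding.isClosed_range.isOpen_compl⟩) h
      obtain ⟨V, j, hj, hV⟩ := exists_affine_open X t₁ t₂ h₁ h₂ hcov D₁ ⊥ hD₁ (isAffineOpen_bot _) fun a' b' hab => by
        obtain ⟨r, rfl, rfl⟩ := pts a' b' hab
        exact ⟨fun h' => absurd ⟨r, rfl⟩ (hDsub h'), fun h' => h'.elim⟩
      exact ⟨V, j, hj, hV _ haD⟩
  choose V₁ j₁ hj₁ hV₁ using main t₁ t₂ h₁ h₂ hcov
  choose V₂ j₂ hj₂ hV₂ using main t₂ t₁ h₂ h₁ fun x => (hcov x).symm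
  let I : Type u := ↥T₁.left ⊕ ↥T₂.left
  obtain ⟨Y, ⟨e⟩⟩ := exists_iso_yon_of_openCover
    (f := fun i : I => (match i with | .inl a => j₁ a | .inr b => j₂ b :
      (yon S).obj (Sum.elim V₁ V₂ i) ⟶ X.obj))
    (fun i => match i with | .inl a => hj₁ a | .inr b => hj₂ b) fun x => by
      rcases hcov x with ⟨a, rfl⟩ | ⟨b, rfl⟩
      · exact ⟨Sum.inl a, hV₁ a⟩
      · exact ⟨Sum.inr b, hV₂ b⟩
  exact isRepresentable_of_iso_yon e

end Groth.Agent.AlgSpLib.ClosedUnion
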