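import Groth.Agent.AlgSpLib.FiniteOverOpen
import Groth.Agent.AlgSpLib.MorMore3
import Groth.Agent.AlgSpLib.DiscreteFibres
import Groth.Agent.AlgSpLib.RelDimLocus

/-!
Codimension zero points: chart independence, and fibres of a morphism locally of finite type over
codimension zero points.
-/

universe u

open CategoryTheory CategoryTheory.Limits AlgebraicGeometry Opposite
open AlgSp

noncomputable section

namespace Groth.Agent.AlgSpLib

set_option backward.isDefEq.respectTransparency.types false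

theorem stalk_dimZero_iff {U : Scheme.{u}} (v : ↥U) :
    ringKrullDim ↥(U.presheaf.stalk v) = 0 ↔ ∀ z, z ⤳ v → z = v := by
  refine ⟨eq_of_specializes_stalk v, fun h => ?_⟩
  rw [ringKrullDim_stalk_eq_coheight, ← WithBot.coe_zero, WithBot.coe_inj, Order.coheight_eq_zero]
  intro z hz
  exact (h z hz) ▸ le_rfl

theorem exists_dimZero_generization {U : Scheme.{u}} (x : ↥U) :
    ∃ z, z ⤳ x ∧ ringKrullDim ↥(U.presheaf.stalk z) = 0 := by
  obtain ⟨z, hz⟩ := QuasiSober.sober isIrreducible_irreducibleComponent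
    (isClosed_irreducibleComponent (x := x))
  refine ⟨z, hz.specializes mem_irreducibleComponent, (stalk_dimZero_iff z).2 fun z' hz' => ?_⟩
  have h1 : irreducibleComponent x ⊆ closure {z'} :=
    hz.def ▸ closure_minimal (Set.singleton_subset_iff.2 hz'.mem_closure) isClosed_closure
  have h2 : closure {z'} ⊆ irreducibleComponent x :=
    ((irreducibleComponent_mem_irreducibleComponents x).2 isIrreducible_singleton.closure h1)
  exact (hz'.antisymm (hz.specializes (h2 (subset_closure rfl)))).eq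

variable {S : Scheme.{u}} {F : Sp S}

/-- codimension zero does not depend on the chart -/
theorem hasAt_dimZero_iff (hF : IsAlgSpace F) {U : Over S} (a : (yon S).obj U ⟶ F)
    (ha : RepWith @Etale a) (u : ↥U.left) :
    HasAt (fun U u => ringKrullDim ↥(U.presheaf.stalk u) = 0) F (Points.ofPt a u) ↔
      ringKrullDim ↥(U.left.presheaf.stalk u) = 0 := by
  refine ⟨?_, fun h => ⟨U, a, u, ha, rfl, h⟩⟩
  rintro ⟨U', a', u', ha', e, h⟩
  obtain ⟨R, p, q, r, hp, hq, hr, hr'⟩ := exists_common_chart hF ha' ha e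
  subst hr hr'
  exact dim_zero_down q.left r (dim_zero_up p.left r h)

section Sch

variable {U V : Scheme.{u}} (h : U ⟶ V) [LocallyOfFiniteType h]

theorem dimZero_of_quasiFiniteAt (u : ↥U) (hv : ringKrullDim ↥(V.presheaf.stalk (h u)) = 0)
    (hq : h.QuasiFiniteAt u) : ringKrullDim ↥(U.presheaf.stalk u) = 0 := by
  refine (stalk_dimZero_iff u).2 fun z hz => ?_
  have hzη : h z = h u := eq_of_specializes_stalk _ hv _ (hz.map h.continuous)
  have hop : IsOpen ({h.asFiber u} : Set ↥(h.fiber (h u))) :=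
    Scheme.Hom.quasiFiniteAt_iff_isOpen_singleton_asFiber.1 hq
  let z' : ↥(h.fiber (h u)) := (h.fiberHomeo (h u)).symm ⟨z, hzη⟩
  have hs : z' ⤳ h.asFiber u := by
    rw [← (h.fiberι (h u)).isEmbedding.toIsInducing.specializes_iff]
    simpa [z', Scheme.Hom.asFiber] using hz
  have := hs.mem_open hop rfl
  simpa [z', Scheme.Hom.asFiber] using congrArg (h.fiberι (h u)) this

theorem quasiFiniteAt_of_dimZero_fibre (u : ↥U)
    (hd : ∀ z, h z = h u → ringKrullDim ↥(U.presheaf.stalk z) = 0) : h.QuasiFiniteAt u := by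
  have : LocallyOfFiniteType (h.fiberToSpecResidueField (h u)) :=
    inferInstanceAs (LocallyOfFiniteType (pullback.snd h (V.fromSpecResidueField (h u))))
  have : DiscreteTopology ↥(h.fiber (h u)) :=
    @discreteTopology_of_isClosed_points (V.residueField (h u)) _ (h.fiber (h u))
      (h.fiberToSpecResidueField (h u)) (by assumption) fun p => by
      refine closure_subset_iff_isClosed.1 fun p' hp' => ?_
      have hs : p ⤳ p' := specializes_iff_mem_closure.2 hp'
      have := eq_of_specializes_stalk _ (hd (h.fiberι (h u) p') (h.fiberHomeo (h u) p').2) _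
        (hs.map (h.fiberι (h u)).continuous)
      exact ((h.fiberι (h u)).isEmbedding.injective this).symm
  exact Scheme.Hom.quasiFiniteAt_iff_isOpen_singleton_asFiber.2 (isOpen_discrete _)

theorem dimZero_of_quasiFiniteAt_dimZero (u : ↥U) (hv : ringKrullDim ↥(V.presheaf.stalk (h u)) = 0)
    (hq : ∀ z, h z = h u → ringKrullDim ↥(U.presheaf.stalk z) = 0 → h.QuasiFiniteAt z) :
    ringKrullDim ↥(U.presheaf.stalk u) = 0 := by
  obtain ⟨z, hz, hzd⟩ := exists_dimZero_generization u
  have hzη : h z = h u := eq_of_specializes_stalk _ hv _ (hz.map h.continuous)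
  suffices e : u = z from e ▸ hzd
  have key : ∀ (η : ↥V), h z = η → ∀ w : ↥U, h w = η → z ⤳ w → w = z := by
    rintro _ rfl w hw hzw
    have : LocallyOfFiniteType (h.fiberToSpecResidueField (h z)) :=
      inferInstanceAs (LocallyOfFiniteType (pullback.snd h (V.fromSpecResidueField (h z))))
    have : JacobsonSpace ↥(h.fiber (h z)) :=
      LocallyOfFiniteType.jacobsonSpace (h.fiberToSpecResidueField (h z))
    have hc : IsClosed ({h.asFiber z} : Set ↥(h.fiber (h z))) :=
      isClosed_singleton_of_isLocallyClosed_singleton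
        (Scheme.Hom.quasiFiniteAt_iff_isOpen_singleton_asFiber.1 (hq z hzη hzd)).isLocallyClosed
    let w' : ↥(h.fiber (h z)) := (h.fiberHomeo (h z)).symm ⟨w, hw⟩
    have hs : h.asFiber z ⤳ w' := by
      rw [← (h.fiberι (h z)).isEmbedding.toIsInducing.specializes_iff]
      simpa [w', Scheme.Hom.asFiber] using hzw
    have := hs.mem_closed hc rfl
    simpa [w', Scheme.Hom.asFiber] using congrArg (h.fiberι (h z)) this
  exact key _ hzη u rfl hz

end Sch

variable {X Y : Sp S}

theorem hasAtMor_lqf_chart_iff (hX : IsAlgSpace X) (hY : IsAlgSpace Y) {f : X ⟶ Y}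
    (hf : LocP @LocallyOfFiniteType f) {U V : Over S} (a : (yon S).obj U ⟶ X) (b : (yon S).obj V ⟶ Y)
    (h : U ⟶ V) (ha : RepWith @Etale a) (hb : RepWith @Etale b) (w : a ≫ f = (yon S).map h ≫ b)
    (u : ↥U.left) :
    HasAtMor (fun U _ h u => ∃ W : U.Opens, u ∈ W ∧ LocallyQuasiFinite (W.ι ≫ h) ∧
        LocallyOfFiniteType (W.ι ≫ h)) f (Points.ofPt a u) ↔ h.left.QuasiFiniteAt u := by
  have : LocallyOfFiniteType h.left := hf a b h ha hb w
  rw [hasAtMor_lqf_iff hX hY hf, hasAtMor_fibreDim_pred hX hY f a b h ha hb w u (fun d => d = 0),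
    fibreDimAt_eq_zero_iff]

theorem fibre_codimZero_iff_lqf (hX : IsAlgSpace X) (hY : IsAlgSpace Y) {f : X ⟶ Y}
    (hf : LocP @LocallyOfFiniteType f) (y : Points Y)
    (hy : HasAt (fun U u => ringKrullDim ↥(U.presheaf.stalk u) = 0) Y y) :
    ((∀ x : Points X, Points.map f x = y → HasAt (fun U u => ringKrullDim ↥(U.presheaf.stalk u) = 0) X x) ↔
      (∀ x : Points X, Points.map f x = y → HasAtMor (fun U _ h u => ∃ W : U.Opens, u ∈ W ∧
        LocallyQuasiFinite (W.ι ≫ h) ∧ LocallyOfFiniteType (W.ι ≫ h)) f x)) ∧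
    ((∀ x : Points X, Points.map f x = y → HasAt (fun U u => ringKrullDim ↥(U.presheaf.stalk u) = 0) X x →
        HasAtMor (fun U _ h u => ∃ W : U.Opens, u ∈ W ∧
          LocallyQuasiFinite (W.ι ≫ h) ∧ LocallyOfFiniteType (W.ι ≫ h)) f x) →
      ∀ x : Points X, Points.map f x = y → HasAt (fun U u => ringKrullDim ↥(U.presheaf.stalk u) = 0) X x) := by
  obtain ⟨V, b, hbe, hbs⟩ := hY.atlas
  obtain ⟨U, a, h, hae, has, w⟩ := exists_chart_over hX hY f b hbe hbs
  have : LocallyOfFiniteType h.left := hf a b h hae hbe w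
  have hover : ∀ z : ↥U.left, Points.map f (Points.ofPt a z) = Points.ofPt b (h.left z) := fun z => by
    rw [Points.map_ofPt, w, ofPt_map]
  have hmax : ∀ z : ↥U.left, Points.map f (Points.ofPt a z) = y →
      ringKrullDim ↥(V.left.presheaf.stalk (h.left z)) = 0 := fun z hz =>
    (hasAt_dimZero_iff hY b hbe _).1 (by rw [← hover, hz]; exact hy)
  have hfib : ∀ z z' : ↥U.left, Points.map f (Points.ofPt a z) = y → h.left z' = h.left z →
      Points.map f (Points.ofPt a z') = y := fun z z' hz e => by rw [hover, e, ← hover, hz]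
  have hqf := hasAtMor_lqf_chart_iff hX hY hf a b h hae hbe w
  have hd := hasAt_dimZero_iff hX a hae
  refine ⟨⟨fun h1 x hx => ?_, fun h2 x hx => ?_⟩, fun h3 x hx => ?_⟩ <;>
    obtain ⟨u, rfl⟩ := surjective_ofPt a has x
  · exact (hqf u).2 (quasiFiniteAt_of_dimZero_fibre h.left u fun z e => (hd z).1 (h1 _ (hfib u z hx e)))
  · exact (hd u).2 (dimZero_of_quasiFiniteAt h.left u (hmax u hx) ((hqf u).1 (h2 _ hx)))
  · exact (hd u).2 (dimZero_of_quasiFiniteAt_dimZero h.left u (hmax u hx) fun z e hz =>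
      (hqf z).1 (h3 _ (hfib u z hx e) ((hd z).2 hz)))

end Groth.Agent.AlgSpLib
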