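import Groth.Agent.AlgSpLib.DecentMore
import Groth.Agent.AlgSpLib.QuasiSober
import Groth.Agent.AlgSpLib.DenseScheme
import Groth.Agent.AlgSpLib.DiagCrit
import Groth.Agent.AlgSpLib.PointsCompact
import Groth.Agent.AlgSpLib.NoethSpace

/-!
Locally Noetherian decent spaces are quasi-separated.
-/

universe u

open CategoryTheory CategoryTheory.Limits AlgebraicGeometry Opposite TopologicalSpace
open AlgSp

noncomputable section

namespace Groth.Agent.AlgSpLib

set_option backward.isDefEq.respectTransparency.types false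

/-- separated etale morphisms with finite fibres over Noetherian spaces have compact source -/
theorem compactSpace_of_finite_fibres {R U : Scheme.{u}} [NoetherianSpace ↥U] (s : R ⟶ U) [Etale s]
    [IsSeparated s] (hfin : ∀ v, (s ⁻¹' {v}).Finite) : CompactSpace ↥R := by
  classical
  choose D π e hπ hqc he hinj hfac using fun n => exists_distinct_lifts s n
  have hWo : ∀ n, IsOpen (Set.range (π n)) := fun n => (π n).isOpenMap.isOpen_range
  have := locallyQuasiFinite_of_etale s
  have hmono : Antitone fun n => Set.range (π n) := antitone_nat_of_succ_le fun n => by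
    rintro _ ⟨d, rfl⟩
    obtain ⟨g, hg⟩ := FlatMorWeight.exists_geomPt d
    obtain ⟨h, hh, -⟩ := hfac n _ (g ≫ π (n + 1)) (fun i => g ≫ e (n + 1) i.castSucc)
      (fun i => by rw [Category.assoc, he]) fun i j hij => Fin.castSucc_injective n (hinj (n + 1) _ g hij)
    exact ⟨FlatMorWeight.pt h, by rw [← FlatMorWeight.pt_comp, hh, FlatMorWeight.pt_comp, hg]⟩
  -- bounded at the generic points, so bounded
  choose m hm using fun v : ↥U => notMem_range_of_finite s π e hπ he hinj v (hfin v)
  let G : Set ↥U := {η | ∃ T ∈ irreducibleComponents ↥U, IsGenericPoint η T}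
  have hG : G.Finite := by
    refine (NoetherianSpace.finite_irreducibleComponents (α := ↥U)).biUnion
      (t := fun T => {η | IsGenericPoint η T}) (fun T _ => Set.Subsingleton.finite fun a ha b hb => ha.eq hb)
      |>.subset fun η hη => Set.mem_iUnion₂.2 (by obtain ⟨T, hT, h⟩ := hη; exact ⟨T, hT, h⟩)
  let N := hG.toFinset.sup m
  have hN : ∀ v, v ∉ Set.range (π N) := fun v hv => by
    have hc := irreducibleComponent_mem_irreducibleComponents v
    obtain ⟨η, hη⟩ := QuasiSober.sober (isIrreducible_irreducibleComponent (x := v))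
      isClosed_irreducibleComponent
    refine hm η (hmono (Finset.le_sup (f := m) (hG.mem_toFinset.2 ⟨_, hc, hη⟩)) ?_)
    exact (hη.specializes mem_irreducibleComponent).mem_open (hWo N) hv
  have hC : ∀ k, ∃ C : (D k).Opens, IsCompact (C : Set ↥(D k)) ∧ π k '' C = Set.range (π k) := fun k =>
    (π k).isOpenMap.exists_opens_image_eq_of_prespectralSpace (π k).continuous subset_rfl (hWo k)
      (NoetherianSpace.isCompact _)
  choose C hCc hCe using hC
  refine ⟨(?_ : Set.univ ⊆ ⋃ k : Fin N, ⋃ i : Fin k.1, e k i '' C k) |> fun h => ?_⟩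
  · rw [Set.univ_subset_iff] at h
    rw [← h]
    exact isCompact_iUnion fun k => isCompact_iUnion fun i => (hCc _).image (e k i).continuous
  intro r _
  let v := s r
  have h0 : v ∈ Set.range (π 0) := by
    obtain ⟨g, hg⟩ := FlatMorWeight.exists_geomPt v
    obtain ⟨d, hd, -⟩ := hfac 0 _ g Fin.elim0 (fun i => i.elim0) fun i => i.elim0
    exact ⟨FlatMorWeight.pt d, by rw [← FlatMorWeight.pt_comp, hd, hg]⟩
  have hex : ∃ k, v ∉ Set.range (π (k + 1)) := ⟨N, fun h => hN v (hmono (Nat.le_succ N) h)⟩
  let k := Nat.find hex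
  have hvk : v ∈ Set.range (π k) := by
    rcases hk : k with _ | j
    · exact h0
    · exact not_not.1 (Nat.find_min hex (show j < k by omega))
  have hkN : k < N := by
    rcases Nat.lt_or_ge k N with h | h
    · exact h
    · exact absurd (hmono h hvk) (hN v)
  obtain ⟨d, hdC, hd⟩ := (hCe k).symm.subset hvk
  obtain ⟨z, hz⟩ := FlatMorWeight.exists_geomPt d
  obtain ⟨f, hf, hfr⟩ := FlatMorWeight.exists_GP_at s (z ≫ π k) r (by rw [FlatMorWeight.pt_comp, hz]; exact hd.symm)
  by_cases hex' : ∃ i, z ≫ e k i = f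
  · obtain ⟨i, hi⟩ := hex'
    refine Set.mem_iUnion₂.2 ⟨⟨k, hkN⟩, i, FlatMorWeight.pt z, by rw [hz]; exact hdC, ?_⟩
    rw [← FlatMorWeight.pt_comp]
    exact (congrArg FlatMorWeight.pt hi).trans hfr
  · exfalso
    obtain ⟨h, hh, -⟩ := hfac (k + 1) _ (z ≫ π k) (Fin.snoc (fun i => z ≫ e k i) f) (fun i => by
      induction i using Fin.lastCases with
      | last => simp only [Fin.snoc_last]; exact hf
      | cast i => simp only [Fin.snoc_castSucc, Category.assoc, he]) (by
      rw [Fin.snoc_injective_iff]
      exact ⟨hinj k _ z, fun ⟨i, hi⟩ => hex' ⟨i, hi⟩⟩)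
    exact Nat.find_spec hex ⟨FlatMorWeight.pt h, by rw [← FlatMorWeight.pt_comp, hh, FlatMorWeight.pt_comp, hz, hd]⟩

variable {S : Scheme.{u}} {X : Sp S}

theorem isLocallyNoetherian_chart (hX : IsLocNoethSp X) {U : Over S} (a : (yon S).obj U ⟶ X)
    (ha : RepWith @Etale a) : IsLocallyNoetherian U.left := by
  obtain ⟨V, b, hbe, hbs, hV⟩ := hX
  obtain ⟨c, hc⟩ := (yon S).map_surjective (ha.1.fst b)
  have sq : IsPullback ((yon S).map c) ((yon S).map (ha.1.snd b)) a b := hc ▸ ha.1.isPullback b
  have : Etale (ha.1.snd b).left := ha.property_snd b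
  have : Etale c.left := hbe.property _ _ _ sq.flip
  have : Surjective c.left := hbs.property _ _ _ sq.flip
  have := LocallyOfFiniteType.isLocallyNoetherian (ha.1.snd b).left
  exact isLocallyNoetherian_of_surjective c.left

/-- fibre products of affine charts of locally Noetherian decent spaces are compact -/
theorem compactSpace_prod_charts (hX : IsAlgSpace X) (hN : IsLocNoethSp X) (hd : IsDecent X)
    {V V' R : Over S} [IsAffine V.left] [IsAffine V'.left] (a : (yon S).obj V ⟶ X) (b : (yon S).obj V' ⟶ X)
    (ha : RepWith @Etale a) (hb : RepWith @Etale b) {fst : R ⟶ V} {snd : R ⟶ V'}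
    (sq : IsPullback ((yon S).map fst) ((yon S).map snd) a b) : CompactSpace ↥R.left := by
  have : Etale snd.left := ha.property _ _ _ sq
  have : IsSeparated V.hom := inferInstance
  have : IsSeparated snd.left := (repWith_isSeparated_of_isSeparated_source hX a).property _ _ _ sq
  have := isLocallyNoetherian_chart hN b hb
  have : IsNoetherian V'.left := ⟨⟩
  refine compactSpace_of_finite_fibres snd.left fun v => ?_
  let k : Type u := V'.left.residueField v
  let str : Spec (CommRingCat.of k) ⟶ S := V'.left.fromSpecResidueField v ≫ V'.hom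
  let i : Over.mk str ⟶ V' := Over.homMk (V'.left.fromSpecResidueField v) rfl
  let q := (yon S).map i ≫ b
  obtain ⟨p, hp, hpm, hpq⟩ := hd (ptOfHom q)
  have hq : RepWith @QuasiCompact q :=
    repWith_qc_of_mono_point p.toHom hpq q (hp.symm.trans (ptOfHom_toHom p).symm)
  have : QuasiCompact (hq.1.snd a).left := hq.property_snd a
  have : CompactSpace ↥(hq.1.pullback a).left :=
    QuasiCompact.compactSpace_of_compactSpace (hq.1.snd a).left
  obtain ⟨c, hc⟩ := (yon S).map_surjective (hq.1.fst a)
  have sqP : IsPullback ((yon S).map c) ((yon S).map (hq.1.snd a)) q a := hc ▸ hq.1.isPullback a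
  have : Etale c.left := (repWith_yon_map_iff @Etale c).1 (RepWith.baseChange sqP.flip ha)
  have := locallyQuasiFinite_of_etale c.left
  have hsub : Subsingleton ↥(Over.mk str).left :=
    inferInstanceAs (Subsingleton ↥(Spec (CommRingCat.of k)))
  have : IsAffine (Over.mk str).left := inferInstanceAs (IsAffine (Spec (CommRingCat.of k)))
  have : QuasiCompact c.left := (quasiCompact_iff_compactSpace (f := c.left)).2 inferInstance
  have : Finite ↥(hq.1.pullback a).left := by
    refine Set.finite_univ_iff.1 ?_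
    rcases isEmpty_or_nonempty ↥(hq.1.pullback a).left with h | ⟨⟨z⟩⟩
    · exact Set.toFinite _
    · exact (c.left.finite_preimage_singleton (c.left z)).subset fun w _ => Subsingleton.elim _ _
  obtain ⟨n, hn⟩ := (yon S).map_surjective (sq.lift ((yon S).map (hq.1.snd a)) ((yon S).map (c ≫ i))
    (by rw [Functor.map_comp, Category.assoc, ← sqP.w]))
  refine (Set.finite_range n.left).subset fun r hr => ?_
  have e2 : n ≫ snd = c ≫ i := (yon S).map_injective (by rw [Functor.map_comp, hn, sq.lift_snd])
  have e1 : n ≫ fst = hq.1.snd a := (yon S).map_injective (by rw [Functor.map_comp, hn, sq.lift_fst])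
  have sqR : IsPullback n c snd i := by
    refine IsPullback.of_map (yon S) e2 ?_
    refine IsPullback.of_right ?_ (by rw [← Functor.map_comp, e2, Functor.map_comp]) sq
    rw [← Functor.map_comp, e1]
    exact sqP.flip
  obtain ⟨z, hz, -⟩ := exists_point_of_isPullback (sqR.map (yon S)) (x := Points.ofScheme R r)
    (y := ptOfHom (𝟙 _)) (by
      rw [map_yon_map_ofScheme, map_eq_ptOfHom, ← Category.comp_id ((yon S).map i), ptOfHom_yon_map,
        Points.ofPt_eq_map_ofScheme, Points.map_id]
      exact congrArg _ (hr.trans (Scheme.fromSpecResidueField_apply v _).symm))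
  obtain ⟨w, rfl⟩ := (Points.schemeEquiv (hq.1.pullback a)).surjective z
  exact ⟨w, (Points.schemeEquiv R).injective ((map_yon_map_ofScheme n w).symm.trans hz)⟩

/-- locally Noetherian decent spaces are quasi-separated -/
theorem isQuasiSeparatedSp_of_decent_locNoeth (hX : IsAlgSpace X) (hN : IsLocNoethSp X) (hd : IsDecent X) :
    IsQuasiSeparatedSp X := by
  obtain ⟨U, p, hp, hs⟩ := hX.atlas
  obtain ⟨t, ht⟩ := (yon S).map_surjective (hp.1.fst p)
  let s : hp.1.pullback p ⟶ U := hp.1.snd p
  have hR : IsPullback ((yon S).map t) ((yon S).map s) p p := ht ▸ hp.1.isPullback p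
  have hl : Sheaf.IsLocallySurjective (prod.map p p) :=
    isLocallySurjective_of_etale (repWith_prod_map hp hp) (repWith_prod_map hs hs)
  refine repWith_of_isLocallySurjective hX.diag (prod.map p p) (isPullback_diag_prod_map hR) _ ?_
  refine repWith_prod_lift t s ?_
  let l := pullback.lift t.left s.left ((Over.w t).trans (Over.w s).symm)
  let 𝒰 := Scheme.Pullback.openCoverOfLeftRight U.left.affineCover U.left.affineCover U.hom U.hom
  refine IsZariskiLocalAtTarget.of_openCover (P := @QuasiCompact) 𝒰 fun ij => ?_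
  have : (𝒰.X ij).IsSeparated := isSeparated_pullback_of_isAffine _ _
  let T : Over S := Over.mk (pullback.fst l (𝒰.f ij) ≫ (hp.1.pullback p).hom)
  let V : Over S := Over.mk (U.left.affineCover.f ij.1 ≫ U.hom)
  let V' : Over S := Over.mk (U.left.affineCover.f ij.2 ≫ U.hom)
  let jV : V ⟶ U := Over.homMk (U.left.affineCover.f ij.1)
  let jV' : V' ⟶ U := Over.homMk (U.left.affineCover.f ij.2)
  have : IsAffine V.left := inferInstanceAs (IsAffine (U.left.affineCover.X ij.1))
  have : IsAffine V'.left := inferInstanceAs (IsAffine (U.left.affineCover.X ij.2))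
  have hj : RepWith @Etale ((yon S).map jV) :=
    (repWith_yon_map_iff (P := @Etale) jV).2 (inferInstanceAs (Etale (U.left.affineCover.f ij.1)))
  have hj' : RepWith @Etale ((yon S).map jV') :=
    (repWith_yon_map_iff (P := @Etale) jV').2 (inferInstanceAs (Etale (U.left.affineCover.f ij.2)))
  have hc := (hp.1.pullback p)
  let P₁ := pullback t jV
  let P₂ := pullback (pullback.fst t jV ≫ s) jV'
  have sqA := (((IsPullback.of_hasPullback t jV).map (yon S)).paste_horiz hR.flip).flip
  have sqB := ((IsPullback.of_hasPullback (pullback.fst t jV ≫ s) jV').map (yon S))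
  rw [Functor.map_comp] at sqB
  have sqC := sqB.paste_horiz sqA
  have : CompactSpace ↥P₂.left :=
    compactSpace_prod_charts hX hN hd ((yon S).map jV ≫ p) ((yon S).map jV' ≫ p)
      (RepWith.comp hj hp) (RepWith.comp hj' hp) (fst := pullback.fst _ _ ≫ pullback.snd t jV)
      (snd := pullback.snd (pullback.fst t jV ≫ s) jV') (by rw [Functor.map_comp]; exact sqC)
  let q₁ : 𝒰.X ij ⟶ V.left := pullback.fst (U.left.affineCover.f ij.1 ≫ U.hom) (U.left.affineCover.f ij.2 ≫ U.hom)
  let q₂ : 𝒰.X ij ⟶ V'.left := pullback.snd (U.left.affineCover.f ij.1 ≫ U.hom) (U.left.affineCover.f ij.2 ≫ U.hom)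
  have hq₁ : 𝒰.f ij ≫ pullback.fst U.hom U.hom = q₁ ≫ U.left.affineCover.f ij.1 := pullback.lift_fst _ _ _
  have hq₂ : 𝒰.f ij ≫ pullback.snd U.hom U.hom = q₂ ≫ U.left.affineCover.f ij.2 := pullback.lift_snd _ _ _
  have hlt : l ≫ pullback.fst U.hom U.hom = t.left := pullback.lift_fst _ _ _
  have hls : l ≫ pullback.snd U.hom U.hom = s.left := pullback.lift_snd _ _ _
  suffices hcs : CompactSpace ↥(pullback l (𝒰.f ij)) from
    @quasiCompact_of_compactSpace _ _ (pullback.snd l (𝒰.f ij)) hcs inferInstance
  refine ⟨((pullback.fst l (𝒰.f ij)).isEmbedding.isCompact_iff).2 ?_⟩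
  rw [Set.image_univ, IsOpenImmersion.range_pullbackFst]
  let m : P₂ ⟶ hp.1.pullback p := pullback.fst _ _ ≫ pullback.fst t jV
  convert isCompact_range m.left.continuous using 1
  ext r
  constructor
  · rintro ⟨y, hy⟩
    have hy1 : t.left r = U.left.affineCover.f ij.1 (q₁ y) := by
      rw [← hlt, Scheme.Hom.comp_apply, ← hy, ← Scheme.Hom.comp_apply, hq₁, Scheme.Hom.comp_apply]
    have hy2 : s.left r = U.left.affineCover.f ij.2 (q₂ y) := by
      rw [← hls, Scheme.Hom.comp_apply, ← hy, ← Scheme.Hom.comp_apply, hq₂, Scheme.Hom.comp_apply]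
    obtain ⟨z, hz, hzt⟩ := exists_point_of_isPullback ((IsPullback.of_hasPullback t jV).map (yon S))
      (x := Points.ofScheme _ r) (y := Points.ofScheme V (q₁ y))
      (by rw [map_yon_map_ofScheme, map_yon_map_ofScheme]; exact congrArg _ hy1)
    obtain ⟨w, rfl⟩ := (Points.schemeEquiv P₁).surjective z
    have hw : (pullback.fst t jV).left w = r :=
      (Points.schemeEquiv _).injective ((map_yon_map_ofScheme _ w).symm.trans hz)
    obtain ⟨z', hz', -⟩ := exists_point_of_isPullback
      ((IsPullback.of_hasPullback (pullback.fst t jV ≫ s) jV').map (yon S))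
      (x := Points.ofScheme _ w) (y := Points.ofScheme V' (q₂ y))
      (by rw [map_yon_map_ofScheme, map_yon_map_ofScheme]; exact congrArg _ ((congrArg s.left hw).trans hy2))
    obtain ⟨w', rfl⟩ := (Points.schemeEquiv P₂).surjective z'
    refine ⟨w', ?_⟩
    show (pullback.fst t jV).left ((pullback.fst (pullback.fst t jV ≫ s) jV').left w') = r
    rw [show (pullback.fst (pullback.fst t jV ≫ s) jV').left w' = w from
      (Points.schemeEquiv _).injective ((map_yon_map_ofScheme _ w').symm.trans hz'), hw]
  · rintro ⟨w, rfl⟩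
    let c₁ := (pullback.fst (pullback.fst t jV ≫ s) jV' ≫ pullback.snd t jV).left
    let c₂ := (pullback.snd (pullback.fst t jV ≫ s) jV').left
    have h1 : c₁ ≫ U.left.affineCover.f ij.1 = m.left ≫ t.left :=
      congrArg (fun k => k.left) (show (pullback.fst (pullback.fst t jV ≫ s) jV' ≫ pullback.snd t jV) ≫ jV = m ≫ t by
        simp only [m, Category.assoc, pullback.condition])
    have h2 : c₂ ≫ U.left.affineCover.f ij.2 = m.left ≫ s.left :=
      congrArg (fun k => k.left) (show (pullback.snd (pullback.fst t jV ≫ s) jV') ≫ jV' = m ≫ s by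
        simp only [m, Category.assoc, pullback.condition])
    let y : P₂.left ⟶ 𝒰.X ij := pullback.lift c₁ c₂ (by
      rw [reassoc_of% h1, reassoc_of% h2]
      exact congrArg (m.left ≫ ·) ((Over.w t).trans (Over.w s).symm))
    have hy : y ≫ 𝒰.f ij = m.left ≫ l := by
      apply pullback.hom_ext
      · rw [Category.assoc, hq₁, Category.assoc, hlt, ← h1, ← Category.assoc]
        exact congrArg (· ≫ _) (pullback.lift_fst _ _ _)
      · rw [Category.assoc, hq₂, Category.assoc, hls, ← h2, ← Category.assoc]
        exact congrArg (· ≫ _) (pullback.lift_snd _ _ _)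
    exact ⟨y w, by rw [← Scheme.Hom.comp_apply, hy]; rfl⟩

end Groth.Agent.AlgSpLib
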