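import Groth.Agent.S1608
import Groth.Agent.AlgSpLib.ProperQF
import Groth.Agent.AlgSpLib.CodimZeroFibre
import Groth.Agent.AlgSpLib.NoethDecent
import Groth.Agent.Stk19b.EtaleDim
import Groth.Agent.DimLib.Components
import Groth.Prelude.Def_Dual3

/-!
Quasi-finiteness over points of codimension at most one.
-/

universe u

open CategoryTheory CategoryTheory.Limits AlgebraicGeometry Opposite
open AlgSp

noncomputable section

namespace Groth.Agent.AlgSpLib

set_option backward.isDefEq.respectTransparency.types false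

/-- near a point without proper generizations all points are specializations of it -/
theorem exists_open_subset_specializations {U : Scheme.{u}} [IsLocallyNoetherian U] (z : ↥U)
    (hz : ringKrullDim ↥(U.presheaf.stalk z) = 0) :
    ∃ N : Set ↥U, IsOpen N ∧ z ∈ N ∧ ∀ w ∈ N, z ⤳ w := by
  obtain ⟨O, hO, hzO, -⟩ := exists_isAffineOpen_mem_and_subset (x := z) (U := ⊤) trivial
  have : IsAffine O.toScheme := hO
  have : IsNoetherianRing Γ(U, O) := IsLocallyNoetherian.component_noetherian ⟨O, hO⟩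
  have := isNoetherianRing_of_ringEquiv _ O.topIso.symm.commRingCatIsoToRingEquiv
  have : IsLocallyNoetherian O.toScheme := isLocallyNoetherian_of_isOpenImmersion O.ι
  have : IsNoetherian O.toScheme := {}
  let G : Set ↥O.toScheme := {g | ringKrullDim ↥(O.toScheme.presheaf.stalk g) = 0 ∧ g ≠ ⟨z, hzO⟩}
  have hG : G.Finite := by
    refine Set.Finite.of_finite_image (f := fun g => closure ({g} : Set ↥O.toScheme))
      ((TopologicalSpace.NoetherianSpace.finite_irreducibleComponents (α := O.toScheme)).subset ?_) ?_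
    · rintro _ ⟨g, ⟨hg, -⟩, rfl⟩
      refine ⟨isIrreducible_singleton.closure, fun B hB hle => ?_⟩
      obtain ⟨b, hb⟩ := QuasiSober.sober hB.closure isClosed_closure
      have hbg : b ⤳ g := hb.specializes (subset_closure (hle (subset_closure rfl)))
      dsimp only
      rw [← eq_of_specializes_stalk g hg b hbg, hb.def]
      exact subset_closure
    · intro a _ b _ e
      exact ((specializes_iff_closure_subset.2 e.ge).antisymm (specializes_iff_closure_subset.2 e.le)).eq
  have hC : IsClosed (⋃ g ∈ G, closure ({g} : Set ↥O.toScheme)) :=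
    hG.isClosed_biUnion fun _ _ => isClosed_closure
  have hzC : (⟨z, hzO⟩ : ↥O.toScheme) ∉ ⋃ g ∈ G, closure ({g} : Set ↥O.toScheme) := fun h => by
    obtain ⟨g, hg, hgz⟩ := Set.mem_iUnion₂.1 h
    refine hg.2 (O.ι.injective ?_)
    exact eq_of_specializes_stalk z hz _ ((specializes_iff_mem_closure.2 hgz).map O.ι.continuous)
  refine ⟨O.ι '' (⋃ g ∈ G, closure ({g} : Set ↥O.toScheme))ᶜ,
    O.ι.isOpenEmbedding.isOpenMap _ hC.isOpen_compl, ⟨⟨z, hzO⟩, hzC, rfl⟩, ?_⟩
  rintro _ ⟨w, hw, rfl⟩
  obtain ⟨g, hgw, hg⟩ := exists_dimZero_generization w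
  have e : g = ⟨z, hzO⟩ := by_contra fun hne =>
    hw (Set.mem_iUnion₂.2 ⟨g, ⟨hg, hne⟩, hgw.mem_closure⟩)
  exact (e ▸ hgw : (⟨z, hzO⟩ : ↥O.toScheme) ⤳ w).map O.ι.continuous

/-- a generic point with algebraic residue extension is a quasi-finite point -/
theorem quasiFiniteAt_of_dimZero_resTrdeg {U V : Scheme.{u}} (h : U ⟶ V)
    [LocallyOfFiniteType h] (z : ↥U) (hz : ringKrullDim ↥(U.presheaf.stalk z) = 0)
    (ht : Dual3.resTrdeg h z = 0) : h.QuasiFiniteAt z := by
  let p : h.fiber (h z) ⟶ Spec (CommRingCat.of ↥(V.residueField (h z))) := h.fiberToSpecResidueField (h z)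
  have : LocallyOfFiniteType p := MorphismProperty.pullback_snd _ _ inferInstance
  -- the point is closed in the fibre
  have hc : IsClosed ({h.asFiber z} : Set ↥(h.fiber (h z))) := by
    let α : Spec (CommRingCat.of ↥(U.residueField z)) ⟶ h.fiber (h z) := h.asFiberHom z
    have e0 : α (IsLocalRing.closedPoint _) = h.asFiber z := h.asFiberHom_apply z _
    rw [← e0, ← DimLib.ptDim_eq_zero_iff p]
    let φ := Scheme.descResidueField (Scheme.stalkClosedPointTo α)
    have hφ : Spec.map φ ≫ (h.fiber (h z)).fromSpecResidueField (α (IsLocalRing.closedPoint _)) = α :=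
      Scheme.descResidueField_stalkClosedPointTo_fromSpecResidueField _ _ α
    let ψ := DimLib.baseRingHom p (α (IsLocalRing.closedPoint _))
    have hψ : φ.hom.comp ψ = (h.residueFieldMap z).hom := by
      have : CommRingCat.ofHom ψ ≫ φ = h.residueFieldMap z := Spec.map_injective (by
        rw [Spec.map_comp, DimLib.specMap_baseRingHom, reassoc_of% hφ]
        exact h.asFiberHom_fiberToSpecResidueField z)
      exact congrArg (fun t => t.hom) this
    letI := (h.residueFieldMap z).hom.toAlgebra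
    letI := ψ.toAlgebra
    have : Algebra.IsAlgebraic ↥(V.residueField (h z)) ↥(U.residueField z) := trdeg_eq_zero_iff.1 ht
    have : Algebra.IsAlgebraic ↥(V.residueField (h z))
        ↥((h.fiber (h z)).residueField (α (IsLocalRing.closedPoint _))) :=
      Algebra.IsAlgebraic.of_injective (R := ↥(V.residueField (h z)))
        (A := ↥((h.fiber (h z)).residueField (α (IsLocalRing.closedPoint _)))) (B := ↥(U.residueField z))
        { φ.hom with commutes' := fun r => DFunLike.congr_fun hψ r } φ.hom.injective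
    have e := trdeg_eq_zero (R := ↥(V.residueField (h z)))
      (A := ↥((h.fiber (h z)).residueField (α (IsLocalRing.closedPoint _))))
    show DimLib.trdegHom ψ = 0
    unfold DimLib.trdegHom
    exact (congrArg Cardinal.toNat e).trans Cardinal.zero_toNat
  refine Scheme.Hom.quasiFiniteAt_iff_isOpen_singleton_asFiber.2 ?_
  have := LocallyOfFiniteType.isLocallyNoetherian p
  have hz' : ringKrullDim ↥((h.fiber (h z)).presheaf.stalk (h.asFiber z)) = 0 := by
    refine (stalk_dimZero_iff _).2 fun w hw => (h.fiberι (h z)).isEmbedding.injective ?_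
    have := hw.map (h.fiberι (h z)).continuous
    rw [Scheme.Hom.fiberι_asFiber] at this ⊢
    exact eq_of_specializes_stalk z hz _ this
  obtain ⟨N, hN, hzN, hsp⟩ := exists_open_subset_specializations (h.asFiber z) hz'
  convert hN using 1
  exact Set.Subset.antisymm (Set.singleton_subset_iff.2 hzN) fun w hw => (hsp w hw).mem_closed hc rfl

/-- generic points lie in every dense open -/
theorem mem_of_dense_dimZero {U : Scheme.{u}} [IsLocallyNoetherian U] (z : ↥U)
    (hz : ringKrullDim ↥(U.presheaf.stalk z) = 0) {D : Set ↥U} (hD : IsOpen D) (hd : Dense D) : z ∈ D := by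
  obtain ⟨N, hN, hzN, hsp⟩ := exists_open_subset_specializations z hz
  obtain ⟨w, hwN, hwD⟩ := hd.inter_open_nonempty N hN ⟨z, hzN⟩
  exact (hsp w hwN).mem_open hD hwD

/-- scheme version with an open neighbourhood meeting only components through the point -/
theorem quasiFiniteAt_of_codimOne {U V : Scheme.{u}} [IsLocallyNoetherian V] (h : U ⟶ V)
    [LocallyOfFiniteType h] (u : ↥U) (hv : ringKrullDim ↥(V.presheaf.stalk (h u)) ≤ 1)
    (hgen : ∀ z, z ⤳ u → ringKrullDim ↥(U.presheaf.stalk z) = 0 → h.QuasiFiniteAt z) :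
    h.QuasiFiniteAt u := by
  have := LocallyOfFiniteType.isLocallyNoetherian h
  obtain ⟨O, hO, huO, -⟩ := exists_isAffineOpen_mem_and_subset (x := u) (U := ⊤) trivial
  have : IsAffine O.toScheme := hO
  have : IsNoetherianRing Γ(U, O) := IsLocallyNoetherian.component_noetherian ⟨O, hO⟩
  have := isNoetherianRing_of_ringEquiv _ O.topIso.symm.commRingCatIsoToRingEquiv
  have : IsLocallyNoetherian O.toScheme := isLocallyNoetherian_of_isOpenImmersion O.ι
  have : IsNoetherian O.toScheme := {}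
  have hcs := TopologicalSpace.NoetherianSpace.finite_irreducibleComponents (α := O.toScheme)
  let C : Set ↥O.toScheme := ⋃ Z ∈ {Z ∈ irreducibleComponents ↥O.toScheme | (⟨u, huO⟩ : ↥O.toScheme) ∉ Z}, Z
  have hC : IsClosed C := (hcs.subset fun Z hZ => hZ.1).isClosed_biUnion fun Z hZ =>
    isClosed_of_mem_irreducibleComponents Z hZ.1
  let N : O.toScheme.Opens := ⟨Cᶜ, hC.isOpen_compl⟩
  have huN : (⟨u, huO⟩ : ↥O.toScheme) ∈ N := fun hc => by
    obtain ⟨Z, hZ, hu⟩ := Set.mem_iUnion₂.1 hc
    exact hZ.2 hu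
  let k := N.ι ≫ O.ι
  have := S1608.result (k ≫ h) (h u) hv ?_ ⟨⟨u, huO⟩, huN⟩ rfl
  · exact (Scheme.Hom.quasiFiniteAt_comp_iff_of_isOpenImmersion (f := k) (g := h) (x := ⟨⟨u, huO⟩, huN⟩)).1 this
  intro Z hZ η hη
  refine (Scheme.Hom.quasiFiniteAt_comp_iff_of_isOpenImmersion (f := k) (g := h) (x := η)).2 ?_
  have hη0 : ∀ t, t ⤳ η → t = η := fun t ht => by
    have h1 : Z ⊆ closure {t} := hη.def ▸ closure_minimal (Set.singleton_subset_iff.2 ht.mem_closure) isClosed_closure
    exact (ht.antisymm (hη.specializes (hZ.2 isIrreducible_singleton.closure h1 (subset_closure rfl)))).eq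
  have hmaxU : ∀ t, t ⤳ k η → t = k η := fun t ht => by
    obtain ⟨t', rfl⟩ : t ∈ Set.range k := ht.mem_open k.isOpenEmbedding.isOpen_range ⟨η, rfl⟩
    rw [hη0 t' (k.isOpenEmbedding.toIsInducing.specializes_iff.1 ht)]
  refine hgen _ ?_ ((stalk_dimZero_iff _).2 hmaxU)
  -- the component of `η` passes through `u`
  obtain ⟨Z', hZ', hηZ'⟩ : ∃ Z' ∈ irreducibleComponents ↥O.toScheme, N.ι η ∈ Z' :=
    ⟨irreducibleComponent (N.ι η), irreducibleComponent_mem_irreducibleComponents _, mem_irreducibleComponent⟩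
  have hu : (⟨u, huO⟩ : ↥O.toScheme) ∈ Z' := by
    by_contra hu
    exact η.2 (Set.mem_iUnion₂.2 ⟨Z', ⟨hZ', hu⟩, hηZ'⟩)
  obtain ⟨g, hg⟩ := QuasiSober.sober hZ'.1 (isClosed_of_mem_irreducibleComponents Z' hZ')
  have hgη : O.ι g = k η := hmaxU _ ((hg.specializes hηZ').map O.ι.continuous)
  rw [← hgη]
  exact (hg.specializes hu).map O.ι.continuous

variable {S : Scheme.{u}} {X Y : Sp S}

/-- quasi-finite over a point of codimension at most one -/
theorem lqf_of_codimOne (hX : IsAlgSpace X) (hY : IsAlgSpace Y) (hN : IsLocNoethSp Y) {f : X ⟶ Y}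
    (hf : LocP @LocallyOfFiniteType f) (y : Points Y)
    (hy : HasAt (fun U u => ringKrullDim ↥(U.presheaf.stalk u) ≤ 1) Y y)
    (h : ∀ x : Points X, HasAt (fun U u => ringKrullDim ↥(U.presheaf.stalk u) = 0) X x → Points.map f x ⤳ y →
      HasAtMor (fun U _ h u => ∃ W : U.Opens, u ∈ W ∧ LocallyQuasiFinite (W.ι ≫ h) ∧
        LocallyOfFiniteType (W.ι ≫ h)) f x)
    (x : Points X) (hx : Points.map f x = y) :
    HasAtMor (fun U _ h u => ∃ W : U.Opens, u ∈ W ∧ LocallyQuasiFinite (W.ι ≫ h) ∧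
        LocallyOfFiniteType (W.ι ≫ h)) f x := by
  obtain ⟨V, b, hbe, hbs⟩ := hY.atlas
  obtain ⟨U, a, k, hae, has, w⟩ := exists_chart_over hX hY f b hbe hbs
  obtain ⟨u, rfl⟩ := surjective_ofPt a has x
  have : LocallyOfFiniteType k.left := hf a b k hae hbe w
  have := isLocallyNoetherian_chart hN b hbe
  have hover : ∀ z, Points.map f (Points.ofPt a z) = Points.ofPt b (k.left z) := fun z => by
    rw [Points.map_ofPt, w, ofPt_map]
  obtain ⟨V', b', v', hb', hv', hd⟩ := hy
  have hdim : ringKrullDim ↥(V.left.presheaf.stalk (k.left u)) ≤ 1 := by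
    refine le_of_eq_of_le ?_ hd
    exact (Stk19b.EtaleDim.hasAt_ringKrullDim_iff hY hbe _ _).1 ⟨V', b', v', hb', hv'.trans (hx.symm.trans (hover u)), rfl⟩
  refine (hasAtMor_lqf_chart_iff hX hY hf a b k hae hbe w u).2 (quasiFiniteAt_of_codimOne k.left u hdim
    fun z hz hzd => (hasAtMor_lqf_chart_iff hX hY hf a b k hae hbe w z).1
      (h _ ((hasAt_dimZero_iff hX a hae z).2 hzd) ?_))
  rw [← hx]
  exact (hz.map (Points.continuous_ofPt a)).map (Points.continuous_map f)

/-- transcendence degree zero gives quasi-finiteness at codimension zero points -/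
theorem lqf_of_dimZero_resTrdeg (hX : IsAlgSpace X)
    {f : X ⟶ Y} (hf : LocP @LocallyOfFiniteType f) {x : Points X}
    (hx : HasAt (fun U u => ringKrullDim ↥(U.presheaf.stalk u) = 0) X x)
    (ht : HasAtMor (fun _ _ h u => Dual3.resTrdeg h u = 0) f x) :
    HasAtMor (fun U _ h u => ∃ W : U.Opens, u ∈ W ∧ LocallyQuasiFinite (W.ι ≫ h) ∧
        LocallyOfFiniteType (W.ι ≫ h)) f x := by
  obtain ⟨U, V, a, b, h, u, ha, hb, w, rfl, H⟩ := ht
  have : LocallyOfFiniteType h.left := hf a b h ha hb w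
  exact ⟨U, V, a, b, h, u, ha, hb, w, rfl, (exists_lqf_nhd_iff h.left u).2
    (quasiFiniteAt_of_dimZero_resTrdeg h.left u ((hasAt_dimZero_iff hX a ha u).1 hx) H)⟩

/-- a dense quasi-finite locus contains all codimension zero points -/
theorem lqf_of_dense (hX : IsAlgSpace X) (hY : IsAlgSpace Y) (hN : IsLocNoethSp Y)
    {f : X ⟶ Y} (hf : LocP @LocallyOfFiniteType f)
    (h : Dense {x : Points X | HasAtMor (fun U _ h u => ∃ W : U.Opens, u ∈ W ∧ LocallyQuasiFinite (W.ι ≫ h) ∧
      LocallyOfFiniteType (W.ι ≫ h)) f x})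
    {x : Points X} (hx : HasAt (fun U u => ringKrullDim ↥(U.presheaf.stalk u) = 0) X x) :
    HasAtMor (fun U _ h u => ∃ W : U.Opens, u ∈ W ∧ LocallyQuasiFinite (W.ι ≫ h) ∧
        LocallyOfFiniteType (W.ι ≫ h)) f x := by
  obtain ⟨V, b, hbe, hbs⟩ := hY.atlas
  obtain ⟨U, a, k, hae, has, w⟩ := exists_chart_over hX hY f b hbe hbs
  obtain ⟨u, rfl⟩ := surjective_ofPt a has x
  have : LocallyOfFiniteType k.left := hf a b k hae hbe w
  have := isLocallyNoetherian_chart hN b hbe
  have := LocallyOfFiniteType.isLocallyNoetherian k.left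
  exact mem_of_dense_dimZero u ((hasAt_dimZero_iff hX a hae u).1 hx)
    ((isOpen_lqfPoints f).preimage (Points.continuous_ofPt a)) (h.preimage (isOpenMap_ofPt a hae))

/-- proper morphisms are finite over a neighbourhood of a point of codimension at most one -/
theorem exists_finite_nhd_of_codimOne {X Y : AlgSp.Space S} (f : X ⟶ Y) (hf : IsProperMor f.hom)
    (hN : IsLocNoethSp Y.obj) (y : Points Y.obj)
    (hy : HasAt (fun U u => ringKrullDim ↥(U.presheaf.stalk u) ≤ 1) Y.obj y)
    (h : ∀ x : Points X.obj, HasAt (fun U u => ringKrullDim ↥(U.presheaf.stalk u) = 0) X.obj x →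
      Points.map f.hom x ⤳ y → HasAtMor (fun U _ h u => ∃ W : U.Opens, u ∈ W ∧ LocallyQuasiFinite (W.ι ≫ h) ∧
        LocallyOfFiniteType (W.ι ≫ h)) f.hom x) :
    ∃ (Y' : AlgSp.Space S) (j : Y' ⟶ Y), RepWith @IsOpenImmersion j.hom ∧
      y ∈ Set.range (Points.map j.hom) ∧
      ∀ (P : AlgSp.Space S) (fst : P ⟶ Y') (snd : P ⟶ X), IsPullback fst.hom snd.hom j.hom f.hom →
        IsFiniteMor fst.hom := by
  obtain ⟨Y', j, hj, hyj, hfin⟩ := exists_finite_nhd_of_proper f y hf
    (lqf_of_codimOne X.property Y.property hN hf.2.1.1 y hy h)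
  exact ⟨Y', j, hj, hyj, fun P fst snd sq => hfin _ snd.hom fst.hom sq.flip⟩

end Groth.Agent.AlgSpLib
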