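import Groth.Agent.AlgSpLib.DenseFinite
import Groth.Agent.AlgSpLib.CodimOneQF
import Groth.Agent.AlgSpLib.DecentDim
import Groth.Agent.AlgSpLib.DenseScheme
import Groth.Agent.AlgSpLib.QuasiSober
import Groth.Agent.FlatMorWeight.GeomPoints

/-!
Morphisms locally of finite type between integral spaces, at the generic point.
-/

universe u

open CategoryTheory CategoryTheory.Limits AlgebraicGeometry Opposite
open AlgSp

noncomputable section

namespace Groth.Agent.AlgSpLib

set_option backward.isDefEq.respectTransparency.types false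

variable {S : Scheme.{u}}

/-- in an irreducible decent space the only codimension zero point is the generic point -/
theorem dimZero_iff_eq_generic {X : Sp S} (hX : IsAlgSpace X) (hd : IsDecent X) {x : Points X}
    (hx : IsGenericPoint x (Set.univ : Set (Points X))) (z : Points X) :
    HasAt (fun U u => ringKrullDim ↥(U.presheaf.stalk u) = 0) X z ↔ z = x := by
  have key : ∀ z, HasAt (fun U u => ringKrullDim ↥(U.presheaf.stalk u) = 0) X z → z = x := by
    rintro z ⟨U, a, u, ha, rfl, hu⟩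
    obtain ⟨u', hu', e⟩ := exists_specializes_chart (FiniteFibres.of_mk (hd x)).1 a ha u
      (hx.specializes (Set.mem_univ _))
    rw [← e, eq_of_specializes_stalk u hu u' hu']
  refine ⟨key z, ?_⟩
  rintro rfl
  obtain ⟨U, a, hae, has⟩ := hX.atlas
  obtain ⟨u, hu⟩ := surjective_ofPt a has z
  obtain ⟨u₀, -, hd0⟩ := exists_dimZero_generization u
  have h0 := (hasAt_dimZero_iff hX a hae u₀).2 hd0
  rwa [key _ h0] at h0

theorem isOpen_range_map {F G : Sp S} {j : F ⟶ G} (hG : IsAlgSpace G) (hj : RepWith @IsOpenImmersion j) :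
    IsOpen (Set.range (Points.map j)) := by
  obtain ⟨U, a, hae, has⟩ := hG.atlas
  refine (isOpenQuotientMap_ofPt a hae has).isQuotientMap.isOpen_preimage.1 ?_
  have sq := hj.1.isPullback a
  have : IsOpenImmersion (hj.1.snd a).left := hj.property_snd a
  convert (hj.1.snd a).left.isOpenEmbedding.isOpen_range using 1
  ext u
  constructor
  · rintro ⟨z, hz⟩
    rw [Points.ofPt_eq_map_ofScheme] at hz
    obtain ⟨v, -, hv⟩ := exists_point_of_isPullback sq hz
    obtain ⟨r, rfl⟩ := (Points.schemeEquiv _).surjective v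
    exact ⟨r, (Points.schemeEquiv U).injective ((map_yon_map_ofScheme _ r).symm.trans hv)⟩
  · rintro ⟨r, rfl⟩
    exact ⟨Points.ofPt (hj.1.fst a) r, by rw [Points.map_ofPt, sq.w, ofPt_map]⟩

/-- charts of a base change finite over an etale open of the target give quasi-finite points -/
theorem lqf_of_finite_over {X Y : Sp S} {f : X ⟶ Y} {P V : Sp S}
    (hV : IsAlgSpace V) {j : V ⟶ Y} (hj : RepWith @Etale j) {i : P ⟶ X} {g : P ⟶ V}
    (sq : IsPullback i g f j) (hg : IsFiniteMor g) {x : Points X}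
    (hx : Points.map f x ∈ Set.range (Points.map j)) :
    HasAtMor (fun U _ h u => ∃ W : U.Opens, u ∈ W ∧ LocallyQuasiFinite (W.ι ≫ h) ∧
      LocallyOfFiniteType (W.ι ≫ h)) f x := by
  have hgr := (isFiniteMor_iff_repWith g).1 hg
  obtain ⟨V₀, b, hbe, hbs⟩ := hV.atlas
  have sq₀ := hgr.1.isPullback b
  let w := hgr.1.snd b
  have hw : IsFinite w.left := hgr.property_snd b
  have hi : RepWith @Etale i := RepWith.baseChange sq.flip hj
  have hp : RepWith @Etale (hgr.1.fst b) := RepWith.baseChange sq₀.flip hbe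
  obtain ⟨v, hv⟩ := hx
  obtain ⟨z, hz, hz'⟩ := exists_point_of_isPullback sq hv.symm
  obtain ⟨v₀, hv₀⟩ := surjective_ofPt b hbs (Points.map g z)
  rw [Points.ofPt_eq_map_ofScheme] at hv₀
  obtain ⟨p, hp1, -⟩ := exists_point_of_isPullback sq₀ hv₀.symm
  obtain ⟨r, rfl⟩ := (Points.schemeEquiv _).surjective p
  refine ⟨hgr.1.pullback b, V₀, hgr.1.fst b ≫ i, b ≫ j, w, r, RepWith.comp hp hi, RepWith.comp hbe hj, ?_, ?_, ?_⟩
  · rw [Category.assoc, sq.w, reassoc_of% sq₀.w]
  · rw [← Points.map_ofPt, Points.ofPt_eq_map_ofScheme, ← hz]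
    exact congrArg _ hp1
  · exact ⟨⊤, trivial, inferInstance, inferInstance⟩

variable {X Y : AlgSp.Space S} (hXi : IsIntegralSp X.obj) (hYi : IsIntegralSp Y.obj) (f : X ⟶ Y)
  (hft : LocP @LocallyOfFiniteType f.hom) (hd : IsDominantMor f.hom)
  (x : Points X.obj) (hx : IsGenericPoint x (Set.univ : Set (Points X.obj)))
  (y : Points Y.obj) (hy : IsGenericPoint y (Set.univ : Set (Points Y.obj)))

include hYi hd hx hy in
theorem map_generic_eq : Points.map f.hom x = y := by
  have : T0Space (Points Y.obj) := t0Space_points Y.property hYi.2.1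
  have h1 : Set.range (Points.map f.hom) ⊆ closure {Points.map f.hom x} := by
    rintro _ ⟨z, rfl⟩
    exact ((hx.specializes (Set.mem_univ z)).map (Points.continuous_map f.hom)).mem_closure
  have h2 : IsGenericPoint (Points.map f.hom x) (Set.univ : Set (Points Y.obj)) := by
    refine Set.univ_subset_iff.1 ?_
    rw [← hd.closure_range]
    exact closure_minimal h1 isClosed_closure
  exact h2.eq hy

include hXi hYi hft hd hx hy in
theorem lqf_generic_iff_unique :
    HasAtMor (fun U _ h u => ∃ W : U.Opens, u ∈ W ∧ LocallyQuasiFinite (W.ι ≫ h) ∧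
      LocallyOfFiniteType (W.ι ≫ h)) f.hom x ↔ ∀ x', Points.map f.hom x' = y → x' = x := by
  have hX0 := dimZero_iff_eq_generic X.property hXi.2.1 hx
  have hy0 := (dimZero_iff_eq_generic Y.property hYi.2.1 hy y).2 rfl
  obtain ⟨h12, h3⟩ := fibre_codimZero_iff_lqf X.property Y.property hft y hy0
  refine ⟨fun h x' hx' => (hX0 x').1 (h3 (fun z _ hz => (hX0 z).1 hz ▸ h) x' hx'), fun h => ?_⟩
  exact h12.1 (fun z hz => (hX0 z).2 (h z hz)) x (map_generic_eq hYi f hd x hx y hy)

theorem resTrdeg_zero_of_lqf {X Y : Sp S} {f : X ⟶ Y} {x : Points X}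
    (h : HasAtMor (fun U _ h u => ∃ W : U.Opens, u ∈ W ∧ LocallyQuasiFinite (W.ι ≫ h) ∧
      LocallyOfFiniteType (W.ι ≫ h)) f x) :
    HasAtMor (fun _ _ h u => Dual3.resTrdeg h u = 0) f x := by
  obtain ⟨U, V, a, b, h, u, ha, hb, w, rfl, W, hu, hq, -⟩ := h
  let W' : Over S := Over.mk (W.ι ≫ U.hom)
  let k : W' ⟶ U := Over.homMk W.ι
  let u' : ↥W'.left := (⟨u, hu⟩ : W)
  refine ⟨W', V, (yon S).map k ≫ a, b, k ≫ h, u',
    RepWith.comp ((repWith_yon_map_iff (P := @Etale) k).2 (inferInstanceAs (Etale W.ι))) ha, hb,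
    by rw [Category.assoc, w, Functor.map_comp, Category.assoc], ofPt_map k a u', ?_⟩
  have : LocallyQuasiFinite (k ≫ h).left := hq
  letI := ((k ≫ h).left.residueFieldMap u').hom.toAlgebra
  have : Module.Finite (V.left.residueField ((k ≫ h).left u')) (W'.left.residueField u') :=
    FlatMorWeight.residueFieldMap_finite (k ≫ h).left u'
  exact trdeg_eq_zero

include hXi hYi hft hd hx hy in
theorem resTrdeg_zero_generic_iff_unique :
    HasAtMor (fun _ _ h u => Dual3.resTrdeg h u = 0) f.hom x ↔ ∀ x', Points.map f.hom x' = y → x' = x := by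
  rw [← lqf_generic_iff_unique hXi hYi f hft hd x hx y hy]
  exact ⟨lqf_of_dimZero_resTrdeg X.property hft ((dimZero_iff_eq_generic X.property hXi.2.1 hx x).2 rfl),
    resTrdeg_zero_of_lqf⟩

/-- the generic point lies in every nonempty open -/
theorem generic_mem_range {F G : Sp S} {j : F ⟶ G} (hG : IsAlgSpace G) (hj : RepWith @IsOpenImmersion j)
    {y : Points G} (hy : IsGenericPoint y (Set.univ : Set (Points G))) (hne : Nonempty (Points F)) :
    y ∈ Set.range (Points.map j) := by
  obtain ⟨v⟩ := hne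
  exact (hy.specializes (Set.mem_univ (Points.map j v))).mem_open (isOpen_range_map hG hj) ⟨v, rfl⟩

include hXi hYi hft hd hx hy in
theorem exists_open_finite_of_unique (hsq : IsSeparatedMor f.hom ∨ IsQuasiCompactMor f.hom)
    (hu : ∀ x', Points.map f.hom x' = y → x' = x) :
    ∃ (Y' X' : AlgSp.Space S) (j : Y' ⟶ Y) (fst : X' ⟶ Y') (snd : X' ⟶ X), RepWith @IsOpenImmersion j.hom ∧
      Dense (Set.range (Points.map j.hom)) ∧ IsPullback fst.hom snd.hom j.hom f.hom ∧
      IsFiniteMor fst.hom := by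
  have hX0 := dimZero_iff_eq_generic X.property hXi.2.1 hx
  have hY0 := dimZero_iff_eq_generic Y.property hYi.2.1 hy
  refine exists_dense_finite_of_codimZero f hft hYi.2.1
    ((Set.finite_singleton x).subset fun z hz => (hX0 z).1 hz)
    ((Set.finite_singleton y).subset fun z hz => (hY0 z).1 hz)
    (fun z => ⟨fun hz => (hY0 _).2 ((hX0 z).1 hz ▸ map_generic_eq hYi f hd x hx y hy),
      fun hz => (hX0 z).2 (hu z ((hY0 _).1 hz))⟩) hsq.symm

include hXi hYi hft hd hx hy in
theorem exists_finite_affine_opens_iff_unique :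
    (∃ (U V : Over S) (a : (yon S).obj U ⟶ X.obj) (b : (yon S).obj V ⟶ Y.obj) (g : U ⟶ V),
      IsAffine U.left ∧ IsAffine V.left ∧ Nonempty ↥U.left ∧
        RepWith @IsOpenImmersion a ∧ RepWith @IsOpenImmersion b ∧
          a ≫ f.hom = (yon S).map g ≫ b ∧ IsFinite g.left) ↔ ∀ x', Points.map f.hom x' = y → x' = x := by
  constructor
  · rintro ⟨U, V, a, b, g, -, -, ⟨u0⟩, ha, hb, w, hg⟩
    obtain ⟨z, hz⟩ := generic_mem_range X.property ha hx ⟨Points.ofScheme U u0⟩
    obtain ⟨u, rfl⟩ := (Points.schemeEquiv _).surjective z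
    refine (lqf_generic_iff_unique hXi hYi f hft hd x hx y hy).1 ?_
    exact ⟨U, V, a, b, g, u, RepWith.mono (fun _ _ k (_ : IsOpenImmersion k) => (inferInstance : Etale k)) ha,
      RepWith.mono (fun _ _ k (_ : IsOpenImmersion k) => (inferInstance : Etale k)) hb, w,
      (Points.ofPt_eq_map_ofScheme a u).trans hz, ⊤, trivial, inferInstance, inferInstance⟩
  · intro hu
    have hfx := map_generic_eq hYi f hd x hx y hy
    obtain ⟨G, jY, hjY, hdY, -⟩ := exists_dense_scheme Y.property hYi.2.1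
    obtain ⟨G', jX, hjX, hdX, -⟩ := exists_dense_scheme X.property hXi.2.1
    have hne : ∀ {F : Sp S} {Z : Sp S} {j : F ⟶ Z}, Dense (Set.range (Points.map j)) → Nonempty (Points Z) →
        Nonempty (Points F) := fun hd' hn => by
      obtain ⟨_, z, -⟩ := hd'.nonempty (h := hn)
      exact ⟨z⟩
    obtain ⟨gy, hgy⟩ := generic_mem_range Y.property hjY hy (hne hdY ⟨y⟩)
    obtain ⟨g₀, rfl⟩ := (Points.schemeEquiv _).surjective gy
    obtain ⟨OV, hOV, hgOV, -⟩ := exists_isAffineOpen_mem_and_subset (x := g₀) (U := ⊤) trivial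
    let V : Over S := Over.mk (OV.ι ≫ G.hom)
    let b := (yon S).map (Over.homMk OV.ι : V ⟶ G) ≫ jY
    have : IsAffine V.left := hOV
    have hb : RepWith @IsOpenImmersion b := RepWith.comp
      ((repWith_yon_map_iff (P := @IsOpenImmersion) _).2 (inferInstanceAs (IsOpenImmersion OV.ι))) hjY
    have hby : y ∈ Set.range (Points.map b) := ⟨Points.ofScheme V (⟨g₀, hgOV⟩ : OV), by
      rw [Points.map_comp, map_yon_map_ofScheme]; exact hgy⟩
    obtain ⟨gx, hgx⟩ := generic_mem_range X.property hjX hx (hne hdX ⟨x⟩)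
    obtain ⟨x₀, rfl⟩ := (Points.schemeEquiv _).surjective gx
    have hO : IsOpen (Points.ofPt jX ⁻¹' (Points.map f.hom ⁻¹' Set.range (Points.map b))) :=
      ((isOpen_range_map Y.property hb).preimage (Points.continuous_map f.hom)).preimage (Points.continuous_ofPt jX)
    have hx₀ : Points.ofPt jX x₀ = x := (Points.ofPt_eq_map_ofScheme jX x₀).trans hgx
    obtain ⟨OU, hOU, hxOU, hOUsub⟩ := exists_isAffineOpen_mem_and_subset (x := x₀) (U := ⟨_, hO⟩)
      (show Points.map f.hom (Points.ofPt jX x₀) ∈ _ by rw [hx₀, hfx]; exact hby)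
    let U : Over S := Over.mk (OU.ι ≫ G'.hom)
    let a := (yon S).map (Over.homMk OU.ι : U ⟶ G') ≫ jX
    have : IsAffine U.left := hOU
    have ha : RepWith @IsOpenImmersion a := RepWith.comp
      ((repWith_yon_map_iff (P := @IsOpenImmersion) _).2 (inferInstanceAs (IsOpenImmersion OU.ι))) hjX
    obtain ⟨l, hl⟩ := (exists_lift_iff_range_subset hb (a ≫ f.hom)).2 (by
      rintro _ ⟨z, rfl⟩
      obtain ⟨w, rfl⟩ := (Points.schemeEquiv _).surjective z
      have h2 : Points.map a (Points.ofScheme U w) = Points.ofPt jX w.1 := by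
        rw [Points.map_comp, map_yon_map_ofScheme, ← Points.ofPt_eq_map_ofScheme]; rfl
      show Points.map (a ≫ f.hom) (Points.ofScheme U w) ∈ _
      rw [Points.map_comp, h2]
      exact hOUsub w.2)
    obtain ⟨g, rfl⟩ := (yon S).map_surjective l
    have hae : RepWith @Etale a := RepWith.mono (fun _ _ k (_ : IsOpenImmersion k) => (inferInstance : Etale k)) ha
    have hbe : RepWith @Etale b := RepWith.mono (fun _ _ k (_ : IsOpenImmersion k) => (inferInstance : Etale k)) hb
    have : LocallyOfFiniteType g.left := hft a b g hae hbe hl.symm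
    let u₀ : ↥U.left := (⟨x₀, hxOU⟩ : OU)
    have hau : Points.ofPt a u₀ = x := (ofPt_map _ _ u₀).trans hx₀
    have : Mono a := mono_of_repWith (fun _ _ k (_ : IsOpenImmersion k) => (inferInstance : Mono k)) ha
    have : Mono b := mono_of_repWith (fun _ _ k (_ : IsOpenImmersion k) => (inferInstance : Mono k)) hb
    have hinj : Function.Injective (Points.ofPt a) := fun p q e => by
      rw [Points.ofPt_eq_map_ofScheme, Points.ofPt_eq_map_ofScheme] at e
      exact (Points.schemeEquiv U).injective (injective_map_of_mono a e)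
    have hfib : g.left ⁻¹' {g.left u₀} ⊆ {u₀} := fun u hu' => hinj (by
      rw [hau]
      refine hu _ ?_
      rw [Points.map_ofPt, ← hl, ofPt_map, show g.left u = g.left u₀ from hu', ← ofPt_map, hl,
        ← Points.map_ofPt, hau, hfx])
    have hmax : ∀ t, t ⤳ g.left u₀ → t = g.left u₀ := eq_of_specializes_stalk _
      ((hasAt_dimZero_iff Y.property b hbe _).1 ((dimZero_iff_eq_generic Y.property hYi.2.1 hy _).2 (by
        rw [← ofPt_map, hl, ← Points.map_ofPt, hau, hfx])))
    obtain ⟨N, hN, hηN, hgN⟩ := exists_isFinite_of_finite_fibre g.left hmax ((Set.finite_singleton u₀).subset hfib)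
    let V' : Over S := Over.mk (N.ι ≫ V.hom)
    let U' : Over S := Over.mk ((g.left ⁻¹ᵁ N).ι ≫ U.hom)
    let g' : U' ⟶ V' := Over.homMk (g.left ∣_ N) (by
      show (g.left ∣_ N) ≫ N.ι ≫ V.hom = (g.left ⁻¹ᵁ N).ι ≫ U.hom
      rw [morphismRestrict_ι_assoc, Over.w g])
    let kU : U' ⟶ U := Over.homMk (g.left ⁻¹ᵁ N).ι
    let kV : V' ⟶ V := Over.homMk N.ι
    have hg' : IsFinite g'.left := hgN
    have hV' : IsAffine V'.left := hN
    have hU' : IsAffine U'.left := isAffine_of_isAffineHom g'.left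
    refine ⟨U', V', (yon S).map kU ≫ a, (yon S).map kV ≫ b, g', hU', hV', ⟨(⟨u₀, hηN⟩ : g.left ⁻¹ᵁ N)⟩,
      RepWith.comp ((repWith_yon_map_iff (P := @IsOpenImmersion) kU).2 (inferInstanceAs (IsOpenImmersion (g.left ⁻¹ᵁ N).ι))) ha,
      RepWith.comp ((repWith_yon_map_iff (P := @IsOpenImmersion) kV).2 (inferInstanceAs (IsOpenImmersion N.ι))) hb, ?_, hg'⟩
    refine (Category.assoc _ _ _).trans ((congrArg ((yon S).map kU ≫ ·) hl.symm).trans ?_)
    exact ((Functor.map_comp_assoc (yon S) kU g b).symm.trans (congrArg (fun t => (yon S).map t ≫ b)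
      (show kU ≫ g = g' ≫ kV from Over.OverMorphism.ext (morphismRestrict_ι g.left N).symm))).trans
      (Functor.map_comp_assoc (yon S) g' kV b)

include hXi hYi hd hx hy in
theorem unique_of_finite_over {P V : Sp S} (hft' : LocP @LocallyOfFiniteType f.hom) (hV : IsAlgSpace V)
    {j : V ⟶ Y.obj} (hj : RepWith @IsOpenImmersion j) (hne : Nonempty (Points V)) {i : P ⟶ X.obj} {g : P ⟶ V}
    (sq : IsPullback i g f.hom j) (hg : IsFiniteMor g) : ∀ x', Points.map f.hom x' = y → x' = x :=
  (lqf_generic_iff_unique hXi hYi f hft' hd x hx y hy).1 (lqf_of_finite_over hV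
    (RepWith.mono (fun _ _ k (_ : IsOpenImmersion k) => (inferInstance : Etale k)) hj) sq hg
    (by rw [map_generic_eq hYi f hd x hx y hy]; exact generic_mem_range Y.property hj hy hne))

end Groth.Agent.AlgSpLib
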