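import Groth.Agent.AlgSpLib.LqfDim
import Groth.Agent.AlgSpLib.IntegralGeneric
import Groth.Agent.AlgSpLib.NoethDecent
import Groth.Agent.EGA43.DimFormula.Dedekind
import Groth.Agent.EGA43.DimFormula.Equidim
import Groth.Agent.EGA43.DimFormula.Charts

/-!
Dimension of the source of a proper dominant morphism.
-/

universe u

open CategoryTheory CategoryTheory.Limits AlgebraicGeometry IsLocalRing TopologicalSpace
open AlgSp

noncomputable section

namespace Groth.Agent.AlgSpLib

set_option backward.isDefEq.respectTransparency.types false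
set_option maxHeartbeats 1000000

open Groth.Agent.EGA43.DimFormula

theorem exists_between_trdAt {U V : Scheme.{u}} (f : U ⟶ V) [LocallyOfFiniteType f] [IsLocallyNoetherian V]
    {ξ x : U} (h : ξ ⤳ x) : ∃ w, ξ ⤳ w ∧ w ⤳ x ∧ f w = f x ∧ trdAt f ξ ≤ trdAt f w := by
  let T : Closeds U := ⟨closure {ξ}, isClosed_closure⟩
  obtain ⟨hirr, hgen⟩ := irreducible_subscheme T ξ rfl
  let ι := (Scheme.IdealSheafData.vanishingIdeal T).subschemeι
  obtain ⟨x₀, hx₀⟩ : x ∈ Set.range ι := by
    rw [Scheme.IdealSheafData.range_subschemeι, Scheme.IdealSheafData.coe_support_vanishingIdeal]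
    exact specializes_iff_mem_closure.1 h
  obtain ⟨z, hz, hze, -, hzt⟩ := exists_fibre_max (ι ≫ f) x₀
  have h1 := trdAt_le_of_specializes (ι ≫ f) (genericPoint_specializes x₀)
  rw [← hzt, trdAt_comp_locallyQuasiFinite, trdAt_comp_locallyQuasiFinite, hgen] at h1
  refine ⟨ι z, ?_, hx₀ ▸ hz.map ι.continuous, ?_, h1⟩
  · have h2 := (genericPoint_specializes z).map ι.continuous
    rwa [hgen] at h2
  · rw [← Scheme.Hom.comp_apply, hze, Scheme.Hom.comp_apply, hx₀]

theorem trdAt_eq_zero_of_closed_in_fibre {U V : Scheme.{u}} (f : U ⟶ V) [LocallyOfFiniteType f] (x : U)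
    (h : ∀ x', f x' = f x → x ⤳ x' → x' = x) : trdAt f x = 0 := by
  haveI : LocallyOfFiniteType (f.fiberToSpecResidueField (f x)) :=
    inferInstanceAs (LocallyOfFiniteType (Limits.pullback.snd f (V.fromSpecResidueField (f x))))
  have h1 : DimLib.ptDim (k := V.residueField (f x)) (f.fiberToSpecResidueField (f x)) (f.asFiber x) = 0 := by
    refine (DimLib.ptDim_eq_zero_iff _ _).2 (isClosed_of_closure_subset fun b hb => ?_)
    have hs := (specializes_iff_mem_closure.2 hb).map (f.fiberι (f x)).continuous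
    rw [f.fiberι_asFiber] at hs
    have he := h _ ((f.range_fiberι _).le ⟨b, rfl⟩) hs
    exact (f.fiberι (f x)).isEmbedding.injective (he.trans (f.fiberι_asFiber x).symm)
  rw [EGA43.FibDepth.ptDim_fiber f, f.fiberι_asFiber] at h1
  exact h1

variable {S : Scheme.{u}} {X Y : AlgSp.Space S} (f : X ⟶ Y)

theorem isClosedMap_map_of_univClosed (h : IsUnivClosedMor f.hom) : IsClosedMap (Points.map f.hom) :=
  h Y.property (𝟙 Y.obj) (𝟙 X.obj) f.hom (IsPullback.of_id_fst)

theorem dim_add_le_of_proper (hY : IsLocNoethSp Y.obj) (hXi : IsIntegralSp X.obj) (hYi : IsIntegralSp Y.obj)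
    (hd : IsDominantMor f.hom) (hp : IsProperMor f.hom)
    (x : Points X.obj) (hx : IsGenericPoint x (Set.univ : Set (Points X.obj))) (r : ℕ)
    (hr : HasAtMor (fun _ _ h u => Dual3.resTrdeg h u = (r : Cardinal.{u})) f.hom x) :
    AlgSp.dim Y.obj + ((r : ℕ∞) : WithBot ℕ∞) ≤ AlgSp.dim X.obj := by
  obtain ⟨V, b, hbe, hbs⟩ := Y.property.atlas
  obtain ⟨U, a, h, hae, has, w⟩ := exists_chart_over X.property Y.property f.hom b hbe hbs
  have : LocallyOfFiniteType h.left := hp.2.1.1 a b h hae hbe w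
  have : IsLocallyNoetherian V.left := isLocallyNoetherian_chart hY b hbe
  have := LocallyOfFiniteType.isLocallyNoetherian h.left
  have hcl := isClosedMap_map_of_univClosed f hp.2.2
  have hffX : ∀ z : Points X.obj, FiniteFibres z := fun z => (FiniteFibres.of_mk (hXi.2.1 z)).2
  have hqX : ∀ z : Points X.obj, HasQcPoint z := fun z => (FiniteFibres.of_mk (hXi.2.1 z)).1
  have hfa : ∀ u : ↥U.left, Points.map f.hom (Points.ofPt a u) = Points.ofPt b (h.left u) := fun u => by
    rw [Points.map_ofPt, w, ofPt_map]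
  let Q : Points X.obj → Prop := fun z => ∀ u : ↥U.left, Points.ofPt a u = z → r ≤ trdAt h.left u
  have hinv : ∀ u u' : ↥U.left, Points.ofPt a u = Points.ofPt a u' → trdAt h.left u = trdAt h.left u' :=
    fun u u' e => by
      have h1 := (hasAtMor_resTrdeg_iff X.property Y.property f.hom a b h hae hbe w u' _).2 rfl
      rw [← e] at h1
      exact congrArg Cardinal.toNat
        ((hasAtMor_resTrdeg_iff X.property Y.property f.hom a b h hae hbe w u _).1 h1)
  have step : ∀ z, Q z → ∀ y', Points.map f.hom z ⤳ y' →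
      ∃ z', z ⤳ z' ∧ Points.map f.hom z' = y' ∧ Q z' := by
    intro z hz y' hy'
    obtain ⟨z', hz', rfl⟩ := hcl.specializingMap hy'
    obtain ⟨u', rfl⟩ := surjective_ofPt a has z'
    obtain ⟨ξ, hξ, rfl⟩ := exists_specializes_chart (hqX z) a hae u' hz'
    obtain ⟨v, hv1, hv2, hv3, hv4⟩ := exists_between_trdAt h.left hξ
    refine ⟨Points.ofPt a v, hv1.map (Points.continuous_ofPt a), by rw [hfa, hfa, hv3], fun u e => ?_⟩
    rw [hinv u v e]
    exact (hz ξ rfl).trans hv4
  obtain ⟨y, hy⟩ : ∃ y, IsGenericPoint y (Set.univ : Set (Points Y.obj)) := by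
    have := quasiSober_points Y.property hYi.2.1
    have := hYi.2.2
    exact ⟨_, genericPoint_spec _⟩
  have hxy : Points.map f.hom x = y := map_generic_eq hYi f hd x hx y hy
  have hQx : Q x := fun u e => by
    have h1 := (hasAtMor_resTrdeg_iff X.property Y.property f.hom a b h hae hbe w u _).1 (e.symm ▸ hr)
    exact ((congrArg Cardinal.toNat h1).trans (Cardinal.toNat_natCast r)).ge
  rw [dim_eq_atlas Y.property b hbe hbs, DimLib.topologicalKrullDim_eq_krullDim]
  rcases isEmpty_or_nonempty ↥V.left with hV | hV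
  · rw [Order.krullDim_eq_bot]; simp
  rw [Order.krullDim_eq_iSup_length, ← WithBot.coe_add, ENat.iSup_add, WithBot.coe_iSup (OrderTop.bddAbove _)]
  refine iSup_le fun s => ?_
  have key : ∀ i : Fin (s.length + 1), ∃ z, Points.map f.hom z = Points.ofPt b (s i) ∧ Q z ∧
      ∀ (u u' : ↥U.left), Points.ofPt a u = z → u ⤳ u' →
        ∃ ξ, ξ ⤳ u' ∧ s.length + cod u u' ≤ cod ξ u' + i := by
    intro i
    induction i using Fin.reverseInduction with
    | last =>
      obtain ⟨z, -, hz1, hz2⟩ := step x hQx _ (hxy ▸ hy.specializes (Set.mem_univ (Points.ofPt b (s (Fin.last _)))))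
      refine ⟨z, hz1, hz2, fun u u' _ hu => ⟨u, hu, ?_⟩⟩
      rw [Fin.val_last]; omega
    | cast i ih =>
      obtain ⟨z, hz1, hz2, hz3⟩ := ih
      have hlt := s.step i
      have hs : (s i.succ : ↥V.left) ⤳ s i.castSucc := hlt.le
      obtain ⟨z', hz', hz'1, hz'2⟩ := step z hz2 (Points.ofPt b (s i.castSucc))
        (hz1.symm ▸ hs.map (Points.continuous_ofPt b))
      refine ⟨z', hz'1, hz'2, fun u u' hu huu' => ?_⟩
      obtain ⟨w', hw', hw'a⟩ := exists_specializes_chart (hqX z) a hae u (hu.symm ▸ hz')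
      have hne : w' ≠ u := fun e => by
        have hzz : z' = z := hu.symm.trans (e ▸ hw'a)
        have he : Points.ofPt b (s i.succ) = Points.ofPt b (s i.castSucc) := by rw [← hz1, ← hz'1, hzz]
        exact hlt.ne (eq_of_specializes_of_finiteFibres (FiniteFibres.of_mk (hYi.2.1 _)).2 b hbe rfl he hs)
      obtain ⟨ξ, hξ, hc⟩ := hz3 w' u' hw'a (hw'.trans huu')
      have := cod_lt_cod hw' huu' hne
      refine ⟨ξ, hξ, ?_⟩
      rw [Fin.val_succ] at hc
      rw [Fin.val_castSucc]
      omega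
  obtain ⟨z, -, hz2, hz3⟩ := key 0
  obtain ⟨u₀, rfl⟩ := surjective_ofPt a has z
  obtain ⟨c, hc1, hc2, hc3⟩ := exists_closed_in_fibre h.left u₀
  obtain ⟨ξ, hξ, hle⟩ := hz3 u₀ c rfl hc1
  have h1 := fibre_formula h.left hc1 hc2.symm
  have h2 := trdAt_eq_zero_of_closed_in_fibre h.left c hc3
  have h3 := hz2 u₀ rfl
  have h4 := cod_le_dimAt hξ
  rw [Fin.val_zero] at hle
  have h5 : s.length + r ≤ dimAt c := by omega
  rw [dim_eq_atlas X.property a hae has, Stk19b.EtaleDim.topologicalKrullDim_eq_iSup_coheight]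
  refine le_iSup_of_le c ?_
  rw [← ringKrullDim_stalk_eq_coheight, ringKrullDim_eq_natDim]
  exact_mod_cast h5

end Groth.Agent.AlgSpLib
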