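import Groth.Agent.AlgSpLib.EtSmPostcomp
import Mathlib.RingTheory.Etale.StandardEtale
import Mathlib.AlgebraicGeometry.Morphisms.Smooth
import Mathlib.Algebra.MvPolynomial.Funext
import Mathlib.RingTheory.TensorProduct.MvPolynomial
import Mathlib.FieldTheory.IsAlgClosed.AlgebraicClosure

/-!
Slicing: if `P` is etale local on the source, smooth local on the base and stable under
postcomposition with open immersions, then `P` descends from an open of `A^n_X` meeting all fibres
over `X`.  The translations by tuples of roots of unity cover `A^n_X`.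
-/

universe u

open CategoryTheory CategoryTheory.Limits AlgebraicGeometry
open AlgSp

noncomputable section

namespace Groth.Agent.AlgSpLib

set_option backward.isDefEq.respectTransparency.types false

/-- a geometric point over a point -/
theorem exists_geometric_point (W : Scheme.{u}) (w : ↥W) :
    ∃ (K : Type u) (_ : Field K) (_ : IsAlgClosed K) (ξ : Spec (CommRingCat.of K) ⟶ W),
      ξ (IsLocalRing.closedPoint K) = w := by
  refine ⟨AlgebraicClosure (W.residueField w), inferInstance, inferInstance,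
    Spec.map (CommRingCat.ofHom (algebraMap (W.residueField w) _)) ≫ W.fromSpecResidueField w, ?_⟩
  rw [Scheme.Hom.comp_apply]
  exact Scheme.fromSpecResidueField_apply _ _

theorem eval_translate {K : Type u} [CommRing K] {n : ℕ} (t v : Fin n → K) (F : MvPolynomial (Fin n) K) :
    MvPolynomial.eval v (MvPolynomial.bind₁ (fun i => MvPolynomial.C (t i) + MvPolynomial.X i) F) =
      MvPolynomial.eval (fun i => t i + v i) F := by
  rw [← MvPolynomial.coe_aeval_eq_eval, ← MvPolynomial.coe_aeval_eq_eval]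
  show (MvPolynomial.aeval v) _ = (MvPolynomial.aeval _) _
  rw [MvPolynomial.aeval_bind₁]
  congr 1
  ext i
  simp

open Polynomial in
/-- a nonzero polynomial does not vanish at some tuple of powers of one root of unity -/
theorem exists_rootOfUnity_avoid {K : Type u} [Field K] [IsAlgClosed K] {n : ℕ}
    (F : MvPolynomial (Fin n) K) (hF : F ≠ 0) :
    ∃ (d ℓ : ℕ) (θ : K), (ℓ : K) ≠ 0 ∧ θ ^ ℓ = 1 ∧
      MvPolynomial.eval (fun i : Fin n => θ ^ (d ^ (i : ℕ))) F ≠ 0 := by
  classical
  obtain ⟨d, hd⟩ : ∃ d, ∀ m ∈ F.support, ∀ i, m i < d :=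
    ⟨(F.support.sup fun m => Finset.univ.sup fun i => m i) + 1, fun m hm i =>
      Nat.lt_succ_of_le ((Finset.le_sup (f := fun i => m i) (Finset.mem_univ i)).trans
        (Finset.le_sup (f := fun m => Finset.univ.sup fun i => m i) hm))⟩
  let e : (Fin n →₀ ℕ) → ℕ := fun m => ∑ i, m i * d ^ (i : ℕ)
  let h : K[X] := MvPolynomial.eval₂ C (fun i : Fin n => X ^ (d ^ (i : ℕ))) F
  have he : h = ∑ m ∈ F.support, C (F.coeff m) * X ^ e m := by
    rw [show h = _ from MvPolynomial.eval₂_eq' _ _ _]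
    refine Finset.sum_congr rfl fun m _ => ?_
    congr 1
    rw [← Finset.prod_pow_eq_pow_sum]
    refine Finset.prod_congr rfl fun i _ => ?_
    rw [← pow_mul, mul_comm]
  have hne : h ≠ 0 := by
    obtain ⟨m0, hm0⟩ := MvPolynomial.ne_zero_iff.1 hF
    have hm0s : m0 ∈ F.support := MvPolynomial.mem_support_iff.2 hm0
    intro h0
    have := congrArg (fun p : K[X] => p.coeff (e m0)) h0
    rw [he] at this
    simp only [finsetSum_coeff, coeff_C_mul_X_pow, coeff_zero] at this
    rw [Finset.sum_eq_single m0 (fun m hm hne' => if_neg ?_) (fun h => absurd hm0s h), if_pos rfl] at this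
    · exact hm0 this
    · intro heq
      apply hne'
      have h1 : finFunctionFinEquiv (fun i : Fin n => (⟨m0 i, hd m0 hm0s i⟩ : Fin d)) =
          finFunctionFinEquiv (fun i => ⟨m i, hd m hm i⟩) := by
        apply Fin.ext
        rw [finFunctionFinEquiv_apply, finFunctionFinEquiv_apply]
        exact heq
      ext i
      exact (congrArg Fin.val (congrFun (finFunctionFinEquiv.injective h1) i)).symm
  obtain ⟨ℓ, hℓ, hp⟩ := Nat.exists_infinite_primes (h.natDegree + ringChar K + 1)
  have hℓK : (ℓ : K) ≠ 0 := fun h0 => by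
    rcases hp.eq_one_or_self_of_dvd _ ((ringChar.spec K ℓ).1 h0) with h1 | h1
    · exact CharP.ringChar_ne_one h1
    · omega
  have hcard : ((X ^ ℓ - C 1 : K[X]).roots.toFinset).card = ℓ := by
    rw [Multiset.toFinset_card_of_nodup (nodup_roots (separable_X_pow_sub_C 1 hℓK one_ne_zero)),
      IsAlgClosed.card_roots_eq_natDegree, natDegree_X_pow_sub_C]
  obtain ⟨θ, hθ, hθh⟩ : ∃ θ ∈ (X ^ ℓ - C 1 : K[X]).roots.toFinset, h.eval θ ≠ 0 := by
    by_contra hc
    push Not at hc
    have h1 : (X ^ ℓ - C 1 : K[X]).roots.toFinset ⊆ h.roots.toFinset := fun x hx => by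
      rw [Multiset.mem_toFinset, mem_roots hne]; exact hc x hx
    have h2 := (Finset.card_le_card h1).trans ((Multiset.toFinset_card_le _).trans h.card_roots')
    omega
  refine ⟨d, ℓ, θ, hℓK, ?_, ?_⟩
  · have := isRoot_of_mem_roots (Multiset.mem_toFinset.1 hθ)
    simpa [sub_eq_zero] using this
  · have : h.eval θ = MvPolynomial.eval (fun i : Fin n => θ ^ (d ^ (i : ℕ))) F := by
      rw [he, MvPolynomial.eval_eq', eval_finsetSum]
      refine Finset.sum_congr rfl fun m _ => ?_
      rw [eval_C_mul, eval_pow, eval_X, ← Finset.prod_pow_eq_pow_sum]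
      congr 1
      refine Finset.prod_congr rfl fun i _ => ?_
      rw [← pow_mul, mul_comm]
    rwa [this] at hθh

open Polynomial in
/-- the standard etale pair of `μ_ℓ` over `Z[1/ℓ]` -/
def muPair (R : Type u) [CommRing R] (ℓ : ℕ) : StandardEtalePair R where
  f := X ^ (ℓ + 1) - C 1
  monic_f := monic_X_pow_sub_C 1 ℓ.succ_ne_zero
  g := C ((ℓ + 1 : ℕ) : R)
  cond := ⟨X, -C ((ℓ + 1 : ℕ) : R), 1, by
    rw [derivative_sub, derivative_X_pow, derivative_C, Nat.add_sub_cancel, map_one, pow_succ]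
    ring⟩

namespace EtSmLocal

variable {S : Scheme.{u}} {P : MorphismProperty (Sp S)}

/-- `A^n` over an affine scheme over `S` -/
abbrev affSp {R : Type u} [CommRing R] (σ : Spec (CommRingCat.of R) ⟶ S) (n : ℕ) : Over S :=
  Over.mk (Spec.map (CommRingCat.ofHom (MvPolynomial.C : R →+* MvPolynomial (Fin n) R)) ≫ σ)

abbrev affSpProj {R : Type u} [CommRing R] (σ : Spec (CommRingCat.of R) ⟶ S) (n : ℕ) :
    affSp σ n ⟶ Over.mk σ :=
  Over.homMk (Spec.map (CommRingCat.ofHom (MvPolynomial.C : R →+* MvPolynomial (Fin n) R))) rfl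

theorem isPullback_affSp {R R1 : Type u} [CommRing R] [CommRing R1] (κ : R →+* R1) (n : ℕ) :
    IsPullback (Spec.map (CommRingCat.ofHom (MvPolynomial.map κ : MvPolynomial (Fin n) R →+* _)))
      (Spec.map (CommRingCat.ofHom (MvPolynomial.C : R1 →+* MvPolynomial (Fin n) R1)))
      (Spec.map (CommRingCat.ofHom (MvPolynomial.C : R →+* MvPolynomial (Fin n) R)))
      (Spec.map (CommRingCat.ofHom κ)) := by
  letI := κ.toAlgebra
  letI := MvPolynomial.algebraMvPolynomial (σ := Fin n) (R := R) (S := R1)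
  exact isPullback_SpecMap_of_isPushout _ _ _ _
    (CommRingCat.isPushout_of_isPushout R (MvPolynomial (Fin n) R) R1 (MvPolynomial (Fin n) R1))

theorem smooth_affSpProj {R : Type u} [CommRing R] (n : ℕ) :
    Smooth (Spec.map (CommRingCat.ofHom (MvPolynomial.C : R →+* MvPolynomial (Fin n) R))) :=
  (HasRingHomProperty.Spec_iff (P := @Smooth)).2
    (RingHom.smooth_algebraMap.2 (⟨inferInstance, inferInstance⟩ : Algebra.Smooth R (MvPolynomial (Fin n) R)))

set_option maxHeartbeats 1000000 in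
/-- `P` descends to `X ⟶ Y` from an open of `A^n_X` surjecting onto `X` -/
theorem sch_slice (h : EtSmLocal P) {R : Type u} [CommRing R] (σ : Spec (CommRingCat.of R) ⟶ S)
    {n : ℕ} {X : Over S} (f : X ⟶ Over.mk σ) {G : Over S} (jG : G ⟶ pullback f (affSpProj σ n))
    [IsOpenImmersion jG.left]
    (hG : ∀ x : ↥X.left, x ∈ Set.range (jG ≫ pullback.fst f (affSpProj σ n)).left)
    (hP : Q P (jG ≫ pullback.snd f (affSpProj σ n))) : Q P f := by
  classical
  let a := affSpProj σ n
  have sqX := IsPullback.of_hasPullback f a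
  have ha : Smooth a.left := smooth_affSpProj n
  suffices hq : Q P (pullback.snd f a) by
    refine ((h.base (fun _ : PUnit.{u + 1} => (yon S).obj (affSp σ n)) (fun _ => (yon S).map a)
      (IsAlgSpace.yon_obj _) (fun _ => IsAlgSpace.yon_obj _) ⟨fun _ => locP_smooth_yon a, fun p => ?_⟩)
      _ (IsAlgSpace.yon_obj X) (fun _ => (yon S).obj (pullback f a))
      (fun _ => (yon S).map (pullback.snd _ _)) (fun _ => (yon S).map (pullback.fst _ _))
      (fun _ => IsAlgSpace.yon_obj _) fun _ => sqX.map (yon S)).2 fun _ => hq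
    refine ⟨⟨⟩, Points.ofScheme _ (Spec.map (CommRingCat.ofHom
      (MvPolynomial.eval₂Hom (RingHom.id R) fun _ => 0)) (Points.toScheme _ p)), ?_⟩
    rw [map_yon_map_ofScheme]
    conv_rhs => rw [← Points.ofScheme_toScheme _ p]
    congr 1
    show (Spec.map _ ≫ Spec.map _) _ = _
    rw [← Spec.map_comp, ← CommRingCat.ofHom_comp]
    have : (MvPolynomial.eval₂Hom (RingHom.id R) fun _ : Fin n => (0 : R)).comp MvPolynomial.C = RingHom.id R :=
      RingHom.ext fun r => MvPolynomial.eval₂_C _ _ _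
    rw [this, CommRingCat.ofHom_id, Spec.map_id]
    rfl
  let pr : ∀ ℓ : ℕ, MvPolynomial (Fin n) R →+* MvPolynomial (Fin n) (muPair R ℓ).Ring := fun ℓ =>
    MvPolynomial.map (algebraMap R _)
  let φ : ℕ → ∀ ℓ : ℕ, MvPolynomial (Fin n) R →+* MvPolynomial (Fin n) (muPair R ℓ).Ring := fun d ℓ =>
    MvPolynomial.eval₂Hom (MvPolynomial.C.comp (algebraMap R _))
      fun i => MvPolynomial.X i + MvPolynomial.C ((muPair R ℓ).X ^ (d ^ (i : ℕ)))
  let A1 : ℕ → Over S := fun ℓ => Over.mk (Spec.map (CommRingCat.ofHom (pr ℓ)) ≫ (affSp σ n).hom)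
  let sp : ∀ ℓ, A1 ℓ ⟶ affSp σ n := fun ℓ => Over.homMk (Spec.map (CommRingCat.ofHom (pr ℓ))) rfl
  have hφC : ∀ d ℓ, Spec.map (CommRingCat.ofHom (φ d ℓ)) ≫ a.left = Spec.map (CommRingCat.ofHom (pr ℓ)) ≫ a.left := by
    intro d ℓ
    show Spec.map _ ≫ Spec.map _ = Spec.map _ ≫ Spec.map _
    rw [← Spec.map_comp, ← Spec.map_comp, ← CommRingCat.ofHom_comp, ← CommRingCat.ofHom_comp]
    congr 2
    refine RingHom.ext fun r => ?_
    simp [φ, pr]
  let sφ : ∀ d ℓ, A1 ℓ ⟶ affSp σ n := fun d ℓ => Over.homMk (Spec.map (CommRingCat.ofHom (φ d ℓ))) (by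
    show Spec.map _ ≫ a.left ≫ σ = Spec.map _ ≫ a.left ≫ σ
    rw [← Category.assoc, hφC, Category.assoc])
  have hwa : ∀ d ℓ, sφ d ℓ ≫ a = sp ℓ ≫ a := fun d ℓ => Over.OverMorphism.ext (hφC d ℓ)
  have hpe : ∀ ℓ, Etale (sp ℓ).left := fun ℓ =>
    MorphismProperty.of_isPullback (P := @Etale) (isPullback_affSp (algebraMap R (muPair R ℓ).Ring) n).flip
      ((HasRingHomProperty.Spec_iff (P := @Etale)).2
        (RingHom.etale_algebraMap.2 (inferInstance : Algebra.Etale R (muPair R ℓ).Ring)))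
  have hps : ∀ ℓ, IsSeparated (sp ℓ).left := fun ℓ =>
    (inferInstance : IsSeparated (Spec.map (CommRingCat.ofHom (pr ℓ))))
  have hφe : ∀ d ℓ, Etale (sφ d ℓ).left := fun d ℓ => by
    let v : Fin n → (muPair R ℓ).Ring := fun i => (muPair R ℓ).X ^ (d ^ (i : ℕ))
    let α : MvPolynomial (Fin n) (muPair R ℓ).Ring ≃ₐ[(muPair R ℓ).Ring] MvPolynomial (Fin n) (muPair R ℓ).Ring :=
      AlgEquiv.ofAlgHom (MvPolynomial.aeval fun i => MvPolynomial.X i + MvPolynomial.C (v i))
        (MvPolynomial.aeval fun i => MvPolynomial.X i - MvPolynomial.C (v i))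
        (MvPolynomial.algHom_ext fun i => by simp) (MvPolynomial.algHom_ext fun i => by simp)
    have hα : φ d ℓ = α.toRingEquiv.toRingHom.comp (pr ℓ) := by
      refine MvPolynomial.ringHom_ext (fun r => ?_) fun i => ?_
      · simp [φ, pr, α]
      · simp [φ, pr, α, v]
    show Etale (Spec.map (CommRingCat.ofHom (φ d ℓ)))
    have : IsIso (CommRingCat.ofHom α.toRingEquiv.toRingHom) :=
      inferInstanceAs (IsIso α.toRingEquiv.toCommRingCatIso.hom)
    rw [hα, CommRingCat.ofHom_comp, Spec.map_comp]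
    have : Etale (Spec.map (CommRingCat.ofHom (pr ℓ))) := hpe ℓ
    infer_instance
  have sqφ := fun d ℓ => IsPullback.of_hasPullback (pullback.snd f a) (sφ d ℓ)
  let φX := fun d ℓ => pullback.fst (pullback.snd f a) (sφ d ℓ)
  let q1 := fun d ℓ => pullback.snd (pullback.snd f a) (sφ d ℓ)
  have outer : ∀ d ℓ, IsPullback (φX d ℓ ≫ pullback.fst f a) (q1 d ℓ) f (sp ℓ ≫ a) := fun d ℓ => by
    rw [← hwa d ℓ]; exact (sqφ d ℓ).paste_horiz sqX
  let prX := fun d ℓ => sqX.lift (φX d ℓ ≫ pullback.fst f a) (q1 d ℓ ≫ sp ℓ)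
    (by rw [(outer d ℓ).w, Category.assoc])
  have sqp : ∀ d ℓ, IsPullback (prX d ℓ) (q1 d ℓ) (pullback.snd f a) (sp ℓ) := fun d ℓ =>
    IsPullback.of_right (by rw [sqX.lift_fst]; exact outer d ℓ) (sqX.lift_snd _ _ _) sqX
  let I : Type u := ULift.{u} (ℕ × ℕ)
  have sqG := fun i : I => IsPullback.of_hasPullback (φX i.down.1 i.down.2) jG
  refine h.sch_source _ (fun i : I => pullback (φX i.down.1 i.down.2) jG)
    (fun i => pullback.fst _ _ ≫ prX i.down.1 i.down.2) (fun i => ?_) (fun w => ?_) (fun i => ?_)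
  · have h1 : Etale (pullback.fst (φX i.down.1 i.down.2) jG).left :=
      MorphismProperty.of_isPullback (isPullback_left (sqG i)).flip (show Etale jG.left from inferInstance)
    have h2 : Etale (prX i.down.1 i.down.2).left :=
      MorphismProperty.of_isPullback (isPullback_left (sqp _ _)).flip (hpe _)
    exact inferInstanceAs (Etale ((pullback.fst (φX i.down.1 i.down.2) jG).left ≫ (prX i.down.1 i.down.2).left))
  swap
  · rw [Category.assoc, (sqp _ _).w, ← Category.assoc]
    have := hpe i.down.2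
    have := hps i.down.2
    have := hφe i.down.1 i.down.2
    exact h.sch_postEtale _ _ (h.sch_baseChange (g := sφ i.down.1 i.down.2)
      (g' := pullback.snd (φX i.down.1 i.down.2) jG)
      ((sqG i).flip.paste_vert (sqφ i.down.1 i.down.2)) hP)
  -- the translations cover
  obtain ⟨K, _, _, ξ, hξ⟩ := exists_geometric_point (pullback f a).left w
  obtain ⟨χ, hχ⟩ : ∃ χ : MvPolynomial (Fin n) R →+* K, Spec.map (CommRingCat.ofHom χ) = ξ ≫ (pullback.snd f a).left :=
    ⟨(Spec.preimage (ξ ≫ (pullback.snd f a).left)).hom, Spec.map_preimage _⟩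
  let κ : R →+* K := χ.comp MvPolynomial.C
  let t : Fin n → K := fun i => χ (MvPolynomial.X i)
  have hκ : Spec.map (CommRingCat.ofHom κ) = ξ ≫ (pullback.fst f a).left ≫ f.left := by
    rw [← Over.comp_left, sqX.w, Over.comp_left, reassoc_of% hχ.symm]
    show Spec.map _ = Spec.map _ ≫ Spec.map (CommRingCat.ofHom MvPolynomial.C)
    rw [← Spec.map_comp]
    rfl
  let xb : Spec (CommRingCat.of K) ⟶ X.left := ξ ≫ (pullback.fst f a).left
  have sqL := isPullback_left sqX
  have sqK := isPullback_affSp κ n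
  let m : Spec (CommRingCat.of (MvPolynomial (Fin n) K)) ⟶ (pullback f a).left :=
    sqL.lift (Spec.map (CommRingCat.ofHom MvPolynomial.C) ≫ xb) (Spec.map (CommRingCat.ofHom (MvPolynomial.map κ)))
      (by rw [Category.assoc, Category.assoc, ← hκ]; exact sqK.w.symm)
  have sqm : IsPullback m (Spec.map (CommRingCat.ofHom (MvPolynomial.C : K →+* MvPolynomial (Fin n) K)))
      (pullback.fst f a).left xb := by
    refine IsPullback.of_right ?_ (sqL.lift_fst _ _ _) sqL.flip
    rw [sqL.lift_snd, Category.assoc, ← hκ]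
    exact sqK
  -- a nonempty basic open of the geometric fibre inside `G`
  obtain ⟨g, hg⟩ := hG ((pullback.fst f a).left w)
  obtain ⟨z, hz, -⟩ := Scheme.exists_preimage_of_isPullback sqm (jG.left g) (IsLocalRing.closedPoint K)
    (hg.trans (congrArg (pullback.fst f a).left hξ.symm))
  obtain ⟨U, ⟨F, rfl⟩, hzF, hsub⟩ := PrimeSpectrum.isTopologicalBasis_basic_opens.exists_subset_of_mem_open
    (show z ∈ m ⁻¹' Set.range jG.left from ⟨g, hz.symm⟩)
    (jG.left.isOpenEmbedding.isOpen_range.preimage m.continuous)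
  have hF0 : F ≠ 0 := fun h0 => by
    replace hzF : F ∉ z.asIdeal := hzF
    exact hzF (by rw [h0]; exact z.asIdeal.zero_mem)
  let F' : MvPolynomial (Fin n) K := MvPolynomial.bind₁ (fun i => MvPolynomial.C (t i) + MvPolynomial.X i) F
  have hev : ∀ v : Fin n → K, MvPolynomial.eval v F' = MvPolynomial.eval (fun i => t i + v i) F := fun v =>
    eval_translate t v F
  have hF' : F' ≠ 0 := fun h0 => hF0 (MvPolynomial.funext fun v => by
    have := hev fun i => v i - t i
    simp [h0] at this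
    simpa using this.symm)
  obtain ⟨d, ℓ, θ, hℓ, hθ, hne⟩ := exists_rootOfUnity_avoid F' hF'
  rw [hev] at hne
  obtain _ | ℓ := ℓ
  · simp at hℓ
  let v : Fin n → K := fun i => t i + θ ^ (d ^ (i : ℕ))
  letI := κ.toAlgebra
  have hmap : (muPair R ℓ).HasMap θ := by
    refine ⟨?_, ?_⟩
    · simp [muPair, hθ]
    · simp only [muPair, map_natCast]
      exact Ne.isUnit hℓ
  let κ1 : (muPair R ℓ).Ring →+* K := ((muPair R ℓ).lift θ hmap).toRingHom
  have hκ1 : κ1.comp (algebraMap R _) = κ := ((muPair R ℓ).lift θ hmap).comp_algebraMap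
  let z1 : MvPolynomial (Fin n) (muPair R ℓ).Ring →+* K := MvPolynomial.eval₂Hom κ1 t
  have hz1p : z1.comp (pr ℓ) = χ := by
    refine MvPolynomial.ringHom_ext (fun r => ?_) fun i => ?_
    · simpa [z1, pr, κ] using RingHom.congr_fun hκ1 r
    · simp [z1, pr, t]
  have hz1φ : z1.comp (φ d ℓ) = (MvPolynomial.eval v).comp (MvPolynomial.map κ) := by
    refine MvPolynomial.ringHom_ext (fun r => ?_) fun i => ?_
    · simpa [z1, φ] using RingHom.congr_fun hκ1 r
    · simp [z1, φ, v, κ1, StandardEtalePair.lift_X]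
  -- the translated point lies in `G`
  let e' : Spec (CommRingCat.of K) ⟶ (pullback f a).left := Spec.map (CommRingCat.ofHom (MvPolynomial.eval v)) ≫ m
  have he'G : e' (IsLocalRing.closedPoint K) ∈ Set.range jG.left := by
    refine hsub ?_
    show F ∉ ((Spec.map (CommRingCat.ofHom (MvPolynomial.eval v))) (IsLocalRing.closedPoint K)).asIdeal
    intro hmem
    replace hmem : MvPolynomial.eval v F ∈ IsLocalRing.maximalIdeal K := hmem
    rw [IsLocalRing.maximalIdeal_eq_bot, Ideal.mem_bot] at hmem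
    exact hne hmem
  have sqφL := isPullback_left (sqφ d ℓ)
  let ω : Spec (CommRingCat.of K) ⟶ (pullback (pullback.snd f a) (sφ d ℓ)).left :=
    sqφL.lift e' (Spec.map (CommRingCat.ofHom z1)) (by
      rw [Category.assoc, sqL.lift_snd, ← Spec.map_comp, ← CommRingCat.ofHom_comp, ← hz1φ]
      show _ = Spec.map _ ≫ Spec.map (CommRingCat.ofHom (φ d ℓ))
      rw [← Spec.map_comp]
      rfl)
  obtain ⟨g', hg'⟩ := he'G
  obtain ⟨r, hr, -⟩ := Scheme.exists_preimage_of_isPullback (isPullback_left (sqG ⟨(d, ℓ)⟩))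
    (ω (IsLocalRing.closedPoint K)) g' (by rw [← Scheme.Hom.comp_apply, sqφL.lift_fst, ← hg'])
  refine ⟨⟨(d, ℓ)⟩, r, ?_⟩
  rw [Over.comp_left, Scheme.Hom.comp_apply, hr, ← Scheme.Hom.comp_apply]
  have : ω ≫ (prX d ℓ).left = ξ := by
    apply sqL.hom_ext
    · rw [Category.assoc, ← Over.comp_left, sqX.lift_fst, Over.comp_left, ← Category.assoc, sqφL.lift_fst,
        Category.assoc, sqL.lift_fst, ← Category.assoc, ← Spec.map_comp, ← CommRingCat.ofHom_comp]
      have : (MvPolynomial.eval v).comp MvPolynomial.C = RingHom.id K := RingHom.ext fun r => MvPolynomial.eval_C r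
      rw [this, CommRingCat.ofHom_id, Spec.map_id, Category.id_comp]
    · rw [Category.assoc, ← Over.comp_left, sqX.lift_snd, Over.comp_left, ← Category.assoc, sqφL.lift_snd,
        ← hχ, ← hz1p]
      show Spec.map _ ≫ Spec.map (CommRingCat.ofHom (pr ℓ)) = _
      rw [← Spec.map_comp]
      rfl
  rw [this, hξ]

end EtSmLocal

end Groth.Agent.AlgSpLib
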