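import Groth.Agent.Et18.H0Lift.ConnNbhd
import Groth.Agent.AlgSpLib.Points
import Groth.Agent.AlgSpLib.PointsTop
import Groth.Agent.AlgSpLib.DimProper
import Groth.Agent.AlgSpLib.EtSmSlice
import Mathlib.AlgebraicGeometry.Sites.EtalePoint

/-!
The number of connected components of the geometric fibres of a proper flat space with geometrically
reduced fibres is upper semicontinuous.
-/

universe u

open CategoryTheory CategoryTheory.Limits AlgebraicGeometry Opposite
open AlgSp

noncomputable section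

set_option linter.style.haveILetI false

namespace Groth.Agent.AlgSpLib.CompsUsc

open Groth.Agent.AlgSpLib

set_option backward.isDefEq.respectTransparency.types false
set_option backward.isDefEq.respectTransparency false

/-- a point over a geometric point lifts to a prescribed point of an etale base change -/
theorem exists_fibre_lift {W U V : Scheme.{u}} (g : W ⟶ V) (a : U ⟶ V) [Etale a]
    {k : Type u} [Field k] [IsSepClosed k] (s : Spec (CommRingCat.of k) ⟶ V)
    (z : ↑(pullback g s)) (o : ↑(pullback g a)) (h : pullback.fst g a o = pullback.fst g s z) :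
    ∃ (t : Spec (CommRingCat.of k) ⟶ U) (ht : t ≫ a = s),
      (pullback.lift (pullback.fst g s) (pullback.snd g s ≫ t)
        (by rw [Category.assoc, ht, pullback.condition]) : pullback g s ⟶ pullback g a) z = o := by
  obtain ⟨q, hqo, hqz⟩ := Scheme.Pullback.exists_preimage_pullback (f := pullback.fst g a)
    (g := pullback.fst g s) o z h
  let χ : pullback (pullback.fst g a) (pullback.fst g s) ⟶ pullback a s :=
    pullback.lift (pullback.fst _ _ ≫ pullback.snd g a) (pullback.snd _ _ ≫ pullback.snd g s) (by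
      rw [Category.assoc, Category.assoc, ← pullback.condition (f := g) (g := a), ← pullback.condition (f := g) (g := s),
        pullback.condition_assoc])
  obtain ⟨tk, htk, htp⟩ := Scheme.exists_fac_of_etale_of_isSepClosed (pullback.snd a s) (Ω := k) (𝟙 _) (χ q)
    (Subsingleton.elim _ _)
  haveI : IsOpenImmersion tk := by
    haveI : Mono tk := mono_of_mono_fac htk
    haveI : Etale (tk ≫ pullback.snd a s) := htk ▸ inferInstance
    haveI : Etale tk := Etale.of_comp tk (pullback.snd a s)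
    exact IsOpenImmersion.of_flat_of_mono tk
  let t := tk ≫ pullback.fst a s
  have ht : t ≫ a = s := by
    rw [Category.assoc, pullback.condition, ← Category.assoc, htk, Category.id_comp]
  refine ⟨t, ht, ?_⟩
  let Q₀ : (pullback (pullback.fst g a) (pullback.fst g s)).Opens := χ ⁻¹ᵁ tk.opensRange
  have hq : q ∈ Q₀ := ⟨default, htp⟩
  have hsub : Set.range (Q₀.ι ≫ χ) ⊆ Set.range tk := by
    rintro _ ⟨w, rfl⟩
    exact w.2
  have e := IsOpenImmersion.lift_fac tk (Q₀.ι ≫ χ) hsub
  have e₁ : IsOpenImmersion.lift tk (Q₀.ι ≫ χ) hsub = Q₀.ι ≫ pullback.snd _ _ ≫ pullback.snd g s := by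
    have := congrArg (· ≫ pullback.snd a s) e
    simp only [Category.assoc, htk, Category.comp_id, χ, pullback.lift_snd] at this
    exact this
  have e₂ : Q₀.ι ≫ pullback.snd _ _ ≫ pullback.snd g s ≫ t = Q₀.ι ≫ pullback.fst _ _ ≫ pullback.snd g a := by
    have := congrArg (· ≫ pullback.fst a s) e
    rw [e₁] at this
    simp only [Category.assoc, χ, pullback.lift_fst] at this
    exact this
  let M : pullback g s ⟶ pullback g a := pullback.lift (pullback.fst g s) (pullback.snd g s ≫ t)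
    (by rw [Category.assoc, ht, pullback.condition])
  have eM : Q₀.ι ≫ pullback.snd _ _ ≫ M = Q₀.ι ≫ pullback.fst _ _ := by
    apply pullback.hom_ext
    · simp only [M, Category.assoc, pullback.lift_fst]
      rw [pullback.condition]
    · simp only [M, Category.assoc, pullback.lift_snd]
      exact e₂
  have := congrArg (fun f => f ⟨q, hq⟩) eM
  simp only [Scheme.Hom.comp_apply] at this
  rw [← hqz, ← hqo]
  exact this

/-- a common etale neighbourhood -/
theorem exists_common {V : Scheme.{u}} {k : Type u} [Field k] (s : Spec (CommRingCat.of k) ⟶ V) {ι : Type*}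
    (U : ι → Scheme.{u}) (a : ∀ i, U i ⟶ V) (ha : ∀ i, Etale (a i)) (t : ∀ i, Spec (CommRingCat.of k) ⟶ U i)
    (ht : ∀ i, t i ≫ a i = s) (J : Finset ι) :
    ∃ (U' : Scheme.{u}) (e : U' ⟶ V) (_ : Etale e) (t' : Spec (CommRingCat.of k) ⟶ U') (_ : t' ≫ e = s),
      ∀ i ∈ J, ∃ h : U' ⟶ U i, h ≫ a i = e ∧ t' ≫ h = t i := by
  classical
  induction J using Finset.induction_on with
  | empty => exact ⟨V, 𝟙 V, inferInstance, s, Category.comp_id _, by simp⟩
  | @insert i J hi ih =>
    obtain ⟨U', e, he, t', ht', hJ⟩ := ih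
    haveI := ha i
    refine ⟨pullback e (a i), pullback.fst _ _ ≫ e, inferInstance, pullback.lift t' (t i) (by rw [ht', ht]),
      by rw [pullback.lift_fst_assoc, ht'], fun j hj => ?_⟩
    rcases Finset.mem_insert.1 hj with rfl | hj
    · exact ⟨pullback.snd _ _, pullback.condition.symm, pullback.lift_snd _ _ _⟩
    · obtain ⟨h, h1, h2⟩ := hJ j hj
      exact ⟨pullback.fst _ _ ≫ h, by rw [Category.assoc, h1], by rw [pullback.lift_fst_assoc, h2]⟩

/-- two points of a fibre in a connected neighbourhood lie in one component -/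
theorem component_eq_of_nhd {W U U' V : Scheme.{u}} (g : W ⟶ V) (a : U ⟶ V) (O : (pullback g a).Opens)
    (hjoin : ∀ (Ω : Type u) [Field Ω] [IsAlgClosed Ω] (t : Spec (CommRingCat.of Ω) ⟶ U)
      (z₁ z₂ : Spec (CommRingCat.of Ω) ⟶ pullback g a) (h₁ : z₁ ≫ pullback.snd g a = t)
      (h₂ : z₂ ≫ pullback.snd g a = t), z₁ default ∈ O → z₂ default ∈ O →
      connectedComponent ((pullback.lift z₁ (𝟙 _) (by rw [h₁, Category.id_comp]) :
          Spec (CommRingCat.of Ω) ⟶ pullback (pullback.snd g a) t) default) =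
        connectedComponent ((pullback.lift z₂ (𝟙 _) (by rw [h₂, Category.id_comp]) :
          Spec (CommRingCat.of Ω) ⟶ pullback (pullback.snd g a) t) default))
    (e : U' ⟶ V) (h : U' ⟶ U) (he : h ≫ a = e) {L : Type u} [Field L] (τ : Spec (CommRingCat.of L) ⟶ U')
    (w₁ w₂ : ↑(pullback g (τ ≫ e)))
    (m : pullback g (τ ≫ e) ⟶ pullback g a) (hm₁ : m ≫ pullback.fst g a = pullback.fst g (τ ≫ e))
    (hm₂ : m ≫ pullback.snd g a = pullback.snd g (τ ≫ e) ≫ τ ≫ h)
    (h₁ : m w₁ ∈ O) (h₂ : m w₂ ∈ O) : connectedComponent w₁ = connectedComponent w₂ := by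
  obtain ⟨q, hq₁, hq₂⟩ := Scheme.Pullback.exists_preimage_pullback (f := pullback.snd g (τ ≫ e))
    (g := pullback.snd g (τ ≫ e)) w₁ w₂ (Subsingleton.elim _ _)
  obtain ⟨Ω, _, _, ξ, hξ⟩ := exists_geometric_point _ q
  have hd : ξ default = q := (congrArg ξ (Subsingleton.elim _ _)).trans hξ
  let ω₁ := ξ ≫ pullback.fst _ _
  let ω₂ := ξ ≫ pullback.snd _ _
  let ε := ω₁ ≫ pullback.snd g (τ ≫ e)
  have hε : ω₂ ≫ pullback.snd g (τ ≫ e) = ε := by
    simp only [ε, ω₁, ω₂, Category.assoc, pullback.condition]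
  let t := ε ≫ τ ≫ h
  let l : pullback (pullback.snd g a) t ⟶ pullback g (τ ≫ e) :=
    pullback.lift (pullback.fst _ _ ≫ pullback.fst g a) (pullback.snd _ _ ≫ ε) (by
      simp only [Category.assoc, pullback.condition (f := g) (g := a)]
      rw [pullback.condition_assoc]
      simp only [t, Category.assoc, he])
  have hz : ∀ (ω : Spec (CommRingCat.of Ω) ⟶ pullback g (τ ≫ e)), ω ≫ pullback.snd g (τ ≫ e) = ε →
      (ω ≫ m) ≫ pullback.snd g a = t := fun ω hω => by
    rw [Category.assoc, hm₂, reassoc_of% hω]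
  have hl : ∀ (ω : Spec (CommRingCat.of Ω) ⟶ pullback g (τ ≫ e)) (hω : ω ≫ pullback.snd g (τ ≫ e) = ε),
      (pullback.lift (ω ≫ m) (𝟙 _) (by rw [hz ω hω, Category.id_comp]) :
        Spec (CommRingCat.of Ω) ⟶ pullback (pullback.snd g a) t) ≫ l = ω := fun ω hω => by
    apply pullback.hom_ext
    · simp only [l, Category.assoc, pullback.lift_fst, pullback.lift_fst_assoc, hm₁]
    · simp only [l, Category.assoc, pullback.lift_snd, pullback.lift_snd_assoc]
      rw [Category.id_comp]
      exact hω.symm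
  have e₁ : ω₁ default = w₁ := by rw [Scheme.Hom.comp_apply, hd, hq₁]
  have e₂ : ω₂ default = w₂ := by rw [Scheme.Hom.comp_apply, hd, hq₂]
  have hj := hjoin Ω t (ω₁ ≫ m) (ω₂ ≫ m) (hz ω₁ rfl) (hz ω₂ hε)
    (by rw [Scheme.Hom.comp_apply, e₁]; exact h₁) (by rw [Scheme.Hom.comp_apply, e₂]; exact h₂)
  have h3 := l.continuous.mapsTo_connectedComponent _ (hj ▸ mem_connectedComponent)
  rw [← Scheme.Hom.comp_apply, ← Scheme.Hom.comp_apply, hl ω₁ rfl, hl ω₂ hε, e₁, e₂] at h3
  exact connectedComponent_eq h3 |>.symm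

section Main

variable {S : Scheme.{u}}

/-- the base change of a chart -/
def WT {W V T : Over S} (g : W ⟶ V) (e : T ⟶ V) : Over S := Over.mk (pullback.snd g.left e.left ≫ T.hom)

def fstW {W V T : Over S} (g : W ⟶ V) (e : T ⟶ V) : WT g e ⟶ W := Over.homMk (pullback.fst g.left e.left) (by
  show pullback.fst g.left e.left ≫ W.hom = pullback.snd g.left e.left ≫ T.hom
  rw [← Over.w g, ← Over.w e, pullback.condition_assoc])

def sndW {W V T : Over S} (g : W ⟶ V) (e : T ⟶ V) : WT g e ⟶ T := Over.homMk (pullback.snd g.left e.left) rfl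

theorem sqWT {W V T : Over S} (g : W ⟶ V) (e : T ⟶ V) : IsPullback (fstW g e) (sndW g e) g e :=
  IsPullback.of_map (Over.forget S) (Over.OverMorphism.ext pullback.condition)
    (IsPullback.of_hasPullback g.left e.left)

theorem mem_image_iff {Z Z' : Sp S} {W W' : Over S} {p : (yon S).obj W ⟶ Z} {p' : (yon S).obj W' ⟶ Z'}
    {r : Z' ⟶ Z} {m : W' ⟶ W} (sq : IsPullback ((yon S).map m) p' p r) (O : Set W.left) (z : Points Z') :
    Points.map r z ∈ Points.ofPt p '' O ↔ z ∈ Points.ofPt p' '' (m.left ⁻¹' O) := by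
  constructor
  · rintro ⟨o, ho, e⟩
    obtain ⟨q, hq₁, hq₂⟩ := exists_point_of_isPullback sq (x := Points.ofScheme W o) (y := z)
      (by rw [← Points.ofPt_eq_map_ofScheme, e])
    obtain ⟨w, rfl⟩ := (Points.schemeEquiv W').surjective q
    have hw : m.left w = o := (Points.schemeEquiv W).injective (by
      show Points.ofScheme W (m.left w) = Points.ofScheme W o
      rw [← map_yon_map_ofScheme]; exact hq₁)
    exact ⟨w, show m.left w ∈ O from hw ▸ ho, by rw [Points.ofPt_eq_map_ofScheme]; exact hq₂⟩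
  · rintro ⟨w, hw, rfl⟩
    refine ⟨m.left w, hw, ?_⟩
    rw [Points.ofPt_eq_map_ofScheme, Points.ofPt_eq_map_ofScheme, ← Points.map_comp, ← sq.w, Points.map_comp,
      map_yon_map_ofScheme]

theorem surjective_chart {Z Z' : Sp S} {W W' : Over S} {p : (yon S).obj W ⟶ Z} {p' : (yon S).obj W' ⟶ Z'}
    {r : Z' ⟶ Z} {m : W' ⟶ W} (sq : IsPullback ((yon S).map m) p' p r) (he : RepWith @Etale p)
    (hs : RepWith @Surjective p) : RepWith @Etale p' ∧ RepWith @Surjective p' :=
  ⟨RepWith.baseChange sq he, RepWith.baseChange sq hs⟩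

/-- counting components through a cover -/
theorem card_le_of_cover {X Y : Type*} [TopologicalSpace X] [TopologicalSpace Y] {J : Type*} (B : J → Set X)
    (C : J → Set Y) (hBo : ∀ j, IsOpen (B j)) (hBX : ∀ x, ∃ j, x ∈ B j)
    (hmeet : ∀ i j, (B i ∩ B j).Nonempty → (C i ∩ C j).Nonempty)
    (hCY : ∀ y, ∃ j, (B j).Nonempty ∧ y ∈ C j)
    (hone : ∀ j y y', y ∈ C j → y' ∈ C j → connectedComponent y = connectedComponent y') :
    ENat.card (_root_.ConnectedComponents Y) ≤ ENat.card (_root_.ConnectedComponents X) := by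
  classical
  let J₀ := {j : J // (B j).Nonempty}
  let Rel : J₀ → J₀ → Prop := fun i j => (B i.1 ∩ B j.1).Nonempty
  let s : Setoid J₀ := ⟨Relation.EqvGen Rel, Relation.EqvGen.is_equivalence Rel⟩
  have hchain : ∀ i j : J₀, Relation.EqvGen Rel i j → ∀ y y', y ∈ C i.1 → y' ∈ C j.1 →
      connectedComponent y = connectedComponent y' := by
    intro i j h
    induction h with
    | rel i j h =>
      intro y y' hy hy'
      obtain ⟨z, hz₁, hz₂⟩ := hmeet _ _ h
      exact (hone _ y z hy hz₁).trans (hone _ z y' hz₂ hy')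
    | refl i => exact fun y y' => hone _ y y'
    | symm i j _ ih => exact fun y y' hy hy' => (ih y' y hy' hy).symm
    | trans i j l _ _ ih₁ ih₂ =>
      intro y y' hy hy'
      obtain ⟨z, hz, -⟩ := hmeet j.1 j.1 (by rw [Set.inter_self]; exact j.2)
      exact (ih₁ y z hy hz).trans (ih₂ z y' hz hy')
  choose jc hjc₁ hjc₂ using fun c : _root_.ConnectedComponents Y =>
    hCY (ConnectedComponents.surjective_coe c).choose
  have h₁ : ENat.card (_root_.ConnectedComponents Y) ≤ ENat.card (Quotient s) := by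
    refine ENat.card_le_card_of_injective (f := fun c => Quotient.mk s ⟨jc c, hjc₁ c⟩) fun c c' h => ?_
    have := hchain _ _ (Quotient.exact h) _ _ (hjc₂ c) (hjc₂ c')
    rw [← (ConnectedComponents.surjective_coe c).choose_spec, ← (ConnectedComponents.surjective_coe c').choose_spec]
    exact ConnectedComponents.coe_eq_coe.2 this
  refine h₁.trans ?_
  let D : Quotient s → Set X := fun q => {x | ∃ j : J₀, Quotient.mk s j = q ∧ x ∈ B j.1}
  have hDo : ∀ q, IsOpen (D q) := fun q => by
    rw [show D q = ⋃ j ∈ {j : J₀ | Quotient.mk s j = q}, B j.1 by ext; simp [D]]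
    exact isOpen_biUnion fun j _ => hBo j.1
  have hDu : ∀ x q q', x ∈ D q → x ∈ D q' → q = q' := by
    rintro x _ _ ⟨i, rfl, hi⟩ ⟨j, rfl, hj⟩
    exact Quotient.sound (Relation.EqvGen.rel _ _ ⟨x, hi, hj⟩)
  have hDc : ∀ q, IsClopen (D q) := fun q => ⟨by
    rw [← isOpen_compl_iff, show (D q)ᶜ = ⋃ q' ∈ {q' | q' ≠ q}, D q' from by
      ext x
      simp only [Set.mem_compl_iff, Set.mem_iUnion, Set.mem_setOf_eq]
      refine ⟨fun hx => ?_, fun ⟨q', hne, hx'⟩ hx => hne (hDu x q' q hx' hx)⟩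
      obtain ⟨j, hj⟩ := hBX x
      exact ⟨Quotient.mk s ⟨j, x, hj⟩, fun hh => hx ⟨⟨j, x, hj⟩, hh, hj⟩, ⟨⟨j, x, hj⟩, rfl, hj⟩⟩]
    exact isOpen_biUnion fun q' _ => hDo q', hDo q⟩
  have hDn : ∀ q, (D q).Nonempty := fun q => by
    obtain ⟨⟨j, x, hx⟩, rfl⟩ := Quotient.exists_rep q
    exact ⟨x, ⟨j, x, hx⟩, rfl, hx⟩
  choose x hx using hDn
  refine ENat.card_le_card_of_injective (f := fun q => ConnectedComponents.mk (x q)) fun q q' h => ?_
  exact hDu (x q) q q' (hx q) ((hDc q').connectedComponent_subset (hx q') (ConnectedComponents.coe_eq_coe'.1 h))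

variable {V W : Over S} {Z : Sp S} {fZ : Z ⟶ (yon S).obj V} {p : (yon S).obj W ⟶ Z} {g : W ⟶ V}

theorem exists_chartT (hg : p ≫ fZ = (yon S).map g) {T : Over S} (a : T ⟶ V) :
    ∃ pT : (yon S).obj (WT g a) ⟶ pullback fZ ((yon S).map a),
      pT ≫ pullback.snd _ _ = (yon S).map (sndW g a) ∧
      IsPullback ((yon S).map (fstW g a)) pT p (pullback.fst fZ ((yon S).map a)) := by
  have sqW : IsPullback ((yon S).map (fstW g a)) ((yon S).map (sndW g a)) (p ≫ fZ) ((yon S).map a) :=
    hg ▸ (sqWT g a).map (yon S)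
  refine ⟨pullback.lift ((yon S).map (fstW g a) ≫ p) ((yon S).map (sndW g a)) (by rw [Category.assoc, sqW.w]),
    pullback.lift_snd _ _ _, IsPullback.of_bot ?_ (pullback.lift_fst _ _ _).symm
      (IsPullback.of_hasPullback fZ ((yon S).map a))⟩
  rw [pullback.lift_snd]
  exact sqW

/-- the base change of the chart at a point of the neighbourhood -/
theorem exists_bcT {V' T : Over S} (e : V' ⟶ V) (τ : T ⟶ V')
    {pe : (yon S).obj (WT g e) ⟶ pullback fZ ((yon S).map e)}
    (he₁ : pe ≫ pullback.snd _ _ = (yon S).map (sndW g e))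
    (he₂ : IsPullback ((yon S).map (fstW g e)) pe p (pullback.fst fZ ((yon S).map e)))
    {pT : (yon S).obj (WT g (τ ≫ e)) ⟶ pullback fZ ((yon S).map (τ ≫ e))}
    (hT₁ : pT ≫ pullback.snd _ _ = (yon S).map (sndW g (τ ≫ e)))
    (hT₂ : IsPullback ((yon S).map (fstW g (τ ≫ e))) pT p (pullback.fst fZ ((yon S).map (τ ≫ e)))) :
    ∃ (r : pullback fZ ((yon S).map (τ ≫ e)) ⟶ pullback fZ ((yon S).map e)) (q : WT g (τ ≫ e) ⟶ WT g e),
      IsPullback r (pullback.snd _ _) (pullback.snd _ _) ((yon S).map τ) ∧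
      q.left ≫ pullback.fst g.left e.left = pullback.fst g.left (τ ≫ e).left ∧
      q.left ≫ pullback.snd g.left e.left = pullback.snd g.left (τ ≫ e).left ≫ τ.left ∧
      IsPullback ((yon S).map q) pT pe r := by
  let r : pullback fZ ((yon S).map (τ ≫ e)) ⟶ pullback fZ ((yon S).map e) := pullback.lift (pullback.fst _ _)
    (pullback.snd _ _ ≫ (yon S).map τ) (by rw [pullback.condition, Category.assoc, Functor.map_comp])
  let q : WT g (τ ≫ e) ⟶ WT g e := (sqWT g e).lift (fstW g (τ ≫ e)) (sndW g (τ ≫ e) ≫ τ)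
    (by rw [Category.assoc, (sqWT g (τ ≫ e)).w])
  refine ⟨r, q, ?_, congrArg CommaMorphism.left ((sqWT g e).lift_fst _ _ _),
    congrArg CommaMorphism.left ((sqWT g e).lift_snd _ _ _), ?_⟩
  · refine IsPullback.of_right (h₁₂ := pullback.fst fZ ((yon S).map e)) ?_ (pullback.lift_snd _ _ _)
      (IsPullback.of_hasPullback fZ _)
    rw [pullback.lift_fst, ← Functor.map_comp]
    exact IsPullback.of_hasPullback fZ _
  refine IsPullback.of_right (h₁₂ := (yon S).map (fstW g e)) ?_ ?_ he₂
  · rw [← Functor.map_comp, (sqWT g e).lift_fst, pullback.lift_fst]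
    exact hT₂
  · apply pullback.hom_ext
    · rw [Category.assoc, ← he₂.w, Category.assoc, pullback.lift_fst, ← hT₂.w, ← Category.assoc,
        ← Functor.map_comp, (sqWT g e).lift_fst]
    · rw [Category.assoc, he₁, Category.assoc, pullback.lift_snd, reassoc_of% hT₁, ← Functor.map_comp,
        ← Functor.map_comp, (sqWT g e).lift_snd]

/-- one neighbourhood gives one component -/
theorem component_eq_chart {V' : Over S} (e : V' ⟶ V) {U : Scheme.{u}} (a : U ⟶ V.left)
    (O : (pullback g.left a).Opens) (h : V'.left ⟶ U) (hh : h ≫ a = e.left)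
    (hjoin : ∀ (Ω : Type u) [Field Ω] [IsAlgClosed Ω] (t : Spec (CommRingCat.of Ω) ⟶ U)
      (z₁ z₂ : Spec (CommRingCat.of Ω) ⟶ pullback g.left a) (h₁ : z₁ ≫ pullback.snd g.left a = t)
      (h₂ : z₂ ≫ pullback.snd g.left a = t), z₁ default ∈ O → z₂ default ∈ O →
      connectedComponent ((pullback.lift z₁ (𝟙 _) (by rw [h₁, Category.id_comp]) :
          Spec (CommRingCat.of Ω) ⟶ pullback (pullback.snd g.left a) t) default) =
        connectedComponent ((pullback.lift z₂ (𝟙 _) (by rw [h₂, Category.id_comp]) :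
          Spec (CommRingCat.of Ω) ⟶ pullback (pullback.snd g.left a) t) default))
    (n : pullback g.left e.left ⟶ pullback g.left a) (hn₁ : n ≫ pullback.fst g.left a = pullback.fst g.left e.left)
    (hn₂ : n ≫ pullback.snd g.left a = pullback.snd g.left e.left ≫ h)
    {L : Type u} [Field L] {str : Spec (CommRingCat.of L) ⟶ S} (τ : Over.mk str ⟶ V')
    {pe : (yon S).obj (WT g e) ⟶ pullback fZ ((yon S).map e)}
    {pT : (yon S).obj (WT g (τ ≫ e)) ⟶ pullback fZ ((yon S).map (τ ≫ e))}
    {r : pullback fZ ((yon S).map (τ ≫ e)) ⟶ pullback fZ ((yon S).map e)} {q : WT g (τ ≫ e) ⟶ WT g e}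
    (hq₁ : q.left ≫ pullback.fst g.left e.left = pullback.fst g.left (τ ≫ e).left)
    (hq₂ : q.left ≫ pullback.snd g.left e.left = pullback.snd g.left (τ ≫ e).left ≫ τ.left)
    (hrq : IsPullback ((yon S).map q) pT pe r) (x x' : Points (pullback fZ ((yon S).map (τ ≫ e))))
    (hx : Points.map r x ∈ Points.ofPt pe '' ((n ⁻¹ᵁ O : (pullback g.left e.left).Opens) : Set ↑(pullback g.left e.left)))
    (hx' : Points.map r x' ∈ Points.ofPt pe '' ((n ⁻¹ᵁ O : (pullback g.left e.left).Opens) : Set ↑(pullback g.left e.left))) :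
    connectedComponent x = connectedComponent x' := by
  obtain ⟨w, hw, rfl⟩ := (mem_image_iff hrq _ x).1 hx
  obtain ⟨w', hw', rfl⟩ := (mem_image_iff hrq _ x').1 hx'
  have hc := component_eq_of_nhd g.left a O hjoin e.left h hh τ.left w w' (q.left ≫ n)
    (by rw [Category.assoc, hn₁]; exact hq₁) (by rw [Category.assoc, hn₂, reassoc_of% hq₂]; rfl) hw hw'
  exact connectedComponent_eq
    ((Points.continuous_ofPt pT).mapsTo_connectedComponent _
      (show w' ∈ connectedComponent w by rw [hc]; exact mem_connectedComponent))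

theorem map_snd_eq {T V' : Over S} [Subsingleton T.left] {F G : Sp S} {r : F ⟶ G} {b : F ⟶ (yon S).obj T}
    {f : G ⟶ (yon S).obj V'} {τ : T ⟶ V'} (sq : IsPullback r b f ((yon S).map τ)) (x : Points F) (d : T.left) :
    Points.map f (Points.map r x) = Points.ofScheme V' (τ.left d) := by
  rw [← Points.map_comp, sq.w, Points.map_comp]
  obtain ⟨d', hd⟩ := (Points.schemeEquiv T).surjective (Points.map b x)
  rw [← hd]
  show Points.map _ (Points.ofScheme _ d') = _
  rw [map_yon_map_ofScheme]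
  exact congrArg (fun d => Points.ofScheme V' (τ.left d)) (Subsingleton.elim _ _)

set_option maxHeartbeats 1600000 in
/-- near a point the geometric fibres have at most as many components -/
theorem exists_nhd_card_le [IsAffine V.left] (hZ : IsAlgSpace Z)
    (hp : IsProperMor fZ) [IsAffine W.left] (hpe : RepWith @Etale p)
    (hps : RepWith @Surjective p) (hg : p ≫ fZ = (yon S).map g) [Flat g.left]
    [LocallyOfFinitePresentation g.left] (hred : Et18.H0Lift.GeomRedFibres g.left)
    {K : Type u} [Field K] [IsAlgClosed K] {str : Spec (CommRingCat.of K) ⟶ S} (c : Over.mk str ⟶ V) :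
    ∃ (V' : Over S) (e : V' ⟶ V) (_ : Etale e.left) (M : V'.left.Opens) (v : V'.left) (_ : v ∈ M)
      (_ : e.left v = c.left (IsLocalRing.closedPoint K)),
      ∀ (L : Type u) [Field L] [IsAlgClosed L] (str' : Spec (CommRingCat.of L) ⟶ S) (τ : Over.mk str' ⟶ V'),
        τ.left (IsLocalRing.closedPoint L) ∈ M →
        ENat.card (_root_.ConnectedComponents (Points (pullback fZ ((yon S).map (τ ≫ e))))) ≤
          ENat.card (_root_.ConnectedComponents (Points (pullback fZ ((yon S).map c)))) := by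
  classical
  have hex := fun z : ↑(pullback g.left c.left) =>
    Et18.H0Lift.exists_connected_nhd g.left hred (pullback.fst g.left c.left z)
  choose U a ha O hxO hjoin using hex
  choose o hoO ho using hxO
  have hlift := fun z => by
    haveI := ha z
    exact exists_fibre_lift g.left (a z) (show Spec (CommRingCat.of K) ⟶ V.left from c.left) z (o z) (ho z)
  choose t ht hto using hlift
  let m : ∀ z, pullback g.left c.left ⟶ pullback g.left (a z) := fun z =>
    pullback.lift (pullback.fst g.left c.left) (pullback.snd g.left c.left ≫ t z)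
      (by rw [Category.assoc, ht, pullback.condition])
  haveI : CompactSpace ↑(pullback g.left c.left) := by
    haveI : CompactSpace ↥(Over.mk str).left := inferInstanceAs (CompactSpace ↥(Spec (CommRingCat.of K)))
    exact QuasiCompact.compactSpace_of_compactSpace (pullback.snd g.left c.left)
  obtain ⟨J, hJ⟩ := isCompact_univ.elim_finite_subcover
    (fun z => (m z ⁻¹ᵁ O z : Set ↑(pullback g.left c.left))) (fun z => (m z ⁻¹ᵁ O z).2)
    (fun z _ => Set.mem_iUnion.2 ⟨z, by show m z z ∈ O z; rw [show m z z = o z from hto z]; exact hoO z⟩)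
  obtain ⟨U', e', he', t', ht', hJ'⟩ :=
    exists_common (show Spec (CommRingCat.of K) ⟶ V.left from c.left) U a ha t ht J
  choose h' hh₁ hh₂ using fun z : J => hJ' z.1 z.2
  let V' : Over S := Over.mk (e' ≫ V.hom)
  let e : V' ⟶ V := Over.homMk e' rfl
  haveI : Etale e.left := he'
  let tc : Over.mk str ⟶ V' := Over.homMk t' (by
    show t' ≫ e' ≫ V.hom = str
    rw [reassoc_of% ht']
    exact Over.w c)
  have htc : tc ≫ e = c := Over.OverMorphism.ext ht'
  let n : ∀ z : J, pullback g.left e.left ⟶ pullback g.left (a z.1) := fun z =>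
    pullback.lift (pullback.fst g.left e.left) (pullback.snd g.left e.left ≫ h' z)
      (by rw [Category.assoc, hh₁, pullback.condition]; rfl)
  have hn₁ : ∀ z, n z ≫ pullback.fst g.left (a z.1) = pullback.fst g.left e.left := fun z => pullback.lift_fst _ _ _
  have hn₂ : ∀ z, n z ≫ pullback.snd g.left (a z.1) = pullback.snd g.left e.left ≫ h' z := fun z =>
    pullback.lift_snd _ _ _
  choose pT hpT₁ hpT₂ using fun (T : Over S) (b : T ⟶ V) => exists_chartT (fZ := fZ) hg b
  let A : J → Set (Points (pullback fZ ((yon S).map e))) := fun z => Points.ofPt (pT V' e) ''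
    ((n z ⁻¹ᵁ O z.1 : (pullback g.left e.left).Opens) : Set ↑(pullback g.left e.left))
  have hpe' : RepWith @Etale (pT V' e) := (surjective_chart (hpT₂ V' e) hpe hps).1
  have hZ' : IsAlgSpace (pullback fZ ((yon S).map e)) := isAlgSpace_of_isPullback (IsAlgSpace.yon_obj V).diag hZ
    (IsAlgSpace.yon_obj V') (IsPullback.of_hasPullback fZ _)
  have hp' : IsProperMor (pullback.snd fZ ((yon S).map e)) := isProperMor_of_isPullback hZ
    (IsAlgSpace.yon_obj V) (IsAlgSpace.yon_obj V') (IsPullback.of_hasPullback fZ _) hp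
  have hAo : ∀ z, IsOpen (A z) := fun z => isOpenMap_ofPt (pT V' e) hpe' _ (n z ⁻¹ᵁ O z.1).2
  choose r q hr hq₁ hq₂ hrq using fun (T : Over S) (τ : T ⟶ V') =>
    exists_bcT e τ (hpT₁ V' e) (hpT₂ V' e) (hpT₁ T (τ ≫ e)) (hpT₂ T (τ ≫ e))
  let T₀ : Over S := Over.mk str
  haveI : Subsingleton ↥T₀.left := inferInstanceAs (Subsingleton ↥(Spec (CommRingCat.of K)))
  let v : V'.left := tc.left (IsLocalRing.closedPoint K)
  let B : J → Set (Points (pullback fZ ((yon S).map (tc ≫ e)))) := fun z => Points.map (r T₀ tc) ⁻¹' A z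
  have hcov : ∀ x, ∃ z, x ∈ B z := by
    intro x
    obtain ⟨w, rfl⟩ := surjective_ofPt (pT T₀ (tc ≫ e)) (surjective_chart (hpT₂ _ _) hpe hps).2 x
    let i : pullback g.left (tc ≫ e).left ⟶ pullback g.left c.left :=
      pullback.lift (pullback.fst _ _) (pullback.snd _ _) (by rw [pullback.condition, htc])
    obtain ⟨z, hzJ, hz⟩ := Set.mem_iUnion₂.1 (hJ (Set.mem_univ (i w)))
    refine ⟨⟨z, hzJ⟩, (mem_image_iff (hrq T₀ tc) _ _).2 ⟨w, ?_, rfl⟩⟩
    have e1 : (q T₀ tc).left ≫ n ⟨z, hzJ⟩ = i ≫ m z := by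
      apply pullback.hom_ext
      · rw [Category.assoc, hn₁, hq₁, Category.assoc]
        simp only [m, i, pullback.lift_fst]
      · rw [Category.assoc, hn₂, reassoc_of% (hq₂ T₀ tc), Category.assoc]
        simp only [m, i, pullback.lift_snd, pullback.lift_snd_assoc]
        exact congrArg (_ ≫ ·) (hh₂ ⟨z, hzJ⟩)
    have h3 := congrArg (fun f => f w) e1
    simp only [Scheme.Hom.comp_apply] at h3
    exact Set.mem_of_eq_of_mem (s := ((O z : (pullback g.left (a z)).Opens) : Set _)) h3 hz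
  let f' := pullback.snd fZ ((yon S).map e)
  let N₁ : Set V'.left := {v | ∀ y, Points.map f' y = Points.ofScheme V' v → ∃ z, (B z).Nonempty ∧ y ∈ A z}
  let N₂ : J × J → Set V'.left := fun zz => (sndW g e).left ''
    (((n zz.1 ⁻¹ᵁ O zz.1.1 : (pullback g.left e.left).Opens) : Set ↑(pullback g.left e.left)) ∩
      Points.ofPt (pT V' e) ⁻¹' A zz.2)
  have hN₁ : IsOpen N₁ := by
    rw [show N₁ = (Points.schemeHomeo V' ⁻¹' (Points.map f' '' (⋃ z ∈ {z | (B z).Nonempty}, A z)ᶜ))ᶜ from by
      ext v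
      simp only [N₁, Set.mem_setOf_eq, Set.mem_compl_iff, Set.mem_preimage, Set.mem_image, Set.mem_iUnion]
      refine ⟨fun h ⟨y, hy, hy'⟩ => ?_, fun h y hy => by_contra fun h' => h ⟨y, fun hh => ?_, hy⟩⟩
      · obtain ⟨z, hz₁, hz₂⟩ := h y hy'
        exact hy ⟨z, hz₁, hz₂⟩
      · obtain ⟨z, hz₁, hz₂⟩ := hh
        exact h' ⟨z, hz₁, hz₂⟩]
    refine (((isClosedMap_map_of_univClosed (X := ⟨_, hZ'⟩) (Y := ⟨(yon S).obj V', IsAlgSpace.yon_obj V'⟩)
      (ObjectProperty.homMk f') hp'.2.2) _ (isOpen_biUnion fun z _ => hAo z).isClosed_compl).preimage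
        (Points.schemeHomeo V').continuous).isOpen_compl
  have hN₂ : ∀ zz, IsOpen (N₂ zz) := fun zz => by
    haveI : Flat (sndW g e).left := inferInstanceAs (Flat (pullback.snd g.left e.left))
    haveI : LocallyOfFinitePresentation (sndW g e).left :=
      inferInstanceAs (LocallyOfFinitePresentation (pullback.snd g.left e.left))
    exact (sndW g e).left.isOpenMap _ ((n zz.1 ⁻¹ᵁ O zz.1.1).2.inter ((hAo zz.2).preimage (Points.continuous_ofPt _)))
  let M : V'.left.Opens := ⟨N₁ ∩ ⋂ zz ∈ {zz : J × J | (B zz.1 ∩ B zz.2).Nonempty}, N₂ zz,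
    hN₁.inter ((Set.toFinite _).isOpen_biInter fun zz _ => hN₂ zz)⟩
  have hv : v ∈ M := by
    refine ⟨fun y hy => ?_, Set.mem_iInter₂.2 fun zz ⟨x, hx₁, hx₂⟩ => ?_⟩
    · obtain ⟨x, hx, -⟩ := exists_point_of_isPullback (hr T₀ tc)
        (x := y) (y := Points.ofScheme T₀ (IsLocalRing.closedPoint K))
        (hy.trans (map_yon_map_ofScheme _ _).symm)
      obtain ⟨z, hz⟩ := hcov x
      exact ⟨z, ⟨x, hz⟩, hx ▸ hz⟩
    · obtain ⟨w, hw, rfl⟩ := (mem_image_iff (hrq T₀ tc) _ x).1 hx₁
      refine ⟨(q T₀ tc).left w, ⟨hw, ?_⟩, ?_⟩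
      · show Points.ofPt (pT V' e) ((q T₀ tc).left w) ∈ A zz.2
        rw [Points.ofPt_eq_map_ofScheme, ← map_yon_map_ofScheme, ← Points.map_comp, (hrq T₀ tc).w, Points.map_comp,
          ← Points.ofPt_eq_map_ofScheme]
        exact hx₂
      · refine (congrArg (fun f => f w) (hq₂ T₀ tc)).trans ?_
        exact congrArg tc.left (Subsingleton.elim _ _)
  refine ⟨V', e, he', M, v, hv, (congrArg (fun f => f.left (IsLocalRing.closedPoint K)) htc), fun L _ _ str' τ hτ => ?_⟩
  haveI : Subsingleton ↥(Over.mk str').left := inferInstanceAs (Subsingleton ↥(Spec (CommRingCat.of L)))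
  rw [← htc]
  refine card_le_of_cover B (fun z => Points.map (r _ τ) ⁻¹' A z)
    (fun z => (hAo z).preimage (Points.continuous_map _)) hcov (fun z z' hzz => ?_)
    (fun y => hτ.1 _ (map_snd_eq (hr _ τ) y _))
    (fun z y y' hy hy' => component_eq_chart e (a z.1) (O z.1) (h' z) (hh₁ z) (hjoin z.1) (n z) (hn₁ z) (hn₂ z) τ
      (hq₁ _ τ) (hq₂ _ τ) (hrq _ τ) y y' hy hy')
  obtain ⟨o', ho', hov⟩ := Set.mem_iInter₂.1 hτ.2 (z, z') hzz
  obtain ⟨w, hw, -⟩ := exists_point_of_isPullback (hr _ τ) (x := Points.ofPt (pT V' e) o')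
    (y := Points.ofScheme (Over.mk str') (IsLocalRing.closedPoint L)) (by
      rw [Points.ofPt_eq_map_ofScheme, ← Points.map_comp, hpT₁, map_yon_map_ofScheme, map_yon_map_ofScheme]
      exact congrArg (Points.ofScheme V') hov)
  exact ⟨w, show Points.map _ w ∈ A z from hw ▸ ⟨o', ho'.1, rfl⟩, show Points.map _ w ∈ A z' from hw ▸ ho'.2⟩

end Main

end Groth.Agent.AlgSpLib.CompsUsc
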