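import Mathlib.AlgebraicGeometry.Morphisms.FinitePresentation
import Groth.Agent.AlgSpLib.PointsTop

/-!
Local constructibility pulls back and descends along etale surjections.
-/

universe u

open CategoryTheory AlgebraicGeometry Topology TopologicalSpace Set Set.Notation

namespace Groth.Agent.AlgSpLib

variable {X Y : Scheme.{u}} (f : X ⟶ Y)

theorem isLocallyConstructible_preimage {s : Set Y} (hs : IsLocallyConstructible s) :
    IsLocallyConstructible (f ⁻¹' s) := by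
  refine .of_isOpenCover (U := fun U : Y.affineOpens => f ⁻¹ᵁ U.1) ?_ fun U => ?_
  · refine IsOpenCover.mk ?_
    rw [← Scheme.Hom.preimage_iSup, iSup_affineOpens_eq_top, Scheme.Hom.preimage_top]
  · have : CompactSpace ↥U.1.toScheme := isCompact_iff_compactSpace.1 U.2.isCompact
    have : QuasiSeparatedSpace ↥U.1.toScheme := by
      have : IsAffine U.1.toScheme := U.2
      infer_instance
    have h1 : IsConstructible ((U.1 : Set Y) ↓∩ s) :=
      (hs.preimage_of_isOpenEmbedding U.1.2.isOpenEmbedding_subtypeVal :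
        IsLocallyConstructible (X := U.1.toScheme) _).isConstructible
    have h3 := (Scheme.Hom.isConstructible_preimage (f ∣_ U.1) h1).isLocallyConstructible
    have e : ⇑(f ∣_ U.1) ⁻¹' ((U.1 : Set Y) ↓∩ s) =
        ((f ⁻¹ᵁ U.1 : Set X) ↓∩ (f ⁻¹' s) : Set ↥(f ⁻¹ᵁ U.1).toScheme) := by
      ext z
      show (U.1.ι ((f ∣_ U.1) z)) ∈ s ↔ f ((f ⁻¹ᵁ U.1).ι z) ∈ s
      rw [← Scheme.Hom.comp_apply, morphismRestrict_ι, Scheme.Hom.comp_apply]
    exact e ▸ h3

theorem isLocallyConstructible_of_preimage [Etale f] [Surjective f] {s : Set Y}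
    (hs : IsLocallyConstructible (f ⁻¹' s)) : IsLocallyConstructible s := by
  refine .of_isOpenCover (U := fun U : Y.affineOpens => U.1) ?_ fun U => ?_
  · exact IsOpenCover.mk (iSup_affineOpens_eq_top Y)
  · have : IsAffine U.1.toScheme := U.2
    let g := f ∣_ U.1
    have : Etale g := IsZariskiLocalAtTarget.restrict (P := @Etale) inferInstance _
    have : Surjective g := IsZariskiLocalAtTarget.restrict (P := @Surjective) inferInstance _
    have key : ∀ w : ↥U.1.toScheme, ∃ O : (f ⁻¹ᵁ U.1).toScheme.Opens,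
        IsCompact (O : Set (f ⁻¹ᵁ U.1).toScheme) ∧ w ∈ g '' O := fun w => by
      obtain ⟨r, rfl⟩ := g.surjective w
      obtain ⟨_, ⟨V, hV, rfl⟩, hr, -⟩ := (f ⁻¹ᵁ U.1).toScheme.isBasis_affineOpens.exists_subset_of_mem_open
        (Set.mem_univ r) isOpen_univ
      exact ⟨V, hV.isCompact, r, hr, rfl⟩
    choose O hO hw using key
    obtain ⟨σ, hσ⟩ := isCompact_univ.elim_finite_subcover (fun w => g '' (O w : Set _))
      (fun w => g.isOpenMap _ (O w).2) (fun w _ => Set.mem_iUnion.2 ⟨w, hw w⟩)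
    let W : (f ⁻¹ᵁ U.1).toScheme.Opens := ⟨⋃ w ∈ σ, (O w : Set _), isOpen_biUnion fun w _ => (O w).2⟩
    have hW : IsCompact (W : Set (f ⁻¹ᵁ U.1).toScheme) :=
      σ.finite_toSet.isCompact_biUnion fun w _ => hO w
    have : CompactSpace ↥W.toScheme := isCompact_iff_compactSpace.1 hW
    let k := W.ι ≫ g
    have : QuasiCompact k := HasAffineProperty.iff_of_isAffine.mpr ‹CompactSpace ↥W.toScheme›
    have hk : Function.Surjective k := fun z => by
      obtain ⟨w, hw', r, hr, rfl⟩ := Set.mem_iUnion₂.1 (hσ (Set.mem_univ z))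
      exact ⟨⟨r, Set.mem_iUnion₂.2 ⟨w, hw', hr⟩⟩, rfl⟩
    have h2 : IsLocallyConstructible ((W.ι ≫ (f ⁻¹ᵁ U.1).ι) ⁻¹' (f ⁻¹' s)) :=
      hs.preimage_of_isOpenEmbedding (W.ι ≫ (f ⁻¹ᵁ U.1).ι).isOpenEmbedding
    have e : (W.ι ≫ (f ⁻¹ᵁ U.1).ι) ⁻¹' (f ⁻¹' s) = k ⁻¹' ((U.1 : Set Y) ↓∩ s) := by
      ext z
      show f ((f ⁻¹ᵁ U.1).ι (W.ι z)) ∈ s ↔ U.1.ι ((f ∣_ U.1) (W.ι z)) ∈ s
      rw [← Scheme.Hom.comp_apply (f ∣_ U.1) U.1.ι, morphismRestrict_ι, Scheme.Hom.comp_apply]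
    rw [e] at h2
    have h3 := Scheme.Hom.isLocallyConstructible_image k h2
    rwa [Set.image_preimage_eq _ hk] at h3

end Groth.Agent.AlgSpLib
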