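import Groth.Agent.AlgSpLib.FpqcGlue
import Groth.Agent.AlgSpLib.FpqcBaseAffine
import Groth.Agent.AlgSpLib.ClosedSub
import Groth.Agent.VarietyLib.FiniteClosedCover
import Mathlib.RingTheory.Flat.TorsionFree
import Mathlib.RingTheory.Flat.FaithfullyFlat.Algebra

/-!
Descent of representability over a base with one closed point: flat closure of the generic fibre and
special fibre representable.
-/

universe u

open CategoryTheory CategoryTheory.Limits AlgebraicGeometry Opposite Topology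
open AlgSp

noncomputable section

set_option linter.style.haveILetI false

namespace Groth.Agent.AlgSpLib.DVRDescent

open Groth.Agent.AlgSpLib FpqcGlue

set_option backward.isDefEq.respectTransparency.types false
set_option backward.isDefEq.respectTransparency false

section Scheme

variable {B : Scheme.{u}} [IsAffine B] [IsIntegral B] (r₀ : Γ(B, ⊤))

theorem isAffineHom_preimage_basicOpen {T : Scheme.{u}} (f : T ⟶ B) :
    IsAffineHom (f ⁻¹ᵁ B.basicOpen r₀).ι := by
  haveI : IsAffineHom (B.basicOpen r₀).ι := by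
    haveI : IsAffine (B.basicOpen r₀).toScheme := (isAffineOpen_top B).basicOpen r₀
    infer_instance
  exact MorphismProperty.of_isPullback (P := @IsAffineHom) (isPullback_morphismRestrict f (B.basicOpen r₀)) ‹_›

/-- sections of a flat scheme vanishing away from the closed fibre vanish -/
theorem ker_eq_bot_of_flat {T : Scheme.{u}} (f : T ⟶ B) [hf : Flat f] (hr₀ : r₀ ≠ 0) :
    (f ⁻¹ᵁ B.basicOpen r₀).ι.ker = ⊥ := by
  haveI := isAffineHom_preimage_basicOpen r₀ f
  refine Scheme.IdealSheafData.ext (funext fun U => ?_)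
  rw [Scheme.Hom.ker_apply, Scheme.IdealSheafData.ideal_bot, Pi.bot_apply]
  refine le_bot_iff.1 fun m hm => (Submodule.mem_bot _).2 ?_
  let e : (U : T.Opens) ≤ f ⁻¹ᵁ (⊤ : B.Opens) := le_top
  let φ := (f.appLE ⊤ U e).hom
  have hflat : φ.Flat := (HasRingHomProperty.iff_appLE.mp hf) ⟨⊤, isAffineOpen_top B⟩ U e
  letI := φ.toAlgebra
  haveI : Module.Flat Γ(B, ⊤) Γ(T, U) := hflat
  have hb : T.basicOpen (φ r₀) = (U : T.Opens) ⊓ f ⁻¹ᵁ B.basicOpen r₀ := Scheme.basicOpen_appLE f U.1 ⊤ e r₀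
  -- the section vanishes on the principal open
  have hz : (T.presheaf.map (homOfLE (T.basicOpen_le (φ r₀))).op).hom m = 0 := by
    have hle : T.basicOpen (φ r₀) ≤ (f ⁻¹ᵁ B.basicOpen r₀).ι ''ᵁ (f ⁻¹ᵁ B.basicOpen r₀).ι ⁻¹ᵁ U.1 := by
      rw [hb, Scheme.Hom.image_preimage_eq_opensRange_inf, Scheme.Opens.opensRange_ι, inf_comm]
    have hm' : ((f ⁻¹ᵁ B.basicOpen r₀).ι.app U.1).hom m = 0 := hm
    rw [Scheme.Opens.ι_app] at hm'
    have := (congrArg (T.presheaf.map (homOfLE hle).op).hom hm').trans (map_zero _)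
    have hc : ∀ {A B C : T.Opensᵒᵖ} (a : A ⟶ B) (b : B ⟶ C) (x : Γ(T, A.unop)),
        (T.presheaf.map b).hom ((T.presheaf.map a).hom x) = (T.presheaf.map (a ≫ b)).hom x := fun a b x => by
      rw [Functor.map_comp]; rfl
    refine Eq.trans ?_ this
    exact (hc _ _ _).symm
  haveI := U.2.isLocalization_basicOpen (φ r₀)
  obtain ⟨⟨_, k, rfl⟩, hk⟩ := (IsLocalization.map_eq_zero_iff (Submonoid.powers (φ r₀)) Γ(T, T.basicOpen (φ r₀)) m).1 hz
  have hk' : r₀ ^ k • m = 0 := by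
    rw [Algebra.smul_def, map_pow]
    exact hk
  have : m ∈ Submodule.torsion Γ(B, ⊤) Γ(T, U) :=
    ⟨⟨r₀ ^ k, mem_nonZeroDivisors_of_ne_zero (pow_ne_zero k hr₀)⟩, hk'⟩
  rwa [Module.Flat.torsion_eq_bot, Submodule.mem_bot] at this

/-- a closed subscheme of a flat scheme containing the open part is everything -/
theorem isIso_of_open_part {T Q : Scheme.{u}} (f : T ⟶ B) [Flat f] (hr₀ : r₀ ≠ 0) (q : Q ⟶ T)
    [IsClosedImmersion q] {l : (f ⁻¹ᵁ B.basicOpen r₀).toScheme ⟶ Q}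
    (hl : l ≫ q = (f ⁻¹ᵁ B.basicOpen r₀).ι) : IsIso q := by
  refine IsClosedImmersion.isIso_iff_ker_eq_bot.2 (le_bot_iff.1 ?_)
  rw [← ker_eq_bot_of_flat r₀ f hr₀, ← hl]
  exact Scheme.Hom.le_ker_comp l q

/-- the scheme-theoretic closure of the open part is flat -/
theorem flat_closure {T : Scheme.{u}} (f : T ⟶ B)
    (hD : ∀ U : B.affineOpens, Nonempty (U : B.Opens) → IsDedekindDomain Γ(B, U))
    (hgen : ∀ x ∈ B.basicOpen r₀, x = genericPoint ↥B) :
    Flat ((f ⁻¹ᵁ B.basicOpen r₀).ι.imageι ≫ f) := by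
  haveI := isAffineHom_preimage_basicOpen r₀ f
  let O := f ⁻¹ᵁ B.basicOpen r₀
  let ι := O.ι.imageι
  let h := ι ≫ f
  rw [HasRingHomProperty.iff_appLE (P := @Flat)]
  intro U W e
  rcases isEmpty_or_nonempty (W : O.ι.image.Opens) with hW | ⟨⟨w, hw⟩⟩
  · haveI : Subsingleton Γ(O.ι.image, W) := by
      have hbot : (W : O.ι.image.Opens) = ⊥ := by
        ext x
        exact ⟨fun hx => (hW.false ⟨x, hx⟩).elim, fun hx => hx.elim⟩
      rw [hbot]
      exact CommRingCat.subsingleton_of_isTerminal O.ι.image.sheaf.isTerminalOfEmpty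
    letI := (h.appLE U W e).hom.toAlgebra
    exact (inferInstance : Module.Flat Γ(B, U) Γ(O.ι.image, W))
  haveI hUne : Nonempty (U : B.Opens) := ⟨⟨h w, e hw⟩⟩
  haveI := hD U hUne
  let φ := (h.appLE U W e).hom
  letI := φ.toAlgebra
  refine IsDedekindDomain.flat_iff_torsion_eq_bot.2 (le_bot_iff.1 fun m hm => (Submodule.mem_bot _).2 ?_)
  obtain ⟨⟨r, hr⟩, hrm⟩ := hm
  have hrm' : φ r * m = 0 := hrm
  have hr0 : r ≠ 0 := nonZeroDivisors.ne_zero hr
  have hgr : genericPoint ↥B ∈ B.basicOpen r := by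
    by_contra hn
    refine hr0 ((basicOpen_eq_bot_iff r).1 ?_)
    ext x
    exact ⟨fun hx => (hn (((genericPoint_spec ↥B).mem_open_set_iff (B.basicOpen r).isOpen).2 ⟨x, trivial, hx⟩)).elim,
      fun hx => hx.elim⟩
  -- cover by preimages of affine opens
  refine TopCat.Presheaf.section_ext O.ι.image.sheaf (W : O.ι.image.Opens) m 0 fun z hz => ?_
  obtain ⟨W', hW'o, hW'e⟩ := (ι.isEmbedding.isInducing.isOpen_iff).1 (W : O.ι.image.Opens).isOpen
  obtain ⟨U'', hU''a, hzU, hU''le⟩ := exists_isAffineOpen_mem_and_subset (X := T) (x := ι z) (U := ⟨W', hW'o⟩)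
    (show z ∈ ι ⁻¹' W' from hW'e ▸ hz)
  have hle : ι ⁻¹ᵁ U'' ≤ (W : O.ι.image.Opens) := fun y hy => hW'e.subset (hU''le hy)
  let m' := (O.ι.image.presheaf.map (homOfLE hle).op).hom m
  suffices hm0 : m' = 0 by
    have := congrArg (O.ι.image.presheaf.germ (ι ⁻¹ᵁ U'') z hzU).hom hm0
    rw [map_zero, ← RingHom.comp_apply, ← CommRingCat.hom_comp, TopCat.Presheaf.germ_res] at this
    rw [map_zero]
    exact this
  refine O.ι.toImage_app_injective (U := ⟨U'', hU''a⟩) ?_
  rw [map_zero]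
  -- the pullback of the multiplier is invertible on the open part
  let ψ := (O.ι.toImage.app (ι ⁻¹ᵁ U'')).hom.comp (O.ι.image.presheaf.map (homOfLE hle).op).hom
  have h0 : ψ (φ r) * ψ m = 0 := by rw [← map_mul, hrm', map_zero]
  refine (IsUnit.mul_right_eq_zero ?_).1 h0
  have hb : O.toScheme.basicOpen (ψ (φ r)) = O.ι.toImage ⁻¹ᵁ (ι ⁻¹ᵁ U'') := by
    refine le_antisymm (Scheme.basicOpen_le _ _) fun y hy => ?_
    show y ∈ O.toScheme.basicOpen ((O.ι.toImage.app (ι ⁻¹ᵁ U'')) ((O.ι.image.presheaf.map (homOfLE hle).op) (φ r)))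
    rw [← Scheme.preimage_basicOpen, Scheme.basicOpen_res]
    refine ⟨hy, ?_⟩
    rw [Scheme.basicOpen_appLE h W.1 U.1 e r]
    refine ⟨hle hy, ?_⟩
    show f ((O.ι.toImage ≫ ι) y) ∈ B.basicOpen r
    rw [Scheme.Hom.toImage_imageι]
    rw [hgen (f (O.ι y)) y.2]
    exact hgr
  have hu := RingedSpace.isUnit_res_basicOpen O.toScheme.toRingedSpace (ψ (φ r))
  have key : ∀ {V V' : O.toScheme.Opens} (i : V' ≤ V) (a : Γ(O.toScheme, V)), V' = V →
      IsUnit ((O.toScheme.presheaf.map (homOfLE i).op).hom a) → IsUnit a := by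
    intro V V' i a e ha
    subst e
    rw [show (homOfLE i).op = 𝟙 _ from Subsingleton.elim _ _, O.toScheme.presheaf.map_id] at ha
    exact ha
  exact key (Scheme.basicOpen_le _ _) _ hb hu

end Scheme

section Space

variable {S : Scheme.{u}} {G : Sp S}

/-- monomorphisms are injective on points -/
theorem ofPt_injective {M : Over S} (μ : (yon S).obj M ⟶ G) [Mono μ] : Function.Injective (Points.ofPt μ) := by
  intro x y h
  rw [Points.ofPt_eq_map_ofScheme, Points.ofPt_eq_map_ofScheme] at h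
  obtain ⟨Ω, _, w, a, b, e, ha, hb⟩ := exists_of_map_eq h
  rw [cancel_mono μ] at e
  exact (Points.schemeEquiv M).injective (ha.symm.trans ((congrArg _ e).trans hb))

/-- the position of a point over the base -/
theorem hom_eq_of_ofPt_eq {M N : Over S} (μ : (yon S).obj M ⟶ G) (ν : (yon S).obj N ⟶ G) {x : ↥M.left}
    {y : ↥N.left} (h : Points.ofPt μ x = Points.ofPt ν y) : M.hom x = N.hom y := by
  let g := (isTerminal_yon_base S).some.from G
  have key : ∀ {K : Over S} (κ : (yon S).obj K ⟶ G) (k : ↥K.left),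
      Points.map g (Points.ofPt κ k) = Points.ofScheme (Over.mk (𝟙 S)) (K.hom k) := fun {K} κ k => by
    rw [Points.map_ofPt, (isTerminal_yon_base S).some.hom_ext (κ ≫ g) ((yon S).map (toB K)),
      Points.ofPt_eq_map_ofScheme, map_yon_map_ofScheme]
    rfl
  have := congrArg (Points.map g) h
  rw [key, key] at this
  exact (Points.schemeEquiv (Over.mk (𝟙 S))).injective this

variable {T X' : Over S} {q : X' ⟶ T} {a : (yon S).obj X' ⟶ G}

/-- the base change of a subobject -/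
theorem exists_bc (sq : IsPullback a ((yon S).map q) ((isTerminal_yon_base S).some.from G) ((yon S).map (toB T)))
    {M : Over S} (μ : (yon S).obj M ⟶ G) :
    ∃ (P : Over S) (c : P ⟶ M) (l : P ⟶ X'), IsPullback ((yon S).map c) ((yon S).map l) μ a ∧
      IsPullback c.left (l ≫ q).left M.hom T.hom := by
  have sqP := IsPullback.of_hasPullback (toB M) (toB T)
  let c := pullback.fst (toB M) (toB T)
  let d := pullback.snd (toB M) (toB T)
  obtain ⟨l, hl⟩ := (yon S).map_surjective (sq.lift ((yon S).map c ≫ μ) ((yon S).map d)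
    ((isTerminal_yon_base S).some.hom_ext _ _))
  have hla : (yon S).map c ≫ μ = (yon S).map l ≫ a := by rw [hl, sq.lift_fst]
  have hlq : l ≫ q = d := (yon S).map_injective (by rw [Functor.map_comp, hl, sq.lift_snd])
  refine ⟨_, c, l, IsPullback.of_bot ?_ hla sq, ?_⟩
  · rw [← Functor.map_comp, hlq,
      (isTerminal_yon_base S).some.hom_ext (μ ≫ (isTerminal_yon_base S).some.from G) ((yon S).map (toB M))]
    exact sqP.map (yon S)
  · rw [hlq]
    exact sqP.map (Over.forget S)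

/-- points of base changes -/
theorem preimage_image {M P : Over S} {μ : (yon S).obj M ⟶ G} {c : P ⟶ M} {l : P ⟶ X'}
    (sqM : IsPullback ((yon S).map c) ((yon S).map l) μ a) (E : Set ↥M.left) :
    Points.ofPt a ⁻¹' (Points.ofPt μ '' E) = l.left '' (c.left ⁻¹' E) := by
  ext x
  constructor
  · rintro ⟨m, hm, e⟩
    obtain ⟨r, h1, h2⟩ := (ofPt_eq_ofPt_iff sqM m x).1 e
    exact ⟨r, by rw [Set.mem_preimage, h1]; exact hm, h2⟩
  · rintro ⟨r, hr, rfl⟩
    exact ⟨c.left r, hr, (ofPt_eq_ofPt_iff sqM _ _).2 ⟨r, rfl, rfl⟩⟩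

theorem surjective_ofPt_bc [Surjective T.hom]
    (sq : IsPullback a ((yon S).map q) ((isTerminal_yon_base S).some.from G) ((yon S).map (toB T))) :
    Function.Surjective (Points.ofPt a) := by
  intro z
  have hs : Function.Surjective (Points.map ((yon S).map (toB T))) :=
    (surjective_map_yon_map_iff _).2 ‹Surjective T.hom›
  obtain ⟨x, hx⟩ := surjective_map_of_isPullback sq.flip hs z
  obtain ⟨y, rfl⟩ := (Points.schemeEquiv X').surjective x
  exact ⟨y, (Points.ofPt_eq_map_ofScheme a y).trans hx⟩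

/-- two closed subobjects covering a space with affine base change: a compatible pair of affine opens gives an
affine open subspace -/
theorem exists_piece (hG : FpqcSp G) [Flat T.hom] [Surjective T.hom] [QuasiCompact T.hom] [IsAffine T.left]
    (sq : IsPullback a ((yon S).map q) ((isTerminal_yon_base S).some.from G) ((yon S).map (toB T)))
    {M₁ P₁ M₂ P₂ : Over S} {μ₁ : (yon S).obj M₁ ⟶ G} {c₁ : P₁ ⟶ M₁} {l₁ : P₁ ⟶ X'}
    {μ₂ : (yon S).obj M₂ ⟶ G} {c₂ : P₂ ⟶ M₂} {l₂ : P₂ ⟶ X'}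
    (sq₁ : IsPullback ((yon S).map c₁) ((yon S).map l₁) μ₁ a)
    (sq₂ : IsPullback ((yon S).map c₂) ((yon S).map l₂) μ₂ a)
    [IsClosedImmersion l₁.left] [IsClosedImmersion l₂.left] [IsAffineHom c₁.left] [IsAffineHom c₂.left]
    [Mono μ₁] [Mono μ₂]
    (hcov : ∀ x : ↥X'.left, x ∈ Set.range l₁.left ∨ x ∈ Set.range l₂.left)
    (V₁ : M₁.left.Opens) (hV₁ : IsAffineOpen V₁) (V₂ : M₂.left.Opens) (hV₂ : IsAffineOpen V₂)
    (hcompat : ∀ m₁ m₂, Points.ofPt μ₁ m₁ = Points.ofPt μ₂ m₂ → (m₁ ∈ V₁ ↔ m₂ ∈ V₂)) :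
    ∃ (A : Over S) (i : (yon S).obj A ⟶ G), RepWith @IsOpenImmersion i ∧
      (∀ m ∈ V₁, Points.ofPt μ₁ m ∈ Set.range (Points.map i)) ∧
      (∀ m ∈ V₂, Points.ofPt μ₂ m ∈ Set.range (Points.map i)) := by
  let 𝒱 : Set (Points G) := Points.ofPt μ₁ '' V₁ ∪ Points.ofPt μ₂ '' V₂
  have hmem₁ : ∀ r, Points.ofPt a (l₁.left r) ∈ 𝒱 ↔ c₁.left r ∈ V₁ := fun r => by
    rw [show Points.ofPt a (l₁.left r) = Points.ofPt μ₁ (c₁.left r) from
      ((ofPt_eq_ofPt_iff sq₁ _ _).2 ⟨r, rfl, rfl⟩).symm]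
    constructor
    · rintro (⟨m, hm, e⟩ | ⟨m, hm, e⟩)
      · exact ofPt_injective μ₁ e ▸ hm
      · exact (hcompat _ _ e.symm).2 hm
    · exact fun h => Or.inl ⟨_, h, rfl⟩
  have hmem₂ : ∀ r, Points.ofPt a (l₂.left r) ∈ 𝒱 ↔ c₂.left r ∈ V₂ := fun r => by
    rw [show Points.ofPt a (l₂.left r) = Points.ofPt μ₂ (c₂.left r) from
      ((ofPt_eq_ofPt_iff sq₂ _ _).2 ⟨r, rfl, rfl⟩).symm]
    constructor
    · rintro (⟨m, hm, e⟩ | ⟨m, hm, e⟩)
      · exact (hcompat _ _ e).1 hm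
      · exact ofPt_injective μ₂ e ▸ hm
    · exact fun h => Or.inr ⟨_, h, rfl⟩
  have hcompl : (Points.ofPt a ⁻¹' 𝒱)ᶜ = l₁.left '' (c₁.left ⁻¹' (V₁ : Set ↥M₁.left)ᶜ) ∪
      l₂.left '' (c₂.left ⁻¹' (V₂ : Set ↥M₂.left)ᶜ) := by
    ext x
    constructor
    · intro hx
      rcases hcov x with ⟨r, rfl⟩ | ⟨r, rfl⟩
      · exact Or.inl ⟨r, fun h => hx ((hmem₁ r).2 h), rfl⟩
      · exact Or.inr ⟨r, fun h => hx ((hmem₂ r).2 h), rfl⟩
    · rintro (⟨r, hr, rfl⟩ | ⟨r, hr, rfl⟩)
      · exact fun h => hr ((hmem₁ r).1 h)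
      · exact fun h => hr ((hmem₂ r).1 h)
  have hWo : IsOpen (Points.ofPt a ⁻¹' 𝒱) := by
    rw [← isClosed_compl_iff, hcompl]
    exact (l₁.left.isClosedEmbedding.isClosedMap _ (V₁.isOpen.isClosed_compl.preimage c₁.left.continuous)).union
      (l₂.left.isClosedEmbedding.isClosedMap _ (V₂.isOpen.isClosed_compl.preimage c₂.left.continuous))
  have hVo : IsOpen 𝒱 := isOpen_of_preimage T q a sq hWo
  let W : X'.left.Opens := ⟨_, hWo⟩
  haveI : IsAffine W.toScheme := by
    have e1 : l₁.left ⁻¹ᵁ W = c₁.left ⁻¹ᵁ V₁ := TopologicalSpace.Opens.ext (Set.ext fun r => hmem₁ r)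
    have e2 : l₂.left ⁻¹ᵁ W = c₂.left ⁻¹ᵁ V₂ := TopologicalSpace.Opens.ext (Set.ext fun r => hmem₂ r)
    haveI h1 : IsAffine (l₁.left ⁻¹ᵁ W).toScheme := e1 ▸ hV₁.preimage c₁.left
    haveI h2 : IsAffine (l₂.left ⁻¹ᵁ W).toScheme := e2 ▸ hV₂.preimage c₂.left
    let Z : Bool → Scheme.{u} := fun b => cond b (l₁.left ⁻¹ᵁ W).toScheme (l₂.left ⁻¹ᵁ W).toScheme
    let ι : ∀ b, Z b ⟶ W.toScheme := fun b => Bool.rec (motive := fun b => Z b ⟶ W.toScheme) (l₂.left ∣_ W) (l₁.left ∣_ W) b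
    haveI : ∀ b, IsClosedImmersion (ι b) := by
      rintro (_ | _)
      · exact MorphismProperty.of_isPullback (P := @IsClosedImmersion) (isPullback_morphismRestrict l₂.left W).flip ‹_›
      · exact MorphismProperty.of_isPullback (P := @IsClosedImmersion) (isPullback_morphismRestrict l₁.left W).flip ‹_›
    haveI : ∀ b, IsAffine (Z b) := by rintro (_ | _); exacts [h2, h1]
    refine Groth.Agent.VarietyLib.isAffine_of_closed_cover Z ι fun x => ?_
    rcases hcov x.1 with ⟨r, hr⟩ | ⟨r, hr⟩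
    · refine ⟨true, ⟨r, show l₁.left r ∈ W from hr ▸ x.2⟩, Subtype.ext ?_⟩
      exact (morphismRestrict_base_coe l₁.left W _).trans hr
    · refine ⟨false, ⟨r, show l₂.left r ∈ W from hr ▸ x.2⟩, Subtype.ext ?_⟩
      exact (morphismRestrict_base_coe l₂.left W _).trans hr
  let O := openSubspace G 𝒱
  have hO : RepWith @IsOpenImmersion (openSubspaceι G 𝒱) := repWith_openSubspaceι G hVo
  obtain ⟨W', w, fst, sqW, hw⟩ := exists_yon_of_repWith hO a
  haveI : IsOpenImmersion w.left := hw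
  have hr : Set.range w.left = Set.range W.ι := by
    rw [Scheme.Opens.range_ι]
    ext x
    constructor
    · rintro ⟨y, rfl⟩
      show Points.ofPt a (w.left y) ∈ 𝒱
      rw [← ofPt_map, ← sqW.w, ← Points.map_ofPt]
      exact (range_openSubspaceι G 𝒱).subset ⟨_, rfl⟩
    · intro hx
      obtain ⟨z, hz⟩ := (range_openSubspaceι G 𝒱).symm.subset (show Points.ofPt a x ∈ 𝒱 from hx)
      rw [Points.ofPt_eq_map_ofScheme] at hz
      obtain ⟨y, -, hy⟩ := exists_point_of_isPullback sqW hz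
      obtain ⟨y', rfl⟩ := (Points.schemeEquiv W').surjective y
      exact ⟨y', (Points.schemeEquiv X').injective ((map_yon_map_ofScheme w y').symm.trans hy)⟩
  haveI : IsAffine W'.left := IsAffine.of_isIso (IsOpenImmersion.isoOfRangeEq w.left W.ι hr).hom
  have sqO : IsPullback fst ((yon S).map (w ≫ q)) ((isTerminal_yon_base S).some.from O) ((yon S).map (toB T)) := by
    have := sqW.paste_vert sq
    rw [← Functor.map_comp, (isTerminal_yon_base S).some.hom_ext (openSubspaceι G 𝒱 ≫ (isTerminal_yon_base S).some.from G)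
      ((isTerminal_yon_base S).some.from O)] at this
    exact this
  obtain ⟨A, ⟨eA⟩⟩ := exists_iso_yon_of_isRepresentable
    (isRepresentable_of_affine (hG.openSubspace 𝒱) T (w ≫ q) fst sqO)
  have hrange : 𝒱 ⊆ Set.range (Points.map (eA.hom ≫ openSubspaceι G 𝒱)) := fun z hz => by
    obtain ⟨o, ho⟩ := (range_openSubspaceι G 𝒱).symm.subset hz
    exact ⟨Points.map eA.inv o, by rw [← Points.map_comp, eA.inv_hom_id_assoc, ho]⟩
  exact ⟨A, eA.hom ≫ openSubspaceι G 𝒱, RepWith.comp (repWith_of_isIso (P := @IsOpenImmersion) _) hO,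
    fun m hm => hrange (Or.inl ⟨m, hm, rfl⟩), fun m hm => hrange (Or.inr ⟨m, hm, rfl⟩)⟩

/-- **descent over a base with one closed point** -/
theorem main [IsAffine S] [IsIntegral S]
    (hD : ∀ U : S.affineOpens, Nonempty (U : S.Opens) → IsDedekindDomain Γ(S, U))
    (r₀ : Γ(S, ⊤)) (hr₀ : r₀ ≠ 0) (s : ↥S) (hgen : ∀ x ∈ S.basicOpen r₀, x = genericPoint ↥S)
    (hspec : ∀ x, x ∉ S.basicOpen r₀ ↔ x = s)
    (hG : FpqcSp G) [Flat T.hom] [Surjective T.hom] [IsAffine T.left]
    (sq : IsPullback a ((yon S).map q) ((isTerminal_yon_base S).some.from G) ((yon S).map (toB T)))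
    {Gb : Over S} (j : (yon S).obj Gb ⟶ G) [Mono j] [Flat Gb.hom]
    (hj : ∀ (T' : Over S), Flat T'.hom → ∀ b : (yon S).obj T' ⟶ G, ∃ k : T' ⟶ Gb, (yon S).map k ≫ j = b)
    {C Gs : Over S} [IsClosedImmersion C.hom] (hC : Set.range C.hom = {s}) (ρ : (yon S).obj Gs ⟶ G) (γ : Gs ⟶ C)
    (sqC : IsPullback ρ ((yon S).map γ) ((isTerminal_yon_base S).some.from G) ((yon S).map (toB C))) :
    G.obj.IsRepresentable := by
  classical
  haveI : IsAffineHom T.hom := inferInstance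
  haveI : Flat (toB T).left := ‹Flat T.hom›
  have hρ : RepWith @IsClosedImmersion ρ := RepWith.baseChange sqC.flip
    ((repWith_yon_map_iff (P := @IsClosedImmersion) (toB C)).2 ‹IsClosedImmersion C.hom›)
  haveI : Mono ρ := mono_closedImmersion hρ
  obtain ⟨P₁, c₁, l₁, sq₁, sqF₁⟩ := exists_bc sq ρ
  obtain ⟨P₂, c₂, l₂, sq₂, sqF₂⟩ := exists_bc sq j
  haveI : IsAffineHom c₁.left := MorphismProperty.of_isPullback (P := @IsAffineHom) sqF₁.flip inferInstance
  haveI : IsAffineHom c₂.left := MorphismProperty.of_isPullback (P := @IsAffineHom) sqF₂.flip inferInstance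
  haveI : Flat c₁.left := MorphismProperty.of_isPullback (P := @Flat) sqF₁.flip ‹_›
  haveI : Surjective c₁.left := MorphismProperty.of_isPullback (P := @Surjective) sqF₁.flip ‹_›
  haveI : IsClosedImmersion l₁.left := hρ.property a ((yon S).map c₁) l₁ sq₁
  haveI : Mono ((yon S).map l₂) := MorphismProperty.of_isPullback (P := MorphismProperty.monomorphisms (Sp S)) sq₂ ‹Mono j›
  -- the flat closure
  let O := X'.hom ⁻¹ᵁ S.basicOpen r₀
  haveI := isAffineHom_preimage_basicOpen r₀ X'.hom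
  let Zo : Over S := Over.mk (O.ι.imageι ≫ X'.hom)
  let zι : Zo ⟶ X' := Over.homMk O.ι.imageι
  haveI hZflat : Flat Zo.hom := flat_closure r₀ X'.hom hD hgen
  obtain ⟨b, hb⟩ := hj Zo hZflat ((yon S).map zι ≫ a)
  obtain ⟨w, hw⟩ := (yon S).map_surjective (sq₂.lift ((yon S).map b) ((yon S).map zι) hb)
  have hwl : w ≫ l₂ = zι := (yon S).map_injective (by rw [Functor.map_comp, hw, sq₂.lift_snd])
  haveI : Flat P₂.hom := by
    haveI : Flat c₂.left := MorphismProperty.of_isPullback (P := @Flat) sqF₂.flip ‹_›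
    rw [← Over.w c₂]
    infer_instance
  let qP := pullback.fst l₂.left O.ι.imageι
  have hq : IsIso qP := by
    let u : (P₂.hom ⁻¹ᵁ S.basicOpen r₀).toScheme ⟶ P₂.left := (P₂.hom ⁻¹ᵁ S.basicOpen r₀).ι
    have hu : Set.range (u ≫ l₂.left) ⊆ Set.range O.ι := by
      rintro _ ⟨y, rfl⟩
      rw [Scheme.Opens.range_ι]
      show X'.hom ((u ≫ l₂.left) y) ∈ S.basicOpen r₀
      rw [← Scheme.Hom.comp_apply, Category.assoc, Over.w l₂]
      exact y.2
    refine isIso_of_open_part r₀ P₂.hom hr₀ qP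
      (l := pullback.lift u (IsOpenImmersion.lift O.ι _ hu ≫ O.ι.toImage) ?_) (pullback.lift_fst _ _ _)
    rw [Category.assoc, Scheme.Hom.toImage_imageι, IsOpenImmersion.lift_fac]
  let v : P₂ ⟶ Zo := Over.homMk (inv qP ≫ pullback.snd l₂.left O.ι.imageι) (by
    show (inv qP ≫ pullback.snd l₂.left O.ι.imageι) ≫ O.ι.imageι ≫ X'.hom = P₂.hom
    rw [Category.assoc, ← Category.assoc (pullback.snd _ _), ← pullback.condition, Category.assoc, Over.w l₂,
      IsIso.inv_hom_id_assoc])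
  have hvl : v ≫ zι = l₂ := Over.OverMorphism.ext (by
    show (inv qP ≫ pullback.snd l₂.left O.ι.imageι) ≫ O.ι.imageι = l₂.left
    rw [Category.assoc, ← pullback.condition, IsIso.inv_hom_id_assoc])
  have hvw : v ≫ w = 𝟙 _ := by
    refine (yon S).map_injective ?_
    rw [← cancel_mono ((yon S).map l₂), ← Functor.map_comp, ← Functor.map_comp, Category.assoc, hwl, hvl,
      Category.id_comp]
  haveI : Mono zι := by
    haveI : Mono zι.left := inferInstanceAs (Mono O.ι.imageι)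
    exact (Over.forget S).mono_of_mono_map this
  have hwv : w ≫ v = 𝟙 _ := by rw [← cancel_mono zι, Category.assoc, hvl, hwl, Category.id_comp]
  haveI : IsIso v := ⟨w, hvw, hwv⟩
  haveI : IsIso v.left := inferInstanceAs (IsIso ((Over.forget S).map v))
  haveI : IsClosedImmersion l₂.left := by
    rw [← hvl, Over.comp_left]
    haveI : IsClosedImmersion zι.left := inferInstanceAs (IsClosedImmersion O.ι.imageι)
    infer_instance
  have hρover : ∀ m : ↥Gs.left, Gs.hom m = s := fun m => by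
    have : Gs.hom m ∈ Set.range C.hom := ⟨γ.left m, by rw [← Scheme.Hom.comp_apply, Over.w γ]⟩
    rwa [hC] at this
  have hρrange : ∀ {N : Over S} (ν : (yon S).obj N ⟶ G) (n : ↥N.left), N.hom n = s →
      ∃ m, Points.ofPt ρ m = Points.ofPt ν n := by
    intro N ν n hn
    obtain ⟨c, hc⟩ : s ∈ Set.range C.hom := by rw [hC]; rfl
    have h1 : Points.map ((isTerminal_yon_base S).some.from G) (Points.ofPt ν n) =
        Points.map ((yon S).map (toB C)) (Points.ofScheme C c) := by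
      rw [Points.map_ofPt, (isTerminal_yon_base S).some.hom_ext (ν ≫ _) ((yon S).map (toB N)),
        Points.ofPt_eq_map_ofScheme, map_yon_map_ofScheme, map_yon_map_ofScheme]
      exact congrArg _ (hn.trans hc.symm)
    obtain ⟨z, hz, -⟩ := exists_point_of_isPullback sqC h1
    obtain ⟨m, rfl⟩ := (Points.schemeEquiv Gs).surjective z
    exact ⟨m, (Points.ofPt_eq_map_ofScheme ρ m).trans hz⟩
  have hcov : ∀ x : ↥X'.left, x ∈ Set.range l₁.left ∨ x ∈ Set.range l₂.left := fun x => by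
    by_cases hx : X'.hom x ∈ S.basicOpen r₀
    · right
      refine ⟨w.left (O.ι.toImage ⟨x, hx⟩), ?_⟩
      rw [← Scheme.Hom.comp_apply, ← Over.comp_left, hwl]
      show O.ι.imageι (O.ι.toImage ⟨x, hx⟩) = x
      rw [← Scheme.Hom.comp_apply, Scheme.Hom.toImage_imageι]
      rfl
    · left
      obtain ⟨m, hm⟩ := hρrange a x ((hspec _).1 hx)
      obtain ⟨r, -, hr⟩ := (ofPt_eq_ofPt_iff sq₁ m x).1 hm
      exact ⟨r, hr⟩
  -- the trace of the flat closure on the special fibre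
  have hclosed : ∀ E : Set ↥Gb.left, IsClosed E → IsClosed {m : ↥Gs.left | Points.ofPt ρ m ∈ Points.ofPt j '' E} := by
    intro E hE
    refine (Flat.isQuotientMap_of_surjective c₁.left).isClosed_preimage.1 ?_
    have : c₁.left ⁻¹' {m : ↥Gs.left | Points.ofPt ρ m ∈ Points.ofPt j '' E} =
        l₁.left ⁻¹' (Points.ofPt a ⁻¹' (Points.ofPt j '' E)) := by
      ext r
      show Points.ofPt ρ (c₁.left r) ∈ Points.ofPt j '' E ↔ Points.ofPt a (l₁.left r) ∈ Points.ofPt j '' E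
      rw [(ofPt_eq_ofPt_iff sq₁ _ _).2 ⟨r, rfl, rfl⟩]
    rw [this, preimage_image sq₂]
    exact (l₂.left.isClosedEmbedding.isClosedMap _ (hE.preimage c₂.left.continuous)).preimage l₁.left.continuous
  -- the special fibre of the flat closure
  let N := pullback (toB Gb) (toB C)
  let n : N ⟶ Gb := pullback.fst (toB Gb) (toB C)
  have sqN := (IsPullback.of_hasPullback (toB Gb) (toB C)).map (Over.forget S)
  haveI : IsClosedImmersion n.left := MorphismProperty.of_isPullback (P := @IsClosedImmersion) sqN.flip ‹_›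
  obtain ⟨κ, hκ⟩ := (yon S).map_surjective (sqC.lift ((yon S).map n ≫ j)
    ((yon S).map (pullback.snd (toB Gb) (toB C))) ((isTerminal_yon_base S).some.hom_ext _ _))
  have hκρ : ∀ y : ↥N.left, Points.ofPt ρ (κ.left y) = Points.ofPt j (n.left y) := fun y => by
    rw [← ofPt_map, ← ofPt_map, hκ, sqC.lift_fst]
  have hnrange : ∀ m : ↥Gb.left, Gb.hom m = s → ∃ y, n.left y = m := fun m hm => by
    obtain ⟨c, hc⟩ : s ∈ Set.range C.hom := by rw [hC]; rfl
    obtain ⟨y, hy, -⟩ := exists_point_of_isPullback ((IsPullback.of_hasPullback (toB Gb) (toB C)).map (yon S))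
      (x := Points.ofScheme Gb m) (y := Points.ofScheme C c) (by
        rw [map_yon_map_ofScheme, map_yon_map_ofScheme]
        exact congrArg _ (hm.trans hc.symm))
    obtain ⟨y', rfl⟩ := (Points.schemeEquiv N).surjective y
    exact ⟨y', (Points.schemeEquiv Gb).injective ((map_yon_map_ofScheme n y').symm.trans hy)⟩
  -- pieces
  have hloc : ∀ z : Points G, ∃ (A : Over S) (i : (yon S).obj A ⟶ G), RepWith @IsOpenImmersion i ∧
      z ∈ Set.range (Points.map i) := by
    intro z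
    by_cases hz : z ∈ Points.ofPt j '' Set.univ
    · obtain ⟨m₂, -, rfl⟩ := hz
      by_cases hm₂ : Gb.hom m₂ ∈ S.basicOpen r₀
      · obtain ⟨V₂, hV₂, hmV, hVle⟩ := exists_isAffineOpen_mem_and_subset (X := Gb.left) (x := m₂)
          (U := Gb.hom ⁻¹ᵁ S.basicOpen r₀) hm₂
        obtain ⟨A, i, hi, -, hi₂⟩ := exists_piece hG sq sq₁ sq₂ hcov ⊥ (isAffineOpen_bot _) V₂ hV₂ fun m m' e =>
          ⟨fun h => h.elim, fun h => absurd ((hom_eq_of_ofPt_eq ρ j e).symm.trans (hρover m))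
            (fun h' => (hspec _).2 h' (hVle h))⟩
        exact ⟨A, i, hi, hi₂ _ hmV⟩
      · have hs₂ : Gb.hom m₂ = s := (hspec _).1 hm₂
        obtain ⟨m₁, hm₁⟩ := hρrange j m₂ hs₂
        obtain ⟨V₁', hV₁', hm₁V, -⟩ := exists_isAffineOpen_mem_and_subset (X := Gs.left) (x := m₁) (U := ⊤) trivial
        let E₂ : Set ↥Gb.left := n.left '' (κ.left ⁻¹' (V₁' : Set ↥Gs.left)ᶜ)
        have hE₂ : IsClosed E₂ :=
          n.left.isClosedEmbedding.isClosedMap _ (V₁'.isOpen.isClosed_compl.preimage κ.left.continuous)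
        have hm₂E : m₂ ∈ (⟨E₂ᶜ, hE₂.isOpen_compl⟩ : Gb.left.Opens) := by
          rintro ⟨y, hy, rfl⟩
          exact hy (ofPt_injective ρ ((hκρ y).trans hm₁.symm) ▸ hm₁V)
        obtain ⟨V₂', hV₂', hm₂V, hV₂le⟩ := exists_isAffineOpen_mem_and_subset (X := Gb.left) (x := m₂)
          (U := ⟨E₂ᶜ, hE₂.isOpen_compl⟩) hm₂E
        have hnk : n.left ⁻¹ᵁ V₂' ≤ κ.left ⁻¹ᵁ V₁' := fun y hy => by
          by_contra h
          exact hV₂le hy ⟨y, h, rfl⟩
        let E₁ := {m : ↥Gs.left | Points.ofPt ρ m ∈ Points.ofPt j '' (V₂' : Set ↥Gb.left)ᶜ}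
        have hm₁E : m₁ ∉ E₁ := by
          rintro ⟨m', hm', e⟩
          exact hm' (ofPt_injective j (e.trans hm₁) ▸ hm₂V)
        obtain ⟨h, hhle, hhm⟩ := hV₁'.exists_basicOpen_le
          (V := ⟨E₁ᶜ, (hclosed _ V₂'.isOpen.isClosed_compl).isOpen_compl⟩) ⟨m₁, hm₁E⟩ hm₁V
        obtain ⟨h', hh'⟩ := n.left.app_surjective V₂' hV₂' ((κ.left.appLE V₁' (n.left ⁻¹ᵁ V₂') hnk).hom h)
        have hiff : ∀ y : ↥N.left, n.left y ∈ V₂' → (n.left y ∈ Gb.left.basicOpen h' ↔ κ.left y ∈ Gs.left.basicOpen h) := by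
          intro y hy
          show y ∈ n.left ⁻¹ᵁ Gb.left.basicOpen h' ↔ _
          rw [Scheme.preimage_basicOpen, hh', Scheme.basicOpen_appLE]
          exact ⟨fun h => h.2, fun h => ⟨hy, h⟩⟩
        obtain ⟨A, i, hi, hi₁, -⟩ := exists_piece hG sq sq₁ sq₂ hcov (Gs.left.basicOpen h) (hV₁'.basicOpen h)
          (Gb.left.basicOpen h') (hV₂'.basicOpen h') fun m m' e => by
            obtain ⟨y, rfl⟩ := hnrange m' ((hom_eq_of_ofPt_eq ρ j e).symm.trans (hρover m))
            have hy : κ.left y = m := ofPt_injective ρ ((hκρ y).trans e.symm)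
            subst hy
            constructor
            · intro hm
              refine (hiff y ?_).2 hm
              by_contra hn
              exact hhle hm ⟨_, hn, (hκρ y).symm⟩
            · intro hm
              exact (hiff y (Gb.left.basicOpen_le h' hm)).1 hm
        exact ⟨A, i, hi, hm₁ ▸ hi₁ _ hhm⟩
    · obtain ⟨x, rfl⟩ := surjective_ofPt_bc sq z
      rcases hcov x with ⟨r, rfl⟩ | ⟨r, rfl⟩
      · rw [← (ofPt_eq_ofPt_iff sq₁ (c₁.left r) _).2 ⟨r, rfl, rfl⟩] at hz ⊢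
        obtain ⟨V₁, hV₁, hmV, hVle⟩ := exists_isAffineOpen_mem_and_subset (X := Gs.left) (x := c₁.left r)
          (U := ⟨{m | Points.ofPt ρ m ∈ Points.ofPt j '' Set.univ}ᶜ, (hclosed _ isClosed_univ).isOpen_compl⟩) hz
        obtain ⟨A, i, hi, hi₁, -⟩ := exists_piece hG sq sq₁ sq₂ hcov V₁ hV₁ ⊥ (isAffineOpen_bot _) fun m m' e =>
          ⟨fun h => (hVle h ⟨m', trivial, e.symm⟩).elim, fun h => h.elim⟩
        exact ⟨A, i, hi, hi₁ _ hmV⟩
      · exact absurd ⟨c₂.left r, trivial, (ofPt_eq_ofPt_iff sq₂ _ _).2 ⟨r, rfl, rfl⟩⟩ hz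
  choose A i hi hzi using hloc
  obtain ⟨X, ⟨eX⟩⟩ := exists_iso_yon_of_openCover (f := fun x : ↥X'.left => i (Points.ofPt a x))
    (fun x => hi _) fun z => by
      obtain ⟨x, rfl⟩ := surjective_ofPt_bc sq z
      exact ⟨x, hzi _⟩
  exact isRepresentable_of_iso_yon (F := G) eX

/-- local Noetherianity descends along the base change -/
theorem isLocallyNoetherian_of_bc [IsAffine S] [Flat T.hom] [Surjective T.hom] [IsAffine T.left]
    [IsLocallyNoetherian X'.left]
    (sq : IsPullback a ((yon S).map q) ((isTerminal_yon_base S).some.from G) ((yon S).map (toB T)))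
    {X : Over S} (eX : (yon S).obj X ≅ G) : IsLocallyNoetherian X.left := by
  obtain ⟨r, hr⟩ := (yon S).map_surjective (a ≫ eX.inv)
  have sqX : IsPullback r q (toB X) (toB T) := by
    refine IsPullback.of_map (yon S) (Over.mkIdTerminal.hom_ext _ _) ?_
    rw [hr]
    exact sq.of_iso (Iso.refl _) eX.symm (Iso.refl _) (Iso.refl _) (by simp) (by simp)
      ((isTerminal_yon_base S).some.hom_ext _ _) (by simp)
  have sqF := sqX.map (Over.forget S)
  haveI : Flat r.left := MorphismProperty.of_isPullback (P := @Flat) sqF.flip ‹_›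
  haveI : Surjective r.left := MorphismProperty.of_isPullback (P := @Surjective) sqF.flip ‹_›
  haveI : IsAffineHom r.left := MorphismProperty.of_isPullback (P := @IsAffineHom) sqF.flip (inferInstanceAs (IsAffineHom T.hom))
  refine ⟨fun U => ?_⟩
  have hN : IsNoetherianRing Γ(X'.left, r.left ⁻¹ᵁ U) :=
    IsLocallyNoetherian.component_noetherian ⟨_, U.2.preimage r.left⟩
  letI := (r.left.app U).hom.toAlgebra
  haveI : Module.Flat Γ(X.left, U) Γ(X'.left, r.left ⁻¹ᵁ U) := by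
    have := (HasRingHomProperty.iff_appLE (P := @Flat)).mp ‹Flat r.left› U ⟨_, U.2.preimage r.left⟩ le_rfl
    rwa [← Scheme.Hom.app_eq_appLE] at this
  haveI : Module.FaithfullyFlat Γ(X.left, U) Γ(X'.left, r.left ⁻¹ᵁ U) := by
    refine Module.FaithfullyFlat.of_comap_surjective fun p => ?_
    obtain ⟨x', hx'⟩ := r.left.surjective (U.2.fromSpec p)
    have hm : x' ∈ r.left ⁻¹ᵁ U.1 := by
      show r.left x' ∈ U.1
      rw [hx', ← SetLike.mem_coe, ← U.2.range_fromSpec]
      exact ⟨p, rfl⟩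
    obtain ⟨p', hp'⟩ : x' ∈ Set.range (U.2.preimage r.left).fromSpec := by
      rw [(U.2.preimage r.left).range_fromSpec]; exact hm
    refine ⟨p', U.2.fromSpec.isOpenEmbedding.injective ?_⟩
    rw [← hx', ← hp']
    have := congrArg (fun k => k p') (U.2.SpecMap_appLE_fromSpec r.left (U.2.preimage r.left) le_rfl)
    rw [← Scheme.Hom.app_eq_appLE] at this
    exact this
  rw [isNoetherianRing_iff, isNoetherian_iff'] at hN ⊢
  exact (OrderEmbedding.ofMapLEIff (fun I : Ideal Γ(X.left, U) => I.map (algebraMap Γ(X.left, U) Γ(X'.left, r.left ⁻¹ᵁ U)))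
    fun I J => ⟨fun h => by
      have h2 : (I.map (algebraMap Γ(X.left, U) Γ(X'.left, r.left ⁻¹ᵁ U))).comap (algebraMap Γ(X.left, U) Γ(X'.left, r.left ⁻¹ᵁ U)) ≤
          (J.map (algebraMap Γ(X.left, U) Γ(X'.left, r.left ⁻¹ᵁ U))).comap (algebraMap Γ(X.left, U) Γ(X'.left, r.left ⁻¹ᵁ U)) := Ideal.comap_mono h
      rwa [Ideal.comap_map_eq_self_of_faithfullyFlat, Ideal.comap_map_eq_self_of_faithfullyFlat] at h2,
      fun h => Ideal.map_mono h⟩).dual.wellFoundedLT

end Space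

end Groth.Agent.AlgSpLib.DVRDescent
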