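import Groth.Agent.AlgSpLib.DecentMore
import Groth.Agent.AlgSpLib.ReducedSpace
import Groth.Agent.AlgSpLib.FppfLocal
import Groth.Agent.AlgSpLib.Descent

/-!
Reduced spaces over a point represented by a quasi-compact monomorphism; closed points.
-/

universe u

open CategoryTheory CategoryTheory.Limits AlgebraicGeometry Opposite
open AlgSp

noncomputable section

namespace Groth.Agent.AlgSpLib

set_option backward.isDefEq.respectTransparency.types false

variable {S : Scheme.{u}} {X : Sp S}

/-- a quasi-compact monomorphic point pulls back to a preimmersion onto the fibre of a chart -/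
theorem isPreimmersion_chart_fibre {k : Type u} [Field k] {str : Spec (CommRingCat.of k) ⟶ S}
    (r : (yon S).obj (Over.mk str) ⟶ X) [Mono r] (hq : RepWith @QuasiCompact r) {V : Over S}
    (b : (yon S).obj V ⟶ X) (hbe : RepWith @Etale b) :
    IsPreimmersion (hq.1.snd b).left ∧ Set.range (hq.1.snd b).left = Points.ofPt b ⁻¹' {ptOfHom r} := by
  obtain ⟨c, hc⟩ := (yon S).map_surjective (hq.1.fst b)
  have sqP : IsPullback ((yon S).map c) ((yon S).map (hq.1.snd b)) r b := hc ▸ hq.1.isPullback b
  have hce : Etale c.left := (repWith_yon_map_iff @Etale c).1 (RepWith.baseChange sqP.flip hbe)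
  let g := (hq.1.snd b).left
  have hgm : Mono g := by
    have : Mono ((yon S).map (hq.1.snd b)) :=
      MorphismProperty.of_isPullback (P := MorphismProperty.monomorphisms _) sqP
        (MorphismProperty.monomorphisms.infer_property r)
    have : Mono (hq.1.snd b) := (yon S).mono_of_mono_map this
    exact inferInstanceAs (Mono (hq.1.snd b).left)
  have : IsReduced (Over.mk str).left := inferInstanceAs (IsReduced (Spec (CommRingCat.of k)))
  have hsub : Subsingleton ↥(Over.mk str).left :=
    inferInstanceAs (Subsingleton ↥(Spec (CommRingCat.of k)))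
  have : IsReduced (hq.1.pullback b).left := isReduced_of_etale' c.left
  have := locallyQuasiFinite_of_etale c.left
  have : DiscreteTopology ↥(hq.1.pullback b).left := by
    refine discreteTopology_iff_isOpen_singleton.2 fun w => ?_
    have h := c.left.isDiscrete_preimage_singleton (c.left w)
    rw [show c.left ⁻¹' {c.left w} = Set.univ from
      Set.eq_univ_of_forall fun v => Subsingleton.elim _ _] at h
    have := isDiscrete_univ_iff.1 h
    exact isOpen_discrete _
  have hy : ∀ p, Points.ofPt b (g p) = ptOfHom r := fun p => by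
    rw [← ofPt_map, ← sqP.w, ← Points.map_ofPt, map_eq_ptOfHom]
  have hfin := finiteFibres_of_qc r hq
  refine ⟨isPreimmersion_of_mono_discrete g (fun p => ?_) fun p q h =>
    g.injective (eq_of_specializes_of_finiteFibres hfin b hbe (hy q) (hy p) h).symm, ?_⟩
  · obtain ⟨O, hO, hpO, -⟩ := exists_isAffineOpen_mem_and_subset (x := g p) (U := ⊤) trivial
    let V' : Over S := Over.mk (O.ι ≫ V.hom)
    let j : V' ⟶ V := Over.homMk O.ι
    have : IsAffine V'.left := hO
    have hj : IsOpenImmersion j.left := inferInstanceAs (IsOpenImmersion O.ι)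
    have hb : RepWith @Etale ((yon S).map j ≫ b) :=
      RepWith.comp ((repWith_yon_map_iff (P := @Etale) j).2 inferInstance) hbe
    refine ⟨O, hpO, (((hfin V' _ inferInstance hb).image j.left).preimage g.injective.injOn).subset
      fun q hq' => ⟨(⟨g q, hq'⟩ : O), (ofPt_map j b _).trans (hy q), rfl⟩⟩
  · ext v
    refine ⟨fun ⟨p, hp⟩ => hp ▸ hy p, fun hv => ?_⟩
    obtain ⟨z, -, hz⟩ := exists_point_of_isPullback sqP (x := ptOfHom (𝟙 _)) (y := Points.ofScheme V v)
      (by rw [map_eq_ptOfHom, ← Points.ofPt_eq_map_ofScheme]; exact hv.symm)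
    obtain ⟨w, rfl⟩ := (Points.schemeEquiv _).surjective z
    exact ⟨w, (Points.schemeEquiv V).injective ((map_yon_map_ofScheme (hq.1.snd b) w).symm.trans hz)⟩

/-- reduced spaces mapping to a quasi-compact monomorphic point factor through it -/
theorem isIso_snd_of_reduced {k : Type u} [Field k] {str : Spec (CommRingCat.of k) ⟶ S}
    (r : (yon S).obj (Over.mk str) ⟶ X) [Mono r] (hq : RepWith @QuasiCompact r) (hX : IsAlgSpace X)
    {Y P : Sp S} (hY : IsReducedSp Y) (f : Y ⟶ X)
    (hf : ∀ y, Points.map f y = ptOfHom r) {fst : P ⟶ (yon S).obj (Over.mk str)} {snd : P ⟶ Y}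
    (sq : IsPullback fst snd r f) : IsIso snd := by
  have : Mono snd := MorphismProperty.of_isPullback (P := MorphismProperty.monomorphisms _) sq
    (MorphismProperty.monomorphisms.infer_property r)
  obtain ⟨W₀, a₀, ha₀, ha₀s, hW₀⟩ := hY
  have : IsReduced W₀.left := hW₀
  obtain ⟨V, b, hbe, hbs⟩ := hX.atlas
  let W := hbe.1.pullback (a₀ ≫ f)
  let w₁ : W ⟶ W₀ := hbe.1.snd (a₀ ≫ f)
  obtain ⟨l, hl⟩ := (yon S).map_surjective (hbe.1.fst (a₀ ≫ f))
  have sqW : IsPullback ((yon S).map l) ((yon S).map w₁) b (a₀ ≫ f) := hl ▸ hbe.1.isPullback (a₀ ≫ f)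
  have : Etale w₁.left := hbe.property_snd (a₀ ≫ f)
  have : Surjective w₁.left := hbs.property_snd (a₀ ≫ f)
  have : IsReduced W.left := isReduced_of_etale' w₁.left
  obtain ⟨hgp, hgr⟩ := isPreimmersion_chart_fibre r hq b hbe
  have sqP := hq.1.isPullback b
  let Q := pullback (hq.1.snd b) l
  have sqQ := (IsPullback.of_hasPullback (hq.1.snd b) l).map (Over.forget S)
  let π := (pullback.snd (hq.1.snd b) l).left
  have hπ : IsPreimmersion π := MorphismProperty.of_isPullback sqQ hgp
  have hsurj : Surjective π := ⟨fun w => by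
    obtain ⟨p, hp⟩ : l.left w ∈ Set.range (hq.1.snd b).left := by
      rw [hgr]
      show Points.ofPt b (l.left w) = _
      rw [← ofPt_map, sqW.w, ← Category.assoc, ← Points.map_ofPt, hf]
    obtain ⟨z, -, hz⟩ := exists_point_of_isPullback
      ((IsPullback.of_hasPullback (hq.1.snd b) l).map (yon S))
      (x := Points.ofScheme _ p) (y := Points.ofScheme W w)
      (by rw [map_yon_map_ofScheme, map_yon_map_ofScheme, hp])
    obtain ⟨v, rfl⟩ := (Points.schemeEquiv _).surjective z
    exact ⟨v, (Points.schemeEquiv W).injective ((map_yon_map_ofScheme _ v).symm.trans hz)⟩⟩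
  have : IsClosedImmersion π :=
    { isClosedEmbedding := ⟨π.isEmbedding, by rw [π.surjective.range_eq]; exact isClosed_univ⟩ }
  have : IsIso π := isIso_of_isClosedImmersion_of_surjective π
  have : IsIso ((Over.forget S).map (pullback.snd (hq.1.snd b) l)) := ‹IsIso π›
  have : IsIso (pullback.snd (hq.1.snd b) l) := isIso_of_reflects_iso _ (Over.forget S)
  let j := sq.lift
    ((yon S).map (inv (pullback.snd (hq.1.snd b) l) ≫ pullback.fst (hq.1.snd b) l) ≫ hq.1.fst b)
    ((yon S).map w₁ ≫ a₀) (by
      rw [Category.assoc, sqP.w, ← Category.assoc, ← Functor.map_comp, Category.assoc,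
        pullback.condition, IsIso.inv_hom_id_assoc, sqW.w, Category.assoc])
  have : Sheaf.IsLocallySurjective ((yon S).map w₁) := isLocallySurjective_of_etale
    ((repWith_yon_map_iff (P := @Etale) w₁).2 inferInstance)
    ((repWith_yon_map_iff (P := @Surjective) w₁).2 inferInstance)
  have : Sheaf.IsLocallySurjective a₀ := isLocallySurjective_of_etale ha₀ ha₀s
  have hj : j ≫ snd = (yon S).map w₁ ≫ a₀ := sq.lift_snd _ _ _
  have : Sheaf.IsLocallySurjective (j ≫ snd) := by rw [hj]; infer_instance
  have : Sheaf.IsLocallySurjective snd :=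
    have : Presheaf.IsLocallySurjective _ (j.hom ≫ snd.hom) := ‹Sheaf.IsLocallySurjective (j ≫ snd)›
    Presheaf.isLocallySurjective_of_isLocallySurjective _ j.hom snd.hom
  have := Balanced.isIso_of_mono_of_epi snd
  assumption

/-- a decent reduced one point space is the spectrum of a field -/
theorem exists_iso_of_decent_subsingleton (hX : IsAlgSpace X) (hd : IsDecent X) (hr : IsReducedSp X)
    [Nonempty (Points X)] [Subsingleton (Points X)] :
    ∃ (k : Type u) (_ : Field k) (str : Spec (CommRingCat.of k) ⟶ S),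
      Nonempty ((yon S).obj (Over.mk str) ≅ X) := by
  obtain ⟨p, -, hm, hq⟩ := hd (Classical.arbitrary _)
  have := isIso_snd_of_reduced p.toHom hq hX hr (𝟙 X) (fun y => Subsingleton.elim _ _)
    (IsPullback.of_hasPullback p.toHom (𝟙 X))
  have : IsIso p.toHom := by
    have e : p.toHom = inv (pullback.fst p.toHom (𝟙 X)) ≫ pullback.snd p.toHom (𝟙 X) := by
      rw [IsIso.eq_inv_comp, pullback.condition, Category.comp_id]
    rw [e]; infer_instance
  exact ⟨p.K, p.field, p.str, ⟨asIso p.toHom⟩⟩

/-- a space with an etale surjection from a field, when decent -/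
theorem exists_iso_of_decent_etale_surjective (hX : IsAlgSpace X) (hd : IsDecent X) {k : Type u} [Field k]
    {str : Spec (CommRingCat.of k) ⟶ S} (p : (yon S).obj (Over.mk str) ⟶ X) (hp : RepWith @Etale p)
    (hs : RepWith @Surjective p) :
    ∃ (k' : Type u) (_ : Field k') (str' : Spec (CommRingCat.of k') ⟶ S)
      (e : (yon S).obj (Over.mk str') ≅ X) (c : Over.mk str ⟶ Over.mk str'),
      (yon S).map c ≫ e.hom = p ∧ IsFinite c.left ∧ Etale c.left := by
  have hsurj := surjective_map_of_repWith hs
  have : Subsingleton (Points X) := ⟨fun x y => by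
    obtain ⟨a, rfl⟩ := hsurj x
    obtain ⟨b, rfl⟩ := hsurj y
    rw [map_eq_ptOfHom, map_eq_ptOfHom]⟩
  have : Nonempty (Points X) := ⟨ptOfHom p⟩
  obtain ⟨k', hk', str', ⟨e⟩⟩ := exists_iso_of_decent_subsingleton hX hd
    ⟨_, p, hp, hs, inferInstanceAs (IsReduced (Spec (CommRingCat.of k)))⟩
  obtain ⟨c, hc⟩ := (yon S).map_surjective (p ≫ e.inv)
  have hce : Etale c.left := by
    refine (repWith_yon_map_iff @Etale c).1 ?_
    rw [hc]
    exact RepWith.comp hp (repWith_of_isIso @Etale e.inv)
  refine ⟨k', hk', str', e, c, by rw [hc, Category.assoc, e.inv_hom_id, Category.comp_id], ?_, hce⟩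
  have : IsAffine (Over.mk str').left := inferInstanceAs (IsAffine (Spec (CommRingCat.of k')))
  have : CompactSpace ↥(Over.mk str).left := inferInstanceAs (CompactSpace ↥(Spec (CommRingCat.of k)))
  have : IsLocallyArtinian (Over.mk str').left :=
    inferInstanceAs (IsLocallyArtinian (Spec (CommRingCat.of k')))
  have := locallyQuasiFinite_of_etale c.left
  have : QuasiCompact c.left := (quasiCompact_iff_compactSpace (f := c.left)).2 inferInstance
  exact IsFinite.of_locallyQuasiFinite _

/-- closed points of decent spaces are closed immersions -/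
theorem exists_closedImmersion_point (hX : IsAlgSpace X) (hd : IsDecent X) (x : Points X)
    (hx : IsClosed ({x} : Set (Points X))) :
    ∃ p : FieldPt X, Points.mk p = x ∧ RepWith @IsClosedImmersion p.toHom := by
  obtain ⟨p, rfl, hm, hq⟩ := hd x
  refine ⟨p, rfl, ?_⟩
  obtain ⟨V, b, hbe, hbs⟩ := hX.atlas
  obtain ⟨hgp, hgr⟩ := isPreimmersion_chart_fibre p.toHom hq b hbe
  have : IsClosedImmersion (hq.1.snd b).left :=
    { isClosedEmbedding := ⟨(hq.1.snd b).left.isEmbedding, by
        rw [hgr, ptOfHom_toHom]; exact hx.preimage (Points.continuous_ofPt b)⟩ }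
  have : Sheaf.IsLocallySurjective b := isLocallySurjective_of_etale hbe hbs
  exact repWith_of_isLocallySurjective hq.1 b (hq.1.isPullback b) @IsClosedImmersion
    ((repWith_yon_map_iff (P := @IsClosedImmersion) _).2 inferInstance)

end Groth.Agent.AlgSpLib
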