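import Groth.Agent.AlgSpLib.QuasiSober
import Groth.Agent.AlgSpLib.MorProper
import Groth.Agent.AlgSpLib.DecentMore

/-!
Spectral spaces of points; Jacobson decent spaces.
-/

universe u

open CategoryTheory CategoryTheory.Limits AlgebraicGeometry Opposite Topology TopologicalSpace
open AlgSp

noncomputable section

namespace Groth.Agent.AlgSpLib

set_option backward.isDefEq.respectTransparency.types false

variable {S : Scheme.{u}} {X : Sp S}

theorem spectralSpace_points [QuasiSeparatedSpace ↥S] (hX : IsAlgSpace X) (hqc : IsQuasiCompactSp X)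
    (hqs : IsQuasiSeparatedSp X) : SpectralSpace (Points X) := by
  have hd := isDecent_of_qsep hX hqs
  have := t0Space_points hX hd
  have := quasiSober_points hX hd
  have := compactSpace_points_of_isQuasiCompactSp hqc
  obtain ⟨U, a, hU, ha, has⟩ := exists_affine_chart hX
  have hsurj := surjective_ofPt a has
  obtain ⟨t, ht⟩ := (yon S).map_surjective (ha.1.fst a)
  let s := ha.1.snd a
  have sqR : IsPullback ((yon S).map t) ((yon S).map s) a a := ht ▸ ha.1.isPullback a
  have hq : IsQuasiCompactMor a := isQuasiCompactMor_of_qc_qs (IsAlgSpace.yon_obj U) hX a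
    ⟨U, 𝟙 _, repWith_id _ U, repWith_id _ U, inferInstance⟩ hqs
  have : CompactSpace ↥(ha.1.pullback a).left := by
    have := compactSpace_of_isQuasiCompactMor hq sqR
    exact (Points.schemeHomeo (ha.1.pullback a)).symm.compactSpace
  have : QuasiCompact t.left := quasiCompact_of_compactSpace _
  have hpre : ∀ M : Set U.left, IsOpen M → IsCompact M →
      IsCompact (Points.ofPt a ⁻¹' (Points.ofPt a '' M)) := fun M hMo hMc => by
    have e : Points.ofPt a ⁻¹' (Points.ofPt a '' M) = s.left '' (t.left ⁻¹' M) := by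
      ext u
      constructor
      · rintro ⟨m, hm, he⟩
        obtain ⟨r, hr1, hr2⟩ := (ofPt_eq_ofPt_iff sqR m u).1 he
        exact ⟨r, show t.left r ∈ M by rw [hr1]; exact hm, hr2⟩
      · rintro ⟨r, hr, rfl⟩
        exact ⟨_, hr, by rw [← ofPt_map, sqR.w, ofPt_map]⟩
    rw [e]
    exact (t.left.isCompact_preimage (U := ⟨M, hMo⟩) hMc).image s.left.continuous
  have hbasis : IsTopologicalBasis {W : Set (Points X) | IsOpen W ∧ IsCompact W} :=
    isTopologicalBasis_of_isOpen_of_nhds (fun _ hW => hW.1) fun x W hxW hW => by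
      obtain ⟨u, rfl⟩ := hsurj x
      obtain ⟨M, hM, huM, hMW⟩ := exists_isAffineOpen_mem_and_subset (x := u)
        (U := ⟨Points.ofPt a ⁻¹' W, hW.preimage (Points.continuous_ofPt a)⟩) hxW
      exact ⟨Points.ofPt a '' M, ⟨isOpenMap_ofPt a ha _ M.2,
        hM.isCompact.image (Points.continuous_ofPt a)⟩, ⟨u, huM, rfl⟩,
        Set.image_subset_iff.2 hMW⟩
  have hcp : ∀ K : Set (Points X), IsOpen K → IsCompact K → IsCompact (Points.ofPt a ⁻¹' K) := fun K hKo hKc => by
    have hcov : ∀ x ∈ K, ∃ M : U.left.Opens, IsAffineOpen M ∧ x ∈ Points.ofPt a '' (M : Set U.left) ∧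
        Points.ofPt a '' (M : Set U.left) ⊆ K := fun x hx => by
      obtain ⟨u, rfl⟩ := hsurj x
      obtain ⟨M, hM, huM, hMW⟩ := exists_isAffineOpen_mem_and_subset (x := u)
        (U := ⟨Points.ofPt a ⁻¹' K, hKo.preimage (Points.continuous_ofPt a)⟩) hx
      exact ⟨M, hM, ⟨u, huM, rfl⟩, Set.image_subset_iff.2 hMW⟩
    choose M hM hxM hMK using hcov
    obtain ⟨σ, hσ⟩ := hKc.elim_finite_subcover (fun x : K => Points.ofPt a '' (M x.1 x.2 : Set U.left))
      (fun x => isOpenMap_ofPt a ha _ (M x.1 x.2).2) fun x hx => Set.mem_iUnion.2 ⟨⟨x, hx⟩, hxM x hx⟩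
    have e : Points.ofPt a ⁻¹' K = ⋃ x ∈ σ, Points.ofPt a ⁻¹' (Points.ofPt a '' (M x.1 x.2 : Set U.left)) := by
      refine subset_antisymm (fun u hu => ?_) (Set.iUnion₂_subset fun x _ => Set.preimage_mono (hMK x.1 x.2))
      obtain ⟨x, hx, h⟩ := Set.mem_iUnion₂.1 (hσ hu)
      exact Set.mem_biUnion hx h
    rw [e]
    exact σ.finite_toSet.isCompact_biUnion fun x _ => hpre _ (M x.1 x.2).2 (hM x.1 x.2).isCompact
  have : QuasiSeparatedSpace (Points X) := ⟨fun K L hKo hKc hLo hLc => by
    have e : K ∩ L = Points.ofPt a '' (Points.ofPt a ⁻¹' K ∩ Points.ofPt a ⁻¹' L) := by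
      rw [← Set.preimage_inter, Set.image_preimage_eq _ hsurj]
    rw [e]
    exact ((hcp K hKo hKc).inter_of_isOpen (hcp L hLo hLc) (hKo.preimage (Points.continuous_ofPt a))
      (hLo.preimage (Points.continuous_ofPt a))).image (Points.continuous_ofPt a)⟩
  have : PrespectralSpace (Points X) := ⟨hbasis⟩
  exact {}

/-- finite type points of decent Jacobson spaces are closed -/
theorem isClosed_point_iff (hX : IsAlgSpace X) (hd : IsDecent X)
    (hJ : EtaleLocally (fun U => JacobsonSpace ↥U) X) (x : Points X) :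
    HasAt (fun U u => IsClosed ({u} : Set ↥U)) X x ↔ IsClosed ({x} : Set (Points X)) := by
  constructor
  · rintro ⟨U, a, u, ha, rfl, hu⟩
    obtain ⟨V, b, hbe, hbs, hV⟩ := hJ
    have : JacobsonSpace ↥V.left := hV
    have hclosed : ∀ v, Points.ofPt b v = Points.ofPt a u → IsClosed ({v} : Set ↥V.left) := fun v hv => by
      have sq := ha.1.isPullback' b
      have het1 : Etale (ha.1.fst' b).left := hbe.property _ _ _ sq.flip
      have het2 : Etale (ha.1.snd b).left := ha.property_snd b
      obtain ⟨r, hr1, hr2⟩ := (ofPt_eq_ofPt_iff sq u v).1 hv.symm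
      have := locallyQuasiFinite_of_etale (ha.1.fst' b).left
      have hd' := (ha.1.fst' b).left.isDiscrete_preimage_singleton u
      have hr : IsClosed ({r} : Set ↥(ha.1.pullback b).left) := by
        have hF : IsClosed ((ha.1.fst' b).left ⁻¹' {u}) := hu.preimage (ha.1.fst' b).left.continuous
        have := isDiscrete_iff_discreteTopology.1 hd'
        have h : IsClosed ({⟨r, hr1⟩} : Set ((ha.1.fst' b).left ⁻¹' {u})) := isClosed_discrete _
        have h' := hF.isClosedEmbedding_subtypeVal.isClosedMap _ h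
        rwa [Set.image_singleton] at h'
      rw [← hr2]
      exact (ha.1.snd b).left.closePoints_subset_preimage_closedPoints hr
    refine isClosed_of_closure_subset fun y hy => ?_
    obtain ⟨v, rfl⟩ := surjective_ofPt b hbs y
    obtain ⟨v', hv', he⟩ := exists_specializes_chart (FiniteFibres.of_mk (hd _)).1 b hbe v
      (specializes_iff_mem_closure.2 hy)
    have : v ∈ ({v'} : Set ↥V.left) := hv'.mem_closed (hclosed v' he) rfl
    rw [Set.mem_singleton_iff] at this ⊢
    rw [this, he]
  · intro hx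
    obtain ⟨U, a, hae, has⟩ := hX.atlas
    obtain ⟨u, rfl⟩ := surjective_ofPt a has x
    refine ⟨U, a, u, hae, rfl, isClosed_of_closure_subset fun w hw => ?_⟩
    have hs : u ⤳ w := specializes_iff_mem_closure.2 hw
    have hw' : Points.ofPt a w = Points.ofPt a u :=
      (hs.map (Points.continuous_ofPt a)).mem_closed hx rfl
    exact eq_of_specializes_of_finiteFibres (FiniteFibres.of_mk (hd _)).2 a hae hw' rfl hs

theorem jacobson_iff (hX : IsAlgSpace X) (hd : IsDecent X) :
    EtaleLocally (fun U => JacobsonSpace ↥U) X ↔ JacobsonSpace (Points X) := by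
  constructor
  · intro hJ
    obtain ⟨V, b, hbe, hbs, hV⟩ := id hJ
    have : JacobsonSpace ↥V.left := hV
    refine jacobsonSpace_iff_locallyClosed.2 fun Z hZ hZ' => ?_
    obtain ⟨x, hx⟩ := hZ
    obtain ⟨v, rfl⟩ := surjective_ofPt b hbs x
    obtain ⟨w, hw, hwc⟩ := nonempty_inter_closedPoints (Z := Points.ofPt b ⁻¹' Z) ⟨v, hx⟩
      (hZ'.preimage (Points.continuous_ofPt b))
    exact ⟨_, hw, (isClosed_point_iff hX hd hJ _).1 ⟨V, b, w, hbe, rfl, hwc⟩⟩
  · intro hJ
    obtain ⟨U, a, hae, has⟩ := hX.atlas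
    refine ⟨U, a, hae, has, ?_⟩
    refine jacobsonSpace_iff_locallyClosed.2 fun Z hZ hZ' => ?_
    -- reduce to a locally closed point
    obtain ⟨C₁, C₂, hC₁, hC₂, rfl⟩ := hZ'
    obtain ⟨z, hz1, hz2⟩ := hZ
    obtain ⟨M, hM, hzM, hMC⟩ := exists_isAffineOpen_mem_and_subset (x := z) (U := ⟨C₁, hC₁⟩) hz1
    have hne : ((M : Set U.left) ∩ C₂).Nonempty := ⟨z, hzM, hz2⟩
    have : CompactSpace ↥M.toScheme := isCompact_iff_compactSpace.mp hM.isCompact
    have hK : IsClosed (M.ι ⁻¹' C₂) := hC₂.preimage M.ι.continuous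
    obtain ⟨m, hm, hmc⟩ := hK.exists_closed_singleton ⟨⟨z, hzM⟩, hz2⟩
    let v : U.left := M.ι m
    refine ⟨v, ⟨hMC m.2, hm⟩, ?_⟩
    -- the other points of the fibre in `M`
    let V' : Over S := Over.mk (M.ι ≫ U.hom)
    let j : V' ⟶ U := Over.homMk M.ι
    have : IsAffine V'.left := hM
    have hj : IsOpenImmersion j.left := inferInstanceAs (IsOpenImmersion M.ι)
    have hb : RepWith @Etale ((yon S).map j ≫ a) :=
      RepWith.comp ((repWith_yon_map_iff (P := @Etale) j).2 inferInstance) hae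
    obtain ⟨hq, hf⟩ := FiniteFibres.of_mk (hd (Points.ofPt a v))
    let F : Set M.toScheme := Points.ofPt ((yon S).map j ≫ a) ⁻¹' {Points.ofPt a v}
    have hF : (F \ {m}).Finite := ((hf V' _ inferInstance hb)).subset Set.sdiff_subset
    let O : Set U.left := M.ι '' (⋃ w ∈ F \ {m}, closure {w})ᶜ
    have hO : IsOpen O := M.ι.isOpenEmbedding.isOpenMap _
      (hF.isClosed_biUnion fun _ _ => isClosed_closure).isOpen_compl
    have hmO : v ∈ O := ⟨m, fun h => by
      obtain ⟨w, hw, hmw⟩ := Set.mem_iUnion₂.1 h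
      exact hw.2 (eq_of_specializes_of_finiteFibres hf ((yon S).map j ≫ a) hb
        (show Points.ofPt ((yon S).map j ≫ a) m = _ from ofPt_map j a m) hw.1
        (specializes_iff_mem_closure.2 hmw)).symm, rfl⟩
    have hx : IsClosed ({Points.ofPt a v} : Set (Points X)) := by
      refine isClosed_singleton_of_isLocallyClosed_singleton
        ⟨Points.ofPt a '' O, closure {Points.ofPt a v}, isOpenMap_ofPt a hae _ hO, isClosed_closure, ?_⟩
      refine subset_antisymm (Set.singleton_subset_iff.2 ⟨⟨v, hmO, rfl⟩, subset_closure rfl⟩) ?_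
      rintro _ ⟨⟨_, ⟨w, hw, rfl⟩, rfl⟩, hy⟩
      obtain ⟨w', hw', he⟩ := exists_specializes_chart hq ((yon S).map j ≫ a) hb w (by
        rw [ofPt_map]; exact specializes_iff_mem_closure.2 hy)
      have hw'F : w' ∈ F := he
      by_cases h : w' = m
      · subst h
        have : w ∈ ({w'} : Set M.toScheme) := hw'.mem_closed hmc rfl
        rw [Set.mem_singleton_iff.1 this]; rfl
      · exact absurd (Set.mem_biUnion (s := F \ {m}) (t := fun z => closure {z}) ⟨hw'F, h⟩ (specializes_iff_mem_closure.1 hw')) hw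
    have hvfin := (FiniteFibres.of_mk (hd (Points.ofPt a v))).2
    refine isClosed_of_closure_subset fun w hw => ?_
    have hs : v ⤳ w := specializes_iff_mem_closure.2 hw
    exact eq_of_specializes_of_finiteFibres hvfin a hae
      ((hs.map (Points.continuous_ofPt a)).mem_closed hx rfl) rfl hs

end Groth.Agent.AlgSpLib
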