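import Groth.Agent.AlgSpLib.DedekindScheme
import Groth.Agent.Et18.ProperClopen.Subrings
import Mathlib.RingTheory.Flat.TorsionFree
import Mathlib.AlgebraicGeometry.Morphisms.Flat
import Groth.Prelude.Def_AlgSpRep

/-!
Schematic closures of generic fibres over affine integral bases and stages of finite type of sections of
limit preserving sheaves.
-/

universe u

open CategoryTheory CategoryTheory.Limits AlgebraicGeometry Opposite Topology
open AlgSp

noncomputable section

set_option linter.style.haveILetI false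

namespace Groth.Agent.AlgSpLib.DedClosure

open Groth.Agent.AlgSpLib

set_option backward.isDefEq.respectTransparency.types false
set_option backward.isDefEq.respectTransparency false

section Scheme

variable {B : Scheme.{u}} [IsIntegral B]

/-- the generic point as a scheme over the base -/
abbrev pK (B : Scheme.{u}) [IsIntegral B] : Spec (B.presheaf.stalk (genericPoint ↥B)) ⟶ B :=
  B.fromSpecStalk (genericPoint ↥B)

theorem pK_apply (y : ↥(Spec (B.presheaf.stalk (genericPoint ↥B)))) : pK B y = genericPoint ↥B := by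
  have h : pK B y ∈ Set.range (pK B) := ⟨y, rfl⟩
  rw [Scheme.range_fromSpecStalk] at h
  exact ((genericPoint_specializes (pK B y)).antisymm h).eq.symm

theorem exists_pK {b : ↥B} (h : b = genericPoint ↥B) : ∃ y, pK B y = b :=
  ⟨IsLocalRing.closedPoint _, h.symm ▸ Scheme.fromSpecStalk_closedPoint⟩

instance flat_pK : Flat (pK B) := by
  obtain ⟨U, hU, hxU, -⟩ := exists_isAffineOpen_mem_and_subset (X := B) (x := genericPoint ↥B) (U := ⊤) trivial
  rw [show pK B = hU.fromSpecStalk hxU from (hU.fromSpecStalk_eq_fromSpecStalk hxU).symm, IsAffineOpen.fromSpecStalk]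
  haveI : Flat (Spec.map (B.presheaf.germ U (genericPoint ↥B) hxU)) := by
    refine (HasRingHomProperty.Spec_iff (P := @Flat)).2 ?_
    letI := (B.presheaf.germ U (genericPoint ↥B) hxU).hom.toAlgebra
    haveI := hU.isLocalization_stalk ⟨_, hxU⟩
    show Module.Flat _ _
    exact IsLocalization.flat _ (hU.primeIdealOf ⟨_, hxU⟩).asIdeal.primeCompl
  infer_instance

variable [IsAffine B]

theorem mem_basicOpen_of_ne_zero {r : Γ(B, ⊤)} (hr : r ≠ 0) : genericPoint ↥B ∈ B.basicOpen r := by
  by_contra hn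
  refine hr ((basicOpen_eq_bot_iff r).1 ?_)
  ext x
  exact ⟨fun hx => (hn (((genericPoint_spec ↥B).mem_open_set_iff (B.basicOpen r).isOpen).2 ⟨x, trivial, hx⟩)).elim,
    fun hx => hx.elim⟩

/-- sections of a flat scheme vanishing on the generic fibre vanish -/
theorem ker_eq_bot_of_flat {T : Scheme.{u}} (f : T ⟶ B) [hf : Flat f] :
    (pullback.fst f (pK B)).ker = ⊥ := by
  haveI : IsAffineHom (pK B) := inferInstance
  refine Scheme.IdealSheafData.ext (funext fun U => ?_)
  rw [Scheme.Hom.ker_apply, Scheme.IdealSheafData.ideal_bot, Pi.bot_apply]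
  refine le_bot_iff.1 fun m hm => (Submodule.mem_bot _).2 ?_
  let e : (U : T.Opens) ≤ f ⁻¹ᵁ (⊤ : B.Opens) := le_top
  let φ := (f.appLE ⊤ U e).hom
  have hflat : φ.Flat := (HasRingHomProperty.iff_appLE.mp hf) ⟨⊤, isAffineOpen_top B⟩ U e
  letI := φ.toAlgebra
  haveI : Module.Flat Γ(B, ⊤) Γ(T, U) := hflat
  haveI : IsDomain Γ(B, ⊤) := inferInstance
  -- the section vanishes at the points over the generic point
  have hgerm : ∀ x (hx : x ∈ (U : T.Opens)), f x = genericPoint ↥B →
      (T.presheaf.germ U x hx).hom m = 0 := by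
    intro x hx hxg
    obtain ⟨y₀, hy₀⟩ := exists_pK hxg
    obtain ⟨y, hy, -⟩ := Scheme.Pullback.exists_preimage_pullback x y₀ hy₀.symm
    subst hy
    let p := pullback.fst f (pK B)
    haveI : Flat p := MorphismProperty.pullback_fst (P := @Flat) _ _ inferInstance
    have hstalk : Function.Injective (p.stalkMap y).hom := by
      algebraize [(p.stalkMap y).hom]
      haveI : IsLocalHom (algebraMap (T.presheaf.stalk (p y)) ((pullback f (pK B)).presheaf.stalk y)) :=
        inferInstanceAs <| IsLocalHom (p.stalkMap y).hom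
      haveI : Module.FaithfullyFlat (T.presheaf.stalk (p y)) ((pullback f (pK B)).presheaf.stalk y) :=
        @Module.FaithfullyFlat.of_flat_of_isLocalHom _ _ _ _ _ _ _ (Flat.stalkMap p y) ‹_›
      exact (RingHom.FaithfullyFlat.injective ‹_› :)
    refine hstalk ?_
    erw [Scheme.Hom.germ_stalkMap_apply]
    rw [show (p.app U).hom m = 0 from hm, map_zero, map_zero]
  let I : Ideal Γ(T, U) := LinearMap.ker (LinearMap.toSpanSingleton Γ(T, U) Γ(T, U) m)
  have hI : ∀ c, c ∈ I ↔ c * m = 0 := fun c => by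
    rw [LinearMap.mem_ker, LinearMap.toSpanSingleton_apply, smul_eq_mul]
  let M : Submonoid Γ(T, U) := (nonZeroDivisors Γ(B, ⊤)).map (φ : Γ(B, ⊤) →* Γ(T, U))
  have hdis : ¬ Disjoint (I : Set Γ(T, U)) (M : Set Γ(T, U)) := by
    intro hd
    obtain ⟨P, hP, hIP, hPM⟩ := Ideal.exists_le_prime_disjoint I M hd
    let pt : PrimeSpectrum Γ(T, U) := ⟨P, hP⟩
    have hx : U.2.fromSpec pt ∈ (U : T.Opens) := U.2.range_fromSpec.subset ⟨pt, rfl⟩
    have hxg : f (U.2.fromSpec pt) = genericPoint ↥B := by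
      have h1 : f (U.2.fromSpec pt) = (isAffineOpen_top B).fromSpec (PrimeSpectrum.comap φ pt) :=
        (congrArg (fun k => k pt) ((isAffineOpen_top B).SpecMap_appLE_fromSpec f U.2 e)).symm
      rw [h1]
      refine (congrArg (fun q => (isAffineOpen_top B).fromSpec q) (?_ : _ = (isAffineOpen_top B).primeIdealOf
        ⟨genericPoint ↥B, trivial⟩)).trans ((isAffineOpen_top B).fromSpec_primeIdealOf ⟨genericPoint ↥B, trivial⟩)
      haveI : Nonempty (⊤ : B.Opens) := ⟨⟨genericPoint ↥B, trivial⟩⟩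
      rw [(isAffineOpen_top B).primeIdealOf_genericPoint, genericPoint_eq_bot_of_affine]
      refine PrimeSpectrum.ext (le_bot_iff.1 fun b hb => (Submodule.mem_bot _).2 ?_)
      by_contra hb0
      exact Set.disjoint_left.1 hPM hb ⟨b, mem_nonZeroDivisors_of_ne_zero hb0, rfl⟩
    obtain ⟨W, hxW, i₁, i₂, hres⟩ := T.presheaf.germ_eq _ hx hx m 0 ((hgerm _ hx hxg).trans (map_zero _).symm)
    obtain ⟨c, hcW, hcx⟩ := U.2.exists_basicOpen_le ⟨_, hxW⟩ hx
    have hcP : c ∉ P := by
      intro hc
      have : pt ∈ U.2.fromSpec ⁻¹ᵁ T.basicOpen c := hcx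
      rw [IsAffineOpen.fromSpec_preimage_basicOpen] at this
      exact this hc
    haveI := U.2.isLocalization_basicOpen c
    have hz : algebraMap Γ(T, U) Γ(T, T.basicOpen c) m = 0 := by
      have h2 := (congrArg (T.presheaf.map (homOfLE hcW).op).hom (hres.trans (map_zero _))).trans (map_zero _)
      have hc : ∀ {A B C : T.Opensᵒᵖ} (a : A ⟶ B) (b : B ⟶ C) (x : Γ(T, A.unop)),
          (T.presheaf.map b).hom ((T.presheaf.map a).hom x) = (T.presheaf.map (a ≫ b)).hom x := fun a b x => by
        rw [Functor.map_comp]; rfl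
      refine Eq.trans ?_ h2
      exact (hc _ _ _).symm
    obtain ⟨⟨_, k, rfl⟩, hk⟩ := (IsLocalization.map_eq_zero_iff (Submonoid.powers c) Γ(T, T.basicOpen c) m).1 hz
    exact hcP (hP.mem_of_pow_mem k (hIP ((hI _).2 hk)))
  obtain ⟨_, hc, ⟨r, hr, rfl⟩⟩ := Set.not_disjoint_iff.1 hdis
  have : m ∈ Submodule.torsion Γ(B, ⊤) Γ(T, U) := ⟨⟨r, hr⟩, (hI _).1 hc⟩
  rwa [Module.Flat.torsion_eq_bot, Submodule.mem_bot] at this

/-- a closed subscheme of a flat scheme containing the generic fibre is everything -/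
theorem isIso_of_generic {T Q : Scheme.{u}} (f : T ⟶ B) [Flat f] (q : Q ⟶ T)
    [IsClosedImmersion q] {l : pullback f (pK B) ⟶ Q}
    (hl : l ≫ q = pullback.fst f (pK B)) : IsIso q := by
  refine IsClosedImmersion.isIso_iff_ker_eq_bot.2 (le_bot_iff.1 ?_)
  rw [← ker_eq_bot_of_flat f, ← hl]
  exact Scheme.Hom.le_ker_comp l q

/-- the scheme-theoretic closure of the generic fibre is flat -/
theorem flat_closure {T : Scheme.{u}} (f : T ⟶ B)
    (hD : ∀ U : B.affineOpens, Nonempty (U : B.Opens) → IsDedekindDomain Γ(B, U)) :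
    Flat ((pullback.fst f (pK B)).imageι ≫ f) := by
  let p := pullback.fst f (pK B)
  let ι := p.imageι
  let h := ι ≫ f
  rw [HasRingHomProperty.iff_appLE (P := @Flat)]
  intro U W e
  rcases isEmpty_or_nonempty (W : p.image.Opens) with hW | ⟨⟨w, hw⟩⟩
  · haveI : Subsingleton Γ(p.image, W) := by
      have hbot : (W : p.image.Opens) = ⊥ := by
        ext x
        exact ⟨fun hx => (hW.false ⟨x, hx⟩).elim, fun hx => hx.elim⟩
      rw [hbot]
      exact CommRingCat.subsingleton_of_isTerminal p.image.sheaf.isTerminalOfEmpty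
    letI := (h.appLE U W e).hom.toAlgebra
    exact (inferInstance : Module.Flat Γ(B, U) Γ(p.image, W))
  haveI hUne : Nonempty (U : B.Opens) := ⟨⟨h w, e hw⟩⟩
  haveI := hD U hUne
  let φ := (h.appLE U W e).hom
  letI := φ.toAlgebra
  refine IsDedekindDomain.flat_iff_torsion_eq_bot.2 (le_bot_iff.1 fun m hm => (Submodule.mem_bot _).2 ?_)
  obtain ⟨⟨r, hr⟩, hrm⟩ := hm
  have hrm' : φ r * m = 0 := hrm
  have hr0 : r ≠ 0 := nonZeroDivisors.ne_zero hr
  have hgr : genericPoint ↥B ∈ B.basicOpen r := by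
    by_contra hn
    refine hr0 ((basicOpen_eq_bot_iff r).1 ?_)
    ext x
    exact ⟨fun hx => (hn (((genericPoint_spec ↥B).mem_open_set_iff (B.basicOpen r).isOpen).2 ⟨x, trivial, hx⟩)).elim,
      fun hx => hx.elim⟩
  refine TopCat.Presheaf.section_ext p.image.sheaf (W : p.image.Opens) m 0 fun z hz => ?_
  obtain ⟨W', hW'o, hW'e⟩ := (ι.isEmbedding.isInducing.isOpen_iff).1 (W : p.image.Opens).isOpen
  obtain ⟨U'', hU''a, hzU, hU''le⟩ := exists_isAffineOpen_mem_and_subset (X := T) (x := ι z) (U := ⟨W', hW'o⟩)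
    (show z ∈ ι ⁻¹' W' from hW'e ▸ hz)
  have hle : ι ⁻¹ᵁ U'' ≤ (W : p.image.Opens) := fun y hy => hW'e.subset (hU''le hy)
  let m' := (p.image.presheaf.map (homOfLE hle).op).hom m
  suffices hm0 : m' = 0 by
    have := congrArg (p.image.presheaf.germ (ι ⁻¹ᵁ U'') z hzU).hom hm0
    rw [map_zero, ← RingHom.comp_apply, ← CommRingCat.hom_comp, TopCat.Presheaf.germ_res] at this
    rw [map_zero]
    exact this
  refine p.toImage_app_injective (U := ⟨U'', hU''a⟩) ?_
  rw [map_zero]
  let ψ := (p.toImage.app (ι ⁻¹ᵁ U'')).hom.comp (p.image.presheaf.map (homOfLE hle).op).hom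
  have h0 : ψ (φ r) * ψ m = 0 := by rw [← map_mul, hrm', map_zero]
  refine (IsUnit.mul_right_eq_zero ?_).1 h0
  have hb : (pullback f (pK B)).basicOpen (ψ (φ r)) = p.toImage ⁻¹ᵁ (ι ⁻¹ᵁ U'') := by
    refine le_antisymm (Scheme.basicOpen_le _ _) fun y hy => ?_
    show y ∈ (pullback f (pK B)).basicOpen ((p.toImage.app (ι ⁻¹ᵁ U'')) ((p.image.presheaf.map (homOfLE hle).op) (φ r)))
    rw [← Scheme.preimage_basicOpen, Scheme.basicOpen_res]
    refine ⟨hy, ?_⟩
    rw [Scheme.basicOpen_appLE h W.1 U.1 e r]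
    refine ⟨hle hy, ?_⟩
    show f ((p.toImage ≫ ι) y) ∈ B.basicOpen r
    rw [Scheme.Hom.toImage_imageι, ← Scheme.Hom.comp_apply, pullback.condition, Scheme.Hom.comp_apply, pK_apply]
    exact hgr
  have hu := RingedSpace.isUnit_res_basicOpen (pullback f (pK B)).toRingedSpace (ψ (φ r))
  have key : ∀ {V V' : (pullback f (pK B)).Opens} (i : V' ≤ V) (a : Γ(pullback f (pK B), V)), V' = V →
      IsUnit (((pullback f (pK B)).presheaf.map (homOfLE i).op).hom a) → IsUnit a := by
    intro V V' i a e ha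
    subst e
    rw [show (homOfLE i).op = 𝟙 _ from Subsingleton.elim _ _, (pullback f (pK B)).presheaf.map_id] at ha
    exact ha
  exact key (Scheme.basicOpen_le _ _) _ hb hu

end Scheme

section Stage

variable {S : Scheme.{u}} {A : Type u} [CommRing A] (R : Type u) [CommRing R] [Algebra A R]
  (jB : Spec (CommRingCat.of A) ⟶ S)

/-- the spectrum of an algebra as an object over the base -/
abbrev oR : Over S := Over.mk (Spec.map (CommRingCat.ofHom (algebraMap A R)) ≫ jB)

variable {R} in
/-- algebra maps as maps of spectra -/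
def rMap {R' : Type u} [CommRing R'] [Algebra A R'] (φ : R' →ₐ[A] R) : oR R jB ⟶ oR R' jB :=
  Over.homMk (Spec.map (CommRingCat.ofHom φ.toRingHom)) (by
    show Spec.map (CommRingCat.ofHom φ.toRingHom) ≫ Spec.map (CommRingCat.ofHom (algebraMap A R')) ≫ jB =
      Spec.map (CommRingCat.ofHom (algebraMap A R)) ≫ jB
    rw [← Category.assoc, ← Spec.map_comp, ← CommRingCat.ofHom_comp,
      show φ.toRingHom.comp (algebraMap A R') = algebraMap A R from φ.comp_algebraMap])

/-- sections of limit preserving sheaves come from the members of an exhausting family -/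
theorem exists_sub_factor {G : Sp S} (hG : IsLimitPreserving G.obj) (g : (yon S).obj (oR R jB) ⟶ G)
    (sub : Finset R → Subalgebra A R) (hsub : Monotone sub) (hcov : ∀ a : R, ∃ s, a ∈ sub s) :
    ∃ (s : Finset R) (g' : (yon S).obj (oR ↥(sub s) jB) ⟶ G), (yon S).map (rMap jB (sub s).val) ≫ g' = g := by
  classical
  let D : (Finset R)ᵒᵖ ⥤ Over S :=
    { obj := fun s => oR ↥(sub s.unop) jB
      map := fun {a b} f => rMap jB (Subalgebra.inclusion (hsub (leOfHom f.unop)))
      map_id := fun s => Over.OverMorphism.ext (by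
        show Spec.map (CommRingCat.ofHom (Subalgebra.inclusion (le_refl (sub s.unop))).toRingHom) = 𝟙 _
        rw [← Spec.map_id]
        rfl)
      map_comp := fun {a b c} f h => Over.OverMorphism.ext (by
        show _ = Spec.map _ ≫ Spec.map _
        rw [← Spec.map_comp]
        rfl) }
  let c : Cone D :=
    { pt := oR R jB
      π :=
        { app := fun s => rMap jB (sub s.unop).val
          naturality := fun a b f => Over.OverMorphism.ext (by
            show 𝟙 _ ≫ Spec.map _ = Spec.map _ ≫ Spec.map _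
            rw [Category.id_comp, ← Spec.map_comp]
            rfl) } }
  have hc : IsLimit ((Over.forget S).mapCone c) :=
    isLimitOfPreserves Scheme.Spec (Groth.Agent.Et18.ProperClopen.isColimitCocone
      (⟨fun s => (sub s).toSubring, fun _ _ h _ hx => hsub h hx⟩ : Finset R →o Subring R)
      hcov).op
  obtain ⟨hcol⟩ := hG D c hc (fun s => inferInstanceAs (IsAffine (Spec _))) (inferInstanceAs (IsAffine (Spec _)))
  obtain ⟨o, x, hx⟩ := Types.jointly_surjective _ hcol ((J S).uliftYonedaEquiv g)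
  refine ⟨o.unop.unop, (J S).uliftYonedaEquiv.symm x, ?_⟩
  refine (J S).uliftYonedaEquiv.injective ?_
  rw [← GrothendieckTopology.uliftYonedaEquiv_naturality, Equiv.apply_symm_apply]
  exact hx

/-- sections of limit preserving sheaves come from finitely generated subalgebras -/
theorem exists_fg_factor {G : Sp S} (hG : IsLimitPreserving G.obj) (g : (yon S).obj (oR R jB) ⟶ G) :
    ∃ (R' : Subalgebra A R), R'.FG ∧ ∃ g' : (yon S).obj (oR ↥R' jB) ⟶ G, (yon S).map (rMap jB R'.val) ≫ g' = g := by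
  obtain ⟨s, g', h⟩ := exists_sub_factor R jB hG g (fun s => Algebra.adjoin A (s : Set R))
    (fun a b h => Algebra.adjoin_mono (Finset.coe_subset.2 h))
    (fun a => ⟨{a}, Algebra.subset_adjoin (Finset.mem_coe.2 (Finset.mem_singleton_self a))⟩)
  exact ⟨_, Subalgebra.fg_adjoin_finset s, g', h⟩

/-- in a finite algebra over a Dedekind domain a power product of one element kills the torsion, so that the
localization is flat -/
theorem exists_flat_away [IsDedekindDomain A] (R' : Type u) [CommRing R'] [Algebra A R']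
    [Algebra.FiniteType A R'] : ∃ r : A, r ≠ 0 ∧ Module.Flat A (Localization.Away (algebraMap A R' r)) := by
  haveI : IsNoetherianRing R' := Algebra.FiniteType.isNoetherianRing A R'
  let I : Ideal R' :=
    { carrier := (Submodule.torsion A R' : Set R')
      add_mem' := fun ha hb => add_mem ha hb
      zero_mem' := zero_mem _
      smul_mem' := fun c x hx => by
        obtain ⟨a, ha⟩ := hx
        exact ⟨a, by rw [smul_eq_mul, Submonoid.smul_def, ← mul_smul_comm, ← Submonoid.smul_def, ha, mul_zero]⟩ }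
  obtain ⟨s, hs⟩ := IsNoetherian.noetherian I
  have hs' : ∀ x ∈ s, ∃ r : A, r ≠ 0 ∧ r • x = 0 := fun x hx => by
    obtain ⟨⟨a, ha⟩, hax⟩ : x ∈ I := hs ▸ Submodule.subset_span hx
    exact ⟨a, nonZeroDivisors.ne_zero ha, hax⟩
  choose! r hr0 hr using hs'
  classical
  refine ⟨∏ x ∈ s, r x, Finset.prod_ne_zero_iff.2 hr0, ?_⟩
  set ρ := ∏ x ∈ s, r x
  have hkill : ∀ x ∈ I, ρ • x = 0 := by
    intro x hx
    rw [← hs] at hx
    induction hx using Submodule.span_induction with
    | mem y hy => rw [show ρ = (∏ x ∈ s.erase y, r x) * r y from (Finset.prod_erase_mul s r hy).symm, mul_smul, hr y hy, smul_zero]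
    | zero => exact smul_zero _
    | add a b _ _ ha hb => rw [smul_add, ha, hb, add_zero]
    | smul c y _ hy => rw [smul_eq_mul, ← mul_smul_comm, hy, mul_zero]
  refine IsDedekindDomain.flat_iff_torsion_eq_bot.2 (le_bot_iff.1 fun m hm => (Submodule.mem_bot _).2 ?_)
  obtain ⟨⟨c, hc⟩, hcm⟩ := hm
  obtain ⟨y, ⟨_, k, rfl⟩, rfl⟩ := IsLocalization.exists_mk'_eq (Submonoid.powers (algebraMap A R' ρ)) m
  have hcm' : c • IsLocalization.mk' (Localization.Away (algebraMap A R' ρ)) y
      ⟨algebraMap A R' ρ ^ k, pow_mem (Submonoid.mem_powers _) k⟩ = 0 := hcm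
  rw [← algebraMap_smul R' c, IsLocalization.smul_mk', IsLocalization.mk'_eq_zero_iff] at hcm'
  obtain ⟨⟨_, n, rfl⟩, hn⟩ := hcm'
  rw [IsLocalization.mk'_eq_zero_iff]
  have hy : y ∈ I := by
    refine ⟨⟨ρ ^ n * c, mul_mem (mem_nonZeroDivisors_of_ne_zero (pow_ne_zero n (Finset.prod_ne_zero_iff.2 hr0))) hc⟩, ?_⟩
    show (ρ ^ n * c) • y = 0
    rw [Algebra.smul_def, map_mul, map_pow, mul_assoc]
    exact hn
  refine ⟨⟨algebraMap A R' ρ, 1, pow_one _⟩, ?_⟩
  show algebraMap A R' ρ * y = 0
  rw [← Algebra.smul_def]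
  exact hkill y hy

end Stage

end Groth.Agent.AlgSpLib.DedClosure
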