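import Groth.Agent.AlgSpLib.DedClosure
import Groth.Agent.AlgSpLib.DVRDescent
import Groth.Agent.H8Lim.ProConsLimit
import Groth.Agent.Desc19b.QuasiFlat
import Mathlib.AlgebraicGeometry.Morphisms.LocalFlatDescent

/-!
Descent of representability over affine Dedekind bases: flat closure of the generic fibre, closed fibres and
limit preservation.
-/

universe u

open CategoryTheory CategoryTheory.Limits AlgebraicGeometry Opposite Topology
open AlgSp

noncomputable section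

set_option linter.style.haveILetI false

namespace Groth.Agent.AlgSpLib.DedDescent

open Groth.Agent.AlgSpLib FpqcGlue

set_option backward.isDefEq.respectTransparency.types false
set_option backward.isDefEq.respectTransparency false

variable {S : Scheme.{u}} {G : Sp S} {B : Over S} [IsOpenImmersion B.hom]

theorem hom_ext_B {W : Sp S} (x y : W ⟶ (yon S).obj B) : x = y := by
  haveI : Mono (toB B).left := inferInstanceAs (Mono B.hom)
  haveI : Mono (toB B) := (Over.forget S).mono_of_mono_map this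
  rw [← cancel_mono ((yon S).map (toB B))]
  exact (isTerminal_yon_base S).some.hom_ext _ _

/-- representability from an fpqc base change with affine total space, relative to an open -/
theorem isRepresentable_of_affine' {X : Sp S} (hX : FpqcSp X) (f : X ⟶ (yon S).obj B) [IsAffine B.left]
    {T : Over S} (π : T ⟶ B) [Flat π.left] [Surjective π.left] [IsAffine T.left] {X' : Over S} [IsAffine X'.left]
    (q : X' ⟶ T) (a : (yon S).obj X' ⟶ X) (sq : IsPullback a ((yon S).map q) f ((yon S).map π)) :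
    X.obj.IsRepresentable := by
  have sq' : IsPullback a ((yon S).map q) f ((yon S).map π ≫ 𝟙 _) := by rw [Category.comp_id]; exact sq
  haveI : QuasiCompact π.left := by
    haveI : IsAffineHom π.left := inferInstance
    infer_instance
  haveI : IsAffineHom (EffDescentRep.datum sq').obj.hom := inferInstanceAs (IsAffineHom q.left)
  obtain ⟨W, w, ω, h⟩ := FpqcGlue.exists_isPullback hX (FpqcSp.yon _) sq'
    (Groth.Agent.S1133.result π.left (EffDescentRep.datum sq'))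
  haveI : IsIso w := h.isIso_fst_of_isIso
  exact isRepresentable_of_iso_yon (F := X) (asIso w)

variable {T X' : Over S} {π : T ⟶ B} {q : X' ⟶ T} {a : (yon S).obj X' ⟶ G} {f : G ⟶ (yon S).obj B}

/-- openness of point sets is detected after an fpqc base change -/
theorem isOpen_of_preimage' [Flat π.left] [Surjective π.left] [QuasiCompact π.left]
    (sq : IsPullback a ((yon S).map q) f ((yon S).map π))
    {V : Set (Points G)} (hV : IsOpen (Points.ofPt a ⁻¹' V)) : IsOpen V := by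
  refine Points.isOpen_iff.2 fun Z g => ?_
  obtain ⟨z, hz⟩ := (yon S).map_surjective (g ≫ f)
  let P : Over S := Over.mk (pullback.fst z.left π.left ≫ Z.hom)
  let p₁ : P ⟶ Z := Over.homMk (pullback.fst z.left π.left)
  let p₂ : P ⟶ T := Over.homMk (pullback.snd z.left π.left) (by
    show pullback.snd z.left π.left ≫ T.hom = pullback.fst z.left π.left ≫ Z.hom
    rw [← Over.w π, ← Category.assoc, ← pullback.condition, Category.assoc, Over.w z])
  obtain ⟨r, hr⟩ := (yon S).map_surjective (sq.lift ((yon S).map p₁ ≫ g) ((yon S).map p₂) (hom_ext_B _ _))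
  have hra : (yon S).map r ≫ a = (yon S).map p₁ ≫ g := by rw [hr, sq.lift_fst]
  have e : p₁.left ⁻¹' (Points.ofPt g ⁻¹' V) = r.left ⁻¹' (Points.ofPt a ⁻¹' V) := by
    ext y
    rw [Set.mem_preimage, Set.mem_preimage, Set.mem_preimage, Set.mem_preimage, ← ofPt_map, ← ofPt_map, hra]
  haveI : Flat p₁.left := inferInstanceAs (Flat (pullback.fst z.left π.left))
  haveI : Surjective p₁.left := inferInstanceAs (Surjective (pullback.fst z.left π.left))
  haveI : QuasiCompact p₁.left := inferInstanceAs (QuasiCompact (pullback.fst z.left π.left))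
  refine (Flat.isQuotientMap_of_surjective p₁.left).isOpen_preimage.1 ?_
  rw [e]
  exact hV.preimage r.left.continuous

/-- the base change of a subobject -/
theorem exists_bc (sq : IsPullback a ((yon S).map q) f ((yon S).map π))
    {M : Over S} (μ : (yon S).obj M ⟶ G) (β : M ⟶ B) :
    ∃ (P : Over S) (c : P ⟶ M) (l : P ⟶ X'), IsPullback ((yon S).map c) ((yon S).map l) μ a ∧
      IsPullback c.left (l ≫ q).left β.left π.left := by
  have sqP := IsPullback.of_hasPullback β π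
  let c := pullback.fst β π
  let d := pullback.snd β π
  obtain ⟨l, hl⟩ := (yon S).map_surjective (sq.lift ((yon S).map c ≫ μ) ((yon S).map d) (hom_ext_B _ _))
  have hla : (yon S).map c ≫ μ = (yon S).map l ≫ a := by rw [hl, sq.lift_fst]
  have hlq : l ≫ q = d := (yon S).map_injective (by rw [Functor.map_comp, hl, sq.lift_snd])
  refine ⟨_, c, l, IsPullback.of_bot ?_ hla sq, ?_⟩
  · rw [← Functor.map_comp, hlq, hom_ext_B (μ ≫ f) ((yon S).map β)]
    exact sqP.map (yon S)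
  · rw [hlq]
    exact sqP.map (Over.forget S)

/-- the position of a point over the base -/
theorem pos_eq {M N : Over S} (μ : (yon S).obj M ⟶ G) (ν : (yon S).obj N ⟶ G) (βM : M ⟶ B) (βN : N ⟶ B)
    {x : ↥M.left} {y : ↥N.left} (h : Points.ofPt μ x = Points.ofPt ν y) : βM.left x = βN.left y := by
  refine B.hom.isOpenEmbedding.injective ?_
  rw [← Scheme.Hom.comp_apply, ← Scheme.Hom.comp_apply, Over.w, Over.w]
  exact DVRDescent.hom_eq_of_ofPt_eq μ ν h

theorem surjective_ofPt_bc [Surjective π.left] (sq : IsPullback a ((yon S).map q) f ((yon S).map π)) :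
    Function.Surjective (Points.ofPt a) := by
  intro z
  have hs : Function.Surjective (Points.map ((yon S).map π)) := (surjective_map_yon_map_iff _).2 ‹Surjective π.left›
  obtain ⟨x, hx⟩ := surjective_map_of_isPullback sq.flip hs z
  obtain ⟨y, rfl⟩ := (Points.schemeEquiv X').surjective x
  exact ⟨y, (Points.ofPt_eq_map_ofScheme a y).trans hx⟩

variable [IsAffine B.left]

/-- a compatible pair of affine opens inside an open covered by two closed subobjects gives an affine open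
subspace -/
theorem exists_piece (hG : FpqcSp G) [Flat π.left] [Surjective π.left] [QuasiCompact π.left] [IsAffine T.left]
    (sq : IsPullback a ((yon S).map q) f ((yon S).map π))
    {M₁ P₁ M₂ P₂ : Over S} {μ₁ : (yon S).obj M₁ ⟶ G} {c₁ : P₁ ⟶ M₁} {l₁ : P₁ ⟶ X'}
    {μ₂ : (yon S).obj M₂ ⟶ G} {c₂ : P₂ ⟶ M₂} {l₂ : P₂ ⟶ X'}
    (sq₁ : IsPullback ((yon S).map c₁) ((yon S).map l₁) μ₁ a)
    (sq₂ : IsPullback ((yon S).map c₂) ((yon S).map l₂) μ₂ a)
    [IsClosedImmersion l₁.left] [IsClosedImmersion l₂.left] [IsAffineHom c₁.left] [IsAffineHom c₂.left]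
    [Mono μ₁] [Mono μ₂] (ℋ : Set (Points G)) (hℋ : IsOpen ℋ)
    (hcov : ∀ x : ↥X'.left, Points.ofPt a x ∈ ℋ → x ∈ Set.range l₁.left ∨ x ∈ Set.range l₂.left)
    (V₁ : M₁.left.Opens) (hV₁ : IsAffineOpen V₁) (V₂ : M₂.left.Opens) (hV₂ : IsAffineOpen V₂)
    (hH₁ : ∀ m ∈ V₁, Points.ofPt μ₁ m ∈ ℋ) (hH₂ : ∀ m ∈ V₂, Points.ofPt μ₂ m ∈ ℋ)
    (hcompat : ∀ m₁ m₂, Points.ofPt μ₁ m₁ = Points.ofPt μ₂ m₂ → (m₁ ∈ V₁ ↔ m₂ ∈ V₂)) :
    ∃ (A : Over S) (i : (yon S).obj A ⟶ G), RepWith @IsOpenImmersion i ∧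
      (∀ m ∈ V₁, Points.ofPt μ₁ m ∈ Set.range (Points.map i)) ∧
      (∀ m ∈ V₂, Points.ofPt μ₂ m ∈ Set.range (Points.map i)) := by
  let 𝒱 : Set (Points G) := Points.ofPt μ₁ '' V₁ ∪ Points.ofPt μ₂ '' V₂
  have h𝒱 : 𝒱 ⊆ ℋ := by
    rintro _ (⟨m, hm, rfl⟩ | ⟨m, hm, rfl⟩)
    · exact hH₁ m hm
    · exact hH₂ m hm
  have hmem₁ : ∀ r, Points.ofPt a (l₁.left r) ∈ 𝒱 ↔ c₁.left r ∈ V₁ := fun r => by
    rw [show Points.ofPt a (l₁.left r) = Points.ofPt μ₁ (c₁.left r) from
      ((ofPt_eq_ofPt_iff sq₁ _ _).2 ⟨r, rfl, rfl⟩).symm]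
    constructor
    · rintro (⟨m, hm, e⟩ | ⟨m, hm, e⟩)
      · exact DVRDescent.ofPt_injective μ₁ e ▸ hm
      · exact (hcompat _ _ e.symm).2 hm
    · exact fun h => Or.inl ⟨_, h, rfl⟩
  have hmem₂ : ∀ r, Points.ofPt a (l₂.left r) ∈ 𝒱 ↔ c₂.left r ∈ V₂ := fun r => by
    rw [show Points.ofPt a (l₂.left r) = Points.ofPt μ₂ (c₂.left r) from
      ((ofPt_eq_ofPt_iff sq₂ _ _).2 ⟨r, rfl, rfl⟩).symm]
    constructor
    · rintro (⟨m, hm, e⟩ | ⟨m, hm, e⟩)
      · exact (hcompat _ _ e).1 hm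
      · exact DVRDescent.ofPt_injective μ₂ e ▸ hm
    · exact fun h => Or.inr ⟨_, h, rfl⟩
  have hcompl : (Points.ofPt a ⁻¹' 𝒱)ᶜ = (Points.ofPt a ⁻¹' ℋ)ᶜ ∪ (l₁.left '' (c₁.left ⁻¹' (V₁ : Set ↥M₁.left)ᶜ) ∪
      l₂.left '' (c₂.left ⁻¹' (V₂ : Set ↥M₂.left)ᶜ)) := by
    ext x
    constructor
    · intro hx
      by_cases hxH : Points.ofPt a x ∈ ℋ
      · rcases hcov x hxH with ⟨r, rfl⟩ | ⟨r, rfl⟩
        · exact Or.inr (Or.inl ⟨r, fun h => hx ((hmem₁ r).2 h), rfl⟩)
        · exact Or.inr (Or.inr ⟨r, fun h => hx ((hmem₂ r).2 h), rfl⟩)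
      · exact Or.inl hxH
    · rintro (hx | ⟨r, hr, rfl⟩ | ⟨r, hr, rfl⟩)
      · exact fun h => hx (h𝒱 h)
      · exact fun h => hr ((hmem₁ r).1 h)
      · exact fun h => hr ((hmem₂ r).1 h)
  have hWo : IsOpen (Points.ofPt a ⁻¹' 𝒱) := by
    rw [← isClosed_compl_iff, hcompl]
    exact ((hℋ.preimage (Points.continuous_ofPt a)).isClosed_compl).union
      ((l₁.left.isClosedEmbedding.isClosedMap _ (V₁.isOpen.isClosed_compl.preimage c₁.left.continuous)).union
      (l₂.left.isClosedEmbedding.isClosedMap _ (V₂.isOpen.isClosed_compl.preimage c₂.left.continuous)))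
  have hVo : IsOpen 𝒱 := isOpen_of_preimage' sq hWo
  let W : X'.left.Opens := ⟨_, hWo⟩
  haveI : IsAffine W.toScheme := by
    have e1 : l₁.left ⁻¹ᵁ W = c₁.left ⁻¹ᵁ V₁ := TopologicalSpace.Opens.ext (Set.ext fun r => hmem₁ r)
    have e2 : l₂.left ⁻¹ᵁ W = c₂.left ⁻¹ᵁ V₂ := TopologicalSpace.Opens.ext (Set.ext fun r => hmem₂ r)
    haveI h1 : IsAffine (l₁.left ⁻¹ᵁ W).toScheme := e1 ▸ hV₁.preimage c₁.left
    haveI h2 : IsAffine (l₂.left ⁻¹ᵁ W).toScheme := e2 ▸ hV₂.preimage c₂.left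
    let Z : Bool → Scheme.{u} := fun b => cond b (l₁.left ⁻¹ᵁ W).toScheme (l₂.left ⁻¹ᵁ W).toScheme
    let ι : ∀ b, Z b ⟶ W.toScheme := fun b => Bool.rec (motive := fun b => Z b ⟶ W.toScheme) (l₂.left ∣_ W) (l₁.left ∣_ W) b
    haveI : ∀ b, IsClosedImmersion (ι b) := by
      rintro (_ | _)
      · exact MorphismProperty.of_isPullback (P := @IsClosedImmersion) (isPullback_morphismRestrict l₂.left W).flip ‹_›
      · exact MorphismProperty.of_isPullback (P := @IsClosedImmersion) (isPullback_morphismRestrict l₁.left W).flip ‹_›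
    haveI : ∀ b, IsAffine (Z b) := by rintro (_ | _); exacts [h2, h1]
    refine Groth.Agent.VarietyLib.isAffine_of_closed_cover Z ι fun x => ?_
    rcases hcov x.1 (h𝒱 x.2) with ⟨r, hr⟩ | ⟨r, hr⟩
    · refine ⟨true, ⟨r, show l₁.left r ∈ W from hr ▸ x.2⟩, Subtype.ext ?_⟩
      exact (morphismRestrict_base_coe l₁.left W _).trans hr
    · refine ⟨false, ⟨r, show l₂.left r ∈ W from hr ▸ x.2⟩, Subtype.ext ?_⟩
      exact (morphismRestrict_base_coe l₂.left W _).trans hr
  have hO : RepWith @IsOpenImmersion (openSubspaceι G 𝒱) := repWith_openSubspaceι G hVo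
  obtain ⟨W', w, fst, sqW, hw⟩ := exists_yon_of_repWith hO a
  haveI : IsOpenImmersion w.left := hw
  have hr : Set.range w.left = Set.range W.ι := by
    rw [Scheme.Opens.range_ι]
    ext x
    constructor
    · rintro ⟨y, rfl⟩
      show Points.ofPt a (w.left y) ∈ 𝒱
      rw [← ofPt_map, ← sqW.w, ← Points.map_ofPt]
      exact (range_openSubspaceι G 𝒱).subset ⟨_, rfl⟩
    · intro hx
      obtain ⟨z, hz⟩ := (range_openSubspaceι G 𝒱).symm.subset (show Points.ofPt a x ∈ 𝒱 from hx)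
      rw [Points.ofPt_eq_map_ofScheme] at hz
      obtain ⟨y, -, hy⟩ := exists_point_of_isPullback sqW hz
      obtain ⟨y', rfl⟩ := (Points.schemeEquiv W').surjective y
      exact ⟨y', (Points.schemeEquiv X').injective ((map_yon_map_ofScheme w y').symm.trans hy)⟩
  haveI : IsAffine W'.left := IsAffine.of_isIso (IsOpenImmersion.isoOfRangeEq w.left W.ι hr).hom
  have sqO : IsPullback fst ((yon S).map (w ≫ q)) (openSubspaceι G 𝒱 ≫ f) ((yon S).map π) := by
    rw [Functor.map_comp]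
    exact sqW.paste_vert sq
  obtain ⟨A, ⟨eA⟩⟩ := exists_iso_yon_of_isRepresentable
    (isRepresentable_of_affine' (hG.openSubspace 𝒱) _ π (w ≫ q) fst sqO)
  have hrange : 𝒱 ⊆ Set.range (Points.map (eA.hom ≫ openSubspaceι G 𝒱)) := fun z hz => by
    obtain ⟨o, ho⟩ := (range_openSubspaceι G 𝒱).symm.subset hz
    exact ⟨Points.map eA.inv o, by rw [← Points.map_comp, eA.inv_hom_id_assoc, ho]⟩
  exact ⟨A, eA.hom ≫ openSubspaceι G 𝒱, RepWith.comp (repWith_of_isIso (P := @IsOpenImmersion) _) hO,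
    fun m hm => hrange (Or.inl ⟨m, hm, rfl⟩), fun m hm => hrange (Or.inr ⟨m, hm, rfl⟩)⟩

/-- the flat closure is a closed subobject containing the generic fibre -/
theorem closedImmersion_flatClosure [IsIntegral B.left]
    (hD : ∀ U : B.left.affineOpens, Nonempty (U : B.left.Opens) → IsDedekindDomain Γ(B.left, U))
    [Flat π.left] {Gb : Over S} (j : (yon S).obj Gb ⟶ G) [Mono j] [Flat Gb.hom]
    (hj : ∀ (T' : Over S), Flat T'.hom → ∀ b : (yon S).obj T' ⟶ G, ∃ k : T' ⟶ Gb, (yon S).map k ≫ j = b)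
    {P₂ : Over S} {c₂ : P₂ ⟶ Gb} {l₂ : P₂ ⟶ X'} (sq₂ : IsPullback ((yon S).map c₂) ((yon S).map l₂) j a)
    (β : Gb ⟶ B) (sqF₂ : IsPullback c₂.left (l₂ ≫ q).left β.left π.left) :
    IsClosedImmersion l₂.left ∧
      ∀ x : ↥X'.left, (q ≫ π).left x = genericPoint ↥B.left → x ∈ Set.range l₂.left := by
  haveI : Mono ((yon S).map l₂) :=
    MorphismProperty.of_isPullback (P := MorphismProperty.monomorphisms (Sp S)) sq₂ ‹Mono j›
  let p := pullback.fst (q ≫ π).left (DedClosure.pK B.left)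
  let Zo : Over S := Over.mk (p.imageι ≫ X'.hom)
  let zι : Zo ⟶ X' := Over.homMk p.imageι
  haveI hZflat : Flat Zo.hom := by
    haveI := DedClosure.flat_closure (q ≫ π).left hD
    show Flat (p.imageι ≫ X'.hom)
    rw [show X'.hom = (q ≫ π).left ≫ B.hom from (Over.w (q ≫ π)).symm, ← Category.assoc]
    infer_instance
  obtain ⟨b, hb⟩ := hj Zo hZflat ((yon S).map zι ≫ a)
  obtain ⟨w, hw⟩ := (yon S).map_surjective (sq₂.lift ((yon S).map b) ((yon S).map zι) hb)
  have hwl : w ≫ l₂ = zι := (yon S).map_injective (by rw [Functor.map_comp, hw, sq₂.lift_snd])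
  haveI : Flat β.left := by
    have h : IsPullback β.left (𝟙 _) B.hom Gb.hom := IsPullback.mk' (by rw [Category.id_comp, Over.w])
      (fun _ x y h1 h2 => by simpa using h2)
      fun W x y e => ⟨y, (cancel_mono B.hom).1 (by rw [Category.assoc, Over.w, e]), Category.comp_id _⟩
    exact MorphismProperty.of_isPullback (P := @Flat) h.flip ‹Flat Gb.hom›
  haveI : Flat (l₂ ≫ q ≫ π).left := by
    haveI : Flat (l₂ ≫ q).left := MorphismProperty.of_isPullback (P := @Flat) sqF₂ ‹Flat β.left›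
    rw [← Category.assoc, Over.comp_left]
    infer_instance
  let qP := pullback.fst l₂.left p.imageι
  have hq : IsIso qP := by
    let p' := pullback.fst (l₂ ≫ q ≫ π).left (DedClosure.pK B.left)
    let r := pullback.lift (f := (q ≫ π).left) (g := DedClosure.pK B.left) (p' ≫ l₂.left) (pullback.snd _ _) (by
      rw [Category.assoc, ← Over.comp_left, pullback.condition])
    refine DedClosure.isIso_of_generic (l₂ ≫ q ≫ π).left qP
      (l := pullback.lift p' (r ≫ p.toImage) ?_) (pullback.lift_fst _ _ _)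
    rw [Category.assoc, Scheme.Hom.toImage_imageι, pullback.lift_fst]
  let v : P₂ ⟶ Zo := Over.homMk (inv qP ≫ pullback.snd l₂.left p.imageι) (by
    show (inv qP ≫ pullback.snd l₂.left p.imageι) ≫ p.imageι ≫ X'.hom = P₂.hom
    rw [Category.assoc, ← Category.assoc (pullback.snd _ _), ← pullback.condition, Category.assoc, Over.w l₂,
      IsIso.inv_hom_id_assoc])
  have hvl : v ≫ zι = l₂ := Over.OverMorphism.ext (by
    show (inv qP ≫ pullback.snd l₂.left p.imageι) ≫ p.imageι = l₂.left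
    rw [Category.assoc, ← pullback.condition, IsIso.inv_hom_id_assoc])
  have hvw : v ≫ w = 𝟙 _ := by
    refine (yon S).map_injective ?_
    rw [← cancel_mono ((yon S).map l₂), ← Functor.map_comp, ← Functor.map_comp, Category.assoc, hwl, hvl,
      Category.id_comp]
  haveI : Mono zι := by
    haveI : Mono zι.left := inferInstanceAs (Mono p.imageι)
    exact (Over.forget S).mono_of_mono_map this
  have hwv : w ≫ v = 𝟙 _ := by rw [← cancel_mono zι, Category.assoc, hvl, hwl, Category.id_comp]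
  haveI : IsIso v := ⟨w, hvw, hwv⟩
  haveI : IsIso v.left := inferInstanceAs (IsIso ((Over.forget S).map v))
  refine ⟨?_, fun x hx => ?_⟩
  · rw [← hvl, Over.comp_left]
    haveI : IsClosedImmersion zι.left := inferInstanceAs (IsClosedImmersion p.imageι)
    infer_instance
  · obtain ⟨y₀, hy₀⟩ := DedClosure.exists_pK hx
    obtain ⟨y, hy, -⟩ := Scheme.Pullback.exists_preimage_pullback (f := (q ≫ π).left) x y₀ hy₀.symm
    refine ⟨w.left (p.toImage y), ?_⟩
    rw [← Scheme.Hom.comp_apply, ← Over.comp_left, hwl]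
    show p.imageι (p.toImage y) = x
    rw [← Scheme.Hom.comp_apply, Scheme.Hom.toImage_imageι]
    exact hy

/-- data of a closed fibre -/
structure Fibre (f : G ⟶ (yon S).obj B) (s : ↥B.left) where
  /-- the point -/
  C : Over S
  /-- its inclusion -/
  cB : C ⟶ B
  closed : IsClosedImmersion cB.left
  range : Set.range cB.left = {s}
  /-- the fibre -/
  Gs : Over S
  /-- its inclusion -/
  ρ : (AlgSp.yon S).obj Gs ⟶ G
  /-- its structure -/
  γ : Gs ⟶ C
  sq : IsPullback ρ ((AlgSp.yon S).map γ) f ((AlgSp.yon S).map cB)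

theorem Fibre.repWith {s : ↥B.left} (F : Fibre f s) : RepWith @IsClosedImmersion F.ρ :=
  RepWith.baseChange F.sq.flip ((repWith_yon_map_iff (P := @IsClosedImmersion) F.cB).2 F.closed)

theorem Fibre.over {s : ↥B.left} (F : Fibre f s) (m : ↥F.Gs.left) : (F.γ ≫ F.cB).left m = s := by
  have : (F.γ ≫ F.cB).left m ∈ Set.range F.cB.left := ⟨F.γ.left m, rfl⟩
  rwa [F.range] at this

theorem Fibre.exists_eq {s : ↥B.left} (F : Fibre f s) {N : Over S} (ν : (yon S).obj N ⟶ G) (β : N ⟶ B) (n : ↥N.left)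
    (hn : β.left n = s) : ∃ m, Points.ofPt F.ρ m = Points.ofPt ν n := by
  obtain ⟨c, hc⟩ : s ∈ Set.range F.cB.left := by rw [F.range]; rfl
  have h1 : Points.map f (Points.ofPt ν n) = Points.map ((yon S).map F.cB) (Points.ofScheme F.C c) := by
    rw [Points.map_ofPt, hom_ext_B (ν ≫ f) ((yon S).map β),
      Points.ofPt_eq_map_ofScheme, map_yon_map_ofScheme, map_yon_map_ofScheme]
    exact congrArg _ (hn.trans hc.symm)
  obtain ⟨z, hz, -⟩ := exists_point_of_isPullback F.sq h1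
  obtain ⟨m, rfl⟩ := (Points.schemeEquiv F.Gs).surjective z
  exact ⟨m, (Points.ofPt_eq_map_ofScheme F.ρ m).trans hz⟩

/-- traces on fibres of closed sets of a subobject with closed base change are closed -/
theorem isClosed_trace [Flat π.left] [Surjective π.left] [QuasiCompact π.left]
    (sq : IsPullback a ((yon S).map q) f ((yon S).map π))
    {s : ↥B.left} (F : Fibre f s) {Gb P₂ : Over S} {j : (yon S).obj Gb ⟶ G} {c₂ : P₂ ⟶ Gb} {l₂ : P₂ ⟶ X'}
    (sq₂ : IsPullback ((yon S).map c₂) ((yon S).map l₂) j a) [IsClosedImmersion l₂.left]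
    {E : Set ↥Gb.left} (hE : IsClosed E) :
    IsClosed {m : ↥F.Gs.left | Points.ofPt F.ρ m ∈ Points.ofPt j '' E} := by
  obtain ⟨P₁, c₁, l₁, sq₁, sqF₁⟩ := exists_bc sq F.ρ (F.γ ≫ F.cB)
  haveI : Flat c₁.left := MorphismProperty.of_isPullback (P := @Flat) sqF₁.flip ‹_›
  haveI : Surjective c₁.left := MorphismProperty.of_isPullback (P := @Surjective) sqF₁.flip ‹_›
  haveI : QuasiCompact c₁.left := MorphismProperty.of_isPullback (P := @QuasiCompact) sqF₁.flip ‹_›
  refine (Flat.isQuotientMap_of_surjective c₁.left).isClosed_preimage.1 ?_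
  have : c₁.left ⁻¹' {m : ↥F.Gs.left | Points.ofPt F.ρ m ∈ Points.ofPt j '' E} =
      l₁.left ⁻¹' (Points.ofPt a ⁻¹' (Points.ofPt j '' E)) := by
    ext r
    show Points.ofPt F.ρ (c₁.left r) ∈ Points.ofPt j '' E ↔ Points.ofPt a (l₁.left r) ∈ Points.ofPt j '' E
    rw [(ofPt_eq_ofPt_iff sq₁ _ _).2 ⟨r, rfl, rfl⟩]
  rw [this, DVRDescent.preimage_image sq₂]
  exact (l₂.left.isClosedEmbedding.isClosedMap _ (hE.preimage c₂.left.continuous)).preimage l₁.left.continuous

/-- away from finitely many fibres an affine piece lies in the flat closure -/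
theorem exists_finite_bad [IsIntegral B.left] [IsDedekindDomain Γ(B.left, ⊤)] {G₀ : Sp S} (ν : G ⟶ G₀) [Mono ν]
    (hν : ∀ (Z : Over S), (Z ⟶ B) → ∀ g : (yon S).obj Z ⟶ G₀, ∃ g₁, g₁ ≫ ν = g) (hlp : IsLimitPreserving G₀.obj)
    {Gb : Over S} (j : (yon S).obj Gb ⟶ G)
    (hj : ∀ (T' : Over S), Flat T'.hom → ∀ b : (yon S).obj T' ⟶ G, ∃ k : T' ⟶ Gb, (yon S).map k ≫ j = b)
    {X' : Over S} (a : (yon S).obj X' ⟶ G) (β : X' ⟶ B) (O : X'.left.Opens) (hO : IsAffineOpen O) :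
    ∃ Fs : Set ↥B.left, Fs.Finite ∧ ∀ x ∈ O, β.left x ∉ Fs → Points.ofPt a x ∈ Points.ofPt j '' Set.univ := by
  classical
  let e : O ≤ β.left ⁻¹ᵁ (⊤ : B.left.Opens) := le_top
  let φ := (β.left.appLE ⊤ O e).hom
  letI := φ.toAlgebra
  let hT := isAffineOpen_top B.left
  let jB : Spec Γ(B.left, ⊤) ⟶ S := hT.fromSpec ≫ B.hom
  let o : DedClosure.oR Γ(X'.left, O) jB ⟶ X' := Over.homMk hO.fromSpec (by
    show hO.fromSpec ≫ X'.hom = Spec.map (β.left.appLE ⊤ O e) ≫ hT.fromSpec ≫ B.hom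
    rw [← Category.assoc, hT.SpecMap_appLE_fromSpec β.left hO e, Category.assoc, Over.w β])
  obtain ⟨R', hfg, g₀, hg₀⟩ := DedClosure.exists_fg_factor _ jB hlp (((yon S).map o ≫ a) ≫ ν)
  obtain ⟨g', hg'ν⟩ := hν _ (Over.homMk (Spec.map (CommRingCat.ofHom (algebraMap Γ(B.left, ⊤) ↥R')) ≫ hT.fromSpec)
    (Category.assoc _ _ _)) g₀
  have hg' : (yon S).map (DedClosure.rMap jB R'.val) ≫ g' = (yon S).map o ≫ a := by
    rw [← cancel_mono ν, Category.assoc, hg'ν, hg₀]
  haveI : Algebra.FiniteType Γ(B.left, ⊤) ↥R' := R'.fg_iff_finiteType.1 hfg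
  obtain ⟨r, hr0, hflat⟩ := DedClosure.exists_flat_away (A := Γ(B.left, ⊤)) ↥R'
  refine ⟨hT.fromSpec '' PrimeSpectrum.zeroLocus {r}, Set.Finite.image _ ?_, fun x hx hxr => ?_⟩
  · -- finitely many primes contain a non-zero element
    refine ((Ideal.finite_minimalPrimes_of_isNoetherianRing Γ(B.left, ⊤) (Ideal.span {r})).preimage
      (fun x _ y _ h => PrimeSpectrum.ext h : Set.InjOn PrimeSpectrum.asIdeal _)).subset fun p hp => ?_
    have hrp : r ∈ p.asIdeal := hp rfl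
    have hne : p.asIdeal ≠ ⊥ := fun h => hr0 (by rw [h] at hrp; exact hrp)
    refine ⟨⟨p.2, (Ideal.span_singleton_le_iff_mem _).2 hrp⟩, fun Q ⟨hQ, hQr⟩ hQp => ?_⟩
    have hQ0 : Q ≠ ⊥ := fun h => hr0 (by
      have := (Ideal.span_singleton_le_iff_mem _).1 hQr
      rw [h] at this
      exact this)
    exact ((hQ.isMaximal hQ0).eq_of_le p.2.ne_top hQp).ge
  obtain ⟨P, rfl⟩ := hO.range_fromSpec.symm.subset hx
  have hmap : β.left (hO.fromSpec P) = hT.fromSpec (PrimeSpectrum.comap φ P) :=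
    (congrArg (fun k => k P) (hT.SpecMap_appLE_fromSpec β.left hO e)).symm
  have hrP : φ r ∉ P.asIdeal := fun h => hxr ⟨PrimeSpectrum.comap φ P, fun s hs => by
    rw [Set.mem_singleton_iff.1 hs]; exact h, hmap.symm⟩
  let loc : ↥R' →ₐ[Γ(B.left, ⊤)] Localization.Away (algebraMap Γ(B.left, ⊤) ↥R' r) :=
    IsScalarTower.toAlgHom _ _ _
  haveI hfl : Flat (DedClosure.oR (Localization.Away (algebraMap Γ(B.left, ⊤) ↥R' r)) jB).hom := by
    haveI : Flat (Spec.map (CommRingCat.ofHom (algebraMap Γ(B.left, ⊤)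
        (Localization.Away (algebraMap Γ(B.left, ⊤) ↥R' r))))) :=
      (HasRingHomProperty.Spec_iff (P := @Flat)).2 (RingHom.flat_algebraMap_iff.2 hflat)
    haveI : Flat jB := inferInstanceAs (Flat (hT.fromSpec ≫ B.hom))
    show Flat (Spec.map (CommRingCat.ofHom (algebraMap Γ(B.left, ⊤)
        (Localization.Away (algebraMap Γ(B.left, ⊤) ↥R' r)))) ≫ jB)
    infer_instance
  obtain ⟨k, hk⟩ := hj _ hfl ((yon S).map (DedClosure.rMap jB loc) ≫ g')
  let P' : PrimeSpectrum ↥R' := PrimeSpectrum.comap R'.val.toRingHom P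
  have hP' : P' ∈ Set.range (PrimeSpectrum.comap loc.toRingHom) := by
    show P' ∈ Set.range (PrimeSpectrum.comap (algebraMap ↥R' (Localization.Away (algebraMap Γ(B.left, ⊤) ↥R' r))))
    rw [PrimeSpectrum.localization_away_comap_range _ (algebraMap Γ(B.left, ⊤) ↥R' r)]
    exact hrP
  obtain ⟨y, hy⟩ := hP'
  refine ⟨k.left y, trivial, ?_⟩
  have e1 : Points.ofPt a (hO.fromSpec P) = Points.ofPt g' P' := by
    refine (ofPt_map o a P).symm.trans ?_
    rw [← hg', ofPt_map]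
    rfl
  rw [e1, ← ofPt_map, hk, ofPt_map]
  exact congrArg _ hy

/-- **local pieces over an affine Dedekind base** -/
theorem exists_pieces [IsIntegral B.left]
    (hD : ∀ U : B.left.affineOpens, Nonempty (U : B.left.Opens) → IsDedekindDomain Γ(B.left, U))
    (hG : FpqcSp G) {G₀ : Sp S} (ν : G ⟶ G₀) [Mono ν]
    (hν : ∀ (Z : Over S), (Z ⟶ B) → ∀ g : (yon S).obj Z ⟶ G₀, ∃ g₁, g₁ ≫ ν = g) (hlp : IsLimitPreserving G₀.obj)
    [Flat π.left] [Surjective π.left] [IsAffine T.left]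
    [LocallyOfFiniteType q.left]
    (sq : IsPullback a ((yon S).map q) f ((yon S).map π))
    {Gb : Over S} (j : (yon S).obj Gb ⟶ G) [Mono j] [Flat Gb.hom]
    (hj : ∀ (T' : Over S), Flat T'.hom → ∀ b : (yon S).obj T' ⟶ G, ∃ k : T' ⟶ Gb, (yon S).map k ≫ j = b)
    (fib : ∀ s : ↥B.left, IsClosed ({s} : Set ↥B.left) → Fibre f s) :
    ∀ z : Points G, ∃ (A : Over S) (i : (yon S).obj A ⟶ G), RepWith @IsOpenImmersion i ∧
      z ∈ Set.range (Points.map i) := by
  classical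
  haveI : IsAffineHom π.left := inferInstance
  haveI := DedScheme.isLocallyNoetherian_base hD
  haveI : Nonempty (⊤ : B.left.Opens) := ⟨⟨genericPoint ↥B.left, trivial⟩⟩
  haveI := hD ⟨⊤, isAffineOpen_top _⟩ ‹_›
  obtain ⟨β₂, hβ₂⟩ := (yon S).map_surjective (j ≫ f)
  obtain ⟨P₂, c₂, l₂, sq₂, sqF₂⟩ := exists_bc sq j β₂
  obtain ⟨hl₂, hgenl₂⟩ := closedImmersion_flatClosure hD j hj sq₂ β₂ sqF₂
  haveI : IsAffineHom c₂.left := MorphismProperty.of_isPullback (P := @IsAffineHom) sqF₂.flip inferInstance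
  let pos : ↥X'.left → ↥B.left := fun x => (q ≫ π).left x
  -- the bad part of each closed fibre
  let U : ∀ (s : ↥B.left) (hs : IsClosed ({s} : Set ↥B.left)), Set ↥(fib s hs).Gs.left := fun s hs =>
    {m | Points.ofPt (fib s hs).ρ m ∈ Points.ofPt j '' Set.univ}ᶜ
  let Bad : ∀ (s : ↥B.left), IsClosed ({s} : Set ↥B.left) → Set (Points G) := fun s hs =>
    Points.ofPt (fib s hs).ρ '' closure (U s hs)
  let E : ↥B.left → Set ↥X'.left := fun s => {x | pos x = s ∧ Points.ofPt a x ∉ Points.ofPt j '' Set.univ}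
  have hE : LocallyFinite E := fun x => by
    obtain ⟨O, hO, hxO, -⟩ := exists_isAffineOpen_mem_and_subset (X := X'.left) (x := x) (U := ⊤) trivial
    obtain ⟨Fs, hFs, hOF⟩ := exists_finite_bad ν hν hlp j hj a (q ≫ π) O hO
    refine ⟨O, O.isOpen.mem_nhds hxO, hFs.subset ?_⟩
    rintro s ⟨y, ⟨rfl, hy⟩, hyO⟩
    by_contra hn
    exact hy (hOF y hyO hn)
  have hBad : ∀ s hs, Points.ofPt a ⁻¹' Bad s hs = closure (E s) := by
    intro s hs
    obtain ⟨P₁, c₁, l₁, sq₁, sqF₁⟩ := exists_bc sq (fib s hs).ρ ((fib s hs).γ ≫ (fib s hs).cB)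
    haveI : IsClosedImmersion l₁.left := (fib s hs).repWith.property a ((yon S).map c₁) l₁ sq₁
    haveI : LocallyOfFiniteType (l₁ ≫ q).left := by rw [Over.comp_left]; infer_instance
    haveI : LocallyOfFiniteType ((fib s hs).γ ≫ (fib s hs).cB).left :=
      MorphismProperty.of_isPullback_of_descendsAlong (P := @LocallyOfFiniteType)
        (Q := @Surjective ⊓ @Flat ⊓ @QuasiCompact) sqF₁.flip ⟨⟨‹_›, ‹_›⟩, inferInstance⟩ ‹_›
    haveI := LocallyOfFiniteType.isLocallyNoetherian ((fib s hs).γ ≫ (fib s hs).cB).left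
    haveI : Flat c₁.left := MorphismProperty.of_isPullback (P := @Flat) sqF₁.flip ‹_›
    show Points.ofPt a ⁻¹' (Points.ofPt (fib s hs).ρ '' closure (U s hs)) = _
    let Uo : (fib s hs).Gs.left.Opens := ⟨U s hs, (isClosed_trace sq (fib s hs) sq₂ isClosed_univ).isOpen_compl⟩
    have hpc : ProCons.IsProConstructible (U s hs) := by
      have := Groth.Agent.Desc19b.isProConstructible_image_closed Uo.ι (F := Set.univ) isClosed_univ
      rwa [Set.image_univ, Scheme.Opens.range_ι] at this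
    rw [DVRDescent.preimage_image sq₁, H8Lim.preimage_closure_of_flat c₁.left hpc,
      ← l₁.left.isClosedEmbedding.closure_image_eq]
    congr 1
    ext x
    constructor
    · rintro ⟨r, hr, rfl⟩
      refine ⟨?_, fun h => hr ?_⟩
      · exact (pos_eq a (fib s hs).ρ (q ≫ π) ((fib s hs).γ ≫ (fib s hs).cB)
          ((ofPt_eq_ofPt_iff sq₁ (c₁.left r) _).2 ⟨r, rfl, rfl⟩).symm).trans ((fib s hs).over _)
      · show Points.ofPt (fib s hs).ρ (c₁.left r) ∈ Points.ofPt j '' Set.univ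
        rw [(ofPt_eq_ofPt_iff sq₁ _ _).2 ⟨r, rfl, rfl⟩]
        exact h
    · rintro ⟨hx, hxj⟩
      obtain ⟨m, hm⟩ := (fib s hs).exists_eq a (q ≫ π) x hx
      obtain ⟨r, h1, h2⟩ := (ofPt_eq_ofPt_iff sq₁ m x).1 hm
      refine ⟨r, fun h => hxj ?_, h2⟩
      rw [← hm, ← h1]
      exact h
  intro z
  obtain ⟨x₀, rfl⟩ := surjective_ofPt_bc sq z
  -- a closed point to work at
  obtain ⟨s, hs, hsz⟩ : ∃ s, IsClosed ({s} : Set ↥B.left) ∧ (pos x₀ = s ∨ pos x₀ = genericPoint ↥B.left) := by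
    by_cases h : pos x₀ = genericPoint ↥B.left
    · obtain ⟨M, hM⟩ := Ideal.exists_maximal Γ(B.left, ⊤)
      refine ⟨B.left.isoSpec.inv (⟨M, hM.isPrime⟩ : PrimeSpectrum Γ(B.left, ⊤)), ?_, Or.inr h⟩
      have hc := (PrimeSpectrum.isClosed_singleton_iff_isMaximal (⟨M, hM.isPrime⟩ : PrimeSpectrum Γ(B.left, ⊤))).2 hM
      have := B.left.isoSpec.inv.homeomorph.isClosedMap _ hc
      rwa [Set.image_singleton] at this
    · exact ⟨pos x₀, DedScheme.isClosed_singleton_base hD h, Or.inl rfl⟩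
  let ℋ : Set (Points G) := (⋃ (s' : {s' : ↥B.left // IsClosed ({s'} : Set ↥B.left) ∧ s' ≠ s}), Bad s'.1 s'.2.1)ᶜ
  have hℋo : IsOpen ℋ := by
    refine isOpen_of_preimage' sq ?_
    rw [Set.preimage_compl, Set.preimage_iUnion, isOpen_compl_iff]
    simp only [hBad]
    exact ((hE.comp_injective Subtype.val_injective).closure).isClosed_iUnion fun _ => isClosed_closure
  have hcov0 : ∀ x, Points.ofPt a x ∈ ℋ → pos x = s ∨ x ∈ Set.range l₂.left := by
    intro x hx
    by_cases hxj : Points.ofPt a x ∈ Points.ofPt j '' Set.univ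
    · right
      have h : x ∈ Points.ofPt a ⁻¹' (Points.ofPt j '' Set.univ) := hxj
      rw [DVRDescent.preimage_image sq₂, Set.preimage_univ, Set.image_univ] at h
      exact h
    · by_cases hg : pos x = genericPoint ↥B.left
      · exact Or.inr (hgenl₂ x hg)
      · left
        by_contra hne
        have hc := DedScheme.isClosed_singleton_base hD hg
        refine hx (Set.mem_iUnion.2 ⟨⟨pos x, hc, hne⟩, ?_⟩)
        show x ∈ Points.ofPt a ⁻¹' Bad (pos x) hc
        rw [hBad]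
        exact subset_closure ⟨rfl, hxj⟩
  have hz0 : Points.ofPt a x₀ ∈ ℋ := by
    intro h
    obtain ⟨⟨s', hs', hne⟩, m, -, hm⟩ := Set.mem_iUnion.1 h
    have he : pos x₀ = s' := (pos_eq a (fib s' hs').ρ (q ≫ π) ((fib s' hs').γ ≫ (fib s' hs').cB) hm.symm).trans
      ((fib s' hs').over m)
    rcases hsz with h' | h'
    · exact hne (he.symm.trans h')
    · have hgs : genericPoint ↥B.left ∈ ({s'} : Set ↥B.left) := h'.symm.trans he
      exact hne (Set.mem_singleton_iff.1 (((genericPoint_spec ↥B.left).mem_closed_set_iff hs').1 hgs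
        (Set.mem_univ s))).symm
  -- the fibre at the point
  let F := fib s hs
  obtain ⟨P₁, c₁, l₁, sq₁, sqF₁⟩ := exists_bc sq F.ρ (F.γ ≫ F.cB)
  haveI : IsAffineHom c₁.left := MorphismProperty.of_isPullback (P := @IsAffineHom) sqF₁.flip inferInstance
  haveI : IsClosedImmersion l₁.left := F.repWith.property a ((yon S).map c₁) l₁ sq₁
  haveI : Mono F.ρ := mono_closedImmersion F.repWith
  have hcov : ∀ x : ↥X'.left, Points.ofPt a x ∈ ℋ → x ∈ Set.range l₁.left ∨ x ∈ Set.range l₂.left := fun x hx => by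
    rcases hcov0 x hx with h | h
    · left
      obtain ⟨m, hm⟩ := F.exists_eq a (q ≫ π) x h
      obtain ⟨r, -, hr⟩ := (ofPt_eq_ofPt_iff sq₁ m x).1 hm
      exact ⟨r, hr⟩
    · exact Or.inr h
  let H₁ : F.Gs.left.Opens := ⟨Points.ofPt F.ρ ⁻¹' ℋ, hℋo.preimage (Points.continuous_ofPt F.ρ)⟩
  let H₂ : Gb.left.Opens := ⟨Points.ofPt j ⁻¹' ℋ, hℋo.preimage (Points.continuous_ofPt j)⟩
  by_cases hz : Points.ofPt a x₀ ∈ Points.ofPt j '' Set.univ
  · obtain ⟨m₂, -, hm₂eq⟩ := hz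
    rw [← hm₂eq] at hz0 ⊢
    by_cases hm₂ : β₂.left m₂ = s
    · obtain ⟨m₁, hm₁⟩ := F.exists_eq j β₂ m₂ hm₂
      obtain ⟨V₁', hV₁', hm₁V, hV₁le⟩ := exists_isAffineOpen_mem_and_subset (X := F.Gs.left) (x := m₁) (U := H₁)
        (show Points.ofPt F.ρ m₁ ∈ ℋ from hm₁ ▸ hz0)
      let N := pullback β₂ F.cB
      let n : N ⟶ Gb := pullback.fst β₂ F.cB
      haveI := F.closed
      haveI : IsClosedImmersion n.left := MorphismProperty.of_isPullback (P := @IsClosedImmersion)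
        ((IsPullback.of_hasPullback β₂ F.cB).map (Over.forget S)).flip F.closed
      obtain ⟨κ, hκ⟩ := (yon S).map_surjective (F.sq.lift ((yon S).map n ≫ j)
        ((yon S).map (pullback.snd β₂ F.cB)) (hom_ext_B _ _))
      have hκρ : ∀ y : ↥N.left, Points.ofPt F.ρ (κ.left y) = Points.ofPt j (n.left y) := fun y => by
        rw [← ofPt_map, ← ofPt_map, hκ, F.sq.lift_fst]
      have hnrange : ∀ m : ↥Gb.left, β₂.left m = s → ∃ y, n.left y = m := fun m hm => by
        obtain ⟨c, hc⟩ : s ∈ Set.range F.cB.left := by rw [F.range]; rfl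
        obtain ⟨y, hy, -⟩ := exists_point_of_isPullback ((IsPullback.of_hasPullback β₂ F.cB).map (yon S))
          (x := Points.ofScheme Gb m) (y := Points.ofScheme F.C c) (by
            rw [map_yon_map_ofScheme, map_yon_map_ofScheme]
            exact congrArg _ (hm.trans hc.symm))
        obtain ⟨y', rfl⟩ := (Points.schemeEquiv N).surjective y
        exact ⟨y', (Points.schemeEquiv Gb).injective ((map_yon_map_ofScheme n y').symm.trans hy)⟩
      let E₂ : Set ↥Gb.left := n.left '' (κ.left ⁻¹' (V₁' : Set ↥F.Gs.left)ᶜ)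
      have hE₂ : IsClosed E₂ :=
        n.left.isClosedEmbedding.isClosedMap _ (V₁'.isOpen.isClosed_compl.preimage κ.left.continuous)
      have hm₂E : m₂ ∈ H₂ ⊓ (⟨E₂ᶜ, hE₂.isOpen_compl⟩ : Gb.left.Opens) := by
        refine ⟨hz0, ?_⟩
        rintro ⟨y, hy, rfl⟩
        exact hy (DVRDescent.ofPt_injective F.ρ ((hκρ y).trans hm₁.symm) ▸ hm₁V)
      obtain ⟨V₂', hV₂', hm₂V, hV₂le⟩ := exists_isAffineOpen_mem_and_subset (X := Gb.left) (x := m₂)
        (U := H₂ ⊓ ⟨E₂ᶜ, hE₂.isOpen_compl⟩) hm₂E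
      have hnk : n.left ⁻¹ᵁ V₂' ≤ κ.left ⁻¹ᵁ V₁' := fun y hy => by
        by_contra h
        exact (hV₂le hy).2 ⟨y, h, rfl⟩
      let E₁ := {m : ↥F.Gs.left | Points.ofPt F.ρ m ∈ Points.ofPt j '' (V₂' : Set ↥Gb.left)ᶜ}
      have hm₁E : m₁ ∉ E₁ := by
        rintro ⟨m', hm', e⟩
        exact hm' (DVRDescent.ofPt_injective j (e.trans hm₁) ▸ hm₂V)
      obtain ⟨h, hhle, hhm⟩ := hV₁'.exists_basicOpen_le
        (V := ⟨E₁ᶜ, (isClosed_trace sq F sq₂ V₂'.isOpen.isClosed_compl).isOpen_compl⟩) ⟨m₁, hm₁E⟩ hm₁V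
      obtain ⟨h', hh'⟩ := n.left.app_surjective V₂' hV₂' ((κ.left.appLE V₁' (n.left ⁻¹ᵁ V₂') hnk).hom h)
      have hiff : ∀ y : ↥N.left, n.left y ∈ V₂' → (n.left y ∈ Gb.left.basicOpen h' ↔ κ.left y ∈ F.Gs.left.basicOpen h) := by
        intro y hy
        show y ∈ n.left ⁻¹ᵁ Gb.left.basicOpen h' ↔ _
        rw [Scheme.preimage_basicOpen, hh', Scheme.basicOpen_appLE]
        exact ⟨fun h => h.2, fun h => ⟨hy, h⟩⟩
      obtain ⟨A, i, hi, hi₁, -⟩ := exists_piece hG sq sq₁ sq₂ ℋ hℋo hcov (F.Gs.left.basicOpen h) (hV₁'.basicOpen h)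
        (Gb.left.basicOpen h') (hV₂'.basicOpen h')
        (fun m hm => hV₁le (F.Gs.left.basicOpen_le h hm)) (fun m hm => (hV₂le (Gb.left.basicOpen_le h' hm)).1)
        fun m m' e => by
          obtain ⟨y, rfl⟩ := hnrange m' ((pos_eq F.ρ j (F.γ ≫ F.cB) β₂ e).symm.trans (F.over m))
          have hy : κ.left y = m := DVRDescent.ofPt_injective F.ρ ((hκρ y).trans e.symm)
          subst hy
          constructor
          · intro hm
            refine (hiff y ?_).2 hm
            by_contra hn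
            exact hhle hm ⟨_, hn, (hκρ y).symm⟩
          · intro hm
            exact (hiff y (Gb.left.basicOpen_le h' hm)).1 hm
      exact ⟨A, i, hi, hm₁ ▸ hi₁ _ hhm⟩
    · let D : Gb.left.Opens := β₂.left ⁻¹ᵁ ⟨({s} : Set ↥B.left)ᶜ, hs.isOpen_compl⟩
      obtain ⟨V₂, hV₂, hmV, hVle⟩ := exists_isAffineOpen_mem_and_subset (X := Gb.left) (x := m₂)
        (U := H₂ ⊓ D) ⟨hz0, hm₂⟩
      obtain ⟨A, i, hi, -, hi₂⟩ := exists_piece hG sq sq₁ sq₂ ℋ hℋo hcov ⊥ (isAffineOpen_bot _) V₂ hV₂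
        (fun m hm => hm.elim) (fun m hm => (hVle hm).1) fun m m' e =>
        ⟨fun h => h.elim, fun h => ((hVle h).2 ((pos_eq F.ρ j (F.γ ≫ F.cB) β₂ e).symm.trans (F.over m))).elim⟩
      exact ⟨A, i, hi, hi₂ _ hmV⟩
  · rcases hcov x₀ hz0 with ⟨r, rfl⟩ | ⟨r, rfl⟩
    · rw [← (ofPt_eq_ofPt_iff sq₁ (c₁.left r) _).2 ⟨r, rfl, rfl⟩] at hz hz0 ⊢
      obtain ⟨V₁, hV₁, hmV, hVle⟩ := exists_isAffineOpen_mem_and_subset (X := F.Gs.left) (x := c₁.left r)
        (U := H₁ ⊓ ⟨{m | Points.ofPt F.ρ m ∈ Points.ofPt j '' Set.univ}ᶜ,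
          (isClosed_trace sq F sq₂ isClosed_univ).isOpen_compl⟩) ⟨hz0, hz⟩
      obtain ⟨A, i, hi, hi₁, -⟩ := exists_piece hG sq sq₁ sq₂ ℋ hℋo hcov V₁ hV₁ ⊥ (isAffineOpen_bot _)
        (fun m hm => (hVle hm).1) (fun m hm => hm.elim) fun m m' e =>
        ⟨fun h => ((hVle h).2 ⟨m', trivial, e.symm⟩).elim, fun h => h.elim⟩
      exact ⟨A, i, hi, hi₁ _ hmV⟩
    · exact absurd ⟨c₂.left r, trivial, (ofPt_eq_ofPt_iff sq₂ _ _).2 ⟨r, rfl, rfl⟩⟩ hz

end Groth.Agent.AlgSpLib.DedDescent
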