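import Groth.Agent.AlgSpLib.LimitAffine
import Groth.Agent.AlgSpLib.PointsCompact
import Groth.Agent.AlgSpLib.Filtration
import Groth.Agent.AlgSpLib.MorSep
import Groth.Agent.AlgSpLib.FpqcBaseAffine2

/-!
A limit of algebraic spaces over a fixed base is affine over the base only if a stage is.
-/

universe u

set_option autoImplicit false
set_option backward.isDefEq.respectTransparency.types false

open CategoryTheory CategoryTheory.Limits AlgebraicGeometry Opposite AlgSp

noncomputable section

namespace Groth.Agent.AlgSpLib.LimitOver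

variable {S : Scheme.{u}} {I : Type u} [SmallCategory I] [IsCofiltered I] {D : I ⥤ Sp S} {Y : Sp S}
  (t : D ⟶ (Functor.const I).obj Y) {P : Sp S} (b : P ⟶ Y)

/-- the system pulled back along a map to the base -/
def sys : I ⥤ Sp S where
  obj i := pullback (t.app i) b
  map {i j} φ := pullback.map _ _ _ _ (D.map φ) (𝟙 P) (𝟙 Y)
    ((Category.comp_id (t.app i)).trans ((t.naturality φ).trans (Category.comp_id _)).symm) (by simp)
  map_id i := by apply pullback.hom_ext <;> simp [pullback.lift_fst, pullback.lift_snd]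
  map_comp φ ψ := by
    apply pullback.hom_ext <;>
      simp [pullback.lift_fst, pullback.lift_snd, pullback.lift_fst_assoc, pullback.lift_snd_assoc]

theorem sys_map_fst {i j : I} (φ : i ⟶ j) :
    (sys t b).map φ ≫ pullback.fst (t.app j) b = pullback.fst (t.app i) b ≫ D.map φ := by
  simp [sys, pullback.lift_fst]

theorem sys_map_snd {i j : I} (φ : i ⟶ j) :
    (sys t b).map φ ≫ pullback.snd (t.app j) b = pullback.snd (t.app i) b := by
  simp [sys, pullback.lift_snd]

theorem t_naturality {i j : I} (φ : i ⟶ j) : D.map φ ≫ t.app j = t.app i :=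
  (t.naturality φ).trans (Category.comp_id _)

theorem sys_isPullback {i j : I} (φ : i ⟶ j) :
    IsPullback (pullback.fst (t.app i) b) ((sys t b).map φ) (D.map φ) (pullback.fst (t.app j) b) :=
  (IsPullback.of_right (t := (IsPullback.of_hasPullback (t.app j) b).flip) (h₁₁ := (sys t b).map φ)
    (by rw [sys_map_snd, t_naturality]; exact (IsPullback.of_hasPullback (t.app i) b).flip)
    (sys_map_fst t b φ)).flip

variable {c : Cone D} {g : c.pt ⟶ Y} (hg : ∀ i, c.π.app i ≫ t.app i = g)

/-- the pulled back cone -/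
def cone : Cone (sys t b) where
  pt := pullback g b
  π :=
    { app := fun i => pullback.map _ _ _ _ (c.π.app i) (𝟙 P) (𝟙 Y)
        (by rw [Category.comp_id]; exact (hg i).symm) (by simp)
      naturality := fun i j φ => by
        apply pullback.hom_ext
        · simp [sys, pullback.lift_fst, pullback.lift_fst_assoc]
        · simp [sys, pullback.lift_snd] }

theorem cone_π_fst (i : I) :
    (cone t b hg).π.app i ≫ pullback.fst (t.app i) b = pullback.fst g b ≫ c.π.app i :=
  pullback.lift_fst _ _ _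

theorem cone_π_snd (i : I) : (cone t b hg).π.app i ≫ pullback.snd (t.app i) b = pullback.snd g b :=
  (pullback.lift_snd _ _ _).trans (Category.comp_id _)

theorem isLimit_cone (hc : IsLimit c) : Nonempty (IsLimit (cone t b hg)) := by
  obtain ⟨o⟩ := IsCofiltered.nonempty (C := I)
  have hsnd : ∀ (s : Cone (sys t b)) (i : I),
      s.π.app i ≫ pullback.snd (t.app i) b = s.π.app o ≫ pullback.snd (t.app o) b := by
    intro s i
    obtain ⟨k, a, a', -⟩ := IsCofilteredOrEmpty.cone_objs i o
    rw [← s.w a, ← s.w a', Category.assoc, Category.assoc, sys_map_snd, sys_map_snd]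
  let s' : Cone (sys t b) → Cone D := fun s =>
    { pt := s.pt
      π :=
        { app := fun i => s.π.app i ≫ pullback.fst (t.app i) b
          naturality := fun i j φ => by
            show 𝟙 s.pt ≫ s.π.app j ≫ pullback.fst (t.app j) b = (s.π.app i ≫ pullback.fst (t.app i) b) ≫ D.map φ
            rw [Category.id_comp, ← s.w φ, Category.assoc, sys_map_fst]
            exact (Category.assoc _ _ _).symm } }
  refine ⟨{
    lift := fun s => pullback.lift (hc.lift (s' s)) (s.π.app o ≫ pullback.snd (t.app o) b) (by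
      rw [← hg o, ← Category.assoc, hc.fac]
      exact (Category.assoc _ _ _).trans ((congrArg (s.π.app o ≫ ·) pullback.condition).trans
        (Category.assoc _ _ _).symm))
    fac := fun s i => ?_
    uniq := fun s m hm => ?_ }⟩
  · apply pullback.hom_ext
    · refine (Category.assoc _ _ _).trans ((congrArg (_ ≫ ·) (cone_π_fst t b hg i)).trans ?_)
      exact (Category.assoc _ _ _).symm.trans
        ((congrArg (· ≫ c.π.app i) (pullback.lift_fst _ _ _)).trans (hc.fac (s' s) i))
    · exact (Category.assoc _ _ _).trans ((congrArg (_ ≫ ·) (cone_π_snd t b hg i)).trans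
        ((pullback.lift_snd _ _ _).trans (hsnd s i).symm))
  · apply pullback.hom_ext
    · rw [pullback.lift_fst]
      refine hc.hom_ext fun i => ?_
      rw [hc.fac, Category.assoc, ← cone_π_fst t b hg]
      exact (Category.assoc _ _ _).symm.trans (congrArg (· ≫ pullback.fst (t.app i) b) (hm i))
    · rw [pullback.lift_snd, ← hm o]
      exact ((Category.assoc _ _ _).trans (congrArg (m ≫ ·) (cone_π_snd t b hg o))).symm

variable {t b}

theorem isAffineMor_sys_map (hDa : ∀ (i j : I) (φ : i ⟶ j), IsAffineMor (D.map φ)) (i j : I) (φ : i ⟶ j) :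
    IsAffineMor ((sys t b).map φ) :=
  isAffineMor_of_isPullback (sys_isPullback t b φ) (hDa i j φ)

/-- If the limit is affine over a quasi-compact and quasi-separated base, so is a stage. -/
theorem exists_stage_isAffineMor [QuasiSeparatedSpace ↥S] (hY : IsAlgSpace Y) (hYqc : IsQuasiCompactSp Y)
    (hYqs : IsQuasiSeparatedSp Y) (hD : ∀ i, IsAlgSpace (D.obj i))
    (hDa : ∀ (i j : I) (φ : i ⟶ j), IsAffineMor (D.map φ)) (c : Cone D) (hc : IsLimit c) (g : c.pt ⟶ Y)
    (hg : ∀ i, c.π.app i ≫ t.app i = g)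
    (hqc : ∀ i, IsQuasiCompactSp (D.obj i)) (hqs : ∀ i, IsQuasiSeparatedSp (D.obj i))
    (hX : IsAffineMor g) : ∃ o : I, ∀ i, (i ⟶ o) → IsAffineMor (t.app i) := by
  haveI := compactSpace_points_of_isQuasiCompactSp hYqc
  obtain ⟨B, p, hB, hpe, hps⟩ := exists_affine_chart hY
  have hBsp := IsAlgSpace.yon_obj (S := S) B
  have hpr : Representable p := hY.representable_from_yon p
  have hpq : IsQuasiCompactMor p :=
    (repWith_quasiCompact_iff hBsp hY hpr).1 (repWith_qc_chart hY hYqs p)
  have hps' : IsQuasiSeparatedMor p := (repWith_diagonal_iff hpr).2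
    (RepWith.mono (fun _ _ q (_ : QuasiSeparated q) => QuasiSeparated.quasiCompact_diagonal)
      (repWith_qs_chart hY hYqs p p hpe hps))
  obtain ⟨Wl, wl, a, sqW, hWl⟩ := hX hB p
  have hD' : ∀ i, IsAlgSpace ((sys t p).obj i) := fun i =>
    isAlgSpace_of_isPullback hY.diag (hD i) hBsp (IsPullback.of_hasPullback (t.app i) p)
  obtain ⟨i₀⟩ := IsCofiltered.nonempty (C := I)
  have hq₀ : IsQuasiCompactSp ((sys t p).obj i₀) :=
    hpq (hD i₀) (hqc i₀) (t.app i₀) _ _ (IsPullback.of_hasPullback (t.app i₀) p).flip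
  have hs₀ : IsQuasiSeparatedSp ((sys t p).obj i₀) := by
    obtain ⟨q, -⟩ := exists_to_base (D.obj i₀)
    exact (isQuasiSeparatedMor_iff_sp (pullback.fst (t.app i₀) p ≫ q)).1 (isQuasiSeparatedMor_comp
      (isQuasiSeparatedMor_of_isPullback (IsPullback.of_hasPullback (t.app i₀) p).flip hps')
      ((isQuasiSeparatedMor_iff_sp q).2 (hqs i₀)))
  obtain ⟨hc'⟩ := isLimit_cone t p hg hc
  have := (isQuasiCompactSp_iff_compactSpace (hD' i₀)).1 hq₀
  obtain ⟨U, v, hU, hve, hvs⟩ := exists_affine_chart (hD' i₀)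
  have hr := (hD' i₀).representable_from_yon v
  have h1 : QuasiCompact (hr.snd v).left := (repWith_qc_chart (hD' i₀) hs₀ v).2 _ _ _ (hr.isPullback' v)
  have h2 : QuasiSeparated (hr.snd v).left :=
    (repWith_qs_chart (hD' i₀) hs₀ v v hve hvs).2 _ _ _ (hr.isPullback' v)
  have : CompactSpace (hr.pullback v).left := QuasiCompact.compactSpace_of_compactSpace (hr.snd v).left
  have : QuasiSeparatedSpace (hr.pullback v).left := quasiSeparatedSpace_of_quasiSeparated (hr.snd v).left
  haveI := hWl
  obtain ⟨i, -, T, hT, ⟨e⟩⟩ := LimitAffine.exists_stage_affine (sys t p) (isAffineMor_sys_map hDa) (cone t p hg)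
    hc' (sqW.isoIsPullback _ _ (IsPullback.of_hasPullback g p)) v hve hvs (hr.isPullback' v)
  refine ⟨i, fun k φ => ?_⟩
  obtain ⟨W, w, fst, sq, hW⟩ := isAffineMor_sys_map hDa k i φ hT e.hom
  haveI : IsIso fst := sq.isIso_fst_of_isIso
  obtain ⟨m, hm⟩ := (yon S).map_surjective (fst ≫ pullback.snd (t.app k) p)
  haveI := hW
  haveI := hB
  refine (iff_of_etale_cover isAffineMor_iff_isLocal (hD k) hY (t.app k) p hpe hps
    (IsPullback.of_hasPullback (t.app k) p)).2 ?_
  rw [isAffineMor_iff_repWith]
  refine (MorphismProperty.cancel_left_of_respectsIso (RepWith @IsAffineHom) fst _).1 ?_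
  rw [← hm]
  exact (repWith_yon_map_iff _ m).2 (isAffineHom_of_isAffine _)

/-- an affine chart of the base gives a system of affine schemes, once a stage is affine over the base -/
theorem exists_affine_system (hY : IsAlgSpace Y) (hYqc : IsQuasiCompactSp Y)
    (hDa : ∀ (i j : I) (φ : i ⟶ j), IsAffineMor (D.map φ)) (c : Cone D) (hc : IsLimit c) (g : c.pt ⟶ Y)
    (hg : ∀ i, c.π.app i ≫ t.app i = g) (o : I) (ho : IsAffineMor (t.app o)) :
    ∃ (B : Over S) (p : (yon S).obj B ⟶ Y) (E : Over o ⥤ Over S) (cE : Cone E)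
      (f : ∀ j, E.obj j ⟶ B) (finf : cE.pt ⟶ B) (η : ∀ j, (yon S).obj (E.obj j) ⟶ D.obj j.left)
      (θ : (yon S).obj cE.pt ⟶ c.pt) (_ : IsLimit ((Over.forget S).mapCone cE)),
      IsAffine B.left ∧ RepWith @Etale p ∧ RepWith @Surjective p ∧
      (∀ j, IsAffine (E.obj j).left) ∧
      (∀ {j k : Over o} (φ : j ⟶ k), E.map φ ≫ f k = f j) ∧
      (∀ j, cE.π.app j ≫ f j = finf) ∧
      (∀ {j k : Over o} (φ : j ⟶ k), IsPullback ((yon S).map (E.map φ)) (η j) (η k) (D.map φ.left)) ∧
      (∀ j, IsPullback (η j) ((yon S).map (f j)) (t.app j.left) p) ∧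
      IsPullback θ ((yon S).map finf) g p := by
  haveI := compactSpace_points_of_isQuasiCompactSp hYqc
  obtain ⟨B, p, hB, hpe, hps⟩ := exists_affine_chart hY
  obtain ⟨V, i, v, sqV, hV⟩ := ho hB p
  have hve : RepWith @Etale v := RepWith.baseChange sqV.flip hpe
  have hvs : RepWith @Surjective v := RepWith.baseChange sqV.flip hps
  obtain ⟨E, η, pr, cE, hcE, θ, haff, hnat, hsq, hpr, hη, hθe, hθs, hπ⟩ :=
    exists_chart_system D hDa c hc v hve hvs
  haveI := hV
  let top : Over o := Over.mk (𝟙 o)
  let u : ∀ j : Over o, j ⟶ top := fun j => Over.homMk j.hom (Category.comp_id _)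
  let f₀ : E.obj top ⟶ B := pr top ≫ i
  have sq₀ : IsPullback (η top) ((yon S).map f₀) (t.app o) p := by
    rw [Functor.map_comp]
    have e : t.app o = D.map top.hom ≫ t.app o := (t_naturality t top.hom).symm
    rw [e]
    exact ((hsq top).paste_horiz sqV.flip).flip
  have hsqj : ∀ j, IsPullback (η j) ((yon S).map (E.map (u j) ≫ f₀)) (t.app j.left) p := fun j => by
    rw [Functor.map_comp, ← t_naturality t j.hom]
    exact (((hnat (u j)).paste_horiz sq₀.flip)).flip
  refine ⟨B, p, E, cE, fun j => E.map (u j) ≫ f₀, cE.π.app top ≫ f₀, η, θ, hcE, hB, hpe, hps, fun j => ?_,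
    fun {j k} φ => ?_, fun j => ?_, hnat, hsqj, ?_⟩
  · haveI := hpr j
    exact isAffine_of_isAffineHom (pr j).left
  · rw [← Category.assoc, ← E.map_comp, show φ ≫ u k = u j from Over.OverMorphism.ext (Over.w φ)]
  · rw [← Category.assoc, cE.w]
  · rw [Functor.map_comp, ← hg o]
    exact ((hπ top).paste_horiz sq₀.flip).flip

end Groth.Agent.AlgSpLib.LimitOver
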