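import Groth.Agent.AlgSpLib.IntSchemeCrit
import Groth.Agent.AlgSpLib.LimitOverAffine
import Groth.Agent.AlgSpLib.SchemeStage
import Groth.Agent.Et18.ProperClopen.Subrings
import Groth.Agent.S10007

/-!
Descent of representability along field extensions: a stage over a finitely generated subalgebra, base change along
algebra maps.
-/

universe u

open CategoryTheory CategoryTheory.Limits AlgebraicGeometry Opposite Topology
open AlgSp

noncomputable section

set_option linter.style.haveILetI false

namespace Groth.Agent.AlgSpLib.FieldDescent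

open Groth.Agent.AlgSpLib

set_option backward.isDefEq.respectTransparency.types false
set_option backward.isDefEq.respectTransparency false

attribute [local instance] CategoryTheory.isConnected_of_hasTerminal

variable {k : Type u} [Field k]

local notation "Bk" => Spec (CommRingCat.of k)

/-- the spectrum of an algebra over the field -/
abbrev oA (k : Type u) [Field k] (A : Type u) [CommRing A] [Algebra k A] : Over (Spec (CommRingCat.of k)) :=
  Over.mk (Spec.map (CommRingCat.ofHom (algebraMap k A)))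

/-- algebra maps as maps of spectra -/
def oMap {A B : Type u} [CommRing A] [Algebra k A] [CommRing B] [Algebra k B] (φ : A →ₐ[k] B) : oA k B ⟶ oA k A :=
  Over.homMk (Spec.map (CommRingCat.ofHom φ.toRingHom)) (by
    show Spec.map (CommRingCat.ofHom φ.toRingHom) ≫ Spec.map (CommRingCat.ofHom (algebraMap k A)) =
      Spec.map (CommRingCat.ofHom (algebraMap k B))
    rw [← Spec.map_comp]
    congr 1
    ext c
    exact φ.commutes c)

/-- the projection to the space from a base change along an algebra is affine -/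
theorem isAffineMor_fst (F : Sp Bk) (A : Type u) [CommRing A] [Algebra k A] :
    IsAffineMor (prod.fst : F ⨯ (yon Bk).obj (oA k A) ⟶ F) := by
  have hT : IsTerminal ((yon Bk).obj (Over.mk (𝟙 _))) := IsTerminal.isTerminalObj (yon Bk) _ Over.mkIdTerminal
  let str : oA k A ⟶ Over.mk (𝟙 _) := Over.homMk (oA k A).hom
  have sq : IsPullback (prod.fst : F ⨯ (yon Bk).obj (oA k A) ⟶ F) prod.snd (hT.from F) ((yon Bk).map str) := by
    rw [show (yon Bk).map str = hT.from _ from hT.hom_ext _ _]
    exact IsPullback.of_is_product (Limits.prodIsProd F ((yon Bk).obj (oA k A))) hT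
  exact (isAffineMor_iff_repWith _).2 (RepWith.baseChange sq.flip ((repWith_yon_map_iff (P := @IsAffineHom) str).2
    (inferInstanceAs (IsAffineHom (Spec.map (CommRingCat.ofHom (algebraMap k A)))))))

/-- representability is stable under base change along algebra maps -/
theorem isRepresentable_bc (F : Sp Bk) {A B : Type u} [CommRing A] [Algebra k A] [CommRing B] [Algebra k B]
    (φ : A →ₐ[k] B) (h : (F ⨯ (yon Bk).obj (oA k A)).obj.IsRepresentable) :
    (F ⨯ (yon Bk).obj (oA k B)).obj.IsRepresentable := by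
  obtain ⟨T, ⟨e⟩⟩ := exists_iso_yon_of_isRepresentable h
  have hr : RepWith @IsAffineHom (prod.map (𝟙 F) ((yon Bk).map (oMap φ))) :=
    RepWith.baseChange (isPullback_prod_id_map ((yon Bk).map (oMap φ)))
      ((repWith_yon_map_iff (P := @IsAffineHom) (oMap φ)).2
        (inferInstanceAs (IsAffineHom (Spec.map (CommRingCat.ofHom φ.toRingHom)))))
  obtain ⟨W, ⟨eW⟩⟩ := SchStage.exists_iso_yon_of_representable hr.1 e
  exact isRepresentable_of_iso_yon (F := F ⨯ (yon Bk).obj (oA k B)) eW

section

theorem oMap_id (A : Type u) [CommRing A] [Algebra k A] : oMap (AlgHom.id k A) = 𝟙 (oA k A) :=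
  Over.OverMorphism.ext (by
    show Spec.map (CommRingCat.ofHom (AlgHom.id k A).toRingHom) = 𝟙 _
    rw [← Spec.map_id]
    rfl)

theorem oMap_comp {A B C : Type u} [CommRing A] [Algebra k A] [CommRing B] [Algebra k B] [CommRing C] [Algebra k C]
    (φ : A →ₐ[k] B) (ψ : B →ₐ[k] C) : oMap ψ ≫ oMap φ = oMap (ψ.comp φ) :=
  Over.OverMorphism.ext (by
    show Spec.map (CommRingCat.ofHom ψ.toRingHom) ≫ Spec.map (CommRingCat.ofHom φ.toRingHom) = _
    rw [← Spec.map_comp]
    rfl)

variable (k) (K : Type u) [Field K] [Algebra k K] (S : Finset K → Subalgebra k K) (hS : Monotone S)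

/-- inclusions of finitely generated subalgebras -/
def subInc {a b : Finset K} (h : a ≤ b) :
    ↥(S a) →ₐ[k] ↥(S b) :=
  Subalgebra.inclusion (hS h)

theorem subInc_coe {a b : Finset K} (h : a ≤ b) (x : ↥(S a)) :
    ((subInc k K S hS h x : ↥(S b)) : K) = (x : K) := rfl

theorem subInc_refl (a : Finset K) : subInc k K S hS (le_refl a) = AlgHom.id k _ :=
  AlgHom.ext fun x => Subtype.ext (subInc_coe k K S hS (le_refl a) x)

theorem subInc_trans {a b c : Finset K} (h : a ≤ b) (h' : b ≤ c) :
    (subInc k K S hS h').comp (subInc k K S hS h) = subInc k K S hS (h.trans h') :=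
  AlgHom.ext fun x => Subtype.ext (by
    rw [AlgHom.comp_apply, subInc_coe, subInc_coe, subInc_coe])

theorem val_comp_subInc {a b : Finset K} (h : a ≤ b) :
    (S b).val.comp (subInc k K S hS h) = (S a).val :=
  AlgHom.ext fun x => subInc_coe k K S hS h x

/-- the system of spectra of finitely generated subalgebras -/
def subDiagram : (Finset K)ᵒᵖ ⥤ Over Bk where
  obj s := oA k ↥(S s.unop)
  map {a b} f := oMap (subInc k K S hS (leOfHom f.unop))
  map_id s := (congrArg oMap (subInc_refl k K S hS s.unop)).trans (oMap_id _)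
  map_comp {a b c} f g := by
    rw [oMap_comp, subInc_trans]

/-- its cone -/
def subCone : Cone (subDiagram k K S hS) where
  pt := oA k K
  π :=
    { app := fun s => oMap (S s.unop).val
      naturality := fun a b f => by
        show 𝟙 _ ≫ oMap (S b.unop).val =
          oMap (S a.unop).val ≫ oMap (subInc k K S hS (leOfHom f.unop))
        rw [Category.id_comp, oMap_comp, val_comp_subInc] }

open scoped Classical in
/-- it is a limit -/
def isLimitSubCone (hcov : ∀ a : K, ∃ s, a ∈ S s) : IsLimit (subCone k K S hS) :=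
  haveI : IsLimit ((Over.forget Bk).mapCone (subCone k K S hS)) :=
    isLimitOfPreserves Scheme.Spec (Groth.Agent.Et18.ProperClopen.isColimitCocone
      (⟨fun s => (S s).toSubring, fun _ _ h _ hx => hS h hx⟩ : Finset K →o Subring K) hcov).op
  isLimitOfReflects (Over.forget Bk) this

variable {k}

include hS in
/-- a space which becomes a scheme over an extension does so over a member of an exhausting family -/
theorem exists_stage_rep (hcov : ∀ a : K, ∃ s, a ∈ S s) (U : AlgSp.Space Bk) (hUc : IsQuasiCompactSp U.obj) (hUs : IsQuasiSeparatedSp U.obj)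
    (h : (U.obj ⨯ (yon Bk).obj (oA k K)).obj.IsRepresentable) :
    ∃ s : Finset K, (U.obj ⨯ (yon Bk).obj (oA k ↥(S s))).obj.IsRepresentable := by
  classical
  have hT : IsTerminal ((yon Bk).obj (Over.mk (𝟙 _))) := IsTerminal.isTerminalObj (yon Bk) _ Over.mkIdTerminal
  let E := subDiagram k K S hS
  let cE := subCone k K S hS
  have hcE : IsLimit cE := isLimitSubCone k K S hS hcov
  let D : (Finset K)ᵒᵖ ⥤ Sp Bk := E ⋙ yon Bk
  let t : D ⟶ (Functor.const _).obj ((yon Bk).obj (Over.mk (𝟙 _))) :=
    { app := fun s => hT.from _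
      naturality := fun _ _ _ => hT.hom_ext _ _ }
  let c : Cone D := (yon Bk).mapCone cE
  have hc : IsLimit c := isLimitOfPreserves (yon Bk) hcE
  obtain ⟨hlim⟩ := LimitOver.isLimit_cone t (hT.from U.obj) (c := c) (g := hT.from _) (fun i => hT.hom_ext _ _) hc
  have hiso : ∀ A : Sp Bk, Nonempty (pullback (hT.from A) (hT.from U.obj) ≅ U.obj ⨯ A) := fun A =>
    ⟨(IsPullback.of_hasPullback (hT.from A) (hT.from U.obj)).isoIsPullback _ _
      (IsPullback.of_is_product (Limits.prodIsProd U.obj A) hT).flip⟩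
  have hsp : ∀ s, IsAlgSpace (U.obj ⨯ D.obj s) := fun s => isAlgSpace_prod U.property (IsAlgSpace.yon_obj _)
  have hDa : ∀ (i j) (φ : i ⟶ j), IsAffineMor (D.map φ) := fun i j φ => (isAffineMor_iff_repWith _).2
    ((repWith_yon_map_iff (P := @IsAffineHom) (E.map φ)).2
      (inferInstanceAs (IsAffineHom (Spec.map (CommRingCat.ofHom (subInc k K S hS (leOfHom φ.unop)).toRingHom)))))
  have hsys : ∀ s, IsAlgSpace ((LimitOver.sys t (hT.from U.obj)).obj s) ∧
      IsQuasiCompactSp ((LimitOver.sys t (hT.from U.obj)).obj s) ∧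
      IsQuasiSeparatedSp ((LimitOver.sys t (hT.from U.obj)).obj s) := fun s => by
    have e : (LimitOver.sys t (hT.from U.obj)).obj s ≅ U.obj ⨯ D.obj s := (hiso _).some
    have ha : IsAffineMor (e.hom ≫ prod.fst) := isAffineMor_comp (isAffineMor_of_repWith (repWith_of_isIso _ _))
      (isAffineMor_fst U.obj _)
    exact ⟨(hsp s).of_iso e.symm, OpenFac.isQuasiCompactSp_of_affine U.property ha hUc,
      VCart.isQuasiSeparatedSp_of_affineMor ha hUs⟩
  obtain ⟨T, ⟨eT⟩⟩ := exists_iso_yon_of_isRepresentable h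
  obtain ⟨s, hs⟩ := Groth.Agent.S10007.result Bk (LimitOver.sys t (hT.from U.obj)) (fun s => (hsys s).1)
    (LimitOver.isAffineMor_sys_map hDa) (fun s => (hsys s).2.1) (fun s => (hsys s).2.2) _ hlim
    (isRepresentable_of_iso_yon (F := pullback (hT.from c.pt) (hT.from U.obj)) (eT ≪≫ (hiso c.pt).some.symm))
  obtain ⟨W, ⟨eW⟩⟩ := exists_iso_yon_of_isRepresentable hs
  exact ⟨s.unop, isRepresentable_of_iso_yon (F := U.obj ⨯ (yon Bk).obj (oA k _)) (eW ≪≫ (hiso (D.obj s)).some)⟩

end

/-- a space which becomes a scheme over an extension does so over a finitely generated subalgebra -/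
theorem exists_fg_rep (K : Type u) [Field K] [Algebra k K] (U : AlgSp.Space Bk) (hUc : IsQuasiCompactSp U.obj)
    (hUs : IsQuasiSeparatedSp U.obj) (h : (U.obj ⨯ (yon Bk).obj (oA k K)).obj.IsRepresentable) :
    ∃ s : Finset K, (U.obj ⨯ (yon Bk).obj (oA k ↥(Algebra.adjoin k (s : Set K)))).obj.IsRepresentable :=
  exists_stage_rep K (fun s => Algebra.adjoin k (s : Set K))
    (fun _ _ h => Algebra.adjoin_mono (Finset.coe_subset.2 h))
    (fun a => ⟨{a}, Algebra.subset_adjoin (Finset.mem_coe.2 (Finset.mem_singleton_self a))⟩) U hUc hUs h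


noncomputable section

/-- a point of a finitely generated algebra in a finite extension -/
theorem exists_finite_point {K : Type u} [Field K] [Algebra k K] (s : Finset K) :
    ∃ (k' : Type u) (_ : Field k') (_ : Algebra k k'), Module.Finite k k' ∧
      Nonempty (↥(Algebra.adjoin k (s : Set K)) →ₐ[k] k') := by
  obtain ⟨m, hm⟩ := Ideal.exists_maximal ↥(Algebra.adjoin k (s : Set K))
  haveI : Algebra.FiniteType k ↥(Algebra.adjoin k (s : Set K)) :=
    (Subalgebra.fg_iff_finiteType _).1 ⟨s, rfl⟩
  letI : Field (↥(Algebra.adjoin k (s : Set K)) ⧸ m) := Ideal.Quotient.field m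
  haveI : Algebra.FiniteType k (↥(Algebra.adjoin k (s : Set K)) ⧸ m) :=
    Algebra.FiniteType.of_surjective (Ideal.Quotient.mkₐ k m) (Ideal.Quotient.mkₐ_surjective k m)
  exact ⟨_, inferInstance, inferInstance, finite_of_finite_type_of_isJacobsonRing k _,
    ⟨Ideal.Quotient.mkₐ k m⟩⟩

/-- a scheme over an extension stays a scheme over the algebraic closure -/
theorem isRepresentable_algClosed (U : AlgSp.Space Bk) (hUc : IsQuasiCompactSp U.obj)
    (hUs : IsQuasiSeparatedSp U.obj) (K : Type u) [Field K] [Algebra k K]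
    (h : (U.obj ⨯ (yon Bk).obj (oA k K)).obj.IsRepresentable) (kbar : Type u) [Field kbar] [Algebra k kbar]
    [IsAlgClosed kbar] : (U.obj ⨯ (yon Bk).obj (oA k kbar)).obj.IsRepresentable := by
  obtain ⟨s, hs⟩ := exists_fg_rep K U hUc hUs h
  obtain ⟨k', _, _, hfin, ⟨φ⟩⟩ := exists_finite_point (k := k) s
  exact isRepresentable_bc U.obj (IsAlgClosed.lift : k' →ₐ[k] kbar)
    (isRepresentable_bc U.obj φ hs)

/-- opens of a base change that is a scheme -/
theorem isRepresentable_open {F : Sp Bk} {G : Sp Bk} (j : G ⟶ F) (hj : RepWith @IsOpenImmersion j)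
    (A : Type u) [CommRing A] [Algebra k A] (h : (F ⨯ (yon Bk).obj (oA k A)).obj.IsRepresentable) :
    (G ⨯ (yon Bk).obj (oA k A)).obj.IsRepresentable := by
  obtain ⟨T, ⟨e⟩⟩ := exists_iso_yon_of_isRepresentable h
  obtain ⟨W, ⟨eW⟩⟩ := SchStage.exists_iso_yon_of_representable
    (RepWith.baseChange (isPullback_prod_map_id j) hj).1 e
  exact isRepresentable_of_iso_yon (F := G ⨯ (yon Bk).obj (oA k A)) eW

/-- quasi-compact open pieces of a space, indexed by an atlas -/
theorem exists_qc_pieces {S : Scheme.{u}} [QuasiSeparatedSpace ↥S] (X : AlgSp.Space S)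
    (hqs : IsQuasiSeparatedSp X.obj) :
    ∀ x : Points X.obj, ∃ (U : AlgSp.Space S) (j : U ⟶ X), RepWith @IsOpenImmersion j.hom ∧
      IsQuasiCompactSp U.obj ∧ IsQuasiSeparatedSp U.obj ∧ x ∈ Set.range (Points.map j.hom) := fun x => by
  obtain ⟨V, hVo, hVc, hxV, -⟩ :=
    OpenFac.exists_compact_open X.property (isCompact_singleton (x := x)) isOpen_univ (Set.subset_univ _)
  let U : AlgSp.Space S := ⟨openSubspace X.obj V, isAlgSpace_openSubspace X.property hVo⟩
  let j : U.obj ⟶ X.obj := openSubspaceι X.obj V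
  haveI : Mono j := inferInstanceAs (Mono (openSubspaceι X.obj V))
  have hj : RepWith @IsOpenImmersion j := repWith_openSubspaceι X.obj hVo
  refine ⟨U, ObjectProperty.homMk j, hj, ?_, ?_, ?_⟩
  · refine (isQuasiCompactSp_iff_compactSpace U.property).2 ⟨?_⟩
    rw [(isEmbedding_map_of_immersion X.property (RepWith.mono (fun _ _ g (_ : IsOpenImmersion g) =>
      (inferInstance : IsImmersion g)) hj)).1.isCompact_iff, Set.image_univ, range_openSubspaceι]
    exact hVc
  · have hT : IsTerminal ((yon S).obj (Over.mk (𝟙 S))) := IsTerminal.isTerminalObj (yon S) _ Over.mkIdTerminal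
    exact (isQuasiSeparatedMor_iff_sp _).1
      (isQuasiSeparatedMor_comp (isQuasiSeparatedMor_of_mono j) ((isQuasiSeparatedMor_iff_sp (hT.from X.obj)).2 hqs))
  · rw [show (ObjectProperty.homMk j : U ⟶ X).hom = j from rfl, range_openSubspaceι]
    exact hxV rfl

theorem isRepresentable_algClosed_of_cover (X : AlgSp.Space Bk) (hqs : IsQuasiSeparatedSp X.obj)
    (K : Type u) [Field K] [Algebra k K] (h : (X.obj ⨯ (yon Bk).obj (oA k K)).obj.IsRepresentable)
    (kbar : Type u) [Field kbar] [Algebra k kbar] [IsAlgClosed kbar] :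
    (X.obj ⨯ (yon Bk).obj (oA k kbar)).obj.IsRepresentable := by
  choose U j hj hUc hUs hxj using exists_qc_pieces X hqs
  have hloc : ∀ x : Points X.obj, ∃ T : Over Bk, Nonempty ((yon Bk).obj T ≅ (U x).obj ⨯ (yon Bk).obj (oA k kbar)) :=
    fun x => exists_iso_yon_of_isRepresentable
      (isRepresentable_algClosed (U x) (hUc x) (hUs x) K (isRepresentable_open (j x).hom (hj x) K h) kbar)
  choose T e using hloc
  obtain ⟨U₀, a, -, has⟩ := X.property.atlas
  obtain ⟨G, ⟨eG⟩⟩ := exists_iso_yon_of_openCover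
    (f := fun v : ↥U₀.left => (e (Points.ofPt a v)).some.hom ≫ prod.map (j (Points.ofPt a v)).hom (𝟙 _))
    (fun v => RepWith.comp (repWith_of_isIso (P := @IsOpenImmersion) _)
      (RepWith.baseChange (isPullback_prod_map_id (j (Points.ofPt a v)).hom) (hj _))) fun z => by
      obtain ⟨v, hv⟩ := surjective_ofPt a has (Points.map prod.fst z)
      obtain ⟨u, hu⟩ := hxj (Points.ofPt a v)
      obtain ⟨c, -, hc⟩ := exists_point_of_isPullback (isPullback_prod_map_id (j (Points.ofPt a v)).hom)
        (x := u) (y := z) (hu.trans hv)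
      refine ⟨v, Points.map (e _).some.inv c, ?_⟩
      rw [← Points.map_comp, Iso.inv_hom_id_assoc]
      exact hc
  exact isRepresentable_of_iso_yon (F := X.obj ⨯ (yon Bk).obj (oA k kbar)) eG

/-- a space which is a scheme over some extension is one over a finite separable extension -/
theorem exists_separable (X : AlgSp.Space Bk) (hqc : IsQuasiCompactSp X.obj) (hqs : IsQuasiSeparatedSp X.obj)
    (K : Type u) [Field K] [Algebra k K] (h : (X.obj ⨯ (yon Bk).obj (oA k K)).obj.IsRepresentable) :
    ∃ (k' : Type u) (_ : Field k') (_ : Algebra k k'), Module.Finite k k' ∧ Algebra.IsSeparable k k' ∧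
      (X.obj ⨯ (yon Bk).obj (oA k k')).obj.IsRepresentable := by
  obtain ⟨s, hs⟩ := exists_fg_rep K X hqc hqs h
  obtain ⟨k', _, _, hfin, ⟨φ⟩⟩ := exists_finite_point (k := k) s
  haveI : Module.Finite k k' := hfin
  let L := separableClosure k k'
  haveI : IsPurelyInseparable L k' := separableClosure.isPurelyInseparable k k'
  refine ⟨L, inferInstance, inferInstance, inferInstance, inferInstance, ?_⟩
  obtain ⟨T, ⟨e⟩⟩ := exists_iso_yon_of_isRepresentable (isRepresentable_bc X.obj φ hs)
  let ι : oA k k' ⟶ oA k L := oMap (L.val)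
  let q : (yon Bk).obj T ⟶ X.obj ⨯ (yon Bk).obj (oA k L) := e.hom ≫ prod.map (𝟙 _) ((yon Bk).map ι)
  haveI : IsIntegralHom ι.left :=
    IsIntegralHom.SpecMap_iff.2 (algebraMap_isIntegral_iff.2 (inferInstance : Algebra.IsIntegral L k'))
  haveI : Surjective ι.left := ⟨fun z => ⟨IsLocalRing.closedPoint k',
    Subsingleton.elim (α := ↥(Spec (CommRingCat.of L))) _ z⟩⟩
  haveI : UniversallyInjective ι.left := ((tfae_universallyInjective ι.left).out 0 1).2 (by
    intro F _ g₁ g₂ hg
    obtain ⟨ψ₁, rfl⟩ := Spec.map_surjective (R := CommRingCat.of k') g₁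
    obtain ⟨ψ₂, rfl⟩ := Spec.map_surjective (R := CommRingCat.of k') g₂
    have hg' : CommRingCat.ofHom L.val.toRingHom ≫ ψ₁ = CommRingCat.ofHom L.val.toRingHom ≫ ψ₂ := by
      refine Spec.map_injective ?_
      rw [Spec.map_comp, Spec.map_comp]
      exact hg
    congr 1
    exact CommRingCat.hom_ext (IsPurelyInseparable.injective_comp_algebraMap (↥L) k' F
      (congrArg CommRingCat.Hom.hom hg')))
  have hq : RepWith @IsIntegralHom q := RepWith.comp (repWith_of_isIso (P := @IsIntegralHom) _)
    (RepWith.baseChange (isPullback_prod_id_map _) ((repWith_yon_map_iff (P := @IsIntegralHom) ι).2 inferInstance))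
  have hqsurj : Function.Surjective (Points.ofPt q) := surjective_ofPt q (RepWith.comp (repWith_of_isIso (P := @Surjective) _)
    (RepWith.baseChange (isPullback_prod_id_map _) ((repWith_yon_map_iff (P := @Surjective) ι).2 inferInstance)))
  have hqui : RepWith @UniversallyInjective q := RepWith.comp (repWith_of_isIso (P := @UniversallyInjective) _)
    (RepWith.baseChange (isPullback_prod_id_map _) ((repWith_yon_map_iff (P := @UniversallyInjective) ι).2 inferInstance))
  have hL : IsAlgSpace (X.obj ⨯ (yon Bk).obj (oA k L)) := isAlgSpace_prod X.property (IsAlgSpace.yon_obj _)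
  refine IntSchemeCrit.isRepresentable_of_integral_qs ⟨_, hL⟩
    (VCart.isQuasiSeparatedSp_of_affineMor (isAffineMor_fst X.obj _) hqs) q hq hqsurj fun x => ?_
  obtain ⟨y, rfl⟩ := hqsurj x
  obtain ⟨_, ⟨W, hW, rfl⟩, hyW, -⟩ :=
    T.left.isBasis_affineOpens.exists_subset_of_mem_open (Set.mem_univ y) isOpen_univ
  refine ⟨W, hW, fun y' hy' => ?_⟩
  obtain ⟨V, a, -, has⟩ := hL.atlas
  obtain ⟨v, hv⟩ := surjective_ofPt a has (Points.ofPt q y)
  obtain ⟨Q, w, fst, sq, hw⟩ := exists_yon_of_repWith hqui a
  haveI : UniversallyInjective w.left := hw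
  obtain ⟨u, rfl⟩ := (yon Bk).map_surjective fst
  obtain ⟨r, hr1, hr2⟩ := (ofPt_eq_ofPt_iff sq y v).1 hv.symm
  obtain ⟨r', hr1', hr2'⟩ := (ofPt_eq_ofPt_iff sq y' v).1 (hy'.trans hv.symm)
  rw [← hr1', w.left.injective (hr2'.trans hr2.symm), hr1]
  exact hyW

end

end Groth.Agent.AlgSpLib.FieldDescent
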