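import Groth.Agent.AlgSpLib.NormInj
import Groth.Agent.AlgSpLib.EtaleAscend
import Groth.Agent.CAlgH.NagataIC

/-!
Finiteness of the relative normalisation over a Nagata algebraic space.
-/

universe u

open CategoryTheory CategoryTheory.Limits AlgebraicGeometry Opposite
open AlgSp

noncomputable section

namespace Groth.Agent.AlgSpLib

set_option backward.isDefEq.respectTransparency.types false
set_option backward.isDefEq.respectTransparency false

variable {S : Scheme.{u}}

/-- a chart of a reduced space is reduced -/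
theorem isReduced_chart {X : Sp S} (hr : IsReducedSp X) {U : Over S}
    (a : (yon S).obj U ⟶ X) (ha : RepWith @Etale a) : IsReduced U.left := by
  obtain ⟨W₀, a₀, ha₀, ha₀s, hW₀⟩ := hr
  have : IsReduced W₀.left := hW₀
  obtain ⟨R, r, fst, sq, hre⟩ := exists_yon_of_repWith ha₀ a
  obtain ⟨r₀, rfl⟩ := (yon S).map_surjective fst
  have : Etale r.left := hre
  have : Etale r₀.left := (repWith_yon_map_iff _ r₀).1 (RepWith.baseChange sq.flip ha)
  have : Surjective r.left := (repWith_yon_map_iff _ r).1 (RepWith.baseChange sq ha₀s)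
  have : IsReduced R.left := isReduced_of_etale' r₀.left
  exact isReduced_of_flat_surjective r.left

theorem isFiniteMor_normalization_nagata {X Y Y' : Space S} (f : X ⟶ Y)
    (hY : EtaleLocally (fun U => ∀ V : U.Opens, IsAffineOpen V → CAlg.IsNagata Γ(U, V)) Y.obj)
    (hqs : IsQuasiSeparatedMor f.hom) (hft : IsFiniteTypeMor f.hom) (hX : IsReducedSp X.obj)
    (ν : Y' ⟶ Y) (f' : X ⟶ Y') (hn : IsRelNormalization f.hom ν.hom f'.hom) : IsFiniteMor ν.hom := by
  have H := locNorm_of_isRelNormalization f hft.2 hqs hn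
  obtain ⟨U, p, hpe, hps, hN⟩ := hY
  let sA : ∀ O : U.left.affineOpens, Spec Γ(U.left, O.1) ⟶ S := fun O => O.2.fromSpec ≫ U.hom
  let ι : ∀ O : U.left.affineOpens, oU (sA O) ⟶ U := fun O => Over.homMk O.2.fromSpec rfl
  let a : ∀ O : U.left.affineOpens, (yon S).obj (oU (sA O)) ⟶ Y.obj := fun O => (yon S).map (ι O) ≫ p
  have hι : ∀ O, IsOpenImmersion (ι O).left := fun O => inferInstanceAs (IsOpenImmersion O.2.fromSpec)
  have hae : ∀ O, RepWith @Etale (a O) := fun O => by
    have := hι O
    exact RepWith.comp ((repWith_yon_map_iff @Etale (ι O)).2 (inferInstance : Etale (ι O).left)) hpe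
  have hcov : IsFpqcCover (fun O => (yon S).obj (oU (sA O))) a := by
    refine isFpqcCover_of_isFppfCover Y.property (fun O => IsAlgSpace.yon_obj _) ⟨fun O =>
      ⟨locP_of_repWith etLocal_flat (IsAlgSpace.yon_obj _) (RepWith.mono (fun _ _ q (h : Etale q) => (inferInstance : Flat q)) (hae O)),
        locP_of_repWith etLocal_lfp (IsAlgSpace.yon_obj _) (RepWith.mono (fun _ _ q (h : Etale q) => (inferInstance : LocallyOfFinitePresentation q)) (hae O))⟩,
      fun x => ?_⟩
    obtain ⟨x₀, hx₀⟩ := surjective_map_of_repWith hps x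
    obtain ⟨O, hO, hx, -⟩ := exists_isAffineOpen_mem_and_subset (X := U.left) (x := Points.toScheme U x₀) (U := ⊤) trivial
    refine ⟨⟨O, hO⟩, Points.ofScheme (oU (sA ⟨O, hO⟩)) (hO.isoSpec.hom ⟨Points.toScheme U x₀, hx⟩), ?_⟩
    rw [← Points.ofPt_eq_map_ofScheme, ofPt_map, ← hx₀, Points.ofPt_eq_map_ofScheme p]
    congr 1
    refine (congrArg (Points.ofScheme U) ?_).trans (Points.ofScheme_toScheme U x₀)
    have h1 : hO.isoSpec.hom ≫ hO.fromSpec = Scheme.Opens.ι O := hO.isoSpec_hom_fromSpec
    show (hO.isoSpec.hom ≫ hO.fromSpec) ⟨Points.toScheme U x₀, hx⟩ = Points.toScheme U x₀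
    rw [h1]
    rfl
  have hsq : ∀ O, ∃ (W : Over S) (w : W ⟶ oU (sA O)) (fst : (yon S).obj W ⟶ Y'.obj),
      IsPullback fst ((yon S).map w) ν.hom (a O) := fun O => by
    obtain ⟨W, w, fst, sq, -⟩ := exists_yon_of_repWith H.int (a O)
    exact ⟨W, w, fst, sq⟩
  choose W w fst sq using hsq
  refine (isLocalOnBase_fpqc_finite (fun O => (yon S).obj (oU (sA O))) a Y.property (fun O => IsAlgSpace.yon_obj _)
    hcov ν.hom Y'.property (fun O => (yon S).obj (W O)) (fun O => (yon S).map (w O)) fst
    (fun O => IsAlgSpace.yon_obj _) sq).2 fun O => ?_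
  let XT : Space S := ⟨pullback f.hom (a O),
    isAlgSpace_pullback (X := X) (Y := ⟨_, IsAlgSpace.yon_obj (oU (sA O))⟩) (Z := Y) f.hom (a O)⟩
  let k : XT.obj ⟶ (yon S).obj (W O) := (sq O).lift (pullback.fst f.hom (a O) ≫ f'.hom) (pullback.snd f.hom (a O))
    (by rw [Category.assoc, H.fac, pullback.condition])
  have H' : LocNorm (pullback.snd f.hom (a O)) ((yon S).map (w O)) k := H.baseChange (a O)
    (fun T b hb => RepWith.comp hb (RepWith.mono (fun _ _ q (h : Etale q) => (inferInstance : Smooth q)) (hae O)))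
    (sq O) (IsPullback.of_hasPullback _ _) ((sq O).lift_fst _ _ _) ((sq O).lift_snd _ _ _)
  obtain ⟨P, C, _, _, _, _, pV, e, φ, hφ, hint, hVe, -, hVf, -, he⟩ := exists_injChart (sA O) (Y := XT)
    (N := ⟨_, IsAlgSpace.yon_obj (W O)⟩)
    (isQuasiCompactMor_of_isPullback X.property Y.property (IsAlgSpace.yon_obj _) (IsPullback.of_hasPullback f.hom (a O)) hft.2)
    (isQuasiSeparatedMor_of_isPullback (IsPullback.of_hasPullback f.hom (a O)) hqs) H'
  have hcP : RepWith @Etale (pV ≫ pullback.fst f.hom (a O)) :=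
    RepWith.comp hVe (RepWith.baseChange (IsPullback.of_hasPullback f.hom (a O)).flip (hae O))
  haveI : _root_.IsReduced P := by
    haveI : IsReduced (Spec (CommRingCat.of P)) := isReduced_chart hX _ hcP
    exact affine_isReduced_iff (R := CommRingCat.of P) |>.1 inferInstance
  haveI : Algebra.FiniteType Γ(U.left, O.1) P := by
    have h := hft.1 (pV ≫ pullback.fst f.hom (a O)) (a O) (oStr (sA O) P) hcP (hae O)
      (by rw [Category.assoc, pullback.condition, ← Category.assoc, hVf])
    exact RingHom.finiteType_algebraMap.1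
      ((HasRingHomProperty.Spec_iff (P := @LocallyOfFiniteType)).1 h)
  haveI : IsNoetherianRing Γ(U.left, O.1) := (hN O.1 O.2).1
  haveI := CAlgH.finite_ic_of_isNagata (hN O.1 O.2) P
  haveI : Module.Finite Γ(U.left, O.1) C :=
    Module.Finite.of_injective (φ.toLinearMap.codRestrict (integralClosure Γ(U.left, O.1) P).toSubmodule
      fun x => (Algebra.IsIntegral.isIntegral x).map φ) fun x y h => hφ (congrArg Subtype.val h)
  rw [isFiniteMor_iff_repWith]
  refine he ▸ RepWith.comp (repWith_of_isIso _ _) ((repWith_yon_map_iff _ _).2 ?_)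
  show IsFinite (Spec.map _)
  rw [IsFinite.SpecMap_iff]
  exact RingHom.finite_algebraMap.2 inferInstance

end Groth.Agent.AlgSpLib
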