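import Groth.Agent.AlgSpLib.NoethDecent
import Groth.Agent.AlgSpLib.SchemeStage
import Groth.Agent.AlgSpLib.FieldDescent
import Groth.Agent.AlgSpLib.NormNagata
import Groth.Agent.AlgSpLib.ClosedSub
import Groth.Agent.S10049
import Groth.Agent.S10050
import Mathlib.RingTheory.Flat.TorsionFree

/-!
Algebraic spaces over Dedekind schemes which are schemes: generic fibre closure and closed fibres.
-/

universe u

open CategoryTheory CategoryTheory.Limits AlgebraicGeometry Opposite Topology TopologicalSpace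
open AlgSp

noncomputable section

set_option linter.style.haveILetI false

namespace Groth.Agent.AlgSpLib.DedScheme

open Groth.Agent.AlgSpLib SchStage

set_option backward.isDefEq.respectTransparency.types false
set_option backward.isDefEq.respectTransparency false

variable {S : Scheme.{u}}

theorem quasiCompact_of_immersion {R P : Scheme.{u}} (l : R ⟶ P) [IsImmersion l] [IsLocallyNoetherian P] :
    QuasiCompact l := by
  rw [← l.liftCoborder_ι]
  infer_instance

theorem isLocallyNoetherian_base [IsIntegral S]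
    (hD : ∀ U : S.affineOpens, Nonempty (U : S.Opens) → IsDedekindDomain Γ(S, U)) : IsLocallyNoetherian S := by
  refine ⟨fun U => ?_⟩
  by_cases h : Nonempty (U : S.Opens)
  · haveI := hD U h
    exact (hD U h).toIsDedekindRing.toIsNoetherian
  · have hbot : (U : S.Opens) = ⊥ := by
      ext x
      exact ⟨fun hx => absurd ⟨(⟨x, hx⟩ : ↥(U : S.Opens))⟩ h, fun hx => hx.elim⟩
    haveI : Subsingleton Γ(S, U) := by
      rw [hbot]
      exact CommRingCat.subsingleton_of_isTerminal S.sheaf.isTerminalOfEmpty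
    exact isNoetherianRing_iff_ideal_fg _ |>.2 fun I => ⟨∅, by rw [Finset.coe_empty, Ideal.span_empty]; exact Subsingleton.elim _ _⟩

/-- a point of a Dedekind scheme other than the generic one is closed -/
theorem isClosed_singleton_base [IsIntegral S]
    (hD : ∀ U : S.affineOpens, Nonempty (U : S.Opens) → IsDedekindDomain Γ(S, U)) {s : ↥S}
    (hs : s ≠ genericPoint ↥S) : IsClosed ({s} : Set ↥S) := by
  rw [← isOpen_compl_iff, isOpen_iff_forall_mem_open]
  intro x hx
  obtain ⟨U, hU, hxU, -⟩ := exists_isAffineOpen_mem_and_subset (X := S) (x := x) (U := ⊤) trivial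
  by_cases hsU : s ∈ U
  · haveI : Nonempty U := ⟨⟨s, hsU⟩⟩
    haveI := hD ⟨U, hU⟩ ⟨⟨s, hsU⟩⟩
    let p := hU.primeIdealOf ⟨s, hsU⟩
    have hps : hU.fromSpec p = s := hU.fromSpec_primeIdealOf _
    have hp0 : p.asIdeal ≠ ⊥ := by
      intro h
      apply hs
      have hg : genericPoint ↥S ∈ U := ((genericPoint_spec ↥S).mem_open_set_iff U.isOpen).2 ⟨s, trivial, hsU⟩
      refine hps.symm.trans ((congrArg (fun q => hU.fromSpec q) (?_ : p = hU.primeIdealOf ⟨genericPoint ↥S, hg⟩)).trans
        (hU.fromSpec_primeIdealOf ⟨genericPoint ↥S, hg⟩))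
      rw [hU.primeIdealOf_genericPoint, genericPoint_eq_bot_of_affine]
      exact PrimeSpectrum.ext h
    have hm : p.asIdeal.IsMaximal := p.2.isMaximal hp0
    refine ⟨(U : Set ↥S) \ {s}, fun y hy => hy.2, ?_, hxU, hx⟩
    have hc : IsClosed ({p} : Set ↥(Spec Γ(S, U))) := (PrimeSpectrum.isClosed_singleton_iff_isMaximal p).2 hm
    convert hU.fromSpec.isOpenEmbedding.isOpenMap _ hc.isOpen_compl using 1
    rw [Set.image_compl_eq_range_sdiff_image hU.fromSpec.isOpenEmbedding.injective, Set.image_singleton, hps]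
    congr 1
    exact (hU.range_fromSpec).symm
  · exact ⟨U, fun y hy h => hsU (h ▸ hy), U.isOpen, hxU⟩

theorem isLocNoethSp_of_pres [IsLocallyNoetherian S] {X : Sp S} {Y : Over S} (p : (yon S).obj Y ⟶ X)
    (hpe : RepWith @Etale p) (hps : RepWith @Surjective p) [LocallyOfFinitePresentation Y.hom] : IsLocNoethSp X :=
  ⟨Y, p, hpe, hps, LocallyOfFiniteType.isLocallyNoetherian Y.hom⟩

/-- locally separated spaces locally of finite presentation over a locally Noetherian base are quasi-separated -/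
theorem isQuasiSeparatedSp_of_locSep [IsLocallyNoetherian S] {X : Sp S} (hX : IsAlgSpace X)
    (hls : IsLocallySeparatedSp X) {Y : Over S} (p : (yon S).obj Y ⟶ X)
    (hp : RepWith @Etale p) (hs : RepWith @Surjective p) [LocallyOfFinitePresentation Y.hom] :
    IsQuasiSeparatedSp X := by
  obtain ⟨t, ht⟩ := (yon S).map_surjective (hp.1.fst p)
  let s : hp.1.pullback p ⟶ Y := hp.1.snd p
  have hR : IsPullback ((yon S).map t) ((yon S).map s) p p := ht ▸ hp.1.isPullback p
  haveI : Sheaf.IsLocallySurjective (prod.map p p) :=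
    isLocallySurjective_of_etale (repWith_prod_map hp hp) (repWith_prod_map hs hs)
  refine repWith_of_isLocallySurjective hX.diag (prod.map p p) (isPullback_diag_prod_map hR) _ ?_
  have h1 : RepWith @IsImmersion (prod.lift ((yon S).map t) ((yon S).map s)) :=
    RepWith.baseChange (isPullback_diag_prod_map hR) hls
  have e : prod.lift ((yon S).map t) ((yon S).map s) =
      (yon S).map (prod.lift t s) ≫ prodComparison (yon S) Y Y := by
    apply Limits.prod.hom_ext <;> simp [← Functor.map_comp, prod.lift_fst, prod.lift_snd]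
  rw [e] at h1
  haveI : IsImmersion (prod.lift t s).left := (repWith_yon_map_iff @IsImmersion _).1
    ((MorphismProperty.cancel_right_of_respectsIso (RepWith @IsImmersion) _ _).1 h1)
  refine repWith_prod_lift t s ?_
  have hl : pullback.lift t.left s.left ((Over.w t).trans (Over.w s).symm) =
      (prod.lift t s).left ≫ (Over.prodLeftIsoPullback Y Y).hom := by
    apply pullback.hom_ext
    · simp [← Over.comp_left, prod.lift_fst, pullback.lift_fst]
    · simp [← Over.comp_left, prod.lift_snd, pullback.lift_snd]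
  haveI : IsImmersion (pullback.lift t.left s.left ((Over.w t).trans (Over.w s).symm)) := hl ▸ inferInstance
  haveI := LocallyOfFiniteType.isLocallyNoetherian Y.hom
  exact quasiCompact_of_immersion _

/-- charts of immersed subspaces are locally Noetherian -/
theorem isLocallyNoetherian_chart_of_immersion {X Z : Sp S} (hN : IsLocNoethSp X) {i : Z ⟶ X}
    (hi : RepWith @IsImmersion i) {V : Over S} (a : (yon S).obj V ⟶ Z) (ha : RepWith @Etale a) :
    IsLocallyNoetherian V.left := by
  have hlft : RepWith @LocallyOfFiniteType (a ≫ i) :=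
    RepWith.comp (RepWith.mono (fun _ _ g (_ : Etale g) => (inferInstance : LocallyOfFiniteType g)) ha)
      (RepWith.mono (fun _ _ g (_ : IsImmersion g) => (inferInstance : LocallyOfFiniteType g)) hi)
  obtain ⟨Y, b, hbe, hbs, hY⟩ := hN
  obtain ⟨Q, q, fst, sq, hq⟩ := exists_yon_of_repWith hlft b
  obtain ⟨c, rfl⟩ := (yon S).map_surjective fst
  haveI := hY
  haveI : LocallyOfFiniteType q.left := hq
  haveI : Etale c.left := hbe.property _ _ _ sq.flip
  haveI : Surjective c.left := hbs.property _ _ _ sq.flip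
  haveI := LocallyOfFiniteType.isLocallyNoetherian q.left
  exact isLocallyNoetherian_of_surjective c.left

/-- all generic points of a chart of an irreducible space lie over one point of the base -/
theorem exists_common_generic [IsIntegral S] {Z : Sp S} (hZ : IrreducibleSpace (Points Z)) {V : Over S}
    (a : (yon S).obj V ⟶ Z) (ha : RepWith @Etale a) [NoetherianSpace ↥V.left] :
    ∃ s₀ : ↥S, ∀ x : ↥V.left, ∃ ξ : ↥V.left, ξ ⤳ x ∧ V.hom ξ = s₀ := by
  classical
  let G : Set ↥V.left := {η | ∃ T ∈ irreducibleComponents ↥V.left, IsGenericPoint η T}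
  have hG : ∀ x : ↥V.left, ∃ ξ ∈ G, ξ ⤳ x := fun x => by
    obtain ⟨η, hη⟩ := QuasiSober.sober (isIrreducible_irreducibleComponent (x := x))
      isClosed_irreducibleComponent
    exact ⟨η, ⟨_, irreducibleComponent_mem_irreducibleComponents x, hη⟩, hη.specializes mem_irreducibleComponent⟩
  have hfin : G.Finite :=
    ((NoetherianSpace.finite_irreducibleComponents (α := ↥V.left)).biUnion
      (t := fun T => {η | IsGenericPoint η T}) fun T _ => Set.Subsingleton.finite fun a ha b hb => ha.eq hb).subset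
      fun η hη => Set.mem_iUnion₂.2 (by obtain ⟨T, hT, h⟩ := hη; exact ⟨T, hT, h⟩)
  have hmax : ∀ ξ ∈ G, ∀ η ∈ G, η ⤳ ξ → η = ξ := by
    rintro ξ ⟨T, hT, hξ⟩ η ⟨T', hT', hη⟩ h
    have hsub : T ⊆ T' := hξ.def ▸ hη.def ▸ h.closure_subset
    have e : T = T' := hsub.antisymm (hT.2 hT'.1 hsub)
    exact hη.eq (e ▸ hξ)
  have hN : ∀ ξ ∈ G, ∃ N : Set ↥V.left, IsOpen N ∧ ξ ∈ N ∧ ∀ y ∈ N, ξ ⤳ y := fun ξ hξ => by
    refine ⟨(⋃ η ∈ G \ {ξ}, closure {η})ᶜ,
      ((hfin.subset Set.diff_subset).isClosed_biUnion fun _ _ => isClosed_closure).isOpen_compl, ?_, fun y hy => ?_⟩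
    · intro h
      obtain ⟨η, ⟨hηG, hne⟩, hη⟩ := Set.mem_iUnion₂.1 h
      exact hne (hmax ξ hξ η hηG (specializes_iff_mem_closure.2 hη))
    · obtain ⟨η, hηG, hη⟩ := hG y
      by_cases e : η = ξ
      · exact e ▸ hη
      · exact absurd (Set.mem_iUnion₂.2 ⟨η, ⟨hηG, e⟩, specializes_iff_mem_closure.1 hη⟩) hy
  have hspec : ∀ ξ ∈ G, ∀ η ∈ G, V.hom η ⤳ V.hom ξ := by
    intro ξ hξ η hη
    obtain ⟨N₁, h1o, h1m, h1⟩ := hN ξ hξ
    obtain ⟨N₂, h2o, h2m, h2⟩ := hN η hη
    have hop := isOpenMap_ofPt a ha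
    obtain ⟨w, -, ⟨y₁, hy₁, e₁⟩, hw₂⟩ := hZ.toPreirreducibleSpace.isPreirreducible_univ _ _ (hop _ h1o) (hop _ h2o)
      ⟨_, trivial, ⟨ξ, h1m, rfl⟩⟩ ⟨_, trivial, ⟨η, h2m, rfl⟩⟩
    -- the generic point of the first open maps into the image of the second
    have hmem : Points.ofPt a ξ ∈ Points.ofPt a '' N₂ := by
      have hcont : Continuous (Points.ofPt a) := by
        rw [show Points.ofPt a = Points.map a ∘ Points.ofScheme V from funext fun v => Points.ofPt_eq_map_ofScheme a v]
        exact (Points.continuous_map a).comp (Points.schemeHomeo V).continuous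
      have hw : Points.ofPt a y₁ ∈ Points.ofPt a '' N₂ := e₁ ▸ hw₂
      exact ((h1 y₁ hy₁).map hcont).mem_open (hop _ h2o) hw
    obtain ⟨x, hx, ex⟩ := hmem
    obtain ⟨c, hc⟩ := (yon S).map_surjective (ha.1.fst a)
    have sqR : IsPullback ((yon S).map c) ((yon S).map (ha.1.snd a)) a a := hc ▸ ha.1.isPullback a
    obtain ⟨r, hr1, hr2⟩ := (ofPt_eq_ofPt_iff sqR x ξ).1 ex
    have hh : V.hom x = V.hom ξ := by
      rw [← hr1, ← hr2, ← Scheme.Hom.comp_apply, ← Scheme.Hom.comp_apply, Over.w, Over.w]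
    exact hh ▸ (h2 x hx).map V.hom.continuous
  rcases isEmpty_or_nonempty ↥V.left with he | ⟨⟨x₀⟩⟩
  · exact ⟨genericPoint ↥S, fun x => isEmptyElim x⟩
  obtain ⟨ξ₀, hξ₀, -⟩ := hG x₀
  refine ⟨V.hom ξ₀, fun x => ?_⟩
  obtain ⟨ξ, hξ, hx⟩ := hG x
  exact ⟨ξ, hx, ((hspec ξ₀ hξ₀ ξ hξ).antisymm (hspec ξ hξ ξ₀ hξ₀)).eq⟩

/-- reduced schemes all of whose generic points lie over the generic point are flat over a Dedekind scheme -/
theorem flat_of_generic [IsIntegral S]
    (hD : ∀ U : S.affineOpens, Nonempty (U : S.Opens) → IsDedekindDomain Γ(S, U)) {V : Scheme.{u}} [IsReduced V]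
    (f : V ⟶ S) (h : ∀ x : ↥V, ∃ ξ : ↥V, ξ ⤳ x ∧ f ξ = genericPoint ↥S) : Flat f := by
  rw [HasRingHomProperty.iff_appLE (P := @Flat)]
  intro U W e
  rcases isEmpty_or_nonempty (W : V.Opens) with hW | ⟨⟨w, hw⟩⟩
  · haveI : Subsingleton Γ(V, W) := by
      haveI := hW
      have hbot : (W : V.Opens) = ⊥ := by
        ext x
        exact ⟨fun hx => (hW.false ⟨x, hx⟩).elim, fun hx => hx.elim⟩
      rw [hbot]
      exact CommRingCat.subsingleton_of_isTerminal V.sheaf.isTerminalOfEmpty
    let φ := (f.appLE U W e).hom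
    letI := φ.toAlgebra
    exact (inferInstance : Module.Flat Γ(S, U) Γ(V, W))
  haveI hUne : Nonempty (U : S.Opens) := ⟨⟨f w, e hw⟩⟩
  haveI := hD U hUne
  let φ := (f.appLE U W e).hom
  letI := φ.toAlgebra
  refine IsDedekindDomain.flat_iff_torsion_eq_bot.2 (le_bot_iff.1 fun m hm => ?_)
  obtain ⟨⟨r, hr⟩, hrm⟩ := hm
  have hr0 : r ≠ 0 := nonZeroDivisors.ne_zero hr
  have hrm' : φ r * m = 0 := hrm
  haveI : Nonempty ↥(S.basicOpen r) := by
    by_contra hn
    refine hr0 ((basicOpen_eq_bot_iff r).1 ?_)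
    ext x
    exact ⟨fun hx => absurd ⟨(⟨x, hx⟩ : ↥(S.basicOpen r))⟩ hn, fun hx => hx.elim⟩
  refine (Submodule.mem_bot _).2 ((basicOpen_eq_bot_iff m).1 ?_)
  by_contra hne
  obtain ⟨x, hx⟩ : ∃ x, x ∈ V.basicOpen m := by
    by_contra hn
    exact hne (Opens.ext (Set.eq_empty_of_forall_notMem fun x hx => hn ⟨x, hx⟩))
  obtain ⟨ξ, hξx, hξ⟩ := h x
  have hξm : ξ ∈ V.basicOpen m := hξx.mem_open (V.basicOpen m).isOpen hx
  have hξr : ξ ∈ V.basicOpen (φ r) := by
    rw [show V.basicOpen (φ r) = W.1 ⊓ f ⁻¹ᵁ S.basicOpen r from Scheme.basicOpen_appLE f W.1 U.1 e r]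
    refine ⟨V.basicOpen_le m hξm, ?_⟩
    show f ξ ∈ S.basicOpen r
    rw [hξ]
    obtain ⟨⟨y, hy⟩⟩ := (inferInstance : Nonempty ↥(S.basicOpen r))
    exact ((genericPoint_spec ↥S).mem_open_set_iff (S.basicOpen r).isOpen).2 ⟨y, trivial, hy⟩
  have : ξ ∈ V.basicOpen (φ r * m) := by
    rw [Scheme.basicOpen_mul]
    exact ⟨hξr, hξm⟩
  rw [hrm', Scheme.basicOpen_zero] at this
  exact this.elim

/-- a subspace whose chart factors through a representable subobject is representable -/
theorem isRepresentable_of_factors {X Z W : Sp S} {i : Z ⟶ X} (hi : RepWith @IsImmersion i) {j : W ⟶ X} [Mono j]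
    (hW : W.obj.IsRepresentable) {V : Over S} (a : (yon S).obj V ⟶ Z) (hae : RepWith @Etale a)
    (has : RepWith @Surjective a) {l : (yon S).obj V ⟶ W} (hl : l ≫ j = a ≫ i) : Z.obj.IsRepresentable := by
  have sq := IsPullback.of_hasPullback j i
  haveI : Epi a := epi_of_etale_surjective hae has
  have e : sq.lift l a hl ≫ pullback.snd j i = a := sq.lift_snd _ _ _
  haveI : Epi (sq.lift l a hl ≫ pullback.snd j i) := by rw [e]; infer_instance
  haveI : Epi (pullback.snd j i) := epi_of_epi (sq.lift l a hl) _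
  haveI : IsIso (pullback.snd j i) := isIso_of_mono_of_epi _
  obtain ⟨T, ⟨eT⟩⟩ := exists_iso_yon_of_isRepresentable hW
  obtain ⟨Q, ⟨eQ⟩⟩ := exists_iso_yon_of_representable (RepWith.baseChange sq.flip hi).1 eT
  exact isRepresentable_of_iso_yon (F := Z) (eQ ≪≫ asIso (pullback.snd j i))

/-- **spaces over Dedekind schemes**: flat closure of the generic fibre and closed fibres representable -/
theorem main [IsIntegral S] (hD : ∀ U : S.affineOpens, Nonempty (U : S.Opens) → IsDedekindDomain Γ(S, U))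
    (X : Sp S) (hX : IsAlgSpace X) (hls : IsLocallySeparatedSp X)
    {Y : Over S} (p : (yon S).obj Y ⟶ X) (hpe : RepWith @Etale p) (hps : RepWith @Surjective p)
    [LocallyOfFinitePresentation Y.hom]
    {Xb : Over S} (j : (yon S).obj Xb ⟶ X) [Mono j]
    (hj : ∀ (T : Over S), Flat T.hom → ∀ a : (yon S).obj T ⟶ X, ∃ b : T ⟶ Xb, (yon S).map b ≫ j = a)
    (hfib : ∀ s : ↥S, IsClosed ({s} : Set ↥S) → ∃ C : Over S, Mono C.hom ∧ IsClosedImmersion C.hom ∧
      Set.range C.hom = {s} ∧ (X ⨯ (yon S).obj C).obj.IsRepresentable) :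
    X.obj.IsRepresentable := by
  classical
  haveI := isLocallyNoetherian_base hD
  have hqs := isQuasiSeparatedSp_of_locSep hX hls p hpe hps
  have hN := isLocNoethSp_of_pres p hpe hps
  let Xs : AlgSp.Space S := ⟨X, hX⟩
  choose U u hu hUc hUs hxu using FieldDescent.exists_qc_pieces Xs hqs
  have hUrep : ∀ x, (U x).obj.obj.IsRepresentable := fun x => by
    by_contra hn
    obtain ⟨Z, i, hi, hZn, hZmin⟩ := Groth.Agent.S10049.result S (U x) (hUc x) (hUs x) hn
    have hZc : IsQuasiCompactSp Z.obj :=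
      OpenFac.isQuasiCompactSp_of_affine (U x).property (isAffineMor_of_closedImmersion hi) (hUc x)
    have hZs : IsQuasiSeparatedSp Z.obj :=
      VCart.isQuasiSeparatedSp_of_affineMor (isAffineMor_of_closedImmersion hi) (hUs x)
    obtain ⟨hZr, hZi⟩ := Groth.Agent.S10050.result S Z hZc hZs hZn hZmin
    refine hZn ?_
    let k : Z.obj ⟶ X := i.hom ≫ (u x).hom
    have hk : RepWith @IsImmersion k := RepWith.comp
      (RepWith.mono (fun _ _ g (_ : IsClosedImmersion g) => (inferInstance : IsImmersion g)) hi)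
      (RepWith.mono (fun _ _ g (_ : IsOpenImmersion g) => (inferInstance : IsImmersion g)) (hu x))
    haveI := compactSpace_points_of_isQuasiCompactSp hZc
    obtain ⟨V, a, hV, hae, has⟩ := exists_affine_chart Z.property
    haveI := hV
    haveI := isReduced_chart hZr a hae
    haveI := isLocallyNoetherian_chart_of_immersion hN hk a hae
    haveI : IsNoetherian V.left := ⟨⟩
    obtain ⟨s₀, hs₀⟩ := exists_common_generic hZi a hae
    by_cases hgen : s₀ = genericPoint ↥S
    · haveI : Flat V.hom := flat_of_generic hD V.hom fun y => hgen ▸ hs₀ y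
      obtain ⟨b, hb⟩ := hj V inferInstance (a ≫ k)
      exact isRepresentable_of_factors hk (isRepresentable_of_iso_yon (Iso.refl _)) a hae has hb
    · have hcl := isClosed_singleton_base hD hgen
      obtain ⟨C, hCm, hCc, hCr, hXC⟩ := hfib s₀ hcl
      haveI := hCm
      haveI := hCc
      let q := pullback.fst V.hom C.hom
      haveI : Surjective q := ⟨fun y => by
        obtain ⟨ξ, hξ, hξs⟩ := hs₀ y
        have hy : V.hom y ∈ Set.range C.hom := by
          rw [hCr]
          exact (hξs ▸ hξ.map V.hom.continuous).mem_closed hcl rfl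
        obtain ⟨c, hc⟩ := hy
        obtain ⟨z, hz, -⟩ := Scheme.Pullback.exists_preimage_pullback y c hc.symm
        exact ⟨z, hz⟩⟩
      haveI : IsIso q := isIso_of_isClosedImmersion_of_surjective q
      let φ : V ⟶ C := Over.homMk (inv q ≫ pullback.snd V.hom C.hom) (by
        rw [Category.assoc, ← pullback.condition, IsIso.inv_hom_id_assoc])
      haveI : Mono ((yon S).map (Over.homMk C.hom (Category.comp_id _) : C ⟶ Over.mk (𝟙 S))) := by
        haveI : Mono (Over.homMk C.hom (Category.comp_id _) : C ⟶ Over.mk (𝟙 S)).left := hCm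
        haveI : Mono (Over.homMk C.hom (Category.comp_id _) : C ⟶ Over.mk (𝟙 S)) := (Over.forget S).mono_of_mono_map this
        infer_instance
      haveI : Mono (prod.fst : X ⨯ (yon S).obj C ⟶ X) := ⟨fun {T} g h e => by
        refine Limits.prod.hom_ext e ?_
        rw [← cancel_mono ((yon S).map (Over.homMk C.hom (Category.comp_id _) : C ⟶ Over.mk (𝟙 S)))]
        exact (isTerminal_yon_base S).some.hom_ext _ _⟩
      exact isRepresentable_of_factors hk hXC a hae has (l := prod.lift (a ≫ k) ((yon S).map φ)) (prod.lift_fst _ _)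
  choose T eT using fun x => exists_iso_yon_of_isRepresentable (hUrep x)
  obtain ⟨G, ⟨eG⟩⟩ := exists_iso_yon_of_openCover
    (f := fun v : ↥Y.left => (eT (Points.ofPt p v)).some.hom ≫ (u (Points.ofPt p v)).hom)
    (fun v => RepWith.comp (repWith_of_isIso (P := @IsOpenImmersion) _) (hu _)) fun z => by
      obtain ⟨v, rfl⟩ := surjective_ofPt p hps z
      obtain ⟨w, hw⟩ := hxu (Points.ofPt p v)
      refine ⟨v, Points.map (eT _).some.inv w, ?_⟩
      rw [← Points.map_comp, Iso.inv_hom_id_assoc]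
      exact hw
  exact isRepresentable_of_iso_yon (F := X) eG

/-- the residue point of a closed point as a closed subscheme -/
theorem closed_point_sub {s : ↥S} (hs : IsClosed ({s} : Set ↥S)) :
    ∀ n : ℕ, n = 0 →
      IsClosedImmersion (Spec.map (CommRingCat.ofHom
        (Ideal.Quotient.mk (IsLocalRing.maximalIdeal ↑(S.presheaf.stalk s) ^ (n + 1)))) ≫ S.fromSpecStalk s) ∧
      Set.range (Spec.map (CommRingCat.ofHom
        (Ideal.Quotient.mk (IsLocalRing.maximalIdeal ↑(S.presheaf.stalk s) ^ (n + 1)))) ≫ S.fromSpecStalk s) = {s} := by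
  rintro n rfl
  set f := CommRingCat.ofHom (Ideal.Quotient.mk (IsLocalRing.maximalIdeal ↑(S.presheaf.stalk s) ^ (0 + 1)))
  haveI : IsClosedImmersion (Spec.map f) := IsClosedImmersion.spec_of_surjective _ Ideal.Quotient.mk_surjective
  have hpt : ∀ x, (Spec.map f ≫ S.fromSpecStalk s) x = s := fun x => by
    have hx : Spec.map f x = IsLocalRing.closedPoint _ := by
      refine PrimeSpectrum.ext ((IsLocalRing.maximalIdeal.isMaximal _).eq_of_le (PrimeSpectrum.isPrime _).ne_top ?_).symm
      intro r hr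
      show Ideal.Quotient.mk _ r ∈ x.asIdeal
      rw [Ideal.Quotient.eq_zero_iff_mem.2 (by rwa [zero_add, pow_one])]
      exact x.asIdeal.zero_mem
    rw [Scheme.Hom.comp_apply, hx]
    exact Scheme.fromSpecStalk_closedPoint
  have hne : Nonempty ↥(Spec (CommRingCat.of (↑(S.presheaf.stalk s) ⧸ IsLocalRing.maximalIdeal ↑(S.presheaf.stalk s) ^ (0 + 1)))) := by
    haveI : Nontrivial (↑(S.presheaf.stalk s) ⧸ IsLocalRing.maximalIdeal ↑(S.presheaf.stalk s) ^ (0 + 1)) :=
      Ideal.Quotient.nontrivial_iff.2 (by rw [zero_add, pow_one]; exact Ideal.IsPrime.ne_top inferInstance)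
    exact inferInstanceAs (Nonempty (PrimeSpectrum _))
  have hr : Set.range (Spec.map f ≫ S.fromSpecStalk s) = {s} := by
    ext y
    exact ⟨fun ⟨x, hx⟩ => hx ▸ hpt x, fun hy => ⟨hne.some, (hpt _).trans hy.symm⟩⟩
  exact ⟨IsClosedImmersion.of_isPreimmersion _ (hr ▸ hs), hr⟩

end Groth.Agent.AlgSpLib.DedScheme
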