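import Groth.Agent.AlgSpLib.ThickFibre
import Groth.Agent.AlgSpLib.FibreDimChart
import Groth.Agent.AlgSpLib.EtLocalInst
import Groth.Agent.FlatMor12.FibreFlat
import Mathlib.AlgebraicGeometry.Morphisms.SmoothFiber

/-!
Properties of morphisms over a thickening which are read on the fibres.
-/

universe u

open CategoryTheory CategoryTheory.Limits AlgebraicGeometry Topology
open AlgSp

noncomputable section

namespace Groth.Agent.AlgSpLib

set_option backward.isDefEq.respectTransparency.types false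

section Sch

variable {U V U₀ V₀ : Scheme.{u}} {jU : U₀ ⟶ U} {h₀ : U₀ ⟶ V₀} {h : U ⟶ V} {jV : V₀ ⟶ V}

/-- the fibres are those of the base change by a thickening -/
theorem fiber_of_thick {P : MorphismProperty Scheme.{u}} [P.IsStableUnderBaseChange]
    (sq : IsPullback jU h₀ h jV) [IsClosedImmersion jV] [Surjective jV] (hP : P h₀) (v : V) :
    P (h.fiberToSpecResidueField v) := by
  obtain ⟨v₀, rfl⟩ := jV.surjective v
  let i := V.fromSpecResidueField (jV v₀)
  have : IsIso (pullback.snd jV i) := isIso_of_isClosedImmersion_of_surjective _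
  let i₀ := inv (pullback.snd jV i) ≫ pullback.fst jV i
  have e : i₀ ≫ jV = i := by simp [i₀, pullback.condition]
  let l := sq.lift (pullback.fst h i) (pullback.snd h i ≫ i₀) (by
    rw [pullback.condition, Category.assoc, e])
  have big : IsPullback (pullback.fst h i) (pullback.snd h i) h (i₀ ≫ jV) := e ▸ IsPullback.of_hasPullback h i
  have : IsPullback l (pullback.snd h i) h₀ i₀ :=
    IsPullback.of_right (h₁₂ := jU) (by rw [sq.lift_fst]; exact big) (sq.lift_snd _ _ _) sq
  exact MorphismProperty.of_isPullback this hP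

theorem lqf_of_thick (sq : IsPullback jU h₀ h jV) [IsClosedImmersion jV] [Surjective jV]
    [LocallyQuasiFinite h₀] : LocallyQuasiFinite h :=
  .of_fiberToSpecResidueField h (fiber_of_thick sq ‹_›)

theorem unramified_of_thick (sq : IsPullback jU h₀ h jV) [IsClosedImmersion jV] [Surjective jV]
    [LocallyOfFiniteType h] [FormallyUnramified h₀] : FormallyUnramified h :=
  FlatMor12.formallyUnramified_of_fibres h (fiber_of_thick sq ‹_›)

theorem smooth_of_thick (sq : IsPullback jU h₀ h jV) [IsClosedImmersion jV] [Surjective jV]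
    [LocallyOfFinitePresentation h] [Flat h] [Smooth h₀] : Smooth h :=
  .of_smooth_fiberToSpecResidueField h (fiber_of_thick sq ‹_›)

theorem etale_of_thick (sq : IsPullback jU h₀ h jV) [IsClosedImmersion jV] [Surjective jV]
    [LocallyOfFinitePresentation h] [Flat h] [Etale h₀] : Etale h :=
  have := unramified_of_thick sq
  Etale.of_formallyUnramified_of_flat h

theorem fibreDimAt_of_thick (sq : IsPullback jU h₀ h jV) [IsClosedImmersion jV] [Surjective jV] (u₀ : U₀) :
    FlatMor.fibreDimAt h (jU u₀) = FlatMor.fibreDimAt h₀ u₀ := by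
  have : IsClosedImmersion jU := MorphismProperty.of_isPullback sq.flip ‹IsClosedImmersion jV›
  have : Surjective jU := MorphismProperty.of_isPullback sq.flip ‹Surjective jV›
  let φ := (isHomeomorph_iff_isEmbedding_surjective.2 ⟨jU.isEmbedding, jU.surjective⟩).homeomorph
  refine fibreDimAt_eq_of_square jU jV sq.w φ.isOpenMap φ.isOpenEmbedding.generalizingMap
    (fun a a' _ he => jU.isEmbedding.injective he) (fun v => ⟨Set.univ, isOpen_univ, trivial, fun n _ he =>
      jV.isEmbedding.injective he⟩) u₀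

end Sch

variable {S : Scheme.{u}}

/-- charts of a morphism and of its reduction -/
structure ThickChart {X X' Y Y' : Sp S} (iX : X ⟶ X') (iY : Y ⟶ Y') (f : X ⟶ Y) (f' : X' ⟶ Y') where
  U : Over S
  V : Over S
  U₀ : Over S
  V₀ : Over S
  a : (yon S).obj U ⟶ X'
  b : (yon S).obj V ⟶ Y'
  a₀ : (yon S).obj U₀ ⟶ X
  b₀ : (yon S).obj V₀ ⟶ Y
  h : U ⟶ V
  h₀ : U₀ ⟶ V₀
  jU : U₀ ⟶ U
  jV : V₀ ⟶ V
  a_etale : RepWith @Etale a
  a_surj : RepWith @Surjective a
  b_etale : RepWith @Etale b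
  b_surj : RepWith @Surjective b
  a₀_etale : RepWith @Etale a₀
  a₀_surj : RepWith @Surjective a₀
  b₀_etale : RepWith @Etale b₀
  b₀_surj : RepWith @Surjective b₀
  w : a ≫ f' = (yon S).map h ≫ b
  w₀ : a₀ ≫ f = (yon S).map h₀ ≫ b₀
  wX : a₀ ≫ iX = (yon S).map jU ≫ a
  sq : IsPullback jU.left h₀.left h.left jV.left
  thick_jV : thick jV.left
  thick_jU : thick jU.left

theorem exists_thickChart {X X' Y Y' : Sp S} {iX : X ⟶ X'} {iY : Y ⟶ Y'} {f : X ⟶ Y} {f' : X' ⟶ Y'}
    (sq : IsPullback iX f f' iY) (hi : IsThickMor iY) {U V : Over S}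
    (a : (yon S).obj U ⟶ X') (b : (yon S).obj V ⟶ Y') (h : U ⟶ V)
    (hae : RepWith @Etale a) (has : RepWith @Surjective a) (hbe : RepWith @Etale b)
    (hbs : RepWith @Surjective b) (w : a ≫ f' = (yon S).map h ≫ b) :
    ∃ D : ThickChart iX iY f f', D.U = U ∧ D.V = V := by
  have hiX : RepWith thick iX := RepWith.baseChange sq.flip hi
  have sV := hi.rep.isPullback b
  have sU := hiX.rep.isPullback a
  let V₀ := hi.rep.pullback b
  let U₀ := hiX.rep.pullback a
  obtain ⟨h₀, hh1, hh2⟩ : ∃ h₀ : U₀ ⟶ V₀, (yon S).map h₀ ≫ hi.rep.fst b = hiX.rep.fst a ≫ f ∧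
      h₀ ≫ hi.rep.snd b = hiX.rep.snd a ≫ h := by
    obtain ⟨h₀, h0⟩ := (yon S).map_surjective (sV.lift (hiX.rep.fst a ≫ f) ((yon S).map (hiX.rep.snd a ≫ h))
      (by rw [Category.assoc, ← sq.w, ← Category.assoc, sU.w, Category.assoc, w, Functor.map_comp,
        Category.assoc]))
    refine ⟨h₀, by rw [h0, sV.lift_fst], (yon S).map_injective ?_⟩
    rw [Functor.map_comp, h0, sV.lift_snd]
  have hh2' : (yon S).map h₀ ≫ (yon S).map (hi.rep.snd b) = (yon S).map (hiX.rep.snd a) ≫ (yon S).map h := by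
    rw [← Functor.map_comp, hh2, Functor.map_comp]
  have key : IsPullback ((yon S).map (hiX.rep.snd a)) ((yon S).map h₀) ((yon S).map h)
      ((yon S).map (hi.rep.snd b)) := by
    have big : IsPullback ((yon S).map (hiX.rep.snd a)) (hiX.rep.fst a ≫ f) (a ≫ f') iY :=
      sU.flip.paste_vert sq
    rw [← hh1, w] at big
    exact IsPullback.of_bot big hh2'.symm sV.flip
  refine ⟨{ U := U, V := V, U₀ := U₀, V₀ := V₀, a := a, b := b, a₀ := hiX.rep.fst a, b₀ := hi.rep.fst b,
            h := h, h₀ := h₀, jU := hiX.rep.snd a, jV := hi.rep.snd b, a_etale := hae, a_surj := has,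
            b_etale := hbe, b_surj := hbs, a₀_etale := RepWith.baseChange sU.flip hae,
            a₀_surj := RepWith.baseChange sU.flip has, b₀_etale := RepWith.baseChange sV.flip hbe,
            b₀_surj := RepWith.baseChange sV.flip hbs, w := w, w₀ := hh1.symm, wX := sU.w,
            sq := (IsPullback.of_map (yon S) ((yon S).map_injective (by simpa using key.w)) key).map (Over.forget S)
            thick_jV := hi.property_snd b, thick_jU := hiX.property_snd a }, rfl, rfl⟩

theorem exists_thickChart' {X X' Y Y' B B' : Sp S} {iX : X ⟶ X'} {iY : Y ⟶ Y'} {iB : B ⟶ B'}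
    {f : X ⟶ Y} {f' : X' ⟶ Y'} {g : Y ⟶ B} {g' : Y' ⟶ B'} (hcX : IsPullback iX (f ≫ g) (f' ≫ g') iB)
    (hcY : IsPullback iY g g' iB) (w : iX ≫ f' = f ≫ iY) (hi : IsThickMor iB) (C : Charts f' g') :
    ∃ D : ThickChart iX iY f f', D.U = C.U ∧ D.V = C.V :=
  exists_thickChart (IsPullback.of_bot hcX w hcY) (RepWith.baseChange hcY.flip hi) C.a C.b C.h C.a_etale
    C.a_surj C.b_etale C.b_surj C.wf

variable {X X' Y Y' : Sp S} {iX : X ⟶ X'} {iY : Y ⟶ Y'} {f : X ⟶ Y} {f' : X' ⟶ Y'}

theorem ThickChart.locP_iff (D : ThickChart iX iY f f') {P : MorphismProperty Scheme.{u}} (hP : EtLocal P)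
    (hX : IsAlgSpace X) (hX' : IsAlgSpace X') :
    (LocP P f ↔ P D.h₀.left) ∧ (LocP P f' ↔ P D.h.left) :=
  ⟨⟨fun hf => hf D.a₀ D.b₀ D.h₀ D.a₀_etale D.b₀_etale D.w₀,
      fun h => locP_of_chart_square hP hX D.a₀ D.a₀_etale D.a₀_surj D.b₀ D.b₀_etale D.h₀ h D.w₀⟩,
    ⟨fun hf => hf D.a D.b D.h D.a_etale D.b_etale D.w,
      fun h => locP_of_chart_square hP hX' D.a D.a_etale D.a_surj D.b D.b_etale D.h h D.w⟩⟩

theorem ThickChart.fibreDim_iff (D : ThickChart iX iY f f') (hX : IsAlgSpace X) (hX' : IsAlgSpace X')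
    (hY : IsAlgSpace Y) (hY' : IsAlgSpace Y') (d : WithBot ℕ∞) :
    (∀ x, HasAtMor (fun _ _ h u => FlatMor.fibreDimAt h u = d) f x) ↔
      ∀ x', HasAtMor (fun _ _ h u => FlatMor.fibreDimAt h u = d) f' x' := by
  have : IsClosedImmersion D.jV.left := D.thick_jV.1
  have : Surjective D.jV.left := D.thick_jV.2
  have : Surjective D.jU.left := D.thick_jU.2
  constructor
  · intro H x'
    obtain ⟨u, rfl⟩ := surjective_ofPt D.a D.a_surj x'
    obtain ⟨u₀, rfl⟩ := D.jU.left.surjective u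
    rw [hasAtMor_fibreDim_iff hX' hY' f' D.a D.b D.h D.a_etale D.b_etale D.w, fibreDimAt_of_thick D.sq]
    exact (hasAtMor_fibreDim_iff hX hY f D.a₀ D.b₀ D.h₀ D.a₀_etale D.b₀_etale D.w₀ _ _).1 (H _)
  · intro H x
    obtain ⟨u₀, rfl⟩ := surjective_ofPt D.a₀ D.a₀_surj x
    rw [hasAtMor_fibreDim_iff hX hY f D.a₀ D.b₀ D.h₀ D.a₀_etale D.b₀_etale D.w₀, ← fibreDimAt_of_thick D.sq]
    exact (hasAtMor_fibreDim_iff hX' hY' f' D.a D.b D.h D.a_etale D.b_etale D.w _ _).1 (H _)

theorem ThickChart.lqf_iff (D : ThickChart iX iY f f') (hX : IsAlgSpace X) (hX' : IsAlgSpace X')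
    (hft : LocP (@LocallyQuasiFinite ⊓ @LocallyOfFiniteType) f → LocP @LocallyOfFiniteType f') :
    LocP (@LocallyQuasiFinite ⊓ @LocallyOfFiniteType) f ↔
      LocP (@LocallyQuasiFinite ⊓ @LocallyOfFiniteType) f' := by
  rw [(D.locP_iff etLocal_lqf hX hX').1, (D.locP_iff etLocal_lqf hX hX').2]
  have : IsClosedImmersion D.jV.left := D.thick_jV.1
  have : Surjective D.jV.left := D.thick_jV.2
  refine ⟨fun h => ?_, fun h => ⟨MorphismProperty.of_isPullback D.sq h.1, MorphismProperty.of_isPullback D.sq h.2⟩⟩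
  have hl : LocallyOfFiniteType D.h.left :=
    (D.locP_iff etLocal_lft hX hX').2.1 (hft ((D.locP_iff etLocal_lqf hX hX').1.2 h))
  have : LocallyQuasiFinite D.h₀.left := h.1
  exact ⟨lqf_of_thick D.sq, hl⟩

theorem ThickChart.unramified_iff (D : ThickChart iX iY f f') (hX : IsAlgSpace X) (hX' : IsAlgSpace X')
    (hft : LocP (@LocallyOfFiniteType ⊓ @FormallyUnramified) f → LocP @LocallyOfFiniteType f') :
    LocP (@LocallyOfFiniteType ⊓ @FormallyUnramified) f ↔
      LocP (@LocallyOfFiniteType ⊓ @FormallyUnramified) f' := by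
  rw [(D.locP_iff etLocal_unramified hX hX').1, (D.locP_iff etLocal_unramified hX hX').2]
  have : IsClosedImmersion D.jV.left := D.thick_jV.1
  have : Surjective D.jV.left := D.thick_jV.2
  refine ⟨fun h => ?_, fun h => ⟨MorphismProperty.of_isPullback D.sq h.1, MorphismProperty.of_isPullback D.sq h.2⟩⟩
  have hl : LocallyOfFiniteType D.h.left :=
    (D.locP_iff etLocal_lft hX hX').2.1 (hft ((D.locP_iff etLocal_unramified hX hX').1.2 h))
  have : FormallyUnramified D.h₀.left := h.2
  exact ⟨hl, unramified_of_thick D.sq⟩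

theorem ThickChart.smooth_etale_iff (D : ThickChart iX iY f f') (hX : IsAlgSpace X) (hX' : IsAlgSpace X')
    (hY : IsAlgSpace Y) (hY' : IsAlgSpace Y')
    (hfp : LocP @LocallyOfFinitePresentation f → LocP @LocallyOfFinitePresentation f')
    (hflat : LocP @Flat f → LocP @Flat f') :
    (LocP @Smooth f ↔ LocP @Smooth f') ∧ (IsEtaleMor f ↔ IsEtaleMor f') := by
  rw [isEtaleMor_iff_locP etLocal_etale hX hY, isEtaleMor_iff_locP etLocal_etale hX' hY',
    (D.locP_iff etLocal_smooth hX hX').1, (D.locP_iff etLocal_smooth hX hX').2,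
    (D.locP_iff etLocal_etale hX hX').1, (D.locP_iff etLocal_etale hX hX').2]
  have : IsClosedImmersion D.jV.left := D.thick_jV.1
  have : Surjective D.jV.left := D.thick_jV.2
  have base : LocallyOfFinitePresentation D.h₀.left → Flat D.h₀.left →
      LocallyOfFinitePresentation D.h.left ∧ Flat D.h.left := fun h1 h2 =>
    ⟨(D.locP_iff etLocal_lfp hX hX').2.1 (hfp ((D.locP_iff etLocal_lfp hX hX').1.2 h1)),
      (D.locP_iff etLocal_flat hX hX').2.1 (hflat ((D.locP_iff etLocal_flat hX hX').1.2 h2))⟩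
  refine ⟨⟨fun h => ?_, fun h => MorphismProperty.of_isPullback D.sq h⟩,
    ⟨fun h => ?_, fun h => MorphismProperty.of_isPullback D.sq h⟩⟩ <;>
    obtain ⟨_, _⟩ := base inferInstance inferInstance
  · exact smooth_of_thick D.sq
  · exact etale_of_thick D.sq

theorem ThickChart.of_base_change (D : ThickChart iX iY f f') {P : MorphismProperty Scheme.{u}}
    (hP : EtLocal P) (hX : IsAlgSpace X) (hX' : IsAlgSpace X') (h : LocP P f') : LocP P f :=
  have := hP.bc
  (D.locP_iff hP hX hX').1.2 (MorphismProperty.of_isPullback D.sq ((D.locP_iff hP hX hX').2.1 h))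

end Groth.Agent.AlgSpLib
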