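import Groth.Agent.AlgSpLib.ThickNilp
import Groth.Agent.AlgSpLib.DeformProps
import Groth.Agent.FSchLib.Thickening
import Mathlib.RingTheory.Smooth.Quotient

/-!
Finiteness properties of morphisms over a finite order thickening.
-/

universe u

open CategoryTheory CategoryTheory.Limits AlgebraicGeometry
open AlgSp

noncomputable section

namespace Groth.Agent.AlgSpLib

set_option backward.isDefEq.respectTransparency.types false

theorem finitePresentation_of_flat_nilp {R T M : Type u} [CommRing R] [CommRing T] [CommRing M] (φ : R →+* T)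
    (ψ : T →+* M) (I : Ideal R) (hI : IsNilpotent I) (h₁ : (ψ.comp φ).Flat) (hft : ψ.FiniteType)
    (h₂ : (Ideal.quotientMap (I.map (ψ.comp φ)) ψ (I := I.map φ)
      (by rw [← Ideal.map_map]; exact Ideal.le_comap_map)).FinitePresentation) : ψ.FinitePresentation := by
  classical
  algebraize [φ, ψ, ψ.comp φ]
  obtain ⟨n, g, hg⟩ := Algebra.FiniteType.iff_quotient_mvPolynomial''.1 (‹Algebra.FiniteType T M›)
  let J := I.map φ
  let q := Ideal.quotientMap (I.map (ψ.comp φ)) ψ (I := J) (by rw [← Ideal.map_map]; exact Ideal.le_comap_map)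
  let := q.toAlgebra
  have : Algebra.FinitePresentation (T ⧸ J) (M ⧸ I.map (ψ.comp φ)) := h₂
  let π : MvPolynomial (Fin n) T →+* MvPolynomial (Fin n) (T ⧸ J) := MvPolynomial.map (Ideal.Quotient.mk J)
  have hπ : Function.Surjective π := MvPolynomial.map_surjective _ Ideal.Quotient.mk_surjective
  let g₀ : MvPolynomial (Fin n) (T ⧸ J) →ₐ[T ⧸ J] M ⧸ I.map (ψ.comp φ) :=
    MvPolynomial.aeval fun i => Ideal.Quotient.mk _ (g (MvPolynomial.X i))
  have hc : ∀ p, g₀ (π p) = Ideal.Quotient.mk _ (g p) := by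
    intro p
    refine DFunLike.congr_fun (MvPolynomial.ringHom_ext (f := g₀.toRingHom.comp π)
      (g := (Ideal.Quotient.mk _).comp g.toRingHom) (fun r => ?_) fun i => ?_) p
    · simp [π, g₀, RingHom.algebraMap_toAlgebra, q, Ideal.quotientMap_mk]
    · simp [π, g₀]
  have hg₀ : Function.Surjective g₀ := fun y => by
    obtain ⟨m, rfl⟩ := Ideal.Quotient.mk_surjective y
    obtain ⟨p, rfl⟩ := hg m
    exact ⟨π p, hc p⟩
  let IP : Ideal (MvPolynomial (Fin n) T) := I.map (algebraMap R (MvPolynomial (Fin n) T))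
  have hgIP : IP.map g.toRingHom = I.map (ψ.comp φ) := by
    rw [Ideal.map_map]
    congr 1
    exact RingHom.ext fun r => (g.restrictScalars R).commutes r
  have hkπ : RingHom.ker π = IP := by
    rw [MvPolynomial.ker_map, Ideal.mk_ker]
    show (I.map φ).map MvPolynomial.C = _
    rw [Ideal.map_map]
    rfl
  let K := RingHom.ker g.toRingHom
  obtain ⟨s, hs⟩ := Algebra.FinitePresentation.ker_fG_of_surjective g₀ hg₀
  have hlift : ∀ y ∈ s, ∃ p ∈ K, π p = y := by
    intro y hy
    have hy' : g₀ y = 0 := hs.le (Ideal.subset_span hy)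
    obtain ⟨p, rfl⟩ := hπ y
    have : g p ∈ IP.map g.toRingHom := by
      rw [hgIP, ← Ideal.Quotient.eq_zero_iff_mem, ← hc]
      exact hy'
    obtain ⟨e, he, he2⟩ := (Ideal.mem_map_iff_of_surjective g.toRingHom hg).1 this
    refine ⟨p - e, by simp [K, RingHom.mem_ker, show g e = g p from he2], ?_⟩
    rw [map_sub, show π e = 0 from hkπ.ge he, sub_zero]
  choose! l hl₁ hl₂ using hlift
  let G : Ideal (MvPolynomial (Fin n) T) := Ideal.span ((s.image l : Finset _) : Set _)
  have hGK : G ≤ K := Ideal.span_le.2 fun x hx => by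
    obtain ⟨y, hy, rfl⟩ := Finset.mem_image.1 hx
    exact hl₁ y hy
  have h1 : K ≤ G ⊔ IP := by
    intro x hx
    have hm : π x ∈ G.map π := by
      refine (show Ideal.span (s : Set _) ≤ G.map π from Ideal.span_le.2 fun y hy => ?_) (hs.ge ?_)
      · rw [← hl₂ y hy]
        exact Ideal.mem_map_of_mem π (Ideal.subset_span (Finset.mem_image_of_mem l hy))
      · show g₀ (π x) = 0
        rw [hc, show g x = 0 from hx, map_zero]
    rw [← hkπ]
    obtain ⟨y, hy, e⟩ := (Ideal.mem_map_iff_of_surjective π hπ).1 hm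
    rw [show x = y + (x - y) by ring]
    exact Submodule.add_mem_sup hy (by simp [RingHom.mem_ker, e])
  have h2 : IP ⊓ K ≤ IP * K := by
    intro x hx
    have : Module.Flat R M := h₁
    let gl : MvPolynomial (Fin n) T →ₗ[R] M := (g.restrictScalars R).toLinearMap
    have hm : x ∈ gl.ker ⊓ (I • (⊤ : Submodule R (MvPolynomial (Fin n) T))) := by
      refine ⟨hx.2, ?_⟩
      rw [Ideal.smul_top_eq_map]
      exact hx.1
    rw [LinearMap.ker_inf_smul_top_eq_smul_of_flat I gl hg] at hm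
    refine Submodule.smul_induction_on hm (fun r hr k hk => ?_) fun a b ha hb => add_mem ha hb
    rw [Algebra.smul_def]
    exact Ideal.mul_mem_mul (Ideal.mem_map_of_mem _ hr) hk
  have h3 : ∀ m : ℕ, K ≤ G ⊔ IP ^ m * K := by
    intro m
    induction m with
    | zero => simp
    | succ m ih =>
      refine ih.trans (sup_le le_sup_left ?_)
      have h4 : K ≤ G ⊔ IP * K := by
        calc K ≤ (G ⊔ IP) ⊓ K := le_inf h1 le_rfl
          _ = G ⊔ IP ⊓ K := sup_inf_assoc_of_le IP hGK
          _ ≤ G ⊔ IP * K := sup_le_sup_left h2 G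
      calc IP ^ m * K ≤ IP ^ m * (G ⊔ IP * K) := Ideal.mul_mono_right h4
        _ = IP ^ m * G ⊔ IP ^ m * (IP * K) := Submodule.mul_sup _ _ _
        _ ≤ G ⊔ IP ^ (m + 1) * K := sup_le_sup Ideal.mul_le_right (by rw [pow_succ, mul_assoc])
  obtain ⟨N, hN⟩ := hI
  have hK : K = G := le_antisymm ((h3 N).trans (by
    rw [← Ideal.map_pow, hN, Ideal.zero_eq_bot, Ideal.map_bot]; simp)) hGK
  exact Algebra.FinitePresentation.of_surjective hg ((show RingHom.ker g.toRingHom = G from hK) ▸ (⟨s.image l, rfl⟩ : G.FG))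

variable {S : Scheme.{u}} {X X' Y Y' B B' : Sp S}

theorem locP_lft_of_finThick (hX' : IsAlgSpace X') {iX : X ⟶ X'} {iY : Y ⟶ Y'} {iB : B ⟶ B'} {f : X ⟶ Y}
    {f' : X' ⟶ Y'} {g : Y ⟶ B} {g' : Y' ⟶ B'} (hcX : IsPullback iX (f ≫ g) (f' ≫ g') iB)
    (hcY : IsPullback iY g g' iB) (w : iX ≫ f' = f ≫ iY) (hB : IsFinThickMor iB) (C : Charts f' g')
    (hf : LocP @LocallyOfFiniteType f) : LocP @LocallyOfFiniteType f' := by
  refine locP_of_chart_square etLocal_lft hX' C.a C.a_etale C.a_surj C.b C.b_etale C.h ?_ C.wf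
  refine (HasRingHomProperty.iff_exists_appLE (P := @LocallyOfFiniteType)
    (RingHom.finiteType_stableUnderComposition.stableUnderCompositionWithLocalizationAway
      RingHom.finiteType_holdsForLocalizationAway).1).2 fun u => ?_
  obtain ⟨Ws, Vs, Us, eV, eU, I, hxU, hI, hQ⟩ := exists_nilp_piece hcX hcY w hB C u
  refine ⟨Vs, Us, hxU, eU, FSchLib.finiteType_of_nilpotent _
    (Ideal.Quotient.mk (I.map ((C.h.left.appLE Vs.1 Us.1 eU).hom.comp (C.k.left.appLE Ws.1 Vs.1 eV).hom)))
    Ideal.Quotient.mk_surjective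
    (I := I.map (C.k.left.appLE Ws.1 Vs.1 eV).hom) ?_ ?_ ?_⟩
  · obtain ⟨n, hn⟩ := hI
    exact ⟨n, by rw [← Ideal.map_pow, hn]; exact Ideal.map_bot⟩
  · rw [Ideal.mk_ker, Ideal.map_map]
  · rw [← Ideal.quotientMap_comp_mk (J := I.map (C.k.left.appLE Ws.1 Vs.1 eV).hom)
      (H := by rw [← Ideal.map_map]; exact Ideal.le_comap_map)]
    exact RingHom.FiniteType.comp (hQ @LocallyOfFiniteType RingHom.FiniteType hf)
      (RingHom.FiniteType.of_surjective _ Ideal.Quotient.mk_surjective)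

theorem locP_lfp_of_finThick (hX' : IsAlgSpace X') {iX : X ⟶ X'} {iY : Y ⟶ Y'} {iB : B ⟶ B'} {f : X ⟶ Y}
    {f' : X' ⟶ Y'} {g : Y ⟶ B} {g' : Y' ⟶ B'} (hcX : IsPullback iX (f ≫ g) (f' ≫ g') iB)
    (hcY : IsPullback iY g g' iB) (w : iX ≫ f' = f ≫ iY) (hB : IsFinThickMor iB)
    (hflat : LocP @Flat (f' ≫ g')) (C : Charts f' g')
    (hf : LocP @LocallyOfFinitePresentation f) : LocP @LocallyOfFinitePresentation f' := by
  refine locP_of_chart_square etLocal_lfp hX' C.a C.a_etale C.a_surj C.b C.b_etale C.h ?_ C.wf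
  have : Flat (C.h.left ≫ C.k.left) := lfp_flat_chart C hflat
  have : LocallyOfFiniteType C.h.left := locP_lft_of_finThick hX' hcX hcY w hB C
    (locP_mono (fun _ _ h (_ : LocallyOfFinitePresentation h) => (inferInstance : LocallyOfFiniteType h)) hf)
    C.a C.b C.h C.a_etale C.b_etale C.wf
  refine (HasRingHomProperty.iff_exists_appLE (P := @LocallyOfFinitePresentation)
    (RingHom.finitePresentation_stableUnderComposition.stableUnderCompositionWithLocalizationAway
      RingHom.finitePresentation_holdsForLocalizationAway).1).2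
      fun u => ?_
  obtain ⟨Ws, Vs, Us, eV, eU, I, hxU, hI, hQ⟩ := exists_nilp_piece hcX hcY w hB C u
  refine ⟨Vs, Us, hxU, eU, finitePresentation_of_flat_nilp (C.k.left.appLE Ws.1 Vs.1 eV).hom _ I hI ?_ ?_
    (hQ @LocallyOfFinitePresentation RingHom.FinitePresentation hf)⟩
  · have h := HasRingHomProperty.appLE @Flat (C.h.left ≫ C.k.left) ‹_› Ws Us (eU.trans fun x hx => eV hx)
    rw [← Scheme.Hom.appLE_comp_appLE C.h.left C.k.left Ws.1 Vs.1 Us.1 eV eU] at h
    exact h
  · exact HasRingHomProperty.appLE @LocallyOfFiniteType C.h.left ‹_› Vs Us eU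

end Groth.Agent.AlgSpLib
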