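import Groth.Agent.FlatMorDegree.Deg
import Groth.Agent.AlgSpLib.UnivBdd
import Groth.Prelude.Def_AlgSpMor5

/-!
The fibre degree of a flat separated quasi-finite morphism from a scheme to an algebraic space.
-/

universe u

open CategoryTheory CategoryTheory.Limits AlgebraicGeometry
open AlgSp
open Groth.Agent.FlatMorDegree (degGE deg degGE_iff_le_deg degGE_iff_le_finrank ge_fibre isClosed_deg_le)

noncomputable section

namespace Groth.Agent.AlgSpLib

set_option backward.isDefEq.respectTransparency.types false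

variable {S : Scheme.{u}} {X : Sp S}

theorem degGE_of_isPullback {A B A' B' : Scheme.{u}} {f : A ⟶ B} {f' : A' ⟶ B'} {a' : A' ⟶ A} {a : B' ⟶ B}
    (sq : IsPullback a' f' f a) [IsSeparated f] [LocallyQuasiFinite f] [LocallyOfFiniteType f] (t : B') (d : ℕ) :
    degGE f' t d ↔ degGE f (a t) d := by
  have hsq := (IsPullback.of_hasPullback f' (B'.fromSpecResidueField t)).paste_horiz sq
  have h : ∀ y, (B'.fromSpecResidueField t ≫ a) (IsLocalRing.closedPoint (B'.residueField t)) = y →
      (degGE f' t d ↔ degGE f y d) := by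
    rintro _ rfl
    exact ge_fibre (L := B'.residueField t) f hsq d
  exact h _ (by rw [Scheme.Hom.comp_apply, Scheme.fromSpecResidueField_apply])

/-- the hypotheses on `w : h_W ⟶ X` -/
structure DegData {W : Over S} (w : (yon S).obj W ⟶ X) : Prop where
  isAlgSpace : IsAlgSpace X
  flat : RepWith @Flat w
  lfp : RepWith @LocallyOfFinitePresentation w
  sep : RepWith @IsSeparated w
  lqf : RepWith @LocallyQuasiFinite w
  bdd : W4dec.HasUnivBddFibres w

variable {W : Over S} {w : (yon S).obj W ⟶ X}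

/-- a pullback of schemes induced by two pullbacks of `w` -/
theorem exists_isPullback_left {T T' P P' : Over S} {g : (yon S).obj T ⟶ X} {h : (yon S).obj T' ⟶ X}
    (a : T' ⟶ T) (e : (yon S).map a ≫ g = h) {fst : (yon S).obj P ⟶ (yon S).obj W} {c : P ⟶ T}
    (sq : IsPullback fst ((yon S).map c) w g) {fst' : (yon S).obj P' ⟶ (yon S).obj W} {c' : P' ⟶ T'}
    (sq' : IsPullback fst' ((yon S).map c') w h) :
    ∃ l : P' ⟶ P, IsPullback l.left c'.left c.left a.left := by
  obtain ⟨l, hl⟩ := (yon S).map_surjective (sq.lift fst' ((yon S).map (c' ≫ a)) (by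
    rw [Functor.map_comp, Category.assoc, e]; exact sq'.w))
  refine ⟨l, isPullback_left (isPullback_of_map_yon ?_)⟩
  refine IsPullback.of_right (h₁₂ := fst) ?_ ?_ sq
  · rw [hl, sq.lift_fst, e]; exact sq'
  · rw [hl, sq.lift_snd, Functor.map_comp]

theorem DegData.exists_bound (D : DegData w) : ∃ n, ∀ {T P : Over S} (g : (yon S).obj T ⟶ X)
    (fst : (yon S).obj P ⟶ (yon S).obj W) (c : P ⟶ T), IsPullback fst ((yon S).map c) w g →
    ∀ t, ¬ degGE c.left t (n + 1) := by
  obtain ⟨n, hn⟩ := D.bdd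
  refine ⟨n, fun {T P} g fst c sq t hd => ?_⟩
  have : IsSeparated c.left := D.sep.2 g fst c sq
  have : LocallyQuasiFinite c.left := D.lqf.2 g fst c sq
  have : LocallyOfFinitePresentation c.left := D.lfp.2 g fst c sq
  let K := T.left.residueField t
  let T' : Over S := Over.mk (T.left.fromSpecResidueField t ≫ T.hom)
  let a : T' ⟶ T := Over.homMk (T.left.fromSpecResidueField t)
  let q : FieldPt X := ⟨K, T.left.fromSpecResidueField t ≫ T.hom, (J S).uliftYonedaEquiv.{u + 1} ((yon S).map a ≫ g)⟩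
  have hq : q.toHom = (yon S).map a ≫ g := toHom_of_yonedaEquiv _
  have sq' := D.lfp.1.isPullback ((yon S).map a ≫ g)
  have : Flat (D.lfp.1.snd ((yon S).map a ≫ g)).left := D.flat.2 _ _ _ sq'
  obtain ⟨hfin, hrank⟩ := hn q _ (D.lfp.1.snd ((yon S).map a ≫ g)) _ (by rw [hq]; exact sq'.flip)
  obtain ⟨l, hl⟩ := exists_isPullback_left a rfl sq sq'
  let s : ↥T'.left := IsLocalRing.closedPoint K
  have hs : a.left s = t := Scheme.fromSpecResidueField_apply t _
  have h1 := (degGE_of_isPullback hl s (n + 1))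
  rw [hs, degGE_iff_le_finrank] at h1
  have := (h1.2 hd).trans (hrank s)
  omega

/-- the degree of the fibre over the point `t` of a chart -/
def chartDeg (D : DegData w) {T : Over S} (g : (yon S).obj T ⟶ X) (t : ↥T.left) : ℕ :=
  sSup {d | degGE (D.lfp.1.snd g).left t d}

theorem DegData.degGE_iff (D : DegData w) {T P : Over S} {g : (yon S).obj T ⟶ X}
    {fst : (yon S).obj P ⟶ (yon S).obj W} {c : P ⟶ T} (sq : IsPullback fst ((yon S).map c) w g)
    (t : ↥T.left) (d : ℕ) : degGE c.left t d ↔ degGE (D.lfp.1.snd g).left t d := by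
  have : IsSeparated (D.lfp.1.snd g).left := D.sep.2 _ _ _ (D.lfp.1.isPullback g)
  have : LocallyQuasiFinite (D.lfp.1.snd g).left := D.lqf.2 _ _ _ (D.lfp.1.isPullback g)
  have : LocallyOfFinitePresentation (D.lfp.1.snd g).left := D.lfp.2 _ _ _ (D.lfp.1.isPullback g)
  obtain ⟨l, hl⟩ := exists_isPullback_left (𝟙 T) (by simp) (D.lfp.1.isPullback g) sq
  have h := degGE_of_isPullback hl t d
  simpa using h

theorem DegData.degGE_eq_of_ofPt (D : DegData w) {T T' : Over S} (g : (yon S).obj T ⟶ X)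
    (g' : (yon S).obj T' ⟶ X) (t : ↥T.left) (t' : ↥T'.left) (e : Points.ofPt g t = Points.ofPt g' t') (d : ℕ) :
    degGE (D.lfp.1.snd g).left t d ↔ degGE (D.lfp.1.snd g').left t' d := by
  have inst : ∀ {T : Over S} (g : (yon S).obj T ⟶ X), IsSeparated (D.lfp.1.snd g).left ∧
      LocallyQuasiFinite (D.lfp.1.snd g).left ∧ LocallyOfFiniteType (D.lfp.1.snd g).left := fun g => by
    have : LocallyOfFinitePresentation (D.lfp.1.snd g).left := D.lfp.2 _ _ _ (D.lfp.1.isPullback g)
    exact ⟨D.sep.2 _ _ _ (D.lfp.1.isPullback g), D.lqf.2 _ _ _ (D.lfp.1.isPullback g), inferInstance⟩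
  have hr := D.isAlgSpace.representable_from_yon g
  have sqR := hr.isPullback' g'
  obtain ⟨r, hr1, hr2⟩ := (ofPt_eq_ofPt_iff sqR t t').1 e
  let p := hr.fst' g'
  let q := hr.snd g'
  have sqh := D.lfp.1.isPullback ((yon S).map p ≫ g)
  obtain ⟨l, hl⟩ := exists_isPullback_left p rfl (D.lfp.1.isPullback g) sqh
  obtain ⟨l', hl'⟩ := exists_isPullback_left q sqR.w.symm (D.lfp.1.isPullback g') sqh
  obtain ⟨i1, i2, i3⟩ := inst g
  obtain ⟨j1, j2, j3⟩ := inst g'
  have h1 := degGE_of_isPullback hl r d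
  have h2 := degGE_of_isPullback hl' r d
  rw [show p.left r = t from hr1] at h1
  rw [show q.left r = t' from hr2] at h2
  exact h1.symm.trans h2

theorem DegData.chartDeg_eq (D : DegData w) {T T' : Over S} (g : (yon S).obj T ⟶ X)
    (g' : (yon S).obj T' ⟶ X) (t : ↥T.left) (t' : ↥T'.left) (e : Points.ofPt g t = Points.ofPt g' t') :
    chartDeg D g t = chartDeg D g' t' :=
  congrArg sSup (Set.ext fun d => D.degGE_eq_of_ofPt g g' t t' e d)

theorem exists_degree_function (D : DegData w) :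
    ∃ (n : ℕ) (δ : Points X → ℕ), (∀ x, δ x ≤ n) ∧ (∀ r, IsClosed {x | δ x ≤ r}) ∧
      ∀ {T P : Over S} (g : (yon S).obj T ⟶ X) (fst : (yon S).obj P ⟶ (yon S).obj W) (c : P ⟶ T),
        IsPullback fst ((yon S).map c) w g → ∀ r,
          (finLocFreeOfDeg r c.left ↔ ∀ t, δ (Points.ofPt g t) = r) := by
  obtain ⟨n, hn⟩ := D.exists_bound
  obtain ⟨U, a, hae, has⟩ := D.isAlgSpace.atlas
  choose u hu using surjective_ofPt a has
  let δ : Points X → ℕ := fun x => chartDeg D a (u x)
  have inst : ∀ {T P : Over S} (g : (yon S).obj T ⟶ X) (fst : (yon S).obj P ⟶ (yon S).obj W) (c : P ⟶ T),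
      IsPullback fst ((yon S).map c) w g → IsSeparated c.left ∧ LocallyQuasiFinite c.left ∧
        LocallyOfFinitePresentation c.left ∧ Flat c.left := fun g fst c sq =>
    ⟨D.sep.2 g fst c sq, D.lqf.2 g fst c sq, D.lfp.2 g fst c sq, D.flat.2 g fst c sq⟩
  have key : ∀ {T : Over S} (g : (yon S).obj T ⟶ X) t d,
      degGE (D.lfp.1.snd g).left t d ↔ d ≤ δ (Points.ofPt g t) := fun g t d => by
    obtain ⟨i1, i2, i3, i4⟩ := inst g _ _ (D.lfp.1.isPullback g)
    refine (degGE_iff_le_deg (D.lfp.1.snd g).left (hn g _ _ (D.lfp.1.isPullback g) t) d).trans ?_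
    show d ≤ chartDeg D g t ↔ _
    rw [show δ (Points.ofPt g t) = chartDeg D g t from D.chartDeg_eq a g _ t (hu _)]
  refine ⟨n, δ, fun x => ?_, fun r => ?_, fun {T P} g fst c sq r => ?_⟩
  · by_contra h
    refine hn a _ _ (D.lfp.1.isPullback a) (u x) ((key a _ _).2 ?_)
    rw [hu]
    omega
  · obtain ⟨i1, i2, i3, i4⟩ := inst a _ _ (D.lfp.1.isPullback a)
    refine ((isOpenMap_ofPt a hae).isQuotientMap (Points.continuous_ofPt a) (surjective_ofPt a has)).isClosed_preimage.1 ?_
    convert isClosed_deg_le (D.lfp.1.snd a).left (fun t => ⟨n, hn a _ _ (D.lfp.1.isPullback a) t⟩) r using 1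
    ext t
    show δ (Points.ofPt a t) ≤ r ↔ chartDeg D a t ≤ r
    rw [show δ (Points.ofPt a t) = chartDeg D a t from D.chartDeg_eq a a _ t (hu _)]
  · obtain ⟨i1, i2, i3, i4⟩ := inst g fst c sq
    have hbd : ∀ t, ∃ m, ¬ degGE c.left t (m + 1) := fun t => ⟨n, hn g fst c sq t⟩
    have e : ∀ t, deg c.left t = δ (Points.ofPt g t) := fun t => by
      refine eq_of_forall_le_iff fun d => ?_
      rw [← degGE_iff_le_deg c.left (hn g fst c sq t), D.degGE_iff sq, key]
    simp only [← e]
    refine Iff.trans ?_ (FlatMorDegree.isFinLocFreeOfDeg_iff c.left hbd (𝟙 T.left) r)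
    have s1 := IsPullback.of_hasPullback c.left (𝟙 T.left)
    have s2 : IsPullback (inv (pullback.fst c.left (𝟙 T.left))) c.left (pullback.snd c.left (𝟙 T.left)) (𝟙 T.left) :=
      IsPullback.of_horiz_isIso ⟨by rw [IsIso.inv_comp_eq, Category.comp_id, pullback.condition, Category.comp_id]⟩
    exact ⟨fun h => MorphismProperty.of_isPullback (P := finLocFreeOfDeg r) s1 h,
      fun h => MorphismProperty.of_isPullback (P := finLocFreeOfDeg r) s2 h⟩

end Groth.Agent.AlgSpLib
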