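import Groth.Agent.AlgSpLib.Filtration

/-!
Elementary etale neighbourhoods of points of decent spaces.
-/

universe u

open CategoryTheory CategoryTheory.Limits AlgebraicGeometry Opposite
open AlgSp

noncomputable section

namespace Groth.Agent.AlgSpLib

set_option backward.isDefEq.respectTransparency.types false

/-- etale surjections with unique geometric lifts are isomorphisms -/
theorem isIso_of_unique_geomLifts {A B : Scheme.{u}} (c : A ⟶ B) [Etale c] [Surjective c]
    (h : ∀ (Ω : Type u) [Field Ω] [IsAlgClosed Ω] (g g' : Spec (CommRingCat.of Ω) ⟶ A),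
      g ≫ c = g' ≫ c → g = g') : IsIso c := by
  have : Surjective (pullback.diagonal c) := ⟨fun z => by
    obtain ⟨g, hg⟩ := FlatMorWeight.exists_geomPt z
    have e := h _ (g ≫ pullback.fst c c) (g ≫ pullback.snd c c)
      (by rw [Category.assoc, Category.assoc, pullback.condition])
    refine ⟨FlatMorWeight.pt (g ≫ pullback.fst c c), ?_⟩
    refine ((FlatMorWeight.pt_comp _ _).symm.trans ?_).trans hg
    refine congrArg FlatMorWeight.pt (pullback.hom_ext ?_ ?_)
    · rw [Category.assoc, pullback.diagonal_fst, Category.comp_id]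
    · rw [Category.assoc, pullback.diagonal_snd, Category.comp_id, e]⟩
  have : IsIso (pullback.diagonal c) := (isIso_iff_isOpenImmersion_and_epi_base _).2
    ⟨inferInstance, (TopCat.epi_iff_surjective _).2 (pullback.diagonal c).surjective⟩
  have : Mono c := (pullback.isIso_diagonal_iff c).1 this
  have := IsOpenImmersion.of_flat_of_mono c
  exact (isIso_iff_isOpenImmersion_and_epi_base _).2 ⟨inferInstance, (TopCat.epi_iff_surjective _).2 c.surjective⟩

variable {S : Scheme.{u}} {X : Sp S}

/-- elementary etale neighbourhoods with a single point over `x` -/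
theorem exists_elemNbhd (hX : IsAlgSpace X) (hd : IsDecent X) (x : Points X) :
    ∃ (U : Over S) (a : (yon S).obj U ⟶ X) (u : ↥U.left), IsAffine U.left ∧
      IsElemEtaleNbhd a u x ∧ Points.ofPt a ⁻¹' {x} = {u} := by
  classical
  obtain ⟨U₁, hU₁, a, R, s, t, ha, ⟨u₁, hu₁⟩, -, -⟩ := exists_chart_arrows hX x
  obtain ⟨q, hq, hqm, hqc⟩ := hd x
  have hex : ∃ N, x ∉ manyLifts a (N + 1) := by
    obtain ⟨N, hN⟩ := exists_last_manyLifts a ha q.toHom hqc
    exact ⟨N, by rwa [ptOfHom_toHom, hq] at hN⟩
  let N := Nat.find hex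
  have hN : x ∉ manyLifts a (N + 1) := Nat.find_spec hex
  have h1 : x ∈ manyLifts a 1 := by
    obtain ⟨g, hg⟩ := FlatMorWeight.exists_geomPt u₁
    refine ⟨_, inferInstance, _, (yon S).map (geomHom g) ≫ a, ?_, fun _ => geomHom g, fun _ => rfl,
      fun i j _ => Subsingleton.elim i j⟩
    rw [ptOfHom_yon_map, ← hu₁]
    exact congrArg _ hg
  obtain ⟨m, hm⟩ : ∃ m, N = m + 1 := ⟨N - 1, by
    rcases Nat.eq_zero_or_pos N with h | h
    · rw [h] at hN; exact absurd h1 hN
    · omega⟩
  have hin : x ∈ manyLifts a (m + 1) := not_not.1 (Nat.find_min hex (show m < N by omega))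
  rw [hm] at hN
  obtain ⟨V₀, f₀, hf₀, -, -, hr, huniq⟩ := exists_unorderedTuples hX a ha m
  obtain ⟨v₀, hv₀⟩ : x ∈ Set.range (Points.ofPt f₀) := hr.symm ▸ hin
  obtain ⟨O, hO, hvO, -⟩ := exists_isAffineOpen_mem_and_subset (x := v₀) (U := ⊤) trivial
  let V : Over S := Over.mk (O.ι ≫ V₀.hom)
  let j : V ⟶ V₀ := Over.homMk O.ι
  have : IsAffine V.left := hO
  have hj : IsOpenImmersion j.left := inferInstanceAs (IsOpenImmersion O.ι)
  have hjm : Mono j := (Over.forget S).mono_of_mono_map (inferInstanceAs (Mono O.ι))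
  let f := (yon S).map j ≫ f₀
  have hf : RepWith @Etale f :=
    RepWith.comp ((repWith_yon_map_iff (P := @Etale) j).2 inferInstance) hf₀
  let v : ↥V.left := (⟨v₀, hvO⟩ : O)
  have hv : Points.ofPt f v = x := (ofPt_map j f₀ v).trans hv₀
  have huniq' : ∀ (Ω : Type u) [Field Ω] [IsAlgClosed Ω] (str : Spec (CommRingCat.of Ω) ⟶ S)
      (w w' : Over.mk str ⟶ V), ptOfHom ((yon S).map w ≫ f) = x →
      (yon S).map w ≫ f = (yon S).map w' ≫ f → w = w' := fun Ω _ _ str w w' hw he => by
    refine (cancel_mono j).1 (huniq Ω str _ (by rw [hw]; exact hN) _ _ ?_ ?_)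
    · rw [Functor.map_comp_assoc]
    · rw [Functor.map_comp_assoc]; exact he.symm
  -- the pullback along the monomorphic point is trivial
  obtain ⟨c, hc⟩ := (yon S).map_surjective (hqc.1.fst f)
  let P := hqc.1.pullback f
  let d : P ⟶ V := hqc.1.snd f
  have sq : IsPullback ((yon S).map c) ((yon S).map d) q.toHom f := hc ▸ hqc.1.isPullback f
  have : Etale c.left := (repWith_yon_map_iff @Etale c).1 (RepWith.baseChange sq.flip hf)
  have hsub : Subsingleton ↥q.pt.left := inferInstanceAs (Subsingleton ↥(Spec (CommRingCat.of q.K)))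
  have hP : ∀ v', Points.ofPt f v' = x → ∃ z : ↥P.left, d.left z = v' := fun v' hv' => by
    obtain ⟨z, -, hz⟩ := exists_point_of_isPullback sq (x := ptOfHom (𝟙 _)) (y := Points.ofScheme V v')
      (by rw [map_eq_ptOfHom, ptOfHom_toHom, hq, ← Points.ofPt_eq_map_ofScheme, hv'])
    obtain ⟨w, rfl⟩ := (Points.schemeEquiv P).surjective z
    exact ⟨w, (Points.schemeEquiv V).injective ((map_yon_map_ofScheme d w).symm.trans hz)⟩
  obtain ⟨z₀, hz₀⟩ := hP v hv
  have : Surjective c.left := ⟨fun y => ⟨z₀, Subsingleton.elim _ _⟩⟩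
  have hiso : IsIso c.left := isIso_of_unique_geomLifts c.left fun Ω _ _ g g' e => by
    let G := geomHom g
    let G' : Over.mk (g ≫ P.hom) ⟶ P := Over.homMk g' (by
      show g' ≫ P.hom = g ≫ P.hom
      rw [← Over.w c, reassoc_of% e])
    have ec : G ≫ c = G' ≫ c := Over.OverMorphism.ext e
    have h1 : (yon S).map (G ≫ d) ≫ f = (yon S).map (G ≫ c) ≫ q.toHom := by
      rw [Functor.map_comp_assoc, ← sq.w, ← Functor.map_comp_assoc]
    have h2 : (yon S).map (G' ≫ d) ≫ f = (yon S).map (G' ≫ c) ≫ q.toHom := by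
      rw [Functor.map_comp_assoc, ← sq.w, ← Functor.map_comp_assoc]
    have hd' := huniq' Ω _ (G ≫ d) (G' ≫ d) (by
      rw [h1, ← map_ptOfHom, map_eq_ptOfHom, ptOfHom_toHom, hq]) (by rw [h1, h2, ec])
    have hG : G = G' := (yon S).map_injective (sq.hom_ext
      (by rw [← Functor.map_comp, ← Functor.map_comp, ec])
      (by rw [← Functor.map_comp, ← Functor.map_comp, hd']))
    exact congrArg (fun k : Over.mk (g ≫ P.hom) ⟶ P => k.left) hG
  have : Subsingleton ↥P.left := c.left.homeomorph.injective.subsingleton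
  refine ⟨V, f, v, inferInstance, ⟨hf, hv, ?_⟩, Set.eq_singleton_iff_unique_mem.2 ⟨hv, fun v' hv' => ?_⟩⟩
  swap
  · obtain ⟨z, rfl⟩ := hP v' hv'
    rw [← hz₀]
    exact congrArg _ (Subsingleton.elim _ _)
  rw [FieldPt.toHom_ofPt]
  let k : Type u := V.left.residueField v
  let i : Over.mk (V.left.fromSpecResidueField v ≫ V.hom) ⟶ V := Over.homMk (V.left.fromSpecResidueField v) rfl
  show Mono ((yon S).map i ≫ f)
  have hi : Mono i.left := inferInstanceAs (Mono (V.left.fromSpecResidueField v))
  have : Mono i := (Over.forget S).mono_of_mono_map hi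
  have hdm : Mono d := by
    have : Mono ((yon S).map d) :=
      MorphismProperty.of_isPullback (P := MorphismProperty.monomorphisms _) sq
        (MorphismProperty.monomorphisms.infer_property q.toHom)
    exact (yon S).mono_of_mono_map this
  let T := pullback i d
  have sqT := (IsPullback.of_hasPullback i d).map (Over.forget S)
  have : Mono (pullback.fst i d).left :=
    (Over.forget S).map_mono (pullback.fst i d)
  let W := (Over.mk (V.left.fromSpecResidueField v ≫ V.hom)).left
  have : DiscreteTopology ↥W := inferInstanceAs (DiscreteTopology ↥(Spec (CommRingCat.of k)))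
  have : IsReduced W := inferInstanceAs (IsReduced (Spec (CommRingCat.of k)))
  have : Subsingleton ↥W := inferInstanceAs (Subsingleton ↥(Spec (CommRingCat.of k)))
  have := SchMor12.isOpenImmersion_of_mono_of_discrete (pullback.fst i d).left
  obtain ⟨y, -⟩ := exists_point_of_isPullback ((IsPullback.of_hasPullback i d).map (yon S))
    (x := ptOfHom (𝟙 _)) (y := Points.ofScheme P z₀) (by
      rw [map_yon_map_ofScheme, hz₀]
      refine (map_eq_ptOfHom (k := k) (str := V.left.fromSpecResidueField v ≫ V.hom) ((yon S).map i) _).trans ?_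
      refine ((congrArg (ptOfHom (K := k) (str := V.left.fromSpecResidueField v ≫ V.hom))
        (Category.comp_id ((yon S).map i)).symm).trans
        (ptOfHom_yon_map (K := k) (str := V.left.fromSpecResidueField v ≫ V.hom) i (𝟙 ((yon S).obj V)))).trans ?_
      rw [Points.ofPt_eq_map_ofScheme, Points.map_id]
      exact congrArg _ (Scheme.fromSpecResidueField_apply v _))
  obtain ⟨w, -⟩ := (Points.schemeEquiv T).surjective y
  have : IsIso (pullback.fst i d).left := (isIso_iff_isOpenImmersion_and_epi_base _).2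
    ⟨inferInstance, (TopCat.epi_iff_surjective _).2 fun _ => ⟨w, Subsingleton.elim _ _⟩⟩
  have : IsIso (pullback.fst i d) :=
    (have : IsIso ((Over.forget S).map (pullback.fst i d)) := this; isIso_of_reflects_iso _ (Over.forget S))
  let l := inv (pullback.fst i d) ≫ pullback.snd i d
  have hl : l ≫ d = i := by rw [Category.assoc, ← pullback.condition, IsIso.inv_hom_id_assoc]
  have : Mono l := by
    have : Mono (l ≫ d) := by rw [hl]; infer_instance
    exact mono_of_mono l d
  have : IsIso c := (have : IsIso ((Over.forget S).map c) := hiso; isIso_of_reflects_iso c (Over.forget S))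
  have e : (yon S).map i ≫ f = (yon S).map (l ≫ c) ≫ q.toHom :=
    ((Functor.map_comp_assoc _ l c q.toHom).trans ((congrArg (_ ≫ ·) sq.w).trans
      ((Functor.map_comp_assoc _ l d f).symm.trans (congrArg (fun m => (yon S).map m ≫ f) hl)))).symm
  rw [e]
  have : Mono (l ≫ c) := inferInstance
  exact @mono_comp _ _ _ _ _ _ inferInstance _ hqm

end Groth.Agent.AlgSpLib
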