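import Groth.Agent.AlgSpLib.CodimZeroFibre
import Groth.Agent.AlgSpLib.MorQC
import Groth.Agent.AlgSpLib.DecentPoints
import Groth.Agent.AlgSpLib.EtaleField
import Groth.Agent.AlgSpLib.ElemNbhd
import Mathlib.AlgebraicGeometry.Morphisms.UniversallyInjective

/-!
Morphisms whose codimension zero points lie in finite fibres are finite over a dense open subspace.
-/

universe u

open CategoryTheory CategoryTheory.Limits AlgebraicGeometry Opposite
open AlgSp

noncomputable section

namespace Groth.Agent.AlgSpLib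

set_option backward.isDefEq.respectTransparency.types false

/-- a separated morphism with all generic points in a finite fibre over a maximal point is finite nearby -/
theorem exists_isFinite_of_finite_fibre_of_generic {R T : Scheme.{u}} [IsAffine T] (ρ : R ⟶ T)
    [LocallyOfFiniteType ρ] [IsSeparated ρ] {η : ↥T} (hmax : ∀ t, t ⤳ η → t = η)
    (hfin : (ρ ⁻¹' {η}).Finite) (hgen : ∀ r, ∃ r', r' ⤳ r ∧ ρ r' = η) :
    ∃ N : T.Opens, η ∈ N ∧ IsFinite (ρ ∣_ N) := by
  choose O hO hrO _ using fun r : ↥R => exists_isAffineOpen_mem_and_subset (x := r) (U := ⊤) trivial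
  let R0 : R.Opens := ⨆ r ∈ hfin.toFinset, O r
  have hmem : ∀ r, ρ r = η → r ∈ R0 := fun r hr =>
    TopologicalSpace.Opens.mem_iSup.2 ⟨r, TopologicalSpace.Opens.mem_iSup.2 ⟨hfin.mem_toFinset.2 hr, hrO r⟩⟩
  have hc : IsCompact (R0 : Set ↥R) := by
    simp only [R0, TopologicalSpace.Opens.coe_iSup]
    exact hfin.toFinset.isCompact_biUnion fun r _ => (hO r).isCompact
  have : CompactSpace ↥R0.toScheme := isCompact_iff_compactSpace.mp hc
  obtain ⟨N, -, hηN, hN⟩ := exists_isFinite_of_finite_fibre (R0.ι ≫ ρ) hmax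
    ((hfin.preimage R0.ι.injective.injOn).subset fun r hr => hr)
  refine ⟨N, hηN, ?_⟩
  rw [morphismRestrict_comp] at hN
  let l := R0.ι ∣_ (ρ ⁻¹ᵁ N)
  have : IsFinite (l ≫ ρ ∣_ N) := hN
  have : IsSeparated (ρ ∣_ N) := IsZariskiLocalAtTarget.restrict (P := @IsSeparated) inferInstance N
  have : IsFinite l := IsFinite.of_comp l (ρ ∣_ N)
  have : Surjective l := ⟨fun x => by
    obtain ⟨r', hr', e⟩ := hgen x.1
    have hN' : r' ∈ ρ ⁻¹ᵁ N := show ρ r' ∈ N by rw [e]; exact hηN
    have hin : (⟨r', hN'⟩ : ↥(ρ ⁻¹ᵁ N)) ∈ Set.range l :=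
      ⟨⟨⟨r', hmem r' e⟩, hN'⟩, Subtype.ext (by rw [morphismRestrict_base_coe]; rfl)⟩
    exact (show (⟨r', hN'⟩ : ↥(ρ ⁻¹ᵁ N)) ⤳ x from (subtype_specializes_iff _ _).2 hr').mem_closed
      l.isClosedMap.isClosed_range hin⟩
  have : IsIso l := (isIso_iff_isOpenImmersion_and_epi_base _).2
    ⟨inferInstance, (TopCat.epi_iff_surjective _).2 l.surjective⟩
  exact (MorphismProperty.cancel_left_of_respectsIso @IsFinite l (ρ ∣_ N)).1 hN

/-- the self fibre product of a morphism finite near a point has finite fibre there -/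
theorem finite_fibre_pullback_self {W T : Scheme.{u}} (π : W ⟶ T) {N : T.Opens} (h : IsFinite (π ∣_ N))
    {η : ↥T} (hη : η ∈ N) : ((pullback.fst π π ≫ π) ⁻¹' {η}).Finite := by
  let ιW := (π ⁻¹ᵁ N).ι
  have e : (π ∣_ N) ≫ N.ι = ιW ≫ π := morphismRestrict_ι π N
  let m := pullback.map (π ∣_ N) (π ∣_ N) π π ιW ιW N.ι e e
  let q := pullback.fst (π ∣_ N) (π ∣_ N) ≫ π ∣_ N
  have : IsFinite q := inferInstance
  refine ((q.finite_preimage_singleton ⟨η, hη⟩).image m).subset fun z hz => ?_
  obtain ⟨z', rfl⟩ : z ∈ Set.range m := by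
    rw [Scheme.Pullback.range_map]
    have h2 : π (pullback.snd π π z) = η := by
      rw [← Scheme.Hom.comp_apply, ← pullback.condition]
      exact hz
    have h1 : π (pullback.fst π π z) = η := by rw [← Scheme.Hom.comp_apply]; exact hz
    simp only [Set.mem_inter_iff, Set.mem_preimage, ιW, Scheme.Opens.range_ι]
    exact ⟨show π _ ∈ N by rw [h1]; exact hη, show π _ ∈ N by rw [h2]; exact hη⟩
  refine ⟨z', ?_, rfl⟩
  refine N.ι.injective ?_
  show N.ι (q z') = η
  rw [← hz, ← Scheme.Hom.comp_apply, ← Scheme.Hom.comp_apply]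
  simp only [q, m, Category.assoc, pullback.lift_fst_assoc, e]

variable {S : Scheme.{u}} {P : Sp S}

/-- a space with chart and arrows finite over an affine open is finite over it -/
theorem isFiniteMor_restrict_of_finite {V : Over S} (g : P ⟶ (yon S).obj V)
    {W R : Over S} (p : (yon S).obj W ⟶ P)
    (he : RepWith @Etale p) (hs : RepWith @Surjective p) (π : W ⟶ V) (hπ : (yon S).map π = p ≫ g)
    {s t : R ⟶ W} (sqR : IsPullback ((yon S).map t) ((yon S).map s) p p)
    {N : V.left.Opens} (hN : IsAffineOpen N) (hf₁ : IsFinite (π.left ∣_ N))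
    (hf₂ : IsFinite ((s.left ≫ π.left) ∣_ N)) :
    ∀ (P' : Sp S) (fst : P' ⟶ P) (snd : P' ⟶ (yon S).obj (Over.mk (N.ι ≫ V.hom))),
      IsPullback fst snd g ((yon S).map (Over.homMk N.ι : Over.mk (N.ι ≫ V.hom) ⟶ V)) → IsFiniteMor snd := by
  intro P' fst snd sq
  let VN : Over S := Over.mk (N.ι ≫ V.hom)
  let jN : VN ⟶ V := Over.homMk N.ι
  have : IsAffine VN.left := hN
  let W' := pullback π jN
  let π' : W' ⟶ VN := pullback.snd π jN
  let w : W' ⟶ W := pullback.fst π jN
  have sqW := (IsPullback.of_hasPullback π jN).map (yon S)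
  let p' : (yon S).obj W' ⟶ P' := sq.lift ((yon S).map w ≫ p) ((yon S).map π') (by
    rw [Category.assoc, ← hπ]; exact sqW.w)
  have sqp : IsPullback ((yon S).map w) p' p fst := by
    refine IsPullback.of_bot ?_ (sq.lift_fst _ _ _).symm sq
    rw [sq.lift_snd, ← hπ]
    exact sqW
  have he' : RepWith @Etale p' := RepWith.baseChange sqp he
  have hs' : RepWith @Surjective p' := RepWith.baseChange sqp hs
  obtain ⟨t', ht'⟩ := (yon S).map_surjective (he'.1.fst p')
  let s' : he'.1.pullback p' ⟶ W' := he'.1.snd p'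
  have sqR' : IsPullback ((yon S).map t') ((yon S).map s') p' p' := ht' ▸ he'.1.isPullback p'
  obtain ⟨ρ, hρ⟩ := (yon S).map_surjective (sqR.lift ((yon S).map (t' ≫ w)) ((yon S).map (s' ≫ w)) (by
    rw [Functor.map_comp, Category.assoc, sqp.w, Functor.map_comp, Category.assoc, sqp.w,
      reassoc_of% sqR'.w]))
  have sqρ : IsPullback ρ s' s w := by
    refine IsPullback.of_map (yon S) ((yon S).map_injective (by rw [Functor.map_comp, hρ, sqR.lift_snd])) ?_
    refine IsPullback.of_right ?_ (by rw [hρ, sqR.lift_snd, Functor.map_comp]) sqR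
    rw [hρ, sqR.lift_fst, Functor.map_comp, sqp.w]
    exact sqR'.paste_horiz sqp
  have hπ' : IsFinite π'.left := isFinite_of_isPullback_opens (f := π.left)
    ((IsPullback.of_hasPullback π jN).map (Over.forget S)) hf₁
  have hsπ' : IsFinite (s'.left ≫ π'.left) := isFinite_of_isPullback_opens (f := s.left ≫ π.left)
    ((sqρ.map (Over.forget S)).paste_vert ((IsPullback.of_hasPullback π jN).map (Over.forget S)))
    hf₂
  obtain ⟨C, i, e, hC, hi, hei⟩ := exists_finite_scheme_of_finite_chart snd p' he' hs' π'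
    (sq.lift_snd _ _ _).symm sqR'
  refine (isFiniteMor_iff_repWith snd).2 ?_
  rw [← MorphismProperty.cancel_left_of_respectsIso (RepWith @IsFinite) e.hom snd, hei]
  exact (repWith_yon_map_iff (P := @IsFinite) i).2 hi

/-- a quasi-compact space whose generic points are the fibre over a maximal point is finite nearby -/
theorem exists_finite_over_of_compact (hP : IsAlgSpace P) [CompactSpace (Points P)] {V : Over S}
    [IsAffine V.left] (g : P ⟶ (yon S).obj V) (hg : LocP @LocallyOfFiniteType g) {η : ↥V.left}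
    (hmax : ∀ z, z ⤳ η → z = η)
    (hdim : ∀ (W : Over S) (p : (yon S).obj W ⟶ P) (π : W ⟶ V), RepWith @Etale p →
      (yon S).map π = p ≫ g → ∀ w, (ringKrullDim ↥(W.left.presheaf.stalk w) = 0 ↔ π.left w = η)) :
    ∃ (N : V.left.Opens), η ∈ N ∧ IsAffineOpen N ∧ ∀ (P' : Sp S) (fst : P' ⟶ P)
      (snd : P' ⟶ (yon S).obj (Over.mk (N.ι ≫ V.hom))),
      IsPullback fst snd g ((yon S).map (Over.homMk N.ι : Over.mk (N.ι ≫ V.hom) ⟶ V)) → IsFiniteMor snd := by
  obtain ⟨W, p, hW, he, hs⟩ := exists_affine_chart hP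
  obtain ⟨π, hπ⟩ := (yon S).map_surjective (p ≫ g)
  have : LocallyOfFiniteType π.left := hg p (𝟙 _) π he (repWith_id _ V) (by rw [Category.comp_id, hπ])
  have : QuasiCompact π.left := quasiCompact_of_compactSpace π.left
  obtain ⟨t, ht⟩ := (yon S).map_surjective (he.1.fst p)
  have sqR : IsPullback ((yon S).map t) ((yon S).map (he.1.snd p)) p p := ht ▸ he.1.isPullback p
  let s := he.1.snd p
  have : Etale s.left := he.property _ _ _ sqR
  have : IsSeparated W.hom := inferInstance
  have : IsSeparated s.left := (repWith_isSeparated_of_isSeparated_source hP p).property _ _ _ sqR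
  -- finite fibre of the chart
  have hfin : (π.left ⁻¹' {η}).Finite := by
    have : DiscreteTopology ↥(π.left.fiber η) := by
      refine @discreteTopology_of_isClosed_points (V.left.residueField η) _ (π.left.fiber η)
        (π.left.fiberToSpecResidueField η) (MorphismProperty.pullback_snd _ _ inferInstance) fun z => ?_
      refine closure_subset_iff_isClosed.1 fun z' hz' => ?_
      have := eq_of_specializes_stalk _ ((hdim W p π he hπ _).2 (π.left.fiberHomeo η z').2) _
        ((specializes_iff_mem_closure.2 hz').map (π.left.fiberι η).continuous)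
      exact ((π.left.fiberι η).isEmbedding.injective this).symm
    have : Finite ↥(π.left.fiber η) := finite_of_compact_of_discrete
    exact Set.finite_coe_iff.1 ((π.left.fiberHomeo η).finite_iff.1 this)
  obtain ⟨N₁, -, hη₁, hf₁⟩ := exists_isFinite_of_finite_fibre π.left hmax hfin
  -- finite fibre of the arrows
  have ew : t ≫ π = s ≫ π := (yon S).map_injective (by
    rw [Functor.map_comp, Functor.map_comp, hπ, ← Category.assoc, sqR.w, Category.assoc])
  have ew' : t.left ≫ π.left = s.left ≫ π.left := congrArg (fun φ => φ.left) ew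
  let l := pullback.lift t.left s.left ew'
  have : Mono l := ⟨fun {T} g₁ g₂ h => by
    have a1 := congr($h ≫ pullback.fst π.left π.left)
    have a2 := congr($h ≫ pullback.snd π.left π.left)
    simp only [l, Category.assoc, pullback.lift_fst, pullback.lift_snd] at a1 a2
    exact Stk19b.Fppf.eqvRel_hom_ext (isEqvRel_of_isPullback sqR) a1 a2⟩
  have hfinR : ((s.left ≫ π.left) ⁻¹' {η}).Finite := by
    refine ((finite_fibre_pullback_self π.left hf₁ hη₁).preimage l.injective.injOn).subset fun r hr => ?_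
    show (pullback.fst π.left π.left ≫ π.left) (l r) = η
    rw [← Scheme.Hom.comp_apply, pullback.lift_fst_assoc, ew']
    exact hr
  obtain ⟨N₂, hη₂, hf₂⟩ := exists_isFinite_of_finite_fibre_of_generic (s.left ≫ π.left) hmax hfinR fun r => by
    obtain ⟨r', hr', hd⟩ := exists_dimZero_generization r
    refine ⟨r', hr', ?_⟩
    have h := (hdim _ ((yon S).map s ≫ p) (s ≫ π)
      (RepWith.comp ((repWith_yon_map_iff (P := @Etale) s).2 inferInstance) he)
      (by rw [Functor.map_comp, hπ, Category.assoc]) r').1 hd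
    exact h
  obtain ⟨N, hN, hηN, hNle⟩ := exists_isAffineOpen_mem_and_subset (x := η) (U := N₁ ⊓ N₂) ⟨hη₁, hη₂⟩
  exact ⟨N, hηN, hN, isFiniteMor_restrict_of_finite g p he hs π hπ sqR hN
    (isFinite_restrict_le π.left (hNle.trans inf_le_left) hf₁)
    (isFinite_restrict_le (s.left ≫ π.left) (hNle.trans inf_le_right) hf₂)⟩

/-- a separated space whose generic points form a finite fibre over a maximal point is finite nearby -/
theorem exists_finite_over_of_separated (hP : IsAlgSpace P) {V : Over S} [IsAffine V.left]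
    (g : P ⟶ (yon S).obj V) (hg : LocP @LocallyOfFiniteType g) (hsep : IsSeparatedMor g) {η : ↥V.left}
    (hmax : ∀ z, z ⤳ η → z = η)
    (hdim : ∀ (W : Over S) (p : (yon S).obj W ⟶ P) (π : W ⟶ V), RepWith @Etale p →
      (yon S).map π = p ≫ g → ∀ w, (ringKrullDim ↥(W.left.presheaf.stalk w) = 0 ↔ π.left w = η))
    (hfinF : (Points.map g ⁻¹' {Points.ofScheme V η}).Finite) :
    ∃ (N : V.left.Opens), η ∈ N ∧ IsAffineOpen N ∧ ∀ (P' : Sp S) (fst : P' ⟶ P)
      (snd : P' ⟶ (yon S).obj (Over.mk (N.ι ≫ V.hom))),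
      IsPullback fst snd g ((yon S).map (Over.homMk N.ι : Over.mk (N.ι ≫ V.hom) ⟶ V)) → IsFiniteMor snd := by
  choose B hBo hBc hBm _ using fun z : Points P => exists_isOpen_isCompact_nhd hP (x := z) isOpen_univ trivial
  let O : Set (Points P) := ⋃ z ∈ hfinF.toFinset, B z
  have hO : IsOpen O := isOpen_biUnion fun z _ => hBo z
  have hFO : ∀ z, Points.map g z = Points.ofScheme V η → z ∈ O := fun z hz =>
    Set.mem_biUnion (hfinF.mem_toFinset.2 hz) (hBm z)
  let j := openSubspaceι P O
  have hj : RepWith @IsOpenImmersion j := repWith_openSubspaceι P hO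
  have hP1 : IsAlgSpace (openSubspace P O) := isAlgSpace_openSubspace hP hO
  have : CompactSpace (Points (openSubspace P O)) := ⟨by
    rw [(isEmbedding_map_of_immersion hP
      (RepWith.mono (fun _ _ f (_ : IsOpenImmersion f) => (inferInstance : IsImmersion f)) hj)).1.isCompact_iff,
      Set.image_univ, range_openSubspaceι]
    exact hfinF.toFinset.isCompact_biUnion fun z _ => hBc z⟩
  have hje : RepWith @Etale j :=
    RepWith.mono (fun _ _ f (_ : IsOpenImmersion f) => (inferInstance : Etale f)) hj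
  obtain ⟨N, hηN, hN, hfin⟩ := exists_finite_over_of_compact hP1 (j ≫ g)
    (fun U V' a b h ha hb w => hg (a ≫ j) b h (RepWith.comp ha hje) hb (by rw [Category.assoc]; exact w))
    hmax (fun W p π hp hπ => hdim W (p ≫ j) π (RepWith.comp hp hje) (by rw [Category.assoc]; exact hπ))
  refine ⟨N, hηN, hN, fun P' fst snd sq => ?_⟩
  let jN : Over.mk (N.ι ≫ V.hom) ⟶ V := Over.homMk N.ι
  have hjN : RepWith @IsOpenImmersion ((yon S).map jN) :=
    (repWith_yon_map_iff (P := @IsOpenImmersion) jN).2 (inferInstanceAs (IsOpenImmersion N.ι))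
  have sqi := IsPullback.of_hasPullback j fst
  let i' := pullback.snd j fst
  have hfi : RepWith @IsFinite (i' ≫ snd) :=
    (isFiniteMor_iff_repWith _).1 (hfin _ _ _ (sqi.paste_vert sq))
  have hi' : RepWith @IsFinite i' := repWith_of_comp @IsFinite hfi
    (RepWith.mono (fun _ _ f (_ : IsClosedImmersion f) => (inferInstance : IsFinite f))
      (isSeparatedMor_of_isPullback sq hsep))
  have hio : RepWith @IsOpenImmersion i' := RepWith.baseChange sqi hj
  have hfe : RepWith @Etale fst := RepWith.mono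
    (fun _ _ f (_ : IsOpenImmersion f) => (inferInstance : Etale f)) (RepWith.baseChange sq.flip hjN)
  -- the inclusion is surjective on every chart
  have key : ∀ (T : Over S) (e : (yon S).obj T ⟶ P'), RepWith @Etale e → ∀ t : ↥T.left,
      Points.ofPt e t ∈ Set.range (Points.map i') := by
    intro T e he t
    obtain ⟨t0, ht0, hd⟩ := exists_dimZero_generization t
    obtain ⟨π, hπ⟩ := (yon S).map_surjective (e ≫ fst ≫ g)
    have hη : π.left t0 = η :=
      (hdim T (e ≫ fst) π (RepWith.comp he hfe) (by rw [hπ, Category.assoc]) t0).1 hd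
    have hin : Points.map fst (Points.ofPt e t0) ∈ Set.range (Points.map j) := by
      rw [range_openSubspaceι]
      refine hFO _ ?_
      rw [Points.map_ofPt, Points.map_ofPt, Category.assoc, ← hπ, ← Category.comp_id ((yon S).map π),
        ofPt_map, Points.ofPt_eq_map_ofScheme, Points.map_id, hη]
    obtain ⟨z, hz⟩ := hin
    obtain ⟨z', -, hz'⟩ := exists_point_of_isPullback sqi hz
    have sqT := hi'.1.isPullback e
    have : IsFinite (hi'.1.snd e).left := hi'.property_snd e
    have e1 : Points.ofPt e ⁻¹' Set.range (Points.map i') = Set.range (hi'.1.snd e).left := by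
      ext u
      constructor
      · rintro ⟨a, ha⟩
        rw [Points.ofPt_eq_map_ofScheme] at ha
        obtain ⟨v, -, hv⟩ := exists_point_of_isPullback sqT ha
        obtain ⟨r, rfl⟩ := (Points.schemeEquiv _).surjective v
        exact ⟨r, (Points.schemeEquiv T).injective ((map_yon_map_ofScheme _ r).symm.trans hv)⟩
      · rintro ⟨r, rfl⟩
        exact ⟨Points.ofPt (hi'.1.fst e) r, by rw [Points.map_ofPt, sqT.w, ofPt_map]⟩
    have h0 : t0 ∈ Points.ofPt e ⁻¹' Set.range (Points.map i') := ⟨z', hz'⟩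
    show t ∈ Points.ofPt e ⁻¹' Set.range (Points.map i')
    rw [e1] at h0 ⊢
    exact ht0.mem_closed (hi'.1.snd e).left.isClosedMap.isClosed_range h0
  have hP' : IsAlgSpace P' := isAlgSpace_of_isPullback (IsAlgSpace.yon_obj V).diag hP (IsAlgSpace.yon_obj _) sq
  have : Mono i' := mono_of_repWith (fun _ _ f (_ : IsOpenImmersion f) => (inferInstance : Mono f)) hio
  have hsurj : Function.Surjective (Points.map i') := fun x => by
    obtain ⟨T, e, he, hes⟩ := hP'.atlas
    obtain ⟨t, rfl⟩ := surjective_ofPt e hes x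
    exact key T e he t
  have : IsIso i' := isIso_of_repWith_isomorphisms ⟨hio.1, fun T W c fst' snd' sq' => by
    have : IsOpenImmersion snd'.left := hio.2 c fst' snd' sq'
    have : Surjective snd'.left := (repWith_surjective_of_surjective_map hio.1 hsurj).2 c fst' snd' sq'
    show IsIso snd'.left
    exact (isIso_iff_isOpenImmersion_and_epi_base _).2
      ⟨inferInstance, (TopCat.epi_iff_surjective _).2 snd'.left.surjective⟩⟩
  exact (isFiniteMor_iff_repWith snd).2
    ((MorphismProperty.cancel_left_of_respectsIso (RepWith @IsFinite) i' snd).1 hfi)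

/-- above an elementary neighbourhood the fibre injects into the fibre of the base point -/
theorem finite_fibre_of_elem {X Y : Sp S} (f : X ⟶ Y) {U V : Over S} {a : (yon S).obj U ⟶ Y}
    {u : ↥U.left} {y : Points Y} (ha : IsElemEtaleNbhd a u y) (jV : V ⟶ U) [Mono jV] (η : ↥V.left)
    (hη : jV.left η = u) (hfin : {x : Points X | Points.map f x = y}.Finite) :
    (Points.map (pullback.snd f ((yon S).map jV ≫ a)) ⁻¹' {Points.ofScheme V η}).Finite := by
  let b := (yon S).map jV ≫ a
  have sq := IsPullback.of_hasPullback f b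
  have sqU := IsPullback.of_hasPullback f a
  let k : Over.mk (U.left.fromSpecResidueField u ≫ U.hom) ⟶ U :=
    Over.homMk (U.left.fromSpecResidueField u) rfl
  have hm : Mono ((yon S).map k ≫ a) := FieldPt.toHom_ofPt a u ▸ ha.mono
  obtain ⟨c, hc⟩ : ∃ c, Points.map ((yon S).map k) c = Points.ofScheme U u := by
    let t : ↥(Over.mk (U.left.fromSpecResidueField u ≫ U.hom)).left :=
      IsLocalRing.closedPoint (U.left.residueField u)
    refine ⟨Points.ofScheme _ t, ?_⟩
    rw [map_yon_map_ofScheme]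
    exact congrArg _ (Scheme.fromSpecResidueField_apply u t)
  have sq2 := IsPullback.of_hasPullback (pullback.snd f a) ((yon S).map k)
  let π₁ := pullback.fst (pullback.snd f a) ((yon S).map k)
  have hQ := sq2.paste_horiz sqU
  have : Mono (π₁ ≫ pullback.fst f a) :=
    ⟨fun {Z} g₁ g₂ h => hQ.hom_ext h ((cancel_mono ((yon S).map k ≫ a)).1 (by
      rw [Category.assoc, Category.assoc, ← hQ.w]
      exact (Category.assoc _ _ _).symm.trans ((congrArg (· ≫ f) h).trans (Category.assoc _ _ _))))⟩
  let l := sqU.lift (pullback.fst f b) (pullback.snd f b ≫ (yon S).map jV)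
    (by rw [Category.assoc]; exact sq.w)
  have hl1 : l ≫ pullback.fst f a = pullback.fst f b := sqU.lift_fst _ _ _
  have hl2 : l ≫ pullback.snd f a = pullback.snd f b ≫ (yon S).map jV := sqU.lift_snd _ _ _
  have : Mono l := ⟨fun {Z} g₁ g₂ h => sq.hom_ext (by rw [← hl1, reassoc_of% h])
    ((cancel_mono ((yon S).map jV)).1 (by rw [Category.assoc, Category.assoc, ← hl2, reassoc_of% h]))⟩
  have lift : ∀ z, Points.map (pullback.snd f b) z = Points.ofScheme V η →
      ∃ q, Points.map π₁ q = Points.map l z := fun z hz => by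
    obtain ⟨q, hq, -⟩ := exists_point_of_isPullback sq2 (x := Points.map l z) (y := c) (by
      rw [← Points.map_comp, hl2, Points.map_comp, hz, map_yon_map_ofScheme, hc, hη])
    exact ⟨q, hq⟩
  refine Set.Finite.of_finite_image (f := Points.map (pullback.fst f b)) (hfin.subset ?_) ?_
  · rintro _ ⟨z, hz, rfl⟩
    show Points.map f (Points.map (pullback.fst f b) z) = y
    rw [← Points.map_comp, sq.w, Points.map_comp, show Points.map _ z = _ from hz,
      ← Points.ofPt_eq_map_ofScheme, ofPt_map, hη, ha.ofPt_eq]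
  · intro z hz z' hz' e
    obtain ⟨q, hq⟩ := lift z hz
    obtain ⟨q', hq'⟩ := lift z' hz'
    have hqq : q = q' := injective_map_of_mono (π₁ ≫ pullback.fst f a) (by
      rw [Points.map_comp, Points.map_comp, hq, hq', ← Points.map_comp, ← Points.map_comp, hl1]
      exact e)
    exact injective_map_of_mono l (by rw [← hq, ← hq', hqq])

/-- for a decent target, finitely many generic points on both sides and fibres over them made of generic
points, the morphism is finite over a dense open subspace -/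
theorem exists_chart_finite_of_codimZero {X Y : AlgSp.Space S} (f : X ⟶ Y)
    (hf : LocP @LocallyOfFiniteType f.hom) (hY : IsDecent Y.obj)
    (hX0 : {x : Points X.obj | HasAt (fun U u => ringKrullDim ↥(U.presheaf.stalk u) = 0) X.obj x}.Finite)
    (hY0 : {y : Points Y.obj | HasAt (fun U u => ringKrullDim ↥(U.presheaf.stalk u) = 0) Y.obj y}.Finite)
    (hpre : ∀ x : Points X.obj, HasAt (fun U u => ringKrullDim ↥(U.presheaf.stalk u) = 0) X.obj x ↔
      HasAt (fun U u => ringKrullDim ↥(U.presheaf.stalk u) = 0) Y.obj (Points.map f.hom x))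
    (hqs : IsQuasiCompactMor f.hom ∨ IsSeparatedMor f.hom) (y : Points Y.obj)
    (hy : HasAt (fun U u => ringKrullDim ↥(U.presheaf.stalk u) = 0) Y.obj y) :
    ∃ (V : Over S) (b : (yon S).obj V ⟶ Y.obj), RepWith @Etale b ∧ y ∈ Set.range (Points.ofPt b) ∧
      IsFiniteMor (pullback.snd f.hom b) := by
  obtain ⟨U, a, u, hU, ha, -⟩ := exists_elemNbhd Y.property hY y
  have hu : ∀ z, z ⤳ u → z = u := eq_of_specializes_stalk u
    ((hasAt_dimZero_iff Y.property a ha.etale u).1 (by rw [ha.ofPt_eq]; exact hy))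
  let bad : Set ↥U.left := {z | ringKrullDim ↥(U.left.presheaf.stalk z) = 0 ∧ z ≠ u}
  have hbad : bad.Finite := by
    refine (hY0.biUnion (t := fun y' => Points.ofPt a ⁻¹' {y'}) fun y' _ => ?_).subset fun z hz =>
      Set.mem_iUnion₂.2 ⟨_, (hasAt_dimZero_iff Y.property a ha.etale z).2 hz.1, rfl⟩
    obtain ⟨q, rfl, -, hqc⟩ := hY y'
    have h := finiteFibres_of_qc q.toHom hqc U a hU ha.etale
    rwa [ptOfHom_toHom] at h
  have huC : u ∉ ⋃ z ∈ bad, closure {z} := fun h => by
    obtain ⟨z, hz, hzu⟩ := Set.mem_iUnion₂.1 h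
    exact hz.2 (hu z (specializes_iff_mem_closure.2 hzu))
  obtain ⟨O, hO, huO, hOC⟩ := exists_isAffineOpen_mem_and_subset (x := u)
    (U := ⟨(⋃ z ∈ bad, closure {z})ᶜ, (hbad.isClosed_biUnion fun _ _ => isClosed_closure).isOpen_compl⟩) huC
  let V : Over S := Over.mk (O.ι ≫ U.hom)
  let jV : V ⟶ U := Over.homMk O.ι
  have : IsAffine V.left := hO
  have hjV : IsOpenImmersion jV.left := inferInstanceAs (IsOpenImmersion O.ι)
  have : Mono jV := (Over.forget S).mono_of_mono_map (inferInstanceAs (Mono O.ι))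
  let b := (yon S).map jV ≫ a
  have hb : RepWith @Etale b :=
    RepWith.comp ((repWith_yon_map_iff (P := @Etale) jV).2 inferInstance) ha.etale
  let η : ↥V.left := (⟨u, huO⟩ : O)
  have hby : Points.ofPt b η = y := (ofPt_map jV a η).trans ha.ofPt_eq
  have hmax : ∀ z, z ⤳ η → z = η := fun z hz => Subtype.ext (hu _ (hz.map O.ι.continuous))
  have hone : ∀ z : ↥V.left, ringKrullDim ↥(V.left.presheaf.stalk z) = 0 → z = η := fun z hz => by
    by_contra hne
    have : (O.ι z : ↥U.left) ∈ bad := ⟨(stalk_dimZero_iff _).2 fun t ht => by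
      have := eq_of_specializes_stalk z hz ⟨t, ht.mem_open O.2 z.2⟩ ((subtype_specializes_iff _ _).2 ht)
      exact congrArg Subtype.val this, fun e => hne (Subtype.ext e)⟩
    exact hOC z.2 (Set.mem_biUnion this (subset_closure rfl))
  have sq := IsPullback.of_hasPullback f.hom b
  have hP : IsAlgSpace (pullback f.hom b) :=
    isAlgSpace_of_isPullback Y.property.diag X.property (IsAlgSpace.yon_obj V) sq
  have hg : LocP @LocallyOfFiniteType (pullback.snd f.hom b) :=
    locP_of_isPullback etLocal_lft X.property Y.property hP sq hf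
  have hdim : ∀ (W : Over S) (p : (yon S).obj W ⟶ pullback f.hom b) (π : W ⟶ V), RepWith @Etale p →
      (yon S).map π = p ≫ pullback.snd f.hom b → ∀ w,
      (ringKrullDim ↥(W.left.presheaf.stalk w) = 0 ↔ π.left w = η) := by
    intro W p π hp hπ w
    have hq : RepWith @Etale (p ≫ pullback.fst f.hom b) := RepWith.comp hp (RepWith.baseChange sq.flip hb)
    rw [← hasAt_dimZero_iff X.property _ hq w, hpre, Points.map_ofPt, Category.assoc, sq.w, ← Category.assoc,
      ← hπ, ofPt_map, hasAt_dimZero_iff Y.property b hb]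
    refine ⟨hone _, fun e => ?_⟩
    rw [e]
    exact (stalk_dimZero_iff η).2 hmax
  obtain ⟨N, hηN, hN, hfin⟩ : ∃ (N : V.left.Opens), η ∈ N ∧ IsAffineOpen N ∧ ∀ (P' : Sp S)
      (fst : P' ⟶ pullback f.hom b) (snd : P' ⟶ (yon S).obj (Over.mk (N.ι ≫ V.hom))),
      IsPullback fst snd (pullback.snd f.hom b)
        ((yon S).map (Over.homMk N.ι : Over.mk (N.ι ≫ V.hom) ⟶ V)) → IsFiniteMor snd := by
    rcases hqs with hqc | hsep
    · have : CompactSpace (Points (pullback f.hom b)) := compactSpace_of_isQuasiCompactMor hqc sq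
      exact exists_finite_over_of_compact hP _ hg hmax hdim
    refine exists_finite_over_of_separated hP _ hg (isSeparatedMor_of_isPullback sq hsep) hmax hdim ?_
    exact ((finite_fibre_of_elem f.hom ha jV η rfl
      (hX0.subset fun x hx => (hpre x).2 (by rw [show Points.map f.hom x = y from hx]; exact hy))))
  let jN : Over.mk (N.ι ≫ V.hom) ⟶ V := Over.homMk N.ι
  have hjN : Etale jN.left := inferInstanceAs (Etale N.ι)
  exact ⟨_, (yon S).map jN ≫ b, RepWith.comp ((repWith_yon_map_iff (P := @Etale) jN).2 hjN) hb,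
    ⟨(⟨η, hηN⟩ : N), (ofPt_map _ _ _).trans hby⟩, isFiniteMor_snd_restrict Y.property f.hom b N hfin⟩

/-- finiteness over a dense open subspace -/
theorem exists_dense_finite_of_codimZero {X Y : AlgSp.Space S} (f : X ⟶ Y)
    (hf : LocP @LocallyOfFiniteType f.hom) (hY : IsDecent Y.obj)
    (hX0 : {x : Points X.obj | HasAt (fun U u => ringKrullDim ↥(U.presheaf.stalk u) = 0) X.obj x}.Finite)
    (hY0 : {y : Points Y.obj | HasAt (fun U u => ringKrullDim ↥(U.presheaf.stalk u) = 0) Y.obj y}.Finite)
    (hpre : ∀ x : Points X.obj, HasAt (fun U u => ringKrullDim ↥(U.presheaf.stalk u) = 0) X.obj x ↔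
      HasAt (fun U u => ringKrullDim ↥(U.presheaf.stalk u) = 0) Y.obj (Points.map f.hom x))
    (hqs : IsQuasiCompactMor f.hom ∨ IsSeparatedMor f.hom) :
    ∃ (V X' : AlgSp.Space S) (j : V ⟶ Y) (fst : X' ⟶ V) (snd : X' ⟶ X), RepWith @IsOpenImmersion j.hom ∧
      Dense (Set.range (Points.map j.hom)) ∧ IsPullback fst.hom snd.hom j.hom f.hom ∧
      IsFiniteMor fst.hom := by
  obtain ⟨n, φ, -, hφ⟩ := hY0.fin_param
  choose V b hb hmem hfin using fun i : ULift.{u} (Fin n) =>
    exists_chart_finite_of_codimZero f hf hY hX0 hY0 hpre hqs (φ i.down)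
      (hφ.subset (Set.mem_range_self i.down))
  obtain ⟨Y', X', j, fst, snd, hj, hsub, hsq, hfm⟩ := exists_finite_over_image f V b hb hfin
  refine ⟨Y', X', j, fst, snd, hj, dense_iff_inter_open.2 fun O hO hne => ?_, hsq, hfm⟩
  obtain ⟨x, hx⟩ := hne
  obtain ⟨U, a, hae, has⟩ := Y.property.atlas
  obtain ⟨w, rfl⟩ := surjective_ofPt a has x
  obtain ⟨w0, hw0, hd⟩ := exists_dimZero_generization w
  have hy0 : Points.ofPt a w0 ∈ {y : Points Y.obj | HasAt (fun U u => ringKrullDim ↥(U.presheaf.stalk u) = 0) Y.obj y} :=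
    (hasAt_dimZero_iff Y.property a hae w0).2 hd
  rw [← hφ] at hy0
  obtain ⟨i, hi⟩ := hy0
  refine ⟨Points.ofPt a w0, (hw0.map (Points.continuous_ofPt a)).mem_open hO hx,
    hsub (Set.mem_iUnion.2 ⟨⟨i⟩, ?_⟩)⟩
  exact hi ▸ hmem ⟨i⟩

end Groth.Agent.AlgSpLib
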