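import Groth.Agent.EGA43.Separating.DenseScheme

/-!
Schematically dense opens pull back along flat morphisms locally of finite presentation.
-/

universe u

open CategoryTheory AlgebraicGeometry TensorProduct
open Groth.Agent.EGA43.Separating

noncomputable section

namespace Groth.Agent.AlgSpLib

set_option backward.isDefEq.respectTransparency false

theorem denseCond_image_of_flat_fp {R B : Type u} [CommRing R] [CommRing B] [Algebra R B]
    [Algebra.FinitePresentation R B] [Module.Flat R B] {J : Set R} (h : DenseCond J) :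
    DenseCond (algebraMap R B '' J) := by
  have h1 := (sepAt_loc_iff (A := R) (R := R) J B).1 (sepAt_of_flat_fp (A := R) (R := R) ((sep_loc_iff J).2 h) B)
  refine DenseCond.of_injective (Algebra.TensorProduct.rid R R B).symm.toRingEquiv.toRingHom
    (Algebra.TensorProduct.rid R R B).symm.injective ?_
  refine h1.mono_radical fun x hx => Ideal.le_radical (Ideal.subset_span ?_)
  obtain ⟨b, hb, rfl⟩ := hx
  refine ⟨algebraMap R B b, ⟨b, hb, rfl⟩, ?_⟩
  show (Algebra.TensorProduct.rid R R B).symm (algebraMap R B b) = (1 : B) ⊗ₜ[R] b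
  rw [Algebra.TensorProduct.rid_symm_apply, ← mul_one (algebraMap R B b), ← Algebra.smul_def, TensorProduct.smul_tmul, smul_eq_mul, mul_one]

theorem isSchematicallyDense_preimage_of_flat_lfp {X X' : Scheme.{u}} (f : X' ⟶ X) [Flat f]
    [LocallyOfFinitePresentation f] (U : X.Opens) (hU : CInt.IsSchematicallyDense U) :
    CInt.IsSchematicallyDense (f ⁻¹ᵁ U) := by
  refine dense_of_denseCond fun y => ?_
  obtain ⟨S₀, hS₀, hyS, -⟩ := exists_isAffineOpen_mem_and_subset (X := X) (x := f y) (U := ⊤) trivial
  obtain ⟨V, hV, hyV, hVle⟩ := exists_isAffineOpen_mem_and_subset (X := X') (x := y) (U := f ⁻¹ᵁ S₀) hyS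
  let R := Γ(X, S₀)
  let B := Γ(X', V)
  let _ : Algebra R B := (f.appLE S₀ V hVle).hom.toAlgebra
  have : Module.Flat R B := RingHom.flat_algebraMap_iff.1 (Flat.flat_appLE f hS₀ hV hVle)
  have : Algebra.FinitePresentation R B :=
    RingHom.finitePresentation_algebraMap.1 (f.finitePresentation_appLE hS₀ hV hVle)
  refine ⟨B, inferInstance, hV.fromSpec, inferInstance, hV.range_fromSpec.ge hyV, ?_⟩
  rw [← Scheme.Hom.comp_preimage, ← hS₀.SpecMap_appLE_fromSpec f hV hVle, Scheme.Hom.comp_preimage]
  exact (denseCond_preimage_iff (f.appLE S₀ V hVle).hom _).2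
    (denseCond_image_of_flat_fp (B := B) (denseCond_of_dense hU hS₀.fromSpec))

end Groth.Agent.AlgSpLib
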