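import Groth.Agent.AlgSpLib.GeomReducedPt
import Groth.Agent.AlgSpLib.PointsTop
import Mathlib.RingTheory.TensorProduct.Basic
import Mathlib.FieldTheory.IntermediateField.Adjoin.Basic

/-!
Quasi-compact opens of the base change to an algebraic field extension come from a finite subextension.
-/

universe u

open CategoryTheory CategoryTheory.Limits AlgebraicGeometry TensorProduct
open AlgSp

noncomputable section

namespace Groth.Agent.AlgSpLib

set_option backward.isDefEq.respectTransparency.types false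
set_option backward.isDefEq.respectTransparency false

theorem isPullback_chart_prod {S : Scheme.{u}} {F : Sp S} {U T W : Over S} (a : (yon S).obj U ⟶ F)
    (p₁ : W ⟶ U) (p₂ : W ⟶ T) (hW : IsPullback p₁.left p₂.left U.hom T.hom) :
    IsPullback ((yon S).map p₁) (prod.lift ((yon S).map p₁ ≫ a) ((yon S).map p₂)) a
      (prod.fst : F ⨯ (yon S).obj T ⟶ F) := by
  refine isPullback_of_yon (prod.lift_fst _ _).symm fun V x y e => ?_
  obtain ⟨x, rfl⟩ := (yon S).map_surjective x
  obtain ⟨t, ht⟩ := (yon S).map_surjective (y ≫ prod.snd)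
  let l : V ⟶ W := Over.homMk (hW.lift x.left t.left ((Over.w x).trans (Over.w t).symm)) (by
    rw [← Over.w p₁, hW.lift_fst_assoc, Over.w x])
  have l1 : l ≫ p₁ = x := Over.OverMorphism.ext (hW.lift_fst _ _ _)
  have l2 : l ≫ p₂ = t := Over.OverMorphism.ext (hW.lift_snd _ _ _)
  refine ⟨(yon S).map l, ⟨by rw [← Functor.map_comp, l1], ?_⟩, fun m hm => ?_⟩
  · apply Limits.prod.hom_ext
    · rw [Category.assoc, prod.lift_fst, ← Category.assoc, ← Functor.map_comp, l1, e]
    · rw [Category.assoc, prod.lift_snd, ← Functor.map_comp, l2, ht]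
  · obtain ⟨m, rfl⟩ := (yon S).map_surjective m
    have m1 : m ≫ p₁ = x := (yon S).map_injective (by rw [Functor.map_comp]; exact hm.1)
    have m2 : m ≫ p₂ = t := (yon S).map_injective (by
      rw [Functor.map_comp, ht, ← hm.2, Category.assoc, prod.lift_snd])
    exact congrArg _ (Over.OverMorphism.ext (hW.hom_ext
      ((congr($(m1).left)).trans (congr($(l1).left)).symm)
      ((congr($(m2).left)).trans (congr($(l2).left)).symm)))

variable {k : Type u} [Field k]

/-- the point of `Spec` of a field extension -/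
abbrev specF' (k L : Type u) [Field k] [Field L] [Algebra k L] : Over (Spec (CommRingCat.of k)) :=
  Over.mk (Spec.map (CommRingCat.ofHom (algebraMap k L)))

theorem exists_affine_chart_field {X : Sp (Spec (CommRingCat.of k))} (hX : IsAlgSpace X) (x : Points X) :
    ∃ (A : Type u) (_ : CommRing A) (_ : Algebra k A)
      (a : (yon _).obj (Over.mk (Spec.map (CommRingCat.ofHom (algebraMap k A)))) ⟶ X),
      RepWith @Etale a ∧ x ∈ Set.range (Points.ofPt a) := by
  obtain ⟨U, p, hpe, hps⟩ := hX.atlas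
  obtain ⟨t, rfl⟩ := surjective_ofPt p hps x
  obtain ⟨O, hO, htO, -⟩ := exists_isAffineOpen_mem_and_subset (X := U.left) (x := t) (U := ⊤) trivial
  obtain ⟨φ, hφ⟩ := Spec.map_surjective (hO.fromSpec ≫ U.hom)
  letI := φ.hom.toAlgebra
  let m : Over.mk (Spec.map (CommRingCat.ofHom (algebraMap k Γ(U.left, O)))) ⟶ U :=
    Over.homMk hO.fromSpec (hφ.symm.trans rfl)
  have hm : Etale m.left := inferInstanceAs (Etale hO.fromSpec)
  refine ⟨Γ(U.left, O), inferInstance, inferInstance, (yon _).map m ≫ p,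
    RepWith.comp ((repWith_yon_map_iff _ _).2 hm) hpe, ?_⟩
  obtain ⟨z, hz⟩ : t ∈ Set.range m.left := by
    rw [show Set.range m.left = O from hO.range_fromSpec]; exact htO
  exact ⟨z, (ofPt_map m p z).trans (congrArg _ hz)⟩

section level

variable (A : Type u) [CommRing A] [Algebra k A] (L : Type u) [Field L] [Algebra k L]

/-- the base change of an affine chart -/
abbrev chW : Over (Spec (CommRingCat.of k)) := Over.mk (Spec.map (CommRingCat.ofHom (algebraMap k (A ⊗[k] L))))

/-- first projection -/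
def chP₁ : chW (k := k) A L ⟶ Over.mk (Spec.map (CommRingCat.ofHom (algebraMap k A))) :=
  Over.homMk (Spec.map (CommRingCat.ofHom Algebra.TensorProduct.includeLeftRingHom)) (by
    simp only [Over.mk_hom, ← Spec.map_comp, ← CommRingCat.ofHom_comp]
    congr 2)

/-- second projection -/
def chP₂ : chW (k := k) A L ⟶ specF' k L :=
  Over.homMk (Spec.map (CommRingCat.ofHom
    (Algebra.TensorProduct.includeRight : L →ₐ[k] A ⊗[k] L).toRingHom)) (by
    simp only [Over.mk_hom, ← Spec.map_comp, ← CommRingCat.ofHom_comp]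
    congr 2
    exact (Algebra.TensorProduct.includeRight : L →ₐ[k] A ⊗[k] L).comp_algebraMap)

theorem isPullback_chW : IsPullback (chP₁ (k := k) A L).left (chP₂ A L).left
    (Spec.map (CommRingCat.ofHom (algebraMap k A))) (Spec.map (CommRingCat.ofHom (algebraMap k L))) :=
  isPullback_SpecMap_of_isPushout _ _ _ _ (CommRingCat.isPushout_tensorProduct k A L)

variable {X : Sp (Spec (CommRingCat.of k))}
  (a : (yon _).obj (Over.mk (Spec.map (CommRingCat.ofHom (algebraMap k A)))) ⟶ X)

/-- the chart of the product -/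
def chA : (yon _).obj (chW (k := k) A L) ⟶ X ⨯ (yon _).obj (specF' k L) :=
  prod.lift ((yon _).map (chP₁ A L) ≫ a) ((yon _).map (chP₂ A L))

theorem isPullback_chA : IsPullback ((yon _).map (chP₁ (k := k) A L)) (chA A L a) a
    (prod.fst : X ⨯ (yon _).obj (specF' k L) ⟶ X) :=
  isPullback_chart_prod a (chP₁ A L) (chP₂ A L) (isPullback_chW A L)

theorem etale_chA (ha : RepWith @Etale a) : RepWith @Etale (chA A L a) :=
  RepWith.baseChange (isPullback_chA A L a) ha

variable {L' : Type u} [Field L'] [Algebra k L'] (ψ : L' →ₐ[k] L)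

/-- change of level -/
def chMap : chW (k := k) A L ⟶ chW A L' :=
  Over.homMk (Spec.map (CommRingCat.ofHom (Algebra.TensorProduct.map (AlgHom.id k A) ψ).toRingHom)) (by
    simp only [Over.mk_hom, ← Spec.map_comp, ← CommRingCat.ofHom_comp]
    congr 2
    exact (Algebra.TensorProduct.map (AlgHom.id k A) ψ).comp_algebraMap)

theorem chMap_p₁ : chMap A L ψ ≫ chP₁ A L' = chP₁ A L := by
  apply Over.OverMorphism.ext
  simp only [Over.comp_left, chMap, chP₁, Over.homMk_left, ← Spec.map_comp, ← CommRingCat.ofHom_comp]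
  congr 2
  ext x
  simp

theorem chMap_p₂ (g : specF' k L ⟶ specF' k L') (hg : g.left = Spec.map (CommRingCat.ofHom ψ.toRingHom)) :
    chMap A L ψ ≫ chP₂ A L' = chP₂ A L ≫ g := by
  apply Over.OverMorphism.ext
  simp only [Over.comp_left, chMap, chP₂, Over.homMk_left, hg, ← Spec.map_comp, ← CommRingCat.ofHom_comp]
  congr 2

theorem isPullback_chMap (g : specF' k L ⟶ specF' k L') (hg : g.left = Spec.map (CommRingCat.ofHom ψ.toRingHom)) :
    IsPullback ((yon _).map (chMap A L ψ)) (chA A L a) (chA A L' a)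
      (prod.map (𝟙 X) ((yon _).map g)) := by
  refine IsPullback.of_right ?_ ?_ (isPullback_chA A L' a)
  · rw [← Functor.map_comp, chMap_p₁, prod.map_fst, Category.comp_id]
    exact isPullback_chA A L a
  · apply Limits.prod.hom_ext
    · simp only [chA, Category.assoc, prod.lift_fst, prod.map_fst, Category.comp_id]
      rw [← Category.assoc, ← Functor.map_comp, chMap_p₁]
    · simp only [chA, Category.assoc, prod.lift_snd, prod.map_snd, prod.lift_snd_assoc]
      rw [← Functor.map_comp, ← Functor.map_comp, chMap_p₂ A L ψ g hg]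

end level

theorem exists_intermediate_preimage {A K : Type u} [CommRing A] [Algebra k A] [Field K] [Algebra k K]
    [Algebra.IsAlgebraic k K] (f : A ⊗[k] K) :
    ∃ E : IntermediateField k K, FiniteDimensional k E ∧ ∀ (F : IntermediateField k K), E ≤ F →
      f ∈ Set.range (Algebra.TensorProduct.map (AlgHom.id k A) F.val) := by
  induction f using TensorProduct.induction_on with
  | zero => exact ⟨⊥, inferInstance, fun F _ => ⟨0, map_zero _⟩⟩
  | tmul a x =>
    refine ⟨IntermediateField.adjoin k {x}, IntermediateField.adjoin.finiteDimensional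
      (Algebra.IsIntegral.isIntegral x), fun F hF => ⟨a ⊗ₜ ⟨x, hF (IntermediateField.mem_adjoin_simple_self k x)⟩, ?_⟩⟩
    simp
  | add y z hy hz =>
    obtain ⟨E, hE, h⟩ := hy
    obtain ⟨E', hE', h'⟩ := hz
    refine ⟨E ⊔ E', inferInstance, fun F hF => ?_⟩
    obtain ⟨y', rfl⟩ := h F (le_sup_left.trans hF)
    obtain ⟨z', rfl⟩ := h' F (le_sup_right.trans hF)
    exact ⟨y' + z', map_add _ _ _⟩

theorem exists_descend_open (X : Space (Spec (CommRingCat.of k))) (K : Type u) [Field K] [Algebra k K]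
    [Algebra.IsAlgebraic k K]
    (V : Set (Points (X.obj ⨯ (yon _).obj (specF' k K)))) (hV : IsOpen V) (hVc : IsCompact V) :
    ∃ (k' : IntermediateField k K) (_ : FiniteDimensional k k') (g : specF' k K ⟶ specF' k k'),
      g.left = Spec.map (CommRingCat.ofHom k'.val.toRingHom) ∧
      ∃ V' : Set (Points (X.obj ⨯ (yon _).obj (specF' k k'))), IsOpen V' ∧ IsCompact V' ∧
        Points.map (prod.map (𝟙 X.obj) ((yon _).map g)) ⁻¹' V' = V := by
  have step : ∀ x : V, ∃ (A : Type u) (_ : CommRing A) (_ : Algebra k A)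
      (a : (yon _).obj (Over.mk (Spec.map (CommRingCat.ofHom (algebraMap k A)))) ⟶ X.obj) (f : A ⊗[k] K),
      RepWith @Etale a ∧ x.1 ∈ Points.ofPt (chA A K a) '' (↑(PrimeSpectrum.basicOpen f) : Set (PrimeSpectrum _)) ∧
        Points.ofPt (chA A K a) '' (↑(PrimeSpectrum.basicOpen f) : Set (PrimeSpectrum _)) ⊆ V := by
    rintro ⟨x, hx⟩
    obtain ⟨A, _, _, a, ha, t, ht⟩ := exists_affine_chart_field X.property (Points.map prod.fst x)
    obtain ⟨w, -, hw⟩ := exists_point_of_isPullback (isPullback_chA A K a) (x := Points.ofScheme _ t) (y := x)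
      ((Points.ofPt_eq_map_ofScheme _ _).symm.trans ht)
    obtain ⟨w, rfl⟩ := (Points.schemeEquiv _).surjective w
    have hw' : Points.ofPt (chA A K a) w = x := (Points.ofPt_eq_map_ofScheme _ _).trans hw
    obtain ⟨_, ⟨f, rfl⟩, hwf, hf⟩ := PrimeSpectrum.isTopologicalBasis_basic_opens.exists_subset_of_mem_open
      (show w ∈ Points.ofPt (chA A K a) ⁻¹' V by rw [Set.mem_preimage, hw']; exact hx)
      (hV.preimage (Points.continuous_ofPt _))
    exact ⟨A, inferInstance, inferInstance, a, f, ha, ⟨w, hwf, hw'⟩, Set.image_subset_iff.2 hf⟩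
  choose A hA₁ hA₂ a f ha hmem hsub using step
  have hopen : ∀ x, IsOpen (Points.ofPt (chA (A x) K (a x)) '' (↑(PrimeSpectrum.basicOpen (f x)) : Set (PrimeSpectrum _))) :=
    fun x => isOpenMap_ofPt _ (etale_chA (A x) K (a x) (ha x)) _ (PrimeSpectrum.basicOpen (f x)).isOpen
  obtain ⟨σ, hσ⟩ := hVc.elim_finite_subcover _ hopen fun x hx => Set.mem_iUnion.2 ⟨⟨x, hx⟩, hmem ⟨x, hx⟩⟩
  choose E hE hEf using fun x : V => exists_intermediate_preimage (f x)
  let k' : IntermediateField k K := ⨆ x : σ, E x.1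
  haveI : ∀ x : σ, FiniteDimensional k (E x.1) := fun x => hE x.1
  haveI hfin : FiniteDimensional k k' := IntermediateField.finiteDimensional_iSup_of_finite
  choose f' hf' using fun x : σ => hEf x.1 k' (le_iSup (fun x : σ => E x.1) x)
  let g : specF' k K ⟶ specF' k k' := Over.homMk (Spec.map (CommRingCat.ofHom k'.val.toRingHom)) (by
    simp only [Over.mk_hom, ← Spec.map_comp, ← CommRingCat.ofHom_comp]
    congr 2)
  let m := prod.map (𝟙 X.obj) ((yon _).map g)
  let V' := ⋃ x : σ, Points.ofPt (chA (A x.1) k' (a x.1)) '' (↑(PrimeSpectrum.basicOpen (f' x)) : Set (PrimeSpectrum _))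
  have hD : ∀ x : σ, (chMap (A x.1) K k'.val).left ⁻¹' (↑(PrimeSpectrum.basicOpen (f' x)) : Set (PrimeSpectrum _)) =
      (↑(PrimeSpectrum.basicOpen (f x.1)) : Set (PrimeSpectrum _)) := fun x => by
    rw [← hf' x]
    rfl
  have hcomm : ∀ (x : σ) w, Points.map m (Points.ofPt (chA (A x.1) K (a x.1)) w) =
      Points.ofPt (chA (A x.1) k' (a x.1)) ((chMap (A x.1) K k'.val).left w) := fun x w => by
    rw [Points.map_ofPt, ← (isPullback_chMap (A x.1) K (a x.1) k'.val g rfl).w, ofPt_map]
  refine ⟨k', hfin, g, rfl, V', isOpen_iUnion fun x =>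
    isOpenMap_ofPt _ (etale_chA _ k' _ (ha x.1)) _ (PrimeSpectrum.basicOpen _).isOpen,
    isCompact_iUnion fun x => (PrimeSpectrum.isCompact_basicOpen _).image (Points.continuous_ofPt _), ?_⟩
  apply Set.Subset.antisymm
  · intro y hy
    obtain ⟨x, v, hv, hvy⟩ := Set.mem_iUnion.1 hy
    obtain ⟨w, hw1, hw⟩ := exists_point_of_isPullback (isPullback_chMap (A x.1) K (a x.1) k'.val g rfl)
      (x := Points.ofScheme _ v) (y := y) ((Points.ofPt_eq_map_ofScheme _ _).symm.trans hvy)
    obtain ⟨w, rfl⟩ := (Points.schemeEquiv _).surjective w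
    refine hsub x.1 ⟨w, ?_, (Points.ofPt_eq_map_ofScheme _ _).trans hw⟩
    rw [← hD x, Set.mem_preimage]
    have : (chMap (A x.1) K k'.val).left w = v :=
      (Points.schemeEquiv _).injective ((map_yon_map_ofScheme _ w).symm.trans hw1)
    rw [this]
    exact hv
  · intro y hy
    obtain ⟨x, hxσ, hxy⟩ := Set.mem_iUnion₂.1 (hσ hy)
    obtain ⟨w, hw, rfl⟩ := hxy
    refine Set.mem_iUnion.2 ⟨⟨x, hxσ⟩, _, ?_, (hcomm ⟨x, hxσ⟩ w).symm⟩
    rw [← hD ⟨x, hxσ⟩] at hw
    exact hw

end Groth.Agent.AlgSpLib
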