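import Groth.Agent.AlgSpLib.EffCartierSub
import Groth.Agent.CAlgH3.Depth
import Groth.Agent.CAlgH3.Serre
import Groth.Agent.HilbertBurch29.Spread
import Groth.Prelude.Def_Pi1

/-!
Depth and dimension drop by one on an effective Cartier divisor.
-/

universe u

open CategoryTheory CategoryTheory.Limits AlgebraicGeometry
open AlgSp

noncomputable section

namespace Groth.Agent.AlgSpLib

set_option backward.isDefEq.respectTransparency.types false

theorem dim_depth_of_isEffCartierIdeal {U : Scheme.{u}} [IsLocallyNoetherian U] {I : U.IdealSheafData}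
    (hI : BlowUp.IsEffCartierIdeal I) (v : I.subscheme) :
    ringKrullDim ↥(I.subscheme.presheaf.stalk v) + 1 = ringKrullDim ↥(U.presheaf.stalk (I.subschemeι v)) ∧
      _root_.LocCoh.depth ↥(I.subscheme.presheaf.stalk v) ↥(I.subscheme.presheaf.stalk v) + 1 =
        _root_.LocCoh.depth ↥(U.presheaf.stalk (I.subschemeι v)) ↥(U.presheaf.stalk (I.subschemeι v)) := by
  obtain ⟨V, hv, f, hf, hfI⟩ := hI (I.subschemeι v)
  let S₀ := U.presheaf.stalk (I.subschemeι v)
  letI := U.presheaf.algebra_section_stalk ⟨I.subschemeι v, hv⟩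
  haveI := V.2.isLocalization_stalk ⟨I.subschemeι v, hv⟩
  let t : S₀ := U.presheaf.germ V.1 (I.subschemeι v) hv f
  have ht : t ∈ nonZeroDivisors S₀ :=
    IsLocalization.nonZeroDivisors_le_comap (V.2.primeIdealOf ⟨I.subschemeι v, hv⟩).asIdeal.primeCompl S₀ hf
  have hK : RingHom.ker (I.subschemeι.stalkMap v).hom = Ideal.span {t} := by
    rw [HilbertBurch29.ker_stalkMap_eq I.subschemeι v V hv, Scheme.IdealSheafData.ker_subschemeι, hfI,
      Ideal.map_span, Set.image_singleton]
  let e : (S₀ ⧸ Ideal.span {t}) ≃+* I.subscheme.presheaf.stalk v :=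
    (Ideal.quotEquivOfEq hK.symm).trans (RingHom.quotientKerEquivOfSurjective (I.subschemeι.stalkMap_surjective v))
  haveI : Nontrivial (S₀ ⧸ Ideal.span {t}) := e.toEquiv.nontrivial
  haveI : IsLocalRing (S₀ ⧸ Ideal.span {t}) :=
    IsLocalRing.of_surjective' (Ideal.Quotient.mk _) Ideal.Quotient.mk_surjective
  have htm : t ∈ IsLocalRing.maximalIdeal S₀ := fun hu => (Ideal.Quotient.nontrivial_iff.1 ‹_›) (Ideal.span_singleton_eq_top.2 hu)
  have hreg : IsSMulRegular S₀ t := fun a b hab => (mul_cancel_left_mem_nonZeroDivisors ht).1 hab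
  refine ⟨?_, ?_⟩
  · rw [← ringKrullDim_eq_of_ringEquiv e]
    exact ringKrullDim_quotient_span_singleton_succ_eq_ringKrullDim_of_mem_nonZeroDivisors ht htm
  · rw [← CAlgH3.depth_ringEquiv e, CAlgH3.depth_quotient_ring, ← CAlgH3.depth_congr (CAlgH3.quotSMulTopSelf t)]
    exact CAlgH3.depth_quotSMulTop_add_one htm hreg

theorem min_pred_le {k : ℕ} {a : WithBot ℕ∞} {c : ℕ∞}
    (h : min ((k : ℕ) : WithBot ℕ∞) (a + 1) ≤ ((c + 1 : ℕ∞) : WithBot ℕ∞)) :
    min ((k - 1 : ℕ) : WithBot ℕ∞) a ≤ (c : WithBot ℕ∞) := by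
  cases a with
  | bot => simp
  | coe a =>
    rw [show ((a : WithBot ℕ∞) + 1) = ((a + 1 : ℕ∞) : WithBot ℕ∞) from rfl, min_le_iff,
      show ((k : ℕ) : WithBot ℕ∞) = ((k : ℕ∞) : WithBot ℕ∞) from rfl, WithBot.coe_le_coe, WithBot.coe_le_coe] at h
    rw [show ((k - 1 : ℕ) : WithBot ℕ∞) = (((k - 1 : ℕ) : ℕ∞) : WithBot ℕ∞) from rfl, min_le_iff,
      WithBot.coe_le_coe, WithBot.coe_le_coe]
    rcases h with h | h
    · left
      cases c with
      | top => exact le_top
      | coe c =>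
        norm_cast at h ⊢
        omega
    · exact .inr (WithTop.le_of_add_le_add_right ENat.one_ne_top h)

variable {S : Scheme.{u}} {X D : Sp S}

/-- Serre type conditions pass to effective Cartier divisors -/
theorem etaleLocally_effCartier {i : D ⟶ X} (hD : IsEffCartierSub i) {P Q : Scheme.{u} → Prop}
    (h : EtaleLocally P X) (hP : ∀ U, P U → IsLocallyNoetherian U)
    (hPQ : ∀ (U : Scheme.{u}) (I : U.IdealSheafData), P U → BlowUp.IsEffCartierIdeal I → Q I.subscheme) :
    EtaleLocally Q D := by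
  obtain ⟨U, p, he, hs, hU⟩ := h
  obtain ⟨fst, sq⟩ := exists_subscheme_chart hD.1 p
  exact ⟨_, fst, RepWith.baseChange sq.flip he, RepWith.baseChange sq.flip hs,
    hPQ U.left _ hU (isEffCartierIdeal_chartIdeal hD he)⟩

end Groth.Agent.AlgSpLib
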