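import Groth.Agent.AlgSpLib.RepLocal
import Groth.Agent.AlgSpLib.PointsTop
import Groth.Agent.AlgSpLib.LimitDescend
import Groth.Prelude.Def_Desc

/-!
A morphism of sheaves which is, over an etale cover of the target, representable by morphisms of schemes for which
descent is effective, is representable.
-/

universe u

open CategoryTheory CategoryTheory.Limits AlgebraicGeometry
open AlgSp

noncomputable section

namespace Groth.Agent.AlgSpLib.EffDescentRep

set_option backward.isDefEq.respectTransparency.types false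

variable {S : Scheme.{u}} {G F : Sp S} {f : G ⟶ F} {T T' V' : Over S} {π : T' ⟶ T}
  {k : (yon S).obj T ⟶ F} {g' : V' ⟶ T'} {a' : (yon S).obj V' ⟶ G}

/-- two points of `V'` with the same image in `G` -/
def Rel (a' : (yon S).obj V' ⟶ G) {Z : Scheme.{u}} (v u : Z ⟶ V'.left) : Prop :=
  ∃ e : u ≫ V'.hom = v ≫ V'.hom,
    (yon S).map (Over.homMk v rfl : Over.mk (v ≫ V'.hom) ⟶ V') ≫ a' =
      (yon S).map (Over.homMk u e : Over.mk (v ≫ V'.hom) ⟶ V') ≫ a'

theorem rel_iff {Z : Over S} (v u : Z ⟶ V') :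
    Rel a' v.left u.left ↔ (yon S).map v ≫ a' = (yon S).map u ≫ a' := by
  let i : Z ⟶ Over.mk (v.left ≫ V'.hom) := Over.homMk (𝟙 _) (by simp)
  let j : Over.mk (v.left ≫ V'.hom) ⟶ Z := Over.homMk (𝟙 _) (by simp)
  constructor
  · rintro ⟨e, h⟩
    have hv : v = i ≫ (Over.homMk v.left rfl : Over.mk (v.left ≫ V'.hom) ⟶ V') :=
      Over.OverMorphism.ext (Category.id_comp _).symm
    have hu : u = i ≫ (Over.homMk u.left e : Over.mk (v.left ≫ V'.hom) ⟶ V') :=
      Over.OverMorphism.ext (Category.id_comp _).symm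
    rw [hv, hu, Functor.map_comp, Functor.map_comp, Category.assoc, Category.assoc, h]
  · intro h
    refine ⟨(Over.w u).trans (Over.w v).symm, ?_⟩
    have hv : (Over.homMk v.left rfl : Over.mk (v.left ≫ V'.hom) ⟶ V') = j ≫ v :=
      Over.OverMorphism.ext (Category.id_comp _).symm
    have hu : (Over.homMk u.left ((Over.w u).trans (Over.w v).symm) : Over.mk (v.left ≫ V'.hom) ⟶ V') = j ≫ u :=
      Over.OverMorphism.ext (Category.id_comp _).symm
    rw [hv, hu, Functor.map_comp, Functor.map_comp, Category.assoc, Category.assoc, h]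

theorem exists_rel (sq : IsPullback a' ((yon S).map g') f ((yon S).map π ≫ k)) {Z : Scheme.{u}}
    (x₁ : Z ⟶ T'.left) (v : Z ⟶ V'.left) (h : (v ≫ g'.left) ≫ π.left = x₁ ≫ π.left) :
    ∃ u, u ≫ g'.left = x₁ ∧ Rel a' v u := by
  let W : Over S := Over.mk (v ≫ V'.hom)
  let vv : W ⟶ V' := Over.homMk v
  let z : W ⟶ T' := Over.homMk x₁ (by
    show x₁ ≫ T'.hom = v ≫ V'.hom
    rw [← Over.w π, ← Category.assoc, ← h, Category.assoc, Over.w π, Category.assoc, Over.w g'])
  have e : ((yon S).map vv ≫ a') ≫ f = (yon S).map z ≫ (yon S).map π ≫ k := by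
    rw [Category.assoc, sq.w, ← Functor.map_comp_assoc, ← Functor.map_comp_assoc,
      show (vv ≫ g') ≫ π = z ≫ π from Over.OverMorphism.ext h, Functor.map_comp, Category.assoc]
  obtain ⟨uu, hu⟩ := (yon S).map_surjective (sq.lift _ _ e)
  have h1 : uu ≫ g' = z := (yon S).map_injective (by rw [Functor.map_comp, hu, sq.lift_snd])
  exact ⟨uu.left, congrArg CommaMorphism.left h1, (rel_iff vv uu).2 (by rw [hu, sq.lift_fst])⟩

theorem Rel.symm {Z : Scheme.{u}} {v u : Z ⟶ V'.left} (h : Rel a' v u) : Rel a' u v := by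
  obtain ⟨e, h⟩ := h
  let vv : Over.mk (v ≫ V'.hom) ⟶ V' := Over.homMk v
  let uu : Over.mk (v ≫ V'.hom) ⟶ V' := Over.homMk u e
  exact (rel_iff uu vv).2 h.symm

theorem Rel.trans {Z : Scheme.{u}} {v u w : Z ⟶ V'.left} (h : Rel a' v u) (h' : Rel a' u w) : Rel a' v w := by
  obtain ⟨e, h⟩ := h
  obtain ⟨e', -⟩ := id h'
  let vv : Over.mk (v ≫ V'.hom) ⟶ V' := Over.homMk v
  let uu : Over.mk (v ≫ V'.hom) ⟶ V' := Over.homMk u e
  let ww : Over.mk (v ≫ V'.hom) ⟶ V' := Over.homMk w (e'.trans e)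
  exact (rel_iff vv ww).2 (h.trans ((rel_iff uu ww).1 h'))

theorem Rel.comp {Z' Z : Scheme.{u}} (g : Z' ⟶ Z) {v u : Z ⟶ V'.left} (h : Rel a' v u) :
    Rel a' (g ≫ v) (g ≫ u) := by
  obtain ⟨e, h⟩ := h
  let vv : Over.mk (v ≫ V'.hom) ⟶ V' := Over.homMk v
  let uu : Over.mk (v ≫ V'.hom) ⟶ V' := Over.homMk u e
  let gg : Over.mk (g ≫ v ≫ V'.hom) ⟶ Over.mk (v ≫ V'.hom) := Over.homMk g
  exact (rel_iff (gg ≫ vv) (gg ≫ uu)).2 (by rw [Functor.map_comp, Functor.map_comp, Category.assoc,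
    Category.assoc, h])

theorem rel_unique (sq : IsPullback a' ((yon S).map g') f ((yon S).map π ≫ k)) {Z : Scheme.{u}}
    {v u u' : Z ⟶ V'.left} (h : Rel a' v u) (h' : Rel a' v u') (e : u ≫ g'.left = u' ≫ g'.left) : u = u' := by
  have h'' := h.symm.trans h'
  let uu : Over.mk (u ≫ V'.hom) ⟶ V' := Over.homMk u
  let uu' : Over.mk (u ≫ V'.hom) ⟶ V' := Over.homMk u' h''.1
  have : (yon S).map uu = (yon S).map uu' := sq.hom_ext ((rel_iff uu uu').1 h'') (by
    rw [← Functor.map_comp, ← Functor.map_comp]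
    exact congrArg _ (Over.OverMorphism.ext e))
  exact congrArg CommaMorphism.left ((yon S).map_injective this)

theorem rel_refl {Z : Scheme.{u}} (v : Z ⟶ V'.left) : Rel a' v v := ⟨rfl, rfl⟩

/-- the gluing map -/
def phiFun (sq : IsPullback a' ((yon S).map g') f ((yon S).map π ≫ k)) {Z : Scheme.{u}}
    (x₀ x₁ : Z ⟶ T'.left) (h : x₀ ≫ π.left = x₁ ≫ π.left) (v : Desc.Lifts (Over.mk g'.left) x₀) :
    Desc.Lifts (Over.mk g'.left) x₁ :=
  ⟨(exists_rel sq x₁ v.1 (by
      rw [show v.1 ≫ g'.left = x₀ from v.2, h])).choose,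
    (exists_rel sq x₁ v.1 (by rw [show v.1 ≫ g'.left = x₀ from v.2, h])).choose_spec.1⟩

theorem rel_phiFun (sq : IsPullback a' ((yon S).map g') f ((yon S).map π ≫ k)) {Z : Scheme.{u}}
    (x₀ x₁ : Z ⟶ T'.left) (h : x₀ ≫ π.left = x₁ ≫ π.left) (v : Desc.Lifts (Over.mk g'.left) x₀) :
    Rel a' v.1 (phiFun sq x₀ x₁ h v).1 :=
  (exists_rel sq x₁ v.1 (by rw [show v.1 ≫ g'.left = x₀ from v.2, h])).choose_spec.2

/-- the descent datum -/
def datum (sq : IsPullback a' ((yon S).map g') f ((yon S).map π ≫ k)) : Desc.SchDD π.left where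
  obj := Over.mk g'.left
  φ Z x₀ x₁ h :=
    { toFun := phiFun sq x₀ x₁ h
      invFun := phiFun sq x₁ x₀ h.symm
      left_inv := fun v => Subtype.ext (rel_unique sq
        ((rel_phiFun sq x₀ x₁ h v).trans (rel_phiFun sq x₁ x₀ h.symm _)) (rel_refl (a' := a') v.1)
        ((phiFun sq x₁ x₀ h.symm _).2.trans v.2.symm))
      right_inv := fun v => Subtype.ext (rel_unique sq
        ((rel_phiFun sq x₁ x₀ h.symm v).trans (rel_phiFun sq x₀ x₁ h _)) (rel_refl (a' := a') v.1)
        ((phiFun sq x₀ x₁ h _).2.trans v.2.symm)) }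
  φ_natural Z Z' g x₀ x₁ h h' v v' hv' := by
    refine rel_unique sq (rel_phiFun sq _ _ h' v') ?_ ?_
    · rw [hv']
      exact (rel_phiFun sq x₀ x₁ h v).comp g
    · exact ((phiFun sq _ _ h' v').2).trans
        (by rw [Category.assoc]; exact congrArg (g ≫ ·) (phiFun sq x₀ x₁ h v).2.symm)
  φ_self Z x v := Subtype.ext (rel_unique sq (rel_phiFun sq x x rfl v) (rel_refl (a' := a') v.1)
    ((phiFun sq x x rfl v).2.trans v.2.symm))
  φ_comp Z x₀ x₁ x₂ h₀₁ h₁₂ v := Subtype.ext (rel_unique sq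
    ((rel_phiFun sq x₀ x₁ h₀₁ v).trans (rel_phiFun sq x₁ x₂ h₁₂ _)) (rel_phiFun sq x₀ x₂ (h₀₁.trans h₁₂) v)
    ((phiFun sq x₁ x₂ h₁₂ _).2.trans (phiFun sq x₀ x₂ (h₀₁.trans h₁₂) v).2.symm))

/-- effectivity of the datum gives a scheme pullback -/
theorem exists_isPullback (sq : IsPullback a' ((yon S).map g') f ((yon S).map π ≫ k))
    [Etale π.left] [Surjective π.left] (heff : (Desc.toDD π.left).essImage (datum sq)) :
    ∃ (W : Over S) (w : (yon S).obj W ⟶ G) (ω : W ⟶ T), IsPullback w ((yon S).map ω) f k := by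
  obtain ⟨U, ⟨e⟩⟩ := heff
  let W : Over S := Over.mk (U.hom ≫ T.hom)
  let ω : W ⟶ T := Over.homMk U.hom
  let W' : Over S := Over.mk (pullback.fst π.left U.hom ≫ T'.hom)
  let c : W' ⟶ W := Over.homMk (pullback.snd π.left U.hom) (by
    show pullback.snd π.left U.hom ≫ U.hom ≫ T.hom = pullback.fst π.left U.hom ≫ T'.hom
    rw [← Category.assoc, ← pullback.condition, Category.assoc, Over.w π])
  let ω' : W' ⟶ T' := Over.homMk (pullback.fst π.left U.hom)
  let eh : pullback π.left U.hom ⟶ V'.left := e.hom.hom.left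
  let ei : V'.left ⟶ pullback π.left U.hom := e.inv.hom.left
  have hθ : eh ≫ g'.left = pullback.fst π.left U.hom := Over.w e.hom.hom
  have hθ' : ei ≫ pullback.fst π.left U.hom = g'.left := Over.w e.inv.hom
  let θ : W' ⟶ V' := Over.homMk eh (by
    show _ = pullback.fst π.left U.hom ≫ T'.hom
    rw [← Over.w g', ← Category.assoc, hθ])
  let θ' : V' ⟶ W' := Over.homMk ei (by
    show ei ≫ pullback.fst π.left U.hom ≫ T'.hom = V'.hom
    rw [← Category.assoc, hθ', Over.w g'])
  have hθθ' : θ' ≫ θ = 𝟙 V' := Over.OverMorphism.ext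
    (congrArg (fun t => CommaMorphism.left (Desc.SchDD.Hom.hom t)) e.inv_hom_id)
  have hθ'θ : θ ≫ θ' = 𝟙 W' := Over.OverMorphism.ext
    (congrArg (fun t => CommaMorphism.left (Desc.SchDD.Hom.hom t)) e.hom_inv_id)
  have hc : ω' ≫ π = c ≫ ω := Over.OverMorphism.ext pullback.condition
  have : Etale c.left := MorphismProperty.pullback_snd (P := @Etale) _ _ ‹_›
  have : Surjective c.left := MorphismProperty.pullback_snd (P := @Surjective) _ _ ‹_›
  have hcov : ∀ {A B : Over S} (m : A ⟶ B), Surjective m.left →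
      ∀ z : B.left, ∃ _ : PUnit.{u + 1}, z ∈ Set.range m.left := fun m hm z => ⟨⟨⟩, hm.surj z⟩
  -- the map to G
  have hglue : ∀ (Z : Over S) (a b : Z ⟶ W'), a ≫ c = b ≫ c →
      (yon S).map a ≫ (yon S).map θ ≫ a' = (yon S).map b ≫ (yon S).map θ ≫ a' := by
    intro Z a b hab
    have hx : (a ≫ ω').left ≫ π.left = (b ≫ ω').left ≫ π.left := by
      rw [← Over.comp_left, ← Over.comp_left, Category.assoc, Category.assoc, hc, reassoc_of% hab]
    let va : Desc.Lifts ((Desc.toDD π.left).obj U).obj (a ≫ ω').left := ⟨a.left, rfl⟩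
    have hb : (((Desc.toDD π.left).obj U).φ _ _ hx va).1 = b.left := by
      refine pullback.hom_ext (pullback.lift_fst _ _ _) ((pullback.lift_snd _ _ _).trans ?_)
      exact congrArg CommaMorphism.left hab
    have hcm := e.hom.comm _ _ hx va (e.hom.push va) rfl
    rw [hb] at hcm
    have hr := rel_phiFun sq _ _ hx (e.hom.push va)
    rw [show (phiFun sq _ _ hx (e.hom.push va)).1 = b.left ≫ e.hom.hom.left from hcm] at hr
    rw [← Functor.map_comp_assoc, ← Functor.map_comp_assoc]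
    exact (rel_iff (a ≫ θ) (b ≫ θ)).1 hr
  obtain ⟨w, hw⟩ := yon_exists_glue (fun _ : PUnit.{u + 1} => c) (hcov c ‹_›)
    (fun _ => (yon S).map θ ≫ a') fun _ _ Z a b h => hglue Z a b h
  have hw' : (yon S).map c ≫ w = (yon S).map θ ≫ a' := hw ⟨⟩
  have hwf : w ≫ f = (yon S).map ω ≫ k := by
    refine yon_hom_ext_of_cover (fun _ : PUnit.{u + 1} => c) (hcov c ‹_›) _ _ fun _ => ?_
    rw [← Category.assoc, hw', Category.assoc, sq.w, ← Functor.map_comp_assoc, ← Functor.map_comp_assoc,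
      ← Functor.map_comp_assoc]
    congr 2
    rw [← hc]
    exact congrArg (· ≫ π) (Over.OverMorphism.ext hθ)
  -- uniqueness
  have huniq : ∀ {Z : Over S} (l l' : Z ⟶ W), l ≫ ω = l' ≫ ω →
      (yon S).map l ≫ w = (yon S).map l' ≫ w → l = l' := by
    intro Z l l' h1 h2
    let cZ := pullback.fst (l ≫ ω) π
    let z := pullback.snd (l ≫ ω) π
    have : Etale cZ.left := MorphismProperty.of_isPullback (P := @Etale)
      ((IsPullback.of_hasPullback (l ≫ ω) π).map (Over.forget S)).flip ‹_›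
    have : Surjective cZ.left := MorphismProperty.of_isPullback (P := @Surjective)
      ((IsPullback.of_hasPullback (l ≫ ω) π).map (Over.forget S)).flip ‹_›
    have lift : ∀ m : Z ⟶ W, m ≫ ω = l ≫ ω → ∃ n, n ≫ ω' = z ∧ n ≫ c = cZ ≫ m := by
      intro m hm
      let n : pullback (l ≫ ω) π ⟶ W' := Over.homMk (pullback.lift z.left (cZ ≫ m).left (by
          show (z ≫ π).left = (cZ ≫ m ≫ ω).left
          rw [hm, pullback.condition])) (by
        show pullback.lift _ _ _ ≫ pullback.fst π.left U.hom ≫ T'.hom = _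
        rw [pullback.lift_fst_assoc, Over.w z])
      exact ⟨n, Over.OverMorphism.ext (pullback.lift_fst _ _ _), Over.OverMorphism.ext (pullback.lift_snd _ _ _)⟩
    obtain ⟨n, hn1, hn2⟩ := lift l rfl
    obtain ⟨n', hn1', hn2'⟩ := lift l' h1.symm
    have hnn : n ≫ θ = n' ≫ θ := by
      refine (yon S).map_injective (sq.hom_ext ?_ ?_)
      · rw [Functor.map_comp, Functor.map_comp, Category.assoc, Category.assoc, ← hw', ← Functor.map_comp_assoc,
          ← Functor.map_comp_assoc, hn2, hn2', Functor.map_comp, Functor.map_comp, Category.assoc, Category.assoc, h2]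
      · rw [← Functor.map_comp, ← Functor.map_comp, Category.assoc, Category.assoc,
          show θ ≫ g' = ω' from Over.OverMorphism.ext hθ, hn1, hn1']
    have : n = n' := by
      have := congrArg (· ≫ θ') hnn
      simpa only [Category.assoc, hθ'θ, Category.comp_id] using this
    refine (yon S).map_injective (yon_hom_ext_of_cover (fun _ : PUnit.{u + 1} => cZ) (hcov cZ ‹_›) _ _ fun _ => ?_)
    rw [← Functor.map_comp, ← Functor.map_comp, ← hn2, ← hn2', this]
  refine ⟨W, w, ω, isPullback_of_yon hwf fun Z x y hxy => ?_⟩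
  obtain ⟨yy, rfl⟩ := (yon S).map_surjective y
  let cZ := pullback.fst yy π
  have : Etale cZ.left := MorphismProperty.of_isPullback (P := @Etale)
    ((IsPullback.of_hasPullback yy π).map (Over.forget S)).flip ‹_›
  have : Surjective cZ.left := MorphismProperty.of_isPullback (P := @Surjective)
    ((IsPullback.of_hasPullback yy π).map (Over.forget S)).flip ‹_›
  obtain ⟨u, hu⟩ := (yon S).map_surjective (sq.lift ((yon S).map cZ ≫ x) ((yon S).map (pullback.snd yy π))
    (by rw [Category.assoc, hxy, ← Functor.map_comp_assoc, pullback.condition, Functor.map_comp, Category.assoc]))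
  have hu2 : u ≫ g' = pullback.snd yy π := (yon S).map_injective (by rw [Functor.map_comp, hu, sq.lift_snd])
  let s := u ≫ θ' ≫ c
  have hs1 : s ≫ ω = cZ ≫ yy := by
    rw [Category.assoc, Category.assoc, ← hc, pullback.condition, ← hu2, Category.assoc,
      ← show θ' ≫ ω' = g' from Over.OverMorphism.ext hθ', Category.assoc]
  have hs2 : (yon S).map s ≫ w = (yon S).map cZ ≫ x := by
    rw [Functor.map_comp, Functor.map_comp, Category.assoc, Category.assoc, hw']
    rw [← Functor.map_comp_assoc (yon S) θ', hθθ']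
    erw [(yon S).map_id, Category.id_comp]
    rw [hu, sq.lift_fst]
  obtain ⟨l, hl⟩ := yon_exists_glue (fun _ : PUnit.{u + 1} => cZ) (hcov cZ ‹_›)
    (X := (yon S).obj W) (fun _ => (yon S).map s) fun _ _ Z' a b hab => by
      rw [← Functor.map_comp, ← Functor.map_comp]
      refine congrArg _ (huniq _ _ ?_ ?_)
      · exact (Category.assoc a s ω).trans ((congrArg (a ≫ ·) hs1).trans
          (((reassoc_of% hab) yy).trans ((congrArg (b ≫ ·) hs1).symm.trans (Category.assoc b s ω).symm)))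
      · rw [Functor.map_comp (yon S) a s, Functor.map_comp (yon S) b s, Category.assoc, Category.assoc, hs2,
          ← Functor.map_comp_assoc, ← Functor.map_comp_assoc, hab]
  refine ⟨l, ⟨?_, ?_⟩, ?_⟩
  · refine yon_hom_ext_of_cover (fun _ : PUnit.{u + 1} => cZ) (hcov cZ ‹_›) _ _ fun _ => ?_
    rw [← Category.assoc, hl ⟨⟩, hs2]
  · refine yon_hom_ext_of_cover (fun _ : PUnit.{u + 1} => cZ) (hcov cZ ‹_›) _ _ fun _ => ?_
    rw [← Category.assoc, hl ⟨⟩, ← Functor.map_comp, ← Functor.map_comp, hs1]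
  · rintro l' ⟨h1, h2⟩
    obtain ⟨ll, rfl⟩ := (yon S).map_surjective l
    obtain ⟨ll', rfl⟩ := (yon S).map_surjective l'
    refine congrArg _ (huniq _ _ ?_ ?_)
    · refine (yon S).map_injective (yon_hom_ext_of_cover (fun _ : PUnit.{u + 1} => cZ) (hcov cZ ‹_›) _ _ fun _ => ?_)
      rw [Functor.map_comp, Functor.map_comp, h2, ← Category.assoc, hl ⟨⟩, ← Functor.map_comp,
        ← Functor.map_comp, hs1]
    · rw [h1]
      refine (yon_hom_ext_of_cover (fun _ : PUnit.{u + 1} => cZ) (hcov cZ ‹_›) _ _ fun _ => ?_)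
      rw [← Category.assoc, hl ⟨⟩, hs2]

end Groth.Agent.AlgSpLib.EffDescentRep
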