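import Groth.Agent.Et18.EtaleLocalRing
import Groth.Prelude.Def_EssEt

/-!
# Stalk maps of etale morphisms are essentially etale
-/

universe u

open CategoryTheory AlgebraicGeometry IsLocalRing TensorProduct

namespace Groth.Agent.AlgSpLib

variable {X Y : Scheme.{u}}

/-- the stalk map of an etale morphism is essentially etale -/
theorem isEssentiallyEtale_stalkMap (f : X ⟶ Y) [Etale f] (x : X) :
    letI := (f.stalkMap x).hom.toAlgebra
    EGA4loc.IsEssentiallyEtale (Y.presheaf.stalk (f x)) (X.presheaf.stalk x) := by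
  obtain ⟨U, hU, hxU, -⟩ := exists_isAffineOpen_mem_and_subset (X := Y) (x := f x) (U := ⊤) trivial
  obtain ⟨V, hV, hxV, hle⟩ := exists_isAffineOpen_mem_and_subset (X := X) (x := x) (U := f ⁻¹ᵁ U) hxU
  replace hle : V ≤ f ⁻¹ᵁ U := hle
  have hV' := HasRingHomProperty.appLE @Etale f inferInstance ⟨U, hU⟩ ⟨V, hV⟩ hle
  algebraize [(f.appLE U V hle).hom]
  have : Algebra.Etale Γ(Y, U) Γ(X, V) := hV'
  letI : Algebra Γ(Y, U) (Y.presheaf.stalk (f x)) := (Y.presheaf.germ U (f x) hxU).hom.toAlgebra
  letI : Algebra Γ(X, V) (X.presheaf.stalk x) := (X.presheaf.germ V x hxV).hom.toAlgebra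
  have : IsLocalization.AtPrime (X.presheaf.stalk x) (hV.primeIdealOf ⟨x, hxV⟩).asIdeal :=
    hV.isLocalization_stalk ⟨x, hxV⟩
  let A := Y.presheaf.stalk (f x)
  let B := A ⊗[Γ(Y, U)] Γ(X, V)
  letI : Algebra A (X.presheaf.stalk x) := (f.stalkMap x).hom.toAlgebra
  letI : Algebra Γ(Y, U) (X.presheaf.stalk x) :=
    ((X.presheaf.germ V x hxV).hom.comp (f.appLE U V hle).hom).toAlgebra
  have : IsScalarTower Γ(Y, U) Γ(X, V) (X.presheaf.stalk x) := IsScalarTower.of_algebraMap_eq fun _ => rfl
  have : IsScalarTower Γ(Y, U) A (X.presheaf.stalk x) := IsScalarTower.of_algebraMap_eq fun r => by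
    change X.presheaf.germ V x hxV (f.appLE U V hle r) = (Y.presheaf.germ U (f x) hxU ≫ f.stalkMap x) r
    rw [Scheme.Hom.germ_stalkMap, Scheme.Hom.appLE, CommRingCat.comp_apply, TopCat.Presheaf.germ_res_apply]
    rfl
  let μ : B →ₐ[A] X.presheaf.stalk x :=
    Algebra.TensorProduct.lift (Algebra.ofId A _) (IsScalarTower.toAlgHom Γ(Y, U) Γ(X, V) _)
      fun a b => Commute.all _ _
  let i : Γ(X, V) →+* B := Algebra.TensorProduct.includeRight.toRingHom
  have hi : ∀ b, μ (i b) = algebraMap Γ(X, V) (X.presheaf.stalk x) b := fun b => by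
    change μ (1 ⊗ₜ[Γ(Y, U)] b) = _
    exact (Algebra.TensorProduct.lift_tmul _ _ _ (1 : A) b).trans (by rw [map_one, one_mul]; rfl)
  let q : Ideal B := (maximalIdeal (X.presheaf.stalk x)).comap μ.toRingHom
  let lu : Localization.AtPrime q →+* X.presheaf.stalk x :=
    IsLocalization.lift (M := q.primeCompl) (S := Localization.AtPrime q) (g := μ.toRingHom) fun b => by
      by_contra hb
      exact b.2 ((mem_maximalIdeal _).mpr hb)
  let inv : X.presheaf.stalk x →+* Localization.AtPrime q :=
    IsLocalization.lift (M := (hV.primeIdealOf ⟨x, hxV⟩).asIdeal.primeCompl)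
      (g := (algebraMap B (Localization.AtPrime q)).comp i) fun b => by
        refine IsLocalization.map_units (Localization.AtPrime q) (⟨i b.1, ?_⟩ : q.primeCompl)
        intro hb
        refine b.2 ((IsLocalization.AtPrime.comap_maximalIdeal (X.presheaf.stalk x)
          (hV.primeIdealOf ⟨x, hxV⟩).asIdeal).le ?_)
        change algebraMap Γ(X, V) (X.presheaf.stalk x) b.1 ∈ maximalIdeal (X.presheaf.stalk x)
        rw [← hi]
        exact hb
  have h1 : lu.comp inv = RingHom.id _ := by
    refine IsLocalization.ringHom_ext (hV.primeIdealOf ⟨x, hxV⟩).asIdeal.primeCompl (RingHom.ext fun b => ?_)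
    change lu (inv (algebraMap Γ(X, V) (X.presheaf.stalk x) b)) = _
    rw [IsLocalization.lift_eq, RingHom.comp_apply, IsLocalization.lift_eq]
    exact hi b
  have h2 : inv.comp lu = RingHom.id _ := by
    refine IsLocalization.ringHom_ext q.primeCompl ?_
    let e₁ := (inv.comp lu).comp (algebraMap B (Localization.AtPrime q))
    let e₂ := algebraMap B (Localization.AtPrime q)
    have hB : ∀ b, e₁ (i b) = e₂ (i b) := fun b => by
      change inv (lu (algebraMap B _ (i b))) = algebraMap B _ (i b)
      rw [IsLocalization.lift_eq]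
      change inv (μ (i b)) = _
      rw [hi, IsLocalization.lift_eq]
      rfl
    have hA : e₁.comp (algebraMap A B) = e₂.comp (algebraMap A B) := by
      have : IsLocalization.AtPrime A (hU.primeIdealOf ⟨f x, hxU⟩).asIdeal :=
        hU.isLocalization_stalk ⟨f x, hxU⟩
      refine IsLocalization.ringHom_ext (hU.primeIdealOf ⟨f x, hxU⟩).asIdeal.primeCompl (RingHom.ext fun r => ?_)
      have h3 : algebraMap A B (algebraMap Γ(Y, U) A r) = i (algebraMap Γ(Y, U) Γ(X, V) r) := by
        rw [← IsScalarTower.algebraMap_apply]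
        exact ((Algebra.TensorProduct.includeRight : Γ(X, V) →ₐ[Γ(Y, U)] B).commutes r).symm
      change e₁ (algebraMap A B (algebraMap Γ(Y, U) A r)) = e₂ (algebraMap A B (algebraMap Γ(Y, U) A r))
      rw [h3, hB]
    refine RingHom.ext fun z => ?_
    change e₁ z = e₂ z
    induction z using TensorProduct.induction_on with
    | zero => simp
    | tmul a b =>
        have : a ⊗ₜ[Γ(Y, U)] b = algebraMap A B a * i b := by
          change _ = (a ⊗ₜ[Γ(Y, U)] (1 : Γ(X, V))) * (1 ⊗ₜ[Γ(Y, U)] b)
          rw [Algebra.TensorProduct.tmul_mul_tmul, mul_one, one_mul]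
        rw [this, map_mul, map_mul, hB]
        exact congrArg (· * e₂ (i b)) (RingHom.congr_fun hA a)
    | add y z hy hz => rw [map_add, map_add, hy, hz]
  refine ⟨B, inferInstance, inferInstance, q, inferInstance, inferInstance, ?_,
    ⟨(AlgEquiv.ofRingEquiv (f := RingEquiv.ofRingHom lu inv h1 h2) fun a => ?_).symm⟩⟩
  · ext a
    rw [Ideal.mem_comap]
    change μ (algebraMap A B a) ∈ maximalIdeal (X.presheaf.stalk x) ↔ a ∈ maximalIdeal A
    rw [μ.commutes, mem_maximalIdeal, mem_maximalIdeal]
    exact (@isUnit_map_iff _ _ _ _ _ _ _ (f.stalkMap x).hom (f.toLRSHom.prop x) a).not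
  · change lu (algebraMap A (Localization.AtPrime q) a) = _
    rw [IsScalarTower.algebraMap_apply A B (Localization.AtPrime q), IsLocalization.lift_eq]
    exact μ.commutes a

end Groth.Agent.AlgSpLib
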