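import Groth.Agent.AlgSpLib.ElemCofiltered
import Groth.Agent.S10440
import Groth.Agent.EGA43.BranchCount.EtaleNbhd
import Groth.Agent.EGA43.DimFormula.Points
import Groth.Agent.Unibr10.Branches

/-!
Branches of elementary etale neighbourhoods of a point of a decent algebraic space.
-/

universe u

open CategoryTheory CategoryTheory.Limits AlgebraicGeometry Opposite
open AlgSp
open Groth.Agent.FlatMorWeight (IsMaximalPt)

noncomputable section

namespace Groth.Agent.AlgSpLib

set_option backward.isDefEq.respectTransparency.types false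

/-- irreducible components through a point and minimal primes of the local ring -/
theorem encard_components_eq_minimalPrimes_stalk {U : Scheme.{u}} (u : U) :
    {Z : Set ↥U | Z ∈ irreducibleComponents ↥U ∧ u ∈ Z}.encard = (minimalPrimes ↥(U.presheaf.stalk u)).encard := by
  rw [EGA43.BranchCount.encard_components_eq]
  refine (Set.encard_congr (Equiv.ofBijective
    (fun P : ↥(minimalPrimes ↥(U.presheaf.stalk u)) =>
      (⟨EGA43.DimFormula.toPt u ⟨P.1, P.2.1.1⟩, (EGA43.DimFormula.mem_minimalPrimes_iff u _).1 P.2,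
        EGA43.DimFormula.toPt_specializes u _⟩ : {a : U | IsMaximalPt a ∧ a ⤳ u}))
    ⟨fun P Q h => ?_, fun a => ?_⟩)).symm
  · have h' := congrArg Subtype.val h
    change EGA43.DimFormula.toPt u ⟨P.1, P.2.1.1⟩ = EGA43.DimFormula.toPt u ⟨Q.1, Q.2.1.1⟩ at h'
    exact Subtype.ext (congrArg PrimeSpectrum.asIdeal (EGA43.DimFormula.toPt_injective u h') :)
  obtain ⟨a, ha, hau⟩ := a
  obtain ⟨P, rfl⟩ := EGA43.DimFormula.exists_toPt hau
  exact ⟨⟨P.asIdeal, (EGA43.DimFormula.mem_minimalPrimes_iff u P).2 ha⟩, rfl⟩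

theorem one_le_components {U : Scheme.{u}} (u : U) :
    1 ≤ {Z : Set ↥U | Z ∈ irreducibleComponents ↥U ∧ u ∈ Z}.encard :=
  Set.one_le_encard_iff_nonempty.2 ⟨irreducibleComponent u,
    irreducibleComponent_mem_irreducibleComponents u, mem_irreducibleComponent⟩

theorem components_le_numBranchesAt {U : Scheme.{u}} (u : U) :
    {Z : Set ↥U | Z ∈ irreducibleComponents ↥U ∧ u ∈ Z}.encard ≤ Brnch.numBranchesAt U u := by
  rw [EGA43.BranchCount.numBranchesAt_eq_iSup]
  refine le_iSup_of_le U <| le_iSup_of_le (𝟙 U) <| le_iSup_of_le u <|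
    le_iSup_of_le ⟨inferInstance, rfl, ?_⟩ le_rfl
  have : IsIso ((𝟙 U : U ⟶ U).residueFieldMap u) := inferInstance
  exact (ConcreteCategory.isIso_iff_bijective _).1 this

variable {S : Scheme.{u}}

theorem numBranchesAt_map (X : AlgSp.Space S) (hX : IsDecent X.obj) (x : Points X.obj) {U U' : Over S}
    (a : (yon S).obj U ⟶ X.obj) (a' : (yon S).obj U' ⟶ X.obj) (g : U' ⟶ U) (u : ↥U.left) (u' : ↥U'.left)
    (hg : (yon S).map g ≫ a = a') (hu : g.left u' = u) (ha : IsElemEtaleNbhd a u x)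
    (ha' : IsElemEtaleNbhd a' u' x) : Brnch.numBranchesAt U.left u = Brnch.numBranchesAt U'.left u' := by
  subst hu
  let L := U'.left.presheaf.stalk u'
  haveI := HenselLib.isHenselization_localH (R := L)
  letI : Algebra ↥(U.left.presheaf.stalk (g.left.base u')) (HenselLib.LocalH L) :=
    ((algebraMap L (HenselLib.LocalH L)).comp (g.left.stalkMap u').hom).toAlgebra
  obtain ⟨h1, h2⟩ := S10440.result X hX x a a' g u' hg ha ha' (HenselLib.LocalH L)
  haveI := h1
  haveI := h2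
  exact (EGA43.BranchCount.numBranches_eq (A := ↥(U.left.presheaf.stalk (g.left.base u')))
    (HenselLib.LocalH L)).symm.trans (EGA43.BranchCount.numBranches_eq (A := L) (HenselLib.LocalH L))

/-- the number of branches does not depend on the elementary neighbourhood -/
theorem numBranchesAt_eq_of_elem (X : AlgSp.Space S) (hX : IsDecent X.obj) (x : Points X.obj) {U U₀ : Over S}
    (a : (yon S).obj U ⟶ X.obj) (u : ↥U.left) (a₀ : (yon S).obj U₀ ⟶ X.obj) (u₀ : ↥U₀.left)
    (h : IsElemEtaleNbhd a u x) (h₀ : IsElemEtaleNbhd a₀ u₀ x) :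
    Brnch.numBranchesAt U.left u = Brnch.numBranchesAt U₀.left u₀ := by
  obtain ⟨V, b, v, g₁, g₂, hb, h1, h2, hv1, hv2⟩ :=
    (elem_cofiltered X.property x).1 U U₀ a a₀ u u₀ h h₀
  exact (numBranchesAt_map X hX x a b g₁ u v h1 hv1 h hb).trans
    (numBranchesAt_map X hX x a₀ b g₂ u₀ v h2 hv2 h₀ hb).symm

theorem repWith_etale_yon_comp {F : Sp S} {U U₀ : Over S} (a₀ : (yon S).obj U₀ ⟶ F) (g : U ⟶ U₀)
    (hg : Etale g.left) (h : RepWith @Etale a₀) : RepWith @Etale ((yon S).map g ≫ a₀) :=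
  RepWith.comp ((repWith_yon_map_iff (P := @Etale) g).2 hg) h

/-- an elementary neighbourhood of a chart point is an elementary neighbourhood of the point -/
theorem isElem_of_isEtaleNbhd (X : Sp S) {x : Points X} {U₀ : Over S} (a₀ : (yon S).obj U₀ ⟶ X)
    (u₀ : ↥U₀.left) (h₀ : IsElemEtaleNbhd a₀ u₀ x) {W : Scheme.{u}} (g : W ⟶ U₀.left) (w : W)
    (hg : Hens2.IsEtaleNbhd g w u₀) :
    IsElemEtaleNbhd ((yon S).map (Over.homMk g rfl : Over.mk (g ≫ U₀.hom) ⟶ U₀) ≫ a₀) w x := by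
  obtain ⟨het, rfl, hb⟩ := hg
  have h1 : RepWith @Etale ((yon S).map (Over.homMk g rfl : Over.mk (g ≫ U₀.hom) ⟶ U₀) ≫ a₀) :=
    repWith_etale_yon_comp a₀ _ het h₀.etale
  have h2 := ofPt_map (Over.homMk g rfl : Over.mk (g ≫ U₀.hom) ⟶ U₀) a₀ w
  refine ⟨h1, h2.trans h₀.ofPt_eq, ?_⟩
  rw [FieldPt.toHom_ofPt]
  haveI : IsIso (g.residueFieldMap w) := (ConcreteCategory.isIso_iff_bijective _).2 hb
  let r : Over.mk (W.fromSpecResidueField w ≫ g ≫ U₀.hom) ⟶
      Over.mk (U₀.left.fromSpecResidueField (g w) ≫ U₀.hom) :=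
    Over.homMk (Spec.map (g.residueFieldMap w)) (by
      show _ ≫ U₀.left.fromSpecResidueField _ ≫ U₀.hom = _
      rw [Scheme.Hom.SpecMap_residueFieldMap_fromSpecResidueField_assoc]
      rfl)
  haveI : IsIso r.left := inferInstanceAs (IsIso (Spec.map (g.residueFieldMap w)))
  haveI : IsIso ((Over.forget S).map r) := ‹IsIso r.left›
  haveI : IsIso r := isIso_of_reflects_iso r (Over.forget S)
  haveI hm : Mono (FieldPt.ofPt a₀ (g w)).toHom := h₀.mono
  have e : (yon S).map r ≫ (FieldPt.ofPt a₀ (g w)).toHom =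
      (yon S).map (Over.homMk (W.fromSpecResidueField w) rfl :
        Over.mk (W.fromSpecResidueField w ≫ g ≫ U₀.hom) ⟶ Over.mk (g ≫ U₀.hom)) ≫
        (yon S).map (Over.homMk g rfl : Over.mk (g ≫ U₀.hom) ⟶ U₀) ≫ a₀ := by
    rw [FieldPt.toHom_ofPt]
    refine ((Category.assoc _ _ _).symm.trans (congrArg (· ≫ a₀) ?_)).trans (Category.assoc _ _ _)
    exact (((yon S).map_comp _ _).symm.trans (congrArg (yon S).map
      (Over.OverMorphism.ext (Scheme.Hom.SpecMap_residueFieldMap_fromSpecResidueField _ _)))).trans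
      ((yon S).map_comp _ _)
  have hm' : Mono ((yon S).map r ≫ (FieldPt.ofPt a₀ (g w)).toHom) :=
    @mono_comp _ _ _ _ _ ((yon S).map r) inferInstance (FieldPt.ofPt a₀ (g w)).toHom hm
  exact e ▸ hm'

/-- the branch number is the supremum of the numbers of components over elementary neighbourhoods -/
theorem numBranchesAt_eq_iSup_elem (X : AlgSp.Space S) (hX : IsDecent X.obj) (x : Points X.obj) {U₀ : Over S}
    (a₀ : (yon S).obj U₀ ⟶ X.obj) (u₀ : ↥U₀.left) (h₀ : IsElemEtaleNbhd a₀ u₀ x) :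
    Brnch.numBranchesAt U₀.left u₀ = ⨆ (U : Over S) (a : (yon S).obj U ⟶ X.obj) (u : ↥U.left)
      (_ : IsElemEtaleNbhd a u x), {Z : Set ↥U.left | Z ∈ irreducibleComponents ↥U.left ∧ u ∈ Z}.encard := by
  refine le_antisymm ?_ (iSup_le fun U => iSup_le fun a => iSup_le fun u => iSup_le fun h =>
    (components_le_numBranchesAt u).trans (numBranchesAt_eq_of_elem X hX x a u a₀ u₀ h h₀).le)
  rw [EGA43.BranchCount.numBranchesAt_eq_iSup]
  refine iSup_le fun W => iSup_le fun g => iSup_le fun w => iSup_le fun hg => ?_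
  exact le_iSup_of_le (Over.mk (g ≫ U₀.hom)) <| le_iSup_of_le _ <| le_iSup_of_le w <|
    le_iSup_of_le (isElem_of_isEtaleNbhd X.obj a₀ u₀ h₀ g w hg) le_rfl

/-- bounded with attained value `n` means that the branch number is `n` -/
theorem bounded_attained_iff_numBranchesAt (X : AlgSp.Space S) (hX : IsDecent X.obj) (x : Points X.obj) (n : ℕ)
    (hn : 1 ≤ n) {U₀ : Over S} (a₀ : (yon S).obj U₀ ⟶ X.obj) (u₀ : ↥U₀.left) (h₀ : IsElemEtaleNbhd a₀ u₀ x) :
    ((∀ (U : Over S) (a : (yon S).obj U ⟶ X.obj) (u : ↥U.left), IsElemEtaleNbhd a u x →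
        {Z : Set ↥U.left | Z ∈ irreducibleComponents ↥U.left ∧ u ∈ Z}.encard ≤ n) ∧
      (∃ (U : Over S) (a : (yon S).obj U ⟶ X.obj) (u : ↥U.left), IsElemEtaleNbhd a u x ∧
        {Z : Set ↥U.left | Z ∈ irreducibleComponents ↥U.left ∧ u ∈ Z}.encard = n)) ↔
      Brnch.numBranchesAt U₀.left u₀ = n := by
  rw [numBranchesAt_eq_iSup_elem X hX x a₀ u₀ h₀]
  constructor
  · rintro ⟨hle, U, a, u, h, he⟩
    refine le_antisymm (iSup_le fun U => iSup_le fun a => iSup_le fun u => iSup_le fun h => hle U a u h) ?_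
    exact le_iSup_of_le U <| le_iSup_of_le a <| le_iSup_of_le u <| le_iSup_of_le h he.ge
  · intro he
    have hle : ∀ (U : Over S) (a : (yon S).obj U ⟶ X.obj) (u : ↥U.left), IsElemEtaleNbhd a u x →
        {Z : Set ↥U.left | Z ∈ irreducibleComponents ↥U.left ∧ u ∈ Z}.encard ≤ n := fun U a u h =>
      he ▸ (le_iSup_of_le U <| le_iSup_of_le a <| le_iSup_of_le u <| le_iSup_of_le h le_rfl)
    refine ⟨hle, ?_⟩
    by_contra hc
    push_neg at hc
    obtain ⟨m, rfl⟩ : ∃ m, n = m + 1 := ⟨n - 1, by omega⟩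
    refine absurd (he.symm.le.trans (iSup_le fun U => iSup_le fun a => iSup_le fun u => iSup_le fun h => ?_))
      (not_le.2 (ENat.coe_lt_coe.2 (Nat.lt_succ_self m)))
    have hlt := lt_of_le_of_ne (hle U a u h) (hc U a u h)
    rw [Nat.cast_add, Nat.cast_one] at hlt
    exact Order.le_of_lt_add_one hlt

end Groth.Agent.AlgSpLib
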