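import Groth.Agent.AlgSpLib.DecentMore
import Groth.Agent.AlgSpLib.MorMore3
import Groth.Agent.AlgSpLib.MorMore2
import Groth.Agent.AlgSpLib.EtLocalInst

/-!
Elementary etale neighbourhoods form a cofiltered category.
-/

universe u

open CategoryTheory CategoryTheory.Limits AlgebraicGeometry Opposite
open AlgSp

noncomputable section

namespace Groth.Agent.AlgSpLib

set_option backward.isDefEq.respectTransparency.types false

variable {S : Scheme.{u}} {X : Sp S}

/-- field points factor through a monomorphic field point in the same class -/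
theorem exists_factor_mono_point (hX : IsAlgSpace X) {k k' : Type u} [Field k] [Field k']
    {str : Spec (CommRingCat.of k) ⟶ S} {str' : Spec (CommRingCat.of k') ⟶ S}
    (p : (yon S).obj (Over.mk str) ⟶ X) [Mono p] (q : (yon S).obj (Over.mk str') ⟶ X)
    (h : ptOfHom q = ptOfHom p) : ∃ i : Over.mk str' ⟶ Over.mk str, q = (yon S).map i ≫ p := by
  have hp := hX.representable_from_yon p
  have sq := hp.isPullback q
  let Z := hp.pullback q
  let c := hp.snd q
  have : Mono ((yon S).map c) :=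
    MorphismProperty.of_isPullback (P := MorphismProperty.monomorphisms _) sq
      (MorphismProperty.monomorphisms.infer_property p)
  have : Mono c := (yon S).mono_of_mono_map this
  have : Mono c.left := inferInstance
  have : DiscreteTopology ↥(Over.mk str').left :=
    inferInstanceAs (DiscreteTopology ↥(Spec (CommRingCat.of k')))
  have : IsReduced (Over.mk str').left := inferInstanceAs (IsReduced (Spec (CommRingCat.of k')))
  have : Subsingleton ↥(Over.mk str').left := inferInstanceAs (Subsingleton ↥(Spec (CommRingCat.of k')))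
  have := SchMor12.isOpenImmersion_of_mono_of_discrete c.left
  obtain ⟨z, -, -⟩ := exists_point_of_isPullback sq (x := ptOfHom (𝟙 _)) (y := ptOfHom (𝟙 _))
    (by rw [map_eq_ptOfHom, map_eq_ptOfHom]; exact h.symm)
  obtain ⟨w, -⟩ := (Points.schemeEquiv Z).surjective z
  have : IsIso c.left := (isIso_iff_isOpenImmersion_and_epi_base _).2
    ⟨inferInstance, (TopCat.epi_iff_surjective _).2 fun _ => ⟨w, Subsingleton.elim _ _⟩⟩
  have : IsIso c := (have : IsIso ((Over.forget S).map c) := ‹IsIso c.left›; isIso_of_reflects_iso c (Over.forget S))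
  obtain ⟨i, hi⟩ := (yon S).map_surjective ((yon S).map (inv c) ≫ hp.fst q)
  refine ⟨i, ?_⟩
  rw [hi, Category.assoc, sq.w, ← Category.assoc, ← Functor.map_comp, IsIso.inv_hom_id]
  erw [(yon S).map_id, Category.id_comp]

/-- a section over a monomorphic point gives an elementary neighbourhood -/
theorem isElem_of_section (hX : IsAlgSpace X) {k : Type u} [Field k] {str : Spec (CommRingCat.of k) ⟶ S}
    (p : (yon S).obj (Over.mk str) ⟶ X) [hp : Mono p] {T : Over S} (a : (yon S).obj T ⟶ X)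
    (ha : RepWith @Etale a) (c : Over.mk str ⟶ T) (hc : (yon S).map c ≫ a = p) :
    IsElemEtaleNbhd a (c.left (IsLocalRing.closedPoint k)) (ptOfHom p) := by
  let t : ↥T.left := c.left (IsLocalRing.closedPoint k)
  let cl : Spec (CommRingCat.of k) ⟶ T.left := c.left
  let φ := Scheme.descResidueField (Scheme.stalkClosedPointTo cl)
  have hφ : Spec.map φ ≫ T.left.fromSpecResidueField t = cl :=
    Scheme.descResidueField_stalkClosedPointTo_fromSpecResidueField _ _ cl
  let jt : Over.mk (T.left.fromSpecResidueField t ≫ T.hom) ⟶ T := Over.homMk (T.left.fromSpecResidueField t) rfl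
  let d : Over.mk str ⟶ Over.mk (T.left.fromSpecResidueField t ≫ T.hom) := Over.homMk (Spec.map φ) (by
    show Spec.map φ ≫ T.left.fromSpecResidueField t ≫ T.hom = str
    rw [reassoc_of% hφ]
    exact Over.w c)
  have hd : d ≫ jt = c := Over.OverMorphism.ext hφ
  have hpt : Points.ofPt a t = ptOfHom p := by
    rw [← hc, ptOfHom_yon_map]
  obtain ⟨e, he⟩ := exists_factor_mono_point hX (k' := T.left.residueField t) p ((yon S).map jt ≫ a)
    (by rw [← hpt, ptOfHom_yon_map]; exact congrArg _ (Scheme.fromSpecResidueField_apply t _))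
  have hde : d ≫ e = 𝟙 _ := (yon S).map_injective ((cancel_mono p).1 (by
    rw [Functor.map_comp, Category.assoc, ← he, ← Category.assoc, ← Functor.map_comp, hd, hc,
      (yon S).map_id, Category.id_comp]))
  have hiso : IsIso d := by
    obtain ⟨ε, hε⟩ : ∃ ε, Spec.map ε = e.left := ⟨Spec.preimage e.left, Spec.map_preimage _⟩
    have h1 : ε ≫ φ = 𝟙 _ := Spec.map_injective (by
      rw [Spec.map_comp, hε, Spec.map_id]
      exact congrArg (fun m => m.left) hde)
    have hbij : Function.Bijective φ.hom :=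
      ⟨φ.hom.injective, fun z => ⟨ε.hom z, congr($h1 z)⟩⟩
    have : IsIso φ := (ConcreteCategory.isIso_iff_bijective φ).2 hbij
    have : IsIso d.left := inferInstanceAs (IsIso (Spec.map φ))
    have : IsIso ((Over.forget S).map d) := this
    exact isIso_of_reflects_iso d (Over.forget S)
  have hei : IsIso e := by
    have : e = inv d := IsIso.eq_inv_of_hom_inv_id hde
    rw [this]; infer_instance
  refine ⟨ha, hpt, ?_⟩
  rw [FieldPt.toHom_ofPt]
  show Mono ((yon S).map jt ≫ a)
  rw [he]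
  infer_instance

theorem toHom_ofPt_eq {U : Over S} (a : (yon S).obj U ⟶ X) (u : ↥U.left) :
    (FieldPt.ofPt a u).toHom =
      (yon S).map (Over.homMk (U.left.fromSpecResidueField u) rfl :
        Over.mk (U.left.fromSpecResidueField u ≫ U.hom) ⟶ U) ≫ a := FieldPt.toHom_ofPt a u

/-- cofilteredness -/
theorem elem_cofiltered (hX : IsAlgSpace X) (x : Points X) :
    (∀ (U₁ U₂ : Over S) (a₁ : (yon S).obj U₁ ⟶ X) (a₂ : (yon S).obj U₂ ⟶ X) (u₁ : ↥U₁.left)
        (u₂ : ↥U₂.left), IsElemEtaleNbhd a₁ u₁ x → IsElemEtaleNbhd a₂ u₂ x →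
        ∃ (U : Over S) (a : (yon S).obj U ⟶ X) (v : ↥U.left) (h₁ : U ⟶ U₁) (h₂ : U ⟶ U₂),
          IsElemEtaleNbhd a v x ∧ (yon S).map h₁ ≫ a₁ = a ∧ (yon S).map h₂ ≫ a₂ = a ∧
            h₁.left v = u₁ ∧ h₂.left v = u₂) ∧
      (∀ (U₁ U₂ : Over S) (a₁ : (yon S).obj U₁ ⟶ X) (a₂ : (yon S).obj U₂ ⟶ X) (u₁ : ↥U₁.left)
        (u₂ : ↥U₂.left) (b c : U₁ ⟶ U₂), IsElemEtaleNbhd a₁ u₁ x → IsElemEtaleNbhd a₂ u₂ x →
        (yon S).map b ≫ a₂ = a₁ → (yon S).map c ≫ a₂ = a₁ → b.left u₁ = u₂ → c.left u₁ = u₂ →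
        ∃ (U : Over S) (a : (yon S).obj U ⟶ X) (v : ↥U.left) (h : U ⟶ U₁),
          IsElemEtaleNbhd a v x ∧ (yon S).map h ≫ a₁ = a ∧ h.left v = u₁ ∧ h ≫ b = h ≫ c) := by
  have hres : ∀ {U : Over S} (a : (yon S).obj U ⟶ X) (u : ↥U.left), ptOfHom
      ((yon S).map (Over.homMk (U.left.fromSpecResidueField u) rfl :
        Over.mk (U.left.fromSpecResidueField u ≫ U.hom) ⟶ U) ≫ a) = Points.ofPt a u := fun a u => by
    rw [ptOfHom_yon_map]
    exact congrArg _ (Scheme.fromSpecResidueField_apply u _)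
  refine ⟨fun U₁ U₂ a₁ a₂ u₁ u₂ h1 h2 => ?_, fun U₁ U₂ a₁ a₂ u₁ u₂ b c h1 h2 hb hc hbu hcu => ?_⟩
  · let j₁ : Over.mk (U₁.left.fromSpecResidueField u₁ ≫ U₁.hom) ⟶ U₁ := Over.homMk (U₁.left.fromSpecResidueField u₁) rfl
    let j₂ : Over.mk (U₂.left.fromSpecResidueField u₂ ≫ U₂.hom) ⟶ U₂ := Over.homMk (U₂.left.fromSpecResidueField u₂) rfl
    have hm₁ : Mono ((yon S).map j₁ ≫ a₁) := toHom_ofPt_eq a₁ u₁ ▸ h1.mono
    have hm₂ : Mono ((yon S).map j₂ ≫ a₂) := toHom_ofPt_eq a₂ u₂ ▸ h2.mono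
    obtain ⟨i, hi⟩ := exists_factor_mono_point hX (k := U₂.left.residueField u₂) (k' := U₁.left.residueField u₁)
      ((yon S).map j₂ ≫ a₂) ((yon S).map j₁ ≫ a₁) ((hres a₁ u₁).trans (h1.ofPt_eq.trans ((hres a₂ u₂).trans h2.ofPt_eq).symm))
    have sq := h1.etale.1.isPullback' a₂
    let h₁ := h1.etale.1.fst' a₂
    let h₂ := h1.etale.1.snd a₂
    obtain ⟨cT, hcT⟩ := (yon S).map_surjective (sq.lift ((yon S).map j₁) ((yon S).map (i ≫ j₂)) (by
      rw [Functor.map_comp, Category.assoc]; exact hi))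
    have e1 : cT ≫ h₁ = j₁ := (yon S).map_injective (by rw [Functor.map_comp, hcT, sq.lift_fst])
    have e2 : cT ≫ h₂ = i ≫ j₂ := (yon S).map_injective (by rw [Functor.map_comp, hcT, sq.lift_snd])
    let a := (yon S).map h₁ ≫ a₁
    have ha : RepWith @Etale a := RepWith.comp
      ((repWith_yon_map_iff (P := @Etale) h₁).2 (h2.etale.property _ _ _ sq.flip)) h1.etale
    have hs := isElem_of_section hX (k := U₁.left.residueField u₁) ((yon S).map j₁ ≫ a₁) a ha cT (by
      rw [← Functor.map_comp_assoc, e1])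
    replace hs : IsElemEtaleNbhd a _ x := ⟨hs.etale, hs.ofPt_eq.trans ((hres a₁ u₁).trans h1.ofPt_eq), hs.mono⟩
    refine ⟨_, a, _, h₁, h₂, hs, rfl, sq.w.symm, ?_, ?_⟩
    · exact (congrArg (fun m : _ ⟶ U₁ => m.left (IsLocalRing.closedPoint _)) e1).trans
        (Scheme.fromSpecResidueField_apply u₁ _)
    · exact (congrArg (fun m : _ ⟶ U₂ => m.left (IsLocalRing.closedPoint _)) e2).trans
        (Scheme.fromSpecResidueField_apply u₂ _)
  · let j₁ : Over.mk (U₁.left.fromSpecResidueField u₁ ≫ U₁.hom) ⟶ U₁ := Over.homMk (U₁.left.fromSpecResidueField u₁) rfl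
    let j₂ : Over.mk (U₂.left.fromSpecResidueField u₂ ≫ U₂.hom) ⟶ U₂ := Over.homMk (U₂.left.fromSpecResidueField u₂) rfl
    have hm₁ : Mono ((yon S).map j₁ ≫ a₁) := toHom_ofPt_eq a₁ u₁ ▸ h1.mono
    have hm₂ : Mono ((yon S).map j₂ ≫ a₂) := toHom_ofPt_eq a₂ u₂ ▸ h2.mono
    -- both composites factor through the residue field of `u₂`
    have hfac : ∀ m : U₁ ⟶ U₂, m.left u₁ = u₂ → ∃ l, j₁ ≫ m = l ≫ j₂ := by
      rintro m rfl
      exact ⟨Over.homMk (Spec.map (m.left.residueFieldMap u₁)) (by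
          show Spec.map (m.left.residueFieldMap u₁) ≫ U₂.left.fromSpecResidueField (m.left u₁) ≫ U₂.hom = _
          rw [Scheme.Hom.SpecMap_residueFieldMap_fromSpecResidueField_assoc, Over.w m]; rfl),
        Over.OverMorphism.ext (Scheme.Hom.SpecMap_residueFieldMap_fromSpecResidueField m.left u₁).symm⟩
    obtain ⟨lb, hlb⟩ := hfac b hbu
    obtain ⟨lc, hlc⟩ := hfac c hcu
    have hjj : j₁ ≫ b = j₁ ≫ c := by
      have : lb = lc := (yon S).map_injective ((cancel_mono ((yon S).map j₂ ≫ a₂)).1 (by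
        rw [← Functor.map_comp_assoc, ← Functor.map_comp_assoc, ← hlb, ← hlc, Functor.map_comp_assoc,
          Functor.map_comp_assoc, hb, hc]))
      rw [hlb, hlc, this]
    have sq := h2.etale.1.isPullback' a₂
    let p₁ := h2.etale.1.fst' a₂
    let p₂ := h2.etale.1.snd a₂
    have : Etale p₂.left := h2.etale.property_snd a₂
    obtain ⟨Δ, hΔ⟩ := (yon S).map_surjective (sq.lift (𝟙 _) (𝟙 _) rfl)
    have hΔ1 : Δ ≫ p₁ = 𝟙 _ := (yon S).map_injective (by rw [Functor.map_comp, hΔ, sq.lift_fst, (yon S).map_id])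
    have hΔ2 : Δ ≫ p₂ = 𝟙 _ := (yon S).map_injective (by rw [Functor.map_comp, hΔ, sq.lift_snd, (yon S).map_id])
    have : IsOpenImmersion Δ.left := by
      have e : Δ.left ≫ p₂.left = 𝟙 _ := by rw [← Over.comp_left, hΔ2]; rfl
      have hd : IsOpenImmersion (pullback.diagonal p₂.left) := inferInstance
      have hΓ : IsOpenImmersion (pullback.lift (𝟙 U₂.left) Δ.left (Category.id_comp _) :
          U₂.left ⟶ pullback (Δ.left ≫ p₂.left) p₂.left) :=
        MorphismProperty.of_isPullback (P := @IsOpenImmersion) (isPullback_graph Δ.left p₂.left) hd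
      have : IsIso (Δ.left ≫ p₂.left) := by rw [e]; infer_instance
      rw [← pullback.lift_snd (f := Δ.left ≫ p₂.left) (g := p₂.left) (𝟙 U₂.left) Δ.left (Category.id_comp _)]
      infer_instance
    obtain ⟨l, hl⟩ := (yon S).map_surjective (sq.lift ((yon S).map b) ((yon S).map c) (hb.trans hc.symm))
    have hl1 : l ≫ p₁ = b := (yon S).map_injective (by rw [Functor.map_comp, hl, sq.lift_fst])
    have hl2 : l ≫ p₂ = c := (yon S).map_injective (by rw [Functor.map_comp, hl, sq.lift_snd])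
    have hlj : j₁ ≫ l = (j₁ ≫ b) ≫ Δ := (yon S).map_injective (sq.hom_ext
      (by rw [← Functor.map_comp, ← Functor.map_comp, Category.assoc, Category.assoc, hl1, hΔ1, Category.comp_id])
      (by rw [← Functor.map_comp, ← Functor.map_comp, Category.assoc, Category.assoc, hl2, hΔ2, Category.comp_id, hjj]))
    let O : U₁.left.Opens := l.left ⁻¹ᵁ Δ.left.opensRange
    have hu : u₁ ∈ O := by
      refine ⟨(j₁ ≫ b).left (IsLocalRing.closedPoint _), ?_⟩
      exact (congrArg (fun m => m.left (IsLocalRing.closedPoint _)) hlj).symm.trans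
        (congrArg l.left (Scheme.fromSpecResidueField_apply u₁ _))
    let U : Over S := Over.mk (O.ι ≫ U₁.hom)
    let h : U ⟶ U₁ := Over.homMk O.ι
    have : IsOpenImmersion h.left := inferInstanceAs (IsOpenImmersion O.ι)
    let a := (yon S).map h ≫ a₁
    have ha : RepWith @Etale a :=
      RepWith.comp ((repWith_yon_map_iff (P := @Etale) h).2 (inferInstanceAs (Etale O.ι))) h1.etale
    have hr : Set.range (U₁.left.fromSpecResidueField u₁) ⊆ Set.range O.ι := by
      rw [Scheme.range_fromSpecResidueField, Scheme.Opens.range_ι]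
      exact Set.singleton_subset_iff.2 hu
    let cs : Over.mk (U₁.left.fromSpecResidueField u₁ ≫ U₁.hom) ⟶ U :=
      Over.homMk (IsOpenImmersion.lift O.ι (U₁.left.fromSpecResidueField u₁) hr)
        (by show _ ≫ O.ι ≫ U₁.hom = _; rw [IsOpenImmersion.lift_fac_assoc]; rfl)
    have hcs : cs ≫ h = j₁ := Over.OverMorphism.ext (IsOpenImmersion.lift_fac _ _ _)
    have hs := isElem_of_section hX (k := U₁.left.residueField u₁) ((yon S).map j₁ ≫ a₁) a ha cs (by
      rw [← Functor.map_comp_assoc, hcs])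
    replace hs : IsElemEtaleNbhd a _ x := ⟨hs.etale, hs.ofPt_eq.trans ((hres a₁ u₁).trans h1.ofPt_eq), hs.mono⟩
    refine ⟨U, a, _, h, hs, rfl, (congrArg (fun m : _ ⟶ U₁ => m.left (IsLocalRing.closedPoint _)) hcs).trans
      (Scheme.fromSpecResidueField_apply u₁ _), Over.OverMorphism.ext ?_⟩
    have hsub : Set.range (O.ι ≫ l.left) ⊆ Set.range Δ.left := by
      rintro _ ⟨z, rfl⟩
      exact z.2
    have e := IsOpenImmersion.lift_fac Δ.left (O.ι ≫ l.left) hsub
    show O.ι ≫ b.left = O.ι ≫ c.left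
    rw [← hl1, ← hl2, Over.comp_left, Over.comp_left, ← Category.assoc, ← Category.assoc, ← e, Category.assoc,
      Category.assoc, ← Over.comp_left, ← Over.comp_left, hΔ1, hΔ2]

end Groth.Agent.AlgSpLib
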