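import Mathlib.AlgebraicGeometry.Morphisms.Affine
import Mathlib.AlgebraicGeometry.Morphisms.Flat
import Mathlib.RingTheory.Flat.Equalizer
import Mathlib.Algebra.Category.Ring.Constructions

/-!
Flat base change of an equalizer of rings, in terms of affine schemes.
-/

universe u

open CategoryTheory CategoryTheory.Limits AlgebraicGeometry TensorProduct

noncomputable section

namespace Groth.Agent.AlgSpLib

theorem exists_tensor_equiv {k B M : Type u} [CommRing k] [CommRing B] [CommRing M] [Algebra k B]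
    [Algebra k M] {M' : CommRingCat.{u}} {cM : CommRingCat.of B ⟶ M'} {pM : CommRingCat.of M ⟶ M'}
    (h : IsPushout (CommRingCat.ofHom (algebraMap k B)) (CommRingCat.ofHom (algebraMap k M)) cM pM) :
    ∃ e : B ⊗[k] M ≃+* M', ∀ b m, e (b ⊗ₜ m) = cM b * pM m := by
  let i := (CommRingCat.isPushout_tensorProduct k B M).isoIsPushout _ _ h
  refine ⟨i.commRingCatIsoToRingEquiv, fun b m => ?_⟩
  have h1 := congrArg (fun φ => φ.hom b) (IsPushout.inl_isoIsPushout_hom _ _
    (CommRingCat.isPushout_tensorProduct k B M) h)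
  have h2 := congrArg (fun φ => φ.hom m) (IsPushout.inr_isoIsPushout_hom _ _
    (CommRingCat.isPushout_tensorProduct k B M) h)
  rw [show b ⊗ₜ[k] m = (b ⊗ₜ[k] (1 : M)) * ((1 : B) ⊗ₜ[k] m) by simp, map_mul]
  exact congrArg₂ (· * ·) h1 h2

/-- flat base change of an equalizer of rings -/
theorem equalizer_baseChange {k B A M N A' M' N' : CommRingCat.{u}} (kB : k ⟶ B) (hB : kB.hom.Flat)
    (kA : k ⟶ A) (i : A ⟶ M) (s t : M ⟶ N) (w : i ≫ s = i ≫ t)
    {cA : B ⟶ A'} {pA : A ⟶ A'} (hA : IsPushout kB kA cA pA)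
    {cM : B ⟶ M'} {pM : M ⟶ M'} (hM : IsPushout kB (kA ≫ i) cM pM)
    {cN : B ⟶ N'} {pN : N ⟶ N'} (hN : IsPushout kB (kA ≫ i ≫ s) cN pN)
    (i' : A' ⟶ M') (s' t' : M' ⟶ N') (hi₁ : cA ≫ i' = cM) (hi₂ : pA ≫ i' = i ≫ pM)
    (hs₁ : cM ≫ s' = cN) (hs₂ : pM ≫ s' = s ≫ pN)
    (ht₁ : cM ≫ t' = cN) (ht₂ : pM ≫ t' = t ≫ pN)
    (hinj : Function.Injective i) (heq : ∀ m, s m = t m → ∃ a, i a = m) :
    Function.Injective i' ∧ ∀ m, s' m = t' m → ∃ a, i' a = m := by
  algebraize [kB.hom, kA.hom, (kA ≫ i).hom, (kA ≫ i ≫ s).hom]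
  let il : A →ₐ[k] M := { i.hom with commutes' := fun _ => rfl }
  let sl : M →ₐ[k] N := { s.hom with commutes' := fun _ => rfl }
  let tl : M →ₐ[k] N :=
    { t.hom with commutes' := fun r => (congrArg (fun φ => φ.hom r) (show kA ≫ i ≫ t = kA ≫ i ≫ s by rw [w])) }
  obtain ⟨eA, heA⟩ := exists_tensor_equiv (k := k) (B := B) (M := A) (cM := cA) (pM := pA) hA
  obtain ⟨eM, heM⟩ := exists_tensor_equiv (k := k) (B := B) (M := M) (cM := cM) (pM := pM) hM
  obtain ⟨eN, heN⟩ := exists_tensor_equiv (k := k) (B := B) (M := N) (cM := cN) (pM := pN) hN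
  have hi : ∀ x, i' (eA x) = eM (il.toLinearMap.lTensor B x) := fun x => by
    induction x with
    | zero => simp
    | add x y hx hy => simp [hx, hy]
    | tmul b a =>
      rw [LinearMap.lTensor_tmul, heA, heM, map_mul]
      exact congrArg₂ (· * ·) (congrArg (fun φ => φ.hom b) hi₁) (congrArg (fun φ => φ.hom a) hi₂)
  have hs : ∀ x, s' (eM x) = eN (sl.toLinearMap.lTensor B x) := fun x => by
    induction x with
    | zero => simp
    | add x y hx hy => simp [hx, hy]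
    | tmul b a =>
      rw [LinearMap.lTensor_tmul, heM, heN, map_mul]
      exact congrArg₂ (· * ·) (congrArg (fun φ => φ.hom b) hs₁) (congrArg (fun φ => φ.hom a) hs₂)
  have ht : ∀ x, t' (eM x) = eN (tl.toLinearMap.lTensor B x) := fun x => by
    induction x with
    | zero => simp
    | add x y hx hy => simp [hx, hy]
    | tmul b a =>
      rw [LinearMap.lTensor_tmul, heM, heN, map_mul]
      exact congrArg₂ (· * ·) (congrArg (fun φ => φ.hom b) ht₁) (congrArg (fun φ => φ.hom a) ht₂)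
  have hex : Function.Exact il.toLinearMap (sl.toLinearMap - tl.toLinearMap) := fun m => by
    constructor
    · intro hm
      obtain ⟨a, ha⟩ := heq m (sub_eq_zero.1 hm)
      exact ⟨a, ha⟩
    · rintro ⟨a, rfl⟩
      exact sub_eq_zero.2 (congrArg (fun φ => φ.hom a) w)
  constructor
  · intro x y hxy
    obtain ⟨x, rfl⟩ := eA.surjective x
    obtain ⟨y, rfl⟩ := eA.surjective y
    rw [hi, hi] at hxy
    rw [Module.Flat.lTensor_preserves_injective_linearMap il.toLinearMap hinj (eM.injective hxy)]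
  · intro m hm
    obtain ⟨m, rfl⟩ := eM.surjective m
    rw [hs, ht] at hm
    obtain ⟨a, ha⟩ := ((Module.Flat.lTensor_exact B hex) m).1 (by
      rw [LinearMap.lTensor_sub, LinearMap.sub_apply, sub_eq_zero]
      exact eN.injective hm)
    exact ⟨eA a, by rw [hi, ha]⟩

/-- the scheme form of `equalizer_baseChange` -/
theorem appTop_equalizer_baseChange {Z V A U R A' U' R' : Scheme.{u}} [IsAffine Z] [IsAffine V]
    [IsAffine A] [IsAffine U] [IsAffine R] (c : V ⟶ Z) [Flat c] (a : A ⟶ Z) (q : U ⟶ A) (s t : R ⟶ U)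
    (w : s ≫ q = t ≫ q) {πA : A' ⟶ A} {a' : A' ⟶ V} (sqA : IsPullback πA a' a c)
    {πU : U' ⟶ U} {vU : U' ⟶ V} (sqU : IsPullback πU vU (q ≫ a) c)
    {πR : R' ⟶ R} {vR : R' ⟶ V} (sqR : IsPullback πR vR ((s ≫ q) ≫ a) c)
    (q' : U' ⟶ A') (s' t' : R' ⟶ U') (hq₁ : q' ≫ a' = vU) (hq₂ : q' ≫ πA = πU ≫ q)
    (hs₁ : s' ≫ vU = vR) (hs₂ : s' ≫ πU = πR ≫ s)
    (ht₁ : t' ≫ vU = vR) (ht₂ : t' ≫ πU = πR ≫ t)
    (hinj : Function.Injective q.appTop)
    (heq : ∀ m, s.appTop m = t.appTop m → ∃ x, q.appTop x = m) :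
    Function.Injective q'.appTop ∧ ∀ m, s'.appTop m = t'.appTop m → ∃ x, q'.appTop x = m := by
  refine equalizer_baseChange c.appTop (HasRingHomProperty.appTop (P := @Flat) c inferInstance)
    a.appTop q.appTop s.appTop t.appTop
    (by rw [← Scheme.Hom.comp_appTop, ← Scheme.Hom.comp_appTop, w])
    (isPushout_appTop_of_isPullback sqA).flip
    (cM := vU.appTop) (pM := πU.appTop) ?_ (cN := vR.appTop) (pN := πR.appTop) ?_
    q'.appTop s'.appTop t'.appTop
    ?_ ?_ ?_ ?_ ?_ ?_ hinj heq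
  · rw [← Scheme.Hom.comp_appTop]; exact (isPushout_appTop_of_isPullback sqU).flip
  · rw [← Scheme.Hom.comp_appTop, ← Scheme.Hom.comp_appTop]
    exact (isPushout_appTop_of_isPullback sqR).flip
  all_goals rw [← Scheme.Hom.comp_appTop]
  all_goals first
    | rw [hq₁] | rw [hs₁] | rw [ht₁] | rw [← Scheme.Hom.comp_appTop, hq₂]
    | rw [← Scheme.Hom.comp_appTop, hs₂] | rw [← Scheme.Hom.comp_appTop, ht₂]

end Groth.Agent.AlgSpLib
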