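import Groth.Agent.AlgSpLib.SpacePush
import Groth.Agent.Et18.IntegralLift

/-!
The pushforward of a space etale over the source of an integral universally injective surjective
morphism is etale over the target and restricts to the space it came from.
-/

universe u

open CategoryTheory CategoryTheory.Limits AlgebraicGeometry Opposite
open AlgSp

noncomputable section

namespace Groth.Agent.AlgSpLib.PushSp

set_option backward.isDefEq.respectTransparency.types false

variable {S : Scheme.{u}} {X X' E : Sp S}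

/-- etale schemes over the source of an integral universally injective morphism lift locally -/
theorem exists_piece {U₀ U W₀ : Scheme.{u}} (i : U₀ ⟶ U) [IsIntegralHom i] [UniversallyInjective i]
    (v : W₀ ⟶ U₀) [Etale v] (w₀ : W₀) :
    ∃ (V : Scheme.{u}) (p : V ⟶ U) (ψ : pullback p i ⟶ W₀),
      Etale p ∧ ψ ≫ v = pullback.snd p i ∧ w₀ ∈ Set.range ψ := by
  let Ω := AlgebraicClosure (W₀.residueField w₀)
  let wpt : Spec (CommRingCat.of Ω) ⟶ W₀ :=
    Spec.map (CommRingCat.ofHom (algebraMap (W₀.residueField w₀) Ω)) ≫ W₀.fromSpecResidueField w₀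
  have hw : ∀ t, wpt t = w₀ := fun t => W₀.fromSpecResidueField_apply w₀ _
  let V : U.Etale := Scheme.Etale.mk (𝟙 U)
  have hinj : Function.Injective (pullback.fst V.hom i : ((EtCoh.bc i).obj V).left ⟶ V.left) := by
    have : UniversallyInjective (pullback.fst V.hom i) :=
      MorphismProperty.pullback_fst (P := @UniversallyInjective) _ _ inferInstance
    exact (pullback.fst V.hom i).injective
  let g : Scheme.Etale.mk v ⟶ (EtCoh.bc i).obj V := MorphismProperty.Over.homMk
    (pullback.lift (v ≫ i) v (Category.comp_id _)) (pullback.lift_snd _ _ _)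
  obtain ⟨V', -, x, h, -, hx⟩ := Et18.exists_bc_lift_of_integral (f := i) (wpt ≫ v) V hinj
    (Scheme.Etale.mk v) g (Over.homMk wpt rfl)
  refine ⟨V'.left, V'.hom, h.left, V'.prop, Over.w h.hom, x.left (IsLocalRing.closedPoint Ω), ?_⟩
  have e : x.left ≫ h.left = wpt := congrArg (fun m => m.left) hx
  exact (congrArg (fun m : Spec (CommRingCat.of Ω) ⟶ W₀ => m (IsLocalRing.closedPoint Ω)) e).trans (hw _)

/-- an etale monomorphism of spaces which is surjective is an isomorphism -/
theorem isIso_of_mono_etale_surjective {F G : Sp S} (hF : IsAlgSpace F) (hG : IsAlgSpace G) (η : F ⟶ G)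
    [Mono η] (he : LocP @Etale η) (hs : Function.Surjective (Points.map η)) : IsIso η := by
  have ho := (repWith_isOpenImmersion_iff_mono_etale hF hG η).2
    ⟨inferInstance, (isEtaleMor_iff_locP etLocal_etale hF hG η).2 he⟩
  have hsr := repWith_surjective_of_surjective_map ho.1 hs
  refine isIso_of_repWith_isomorphisms ⟨ho.1, fun U V g fst snd sq => ?_⟩
  have : IsOpenImmersion snd.left := ho.2 g fst snd sq
  have : Surjective snd.left := hsr.2 g fst snd sq
  exact (isIso_iff_isOpenImmersion_and_epi_base _).2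
    ⟨‹_›, (TopCat.epi_iff_surjective _).2 snd.left.surjective⟩

variable {f : X ⟶ X'} {b : E ⟶ X}

/-- charts of the pushforward, with lifts covering the space it came from -/
theorem exists_family (H : Hyp f b) :
    ∃ (ι : Type u) (V M : ι → Over S) (σ : ∀ i, (yon S).obj (V i) ⟶ obj f b)
      (l : ∀ i, (yon S).obj (M i) ⟶ pullback (str f b) f),
      (∀ i, RepWith @Etale (σ i)) ∧ (∀ i, RepWith @Etale (σ i ≫ str f b)) ∧
      (∀ x : Points (obj f b), ∃ i, x ∈ Set.range (Points.map (σ i))) ∧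
      ∀ e : Points E, ∃ i, e ∈ Set.range (Points.map (l i ≫ ev f b)) := by
  obtain ⟨U, p, hpe, hps⟩ := H.hX'.atlas
  have sq0 := H.rep.1.isPullback p
  let iU := H.rep.1.snd p
  let q := H.rep.1.fst p
  have hfs := repWith_surjective_of_surjective_map H.rep.1 H.surj
  have hqe : RepWith @Etale q := RepWith.baseChange sq0.flip hpe
  have hqs : RepWith @Surjective q := RepWith.baseChange sq0.flip hps
  obtain ⟨W₀, fE, v, hfe, hfs', wv⟩ := exists_chart_over H.hE H.hX b q hqe hqs
  have : Etale v.left := property_of_repWith_comp etLocal_etale v q hqe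
    (wv ▸ repWith_comp_of_locP etLocal_etale H.hX H.etale fE hfe)
  have : IsIntegralHom iU.left := H.rep.property_snd p
  have : UniversallyInjective iU.left :=
    ((repWith_universallyInjective_iff H.rep.1).2 fun K _ str => injective_fieldPoints_of_surjective_diagonal H.hX
      (surjective_diagonal_of_univInjective H.hX H.ui) K str).property_snd p
  choose V₀ pV ψ hpV hψ hw₀ using exists_piece iU.left v.left
  let V : W₀.left → Over S := fun i => Over.mk (pV i ≫ U.hom)
  let vb : ∀ i, V i ⟶ U := fun i => Over.homMk (pV i) rfl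
  let M : W₀.left → Over S := fun i => Over.mk (pullback.fst (pV i) iU.left ≫ (V i).hom)
  let μ : ∀ i, M i ⟶ V i := fun i => Over.homMk (pullback.fst (pV i) iU.left) rfl
  let π : ∀ i, M i ⟶ H.rep.1.pullback p := fun i => Over.homMk (pullback.snd (pV i) iU.left) (by
    show _ = pullback.fst (pV i) iU.left ≫ pV i ≫ U.hom
    rw [pullback.condition_assoc, Over.w iU])
  let ψ' : ∀ i, M i ⟶ W₀ := fun i => Over.homMk (ψ i) (by
    rw [← Over.w v, ← Category.assoc, hψ]
    exact Over.w (π i))
  have hψ' : ∀ i, ψ' i ≫ v = π i := fun i => Over.OverMorphism.ext (hψ i)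
  have sqM : ∀ i, IsPullback (π i) (μ i) iU (vb i) := fun i =>
    IsPullback.of_map (Over.forget S) (Over.OverMorphism.ext pullback.condition.symm)
      (IsPullback.of_hasPullback (pV i) iU.left).flip
  have sqg : ∀ i, IsPullback ((yon S).map (π i) ≫ q) ((yon S).map (μ i)) f ((yon S).map (vb i) ≫ p) :=
    fun i => ((sqM i).map (yon S)).paste_horiz sq0
  have hχ : ∀ i, ((yon S).map (ψ' i) ≫ fE) ≫ b = (yon S).map (π i) ≫ q := fun i => by
    rw [Category.assoc, wv, ← Category.assoc, ← Functor.map_comp, hψ']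
  let s : ∀ i, Sec f b (V i) := fun i => mkSec (sqg i) ((yon S).map (ψ' i) ≫ fE) (hχ i)
  let σ : ∀ i, (yon S).obj (V i) ⟶ obj f b := fun i => ofSec (s i)
  have hσ : ∀ i, σ i ≫ str f b = (yon S).map (vb i) ≫ p := fun i => by
    rw [comp_str, sec_ofSec]; rfl
  have hvb : ∀ i, RepWith @Etale ((yon S).map (vb i) ≫ p) := fun i =>
    RepWith.comp ((repWith_yon_map_iff _ _).2 (hpV i)) hpe
  let l : ∀ i, (yon S).obj (M i) ⟶ pullback (str f b) f := fun i =>
    pullback.lift ((yon S).map (μ i) ≫ σ i) ((yon S).map (π i) ≫ q) (by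
      rw [Category.assoc, hσ]; exact (sqg i).w.symm)
  have hl : ∀ i, l i ≫ ev f b = (yon S).map (ψ' i) ≫ fE := fun i => by
    have e1 : l i ≫ pullback.fst _ _ = (yon S).map (μ i) ≫ σ i := pullback.lift_fst _ _ _
    have e2 : l i ≫ pullback.snd _ _ = (yon S).map (π i) ≫ q := pullback.lift_snd _ _ _
    rw [comp_ev]
    refine (Sec.φ_congr (s' := (s i).res (μ i)) (by rw [e1, sec_comp, sec_ofSec]) rfl e2 _).trans ?_
    show (mkSec (sqg i) _ (hχ i)).φ (𝟙 _ ≫ μ i) _ _ = _
    rw [mkSec_φ (sqg i) _ (hχ i) _ _ _ (𝟙 _) (Category.id_comp _) (by rw [Category.id_comp, Category.id_comp]),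
      Category.id_comp]
  refine ⟨W₀.left, V, M, σ, l, fun i => repWith_etale_ofSec H _ (hvb i), fun i => hσ i ▸ hvb i,
    fun z => ?_, fun e => ?_⟩
  · obtain ⟨K, _, sK, x, rfl⟩ := exists_ptOfHom z
    have sqK := H.rep.1.isPullback (sec x).g
    have : Surjective (H.rep.1.snd (sec x).g).left := hfs.property_snd _
    obtain ⟨t₀, -⟩ := (H.rep.1.snd (sec x).g).left.surjective (IsLocalRing.closedPoint K)
    obtain ⟨χ, hχ'⟩ : ∃ χ, (sec x).φ (H.rep.1.snd (sec x).g) (H.rep.1.fst (sec x).g) sqK.w = χ := ⟨_, rfl⟩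
    obtain ⟨w, hw⟩ := surjective_map_of_repWith hfs' (Points.ofPt χ t₀)
    obtain ⟨i, rfl⟩ := (Points.schemeHomeo W₀).surjective w
    obtain ⟨m, hm⟩ := hw₀ i
    obtain ⟨Ω, _, sΩ, a, c, e, ha, hc⟩ := exists_of_map_eq (f := χ) (g := (yon S).map (ψ' i) ≫ fE)
      (x := Points.ofScheme _ t₀) (y := Points.ofScheme _ m) (by
        rw [← Points.ofPt_eq_map_ofScheme, ← Points.ofPt_eq_map_ofScheme, ofPt_map, ← hw,
          Points.ofPt_eq_map_ofScheme]
        exact congrArg (fun r => Points.map fE (Points.ofScheme W₀ r)) hm.symm)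
    refine ⟨i, ptOfHom (c ≫ (yon S).map (μ i)), ?_⟩
    rw [map_ptOfHom]
    obtain ⟨a', rfl⟩ := (yon S).map_surjective a
    obtain ⟨c', rfl⟩ := (yon S).map_surjective c
    rw [← ptOfHom_map x (a' ≫ H.rep.1.snd (sec x).g), ← Functor.map_comp]
    congr 1
    refine sec_injective ?_
    rw [sec_comp, sec_comp, sec_ofSec]
    have hh : (yon S).map a' ≫ H.rep.1.fst (sec x).g = (yon S).map c' ≫ (yon S).map (π i) ≫ q := by
      rw [← hχ i, ← (sec x).hb _ _ sqK.w, hχ', ← Category.assoc, e]
      simp only [Category.assoc]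
    have w1 : ((yon S).map a' ≫ H.rep.1.fst (sec x).g) ≫ f =
        (yon S).map (a' ≫ H.rep.1.snd (sec x).g) ≫ (sec x).g := by
      rw [Category.assoc, sqK.w, Functor.map_comp, Category.assoc]
    have w2 : ((yon S).map a' ≫ H.rep.1.fst (sec x).g) ≫ f = (yon S).map (c' ≫ μ i) ≫ (s i).g := by
      rw [hh, Functor.map_comp, Category.assoc, Category.assoc]
      exact congrArg ((yon S).map c' ≫ ·) (sqg i).w
    refine sec_eq_of_lift H (w2.symm.trans w1) ((yon S).map a' ≫ H.rep.1.fst (sec x).g) ?_ ?_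
    · rw [(yon S).map_id, Category.id_comp]; exact w2
    · show (s i).φ _ _ _ = (sec x).φ _ _ _
      refine Eq.trans ?_ (Eq.trans e.symm ?_)
      · refine (mkSec_φ (sqg i) _ (hχ i) _ _ _ ((yon S).map c') hh.symm ?_)
        rw [Category.id_comp, Functor.map_comp]
      · rw [← hχ', Sec.nat]
        exact Sec.φ_congr rfl (Category.id_comp _).symm rfl _
  · obtain ⟨w, rfl⟩ := surjective_map_of_repWith hfs' e
    obtain ⟨i, rfl⟩ := (Points.schemeHomeo W₀).surjective w
    obtain ⟨m, hm⟩ := hw₀ i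
    refine ⟨i, Points.ofScheme _ m, ?_⟩
    rw [hl, Points.map_comp, map_yon_map_ofScheme]
    exact congrArg (fun r => Points.map fE (Points.ofScheme W₀ r)) hm

/-- the pushforward is an algebraic space etale over the target -/
theorem isAlgSpace_obj (H : Hyp f b) : IsAlgSpace (obj f b) ∧ LocP @Etale (str f b) := by
  obtain ⟨ι, V, M, σ, l, hσ, hτ, hs, -⟩ := exists_family H
  obtain ⟨ψ, hψ, -⟩ := existsUnique_desc_sigma V σ
  have hι : ∀ i, RepWith @IsOpenImmersion ((yon S).map (sigmaOverι V i)) := fun i =>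
    (repWith_yon_map_iff _ _).2 (inferInstanceAs (IsOpenImmersion (Sigma.ι (fun i => (V i).left) i)))
  have hcov : ∀ x : Points ((yon S).obj (sigmaOver V)),
      ∃ i, x ∈ Set.range (Points.map ((yon S).map (sigmaOverι V i))) := fun x => by
    obtain ⟨t, rfl⟩ := (Points.schemeHomeo (sigmaOver V)).surjective x
    obtain ⟨i, y, hy⟩ := exists_mem_range_sigmaOverι V t
    refine ⟨i, Points.schemeHomeo _ y, ?_⟩
    show Points.map _ (Points.ofScheme _ y) = Points.ofScheme _ t
    rw [map_yon_map_ofScheme, hy]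
  have h1 : RepWith @Etale ψ := repWith_of_open_cover @Etale _ hι hcov ψ fun i => by rw [hψ]; exact hσ i
  have h2 : RepWith @Surjective ψ := repWith_surjective_of_surjective_map h1.1 fun x => by
    obtain ⟨i, y, rfl⟩ := hs x
    exact ⟨Points.map ((yon S).map (sigmaOverι V i)) y, by rw [← Points.map_comp, hψ]⟩
  have hP := isAlgSpace_of_etale_surjective (IsAlgSpace.yon_obj _) ψ h1 h2
  exact ⟨hP, locP_of_atlas etLocal_etale hP ψ h1 h2 (repWith_of_open_cover @Etale _ hι hcov _ fun i => by
    rw [← Category.assoc, hψ]; exact hτ i)⟩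

theorem isAlgSpace_pullback (H : Hyp f b) :
    IsAlgSpace (pullback (str f b) f) ∧ LocP @Etale (pullback.snd (str f b) f) := by
  obtain ⟨hP, hs⟩ := isAlgSpace_obj H
  have sq := IsPullback.of_hasPullback (str f b) f
  have hQ : IsAlgSpace (pullback (str f b) f) := isAlgSpace_of_isPullback H.hX'.diag hP H.hX sq
  exact ⟨hQ, locP_of_isPullback etLocal_etale hP H.hX' hQ sq hs⟩

/-- the counit is an isomorphism -/
theorem isIso_ev (H : Hyp f b) : IsIso (ev f b) := by
  have := mono_ev H
  obtain ⟨hQ, hs⟩ := isAlgSpace_pullback H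
  refine isIso_of_mono_etale_surjective hQ H.hE _ (locP_of_comp' etLocal_etale hQ H.hE H.hX
    (fun _ _ _ a b h1 h2 => by
      have : Etale (a ≫ b) := h1
      have : Etale b := h2
      exact Etale.of_comp a b) (g := b) (ev_comp f b ▸ hs) H.etale) fun e => ?_
  obtain ⟨ι, V, M, σ, l, -, -, -, he⟩ := exists_family H
  obtain ⟨i, y, rfl⟩ := he e
  exact ⟨Points.map (l i) y, (Points.map_comp _ _ _).symm⟩

/-- the square of the pushforward -/
theorem exists_isPullback (H : Hyp f b) : ∃ κ : E ⟶ obj f b, IsPullback b κ f (str f b) := by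
  have := isIso_ev H
  exact ⟨inv (ev f b) ≫ pullback.fst _ _, (IsPullback.of_hasPullback (str f b) f).flip.of_iso
    (asIso (ev f b)) (Iso.refl _) (Iso.refl _) (Iso.refl _) (by simp [ev_comp]) (by simp) (by simp) (by simp)⟩

/-! ### the unit -/

section unit

variable {V : Sp S} {a : V ⟶ X'} {c : E ⟶ V} (sq : IsPullback b c f a)

/-- the section of a section of the target space -/
def unitSec {T : Over S} (y : (yon S).obj T ⟶ V) : Sec f b T where
  g := y ≫ a
  φ _ u h w := sq.lift h ((yon S).map u ≫ y) (by rw [w, Category.assoc])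
  hb _ u h w := sq.lift_fst _ _ _
  nat _ _ v u h w := by
    apply sq.hom_ext
    · rw [Category.assoc, sq.lift_fst, sq.lift_fst]
    · rw [Category.assoc, sq.lift_snd, sq.lift_snd, Functor.map_comp, Category.assoc]

/-- the unit -/
def unit : V ⟶ obj f b :=
  homOfNat (fun T y => ofSec (unitSec sq y)) fun T T' u y => by
    refine sec_injective ?_
    rw [sec_comp, sec_ofSec, sec_ofSec]
    refine Sec.ext' (Category.assoc _ _ _).symm fun T'' v h w => ?_
    apply sq.hom_ext
    · exact (sq.lift_fst _ _ _).trans (sq.lift_fst _ _ _).symm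
    · refine (sq.lift_snd _ _ _).trans ((sq.lift_snd _ _ _).trans ?_).symm
      rw [Functor.map_comp, Category.assoc]

theorem sec_comp_unit {T : Over S} (y : (yon S).obj T ⟶ V) : sec (y ≫ unit sq) = unitSec sq y := by
  rw [unit, comp_homOfNat, sec_ofSec]

theorem unit_str : unit sq ≫ str f b = a := hom_ext_of_yon fun T y => by
  rw [← Category.assoc, comp_str, sec_comp_unit]
  rfl

theorem isIso_unit (H : Hyp f b) (hV : IsAlgSpace V) (ha : LocP @Etale a) : IsIso (unit sq) := by
  obtain ⟨hP, hs⟩ := isAlgSpace_obj H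
  have hΔ : RepWith @IsOpenImmersion (pullback.diagonal a) := repWith_diagonal_of_unramified hV H.hX'
    (locP_mono (fun _ _ g (_ : Etale g) => ⟨inferInstance, inferInstance⟩) ha)
  have : Mono (unit sq) := ⟨fun {Q} z z' e => hom_ext_of_yon fun T x => by
    have e' : (x ≫ z) ≫ unit sq = (x ≫ z') ≫ unit sq := by rw [Category.assoc, Category.assoc, e]
    have e'' := congrArg sec e'
    rw [sec_comp_unit, sec_comp_unit] at e''
    have hg : (x ≫ z) ≫ a = (x ≫ z') ≫ a := congrArg Sec.g e''
    have : Surjective (H.rep.1.snd ((x ≫ z) ≫ a)).left :=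
      (repWith_surjective_of_surjective_map H.rep.1 H.surj).property_snd _
    refine eq_of_surjective hΔ (H.rep.1.snd ((x ≫ z) ≫ a)) hg ?_
    have := congrArg (· ≫ c) (Sec.φ_congr e'' (u := H.rep.1.snd ((x ≫ z) ≫ a))
      (h := H.rep.1.fst ((x ≫ z) ≫ a)) rfl rfl (H.rep.1.isPullback _).w)
    exact (sq.lift_snd _ _ _).symm.trans (this.trans (sq.lift_snd _ _ _))⟩
  refine isIso_of_mono_etale_surjective hV hP _ (locP_of_comp' etLocal_etale hV hP H.hX'
    (fun _ _ _ a b h1 h2 => by
      have : Etale (a ≫ b) := h1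
      have : Etale b := h2
      exact Etale.of_comp a b) (g := str f b) ((unit_str sq).symm ▸ ha) hs) fun z => ?_
  obtain ⟨K, _, sK, x, rfl⟩ := exists_ptOfHom z
  have sqK := H.rep.1.isPullback (sec x).g
  have : Surjective (H.rep.1.snd (sec x).g).left :=
    (repWith_surjective_of_surjective_map H.rep.1 H.surj).property_snd _
  obtain ⟨t₀, -⟩ := (H.rep.1.snd (sec x).g).left.surjective (IsLocalRing.closedPoint K)
  let sP := (H.rep.1.pullback (sec x).g).left.fromSpecResidueField t₀ ≫ (H.rep.1.pullback (sec x).g).hom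
  let r : Over.mk sP ⟶ H.rep.1.pullback (sec x).g :=
    Over.homMk ((H.rep.1.pullback (sec x).g).left.fromSpecResidueField t₀) rfl
  obtain ⟨χ, hχ⟩ : ∃ χ, (sec x).φ (r ≫ H.rep.1.snd (sec x).g) ((yon S).map r ≫ H.rep.1.fst (sec x).g)
      (by rw [Category.assoc, sqK.w, Functor.map_comp, Category.assoc]) = χ := ⟨_, rfl⟩
  refine ⟨ptOfHom (χ ≫ c), ?_⟩
  rw [map_ptOfHom, ← ptOfHom_map x (r ≫ H.rep.1.snd (sec x).g)]
  congr 1
  refine sec_injective ?_
  rw [sec_comp_unit, sec_comp]
  have hb : χ ≫ b = (yon S).map r ≫ H.rep.1.fst (sec x).g := by rw [← hχ, Sec.hb]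
  refine sec_eq_of_lift H ?_ (χ ≫ b) ?_ ?_
  · show (χ ≫ c) ≫ a = (yon S).map (r ≫ H.rep.1.snd (sec x).g) ≫ (sec x).g
    rw [Category.assoc, ← sq.w, ← Category.assoc, hb, Category.assoc, sqK.w, Functor.map_comp, Category.assoc]
  · show _ = (yon S).map (𝟙 _) ≫ (χ ≫ c) ≫ a
    rw [(yon S).map_id, Category.id_comp, Category.assoc, Category.assoc, sq.w]
    rfl
  · show sq.lift _ _ _ = (sec x).φ _ _ _
    refine Eq.trans ?_ (hχ.symm.trans (Sec.φ_congr rfl (Category.id_comp _).symm hb.symm _))
    apply sq.hom_ext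
    · rw [sq.lift_fst]
    · rw [sq.lift_snd, (yon S).map_id, Category.id_comp]

end unit

end Groth.Agent.AlgSpLib.PushSp
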