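import Groth.Agent.AlgSpLib.EtGlueSpace
import Groth.Agent.AlgSpLib.SpacePushEq
import Groth.Agent.AlgSpLib.EqvQuot
import Groth.Agent.Stk19b.RedInd
import Groth.Agent.AlgSpLib.InductPrinciple
import Groth.Prelude.Def_AlgSpSub

/-!
Elementary distinguished squares from an open subspace and an etale map out of it.
-/

universe u

open CategoryTheory CategoryTheory.Limits AlgebraicGeometry Opposite
open AlgSp

noncomputable section

namespace Groth.Agent.AlgSpLib.EtGlue

set_option backward.isDefEq.respectTransparency.types false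
set_option backward.isDefEq.respectTransparency false
set_option linter.style.haveILetI false

variable {S : Scheme.{u}}

variable {U V V' : AlgSp.Space S} {jV : V'.obj ⟶ V.obj} (hjV : RepWith @IsOpenImmersion jV)
  {f' : V'.obj ⟶ U.obj} (het : IsEtaleMor f') [Mono jV]

include hjV het in
theorem isAlgSpace_glue : IsAlgSpace (glue jV f') ∧ IsEtaleMor (inU jV f') ∧ IsEtaleMor (inV jV f') := by
  obtain ⟨U₁, u, hue, hus⟩ := U.property.atlas
  obtain ⟨V₁, v, hve, hvs⟩ := V.property.atlas
  let A : ULift.{u} Bool → Over S := fun b => bif b.down then U₁ else V₁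
  let p : ∀ b, (yon S).obj (A b) ⟶ glue jV f' := fun b => match b with
    | ⟨true⟩ => u ≫ inU jV f'
    | ⟨false⟩ => v ≫ inV jV f'
  obtain ⟨ψ, hψ, -⟩ := existsUnique_desc_sigma A p
  have hι : ∀ i, RepWith @IsOpenImmersion ((yon S).map (sigmaOverι A i)) := fun i =>
    (repWith_yon_map_iff _ _).2 inferInstance
  have hcov : ∀ x : Points ((yon S).obj (sigmaOver A)),
      ∃ i, x ∈ Set.range (Points.map ((yon S).map (sigmaOverι A i))) := fun x => by
    obtain ⟨t, rfl⟩ := (Points.schemeHomeo (sigmaOver A)).surjective x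
    obtain ⟨i, y, hy⟩ := exists_mem_range_sigmaOverι A t
    refine ⟨i, Points.schemeHomeo _ y, ?_⟩
    rw [← hy]
    exact map_yon_map_ofScheme _ y
  have hI : ∀ {X : Sp S} (c : X ⟶ glue jV f'),
      (∀ i, RepWith @Etale (pullback.snd (p i) c)) → RepWith @Etale (pullback.snd ψ c) := by
    intro X c hc
    refine repWith_of_open_cover @Etale
      (fun i => pullback.fst (pullback.fst ψ c) ((yon S).map (sigmaOverι A i)))
      (fun i => RepWith.baseChange (IsPullback.of_hasPullback _ _).flip (hι i)) (fun x => ?_) _ fun i => ?_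
    · obtain ⟨i, y, hy⟩ := hcov (Points.map (pullback.fst ψ c) x)
      obtain ⟨z, hz, -⟩ := exists_point_of_isPullback
        (IsPullback.of_hasPullback (pullback.fst ψ c) ((yon S).map (sigmaOverι A i))) (x := x) (y := y) hy.symm
      exact ⟨i, z, hz⟩
    · have sq : IsPullback (pullback.snd (pullback.fst ψ c) ((yon S).map (sigmaOverι A i)))
          (pullback.fst (pullback.fst ψ c) ((yon S).map (sigmaOverι A i)) ≫ pullback.snd ψ c) (p i) c := by
        rw [← hψ i]
        exact (((IsPullback.of_hasPullback (pullback.fst ψ c) ((yon S).map (sigmaOverι A i))).flip).paste_vert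
          (IsPullback.of_hasPullback ψ c))
      rw [show pullback.fst (pullback.fst ψ c) ((yon S).map (sigmaOverι A i)) ≫ pullback.snd ψ c =
        sq.isoPullback.hom ≫ pullback.snd (p i) c from sq.isoPullback_hom_snd.symm]
      exact RepWith.comp (repWith_of_isIso _ _) (hc i)
  have hU' : RepWith @Etale (pullback.snd ψ (inU jV f')) := hI _ fun i => match i with
    | ⟨true⟩ => etale_UU u hue
    | ⟨false⟩ => etale_VU hjV het v hve
  have hV' : RepWith @Etale (pullback.snd ψ (inV jV f')) := hI _ fun i => match i with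
    | ⟨true⟩ => etale_UV hjV u hue
    | ⟨false⟩ => etale_VV hjV het v hve
  have hs : RepWith @Etale (pullback.snd ψ ψ) := by
    have hcomp : ∀ {X Y : Sp S} (a : Y ⟶ X) (c : X ⟶ glue jV f'), RepWith @Etale (pullback.snd ψ c) →
        RepWith @Etale (pullback.snd ψ (a ≫ c)) := fun a c h => by
      have sq : IsPullback (pullback.fst (pullback.snd ψ c) a ≫ pullback.fst ψ c)
          (pullback.snd (pullback.snd ψ c) a) ψ (a ≫ c) :=
        (IsPullback.of_hasPullback (pullback.snd ψ c) a).paste_horiz (IsPullback.of_hasPullback ψ c)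
      rw [show pullback.snd ψ (a ≫ c) = sq.isoPullback.inv ≫ pullback.snd (pullback.snd ψ c) a from
        sq.isoPullback_inv_snd.symm]
      exact RepWith.comp (repWith_of_isIso _ _) (RepWith.baseChange (IsPullback.of_hasPullback _ _) h)
    refine repWith_of_open_cover @Etale
      (fun i => pullback.fst (pullback.snd ψ ψ) ((yon S).map (sigmaOverι A i)))
      (fun i => RepWith.baseChange (IsPullback.of_hasPullback _ _).flip (hι i)) (fun x => ?_) _ fun i => ?_
    · obtain ⟨i, y, hy⟩ := hcov (Points.map (pullback.snd ψ ψ) x)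
      obtain ⟨z, hz, -⟩ := exists_point_of_isPullback
        (IsPullback.of_hasPullback (pullback.snd ψ ψ) ((yon S).map (sigmaOverι A i))) (x := x) (y := y) hy.symm
      exact ⟨i, z, hz⟩
    · have hi : RepWith @Etale (pullback.snd ψ (p i)) := match i with
        | ⟨true⟩ => hcomp u _ hU'
        | ⟨false⟩ => hcomp v _ hV'
      have sq : IsPullback (pullback.fst (pullback.snd ψ ψ) ((yon S).map (sigmaOverι A i)) ≫ pullback.fst ψ ψ)
          (pullback.snd (pullback.snd ψ ψ) ((yon S).map (sigmaOverι A i))) ψ (p i) := by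
        rw [← hψ i]
        exact (IsPullback.of_hasPullback (pullback.snd ψ ψ) ((yon S).map (sigmaOverι A i))).paste_horiz
          (IsPullback.of_hasPullback ψ ψ)
      rw [pullback.condition, show pullback.snd (pullback.snd ψ ψ) ((yon S).map (sigmaOverι A i)) =
        sq.isoPullback.hom ≫ pullback.snd ψ (p i) from sq.isoPullback_hom_snd.symm]
      exact RepWith.comp (RepWith.comp (repWith_of_isIso _ _) hi)
        (RepWith.mono (fun _ _ k (_ : IsOpenImmersion k) => (inferInstance : Etale k)) (hι i))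
  have hloc : Sheaf.IsLocallySurjective ψ := by
    haveI := isLocallySurjective_of_etale hue hus
    haveI := isLocallySurjective_of_etale hve hvs
    refine ⟨fun {T} s => ?_⟩
    let ξ := (GrothendieckTopology.uliftYonedaEquiv.{u + 1} (J S)).symm s
    obtain ⟨C, hC, hk⟩ := exists_covering_glue jV f' ξ
    refine (J S).transitive hC _ fun T' k hck => ?_
    have hlift : ∀ {F : Sp S} {A₁ : Over S} (a : (yon S).obj A₁ ⟶ F) [Sheaf.IsLocallySurjective a]
        (b : (yon S).obj T' ⟶ F), ∃ D ∈ J S T', ∀ ⦃T'' : Over S⦄ (d : T'' ⟶ T'), D d →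
        ∃ l, l ≫ a = (yon S).map d ≫ b := fun a _ b =>
      ⟨_, Presheaf.imageSieve_mem (J S) a.hom ((J S).uliftYonedaEquiv b), fun T'' d hd => (imageSieve_iff a b d).1 hd⟩
    rcases hk k hck with ⟨a, ha⟩ | ⟨a, ha⟩
    · obtain ⟨D, hD, hd⟩ := hlift u a
      refine (J S).superset_covering (fun T'' d hdd => ?_) hD
      obtain ⟨l, hl⟩ := hd d hdd
      have := (imageSieve_iff ψ ξ (d ≫ k)).2 ⟨l ≫ (yon S).map (sigmaOverι A ⟨true⟩), by
        rw [Category.assoc, hψ ⟨true⟩]
        show l ≫ u ≫ inU jV f' = _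
        rw [reassoc_of% hl, ha, Functor.map_comp, Category.assoc]⟩
      rw [Equiv.apply_symm_apply] at this
      exact this
    · obtain ⟨D, hD, hd⟩ := hlift v a
      refine (J S).superset_covering (fun T'' d hdd => ?_) hD
      obtain ⟨l, hl⟩ := hd d hdd
      have := (imageSieve_iff ψ ξ (d ≫ k)).2 ⟨l ≫ (yon S).map (sigmaOverι A ⟨false⟩), by
        rw [Category.assoc, hψ ⟨false⟩]
        show l ≫ v ≫ inV jV f' = _
        rw [reassoc_of% hl, ha, Functor.map_comp, Category.assoc]⟩
      rw [Equiv.apply_symm_apply] at this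
      exact this
  have hj : IsEqvRelSp (pullback.fst ψ ψ) (pullback.snd ψ ψ) :=
    ⟨fun T r r' e₁ e₂ => pullback.hom_ext e₂ e₁, fun T =>
      ⟨fun x => ⟨pullback.lift x x rfl, pullback.lift_snd _ _ _, pullback.lift_fst _ _ _⟩,
        fun {x y} ⟨r, hx, hy⟩ => ⟨pullback.lift x y (by
          rw [← hx, ← hy, Category.assoc, Category.assoc, pullback.condition]),
          pullback.lift_snd _ _ _, pullback.lift_fst _ _ _⟩,
        fun {x y z} ⟨r, hx, hy⟩ ⟨r', hy', hz⟩ => ⟨pullback.lift z x (by
          have e₁ : y ≫ ψ = x ≫ ψ := by rw [← hx, ← hy, Category.assoc, Category.assoc, pullback.condition]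
          have e₂ : z ≫ ψ = y ≫ ψ := by rw [← hz, ← hy', Category.assoc, Category.assoc, pullback.condition]
          rw [e₂, e₁]), pullback.lift_snd _ _ _, pullback.lift_fst _ _ _⟩⟩⟩
  have hR : IsAlgSpace (pullback ψ ψ) := by
    obtain ⟨W, σ, -⟩ := exists_scheme_pullback hs.1 (IsPullback.of_horiz_isIso
      (⟨by simp⟩ : CommSq (𝟙 (pullback ψ ψ)) (pullback.snd ψ ψ) (pullback.snd ψ ψ) (𝟙 _)))
    exact (IsAlgSpace.yon_obj W).of_iso σ
  have hfst : RepWith @Etale (pullback.fst ψ ψ) := by
    rw [← pullbackSymmetry_hom_comp_snd]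
    exact RepWith.comp (repWith_of_isIso _ _) hs
  have hQ := Stk19b.Fppf.isAlgSpace_quotSp hR (IsAlgSpace.yon_obj _) hj
    (locP_of_repWith etLocal_flat hR (RepWith.mono etale_le_flat hfst))
    (locP_of_repWith etLocal_lfp hR (RepWith.mono etale_le_lfp hfst))
  have hq : Epi ψ := Sheaf.epi_of_isLocallySurjective ψ
  have : IsRegularEpiCategory (AlgSp.Sp S) :=
    inferInstanceAs (IsRegularEpiCategory (Sheaf (AlgSp.J S) (Type (u + 1))))
  have : IsRegularEpi ψ := IsRegularEpiCategory.regularEpiOfEpi ψ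
  let d : AlgSp.quotSp (pullback.fst ψ ψ) (pullback.snd ψ ψ) ⟶ glue jV f' :=
    AlgSp.quotSpDesc ψ pullback.condition
  let π := AlgSp.quotSpπ (pullback.fst ψ ψ) (pullback.snd ψ ψ)
  let b : glue jV f' ⟶ AlgSp.quotSp (pullback.fst ψ ψ) (pullback.snd ψ ψ) :=
    EffectiveEpi.desc ψ π fun {Z} g₁ g₂ hg => by
      rw [← pullback.lift_fst g₁ g₂ hg, Category.assoc]
      conv_rhs => rw [← pullback.lift_snd g₁ g₂ hg, Category.assoc]
      rw [AlgSp.quotSp_condition]
  have hb : ψ ≫ b = π := EffectiveEpi.fac ψ π _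
  have hd : π ≫ d = ψ := AlgSp.quotSpπ_desc _ _ ψ pullback.condition
  have hW : IsAlgSpace (glue jV f') := by
    refine hQ.of_iso ⟨d, b, ?_, ?_⟩
    · exact (cancel_epi π).1 (by rw [← Category.assoc, hd, hb, Category.comp_id])
    · exact (cancel_epi ψ).1 (by rw [← Category.assoc, hb, hd, Category.comp_id])
  have hψe : RepWith @Etale ψ := repWith_of_isLocallySurjective (representable_diag_iff.1 hW.diag ψ) ψ
    (IsPullback.of_hasPullback ψ ψ) _ hs
  have hpe : ∀ i, RepWith @Etale (p i) := fun i => by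
    rw [← hψ i]
    exact RepWith.comp (RepWith.mono (fun _ _ k (_ : IsOpenImmersion k) => (inferInstance : Etale k)) (hι i)) hψe
  exact ⟨hW, (isEtaleMor_iff_locP etLocal_etale U.property hW _).2
      (locP_of_atlas etLocal_etale U.property u hue hus (hpe ⟨true⟩)),
    (isEtaleMor_iff_locP etLocal_etale V.property hW _).2
      (locP_of_atlas etLocal_etale V.property v hve hvs (hpe ⟨false⟩))⟩

include hjV het in
theorem isElemDistSq_glue : IsElemDistSq (inU jV f') (inV jV f') := by
  obtain ⟨hW, hU, hV⟩ := isAlgSpace_glue hjV het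
  haveI := mono_inU jV f'
  have hjo : RepWith @IsOpenImmersion (inU jV f') :=
    (repWith_isOpenImmersion_iff_mono_etale U.property hW _).2 ⟨inferInstance, hU⟩
  obtain ⟨T, i, hi⟩ := Stk19b.RedInd.exists_isRedInduced ⟨glue jV f', hW⟩ _
    (Induct.isOpen_range_map U.property hjo).isClosed_compl
  have hTalg : IsAlgSpace T.obj := T.property
  have sq := IsPullback.of_hasPullback i.hom (inV jV f')
  have hP : IsAlgSpace (pullback i.hom (inV jV f')) := isAlgSpace_of_isPullback hW.diag hTalg V.property sq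
  have hmi : Mono i.hom :=
    mono_of_repWith (fun _ _ g (_ : IsClosedImmersion g) => (inferInstance : Mono g)) hi.1
  haveI : Mono (pullback.fst i.hom (inV jV f')) := by
    refine ⟨fun {Z} x y e => hom_ext_of_yon fun K z => ?_⟩
    refine pullback.hom_ext (by rw [Category.assoc, Category.assoc, e]) ?_
    obtain ⟨C, hC, hk⟩ := exists_covering_same jV f' ((z ≫ x) ≫ pullback.snd _ _) ((z ≫ y) ≫ pullback.snd _ _)
      (by simp only [Category.assoc, ← pullback.condition]; rw [reassoc_of% e])
    refine eq_of_covering hC fun K' k hck => ?_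
    rcases hk k hck with h | ⟨c, c', hc, -, -⟩
    · exact h
    · have hemp : IsEmpty K'.left := ⟨fun t => by
        have h1 : Points.map i.hom (Points.ofPt ((yon S).map k ≫ (z ≫ x) ≫ pullback.fst _ _) t) ∈
            Set.range (Points.map (inU jV f')) := by
          refine ⟨Points.ofPt (c ≫ f') t, ?_⟩
          rw [Points.map_ofPt, Points.map_ofPt, Category.assoc, glue_w, ← Category.assoc c, hc]
          simp only [Category.assoc, pullback.condition]
        exact (hi.2.1.le ⟨_, rfl⟩) h1⟩
      obtain ⟨m⟩ := nonempty_hom_of_isEmpty K' V.obj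
      have hu : ∀ l : (yon S).obj K' ⟶ V.obj, l = m := fun l =>
        eq_of_covering (bot_mem_J K') fun _ f hf => hf.elim
      rw [hu ((yon S).map k ≫ _), hu ((yon S).map k ≫ _)]
  refine ⟨hjo, hV, T.obj, _, i.hom, pullback.fst _ _, pullback.snd _ _, hi, sq, ?_⟩
  refine isIso_of_mono_etale_surjective hP hTalg _ ?_ fun t => ?_
  · exact (isEtaleMor_iff_locP etLocal_etale hP hTalg _).2 (locP_of_isPullback etLocal_etale V.property hW hP sq.flip
      ((isEtaleMor_iff_locP etLocal_etale V.property hW _).1 hV))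
  · have ht : Points.map i.hom t ∈ (Set.range (Points.map (inU jV f')))ᶜ := hi.2.1.le ⟨t, rfl⟩
    let H : Bool → Sp S := fun b => bif b then U.obj else V.obj
    let b : ∀ i, H i ⟶ glue jV f' := fun i => match i with
      | true => inU jV f'
      | false => inV jV f'
    obtain ⟨j, hj⟩ := exists_point_of_local b (fun K z => by
      obtain ⟨C, hC, h⟩ := exists_covering_glue jV f' z
      exact ⟨C, hC, fun K' k hk => (h k hk).elim (fun hl => ⟨true, hl⟩) fun hl => ⟨false, hl⟩⟩) (Points.map i.hom t)
    cases j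
    · obtain ⟨v₀, hv₀⟩ := hj
      obtain ⟨z, hz, -⟩ := exists_point_of_isPullback sq (x := t) (y := v₀) hv₀.symm
      exact ⟨z, hz⟩
    · exact absurd hj ht

end Groth.Agent.AlgSpLib.EtGlue
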