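import Groth.Agent.AlgSpLib.MorTop
import Groth.Agent.AlgSpLib.LocPMore
import Groth.Agent.FlatLocal.Descent
import Groth.Prelude.Def_AlgSpCov

/-!
Properties local on the source for covering families.
-/

universe u

open CategoryTheory CategoryTheory.Limits AlgebraicGeometry
open AlgSp

noncomputable section

namespace Groth.Agent.AlgSpLib

set_option backward.isDefEq.respectTransparency.types false

variable {S : Scheme.{u}} {X Y : Sp S}

/-- a property of a morphism is checked on a jointly surjective family on the source -/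
theorem locP_of_family {P R : MorphismProperty Scheme.{u}} (hR : EtLocal R)
    (hRs : ∀ {ι : Type u} {A : ι → Scheme.{u}} {B : Scheme.{u}} (k : ∀ i, A i ⟶ B),
      (∀ i, R (k i)) → R (Sigma.desc k))
    (hPs : ∀ {ι : Type u} {A : ι → Scheme.{u}} {B : Scheme.{u}} (k : ∀ i, A i ⟶ B),
      (∀ i, P (k i)) → P (Sigma.desc k))
    (hd : ∀ {A' A B : Scheme.{u}} (c : A' ⟶ A) (k : A ⟶ B), R c → Surjective c → P (c ≫ k) → P k)
    (hX : IsAlgSpace X) {ι : Type u} {Xi : ι → Sp S} (g : ∀ i, Xi i ⟶ X)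
    (hXi : ∀ i, IsAlgSpace (Xi i)) (hg : ∀ i, LocP R (g i))
    (hsur : ∀ x : Points X, ∃ i, x ∈ Set.range (Points.map (g i))) {f : X ⟶ Y}
    (h : ∀ i, LocP P (g i ≫ f)) : LocP P f := by
  intro U V a b l ha hb w
  have hQ : ∀ i, IsAlgSpace (pullback (g i) a) := fun i =>
    isAlgSpace_of_isPullback hX.diag (hXi i) (IsAlgSpace.yon_obj U)
      (IsPullback.of_hasPullback (g i) a)
  choose W e hee hes using fun i => (hQ i).atlas
  choose c hc using fun i => (yon S).map_surjective (e i ≫ pullback.snd (g i) a)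
  let π : (∐ fun i => (W i).left) ⟶ U.left := Sigma.desc fun i => (c i).left
  refine hd π l.left (hRs _ fun i => ?_) ⟨fun u => ?_⟩ ?_
  · exact locP_of_isPullback hR (hXi i) hX (hQ i) (IsPullback.of_hasPullback (g i) a) (hg i)
      (e i) (𝟙 _) (c i) (hee i) (repWith_id _ U) (by rw [Category.comp_id, hc])
  · obtain ⟨i, z, hz⟩ := hsur (Points.ofPt a u)
    rw [Points.ofPt_eq_map_ofScheme] at hz
    obtain ⟨q, -, hq⟩ := exists_point_of_isPullback (IsPullback.of_hasPullback (g i) a) hz
    obtain ⟨t, rfl⟩ := surjective_ofPt (e i) (hes i) q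
    refine ⟨Sigma.ι (fun i => (W i).left) i t, ?_⟩
    show (Sigma.ι (fun i => (W i).left) i ≫ π) t = u
    rw [Sigma.ι_desc]
    rw [Points.map_ofPt, ← hc, ← Category.comp_id ((yon S).map (c i)), ofPt_map] at hq
    exact (Points.schemeEquiv U).injective hq
  · have eq1 : π ≫ l.left = Sigma.desc fun i => (c i).left ≫ l.left :=
      Sigma.hom_ext _ _ fun i => by simp [π]
    rw [eq1]
    refine hPs _ fun i => ?_
    rw [← Over.comp_left]
    refine h i (e i ≫ pullback.fst (g i) a) b (c i ≫ l)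
      (RepWith.comp (hee i) (RepWith.baseChange (IsPullback.of_hasPullback (g i) a).flip ha)) hb ?_
    rw [Category.assoc, ← Category.assoc (pullback.fst (g i) a), pullback.condition, Category.assoc, w,
      ← Category.assoc (e i), ← hc, ← Category.assoc, ← Functor.map_comp]

theorem locP_comp_family {P R : MorphismProperty Scheme.{u}} (hP : EtLocal P) (hle : R ≤ P)
    (hX : IsAlgSpace X) (hY : IsAlgSpace Y) {W : Sp S} (hW : IsAlgSpace W) {g : W ⟶ X}
    (hg : LocP R g) {f : X ⟶ Y} (hf : LocP P f) : LocP P (g ≫ f) :=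
  locP_comp hP hW hX hY (locP_mono hle hg) hf

theorem isLocalOnSource_etale {P : MorphismProperty Scheme.{u}} (hP : EtLocal P)
    (hPs : ∀ {ι : Type u} {A : ι → Scheme.{u}} {B : Scheme.{u}} (k : ∀ i, A i ⟶ B),
      (∀ i, P (k i)) → P (Sigma.desc k)) :
    IsLocalOnSource (IsEtCover (S := S)) (LocP P) := by
  intro ι X Xi g hX hXi hc Y f hY
  have hg : ∀ i, LocP @Etale (g i) := fun i =>
    (isEtaleMor_iff_locP etLocal_etale (hXi i) hX (g i)).1 (hc.1 i)
  exact ⟨fun hf i => locP_comp_family hP hP.of_etale hX hY (hXi i) (hg i) hf, fun h =>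
    locP_of_family (P := P) (R := @Etale.{u}) etLocal_etale
      (fun _ hk => IsZariskiLocalAtSource.sigmaDesc hk) hPs
      (fun c k h1 h2 h3 => hP.descend c k h1 h2 h3) hX g hXi hg hc.2 h⟩

theorem surjective_of_isFpqcCover {ι : Type u} {Xi : ι → Sp S} {g : ∀ i, Xi i ⟶ X}
    (hc : IsFpqcCover Xi g) (x : Points X) : ∃ i, x ∈ Set.range (Points.map (g i)) := by
  obtain ⟨K, _, str, a, rfl⟩ := exists_ptOfHom x
  obtain ⟨m, W, c, -, -, hsur, hlift⟩ := hc.2 (Over.mk str) (inferInstanceAs (IsAffine (Spec _))) a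
  obtain ⟨j, t, ht⟩ := hsur (IsLocalRing.closedPoint K)
  obtain ⟨i, l, hl⟩ := hlift j
  refine ⟨i, Points.ofPt l t, ?_⟩
  rw [Points.map_ofPt, hl, ofPt_map, ht,
    show ptOfHom a = ptOfHom ((yon S).map (𝟙 (Over.mk str)) ≫ a) by
      erw [(yon S).map_id, Category.id_comp], ptOfHom_yon_map]
  rfl

theorem isLocalOnSource_fpqc_flat : IsLocalOnSource (IsFpqcCover (S := S)) (LocP @Flat) := by
  intro ι X Xi g hX hXi hc Y f hY
  refine ⟨fun hf i => locP_comp_family etLocal_flat le_rfl hX hY (hXi i) (hc.1 i) hf, fun hh =>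
    locP_of_family (P := @Flat.{u}) (R := @Flat.{u}) etLocal_flat
      (fun _ hk => IsZariskiLocalAtSource.sigmaDesc hk)
      (fun _ hk => IsZariskiLocalAtSource.sigmaDesc hk) (fun c k hc' hs h => ?_) hX g hXi hc.1
      (surjective_of_isFpqcCover hc) hh⟩
  have : Flat c := hc'
  have : Flat (c ≫ k) := h
  exact FlatLocal.flat_of_comp c k

theorem isOpenMor_of_family {ι : Type u} {Xi : ι → Sp S} {g : ∀ i, Xi i ⟶ X}
    (hsur : ∀ x : Points X, ∃ i, x ∈ Set.range (Points.map (g i))) {f : X ⟶ Y}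
    (h : ∀ i, IsOpenMor (g i ≫ f)) : IsOpenMor f := by
  intro W hW
  have e : Points.map f '' W = ⋃ i, Points.map (g i ≫ f) '' (Points.map (g i) ⁻¹' W) := by
    ext y
    simp only [Set.mem_image, Set.mem_iUnion, Set.mem_preimage]
    constructor
    · rintro ⟨x, hx, rfl⟩
      obtain ⟨i, z, rfl⟩ := hsur x
      exact ⟨i, z, hx, Points.map_comp _ _ _⟩
    · rintro ⟨i, z, hz, rfl⟩
      exact ⟨_, hz, (Points.map_comp _ _ _).symm⟩
  rw [e]
  exact isOpen_iUnion fun i => h i _ (hW.preimage (Points.continuous_map _))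

theorem isLocalOnSource_fppf_isOpenMor : IsLocalOnSource (IsFppfCover (S := S)) IsOpenMor := by
  intro ι X Xi g hX hXi hc Y f hY
  refine ⟨fun hf i => ?_, isOpenMor_of_family hc.2⟩
  have hg : IsOpenMap (Points.map (g i)) :=
    isUnivOpenMor_of_flat_lfp (hXi i) hX (hc.1 i).1 (hc.1 i).2 hX (𝟙 X) (𝟙 _) (g i)
      (IsPullback.of_horiz_isIso ⟨by simp⟩)
  show IsOpenMap (Points.map (g i ≫ f))
  rw [show Points.map (g i ≫ f) = Points.map f ∘ Points.map (g i) from
    funext fun x => Points.map_comp _ _ x]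
  exact hf.comp hg

theorem isLocalOnSource_fppf_isUnivOpenMor :
    IsLocalOnSource (IsFppfCover (S := S)) IsUnivOpenMor := by
  intro ι X Xi g hX hXi hc Y f hY
  refine ⟨fun hf i => ?_, fun h Z Z' hZ z fst snd sq => ?_⟩
  · intro Z Z' hZ z fst snd sq
    have sq1 := IsPullback.of_hasPullback f z
    let l := sq1.lift (fst ≫ g i) snd (by rw [Category.assoc]; exact sq.w)
    have sq' : IsPullback fst l (g i) (pullback.fst f z) :=
      IsPullback.of_bot (v₂₁ := pullback.snd f z) (by rw [sq1.lift_snd]; exact sq)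
        (sq1.lift_fst _ _ _).symm sq1
    have h1 : IsOpenMap (Points.map l) := isUnivOpenMor_of_flat_lfp (hXi i) hX (hc.1 i).1
      (hc.1 i).2 (isAlgSpace_of_isPullback hY.diag hX hZ sq1) _ _ _ sq'
    have h2 : IsOpenMap (Points.map (pullback.snd f z)) := hf hZ z _ _ sq1
    show IsOpenMap (Points.map snd)
    rw [show Points.map snd = Points.map (pullback.snd f z) ∘ Points.map l from funext fun x => by
      rw [Function.comp_apply, ← Points.map_comp, sq1.lift_snd]]
    exact h2.comp h1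
  · refine isOpenMor_of_family (g := fun i => pullback.snd (g i) fst) (fun x => ?_)
      fun i => h i hZ z _ _ ((IsPullback.of_hasPullback (g i) fst).paste_vert sq)
    obtain ⟨i, y, hy⟩ := hc.2 (Points.map fst x)
    obtain ⟨q, -, hq⟩ := exists_point_of_isPullback (IsPullback.of_hasPullback (g i) fst) hy
    exact ⟨i, q, hq⟩

end Groth.Agent.AlgSpLib
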