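import Groth.Agent.AlgSpLib.EtGlueMain
import Groth.Agent.AlgSpLib.SourceLocal
import Groth.Agent.AlgSpLib.FpqcBaseAffine2
import Groth.Agent.AlgSpLib.DiagCrit
import Groth.Agent.AlgSpLib.PointsCompact
import Groth.Agent.AlgSpLib.MorProper

/-!
Morphisms between gluings and properties of a gluing.
-/

universe u

open CategoryTheory CategoryTheory.Limits AlgebraicGeometry Opposite
open AlgSp

noncomputable section

set_option linter.style.haveILetI false

namespace Groth.Agent.AlgSpLib.EtGlue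

set_option backward.isDefEq.respectTransparency.types false
set_option backward.isDefEq.respectTransparency false

variable {S : Scheme.{u}}

section Points

variable {U V V' : Sp S} (jV : V' ⟶ V) [Mono jV] (f' : V' ⟶ U)

theorem exists_point_glue (x : Points (glue jV f')) :
    x ∈ Set.range (Points.map (inU jV f')) ∨ x ∈ Set.range (Points.map (inV jV f')) := by
  let H : Bool → Sp S := fun b => bif b then U else V
  let b : ∀ i, H i ⟶ glue jV f' := fun i => match i with
    | true => inU jV f'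
    | false => inV jV f'
  obtain ⟨j, hj⟩ := exists_point_of_local b (fun K z => by
    obtain ⟨C, hC, h⟩ := exists_covering_glue jV f' z
    exact ⟨C, hC, fun K' k hk => (h k hk).elim (fun hl => ⟨true, hl⟩) fun hl => ⟨false, hl⟩⟩) x
  cases j
  · exact Or.inr hj
  · exact Or.inl hj

end Points

section Map

variable {U₁ V₁ W₁ U₂ V₂ W₂ : Sp S} {j₁ : W₁ ⟶ V₁} [Mono j₁] {f₁ : W₁ ⟶ U₁} {j₂ : W₂ ⟶ V₂} [Mono j₂]
  {f₂ : W₂ ⟶ U₂} {α : U₁ ⟶ U₂} {β : V₁ ⟶ V₂} {γ : W₁ ⟶ W₂} (hj : IsPullback γ j₁ j₂ β)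
  (hf : IsPullback γ f₁ f₂ α) {h : glue j₁ f₁ ⟶ glue j₂ f₂} (hU : inU j₁ f₁ ≫ h = α ≫ inU j₂ f₂)
  (hV : inV j₁ f₁ ≫ h = β ≫ inV j₂ f₂)

include hj hf hU hV in
theorem isPullback_map_inU : IsPullback (inU j₁ f₁) α h (inU j₂ f₂) := by
  haveI := mono_inU j₁ f₁
  refine isPullback_of_yon hU fun T x y e => ?_
  obtain ⟨C, hC, hk⟩ := exists_covering_glue j₁ f₁ x
  obtain ⟨l, hl⟩ := exists_lift_of_covering (inU j₁ f₁) x hC fun T' k hck => by
    rcases hk k hck with hh | ⟨b, hb⟩
    · exact hh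
    · have e' : ((yon S).map k ≫ y) ≫ inU j₂ f₂ = (b ≫ β) ≫ inV j₂ f₂ := by
        rw [Category.assoc, ← e, ← Category.assoc, ← hb, Category.assoc, hV, Category.assoc]
      obtain ⟨c, hc₁, hc₂⟩ := cross j₂ f₂ _ _ e'
      obtain ⟨c₁, hc₁₁, hc₁₂⟩ := hj.exists_lift c b hc₂
      exact ⟨c₁ ≫ f₁, by rw [Category.assoc, glue_w, ← Category.assoc, hc₁₂, hb]⟩
  refine ⟨l, ⟨hl, inU_inj j₂ f₂ _ _ ?_⟩, fun l' hl' => inU_inj j₁ f₁ _ _ (hl'.1.trans hl.symm)⟩
  rw [Category.assoc, ← hU, ← Category.assoc, hl, e]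

include hj hf hU hV in
theorem isPullback_map_inV : IsPullback (inV j₁ f₁) β h (inV j₂ f₂) := by
  let k : V₁ ⟶ pullback h (inV j₂ f₂) := pullback.lift (inV j₁ f₁) β hV
  haveI : Mono k := ⟨fun {Z} a a' ea => hom_ext_of_yon fun T z => by
    have e₁ : (z ≫ a) ≫ inV j₁ f₁ = (z ≫ a') ≫ inV j₁ f₁ := by
      have := congrArg (fun m => z ≫ m ≫ pullback.fst _ _) ea
      simpa only [k, Category.assoc, pullback.lift_fst] using this
    have e₂ : (z ≫ a) ≫ β = (z ≫ a') ≫ β := by
      have := congrArg (fun m => z ≫ m ≫ pullback.snd _ _) ea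
      simpa only [k, Category.assoc, pullback.lift_snd] using this
    obtain ⟨C, hC, hk⟩ := exists_covering_same j₁ f₁ _ _ e₁
    refine eq_of_covering hC fun T' q hq => ?_
    rcases hk q hq with hh | ⟨c, c', hc, hc', hcf⟩
    · exact hh
    · have : c = c' := hf.hom_ext ((cancel_mono j₂).1 (by
        simp only [Category.assoc, hj.w]
        rw [← Category.assoc, hc, ← Category.assoc c' j₁, hc']
        simp only [Category.assoc] at e₂ ⊢
        rw [e₂])) hcf
      rw [← hc, ← hc', this]⟩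
  have case₁ : ∀ {T : Over S} (x : (yon S).obj T ⟶ glue j₁ f₁) (y : (yon S).obj T ⟶ V₂)
      (a : (yon S).obj T ⟶ U₁), a ≫ inU j₁ f₁ = x → x ≫ h = y ≫ inV j₂ f₂ →
      ∃ b : (yon S).obj T ⟶ V₁, b ≫ inV j₁ f₁ = x ∧ b ≫ β = y := fun {T} x y a ha e => by
    obtain ⟨c, hc₁, hc₂⟩ := cross j₂ f₂ (a ≫ α) y (by rw [Category.assoc, ← hU, ← Category.assoc, ha, e])
    obtain ⟨c₁, hcγ, hcf⟩ := hf.exists_lift c a hc₁
    exact ⟨c₁ ≫ j₁, by rw [Category.assoc, ← glue_w, ← Category.assoc, hcf, ha],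
      by rw [Category.assoc, ← hj.w, ← Category.assoc, hcγ, hc₂]⟩
  have local_ : ∀ {T : Over S} (x : (yon S).obj T ⟶ glue j₁ f₁) (y : (yon S).obj T ⟶ V₂),
      x ≫ h = y ≫ inV j₂ f₂ → ∃ C ∈ J S T, ∀ ⦃T' : Over S⦄ (q : T' ⟶ T), C q →
        ∃ b : (yon S).obj T' ⟶ V₁, b ≫ inV j₁ f₁ = (yon S).map q ≫ x ∧ b ≫ β = (yon S).map q ≫ y := by
    intro T x y e
    obtain ⟨C, hC, hk⟩ := exists_covering_glue j₁ f₁ x
    have key : ∀ ⦃T' : Over S⦄ (q : T' ⟶ T), C q → ∃ D ∈ J S T', ∀ ⦃T'' : Over S⦄ (d : T'' ⟶ T'), D d →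
        ∃ b : (yon S).obj T'' ⟶ V₁, b ≫ inV j₁ f₁ = (yon S).map (d ≫ q) ≫ x ∧
          b ≫ β = (yon S).map (d ≫ q) ≫ y := fun T' q hq => by
      have e' : ∀ {T'' : Over S} (d : T'' ⟶ T'),
          ((yon S).map (d ≫ q) ≫ x) ≫ h = ((yon S).map (d ≫ q) ≫ y) ≫ inV j₂ f₂ := fun d => by
        rw [Category.assoc, e, Category.assoc]
      rcases hk q hq with ⟨a, ha⟩ | ⟨b, hb⟩
      · exact ⟨⊤, (J S).top_mem T', fun T'' d _ => case₁ _ _ ((yon S).map d ≫ a)
          (by rw [Category.assoc, ha, Functor.map_comp, Category.assoc]) (e' d)⟩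
      · obtain ⟨D, hD, hd⟩ := exists_covering_same j₂ f₂ (b ≫ β) ((yon S).map q ≫ y)
          (by rw [Category.assoc, ← hV, ← Category.assoc, hb, Category.assoc, e, Category.assoc])
        refine ⟨D, hD, fun T'' d hdd => ?_⟩
        rcases hd d hdd with hh | ⟨c, c', hc, -, -⟩
        · exact ⟨(yon S).map d ≫ b, by rw [Category.assoc, hb, Functor.map_comp, Category.assoc],
            by rw [Category.assoc, hh, Functor.map_comp, Category.assoc]⟩
        · obtain ⟨c₁, -, hc₁⟩ := hj.exists_lift c ((yon S).map d ≫ b) (hc.trans (Category.assoc _ _ _).symm)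
          exact case₁ _ _ (c₁ ≫ f₁) (by rw [Category.assoc, glue_w, ← Category.assoc, hc₁, Category.assoc, hb,
            Functor.map_comp, Category.assoc]) (e' d)
    choose D hD hd using key
    refine ⟨_, (J S).bind_covering hC hD, ?_⟩
    rintro T'' q ⟨T', d, q', hq', hd', rfl⟩
    exact hd q' hq' d hd'
  refine isPullback_of_yon hV fun T x y e => ?_
  obtain ⟨C, hC, hk⟩ := local_ x y e
  obtain ⟨l, hl⟩ := exists_lift_of_covering k (pullback.lift x y e) hC fun T' q hq => by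
    obtain ⟨b, hb₁, hb₂⟩ := hk q hq
    exact ⟨b, pullback.hom_ext (by simpa only [k, Category.assoc, pullback.lift_fst] using hb₁)
      (by simpa only [k, Category.assoc, pullback.lift_snd] using hb₂)⟩
  refine ⟨l, ⟨?_, ?_⟩, fun l' hl' => (cancel_mono k).1 (pullback.hom_ext ?_ ?_)⟩
  · simpa only [k, Category.assoc, pullback.lift_fst] using congrArg (· ≫ pullback.fst _ _) hl
  · simpa only [k, Category.assoc, pullback.lift_snd] using congrArg (· ≫ pullback.snd _ _) hl
  · rw [hl, pullback.lift_fst]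
    simpa only [k, Category.assoc, pullback.lift_fst] using hl'.1
  · rw [hl, pullback.lift_snd]
    simpa only [k, Category.assoc, pullback.lift_snd] using hl'.2

end Map

section Props

variable {U V V' : AlgSp.Space S} {jV : V'.obj ⟶ V.obj} (hjV : RepWith @IsOpenImmersion jV)
  {f' : V'.obj ⟶ U.obj} (het : IsEtaleMor f') [Mono jV]

include hjV het in
theorem isQuasiCompactSp_glue (hU : IsQuasiCompactSp U.obj) (hV : IsQuasiCompactSp V.obj) :
    IsQuasiCompactSp (glue jV f') := by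
  refine (isQuasiCompactSp_iff_compactSpace (isAlgSpace_glue hjV het).1).2 ⟨?_⟩
  rw [show (Set.univ : Set (Points (glue jV f'))) =
    Set.range (Points.map (inU jV f')) ∪ Set.range (Points.map (inV jV f')) from
      (Set.eq_univ_of_forall (exists_point_glue jV f')).symm]
  exact (Induct.isCompact_range_map hU _).union (Induct.isCompact_range_map hV _)

include hjV het in
/-- a property of maps out of a gluing is checked on the parts -/
theorem locP_lfp_glue {B : Sp S} (q : glue jV f' ⟶ B) (hU : LocP @LocallyOfFinitePresentation (inU jV f' ≫ q))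
    (hV : LocP @LocallyOfFinitePresentation (inV jV f' ≫ q)) : LocP @LocallyOfFinitePresentation q := by
  obtain ⟨hW, hUe, hVe⟩ := isAlgSpace_glue hjV het
  let H : ULift.{u} Bool → Sp S := fun b => bif b.down then U.obj else V.obj
  let g : ∀ b, H b ⟶ glue jV f' := fun b => match b with
    | ⟨true⟩ => inU jV f'
    | ⟨false⟩ => inV jV f'
  refine locP_of_family (P := @LocallyOfFinitePresentation.{u}) (R := @Etale.{u}) etLocal_etale
    (fun _ hk => IsZariskiLocalAtSource.sigmaDesc hk) (fun _ hk => IsZariskiLocalAtSource.sigmaDesc hk)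
    (fun c k h1 h2 h3 => etLocal_lfp.descend c k h1 h2 h3) hW g ?_ ?_ (fun x => ?_) ?_
  · rintro ⟨_ | _⟩
    · exact V.property
    · exact U.property
  · rintro ⟨_ | _⟩
    · exact (isEtaleMor_iff_locP etLocal_etale V.property hW _).1 hVe
    · exact (isEtaleMor_iff_locP etLocal_etale U.property hW _).1 hUe
  · exact (exists_point_glue jV f' x).elim (fun h => ⟨⟨true⟩, h⟩) fun h => ⟨⟨false⟩, h⟩
  · rintro ⟨_ | _⟩
    · exact hV
    · exact hU

include hjV het in
/-- affineness of a map to a gluing is checked on the parts -/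
theorem isAffineMor_to_glue {Y P Q : Sp S} (hY : IsAlgSpace Y) {h : Y ⟶ glue jV f'} {a : P ⟶ Y} {α : P ⟶ U.obj}
    (sqU : IsPullback a α h (inU jV f')) (hα : IsAffineMor α) {b : Q ⟶ Y} {β : Q ⟶ V.obj}
    (sqV : IsPullback b β h (inV jV f')) (hβ : IsAffineMor β) : IsAffineMor h := by
  obtain ⟨hW, hUe, hVe⟩ := isAlgSpace_glue hjV het
  let H : ULift.{u} Bool → Sp S := fun b => bif b.down then U.obj else V.obj
  let g : ∀ b, H b ⟶ glue jV f' := fun b => match b with
    | ⟨true⟩ => inU jV f'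
    | ⟨false⟩ => inV jV f'
  have hH : ∀ i, IsAlgSpace (H i) := by
    rintro ⟨_ | _⟩
    · exact V.property
    · exact U.property
  have hg : ∀ i, LocP @Etale (g i) := by
    rintro ⟨_ | _⟩
    · exact (isEtaleMor_iff_locP etLocal_etale V.property hW _).1 hVe
    · exact (isEtaleMor_iff_locP etLocal_etale U.property hW _).1 hUe
  let H' : ULift.{u} Bool → Sp S := fun b => bif b.down then P else Q
  let fst : ∀ i, H' i ⟶ Y := fun i => match i with
    | ⟨true⟩ => a
    | ⟨false⟩ => b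
  let snd : ∀ i, H' i ⟶ H i := fun i => match i with
    | ⟨true⟩ => α
    | ⟨false⟩ => β
  have sq : ∀ i, IsPullback (fst i) (snd i) h (g i) := by
    rintro ⟨_ | _⟩
    · exact sqV
    · exact sqU
  refine (isAffineMor_iff_isLocal H g hW hH (isFpqcCover_of_isFppfCover hW hH
    ⟨fun i => ⟨locP_mono etale_le_flat (hg i), locP_mono etale_le_lfp (hg i)⟩,
      fun x => (exists_point_glue jV f' x).elim (fun h => ⟨⟨true⟩, h⟩) fun h => ⟨⟨false⟩, h⟩⟩)
    h hY H' snd fst (fun i => isAlgSpace_of_isPullback hW.diag hY (hH i) (sq i)) sq).2 ?_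
  rintro ⟨_ | _⟩
  · exact hβ
  · exact hα

end Props

end Groth.Agent.AlgSpLib.EtGlue
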