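import Groth.Agent.AlgSpLib.SheafCoprod
import Groth.Agent.AlgSpLib.PointsTop

/-!
The pushout of sheaves along a monomorphism: sections, equality of sections, the cartesian square.
-/

universe u

open CategoryTheory CategoryTheory.Limits AlgebraicGeometry Opposite
open AlgSp

noncomputable section

namespace Groth.Agent.AlgSpLib.EtGlue

set_option backward.isDefEq.respectTransparency.types false
set_option backward.isDefEq.respectTransparency false

variable {S : Scheme.{u}} {U V V' : Sp S} (jV : V' ⟶ V) [Mono jV] (f' : V' ⟶ U)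

theorem injective_app_jV (T : (Over S)ᵒᵖ) : Function.Injective (jV.hom.app T) := by
  obtain ⟨T⟩ := T
  intro a b h
  apply (GrothendieckTopology.uliftYonedaEquiv.{u + 1} (J S)).symm.injective
  rw [← cancel_mono jV]
  apply (GrothendieckTopology.uliftYonedaEquiv.{u + 1} (J S)).injective
  rw [GrothendieckTopology.uliftYonedaEquiv_comp, GrothendieckTopology.uliftYonedaEquiv_comp,
    Equiv.apply_symm_apply, Equiv.apply_symm_apply]
  exact h

open Classical in
/-- normal form of an element of the disjoint union -/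
def key (T : (Over S)ᵒᵖ) : U.obj.obj T ⊕ V.obj.obj T → U.obj.obj T ⊕ V.obj.obj T
  | .inl u => .inl u
  | .inr v => if h : ∃ v', jV.hom.app T v' = v then .inl (f'.hom.app T h.choose) else .inr v

theorem key_inl (T : (Over S)ᵒᵖ) (u : U.obj.obj T) : key jV f' T (.inl u) = .inl u := rfl

theorem key_of_mem {T : (Over S)ᵒᵖ} (v' : V'.obj.obj T) :
    key jV f' T (.inr (jV.hom.app T v')) = .inl (f'.hom.app T v') := by
  have h : ∃ w, jV.hom.app T w = jV.hom.app T v' := ⟨v', rfl⟩
  simp only [key, dif_pos h]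
  exact congrArg (fun w => Sum.inl (f'.hom.app T w)) (injective_app_jV jV T h.choose_spec)

theorem key_of_not_mem {T : (Over S)ᵒᵖ} (v : V.obj.obj T) (h : ¬ ∃ v', jV.hom.app T v' = v) :
    key jV f' T (.inr v) = .inr v := by
  simp only [key, dif_neg h]

theorem key_key {T : (Over S)ᵒᵖ} (z : U.obj.obj T ⊕ V.obj.obj T) : key jV f' T (key jV f' T z) = key jV f' T z := by
  rcases z with u | v
  · rfl
  · by_cases h : ∃ v', jV.hom.app T v' = v
    · obtain ⟨v', rfl⟩ := h
      rw [key_of_mem, key_inl]
    · rw [key_of_not_mem jV f' v h, key_of_not_mem jV f' v h]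

/-- restriction -/
abbrev res {T T' : (Over S)ᵒᵖ} (g : T ⟶ T') : U.obj.obj T ⊕ V.obj.obj T → U.obj.obj T' ⊕ V.obj.obj T' :=
  Sum.map (U.obj.map g) (V.obj.map g)

theorem key_res {T T' : (Over S)ᵒᵖ} (g : T ⟶ T') (z : U.obj.obj T ⊕ V.obj.obj T) :
    key jV f' T' (res g (key jV f' T z)) = key jV f' T' (res g z) := by
  rcases z with u | v
  · rfl
  · by_cases h : ∃ v', jV.hom.app T v' = v
    · obtain ⟨v', rfl⟩ := h
      rw [key_of_mem]
      show key jV f' T' (.inl (U.obj.map g (f'.hom.app T v'))) = key jV f' T' (.inr (V.obj.map g (jV.hom.app T v')))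
      rw [← NatTrans.naturality_apply jV.hom g v', key_of_mem, key_inl, NatTrans.naturality_apply f'.hom g v']
    · rw [key_of_not_mem jV f' v h]

/-- the pushout presheaf -/
def pre : PSp S where
  obj T := {z : U.obj.obj T ⊕ V.obj.obj T // key jV f' T z = z}
  map {T T'} g := ↾fun z => ⟨key jV f' T' (res g z.1), key_key jV f' _⟩
  map_id T := by
    apply ConcreteCategory.hom_ext
    intro z
    refine Subtype.ext ?_
    show key jV f' T (Sum.map (U.obj.map (𝟙 T)) (V.obj.map (𝟙 T)) z.1) = z.1
    have e : Sum.map (U.obj.map (𝟙 T)) (V.obj.map (𝟙 T)) z.1 = z.1 := by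
      rcases z.1 with u | v <;> simp
    rw [e, z.2]
  map_comp {T T' T''} g g' := by
    apply ConcreteCategory.hom_ext
    intro z
    refine Subtype.ext ?_
    show key jV f' T'' (res (g ≫ g') z.1) = key jV f' T'' (res g' (key jV f' T' (res g z.1)))
    rw [key_res]
    have e : res (U := U) (V := V) g' (res g z.1) = res (g ≫ g') z.1 := by
      rcases z.1 with u | v <;> simp [res]
    rw [e]

/-- the two maps to the pushout presheaf -/
def preL : U.obj ⟶ pre jV f' where
  app T := ↾fun u => ⟨key jV f' T (.inl u), key_key jV f' _⟩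
  naturality T T' g := by
    ext u
    refine Subtype.ext ?_
    exact (key_res jV f' g (.inl u)).symm

/-- the two maps to the pushout presheaf -/
def preR : V.obj ⟶ pre jV f' where
  app T := ↾fun v => ⟨key jV f' T (.inr v), key_key jV f' _⟩
  naturality T T' g := by
    ext v
    refine Subtype.ext ?_
    exact (key_res jV f' g (.inr v)).symm

/-- the pushout -/
def glue : Sp S := (presheafToSheaf (J S) (Type (u + 1))).obj (pre jV f')

/-- the map of the open part -/
def inU : U ⟶ glue jV f' := ObjectProperty.homMk (preL jV f' ≫ toSheafify (J S) (pre jV f'))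

/-- the map of the etale part -/
def inV : V ⟶ glue jV f' := ObjectProperty.homMk (preR jV f' ≫ toSheafify (J S) (pre jV f'))

theorem glue_w : f' ≫ inU jV f' = jV ≫ inV jV f' := by
  apply ObjectProperty.hom_ext
  ext T v'
  show (toSheafify (J S) (pre jV f')).app T _ = (toSheafify (J S) (pre jV f')).app T _
  exact congrArg _ (Subtype.ext (key_of_mem jV f' v').symm)

/-- locally every section comes from one of the parts -/
theorem exists_covering_glue {T : Over S} (g : (yon S).obj T ⟶ glue jV f') :
    ∃ C ∈ J S T, ∀ ⦃T' : Over S⦄ (k : T' ⟶ T), C k →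
      (∃ a : (yon S).obj T' ⟶ U, a ≫ inU jV f' = (yon S).map k ≫ g) ∨
        ∃ b : (yon S).obj T' ⟶ V, b ≫ inV jV f' = (yon S).map k ≫ g := by
  refine ⟨_, Presheaf.imageSieve_mem (J S) (toSheafify (J S) (pre jV f'))
    (U := op T) ((J S).uliftYonedaEquiv g), fun T' k hk => ?_⟩
  obtain ⟨⟨z, hz⟩, ha⟩ := hk
  rcases z with u | v
  · refine Or.inl ⟨(J S).uliftYonedaEquiv.symm u, (J S).uliftYonedaEquiv.injective ?_⟩
    rw [GrothendieckTopology.uliftYonedaEquiv_comp, Equiv.apply_symm_apply,
      ← GrothendieckTopology.uliftYonedaEquiv_naturality]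
    exact Eq.trans (congrArg ((toSheafify (J S) (pre jV f')).app (op T')) (Subtype.ext rfl)) ha
  · refine Or.inr ⟨(J S).uliftYonedaEquiv.symm v, (J S).uliftYonedaEquiv.injective ?_⟩
    rw [GrothendieckTopology.uliftYonedaEquiv_comp, Equiv.apply_symm_apply,
      ← GrothendieckTopology.uliftYonedaEquiv_naturality]
    exact Eq.trans (congrArg ((toSheafify (J S) (pre jV f')).app (op T')) ((Subtype.ext (by exact hz)))) ha

/-- equal sections have locally equal normal forms -/
theorem exists_covering_key {T : Over S} (z z' : U.obj.obj (op T) ⊕ V.obj.obj (op T))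
    (h : (toSheafify (J S) (pre jV f')).app (op T) ⟨key jV f' (op T) z, key_key jV f' z⟩ =
      (toSheafify (J S) (pre jV f')).app (op T) ⟨key jV f' (op T) z', key_key jV f' z'⟩) :
    ∃ C ∈ J S T, ∀ ⦃T' : Over S⦄ (k : T' ⟶ T), C k →
      key jV f' (op T') (res k.op z) = key jV f' (op T') (res k.op z') :=
  ⟨_, Presheaf.equalizerSieve_mem (J S) (toSheafify (J S) (pre jV f')) _ _ h, fun T' k hk =>
    ((key_res jV f' k.op z).symm.trans (congrArg Subtype.val hk)).trans (key_res jV f' k.op z')⟩

theorem inU_inj {T : Over S} (a a' : (yon S).obj T ⟶ U) (h : a ≫ inU jV f' = a' ≫ inU jV f') : a = a' := by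
  have h' := congrArg (J S).uliftYonedaEquiv h
  rw [GrothendieckTopology.uliftYonedaEquiv_comp, GrothendieckTopology.uliftYonedaEquiv_comp] at h'
  obtain ⟨C, hC, hk⟩ := exists_covering_key jV f' (.inl ((J S).uliftYonedaEquiv a))
    (.inl ((J S).uliftYonedaEquiv a')) h'
  refine eq_of_covering hC fun T' k hck => (J S).uliftYonedaEquiv.injective ?_
  rw [← GrothendieckTopology.uliftYonedaEquiv_naturality, ← GrothendieckTopology.uliftYonedaEquiv_naturality]
  exact Sum.inl_injective (hk k hck)

theorem mono_inU : Mono (inU jV f') := by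
  refine ⟨fun {Z} x y e => ?_⟩
  ext T v
  obtain ⟨T⟩ := T
  have hk := inU_inj jV f' ((J S).uliftYonedaEquiv.symm v ≫ x) ((J S).uliftYonedaEquiv.symm v ≫ y)
    (by rw [Category.assoc, e, Category.assoc])
  have := congrArg (J S).uliftYonedaEquiv hk
  rwa [GrothendieckTopology.uliftYonedaEquiv_comp, GrothendieckTopology.uliftYonedaEquiv_comp,
    Equiv.apply_symm_apply] at this

theorem cross {T : Over S} (a : (yon S).obj T ⟶ U) (b : (yon S).obj T ⟶ V)
    (h : a ≫ inU jV f' = b ≫ inV jV f') :
    ∃ c : (yon S).obj T ⟶ V', c ≫ f' = a ∧ c ≫ jV = b := by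
  have h' := congrArg (J S).uliftYonedaEquiv h
  rw [GrothendieckTopology.uliftYonedaEquiv_comp, GrothendieckTopology.uliftYonedaEquiv_comp] at h'
  obtain ⟨C, hC, hk⟩ := exists_covering_key jV f' (.inl ((J S).uliftYonedaEquiv a))
    (.inr ((J S).uliftYonedaEquiv b)) h'
  have hmem : ∀ ⦃T' : Over S⦄ (k : T' ⟶ T), C k → ∃ v', jV.hom.app (op T') v' =
      V.obj.map k.op ((J S).uliftYonedaEquiv b) := fun T' k hck => by
    by_contra hv
    have h1 := hk k hck
    simp only [res, Sum.map_inr, Sum.map_inl, key_inl] at h1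
    rw [key_of_not_mem jV f' _ hv] at h1
    exact Sum.inl_ne_inr h1
  obtain ⟨c, hc⟩ := exists_lift_of_covering jV b hC fun T' k hck => by
    obtain ⟨v', hv'⟩ := hmem k hck
    refine ⟨(J S).uliftYonedaEquiv.symm v', (J S).uliftYonedaEquiv.injective ?_⟩
    rw [GrothendieckTopology.uliftYonedaEquiv_comp, Equiv.apply_symm_apply,
      ← GrothendieckTopology.uliftYonedaEquiv_naturality]
    exact hv'
  refine ⟨c, inU_inj jV f' _ _ ?_, hc⟩
  rw [Category.assoc, glue_w, ← Category.assoc, hc, h]

theorem isPullback_glue : IsPullback f' jV (inU jV f') (inV jV f') :=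
  isPullback_of_yon (glue_w jV f') fun T a b e => by
    obtain ⟨c, hc₁, hc₂⟩ := cross jV f' a b e
    exact ⟨c, ⟨hc₁, hc₂⟩, fun c' hc' => (cancel_mono jV).1 (hc'.2.trans hc₂.symm)⟩

/-- equal sections of the etale part are locally equal or both in the open part -/
theorem exists_covering_same {T : Over S} (b b' : (yon S).obj T ⟶ V) (h : b ≫ inV jV f' = b' ≫ inV jV f') :
    ∃ C ∈ J S T, ∀ ⦃T' : Over S⦄ (k : T' ⟶ T), C k →
      (yon S).map k ≫ b = (yon S).map k ≫ b' ∨
        ∃ c c' : (yon S).obj T' ⟶ V', c ≫ jV = (yon S).map k ≫ b ∧ c' ≫ jV = (yon S).map k ≫ b' ∧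
          c ≫ f' = c' ≫ f' := by
  have h' := congrArg (J S).uliftYonedaEquiv h
  rw [GrothendieckTopology.uliftYonedaEquiv_comp, GrothendieckTopology.uliftYonedaEquiv_comp] at h'
  obtain ⟨C, hC, hk⟩ := exists_covering_key jV f' (.inr ((J S).uliftYonedaEquiv b))
    (.inr ((J S).uliftYonedaEquiv b')) h'
  refine ⟨C, hC, fun T' k hck => ?_⟩
  have h1 := hk k hck
  simp only [res, Sum.map_inr] at h1
  by_cases hv : ∃ v', jV.hom.app (op T') v' = V.obj.map k.op ((J S).uliftYonedaEquiv b)
  · obtain ⟨v', hv'⟩ := hv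
    rw [← hv', key_of_mem] at h1
    by_cases hw : ∃ w', jV.hom.app (op T') w' = V.obj.map k.op ((J S).uliftYonedaEquiv b')
    · obtain ⟨w', hw'⟩ := hw
      rw [← hw', key_of_mem] at h1
      refine Or.inr ⟨(J S).uliftYonedaEquiv.symm v', (J S).uliftYonedaEquiv.symm w', ?_, ?_, ?_⟩ <;>
        apply (J S).uliftYonedaEquiv.injective
      · rw [GrothendieckTopology.uliftYonedaEquiv_comp, Equiv.apply_symm_apply,
          ← GrothendieckTopology.uliftYonedaEquiv_naturality]
        exact hv'
      · rw [GrothendieckTopology.uliftYonedaEquiv_comp, Equiv.apply_symm_apply,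
          ← GrothendieckTopology.uliftYonedaEquiv_naturality]
        exact hw'
      · rw [GrothendieckTopology.uliftYonedaEquiv_comp, GrothendieckTopology.uliftYonedaEquiv_comp,
          Equiv.apply_symm_apply, Equiv.apply_symm_apply]
        exact Sum.inl_injective h1
    · rw [key_of_not_mem jV f' _ hw] at h1
      exact absurd h1 Sum.inl_ne_inr
  · rw [key_of_not_mem jV f' _ hv] at h1
    by_cases hw : ∃ w', jV.hom.app (op T') w' = V.obj.map k.op ((J S).uliftYonedaEquiv b')
    · obtain ⟨w', hw'⟩ := hw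
      rw [← hw', key_of_mem] at h1
      exact absurd h1 Sum.inr_ne_inl
    · rw [key_of_not_mem jV f' _ hw] at h1
      refine Or.inl ((J S).uliftYonedaEquiv.injective ?_)
      rw [← GrothendieckTopology.uliftYonedaEquiv_naturality, ← GrothendieckTopology.uliftYonedaEquiv_naturality]
      exact Sum.inr_injective h1

/-- the maps out of the pushout presheaf -/
def preDesc {M : Sp S} (a : U ⟶ M) (c : V ⟶ M) (w : f' ≫ a = jV ≫ c) : pre jV f' ⟶ M.obj where
  app T := ↾fun z => Sum.elim (a.hom.app T) (c.hom.app T) z.1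
  naturality T T' g := by
    ext z
    show Sum.elim (a.hom.app T') (c.hom.app T') (key jV f' T' (res g z.1)) =
      M.obj.map g (Sum.elim (a.hom.app T) (c.hom.app T) z.1)
    have hk : ∀ y, Sum.elim (a.hom.app T') (c.hom.app T') (key jV f' T' y) =
        Sum.elim (a.hom.app T') (c.hom.app T') y := by
      rintro (u | v)
      · rfl
      · by_cases h : ∃ v', jV.hom.app T' v' = v
        · obtain ⟨v', rfl⟩ := h
          rw [key_of_mem]
          exact congr($(w).hom.app T' v')
        · rw [key_of_not_mem jV f' v h]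
    rw [hk]
    rcases z.1 with u | v
    · exact NatTrans.naturality_apply a.hom g u
    · exact NatTrans.naturality_apply c.hom g v

theorem existsUnique_desc {M : Sp S} (a : U ⟶ M) (c : V ⟶ M) (w : f' ≫ a = jV ≫ c) :
    ∃! d : glue jV f' ⟶ M, inU jV f' ≫ d = a ∧ inV jV f' ≫ d = c := by
  refine ⟨ObjectProperty.homMk (sheafifyLift (J S) (preDesc jV f' a c w) M.property), ⟨?_, ?_⟩, fun d hd => ?_⟩
  · apply ObjectProperty.hom_ext
    show (preL jV f' ≫ toSheafify (J S) (pre jV f')) ≫ sheafifyLift (J S) _ _ = _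
    rw [Category.assoc, toSheafify_sheafifyLift]
    ext T u
    rfl
  · apply ObjectProperty.hom_ext
    show (preR jV f' ≫ toSheafify (J S) (pre jV f')) ≫ sheafifyLift (J S) _ _ = _
    rw [Category.assoc, toSheafify_sheafifyLift]
    ext T v
    show Sum.elim (a.hom.app T) (c.hom.app T) (key jV f' T (.inr v)) = c.hom.app T v
    by_cases h : ∃ v', jV.hom.app T v' = v
    · obtain ⟨v', rfl⟩ := h
      rw [key_of_mem]
      exact congr($(w).hom.app T v')
    · rw [key_of_not_mem jV f' v h]
      rfl
  · apply ObjectProperty.hom_ext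
    refine sheafify_hom_ext (J S) _ _ M.property ?_
    show _ = toSheafify (J S) (pre jV f') ≫ sheafifyLift (J S) _ _
    rw [toSheafify_sheafifyLift]
    ext T z
    obtain ⟨z, hz⟩ := z
    rcases z with u | v
    · refine Eq.trans ?_ congr($(hd.1).hom.app T u)
      exact congrArg (fun y => d.hom.app T ((toSheafify (J S) (pre jV f')).app T y)) (Subtype.ext rfl)
    · refine Eq.trans ?_ congr($(hd.2).hom.app T v)
      exact congrArg (fun y => d.hom.app T ((toSheafify (J S) (pre jV f')).app T y)) (Subtype.ext hz.symm)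

end Groth.Agent.AlgSpLib.EtGlue
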