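import Groth.Agent.AlgSpLib.EtGlueMap
import Groth.Agent.Stk19b.ZarQs
import Groth.Agent.AlgSpLib.MorQC
import Groth.Agent.Stk19.AlgSt.Props

/-!
A gluing of a quasi-separated space with an affine scheme along a quasi-compact open is quasi-separated.
-/

universe u

open CategoryTheory CategoryTheory.Limits AlgebraicGeometry Opposite
open AlgSp

noncomputable section

set_option linter.style.haveILetI false

namespace Groth.Agent.AlgSpLib.EtGlue

set_option backward.isDefEq.respectTransparency.types false
set_option backward.isDefEq.respectTransparency false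

variable {S : Scheme.{u}}

theorem compact_pullback_of_qs [QuasiSeparatedSpace ↥S] {A B Y : Sp S} (hA : IsAlgSpace A) (hB : IsAlgSpace B)
    (hY : IsAlgSpace Y) (hAc : IsQuasiCompactSp A) (hBc : IsQuasiCompactSp B) (hYs : IsQuasiSeparatedSp Y)
    (a : A ⟶ Y) (b : B ⟶ Y) : CompactSpace (Points (pullback a b)) :=
  compactSpace_points_of_isQuasiCompactSp
    (isQuasiCompactMor_of_qc_qs hA hY a hAc hYs hB hBc b _ _ (IsPullback.of_hasPullback a b))

theorem compactSpace_of_map {P Q : Sp S} (m : P ⟶ Q) [CompactSpace (Points P)]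
    (h : ∀ x, x ∈ Set.range (Points.map m)) : CompactSpace (Points Q) :=
  ⟨by rw [← Set.eq_univ_of_forall h]; exact isCompact_range (Points.continuous_map m)⟩

variable {U : AlgSp.Space S} {V₀ : Over S} {V' : AlgSp.Space S} {jV : V'.obj ⟶ (yon S).obj V₀}
  (hjV : RepWith @IsOpenImmersion jV) {f' : V'.obj ⟶ U.obj} (het : IsEtaleMor f') [Mono jV]

theorem compact_UV [QuasiSeparatedSpace ↥S] {A : Over S} [CompactSpace ↥A.left] (u₁ : (yon S).obj A ⟶ U.obj)
    (hUs : IsQuasiSeparatedSp U.obj) (hV'c : IsQuasiCompactSp V'.obj) :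
    CompactSpace (Points (pullback (u₁ ≫ inU jV f') (inV jV f'))) := by
  haveI := compact_pullback_of_qs (IsAlgSpace.yon_obj A) V'.property U.property
    (Stk19.isQuasiCompactSp_yon A) hV'c hUs u₁ f'
  refine compactSpace_of_map (pullback.lift (pullback.fst u₁ f') (pullback.snd u₁ f' ≫ jV)
    (by rw [pullback.condition_assoc, glue_w, Category.assoc]) : pullback u₁ f' ⟶ _) fun x => ?_
  obtain ⟨K, _, str, a, rfl⟩ := exists_ptOfHom x
  obtain ⟨c, hc₁, hc₂⟩ := cross jV f' ((a ≫ pullback.fst _ _) ≫ u₁) (a ≫ pullback.snd _ _)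
    (by simp only [Category.assoc, pullback.condition])
  refine ⟨ptOfHom (pullback.lift (a ≫ pullback.fst _ _) c hc₁.symm), ?_⟩
  rw [map_ptOfHom]
  congr 1
  apply pullback.hom_ext
  · rw [Category.assoc, pullback.lift_fst, pullback.lift_fst]
  · rw [Category.assoc, pullback.lift_snd, pullback.lift_snd_assoc, hc₂]

theorem compact_UU [QuasiSeparatedSpace ↥S] {A : Over S} [CompactSpace ↥A.left] (u₁ : (yon S).obj A ⟶ U.obj)
    (hUs : IsQuasiSeparatedSp U.obj) :
    CompactSpace (Points (pullback (u₁ ≫ inU jV f') (u₁ ≫ inU jV f'))) := by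
  haveI := mono_inU jV f'
  haveI := compact_pullback_of_qs (IsAlgSpace.yon_obj A) (IsAlgSpace.yon_obj A) U.property
    (Stk19.isQuasiCompactSp_yon A) (Stk19.isQuasiCompactSp_yon A) hUs u₁ u₁
  refine compactSpace_of_map (pullback.lift (pullback.fst u₁ u₁) (pullback.snd u₁ u₁)
    (by rw [pullback.condition_assoc]) : pullback u₁ u₁ ⟶ _) fun x => ?_
  obtain ⟨K, _, str, a, rfl⟩ := exists_ptOfHom x
  refine ⟨ptOfHom (pullback.lift (a ≫ pullback.fst _ _) (a ≫ pullback.snd _ _) ((cancel_mono (inU jV f')).1
    (by simp only [Category.assoc, pullback.condition]))), ?_⟩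
  rw [map_ptOfHom]
  congr 1
  apply pullback.hom_ext
  · rw [Category.assoc, pullback.lift_fst, pullback.lift_fst]
  · rw [Category.assoc, pullback.lift_snd, pullback.lift_snd]

include hjV in
theorem compact_VV [QuasiSeparatedSpace ↥S] [CompactSpace ↥V₀.left] (hUs : IsQuasiSeparatedSp U.obj)
    (hV'c : IsQuasiCompactSp V'.obj) : CompactSpace (Points (pullback (inV jV f') (inV jV f'))) := by
  haveI := compact_pullback_of_qs V'.property V'.property U.property hV'c hV'c hUs f' f'
  haveI : CompactSpace (Points ((yon S).obj V₀)) := (Points.schemeHomeo V₀).compactSpace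
  let H : Bool → Sp S := fun b => bif b then (yon S).obj V₀ else pullback f' f'
  haveI : CompactSpace (Points (H true)) := ‹CompactSpace (Points ((yon S).obj V₀))›
  haveI : CompactSpace (Points (H false)) := ‹CompactSpace (Points (pullback f' f'))›
  let V : AlgSp.Space S := (AlgSp.ofScheme S).obj V₀
  let b : ∀ i, H i ⟶ pullback (inV jV f') (inV jV f') := fun i => match i with
    | true => eDiag (V := V) (jV := jV) (f' := f')
    | false => eOpen (V := V) (jV := jV) (f' := f')
  refine ⟨?_⟩
  rw [show (Set.univ : Set (Points (pullback (inV jV f') (inV jV f')))) =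
      Set.range (Points.map (b true)) ∪ Set.range (Points.map (b false)) from
    (Set.eq_univ_of_forall fun x => by
      obtain ⟨i, hi⟩ := exists_point_of_local b (fun T z => by
        obtain ⟨C, hC, h⟩ := exists_covering_kernel (V := V) (jV := jV) (f' := f') z
        exact ⟨C, hC, fun K' k hk => (h k hk).elim (fun hl => ⟨true, hl⟩) fun hl => ⟨false, hl⟩⟩) x
      cases i
      · exact Or.inr hi
      · exact Or.inl hi).symm]
  exact (isCompact_range (Points.continuous_map _)).union (isCompact_range (Points.continuous_map _))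

include hjV het in
theorem isQuasiSeparatedSp_glue [QuasiSeparatedSpace ↥S] [IsAffine V₀.left] (hUc : IsQuasiCompactSp U.obj)
    (hUs : IsQuasiSeparatedSp U.obj) (hV'c : IsQuasiCompactSp V'.obj) : IsQuasiSeparatedSp (glue jV f') := by
  let V : AlgSp.Space S := (AlgSp.ofScheme S).obj V₀
  obtain ⟨hW, hUe, hVe⟩ := isAlgSpace_glue (V := V) hjV het
  haveI := compactSpace_points_of_isQuasiCompactSp hUc
  obtain ⟨U₁, u₁, hU₁, hue, hus⟩ := exists_affine_chart U.property
  haveI := hU₁
  have hjo := (isElemDistSq_glue (V := V) hjV het).1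
  let A : ULift.{u} Bool → Over S := fun b => bif b.down then U₁ else V₀
  let p : ∀ b, (yon S).obj (A b) ⟶ glue jV f' := fun b => match b with
    | ⟨true⟩ => u₁ ≫ inU jV f'
    | ⟨false⟩ => inV jV f'
  obtain ⟨ψ, hψ, -⟩ := existsUnique_desc_sigma A p
  have hA : ∀ b, IsAffine (A b).left := by
    rintro ⟨_ | _⟩
    · exact ‹IsAffine V₀.left›
    · exact hU₁
  haveI : ∀ b, IsAffine (A b).left := hA
  haveI : IsAffine (sigmaOver A).left := inferInstanceAs (IsAffine (∐ fun b => (A b).left))
  have hι : ∀ i, RepWith @IsOpenImmersion ((yon S).map (sigmaOverι A i)) := fun i =>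
    (repWith_yon_map_iff _ _).2 inferInstance
  have hpe : ∀ i, RepWith @Etale (p i) := by
    rintro ⟨_ | _⟩
    · have := repWith_comp_of_locP etLocal_etale hW ((isEtaleMor_iff_locP etLocal_etale (IsAlgSpace.yon_obj V₀) hW _).1 hVe)
        (𝟙 _) (repWith_id _ V₀)
      rwa [Category.id_comp] at this
    · exact RepWith.comp hue (Induct.repWith_etale hjo)
  have hψe : RepWith @Etale ψ := repWith_of_open_cover @Etale (fun i => (yon S).map (sigmaOverι A i)) hι
    (fun x => by
      obtain ⟨t, rfl⟩ := (Points.schemeHomeo (sigmaOver A)).surjective x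
      obtain ⟨i, y, hy⟩ := exists_mem_range_sigmaOverι A t
      exact ⟨i, Points.schemeHomeo _ y, by rw [← hy]; exact map_yon_map_ofScheme _ y⟩) ψ
    fun i => by rw [hψ i]; exact hpe i
  have hψs : RepWith @Surjective ψ := repWith_surjective_of_surjective_map hψe.1 fun x => by
    have : ∀ i, x ∈ Set.range (Points.map (p i)) → ∃ z, Points.map ψ z = x := by
      rintro i ⟨z, rfl⟩
      exact ⟨Points.map ((yon S).map (sigmaOverι A i)) z, by rw [← Points.map_comp, hψ i]⟩
    rcases exists_point_glue jV f' x with ⟨z, rfl⟩ | h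
    · obtain ⟨z', rfl⟩ := surjective_map_of_repWith hus z
      exact this ⟨true⟩ ⟨z', Points.map_comp _ _ z'⟩
    · exact this ⟨false⟩ h
  obtain ⟨t, ht⟩ := (yon S).map_surjective (hψe.1.fst ψ)
  let s := hψe.1.snd ψ
  have sqR : IsPullback ((yon S).map t) ((yon S).map s) ψ ψ := ht ▸ hψe.1.isPullback ψ
  haveI : CompactSpace (Points (pullback ψ ψ)) := by
    let pr : ∀ i j, pullback (p i) (p j) ⟶ pullback ψ ψ := fun i j =>
      pullback.lift (pullback.fst _ _ ≫ (yon S).map (sigmaOverι A i)) (pullback.snd _ _ ≫ (yon S).map (sigmaOverι A j))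
        (by rw [Category.assoc, Category.assoc, hψ, hψ, pullback.condition])
    have hc : ∀ i j, CompactSpace (Points (pullback (p i) (p j))) := by
      rintro ⟨_ | _⟩ ⟨_ | _⟩
      · exact compact_VV hjV hUs hV'c
      · haveI := compact_UV (jV := jV) (f' := f') u₁ hUs hV'c
        exact compactSpace_of_map (pullbackSymmetry (u₁ ≫ inU jV f') (inV jV f')).hom fun x =>
          ⟨Points.map (pullbackSymmetry (u₁ ≫ inU jV f') (inV jV f')).inv x, by
            rw [← Points.map_comp, Iso.inv_hom_id, Points.map_id]⟩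
      · exact compact_UV u₁ hUs hV'c
      · exact compact_UU u₁ hUs
    refine ⟨?_⟩
    rw [show (Set.univ : Set (Points (pullback ψ ψ))) =
        ⋃ (ij : ULift.{u} Bool × ULift.{u} Bool), Set.range (Points.map (pr ij.1 ij.2)) from
      (Set.eq_univ_of_forall fun x => by
        obtain ⟨K, _, str, a, rfl⟩ := exists_ptOfHom x
        have hlift : ∀ b : (yon S).obj (Over.mk str) ⟶ (yon S).obj (sigmaOver A),
            ∃ i l, l ≫ (yon S).map (sigmaOverι A i) = b := fun b => by
          obtain ⟨z, hz⟩ := (Points.schemeHomeo (sigmaOver A)).surjective (ptOfHom b)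
          obtain ⟨i, y, hy⟩ := exists_mem_range_sigmaOverι A z
          refine ⟨i, (exists_lift_iff_range_subset (hι i) b).2 ?_⟩
          rintro _ ⟨w, rfl⟩
          obtain ⟨w', rfl⟩ := (Points.schemeEquiv (Over.mk str)).surjective w
          refine ⟨Points.schemeHomeo _ y, ?_⟩
          refine (map_yon_map_ofScheme _ y).trans ((congrArg _ hy).trans (hz.trans ?_))
          refine Eq.trans ?_ (Points.ofPt_eq_map_ofScheme b w')
          rw [show ptOfHom b = ptOfHom ((yon S).map (𝟙 (Over.mk str)) ≫ b) by
            erw [(yon S).map_id, Category.id_comp], ptOfHom_yon_map]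
          exact congrArg _ (Subsingleton.elim (α := ↥(Spec (CommRingCat.of K))) _ _)
        obtain ⟨i, l, hl⟩ := hlift (a ≫ pullback.fst _ _)
        obtain ⟨j, m, hm⟩ := hlift (a ≫ pullback.snd _ _)
        refine Set.mem_iUnion.2 ⟨(i, j), ptOfHom (pullback.lift l m (by
          rw [← hψ, ← hψ, ← Category.assoc, hl, ← Category.assoc, hm, Category.assoc, Category.assoc,
            pullback.condition])), ?_⟩
        rw [map_ptOfHom]
        congr 1
        apply pullback.hom_ext
        · rw [Category.assoc, pullback.lift_fst, pullback.lift_fst_assoc, hl]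
        · rw [Category.assoc, pullback.lift_snd, pullback.lift_snd_assoc, hm]).symm]
    exact isCompact_iUnion fun ij => by
      haveI := hc ij.1 ij.2
      exact isCompact_range (Points.continuous_map _)
  haveI : CompactSpace ↥(hψe.1.pullback ψ).left := by
    haveI : CompactSpace (Points ((yon S).obj (hψe.1.pullback ψ))) :=
      compactSpace_of_map sqR.isoPullback.inv fun x =>
        ⟨Points.map sqR.isoPullback.hom x, by rw [← Points.map_comp, Iso.hom_inv_id, Points.map_id]⟩
    exact (Points.schemeHomeo _).symm.compactSpace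
  haveI : QuasiSeparated (sigmaOver A).hom := by
    haveI : QuasiSeparated ((sigmaOver A).hom ≫ terminal.from S) :=
      (quasiSeparated_iff_quasiSeparatedSpace _).2 inferInstance
    exact QuasiSeparated.of_comp _ (terminal.from S)
  haveI : QuasiCompact t.left := by
    haveI : QuasiCompact (t.left ≫ terminal.from _) := by
      rw [terminal.comp_from]
      exact HasAffineProperty.iff_of_isAffine.mpr ‹CompactSpace ↥(hψe.1.pullback ψ).left›
    exact QuasiCompact.of_comp t.left (terminal.from _)
  exact isQuasiSeparatedSp_of_chart hW ψ hψe hψs s t sqR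

end Groth.Agent.AlgSpLib.EtGlue
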