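import Groth.Agent.AlgSpLib.EtGluePre
import Groth.Agent.AlgSpLib.SpacePush
import Groth.Agent.AlgSpLib.EtaleLift
import Groth.Agent.AlgSpLib.EtLocalInst
import Groth.Agent.AlgSpLib.SheafCoprod2
import Groth.Agent.Stk19b.Fppf.Bootstrap
import Groth.Agent.AlgSpLib.MorMore

/-!
Gluing an algebraic space to another along an open subspace and an etale map.
-/

universe u

open CategoryTheory CategoryTheory.Limits AlgebraicGeometry Opposite
open AlgSp

noncomputable section

namespace Groth.Agent.AlgSpLib.EtGlue

set_option backward.isDefEq.respectTransparency.types false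
set_option backward.isDefEq.respectTransparency false

variable {S : Scheme.{u}}

/-- a property local on the target may be checked on a covering sieve of every point -/
theorem repWith_of_local {F G : Sp S} {a : F ⟶ G} (ha : Representable a) (P : MorphismProperty Scheme.{u})
    [P.IsLocalAtTarget Scheme.fppfPrecoverage]
    (h : ∀ (T : Over S) (g : (yon S).obj T ⟶ G), ∃ C ∈ J S T, ∀ ⦃T' : Over S⦄ (k : T' ⟶ T), C k →
      ∃ (H Q : Sp S) (b : H ⟶ G) (b' : Q ⟶ F) (a' : Q ⟶ H) (l : (yon S).obj T' ⟶ H),
        l ≫ b = (yon S).map k ≫ g ∧ IsPullback b' a' a b ∧ RepWith P a') : RepWith P a := by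
  refine ⟨ha, fun T V g fst snd sq₁ => ?_⟩
  obtain ⟨C, hC, hk⟩ := h T g
  refine of_covering snd hC ?_
  intro T' u hu
  obtain ⟨H, Q, b, b', a', l, hl, sq, hP⟩ := hk u hu
  have sq₂ := (IsPullback.of_hasPullback snd u).map (yon S)
  have sq₃ : IsPullback ((yon S).map (pullback.fst snd u) ≫ fst)
      ((yon S).map (pullback.snd snd u)) a (l ≫ b) := by
    rw [hl]
    exact sq₂.paste_horiz sq₁
  exact hP.2 l (sq.lift ((yon S).map (pullback.fst snd u) ≫ fst)
    ((yon S).map (pullback.snd snd u) ≫ l) (by simpa using sq₃.w)) _
    (IsPullback.of_right' sq₃ sq)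

/-- a point of a sheaf whose sections lift locally comes from the lifts -/
theorem exists_point_of_local {G : Sp S} {ι : Type*} {H : ι → Sp S} (b : ∀ i, H i ⟶ G)
    (h : ∀ (T : Over S) (g : (yon S).obj T ⟶ G), ∃ C ∈ J S T, ∀ ⦃T' : Over S⦄ (k : T' ⟶ T), C k →
      ∃ i, ∃ l : (yon S).obj T' ⟶ H i, l ≫ b i = (yon S).map k ≫ g) (x : Points G) :
    ∃ i, x ∈ Set.range (Points.map (b i)) := by
  obtain ⟨K, _, str, a, rfl⟩ := exists_ptOfHom x
  obtain ⟨C, hC, h⟩ := h _ a
  obtain ⟨T', f, hf, -, p, -⟩ := exists_open_members hC (IsLocalRing.closedPoint K)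
  obtain ⟨i, l, hl⟩ := h f hf
  refine ⟨i, Points.ofPt l p, ?_⟩
  rw [Points.map_ofPt, hl, ofPt_map]
  have e := ptOfHom_yon_map (𝟙 (Over.mk str)) a
  erw [(yon S).map_id, Category.id_comp] at e
  rw [e]
  congr 1
  exact Subsingleton.elim (α := ↥(Spec (CommRingCat.of K))) _ _

variable {U V V' : AlgSp.Space S} {jV : V'.obj ⟶ V.obj} (hjV : RepWith @IsOpenImmersion jV)
  {f' : V'.obj ⟶ U.obj} (het : IsEtaleMor f') [Mono jV]

local notation "gV" => inV jV f'

/-- the diagonal part of the kernel pair -/
abbrev eDiag : V.obj ⟶ pullback gV gV := pullback.lift (𝟙 _) (𝟙 _) rfl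

/-- the open part of the kernel pair -/
abbrev eOpen : pullback f' f' ⟶ pullback gV gV :=
  pullback.lift (pullback.fst f' f' ≫ jV) (pullback.snd f' f' ≫ jV)
    (by rw [Category.assoc, Category.assoc, ← glue_w, pullback.condition_assoc])

include hjV in
theorem repWith_eOpen : RepWith @IsOpenImmersion (eOpen (jV := jV) (f' := f')) := by
  have := mono_inU jV f'
  let o₁ : pullback jV (pullback.fst gV gV) ⟶ pullback gV gV := pullback.snd _ _
  have ho₁ : RepWith @IsOpenImmersion o₁ := RepWith.baseChange (IsPullback.of_hasPullback _ _) hjV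
  let m : pullback f' f' ⟶ pullback jV (pullback.fst gV gV) :=
    pullback.lift (pullback.fst f' f') (eOpen (jV := jV) (f' := f')) (by rw [pullback.lift_fst])
  have hm : IsPullback (pullback.snd f' f') m jV (o₁ ≫ pullback.snd gV gV) := by
    refine isPullback_of_yon ?_ fun T x y e => ?_
    · rw [← Category.assoc, pullback.lift_snd, pullback.lift_snd]
    · have he : (y ≫ pullback.fst _ _) ≫ f' = x ≫ f' := by
        rw [← cancel_mono (inU jV f'), Category.assoc, Category.assoc, Category.assoc, glue_w,
          pullback.condition_assoc, pullback.condition, ← Category.assoc x, e]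
        simp only [o₁, Category.assoc]
      refine ⟨pullback.lift (y ≫ pullback.fst _ _) x he, ⟨pullback.lift_snd _ _ _, ?_⟩, fun l hl => ?_⟩
      · apply pullback.hom_ext
        · rw [Category.assoc, pullback.lift_fst, pullback.lift_fst]
        · apply pullback.hom_ext
          · rw [Category.assoc, Category.assoc, pullback.lift_snd_assoc, pullback.lift_fst,
              pullback.lift_fst_assoc, Category.assoc, pullback.condition]
            simp only [Category.assoc]
          · rw [Category.assoc, Category.assoc, pullback.lift_snd_assoc, pullback.lift_snd,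
              pullback.lift_snd_assoc, e]
            simp only [o₁, Category.assoc]
      · apply pullback.hom_ext
        · rw [pullback.lift_fst, ← hl.2, Category.assoc, pullback.lift_fst]
        · rw [pullback.lift_snd, hl.1]
  have : m ≫ o₁ = eOpen (jV := jV) (f' := f') := pullback.lift_snd _ _ _
  rw [← this]
  exact RepWith.comp (RepWith.baseChange hm hjV) ho₁

/-- locally a section of the kernel pair lies in one of the parts -/
theorem exists_covering_kernel {T : Over S} (z : (yon S).obj T ⟶ pullback gV gV) :
    ∃ C ∈ J S T, ∀ ⦃T' : Over S⦄ (k : T' ⟶ T), C k →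
      (∃ l, l ≫ eDiag (jV := jV) (f' := f') = (yon S).map k ≫ z) ∨
        ∃ l, l ≫ eOpen (jV := jV) (f' := f') = (yon S).map k ≫ z := by
  obtain ⟨C, hC, h⟩ := exists_covering_same jV f' (z ≫ pullback.fst _ _) (z ≫ pullback.snd _ _)
    (by rw [Category.assoc, Category.assoc, pullback.condition])
  refine ⟨C, hC, fun T' k hk => ?_⟩
  rcases h k hk with e | ⟨c, c', hc, hc', e⟩
  · refine Or.inl ⟨(yon S).map k ≫ z ≫ pullback.fst _ _, pullback.hom_ext ?_ ?_⟩
    · simp [eDiag, pullback.lift_fst]
    · rw [e]
      simp [eDiag, pullback.lift_snd]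
  · refine Or.inr ⟨pullback.lift c c' e, pullback.hom_ext ?_ ?_⟩
    · rw [Category.assoc, pullback.lift_fst, pullback.lift_fst_assoc, hc, Category.assoc]
    · rw [Category.assoc, pullback.lift_snd, pullback.lift_snd_assoc, hc', Category.assoc]

include hjV het in
theorem repWith_eDiag : RepWith @IsOpenImmersion (eDiag (jV := jV) (f' := f')) := by
  have := mono_inU jV f'
  have hrep : Representable (eDiag (jV := jV) (f' := f')) := by
    have key : IsPullback (𝟙 V.obj) (eDiag (jV := jV) (f' := f')) (Limits.diag V.obj)
      (prod.lift (pullback.fst gV gV) (pullback.snd gV gV)) := ?_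
    · exact MorphismProperty.of_isPullback key V.property.diag
    refine isPullback_of_yon ?_ fun T x y e => ?_
    · apply Limits.prod.hom_ext <;> simp [eDiag, prod.lift_fst, prod.lift_snd, pullback.lift_fst, pullback.lift_snd]
    · have e1 := congrArg (· ≫ prod.fst) e
      have e2 := congrArg (· ≫ prod.snd) e
      simp only [Category.assoc, prod.lift_fst, prod.lift_snd, Category.comp_id] at e1 e2
      refine ⟨x, ⟨Category.comp_id _, pullback.hom_ext ?_ ?_⟩, fun l hl => (Category.comp_id l).symm.trans hl.1⟩
      · rw [Category.assoc, pullback.lift_fst, Category.comp_id, e1]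
      · rw [Category.assoc, pullback.lift_snd, Category.comp_id, e2]
  refine repWith_of_local hrep _ fun T z => ?_
  obtain ⟨C, hC, h⟩ := exists_covering_kernel z
  refine ⟨C, hC, fun T' k hk => ?_⟩
  rcases h k hk with ⟨l, hl⟩ | ⟨l, hl⟩
  · have hmono : Mono (eDiag (jV := jV) (f' := f')) :=
      ⟨fun a b e => by simpa [eDiag, pullback.lift_fst] using congrArg (· ≫ pullback.fst gV gV) e⟩
    exact ⟨_, _, eDiag (jV := jV) (f' := f'), 𝟙 _, 𝟙 _, l, hl, IsKernelPair.id_of_mono _, repWith_of_isIso _ _⟩
  · have hd : RepWith @IsOpenImmersion (pullback.diagonal f') :=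
      repWith_diagonal_of_unramified V'.property U.property (locP_unramified_of_isEtaleMor V'.property U.property het)
    refine ⟨_, V'.obj, eOpen (jV := jV) (f' := f'), jV, pullback.diagonal f', l, hl, ?_, hd⟩
    refine isPullback_of_yon ?_ fun T x y e => ?_
    · apply pullback.hom_ext <;>
        simp [eDiag, eOpen, pullback.lift_fst, pullback.lift_snd, pullback.diagonal_fst_assoc, pullback.diagonal_snd_assoc]
    · have e1 : x = y ≫ pullback.fst f' f' ≫ jV := by
        simpa [eDiag, eOpen, pullback.lift_fst] using congrArg (· ≫ pullback.fst gV gV) e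
      have e2 : x = y ≫ pullback.snd f' f' ≫ jV := by
        simpa [eDiag, eOpen, pullback.lift_snd] using congrArg (· ≫ pullback.snd gV gV) e
      have e3 : y ≫ pullback.fst f' f' = y ≫ pullback.snd f' f' := by
        rw [← cancel_mono jV, Category.assoc, Category.assoc, ← e1, ← e2]
      refine ⟨y ≫ pullback.fst f' f', ⟨by rw [Category.assoc, ← e1], pullback.hom_ext ?_ ?_⟩, fun l hl => ?_⟩
      · rw [Category.assoc, pullback.diagonal_fst, Category.comp_id]
      · rw [Category.assoc, pullback.diagonal_snd, Category.comp_id, e3]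
      · rw [← hl.2, Category.assoc, pullback.diagonal_fst, Category.comp_id]

theorem range_eDiag_eOpen (x : Points (pullback gV gV)) :
    x ∈ Set.range (Points.map (eDiag (jV := jV) (f' := f'))) ∨
      x ∈ Set.range (Points.map (eOpen (jV := jV) (f' := f'))) := by
  let H : Bool → Sp S := fun b => bif b then V.obj else pullback f' f'
  let b : ∀ i, H i ⟶ pullback gV gV := fun i => match i with
    | true => eDiag (jV := jV) (f' := f')
    | false => eOpen (jV := jV) (f' := f')
  obtain ⟨i, hi⟩ := exists_point_of_local b (fun T z => by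
    obtain ⟨C, hC, h⟩ := exists_covering_kernel z
    exact ⟨C, hC, fun T' k hk => (h k hk).elim (fun hl => ⟨true, hl⟩) fun hl => ⟨false, hl⟩⟩) x
  cases i
  · exact Or.inr hi
  · exact Or.inl hi

section charts

variable {U₁ V₁ : Over S} (u : (yon S).obj U₁ ⟶ U.obj) (hue : RepWith @Etale u)
  (v : (yon S).obj V₁ ⟶ V.obj) (hve : RepWith @Etale v)

include hue in
theorem etale_UU : RepWith @Etale (pullback.snd (u ≫ inU jV f') (inU jV f')) := by
  have := mono_inU jV f'
  have sq : IsPullback (𝟙 _) u (u ≫ inU jV f') (inU jV f') :=
    (IsPullback.of_horiz_isIso (⟨(Category.id_comp u).trans (Category.comp_id u).symm⟩ :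
      CommSq (𝟙 _) u u (𝟙 _))).paste_vert (IsKernelPair.id_of_mono (inU jV f'))
  rw [show pullback.snd (u ≫ inU jV f') (inU jV f') = sq.isoPullback.inv ≫ u from sq.isoPullback_inv_snd.symm]
  exact RepWith.comp (repWith_of_isIso _ _) hue

include hue hjV in
theorem etale_UV : RepWith @Etale (pullback.snd (u ≫ inU jV f') gV) := by
  have sq : IsPullback (pullback.fst u f') (pullback.snd u f' ≫ jV) (u ≫ inU jV f') gV :=
    ((IsPullback.of_hasPullback u f').flip.paste_horiz (isPullback_glue jV f').flip).flip
  rw [show pullback.snd (u ≫ inU jV f') gV = sq.isoPullback.inv ≫ pullback.snd u f' ≫ jV from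
    sq.isoPullback_inv_snd.symm]
  exact RepWith.comp (repWith_of_isIso _ _) (RepWith.comp (RepWith.baseChange (IsPullback.of_hasPullback u f') hue)
    (RepWith.mono (fun _ _ k (_ : IsOpenImmersion k) => (inferInstance : Etale k)) hjV))

include hve hjV het in
theorem etale_open : RepWith @Etale (pullback.snd v jV ≫ f') := by
  have sq := (hjV.1.isPullback v).flip
  rw [show pullback.snd v jV = sq.isoPullback.inv ≫ hjV.1.fst v from sq.isoPullback_inv_snd.symm, Category.assoc]
  exact RepWith.comp (repWith_of_isIso _ _) (het (hjV.1.fst v) (RepWith.baseChange sq hve))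

include hve hjV het in
theorem etale_VU : RepWith @Etale (pullback.snd (v ≫ gV) (inU jV f')) := by
  have sq : IsPullback (pullback.fst v jV) (pullback.snd v jV ≫ f') (v ≫ gV) (inU jV f') :=
    ((IsPullback.of_hasPullback v jV).flip.paste_horiz (isPullback_glue jV f')).flip
  rw [show pullback.snd (v ≫ gV) (inU jV f') = sq.isoPullback.inv ≫ pullback.snd v jV ≫ f' from
    sq.isoPullback_inv_snd.symm]
  exact RepWith.comp (repWith_of_isIso _ _) (etale_open hjV het v hve)

include hve hjV het in
theorem etale_VV : RepWith @Etale (pullback.snd (v ≫ gV) gV) := by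
  let ρ : pullback (v ≫ gV) gV ⟶ pullback gV gV :=
    pullback.lift (pullback.fst _ _ ≫ v) (pullback.snd _ _) (by rw [Category.assoc, pullback.condition])
  have hρ : ∀ {H : Sp S} (e : H ⟶ pullback gV gV), pullback.snd e ρ ≫ pullback.snd (v ≫ gV) gV =
      pullback.fst e ρ ≫ e ≫ pullback.snd gV gV := fun e => by
    rw [pullback.condition_assoc, pullback.lift_snd]
  let H : ULift.{u} Bool → Sp S := fun b => bif b.down then pullback (eDiag (jV := jV) (f' := f')) ρ
    else pullback (eOpen (jV := jV) (f' := f')) ρ
  let j : ∀ i, H i ⟶ pullback (v ≫ gV) gV := fun i => match i with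
    | ⟨true⟩ => pullback.snd (eDiag (jV := jV) (f' := f')) ρ
    | ⟨false⟩ => pullback.snd (eOpen (jV := jV) (f' := f')) ρ
  refine repWith_of_open_cover @Etale j ?_ (fun x => ?_) _ ?_
  · rintro ⟨_ | _⟩
    · exact RepWith.baseChange (IsPullback.of_hasPullback _ _) (repWith_eOpen hjV)
    · exact RepWith.baseChange (IsPullback.of_hasPullback _ _) (repWith_eDiag hjV het)
  · rcases range_eDiag_eOpen (Points.map ρ x) with ⟨y, hy⟩ | ⟨y, hy⟩
    · obtain ⟨z, -, hz⟩ := exists_point_of_isPullback
        (IsPullback.of_hasPullback (eDiag (jV := jV) (f' := f')) ρ) (x := y) (y := x) hy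
      exact ⟨⟨true⟩, z, hz⟩
    · obtain ⟨z, -, hz⟩ := exists_point_of_isPullback
        (IsPullback.of_hasPullback (eOpen (jV := jV) (f' := f')) ρ) (x := y) (y := x) hy
      exact ⟨⟨false⟩, z, hz⟩
  · rintro ⟨_ | _⟩
    · show RepWith @Etale (pullback.snd (eOpen (jV := jV) (f' := f')) ρ ≫ _)
      rw [hρ, pullback.lift_snd]
      let m : pullback (eOpen (jV := jV) (f' := f')) ρ ⟶ pullback v jV :=
        pullback.lift (pullback.snd _ _ ≫ pullback.fst _ _) (pullback.fst _ _ ≫ pullback.fst f' f') (by
          have := congrArg (· ≫ pullback.fst gV gV) (pullback.condition (f := eOpen (jV := jV) (f' := f')) (g := ρ))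
          simpa [ρ, eOpen, pullback.lift_fst] using this.symm)
      have sq : IsPullback m (pullback.fst _ ρ ≫ pullback.snd f' f') (pullback.snd v jV ≫ f') f' := by
        refine isPullback_of_yon ?_ fun T x y e => ?_
        · simp [m, pullback.lift_snd_assoc, pullback.condition]
        · refine ⟨pullback.lift (pullback.lift (x ≫ pullback.snd v jV) y (by simpa using e))
            (pullback.lift (x ≫ pullback.fst v jV) (y ≫ jV) (by
              simp only [Category.assoc]
              rw [pullback.condition_assoc, ← glue_w, reassoc_of% e])) ?_, ⟨?_, ?_⟩, fun l hl => ?_⟩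
          · apply pullback.hom_ext
            · simp [ρ, eOpen, pullback.lift_fst, pullback.lift_fst_assoc, pullback.condition]
            · simp [ρ, eOpen, pullback.lift_snd, pullback.lift_snd_assoc]
          · apply pullback.hom_ext <;> simp [m, pullback.lift_fst, pullback.lift_snd, pullback.lift_fst_assoc, pullback.lift_snd_assoc]
          · simp [pullback.lift_fst_assoc, pullback.lift_snd]
          · obtain ⟨h1, h2⟩ := hl
            have hc := congrArg (l ≫ ·) (pullback.condition (f := eOpen (jV := jV) (f' := f')) (g := ρ))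
            apply pullback.hom_ext
            · rw [pullback.lift_fst]
              apply pullback.hom_ext
              · rw [pullback.lift_fst, ← h1]
                simp [m, pullback.lift_snd]
              · rw [pullback.lift_snd, ← h2, Category.assoc]
            · rw [pullback.lift_snd]
              apply pullback.hom_ext
              · rw [pullback.lift_fst, ← h1]
                simp [m, pullback.lift_fst]
              · rw [pullback.lift_snd, ← h2]
                have := congrArg (· ≫ pullback.snd gV gV) hc
                simpa [ρ, eOpen, pullback.lift_snd] using this.symm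
      have h1 : RepWith @Etale (pullback.fst (eOpen (jV := jV) (f' := f')) ρ ≫ pullback.snd f' f') :=
        RepWith.baseChange sq (etale_open hjV het v hve)
      have := RepWith.comp h1 (RepWith.mono (fun _ _ k (_ : IsOpenImmersion k) => (inferInstance : Etale k)) hjV)
      simpa only [Category.assoc] using this
    · show RepWith @Etale (pullback.snd (eDiag (jV := jV) (f' := f')) ρ ≫ _)
      rw [hρ, pullback.lift_snd, Category.comp_id]
      let m : pullback (eDiag (jV := jV) (f' := f')) ρ ⟶ (yon S).obj V₁ := pullback.snd _ _ ≫ pullback.fst _ _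
      have sq : IsPullback m (pullback.fst _ ρ) v (𝟙 _) := by
        refine isPullback_of_yon ?_ fun T x y e => ?_
        · have := congrArg (· ≫ pullback.fst gV gV) (pullback.condition (f := eDiag (jV := jV) (f' := f')) (g := ρ))
          simpa [m, ρ, eDiag, pullback.lift_fst] using this.symm
        · have e' : x ≫ v = y := by simpa using e
          refine ⟨pullback.lift y (pullback.lift x y (by rw [← Category.assoc, e'])) ?_, ⟨?_, ?_⟩, fun l hl => ?_⟩
          · apply pullback.hom_ext
            · simp [ρ, eDiag, pullback.lift_fst, pullback.lift_fst_assoc, e']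
            · simp [ρ, eDiag, pullback.lift_snd]
          · simp [m, pullback.lift_fst, pullback.lift_snd_assoc]
          · simp [pullback.lift_fst]
          · obtain ⟨h1, h2⟩ := hl
            have hc := congrArg (l ≫ ·) (pullback.condition (f := eDiag (jV := jV) (f' := f')) (g := ρ))
            apply pullback.hom_ext
            · rw [pullback.lift_fst, h2]
            · rw [pullback.lift_snd]
              apply pullback.hom_ext
              · rw [pullback.lift_fst, ← h1, Category.assoc]
              · rw [pullback.lift_snd, ← h2]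
                have := congrArg (· ≫ pullback.snd gV gV) hc
                simpa [ρ, eDiag, pullback.lift_snd] using this.symm
      exact RepWith.baseChange sq hve

end charts

end Groth.Agent.AlgSpLib.EtGlue
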