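import Groth.Agent.DCat.ModulesGrothendieck
import Mathlib.Algebra.Category.ModuleCat.Sheaf.PushforwardContinuous
import Mathlib.CategoryTheory.Sites.Equivalence
import Mathlib.CategoryTheory.Category.ULift
import Mathlib.CategoryTheory.Preadditive.Injective.Basic

/-!
Enough injective modules on a site whose morphism types are one universe below its objects.
-/

universe u

open CategoryTheory Opposite

noncomputable section

namespace Groth.Agent.AlgSpLib

set_option backward.isDefEq.respectTransparency.types false
set_option backward.isDefEq.respectTransparency false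

theorem enoughInjectives_sheafOfModules {C : Type (u + 1)} [Category.{u} C] (J : GrothendieckTopology C)
    (R : Sheaf J RingCat.{u + 1}) : EnoughInjectives (SheafOfModules.{u + 1} R) := by
  let e : C ≌ ULiftHom.{u + 1} C := ULiftHom.equiv
  let K := e.inverse.inducedTopology J
  haveI : e.functor.IsDenseSubsite J K := inferInstance
  haveI : e.functor.IsContinuous J K := inferInstance
  haveI : e.inverse.IsContinuous K J := inferInstance
  let R' : Sheaf K RingCat.{u + 1} := (e.inverse.sheafPushforwardContinuous RingCat.{u + 1} K J).obj R
  let φ : R ⟶ (e.functor.sheafPushforwardContinuous RingCat.{u + 1} J K).obj R' :=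
    ⟨{ app := fun _ => 𝟙 _, naturality := fun _ _ _ => (Category.comp_id _).trans (Category.id_comp _).symm }⟩
  let ψ : R' ⟶ (e.inverse.sheafPushforwardContinuous RingCat.{u + 1} K J).obj R := 𝟙 R'
  haveI : EnoughInjectives (SheafOfModules.{u + 1} R') := by
    haveI := Groth.Agent.DCat.sheafOfModules_isGrothendieckAbelian K R'
    infer_instance
  let E : SheafOfModules.{u + 1} R' ≌ SheafOfModules.{u + 1} R :=
    SheafOfModules.pushforwardPushforwardEquivalence e φ ψ (by
      ext T x
      change (R.obj.map (𝟙 (op (ULiftHom.objDown T.unop)))) x = x
      rw [R.obj.map_id]; rfl) (by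
      ext T x
      change (R.obj.map (𝟙 T)) x = x
      rw [R.obj.map_id]; rfl)
  exact (EnoughInjectives.of_equivalence E.inverse)

end Groth.Agent.AlgSpLib
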