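import Groth.Agent.DCat.ModulesGrothendieck
import Groth.Prelude.Def_AlgSpOX

/-! Modules on the small etale site of a space form a Grothendieck abelian category. -/

set_option autoImplicit false
set_option backward.isDefEq.respectTransparency false
set_option backward.defeqAttrib.useBackward true

universe u

open CategoryTheory CategoryTheory.Limits AlgebraicGeometry Opposite

namespace Groth.Agent.AlgSpLib.ModEtAB

section generic

variable {C : Type (u + 1)} [Category.{u} C] {J : GrothendieckTopology C} (R : Sheaf J RingCat.{u + 1})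
  [HasSheafify J AddCommGrpCat.{u + 1}] [J.WEqualsLocallyBijective AddCommGrpCat.{u + 1}]

theorem presheafOfModules_exactColimits (R : Cᵒᵖ ⥤ RingCat.{u + 1}) (K : Type (u + 1)) [SmallCategory K]
    [IsFiltered K] : HasExactColimitsOfShape K (PresheafOfModules.{u + 1} R) := by
  haveI : (PresheafOfModules.toPresheaf R).ReflectsIsomorphisms := inferInstance
  haveI : ReflectsFiniteLimits (PresheafOfModules.toPresheaf R) :=
    ⟨fun J _ _ => reflectsLimitsOfShape_of_reflectsIsomorphisms⟩
  exact HasExactColimitsOfShape.domain_of_functor K (PresheafOfModules.toPresheaf R)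

theorem sheafOfModules_exactColimits (K : Type (u + 1)) [SmallCategory K] [IsFiltered K] :
    HasExactColimitsOfShape K (SheafOfModules.{u + 1} R) := by
  haveI := presheafOfModules_exactColimits R.obj K
  exact (PresheafOfModules.sheafificationAdjunction (𝟙 R.obj)).hasExactColimitsOfShape K

/-- The sheafified free module on a representable. -/
noncomputable def freeOn (X : C) : SheafOfModules.{u + 1} R :=
  (PresheafOfModules.sheafification (𝟙 R.obj)).obj
    ((PresheafOfModules.free R.obj).obj (uliftYoneda.{u + 1}.obj X))

theorem freeOn_isSeparating : ObjectProperty.IsSeparating (ObjectProperty.ofObj (freeOn R)) := by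
  intro M N f g h
  let adj := PresheafOfModules.sheafificationAdjunction (𝟙 R.obj)
  refine (SheafOfModules.forget R ⋙ PresheafOfModules.restrictScalars (𝟙 R.obj)).map_injective ?_
  refine PresheafOfModules.hom_ext fun ⟨X⟩ => ?_
  ext x
  let k : (PresheafOfModules.free R.obj).obj (uliftYoneda.{u + 1}.obj X) ⟶
      (SheafOfModules.forget R ⋙ PresheafOfModules.restrictScalars (𝟙 R.obj)).obj M :=
    PresheafOfModules.freeHomEquiv.symm (uliftYonedaEquiv.symm x)
  have hk := congrArg (adj.homEquiv _ _) (h (freeOn R X) ⟨X⟩ ((adj.homEquiv _ _).symm k))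
  rw [Adjunction.homEquiv_naturality_right, Adjunction.homEquiv_naturality_right,
    Equiv.apply_symm_apply] at hk
  have hx : k.app (op X) (ModuleCat.freeMk (ULift.up (𝟙 X))) = x := by
    simp [k, PresheafOfModules.freeHomEquiv, uliftYonedaEquiv]
  rw [← hx]
  exact congrArg (fun m : (PresheafOfModules.free R.obj).obj (uliftYoneda.{u + 1}.obj X) ⟶
      (SheafOfModules.forget R ⋙ PresheafOfModules.restrictScalars (𝟙 R.obj)).obj N => m.app (op X) (ModuleCat.freeMk (ULift.up (𝟙 X)))) hk

/-- Modules over a sheaf of rings on a site with few objects form a Grothendieck abelian category. -/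
theorem isGrothendieckAbelian : IsGrothendieckAbelian.{u + 1} (SheafOfModules.{u + 1} R) where
  hasFilteredColimitsOfSize := ⟨fun K _ _ => inferInstance⟩
  ab5OfSize := ⟨fun K _ _ => sheafOfModules_exactColimits R K⟩
  hasSeparator := ⟨_, (freeOn_isSeparating R).isSeparator_coproduct⟩

end generic

open AlgSp

instance modEt_isGrothendieckAbelian {S : Scheme.{u}} (X : Sp S) : IsGrothendieckAbelian.{u + 1} (ModEt X) :=
  isGrothendieckAbelian (OEtRing X)

end Groth.Agent.AlgSpLib.ModEtAB
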