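import Groth.Agent.AlgSpLib.QCohEtFinite
import Groth.Prelude.Def_AlgSpOX2

/-!
Weakly associated points of direct images along affine morphisms.
-/

universe u

open CategoryTheory CategoryTheory.Limits AlgebraicGeometry Opposite TensorProduct
open AlgSp

noncomputable section

set_option linter.style.haveILetI false

namespace Groth.Agent.AlgSpLib.QCohEt

set_option backward.isDefEq.respectTransparency.types false
set_option backward.isDefEq.respectTransparency false

variable {S : Scheme.{u}} {X Y : Sp S} {f : X ⟶ Y} (hf : Representable f)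

/-- the ring map of a base change of charts -/
def bcΓ (E : EtOver Y) : ΓE E →+* ΓE (EtOver.bcObj hf E) where
  toFun a := ((bcRingHom hf).hom.app (op E)).hom a
  map_one' := map_one ((bcRingHom hf).hom.app (op E)).hom
  map_mul' x y := map_mul ((bcRingHom hf).hom.app (op E)).hom x y
  map_zero' := map_zero ((bcRingHom hf).hom.app (op E)).hom
  map_add' x y := map_add ((bcRingHom hf).hom.app (op E)).hom x y

theorem bcΓ_eq (E : EtOver Y) : bcΓ hf E =
    (ULift.ringEquiv.symm.toRingHom.comp (EtOver.bcπ hf E).left.appTop.hom).comp ULift.ringEquiv.toRingHom := rfl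

theorem annEl_push (M : ModEt X) (E : EtOver Y) (m : Sec M (EtOver.bcObj hf E)) :
    CAlgH3.annEl (ΓE E) (show Sec ((pushModEt hf).obj M) E from m) =
      (CAlgH3.annEl (ΓE (EtOver.bcObj hf E)) m).comap (bcΓ hf E) := by
  ext a
  rw [Ideal.mem_comap, CAlgH3.mem_annEl, CAlgH3.mem_annEl]
  rfl

theorem primeE_bcΓ (E : EtOver Y) (w : (EtOver.bcObj hf E).obj.left.left) :
    (primeE (EtOver.bcObj hf E) w).comap (bcΓ hf E) = primeE E ((EtOver.bcπ hf E).left w) := by
  rw [primeE, primeE, ← primeAtPt_comap (EtOver.bcπ hf E).left w, Ideal.comap_comap, Ideal.comap_comap]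
  rfl

theorem primeE_injective {Z : Sp S} (E : EtOver Z) [IsAff E] : Function.Injective (primeE E) := fun a b hab => by
  have h : primeAtPt E.obj.left.left a = primeAtPt E.obj.left.left b :=
    Ideal.comap_injective_of_surjective _ (ULift.ringEquiv (R := Γ(E.obj.left.left, ⊤))).surjective hab
  refine E.obj.left.left.toSpecΓ.homeomorph.injective (PrimeSpectrum.ext ?_)
  change (E.obj.left.left.toSpecΓ a).asIdeal = (E.obj.left.left.toSpecΓ b).asIdeal
  rw [Scheme.toSpecΓ_apply, Scheme.toSpecΓ_apply]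
  exact h

theorem ofPt_bcπ (E : EtOver Y) (w : (EtOver.bcObj hf E).obj.left.left) :
    Points.map f (Points.ofPt (EtOver.bcObj hf E).obj.hom w) = Points.ofPt E.obj.hom ((EtOver.bcπ hf E).left w) := by
  rw [← ofPt_map]
  exact congrArg (fun t => Points.ofPt t w) (hf.w E.obj.hom)

theorem exists_bc_point {E : EtOver Y} {u : E.obj.left.left} {y : Points X}
    (e : Points.map f y = Points.ofPt E.obj.hom u) :
    ∃ w, (EtOver.bcπ hf E).left w = u ∧ Points.ofPt (EtOver.bcObj hf E).obj.hom w = y := by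
  obtain ⟨z, h1, h2⟩ := exists_point_of_isPullback (EtOver.isPullback_bcObj hf E) (x := y)
    (y := Points.ofScheme E.obj.left u) (by rw [e, Points.ofPt_eq_map_ofScheme])
  obtain ⟨r, rfl⟩ := (Points.schemeEquiv (EtOver.bcObj hf E).obj.left).surjective z
  refine ⟨r, (Points.schemeEquiv E.obj.left).injective ?_, ?_⟩
  · exact (map_yon_map_ofScheme (EtOver.bcπ hf E) r).symm.trans h2
  · exact (Points.ofPt_eq_map_ofScheme _ r).trans h1

theorem isAff_bcObj (haff : IsAffineMor f) (E : EtOver Y) [IsAff E] : IsAff (EtOver.bcObj hf E) := by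
  obtain ⟨W, i, fst, sq, hW⟩ := haff (inferInstance : IsAff E) E.obj.hom
  obtain ⟨φ, hφ⟩ := (yon S).map_surjective ((EtOver.isPullback_bcObj hf E).isoIsPullback _ _ sq).hom
  haveI : IsIso ((yon S).map φ) := by rw [hφ]; infer_instance
  haveI : IsIso φ := isIso_of_fully_faithful (yon S) φ
  haveI : IsIso φ.left := inferInstanceAs (IsIso ((Over.forget S).map φ))
  haveI := hW
  exact IsAffine.of_isIso φ.left

theorem isFinite_bcπ (hfin : IsFiniteMor f) (E : EtOver Y) [IsAff E] :
    IsAff (EtOver.bcObj hf E) ∧ IsFinite (EtOver.bcπ hf E).left := by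
  obtain ⟨W, i, fst, sq, hW, hi⟩ := hfin (inferInstance : IsAff E) E.obj.hom
  obtain ⟨φ, hφ⟩ := (yon S).map_surjective ((EtOver.isPullback_bcObj hf E).isoIsPullback _ _ sq).hom
  have e : φ ≫ i = EtOver.bcπ hf E := (yon S).map_injective (by
    rw [Functor.map_comp, hφ, IsPullback.isoIsPullback_hom_snd])
  haveI : IsIso ((yon S).map φ) := by rw [hφ]; infer_instance
  haveI : IsIso φ := isIso_of_fully_faithful (yon S) φ
  haveI : IsIso φ.left := inferInstanceAs (IsIso ((Over.forget S).map φ))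
  haveI := hW
  haveI := hi
  refine ⟨IsAffine.of_isIso φ.left, ?_⟩
  rw [← e]
  exact inferInstanceAs (IsFinite (φ.left ≫ i.left))

theorem finite_bcΓ (hfin : IsFiniteMor f) (E : EtOver Y) [IsAff E] : (bcΓ hf E).Finite := by
  obtain ⟨h1, h2⟩ := isFinite_bcπ hf hfin E
  haveI := h1
  haveI := h2
  have h : (EtOver.bcπ hf E).left.appTop.hom.Finite :=
    (HasAffineProperty.iff_of_isAffine (P := @IsFinite)).1 h2 |>.2
  rw [bcΓ_eq]
  exact RingHom.Finite.comp (RingHom.Finite.comp (RingHom.Finite.of_surjective _ ULift.ringEquiv.symm.surjective) h)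
    (RingHom.Finite.of_surjective _ ULift.ringEquiv.surjective)

/-- weakly associated points of a direct image come from weakly associated points -/
theorem weakAssEt_push_subset (haff : IsAffineMor f) (M : ModEt X) :
    WeakAssEt ((pushModEt hf).obj M) ⊆ Points.map f '' WeakAssEt M := by
  rintro x ⟨E, hE, u, rfl, h⟩
  haveI : IsAff E := hE
  haveI := isAff_bcObj hf haff E
  obtain ⟨m, hm⟩ := CAlgH3.mem_weakAss.1 ((isWeakAssOn_iff_mem u).1 h)
  rw [annEl_push hf M E m] at hm
  obtain ⟨q, hq, hqc⟩ := Ideal.exists_minimalPrimes_comap_eq (bcΓ hf E) _ hm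
  obtain ⟨w, rfl⟩ := exists_primeE_eq q hq.1.1
  rw [primeE_bcΓ] at hqc
  refine ⟨_, ⟨EtOver.bcObj hf E, inferInstance, w, rfl, (isWeakAssOn_iff_mem w).2 (CAlgH3.mem_weakAss.2 ⟨m, hq⟩)⟩, ?_⟩
  rw [ofPt_bcπ, primeE_injective E hqc]

/-- conversely for charts on which contractions of weakly associated primes stay weakly associated -/
theorem image_subset_weakAssEt_push (hX : IsAlgSpace X) (hY : IsAlgSpace Y) (haff : IsAffineMor f) (M : ModEt X)
    [M.IsQuasicoherent]
    (h : ∀ (E : EtOver Y) [IsAff E] (m : Sec M (EtOver.bcObj hf E)) (q : Ideal (ΓE (EtOver.bcObj hf E))),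
      q ∈ (CAlgH3.annEl _ m).minimalPrimes →
        ∃ m' : Sec M (EtOver.bcObj hf E), q.comap (bcΓ hf E) ∈ ((CAlgH3.annEl _ m').comap (bcΓ hf E)).minimalPrimes) :
    Points.map f '' WeakAssEt M ⊆ WeakAssEt ((pushModEt hf).obj M) := by
  rintro x ⟨y, hy, rfl⟩
  obtain ⟨E, hE, u, e⟩ := exists_affine_chart hY (Points.map f y)
  haveI := isAff_bcObj hf haff E
  obtain ⟨w, rfl, hwy⟩ := exists_bc_point hf e.symm
  obtain ⟨m, hm⟩ := CAlgH3.mem_weakAss.1 ((isWeakAssOn_iff_mem w).1 ((mem_weakAssEt_iff M hX hwy).1 hy))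
  obtain ⟨m', hm'⟩ := @h E hE m _ hm
  refine ⟨E, hE, _, e, (isWeakAssOn_iff_mem _).2 (CAlgH3.mem_weakAss.2 ⟨m', ?_⟩)⟩
  rw [primeE_bcΓ, ← annEl_push] at hm'
  exact hm'

end Groth.Agent.AlgSpLib.QCohEt
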