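import Groth.Agent.AlgSpLib.QCohEtExt
import Groth.Agent.AlgSpLib.WeakAssEtPush
import Mathlib.RingTheory.Finiteness.ModuleFinitePresentation
import Groth.Agent.Stk19b.QPullEt

/-!
Direct images of quasi-coherent modules along affine morphisms; finiteness conditions on sections.
-/

universe u

open CategoryTheory CategoryTheory.Limits AlgebraicGeometry Opposite TensorProduct
open AlgSp

noncomputable section

set_option linter.style.haveILetI false

namespace Groth.Agent.AlgSpLib.QCohEt

set_option backward.isDefEq.respectTransparency.types false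
set_option backward.isDefEq.respectTransparency false

section algebra

variable {A : Type u} [CommRing A] {ι : Type} [Finite ι] (B : ι → Type u) [∀ j, CommRing (B j)]
  [∀ j, Algebra A (B j)] [∀ j, Module.Flat A (B j)]

theorem finitePresentation_of_cover
    (hB : ∀ p : Ideal A, p.IsPrime → ∃ (j : ι) (q : Ideal (B j)), q.IsPrime ∧ q.comap (algebraMap A (B j)) = p)
    (N : Type u) [AddCommGroup N] [Module A N] [∀ j, Module.FinitePresentation (B j) (B j ⊗[A] N)] :
    Module.FinitePresentation A N := by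
  haveI : Module.Finite A N := finite_of_cover B hB N
  obtain ⟨n, f, hf⟩ := Module.Finite.exists_fin' A N
  haveI : ∀ j, Module.Finite (B j) (B j ⊗[A] LinearMap.ker f) := fun j => by
    have hi : Function.Injective ((LinearMap.ker f).subtype.baseChange (B j)) :=
      Module.Flat.lTensor_preserves_injective_linearMap _ Subtype.val_injective
    have he : Function.Exact ((LinearMap.ker f).subtype.baseChange (B j)) (f.baseChange (B j)) :=
      lTensor_exact (B j) f.exact_subtype_ker_map hf
    have hs : Function.Surjective (f.baseChange (B j)) := LinearMap.lTensor_surjective (B j) hf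
    have hk := Module.FinitePresentation.fg_ker (f.baseChange (B j)) hs
    rw [LinearMap.exact_iff.1 he] at hk
    haveI : Module.Finite (B j) (LinearMap.range ((LinearMap.ker f).subtype.baseChange (B j))) := .of_fg hk
    exact Module.Finite.equiv (LinearEquiv.ofInjective _ hi).symm
  haveI : Module.Finite A (LinearMap.ker f) := finite_of_cover B hB _
  exact Module.finitePresentation_of_surjective f hf (Module.Finite.iff_fg.1 inferInstance)

theorem finitePresentation_of_restrict {A B M : Type*} [CommRing A] [CommRing B] [Algebra A B] [AddCommGroup M]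
    [Module A M] [Module B M] [IsScalarTower A B M] [Module.FinitePresentation A B] [Module.FinitePresentation A M] :
    Module.FinitePresentation B M := by
  haveI : Module.Finite B M := Module.Finite.of_restrictScalars_finite A B M
  obtain ⟨n, f, hf⟩ := Module.Finite.exists_fin' B M
  haveI : Module.FinitePresentation A (Fin n → B) := inferInstance
  have hk : (LinearMap.ker (f.restrictScalars A)).FG := Module.FinitePresentation.fg_ker (f.restrictScalars A) hf
  refine Module.finitePresentation_of_surjective f hf ?_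
  haveI : Module.Finite A (LinearMap.ker f) := Module.Finite.of_fg (N := LinearMap.ker (f.restrictScalars A)) hk
  exact Module.Finite.iff_fg.1 (Module.Finite.of_restrictScalars_finite A B _)

end algebra

theorem nonempty_coker_iso {C D : Type*} [Category C] [Category D] [HasZeroMorphisms C] [HasZeroMorphisms D]
    [HasCokernels C] [HasCokernels D] (F : C ⥤ D) [F.IsLeftAdjoint] [F.PreservesZeroMorphisms]
    {N₁ N₂ : C} {A B : D} (e₁ : F.obj N₁ ≅ A) (e₂ : F.obj N₂ ≅ B) (f : A ⟶ B) (f' : N₁ ⟶ N₂)
    (hf' : F.map f' = e₁.hom ≫ f ≫ e₂.inv) {c : CokernelCofork f} (hc : IsColimit c) :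
    Nonempty (F.obj (cokernel f') ≅ c.pt) := by
  refine ⟨PreservesCokernel.iso F f' ≪≫ cokernel.mapIso _ f e₁ e₂ ?_ ≪≫
    (cokernelIsCokernel f).coconePointUniqueUpToIso hc⟩
  rw [hf', Category.assoc, Category.assoc, Iso.inv_hom_id, Category.comp_id]

variable {S : Scheme.{u}} {X : Sp S}

theorem finitePresentation_top_of_presentation {c : EtOver X} [IsAff c] {F : SheafOfModules.{u + 1} ((OEtRing X).over c)}
    (P : F.Presentation) [P.IsFinite] : Module.FinitePresentation (ΓE c) ((Γtop c).obj F) := by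
  obtain ⟨e₁⟩ := exists_iso_free c P.relations.I
  obtain ⟨e₂⟩ := exists_iso_free c P.generators.I
  haveI : (L c).PreservesZeroMorphisms := Functor.preservesZeroMorphisms_of_isLeftAdjoint _
  let φ : SheafOfModules.free (R := (OEtRing X).over c) P.relations.I ⟶ SheafOfModules.free P.generators.I :=
    (SheafOfModules.freeHomEquiv _).symm P.relations.s ≫ kernel.ι _
  obtain ⟨f', hf'⟩ := (L c).map_surjective (e₁.hom ≫ φ ≫ e₂.inv)
  obtain ⟨e⟩ := nonempty_coker_iso (L c) e₁ e₂ φ f' hf' P.isColimit
  haveI : Finite P.generators.I := inferInstance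
  haveI : Finite P.relations.I := inferInstance
  haveI : Module.FinitePresentation (ΓE c) ((P.generators.I →₀ ΓE c) ⧸ LinearMap.range f'.hom) :=
    Module.finitePresentation_of_surjective (LinearMap.range f'.hom).mkQ (Submodule.mkQ_surjective _)
      ((Submodule.ker_mkQ (LinearMap.range f'.hom)).symm ▸ Submodule.fg_range f'.hom)
  let q : ModuleCat.of (ΓE c) ((P.generators.I →₀ ΓE c) ⧸ LinearMap.range f'.hom) ≅ (Γtop c).obj F :=
    (ModuleCat.cokernelIsoRangeQuotient f').symm ≪≫ asIso ((adj c).unit.app (cokernel f')) ≪≫ (Γtop c).mapIso e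
  exact Module.FinitePresentation.of_equiv q.toLinearEquiv

/-- finitely presented modules have finitely presented sections on affine objects -/
theorem finitePresentation_sec (M : ModEt X) [M.IsFinitePresentation] (E : EtOver X) [IsAff E] :
    Module.FinitePresentation (ΓE E) (Sec M E) := by
  obtain ⟨q, hq⟩ := SheafOfModules.IsFinitePresentation.exists_quasicoherentData (M := M)
  obtain ⟨ι, hfin, Z, g, hZ, hg, hcov⟩ := exists_finite_affine_refinement (q.coversTop E)
  haveI := hZ
  letI := fun j => (ΓMap (g j)).hom.toAlgebra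
  haveI : ∀ j, Module.Flat (ΓE E) (ΓE (Z j)) := fun j => flat_ΓMap (g j)
  haveI : ∀ j, Module.FinitePresentation (ΓE (Z j)) (ΓE (Z j) ⊗[ΓE E] Sec M E) := fun j => by
    obtain ⟨a, ⟨t⟩⟩ := (Sieve.mem_ofObjects_iff ..).1 (hg j)
    haveI : PreservesColimitsOfSize.{u + 1, u + 1} (SheafOfModules.overMap.{u + 1} (OEtRing X) t) := inferInstance
    haveI := hq.isFinite_presentation a
    let P₀ := (q.presentation a).map (SheafOfModules.overMap (OEtRing X) t) (SheafOfModules.overMapUnitIso t).symm
    haveI : P₀.IsFinite :=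
      { isFiniteType_generators := ⟨inferInstanceAs (Finite (q.presentation a).generators.I)⟩
        isFiniteType_relations := ⟨inferInstanceAs (Finite (q.presentation a).relations.I)⟩ }
    let W : Over E := Over.mk (g j)
    haveI : IsAff W.left := hZ j
    haveI : Module.FinitePresentation (ΓE W.left) (Sec M W.left) :=
      finitePresentation_top_of_presentation (P₀.ofIsIso ((SheafOfModules.overFunctorMap (OEtRing X) t).app M).hom)
    change Module.FinitePresentation (ΓE W.left) (ΓE W.left ⊗[ΓE E] Sec M E)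
    exact Module.FinitePresentation.of_equiv (bcEquiv M E W).symm
  exact finitePresentation_of_cover (fun j => ΓE (Z j)) (fun p hp => exists_comap_eq g hcov p hp) (Sec M E)

/-- finitely generated sections on affine objects give a module of finite type -/
theorem isFiniteType_of_forall (M : ModEt X) (hb : ∀ E, IsAff E → IsBC M E)
    (hf : ∀ E, IsAff E → Module.Finite (ΓE E) (Sec M E)) : M.IsFiniteType := by
  let I : Type (u + 1) := {E : EtOver X // IsAff E}
  have hcov : (etTop X).CoversTop (fun i : I => i.1) := fun U => by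
    obtain ⟨ι, Z, g, hZ, hc⟩ := exists_affine_cover U
    refine GrothendieckTopology.superset_covering _ ?_ (ofArrows_mem_etTop Z g hc)
    rintro V f ⟨_, k, _, ⟨i⟩, rfl⟩
    exact (Sieve.mem_ofObjects_iff ..).2 ⟨⟨Z i, hZ i⟩, ⟨k⟩⟩
  have hG : ∀ i : I, ∃ G : (M.over i.1).GeneratingSections, G.IsFiniteType := fun i => by
    haveI := i.2
    haveI := hf i.1 i.2
    haveI := isIso_counit_of_isBC M (hb i.1 i.2)
    obtain ⟨n, f, hsur⟩ := Module.Finite.exists_fin' (ΓE i.1) (Sec M i.1)
    obtain ⟨e⟩ := exists_iso_free i.1 (ULift.{u + 1} (Fin n))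
    let g : ModuleCat.of (ΓE i.1) (ULift.{u + 1} (Fin n) →₀ ΓE i.1) ⟶ Sec M i.1 :=
      ModuleCat.ofHom (f ∘ₗ ((Finsupp.domLCongr Equiv.ulift).trans
        (Finsupp.linearEquivFunOnFinite (ΓE i.1) (ΓE i.1) (Fin n))).toLinearMap)
    haveI : Epi g := (ModuleCat.epi_iff_surjective g).2 (hsur.comp (LinearEquiv.surjective _))
    let π : SheafOfModules.free (R := (OEtRing X).over i.1) (ULift.{u + 1} (Fin n)) ⟶ M.over i.1 :=
      e.inv ≫ (L i.1).map g ≫ (adj i.1).counit.app (M.over i.1)
    haveI : Epi π := inferInstance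
    let G₀ : (M.over i.1).GeneratingSections :=
      { I := ULift.{u + 1} (Fin n), s := (M.over i.1).freeHomEquiv π,
        epi := by rw [Equiv.symm_apply_apply]; infer_instance }
    exact ⟨G₀, ⟨(inferInstance : Finite (ULift.{u + 1} (Fin n)))⟩⟩
  choose G hG using hG
  exact @SheafOfModules.IsFiniteType.mk _ _ _ (OEtRing X) _ _ M
    ⟨@SheafOfModules.LocalGeneratorsData.mk _ _ _ (OEtRing X) M _ _ I (fun i => i.1) hcov G,
      @SheafOfModules.LocalGeneratorsData.IsFiniteType.mk _ _ _ (OEtRing X) M _ _ _ hG⟩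

theorem exists_presentation {c : EtOver X} [IsAff c] (N : ModuleCat.{u + 1} (ΓE c)) :
    Nonempty ((L c).obj N).Presentation := by
  let π : (↑N →₀ ΓE c) →ₗ[ΓE c] N := Finsupp.linearCombination (ΓE c) id
  let ρ : (↥(LinearMap.ker π) →₀ ΓE c) →ₗ[ΓE c] (↑N →₀ ΓE c) := Finsupp.linearCombination (ΓE c) Subtype.val
  have hπ : Function.Surjective π := fun n => ⟨Finsupp.single n 1, by simp [π]⟩
  have hρ : LinearMap.range ρ = LinearMap.ker π := by
    rw [Finsupp.range_linearCombination, Subtype.range_coe]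
    exact Submodule.span_eq _
  let C : ShortComplex (ModuleCat.{u + 1} (ΓE c)) :=
    ShortComplex.moduleCatMkOfKerLERange (ModuleCat.ofHom ρ) (ModuleCat.ofHom π) hρ.le
  have hC : C.Exact := (ShortComplex.ShortExact.moduleCat_exact_iff_function_exact C).2 (LinearMap.exact_iff.2 hρ.symm)
  haveI : Epi C.g := (ModuleCat.epi_iff_surjective _).2 hπ
  haveI : (L c).PreservesZeroMorphisms := Functor.preservesZeroMorphisms_of_isLeftAdjoint _
  have hL := CokernelCofork.mapIsColimit _ hC.gIsCokernel (L c)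
  obtain ⟨e₁⟩ := exists_iso_free c (↥(LinearMap.ker π))
  obtain ⟨e₂⟩ := exists_iso_free c (↑N : Type (u + 1))
  refine ⟨SheafOfModules.presentationOfIsCokernelFree (e₁.inv ≫ (L c).map C.f ≫ e₂.hom) (e₂.inv ≫ (L c).map C.g)
    (by rw [Category.assoc, Category.assoc, Iso.hom_inv_id_assoc, ← Functor.map_comp, C.zero, Functor.map_zero,
      comp_zero]) ?_⟩
  refine IsColimit.equivOfNatIsoOfIso
    (parallelPairIsoMk e₁ e₂ (by simp) (by simp)) _ _ ?_ hL
  exact Cocone.ext (Iso.refl _) (by rintro (_ | _) <;> simp)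

/-- modules with base change on affine objects are quasi-coherent -/
theorem isQuasicoherent_of_forall (M : ModEt X) (hb : ∀ E, IsAff E → IsBC M E) : M.IsQuasicoherent := by
  let I : Type (u + 1) := {E : EtOver X // IsAff E}
  have hcov : (etTop X).CoversTop (fun i : I => i.1) := fun U => by
    obtain ⟨ι, Z, g, hZ, hc⟩ := exists_affine_cover U
    refine GrothendieckTopology.superset_covering _ ?_ (ofArrows_mem_etTop Z g hc)
    rintro V f ⟨_, k, _, ⟨i⟩, rfl⟩
    exact (Sieve.mem_ofObjects_iff ..).2 ⟨⟨Z i, hZ i⟩, ⟨k⟩⟩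
  have hP : ∀ i : I, Nonempty (M.over i.1).Presentation := fun i => by
    haveI := i.2
    haveI := isIso_counit_of_isBC M (hb i.1 i.2)
    obtain ⟨P⟩ := exists_presentation (Sec M i.1)
    exact ⟨P.ofIsIso ((adj i.1).counit.app (M.over i.1))⟩
  exact (@SheafOfModules.QuasicoherentData.mk _ _ _ (OEtRing X) _ _ M I (fun i => i.1) hcov
    fun i => (hP i).some).isQuasicoherent

theorem finite_of_hom (M : ModEt X) [M.IsQuasicoherent] {E' Z : EtOver X} [IsAff E'] [IsAff Z] (t : Z ⟶ E')
    [Module.Finite (ΓE E') (Sec M E')] : Module.Finite (ΓE Z) (Sec M Z) := by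
  let W : Over E' := Over.mk t
  haveI : IsAff W.left := (inferInstance : IsAff Z)
  change Module.Finite (ΓE W.left) (Sec M W.left)
  exact Module.Finite.equiv (bcEquiv M E' W)

theorem finitePresentation_of_hom (M : ModEt X) [M.IsQuasicoherent] {E' Z : EtOver X} [IsAff E'] [IsAff Z] (t : Z ⟶ E')
    [Module.FinitePresentation (ΓE E') (Sec M E')] : Module.FinitePresentation (ΓE Z) (Sec M Z) := by
  let W : Over E' := Over.mk t
  haveI : IsAff W.left := (inferInstance : IsAff Z)
  change Module.FinitePresentation (ΓE W.left) (Sec M W.left)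
  exact Module.FinitePresentation.of_equiv (bcEquiv M E' W)

theorem finite_of_cover_sec (M : ModEt X) [M.IsQuasicoherent] {E : EtOver X} [IsAff E] {ι : Type} [Finite ι]
    {Z : ι → EtOver X} [∀ j, IsAff (Z j)] (g : ∀ j, Z j ⟶ E) (hc : ∀ x, ∃ j, x ∈ Set.range (g j).hom.left.left)
    (h : ∀ j, Module.Finite (ΓE (Z j)) (Sec M (Z j))) : Module.Finite (ΓE E) (Sec M E) := by
  letI := fun j => (ΓMap (g j)).hom.toAlgebra
  haveI : ∀ j, Module.Flat (ΓE E) (ΓE (Z j)) := fun j => flat_ΓMap (g j)
  haveI : ∀ j, Module.Finite (ΓE (Z j)) (ΓE (Z j) ⊗[ΓE E] Sec M E) := fun j => by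
    let W : Over E := Over.mk (g j)
    haveI : IsAff W.left := (inferInstance : IsAff (Z j))
    haveI : Module.Finite (ΓE W.left) (Sec M W.left) := h j
    change Module.Finite (ΓE W.left) (ΓE W.left ⊗[ΓE E] Sec M E)
    exact Module.Finite.equiv (bcEquiv M E W).symm
  exact finite_of_cover (fun j => ΓE (Z j)) (fun p hp => exists_comap_eq g hc p hp) (Sec M E)

theorem finitePresentation_of_cover_sec (M : ModEt X) [M.IsQuasicoherent] {E : EtOver X} [IsAff E] {ι : Type}
    [Finite ι] {Z : ι → EtOver X} [∀ j, IsAff (Z j)] (g : ∀ j, Z j ⟶ E)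
    (hc : ∀ x, ∃ j, x ∈ Set.range (g j).hom.left.left)
    (h : ∀ j, Module.FinitePresentation (ΓE (Z j)) (Sec M (Z j))) : Module.FinitePresentation (ΓE E) (Sec M E) := by
  letI := fun j => (ΓMap (g j)).hom.toAlgebra
  haveI : ∀ j, Module.Flat (ΓE E) (ΓE (Z j)) := fun j => flat_ΓMap (g j)
  haveI : ∀ j, Module.FinitePresentation (ΓE (Z j)) (ΓE (Z j) ⊗[ΓE E] Sec M E) := fun j => by
    let W : Over E := Over.mk (g j)
    haveI : IsAff W.left := (inferInstance : IsAff (Z j))
    haveI : Module.FinitePresentation (ΓE W.left) (Sec M W.left) := h j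
    change Module.FinitePresentation (ΓE W.left) (ΓE W.left ⊗[ΓE E] Sec M E)
    exact Module.FinitePresentation.of_equiv (bcEquiv M E W).symm
  exact finitePresentation_of_cover (fun j => ΓE (Z j)) (fun p hp => exists_comap_eq g hc p hp) (Sec M E)

variable {Y : Sp S} {f : X ⟶ Y} (hf : Representable f)

theorem coversTop_affine (Z : Sp S) :
    (etTop Z).CoversTop (fun i : {E : EtOver Z // IsAff E} => i.1) := fun U => by
  obtain ⟨ι, W, g, hW, hc⟩ := exists_affine_cover U
  refine GrothendieckTopology.superset_covering _ ?_ (ofArrows_mem_etTop W g hc)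
  rintro V h ⟨_, k, _, ⟨i⟩, rfl⟩
  exact (Sieve.mem_ofObjects_iff ..).2 ⟨⟨W i, hW i⟩, ⟨k⟩⟩

theorem finitePresentation_bcΓ (hfin : IsFiniteMor f) (hl : LocP @LocallyOfFinitePresentation f) (E : EtOver Y)
    [IsAff E] :
    letI := (bcΓ hf E).toAlgebra
    Module.FinitePresentation (ΓE E) (ΓE (EtOver.bcObj hf E)) := by
  letI := (bcΓ hf E).toAlgebra
  haveI := (isFinite_bcπ hf hfin E).1
  haveI : Module.Finite (ΓE E) (ΓE (EtOver.bcObj hf E)) := finite_bcΓ hf hfin E
  haveI : LocallyOfFinitePresentation (EtOver.bcπ hf E).left :=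
    hl (EtOver.bcObj hf E).obj.hom E.obj.hom (EtOver.bcπ hf E) (EtOver.bcObj hf E).property E.property
      (hf.w E.obj.hom)
  have h : (EtOver.bcπ hf E).left.appTop.hom.FinitePresentation :=
    (HasRingHomProperty.iff_of_isAffine (P := @LocallyOfFinitePresentation)).1 inferInstance
  haveI : Algebra.FinitePresentation (ΓE E) (ΓE (EtOver.bcObj hf E)) := by
    have h2 : (bcΓ hf E).FinitePresentation := by
      rw [bcΓ_eq]
      exact RingHom.FinitePresentation.comp (RingHom.FinitePresentation.comp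
        (RingHom.FinitePresentation.of_bijective ULift.ringEquiv.symm.bijective) h)
        (RingHom.FinitePresentation.of_bijective ULift.ringEquiv.bijective)
    exact h2
  exact Module.FinitePresentation.of_finite_of_finitePresentation _ _

theorem bijective_productMap_bc {E W : EtOver Y} (g : W ⟶ E) [IsAff E] [IsAff W] [IsAff (EtOver.bcObj hf E)] :
    letI := (ΓMap g).hom.toAlgebra
    letI := (bcΓ hf E).toAlgebra
    letI := ((bcΓ hf W).comp (ΓMap g).hom).toAlgebra
    ∀ (l : ΓE W →ₐ[ΓE E] ΓE (EtOver.bcObj hf W)) (r : ΓE (EtOver.bcObj hf E) →ₐ[ΓE E] ΓE (EtOver.bcObj hf W)),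
      l.toRingHom = bcΓ hf W → r.toRingHom = (ΓMap (EtOver.bcMap hf g)).hom →
      Function.Bijective (Algebra.TensorProduct.productMap l r) := by
  letI := (ΓMap g).hom.toAlgebra
  letI := (bcΓ hf E).toAlgebra
  letI := ((bcΓ hf W).comp (ΓMap g).hom).toAlgebra
  intro l r hl hr
  haveI : IsAffine W.obj.left.left := (inferInstance : IsAff W)
  haveI : IsAffine (hf.pullback E.obj.hom).left := (inferInstance : IsAff (EtOver.bcObj hf E))
  haveI : IsAffine E.obj.left.left := (inferInstance : IsAff E)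
  let R := Γ(E.obj.left.left, ⊤)
  let A := Γ(W.obj.left.left, ⊤)
  let B := Γ((EtOver.bcObj hf E).obj.left.left, ⊤)
  let φ₁ : R ⟶ A := g.hom.left.left.appTop
  let φ₂ : R ⟶ B := (EtOver.bcπ hf E).left.appTop
  letI := φ₁.hom.toAlgebra
  letI := φ₂.hom.toAlgebra
  have sq : IsPushout φ₁ φ₂ (EtOver.bcπ hf W).left.appTop (EtOver.bcMap hf g).hom.left.left.appTop :=
    isPushout_appTop_of_isPullback (EtOver.isPullback_bcMap_left hf g).flip
  have sqT := CommRingCat.isPushout_tensorProduct R A B
  let χ := (sqT.isoIsPushout _ _ sq).hom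
  have hχ : Function.Bijective χ.hom := ConcreteCategory.bijective_of_isIso χ
  letI : Algebra R (ΓE W ⊗[ΓE E] ΓE (EtOver.bcObj hf E)) :=
    ((algebraMap (ΓE E) (ΓE W ⊗[ΓE E] ΓE (EtOver.bcObj hf E))).comp ULift.ringEquiv.symm.toRingHom).toAlgebra
  let i₁ : A →ₐ[R] ΓE W ⊗[ΓE E] ΓE (EtOver.bcObj hf E) :=
    { ((Algebra.TensorProduct.includeLeftRingHom (R := ΓE E) (A := ΓE W) (B := ΓE (EtOver.bcObj hf E))).comp
        ((ULift.ringEquiv (R := A)).symm.toRingHom : A →+* ΓE W)) with
      commutes' := fun x => rfl }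
  let i₂ : B →ₐ[R] ΓE W ⊗[ΓE E] ΓE (EtOver.bcObj hf E) :=
    { ((Algebra.TensorProduct.includeRight (R := ΓE E) (A := ΓE W) (B := ΓE (EtOver.bcObj hf E))).toRingHom.comp
        (ULift.ringEquiv (R := B)).symm.toRingHom) with
      commutes' := fun x => (Algebra.TensorProduct.includeRight (R := ΓE E) (A := ΓE W)
        (B := ΓE (EtOver.bcObj hf E))).commutes (ULift.up x) }
  let κ := Algebra.TensorProduct.productMap i₁ i₂
  have hκ : ∀ t, ∃ y, κ y = t := fun t => by
    induction t with
    | zero => exact ⟨0, map_zero _⟩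
    | tmul a b =>
      refine ⟨(show A from a.down) ⊗ₜ[R] (show B from b.down), ?_⟩
      rw [Algebra.TensorProduct.productMap_apply_tmul]
      show (a ⊗ₜ[ΓE E] (1 : ΓE (EtOver.bcObj hf E))) * ((1 : ΓE W) ⊗ₜ[ΓE E] b) = _
      rw [Algebra.TensorProduct.tmul_mul_tmul, mul_one, one_mul]
    | add x y hx hy =>
      obtain ⟨x', rfl⟩ := hx; obtain ⟨y', rfl⟩ := hy
      exact ⟨x' + y', map_add _ _ _⟩
  have key : ∀ y, Algebra.TensorProduct.productMap l r (κ y) = ULift.up (χ.hom y) := fun y => by
    induction y with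
    | zero => simp only [map_zero]; rfl
    | tmul a b =>
      rw [Algebra.TensorProduct.productMap_apply_tmul, map_mul]
      change Algebra.TensorProduct.productMap l r ((ULift.up a : ΓE W) ⊗ₜ 1) *
        Algebra.TensorProduct.productMap l r ((1 : ΓE W) ⊗ₜ (ULift.up b : ΓE (EtOver.bcObj hf E))) = _
      rw [Algebra.TensorProduct.productMap_apply_tmul, Algebra.TensorProduct.productMap_apply_tmul, map_one,
        map_one, mul_one, one_mul, show l (ULift.up a) = bcΓ hf W (ULift.up a) from DFunLike.congr_fun hl _,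
        show r (ULift.up b) = (ΓMap (EtOver.bcMap hf g)).hom (ULift.up b) from DFunLike.congr_fun hr _,
        show a ⊗ₜ[R] b = (a ⊗ₜ 1) * ((1 : A) ⊗ₜ b) by
          rw [Algebra.TensorProduct.tmul_mul_tmul, mul_one, one_mul], map_mul]
      exact congrArg ULift.up (congrArg₂ (· * ·) (ConcreteCategory.congr_hom (sqT.inl_isoIsPushout_hom _ _ sq) a).symm
        (ConcreteCategory.congr_hom (sqT.inr_isoIsPushout_hom _ _ sq) b).symm)
    | add x y hx hy => simp only [map_add, hx, hy]; rfl
  refine ⟨(injective_iff_map_eq_zero _).2 fun x hx => ?_, fun c => ?_⟩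
  · obtain ⟨y, rfl⟩ := hκ x
    rw [key] at hx
    rw [hχ.1 ((congrArg ULift.down hx).trans (map_zero χ.hom).symm), map_zero]
  · obtain ⟨y, hy⟩ := hχ.2 c.down
    exact ⟨κ y, (key y).trans (congrArg ULift.up hy)⟩

/-- direct images along affine morphisms satisfy base change -/
theorem isBC_push (haff : IsAffineMor f) (M : ModEt X) [M.IsQuasicoherent] (E : EtOver Y) [IsAff E] :
    IsBC ((pushModEt hf).obj M) E := by
  intro W hW
  haveI := hW
  haveI := isAff_bcObj hf haff E
  haveI := isAff_bcObj hf haff W.left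
  let N : ModEt Y := (pushModEt hf).obj M
  let U : Over (EtOver.bcObj hf E) := Over.mk (EtOver.bcMap hf W.hom)
  letI := (bcΓ hf E).toAlgebra
  letI : Algebra (ΓE E) (ΓE U.left) := ((bcΓ hf W.left).comp (ΓMap W.hom).hom).toAlgebra
  haveI : IsScalarTower (ΓE E) (ΓE (EtOver.bcObj hf E)) (ΓE U.left) := IsScalarTower.of_algebraMap_eq fun a =>
    ConcreteCategory.congr_hom ((bcRingHom hf).hom.naturality W.hom.op) a
  letI : Module (ΓE E) (Sec M (EtOver.bcObj hf E)) := (inferInstance : Module (ΓE E) (Sec N E))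
  haveI : IsScalarTower (ΓE E) (ΓE (EtOver.bcObj hf E)) (Sec M (EtOver.bcObj hf E)) :=
    IsScalarTower.of_algebraMap_smul fun a m => rfl
  let l : ΓE W.left →ₐ[ΓE E] ΓE U.left := { bcΓ hf W.left with commutes' := fun a => rfl }
  have hb : Function.Bijective (Algebra.TensorProduct.productMap l
      (IsScalarTower.toAlgHom (ΓE E) (ΓE (EtOver.bcObj hf E)) (ΓE U.left))) :=
    bijective_productMap_bc hf W.hom l (IsScalarTower.toAlgHom (ΓE E) (ΓE (EtOver.bcObj hf E)) (ΓE U.left)) rfl rfl
  let φ : ΓE W.left ⊗[ΓE E] Sec M (EtOver.bcObj hf E) →+ ΓE U.left ⊗[ΓE (EtOver.bcObj hf E)] Sec M (EtOver.bcObj hf E) :=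
    TensorProduct.liftAddHom
    { toFun := fun t =>
        { toFun := fun m => l t ⊗ₜ[ΓE (EtOver.bcObj hf E)] m
          map_zero' := TensorProduct.tmul_zero _ _
          map_add' := fun x y => TensorProduct.tmul_add _ x y }
      map_zero' := AddMonoidHom.ext fun m => by
        change l 0 ⊗ₜ[ΓE (EtOver.bcObj hf E)] m = 0
        rw [map_zero, TensorProduct.zero_tmul]
      map_add' := fun x y => AddMonoidHom.ext fun m => by
        change l (x + y) ⊗ₜ[ΓE (EtOver.bcObj hf E)] m =
          l x ⊗ₜ[ΓE (EtOver.bcObj hf E)] m + l y ⊗ₜ[ΓE (EtOver.bcObj hf E)] m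
        rw [map_add, TensorProduct.add_tmul] }
    fun a t m => by
      change l (a • t) ⊗ₜ[ΓE (EtOver.bcObj hf E)] m =
        l t ⊗ₜ[ΓE (EtOver.bcObj hf E)] (bcΓ hf E a • m)
      rw [map_smul, ← IsScalarTower.algebraMap_smul (ΓE (EtOver.bcObj hf E)) a (l t)]
      exact ((TensorProduct.mk (ΓE (EtOver.bcObj hf E)) (ΓE U.left) (Sec M (EtOver.bcObj hf E))).map_smul₂ _ (l t) m).trans
        ((TensorProduct.mk (ΓE (EtOver.bcObj hf E)) (ΓE U.left) (Sec M (EtOver.bcObj hf E)) (l t)).map_smul _ m).symm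
  have hφ := bijective_twoStep l hb φ fun t m => rfl
  have e : ∀ x, bcMap N E W x = bcMap M (EtOver.bcObj hf E) U (φ x) := fun x => by
    induction x using TensorProduct.induction_on with
    | zero => exact (map_zero _).trans ((congrArg _ φ.map_zero).trans (map_zero _)).symm
    | tmul t m => rfl
    | add y z hy hz =>
      exact (map_add _ _ _).trans ((congrArg₂ (· + ·) hy hz).trans
        ((congrArg _ (φ.map_add _ _)).trans (map_add _ _ _)).symm)
  rw [show ⇑(bcMap ((pushModEt hf).obj M) E W) = _ from funext e]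
  exact (isBC M (EtOver.bcObj hf E) U (isAff_bcObj hf haff W.left)).comp hφ

end Groth.Agent.AlgSpLib.QCohEt
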