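import Groth.Agent.AlgSpLib.QCohEtCech
import Groth.Agent.AlgSpLib.QCohEtPush
import Groth.Agent.EtCmp.RDeg

/-!
Quasi-coherent modules are acyclic on affine objects of small etale sites.
-/

universe u

open CategoryTheory CategoryTheory.Limits AlgebraicGeometry Opposite
open AlgSp

noncomputable section

set_option linter.style.haveILetI false

namespace Groth.Agent.AlgSpLib.QCohEt

set_option backward.isDefEq.respectTransparency.types false
set_option backward.isDefEq.respectTransparency false

open Groth.Agent.SiteCoh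

variable {S : Scheme.{u}} {X Y : Sp S}

/-- affine objects with their finite affine coverings -/
def affBasis (X : Sp S) : EtCechLib.Basis.{u + 1} (etTop X) where
  B E := IsAff E
  Cov E ι W := IsAff E ∧ Finite ι ∧ (∀ i, IsAff (W i).left) ∧
    ∀ x, ∃ i, x ∈ Set.range (W i).hom.hom.left.left
  mem E ι W h := ofArrows_mem_etTop (fun i => (W i).left) (fun i => (W i).hom) h.2.2.2
  inter E ι W h p a := by
    haveI := h.1
    exact isAff_piObj _ _ fun k => h.2.2.1 _
  refine_ E hE T hT := by
    haveI : IsAff E := hE
    obtain ⟨ι, hι, Z, g, hZ, hg, hc⟩ := exists_finite_affine_refinement hT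
    exact ⟨ULift.{u + 1} ι, fun i => Over.mk (g i.down),
      ⟨hE, inferInstance, fun i => hZ i.down, fun x => (hc x).elim fun i hi => ⟨⟨i⟩, hi⟩⟩, fun i => hg i.down⟩

/-- quasi-coherent modules are acyclic for finite affine coverings -/
theorem affBasis_acyclic (M : ModEt X) [M.IsQuasicoherent] : (affBasis X).Acyclic ((toAbEt X).obj M) := by
  intro E ι W h p
  haveI := h.1
  haveI := h.2.1
  exact (Cech.isZero_homology_succ_iff _ _ p).2 fun x hx => exists_coboundary M W h.2.2.1 h.2.2.2 p x hx

/-- higher cohomology of acyclic sheaves vanishes if the site has an affine terminal object -/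
theorem subsingleton_HEt_of_terminal {T : EtOver X} (hT : IsTerminal T) (hA : IsAff T) {F : AbEt X}
    (hF : (affBasis X).Acyclic F) (n : ℕ) : Subsingleton (HEt X F (n + 1)) :=
  (affBasis X).subsingleton_ext (fun g hg => EtCechLib.exists_lift_const hT g (hg T hA)) hF n

/-- higher direct images of acyclic sheaves along representable morphisms pulling affines back to affines vanish -/
theorem isZero_rpushEt {f : X ⟶ Y} (hf : Representable f) (haff : ∀ E : EtOver Y, IsAff E → IsAff (EtOver.bcObj hf E))
    (q : ℕ) (F : AbEt X) (hF : (affBasis X).Acyclic F) : IsZero ((RpushEt hf (q + 1)).obj F) := by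
  refine EtCmp.isZero_rightDerived_of_class (pushEt hf AddCommGrpCat.{u + 1}) (affBasis X).Acyclic
    (fun G hG => ?_) q F hF
  let C := injEmbed G
  have hC : C.ShortExact := injEmbed_shortExact G
  haveI : Injective C.X₂ := inferInstanceAs (Injective (Injective.under G))
  refine ⟨C, hC, ⟨Iso.refl _⟩, fun n hn => ?_, ?_, (affBasis X).acyclic_X₃ hC hG ((affBasis X).acyclic_of_injective _)⟩
  · obtain ⟨m, rfl⟩ : ∃ m, n = m + 1 := ⟨n - 1, by omega⟩
    exact Functor.isZero_rightDerived_obj_injective_succ _ m C.X₂
  · haveI : Sheaf.IsLocallySurjective ((pushEt hf AddCommGrpCat.{u + 1}).map C.g) := ⟨fun {E} t => by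
      obtain ⟨ι, Z, g, hZ, hc⟩ := exists_affine_cover E
      refine GrothendieckTopology.superset_covering _ ?_ (ofArrows_mem_etTop Z g hc)
      rintro V k ⟨_, l, _, ⟨j⟩, rfl⟩
      obtain ⟨s, hs⟩ := (affBasis X).surjective_sections hC hG (haff (Z j) (hZ j))
        (((pushEt hf AddCommGrpCat.{u + 1}).obj C.X₃).obj.map (g j).op t)
      refine ⟨((pushEt hf AddCommGrpCat.{u + 1}).obj C.X₂).obj.map l.op s, ?_⟩
      rw [NatTrans.naturality_apply, op_comp, Functor.map_comp, ConcreteCategory.comp_apply]
      exact congrArg _ hs⟩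
    exact (Sheaf.isLocallySurjective_iff_epi' (A := AddCommGrpCat.{u + 1}) _).1 inferInstance

end Groth.Agent.AlgSpLib.QCohEt
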