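import Groth.Agent.AlgSpLib.WeakAssEtSite

/-!
Sections of quasi-coherent modules are detected at weakly associated points.
-/

universe u

open CategoryTheory CategoryTheory.Limits AlgebraicGeometry Opposite TensorProduct
open AlgSp

noncomputable section

set_option linter.style.haveILetI false

namespace Groth.Agent.AlgSpLib.QCohEt

set_option backward.isDefEq.respectTransparency.types false
set_option backward.isDefEq.respectTransparency false

variable {S : Scheme.{u}} {X : Sp S}

theorem exists_primeE_eq {E : EtOver X} [IsAff E] (p : Ideal (ΓE E)) (hp : p.IsPrime) :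
    ∃ u, primeE E u = p := by
  let e : Γ(E.obj.left.left, ⊤) →+* ΓE E := ULift.ringEquiv.symm.toRingHom
  obtain ⟨x, hx⟩ := E.obj.left.left.toSpecΓ.homeomorph.surjective ⟨p.comap e, Ideal.IsPrime.comap e⟩
  refine ⟨x, ?_⟩
  have hx' : primeAtPt E.obj.left.left x = p.comap e := by
    rw [← show (E.obj.left.left.toSpecΓ x).asIdeal = p.comap e from congrArg PrimeSpectrum.asIdeal hx,
      Scheme.toSpecΓ_apply]
    rfl
  rw [primeE, hx', Ideal.comap_comap]
  exact Ideal.comap_id p

/-- the affine open subobjects of an object cover it -/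
theorem exists_affine_cover (E : EtOver X) :
    ∃ (ι : Type u) (Z : ι → EtOver X) (g : ∀ i, Z i ⟶ E),
      (∀ i, IsAff (Z i)) ∧ ∀ x, ∃ i, x ∈ Set.range (g i).hom.left.left := by
  let T : E.obj.left.left.affineOpens → Over S := fun O => Over.mk (O.1.ι ≫ E.obj.left.hom)
  let j : ∀ O, T O ⟶ E.obj.left := fun O => Over.homMk O.1.ι
  refine ⟨E.obj.left.left.affineOpens, fun O => EtOver.mk ((yon S).map (j O) ≫ E.obj.hom)
    (RepWith.comp ((repWith_yon_map_iff _ (j O)).2 (inferInstanceAs (Etale O.1.ι))) E.property),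
    fun O => EtOver.homMk (j O) rfl, fun O => O.2, fun x => ?_⟩
  obtain ⟨O, hO, hx, -⟩ := exists_isAffineOpen_mem_and_subset (X := E.obj.left.left) (x := x) (U := ⊤) trivial
  exact ⟨⟨O, hO⟩, ⟨x, hx⟩, rfl⟩

/-- sections over all objects vanish when they vanish on affine objects -/
theorem sec_eq_of_affine (M : ModEt X) {E : EtOver X} (s t : Sec M E)
    (h : ∀ (Z : EtOver X) (g : Z ⟶ E), IsAff Z → mapSec M g s = mapSec M g t) : s = t := by
  obtain ⟨ι, Z, g, hZ, hcov⟩ := exists_affine_cover E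
  exact mapSec_ext M g hcov s t fun i => h _ (g i) (hZ i)

variable (M : ModEt X) [M.IsQuasicoherent]

/-- sections killed near all weakly associated points vanish -/
theorem annEl_map_eq_top {E E' : EtOver X} [IsAff E] [IsAff E'] (g : E' ⟶ E) {d : Sec M E}
    (h : mapSec M g d = 0) : (CAlgH3.annEl (ΓE E) d).map (ΓMap g).hom = ⊤ := by
  let W : Over E := Over.mk g
  haveI : IsAff W.left := (inferInstance : IsAff E')
  haveI : Module.Flat (ΓE E) (ΓE W.left) := flat_ΓMap g
  have h0 : (1 : ΓE W.left) ⊗ₜ[ΓE E] d = 0 := (isBC M E W inferInstance).injective (by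
    rw [bcMap_tmul, one_smul, map_zero]; exact h)
  exact (SDiv28.annEl_one_tmul (A := ΓE E) (B := ΓE W.left) d).symm.trans (CAlgH3.annEl_eq_top.2 h0)

/-- a section which vanishes on an object meeting all weakly associated points vanishes -/
theorem eq_zero_of_range (hX : IsAlgSpace X) (E₀ : EtOver X)
    (hE : WeakAssEt M ⊆ Set.range (Points.ofPt E₀.obj.hom)) {E : EtOver X} [IsAff E] (d : Sec M E)
    (h : ∀ (Z : EtOver X) (a : Z ⟶ E) (_ : Z ⟶ E₀), IsAff Z → mapSec M a d = 0) : d = 0 := by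
  by_contra hd
  obtain ⟨p, hp, hle⟩ := CAlgH3.exists_mem_weakAss (R := ΓE E) hd
  obtain ⟨s, hs⟩ := CAlgH3.mem_weakAss.1 hp
  obtain ⟨u, rfl⟩ := exists_primeE_eq p hs.1.1
  obtain ⟨w, hw⟩ := hE (show Points.ofPt E.obj.hom u ∈ WeakAssEt M from
    ⟨E, inferInstance, u, rfl, (isWeakAssOn_iff_mem u).2 hp⟩)
  obtain ⟨ι, Z₀, g₀, hZ₀, hcov⟩ := exists_affine_cover E₀
  obtain ⟨i, w₀, rfl⟩ := hcov w
  have e : Points.ofPt E.obj.hom u = Points.ofPt (Z₀ i).obj.hom w₀ := by
    rw [← hw, ← ofPt_map, EtOver.w (g₀ i)]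
  obtain ⟨Z, hZ, a, b, z, hza, -⟩ := exists_common_refinement hX e
  haveI := hZ
  have htop := annEl_map_eq_top M a (h Z a (b ≫ g₀ i) hZ)
  refine (inferInstance : (primeE Z z).IsPrime).ne_top (top_le_iff.1 (htop.ge.trans ?_))
  rw [Ideal.map_le_iff_le_comap, primeE_comap, hza]
  exact hle

end Groth.Agent.AlgSpLib.QCohEt
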