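import Groth.Agent.AlgSpLib.EtModInjectives
import Groth.Agent.AlgSpLib.ModEtAB
import Groth.Agent.AlgSpLib.QCohEtAcyclic
import Groth.Agent.AlgSpLib.WeakAssEtGlobal
import Groth.Agent.SiteDer16.SectionsInst
import Groth.Agent.EtCmp.AdjExt
import Groth.Agent.Et18.FinitePush

/-!
Modules on the small etale site of a sheaf seen on the equivalent small category: sections as morphisms out of free
modules, and vanishing of `Ext` out of them into quasi-coherent modules on affine objects.
-/

set_option autoImplicit false
set_option backward.isDefEq.respectTransparency.types false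
set_option backward.isDefEq.respectTransparency false

universe u

open CategoryTheory CategoryTheory.Limits AlgebraicGeometry Opposite CategoryTheory.Abelian
open AlgSp

noncomputable section

namespace Groth.Agent.AlgSpLib.EtSmall

open Groth.Agent Groth.Agent.AlgSpLib.QCohEt

variable {S : Scheme.{u}} (X : Sp S)

/-- the small category equivalent to the small etale site -/
abbrev Idx : Type (u + 1) := ULiftHom.{u + 1} (EtOver X)

/-- the equivalence with the small category -/
abbrev eqv : EtOver X ≌ Idx X := ULiftHom.equiv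

/-- the induced topology -/
abbrev top : GrothendieckTopology (Idx X) := (eqv X).inverse.inducedTopology (etTop X)

instance : (eqv X).functor.IsDenseSubsite (etTop X) (top X) := inferInstance
instance : (eqv X).functor.IsContinuous (etTop X) (top X) := inferInstance
instance : (eqv X).inverse.IsContinuous (top X) (etTop X) := inferInstance

/-- the structure sheaf -/
abbrev OO : Sheaf (top X) CommRingCat.{u + 1} :=
  ((eqv X).inverse.sheafPushforwardContinuous CommRingCat.{u + 1} (top X) (etTop X)).obj (OEt X)

/-- the comparison of rings, forward -/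
def φ : OEtRing X ⟶ ((eqv X).functor.sheafPushforwardContinuous RingCat.{u + 1} (etTop X) (top X)).obj
    (ModSite.ringSh (OO X)) :=
  ⟨{ app := fun _ => 𝟙 _, naturality := fun _ _ _ => (Category.comp_id _).trans (Category.id_comp _).symm }⟩

/-- the comparison of rings, backward -/
def ψ : ModSite.ringSh (OO X) ⟶ ((eqv X).inverse.sheafPushforwardContinuous RingCat.{u + 1} (top X) (etTop X)).obj
    (OEtRing X) :=
  ⟨{ app := fun _ => 𝟙 _, naturality := fun _ _ _ => (Category.comp_id _).trans (Category.id_comp _).symm }⟩

/-- modules on the two sites agree -/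
def modEquiv : ModSite.Mod (OO X) ≌ ModEt X :=
  SheafOfModules.pushforwardPushforwardEquivalence (eqv X) (φ X) (ψ X) (by
    ext T x
    change ((OEtRing X).obj.map (𝟙 (op (ULiftHom.objDown T.unop)))) x = x
    rw [(OEtRing X).obj.map_id]; rfl) (by
    ext T x
    change ((OEtRing X).obj.map (𝟙 T)) x = x
    rw [(OEtRing X).obj.map_id]; rfl)

instance : (modEquiv X).functor.Additive := Functor.additive_of_preserves_binary_products _
instance : (modEquiv X).inverse.Additive := Functor.additive_of_preserves_binary_products _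

/-- abelian sheaves on the two sites agree -/
abbrev abEquiv : AbEt X ≌ Sheaf (top X) AddCommGrpCat.{u + 1} :=
  (eqv X).sheafCongr (etTop X) (top X) AddCommGrpCat.{u + 1}

instance : (abEquiv X).functor.Additive := Functor.additive_of_preserves_binary_products _
instance : (abEquiv X).inverse.Additive := Functor.additive_of_preserves_binary_products _

/-- sections of modules as morphisms out of free modules -/
def etSections : SiteDer16.Sections (top X) (ModEt X) :=
  SiteDer16.Sections.ofSheafValued ((modEquiv X).inverse ⋙ SheafOfModules.toSheaf.{u + 1} (ModSite.ringSh (OO X)))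
    (SiteDer16.modFree (OO X) ⋙ (modEquiv X).functor)
    (fun V F => AddEquiv.trans (((modEquiv X).toAdjunction).homAddEquiv _ F)
      (SiteDer16.modHomEquiv (OO X) V ((modEquiv X).inverse.obj F)))
    (fun g F x => by
      show SiteDer16.modHomEquiv₀ (OO X) _ _ (((modEquiv X).toAdjunction).homEquiv _ F
        ((modEquiv X).functor.map ((SiteDer16.modFree (OO X)).map g) ≫ x)) = _
      rw [Adjunction.homEquiv_naturality_left]
      exact SiteDer16.modHomEquiv₀_precomp (OO X) g _)
    (fun x f => by
      show SiteDer16.modHomEquiv₀ (OO X) _ _ (((modEquiv X).toAdjunction).homEquiv _ _ (x ≫ f)) = _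
      rw [Adjunction.homEquiv_naturality_right]
      exact SiteDer16.modHomEquiv₀_postcomp (OO X) _ _)

/-- the sections of a module over an object as morphisms out of the free module -/
def secEquiv (V : Idx X) (M : ModEt X) :
    ((etSections X).P.obj V ⟶ M) ≃+ sectModEt M (ULiftHom.objDown V) :=
  AddEquiv.trans (((modEquiv X).toAdjunction).homAddEquiv _ M)
    (SiteDer16.modHomEquiv (OO X) V ((modEquiv X).inverse.obj M))

theorem secEquiv_comp (V : Idx X) {M N : ModEt X} (x : (etSections X).P.obj V ⟶ M) (f : M ⟶ N) :
    secEquiv X V N (x ≫ f) = f.val.app (op (ULiftHom.objDown V)) (secEquiv X V M x) := by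
  show SiteDer16.modHomEquiv₀ (OO X) _ _ (((modEquiv X).toAdjunction).homEquiv _ _ (x ≫ f)) = _
  rw [Adjunction.homEquiv_naturality_right]
  exact SiteDer16.modHomEquiv₀_postcomp (OO X) _ _

/-- affine objects -/
def affSet : Set (Idx X) := {V | IsAff (ULiftHom.objDown V)}

theorem exists_affine_cover' (U : Idx X) :
    ∃ (ι : Type (u + 1)) (Y : ι → Idx X) (f : ∀ i, Y i ⟶ U),
      Sieve.ofArrows Y f ∈ top X U ∧ ∀ i, Y i ∈ affSet X := by
  obtain ⟨ι, Z, g, hZ, hc⟩ := exists_affine_cover (ULiftHom.objDown U)
  refine ⟨ULift.{u + 1} ι, fun i => ULiftHom.objUp (Z i.down), fun i => ⟨g i.down⟩, ?_, fun i => hZ i.down⟩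
  refine (Functor.mem_inducedTopology_iff_of_isCoverDense _ _ _).2
    (GrothendieckTopology.superset_covering _ ?_ (ofArrows_mem_etTop Z g hc))
  rintro W k ⟨_, l, _, ⟨j⟩, rfl⟩
  exact ⟨ULiftHom.objUp (Z j), ⟨g j⟩, l, Sieve.ofArrows_mk _ _ (ULift.up j), rfl⟩

variable {X}

theorem subsingleton_HU (M : ModEt X) [M.IsQuasicoherent] (V : Idx X) (hV : V ∈ affSet X) (k : ℕ) :
    Subsingleton (ModSite.HU (OO X) ((modEquiv X).inverse.obj M) (k + 1) V) := by
  haveI : HasExt.{u + 1} (AbEt X) := inferInstance
  let F : AbEt X := (toAbEt X).obj M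
  let A := CohCx.freeSheaf (top X) V
  let adj : (abEquiv X).inverse ⊣ (abEquiv X).functor := (abEquiv X).symm.toAdjunction
  have h1 : Subsingleton (Ext.{u + 1} ((abEquiv X).inverse.obj A) F (k + 1)) := by
    refine (affBasis X).subsingleton_ext (fun {F₁ F₂} g hg a => ?_) (affBasis_acyclic M) k
    obtain ⟨s, hs⟩ := hg _ hV (SiteCoh.homEquiv V ((abEquiv X).functor.obj F₂) (adj.homEquiv _ _ a))
    refine ⟨(adj.homEquiv _ _).symm ((SiteCoh.homEquiv V ((abEquiv X).functor.obj F₁)).symm s), ?_⟩
    apply (adj.homEquiv _ _).injective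
    rw [Adjunction.homEquiv_naturality_right, Equiv.apply_symm_apply]
    apply (SiteCoh.homEquiv V ((abEquiv X).functor.obj F₂)).injective
    refine (SiteCoh.homEquiv_postcomp _ _).trans ?_
    rw [AddEquiv.apply_symm_apply]
    exact hs
  have h2 := EtCmp.bijective_adjExtHom (R := (abEquiv X).functor) adj A (k + 1) F fun q hq => by
    obtain ⟨q, rfl⟩ : ∃ m, q = m + 1 := ⟨q - 1, by omega⟩
    exact Et18.isZero_rightDerived_of_preservesHomology (abEquiv X).functor q F
  exact h2.1.subsingleton

/-- higher `Ext` out of free modules on affine objects into quasi-coherent modules vanish -/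
theorem subsingleton_ext (M : ModEt X) [M.IsQuasicoherent] (V : Idx X) (hV : V ∈ affSet X) (k : ℕ) (hk : 0 < k)
    [HasExt.{u + 2} (ModEt X)] :
    Subsingleton (Ext.{u + 2} ((etSections X).P.obj V) M k) := by
  obtain ⟨k, rfl⟩ := Nat.exists_eq_succ_of_ne_zero hk.ne'
  haveI : HasExt.{u + 1} (ModSite.Mod (OO X)) := inferInstance
  haveI : EnoughInjectives (ModEt X) := enoughInjectives_sheafOfModules _ _
  have h1 := SiteDer16.subsingleton_ext_modFree (OO X) V (k + 1) _ (subsingleton_HU M V hV k)
  have h2 := EtCmp.bijective_adjExtHom (R := (modEquiv X).inverse) (modEquiv X).toAdjunction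
    ((SiteDer16.modFree (OO X)).obj V) (k + 1) M (fun q hq => by
      obtain ⟨q, rfl⟩ : ∃ m, q = m + 1 := ⟨q - 1, by omega⟩
      exact Et18.isZero_rightDerived_of_preservesHomology (modEquiv X).inverse q M)
  exact h2.2.subsingleton

end Groth.Agent.AlgSpLib.EtSmall
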