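import Groth.Agent.AlgSpLib.EtModSmall
import Groth.Agent.DerCompLib.ExtZero
import Groth.Agent.Et18.FinitePush
set_option autoImplicit false
set_option backward.isDefEq.respectTransparency false
set_option backward.isDefEq.respectTransparency.types false
set_option linter.style.haveILetI false
universe u
open CategoryTheory CategoryTheory.Limits AlgebraicGeometry Opposite AlgSp
/-!
Extension by zero from a slice of the small etale site is exact; Ext on slices.
-/

noncomputable section
namespace Groth.Agent.AlgSpLib.EtSmall
variable {S : Scheme.{u}} {X : Sp S} (E : EtOver X)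

/-- the object of the small model -/
abbrev up : Idx X := (eqv X).functor.obj E

/-- the equivalence of slices -/
def sEqv : Over E ≌ Over (up E) := Over.postEquiv E (eqv X)

instance : (sEqv E).functor.IsCocontinuous ((etTop X).over E) ((top X).over (up E)) :=
  inferInstanceAs ((Over.post (X := E) (eqv X).functor).IsCocontinuous _ _)

theorem isCocontinuous_map {C : Type*} [Category C] (J : GrothendieckTopology C) {A B : C} (f : A ⟶ B) :
    (Over.map f).IsCocontinuous (J.over A) (J.over B) := inferInstance

instance : (sEqv E).inverse.IsCocontinuous ((top X).over (up E)) ((etTop X).over E) :=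
  haveI : (Over.map (X := (eqv X).inverse.obj (up E)) ((eqv X).unitIso.inv.app E)).IsCocontinuous ((etTop X).over _) ((etTop X).over E) :=
    isCocontinuous_map (etTop X) _
  show (Over.post (X := up E) (eqv X).inverse ⋙ Over.map ((eqv X).unitIso.inv.app E)).IsCocontinuous _ _ from
    isCocontinuous_comp _ _ _ ((etTop X).over _)

instance : (sEqv E).inverse.IsDenseSubsite ((top X).over (up E)) ((etTop X).over E) :=
  (sEqv E).isDenseSubsite_inverse_of_isCocontinuous _ _

/-- comparison of rings, forward -/
def φO : OEtOn E ⟶ ((sEqv E).functor.sheafPushforwardContinuous RingCat.{u + 1} ((etTop X).over E) ((top X).over (up E))).obj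
    (ModSite.ringSh ((OO X).over (up E))) :=
  ⟨{ app := fun _ => 𝟙 _, naturality := fun _ _ _ => (Category.comp_id _).trans (Category.id_comp _).symm }⟩

/-- comparison of rings, backward -/
def ψO : ModSite.ringSh ((OO X).over (up E)) ⟶ ((sEqv E).inverse.sheafPushforwardContinuous RingCat.{u + 1}
    ((top X).over (up E)) ((etTop X).over E)).obj (OEtOn E) :=
  ⟨{ app := fun _ => 𝟙 _, naturality := fun _ _ _ => (Category.comp_id _).trans (Category.id_comp _).symm }⟩

/-- modules on the slices agree -/
def sliceEquiv : ModSite.Mod ((OO X).over (up E)) ≌ ModEtOn E :=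
  SheafOfModules.pushforwardPushforwardEquivalence (sEqv E) (φO E) (ψO E) (by
    ext T x
    change ((OEtRing X).obj.map (𝟙 (op (ULiftHom.objDown T.unop.left)))) x = x
    rw [(OEtRing X).obj.map_id]; rfl) (by
    ext T x
    change ((OEtRing X).obj.map (𝟙 (op T.unop.left))) x = x
    rw [(OEtRing X).obj.map_id]; rfl)

/-- restriction seen on the small model -/
def resIso : resModEt E ≅ (modEquiv X).inverse ⋙ ModSite.restr (OO X) (up E) ⋙ (sliceEquiv E).functor :=
  haveI := Functor.isContinuous_comp (sEqv E).functor (Over.forget (up E)) ((etTop X).over E) ((top X).over (up E)) (top X)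
  haveI := Functor.isContinuous_comp ((sEqv E).functor ⋙ Over.forget (up E)) (eqv X).inverse ((etTop X).over E) (top X) (etTop X)
  haveI := Functor.isContinuous_comp (Over.forget (up E)) (eqv X).inverse ((top X).over (up E)) (top X) (etTop X)
  NatIso.ofComponents (fun M => (SheafOfModules.fullyFaithfulForget _).preimageIso
    (PresheafOfModules.isoMk (fun T => Iso.refl _) (fun T T' g => rfl)))
    (fun f => SheafOfModules.Hom.ext (PresheafOfModules.hom_ext fun T => rfl))

/-- extension by zero from a slice -/
def shriekL : ModEtOn E ⥤ ModEt X :=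
  (sliceEquiv E).inverse ⋙ ModSite.extZero (OO X) (up E) ⋙ (modEquiv X).functor

/-- extension by zero is left adjoint to restriction -/
def shriekLAdj : shriekL E ⊣ resModEt E :=
  ((sliceEquiv E).symm.toAdjunction.comp ((ModSite.extZeroAdj (OO X) (up E)).comp (modEquiv X).toAdjunction)).ofNatIsoRight
    (resIso E).symm

instance : (shriekL E).Additive := (shriekLAdj E).left_adjoint_additive

instance : PreservesFiniteColimits (shriekL E) :=
  haveI := (shriekLAdj E).leftAdjoint_preservesColimits
  inferInstance

instance : PreservesFiniteLimits (shriekL E) := by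
  haveI : PreservesFiniteLimits (ModSite.extZero (OO X) (up E) ⋙ (modEquiv X).functor) := comp_preservesFiniteLimits _ _
  exact comp_preservesFiniteLimits _ _

/-- the value at the identity of a morphism out of the unit -/
def unitVal {N : ModEtOn E} (f : SheafOfModules.unit (OEtOn E) ⟶ N) : (N.val.obj (op (Over.mk (𝟙 E))) : Type (u + 1)) :=
  (N.unitHomEquiv f).val (op (Over.mk (𝟙 E)))

theorem unitVal_comp {N N' : ModEtOn E} (f : SheafOfModules.unit (OEtOn E) ⟶ N) (g : N ⟶ N') :
    unitVal E (f ≫ g) = g.val.app (op (Over.mk (𝟙 E))) (unitVal E f) := rfl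

theorem bijective_unitVal (N : ModEtOn E) : Function.Bijective (unitVal E (N := N)) := by
  constructor
  · intro f g h
    refine N.unitHomEquiv.injective (Subtype.ext (funext fun W => ?_))
    let k : W.unop ⟶ Over.mk (𝟙 E) := Over.homMk W.unop.hom
    have hf := (N.unitHomEquiv f).2 k.op
    have hg := (N.unitHomEquiv g).2 k.op
    exact hf.symm.trans ((congrArg _ h).trans hg)
  · intro s
    refine ⟨N.unitHomEquiv.symm ⟨fun W => N.val.map (Over.homMk W.unop.hom : W.unop ⟶ Over.mk (𝟙 E)).op s,
      fun {W W'} g => ?_⟩, ?_⟩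
    · have key : ∀ {A B C : (Over E)ᵒᵖ} (a : A ⟶ B) (b : B ⟶ C) (c : A ⟶ C) (_ : a ≫ b = c)
          (x : (N.val.obj A : Type (u + 1))), N.val.map b (N.val.map a x) = N.val.map c x := fun a b c habc x => by
        subst habc
        exact (PresheafOfModules.map_comp_apply N.val a b x).symm
      exact key (Over.homMk W.unop.hom : W.unop ⟶ Over.mk (𝟙 E)).op g (Over.homMk W'.unop.hom : W'.unop ⟶ Over.mk (𝟙 E)).op
        (Quiver.Hom.unop_inj (Over.OverMorphism.ext (Over.w g.unop))) s
    · show (N.unitHomEquiv (N.unitHomEquiv.symm _)).val _ = s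
      rw [Equiv.apply_symm_apply]
      show N.val.map _ s = s
      rw [show (Over.homMk (Over.mk (𝟙 E)).hom : Over.mk (𝟙 E) ⟶ Over.mk (𝟙 E)) = 𝟙 _ from Over.OverMorphism.ext rfl]
      exact congr($(N.val.presheaf.map_id (op (Over.mk (𝟙 E)))) s)

/-- morphisms out of the extension by zero of the unit are sections -/
def shriekSec (F : ModEt X) : ((shriekL E).obj (SheafOfModules.unit (OEtOn E)) ⟶ F) ≃ sectModEt F E :=
  ((shriekLAdj E).homEquiv _ _).trans (Equiv.ofBijective _ (bijective_unitVal E ((resModEt E).obj F)))

theorem shriekSec_comp {F G : ModEt X} (x : (shriekL E).obj (SheafOfModules.unit (OEtOn E)) ⟶ F) (f : F ⟶ G) :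
    shriekSec E G (x ≫ f) = f.val.app (op E) (shriekSec E F x) := by
  show unitVal E ((shriekLAdj E).homEquiv _ _ (x ≫ f)) = f.val.app (op E) (unitVal E ((shriekLAdj E).homEquiv _ _ x))
  rw [Adjunction.homEquiv_naturality_right, unitVal_comp]
  rfl

/-- the extension by zero of the unit is the free module -/
def shriekUnitIso : (shriekL E).obj (SheafOfModules.unit (OEtOn E)) ≅ (etSections X).P.obj (up E) where
  hom := (shriekSec E _).symm (secEquiv X (up E) _ (𝟙 _))
  inv := (secEquiv X (up E) _).symm (shriekSec E _ (𝟙 _))
  hom_inv_id := by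
    apply (shriekSec E _).injective
    rw [shriekSec_comp, Equiv.apply_symm_apply]
    refine (secEquiv_comp X (up E) _ _).symm.trans ?_
    rw [Category.id_comp, AddEquiv.apply_symm_apply]
  inv_hom_id := by
    apply (secEquiv X (up E) _).injective
    rw [secEquiv_comp, AddEquiv.apply_symm_apply]
    refine (shriekSec_comp E _ _).symm.trans ?_
    rw [Category.id_comp, Equiv.apply_symm_apply]

/-- Ext on a slice is Ext out of a free module -/
theorem subsingleton_ext_slice [HasExt.{u + 2} (ModEt X)] [HasExt.{u + 2} (ModEtOn E)] (F : ModEt X) (n : ℕ)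
    (h : Subsingleton (Abelian.Ext.{u + 2} ((etSections X).P.obj (up E)) F n)) :
    Subsingleton (Abelian.Ext.{u + 2} (SheafOfModules.unit (OEtOn E)) ((resModEt E).obj F) n) := by
  haveI : EnoughInjectives (ModEt X) := enoughInjectives_sheafOfModules _ _
  have h2 := EtCmp.bijective_adjExtHom (R := resModEt E) (shriekLAdj E) (SheafOfModules.unit (OEtOn E)) n F fun q hq => by
    obtain ⟨q, rfl⟩ : ∃ m, q = m + 1 := ⟨q - 1, by omega⟩
    exact Et18.isZero_rightDerived_of_preservesHomology (resModEt E) q F
  haveI : Subsingleton (Abelian.Ext.{u + 2} ((shriekL E).obj (SheafOfModules.unit (OEtOn E))) F n) :=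
    ⟨fun a b => by
      have := h.elim ((Abelian.Ext.mk₀ (shriekUnitIso E).inv).comp a (zero_add n))
        ((Abelian.Ext.mk₀ (shriekUnitIso E).inv).comp b (zero_add n))
      have := congrArg (fun c => (Abelian.Ext.mk₀ (shriekUnitIso E).hom).comp c (zero_add n)) this
      simpa using this⟩
  exact h2.1.subsingleton

end Groth.Agent.AlgSpLib.EtSmall
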