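import Groth.Agent.AlgSpLib.EtSmSlice
import Groth.Agent.AlgSpLib.UnivBdd

/-!
A property which is etale local on the source, smooth local on the base and stable under
postcomposition with open immersions is etale-smooth local on source-and-target.
-/

universe u

open CategoryTheory CategoryTheory.Limits AlgebraicGeometry
open AlgSp

noncomputable section

namespace Groth.Agent.AlgSpLib

namespace EtSmLocal

set_option backward.isDefEq.respectTransparency.types false

variable {S : Scheme.{u}} {P : MorphismProperty (Sp S)}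

/-- `P` is inherited near a point of `X` from an etale neighbourhood over a smooth neighbourhood of `Y` -/
theorem sch_exists_open (h : EtSmLocal P) {X Y V U : Over S} (f : X ⟶ Y) (b : V ⟶ Y) [Smooth b.left]
    (e : U ⟶ pullback f b) [Etale e.left] (hP : Q P (e ≫ pullback.snd f b)) (u : ↥U.left) :
    ∃ (O : Over S) (j : O ⟶ X), IsOpenImmersion j.left ∧
      (e ≫ pullback.fst f b).left u ∈ Set.range j.left ∧ Q P (j ≫ f) := by
  obtain ⟨Uy, hUy, Vv, hVv, hv, le, hf⟩ := Smooth.exists_isStandardSmooth b.left ((e ≫ pullback.snd f b).left u)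
  obtain ⟨n, g, hg, hge⟩ := hf.exists_etale_mvPolynomial
  let Y0 : Over S := Over.mk (hUy.fromSpec ≫ Y.hom)
  let iy : Y0 ⟶ Y := Over.homMk hUy.fromSpec rfl
  let V0 : Over S := Over.mk (hVv.fromSpec ≫ V.hom)
  let iv : V0 ⟶ V := Over.homMk hVv.fromSpec rfl
  have hiy : IsOpenImmersion iy.left := inferInstanceAs (IsOpenImmersion hUy.fromSpec)
  have hiv : IsOpenImmersion iv.left := inferInstanceAs (IsOpenImmersion hVv.fromSpec)
  let a := affSpProj (hUy.fromSpec ≫ Y.hom) n
  have key : Spec.map (CommRingCat.ofHom g) ≫ a.left ≫ iy.left = iv.left ≫ b.left := by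
    show Spec.map _ ≫ Spec.map _ ≫ hUy.fromSpec = hVv.fromSpec ≫ b.left
    rw [← Category.assoc, ← Spec.map_comp, ← CommRingCat.ofHom_comp, hg]
    exact hUy.SpecMap_appLE_fromSpec b.left hVv le
  let c : V0 ⟶ affSp (hUy.fromSpec ≫ Y.hom) n := Over.homMk (Spec.map (CommRingCat.ofHom g)) (by
    show Spec.map _ ≫ a.left ≫ iy.left ≫ Y.hom = iv.left ≫ V.hom
    have h2 : Spec.map (CommRingCat.ofHom g) ≫ (a.left ≫ iy.left) ≫ Y.hom = iv.left ≫ b.left ≫ Y.hom := by
      rw [← Category.assoc, key, Category.assoc]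
    rw [Category.assoc, Over.w b] at h2
    exact h2)
  have hcb : (c ≫ a) ≫ iy = iv ≫ b := Over.OverMorphism.ext (by
    show (Spec.map (CommRingCat.ofHom g) ≫ a.left) ≫ iy.left = iv.left ≫ b.left
    rw [Category.assoc, key])
  have hce : Etale c.left := (HasRingHomProperty.Spec_iff (P := @Etale)).2 hge
  have hcs : IsSeparated c.left := (inferInstance : IsSeparated (Spec.map (CommRingCat.ofHom g)))
  have sqX := IsPullback.of_hasPullback f iy
  have sqW := IsPullback.of_hasPullback f b
  have sq0 := IsPullback.of_hasPullback (pullback.snd f b) iv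
  have sqA := IsPullback.of_hasPullback (pullback.snd f iy) a
  let W0 := pullback (pullback.snd f b) iv
  let q0 : W0 ⟶ V0 := pullback.snd _ _
  let p0 : W0 ⟶ pullback f b := pullback.fst _ _
  have outer : IsPullback (p0 ≫ pullback.fst f b) q0 f ((c ≫ a) ≫ iy) := by
    rw [hcb]; exact sq0.paste_horiz sqW
  let w0 : W0 ⟶ pullback f iy := sqX.lift (p0 ≫ pullback.fst f b) (q0 ≫ c ≫ a)
    (by rw [outer.w]; simp only [Category.assoc])
  have sqw0 : IsPullback w0 q0 (pullback.snd f iy) (c ≫ a) :=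
    IsPullback.of_right (by rw [sqX.lift_fst]; exact outer) (sqX.lift_snd _ _ _) sqX
  let wc : W0 ⟶ pullback (pullback.snd f iy) a :=
    sqA.lift w0 (q0 ≫ c) (by rw [sqw0.w]; simp only [Category.assoc])
  have sqwc : IsPullback wc q0 (pullback.snd (pullback.snd f iy) a) c :=
    IsPullback.of_right (by rw [sqA.lift_fst]; exact sqw0) (sqA.lift_snd _ _ _) sqA
  -- the etale neighbourhood over `V0`
  have sqU := IsPullback.of_hasPullback e p0
  let e0 := pullback.snd e p0
  have he0 : Etale e0.left := MorphismProperty.of_isPullback (isPullback_left sqU) ‹Etale e.left›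
  have hwc : Etale wc.left := MorphismProperty.of_isPullback (isPullback_left sqwc).flip hce
  have hP0 : Q P (e0 ≫ q0) := h.sch_baseChange (sqU.paste_vert sq0) hP
  let k : pullback e p0 ⟶ pullback (pullback.snd f iy) a := e0 ≫ wc
  have hk : Etale k.left := inferInstanceAs (Etale (e0.left ≫ wc.left))
  have hPA : Q P (k ≫ pullback.snd (pullback.snd f iy) a) := by
    have := h.sch_postEtale (e0 ≫ q0) c hP0
    rw [Category.assoc] at this
    rwa [show k ≫ pullback.snd (pullback.snd f iy) a = e0 ≫ q0 ≫ c by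
      simp only [k, wc, Category.assoc, sqA.lift_snd]]
  obtain ⟨w1, hw1, -⟩ := Scheme.exists_preimage_of_isPullback (isPullback_left sq0) (e.left u)
    (hVv.isoSpec.hom ⟨_, hv⟩) (by
      rw [← Scheme.Hom.comp_apply]
      show _ = (hVv.isoSpec.hom ≫ hVv.fromSpec) ⟨_, hv⟩
      rw [hVv.isoSpec_hom_fromSpec]
      rfl)
  obtain ⟨u0, hu0, hu0'⟩ := Scheme.exists_preimage_of_isPullback (isPullback_left sqU) u w1 hw1.symm
  -- the open of `A^n_X` and its image in `X`
  let pA := pullback.fst (pullback.snd f iy) a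
  have hpA : Smooth pA.left :=
    MorphismProperty.of_isPullback (isPullback_left sqA).flip (show Smooth a.left from smooth_affSpProj n)
  let Go : (pullback (pullback.snd f iy) a).left.Opens := ⟨_, k.left.isOpenMap.isOpen_range⟩
  let G : Over S := Over.mk (Go.ι ≫ (pullback (pullback.snd f iy) a).hom)
  let jG : G ⟶ pullback (pullback.snd f iy) a := Over.homMk Go.ι rfl
  have hjG : IsOpenImmersion jG.left := inferInstanceAs (IsOpenImmersion Go.ι)
  have hkG : Set.range k.left ⊆ Set.range Go.ι := by rw [Scheme.Opens.range_ι]; exact le_rfl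
  let k' : pullback e p0 ⟶ G := Over.homMk (IsOpenImmersion.lift Go.ι k.left hkG) (by
    show _ ≫ Go.ι ≫ _ = _
    rw [IsOpenImmersion.lift_fac_assoc]; exact Over.w k)
  have hk' : k' ≫ jG = k := Over.OverMorphism.ext (IsOpenImmersion.lift_fac _ _ hkG)
  have hk'l : k'.left ≫ jG.left = k.left := by rw [← Over.comp_left, hk']
  have hPG : Q P (jG ≫ pullback.snd (pullback.snd f iy) a) := by
    refine h.sch_source _ (fun _ : PUnit.{u + 1} => pullback e p0) (fun _ => k') (fun _ => ?_) (fun x => ?_)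
      fun _ => ?_
    · have : Etale (k'.left ≫ jG.left) := hk'l ▸ hk
      exact Etale.of_comp k'.left jG.left
    · obtain ⟨z, hz⟩ := x.2
      exact ⟨⟨⟩, z, jG.left.injective (by rw [← Scheme.Hom.comp_apply, hk'l]; exact hz)⟩
    · rw [← Category.assoc, hk']; exact hPA
  let Oo : (pullback f iy).left.Opens :=
    ⟨Set.range (jG ≫ pA).left, by
      have : Smooth (jG ≫ pA).left := inferInstanceAs (Smooth (jG.left ≫ pA.left))
      exact (jG ≫ pA).left.isOpenMap.isOpen_range⟩
  let O : Over S := Over.mk (Oo.ι ≫ (pullback f iy).hom)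
  let jO : O ⟶ pullback f iy := Over.homMk Oo.ι rfl
  have hjO : IsOpenImmersion jO.left := inferInstanceAs (IsOpenImmersion Oo.ι)
  refine ⟨O, jO ≫ pullback.fst f iy, ?_, ?_, ?_⟩
  · have : IsOpenImmersion (pullback.fst f iy).left :=
      MorphismProperty.of_isPullback (isPullback_left sqX).flip hiy
    exact inferInstanceAs (IsOpenImmersion (jO.left ≫ (pullback.fst f iy).left))
  · have hmem : w0.left w1 ∈ Set.range (jG ≫ pA).left := by
      refine ⟨k'.left u0, ?_⟩
      rw [← Scheme.Hom.comp_apply, ← Over.comp_left, ← Category.assoc, hk']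
      show ((e0 ≫ wc) ≫ pA).left u0 = _
      rw [Category.assoc, show wc ≫ pA = w0 from sqA.lift_fst _ _ _, Over.comp_left,
        Scheme.Hom.comp_apply, hu0']
    refine ⟨(⟨_, hmem⟩ : Oo), ?_⟩
    show (pullback.fst f iy).left (w0.left w1) = _
    rw [← Scheme.Hom.comp_apply, ← Over.comp_left, sqX.lift_fst, Over.comp_left, Scheme.Hom.comp_apply,
      hw1, ← Scheme.Hom.comp_apply, ← Over.comp_left]
  · rw [Category.assoc, sqX.w, ← Category.assoc]
    refine h.sch_postOpen _ iy ?_
    have sqO := IsPullback.of_hasPullback (jO ≫ pullback.snd f iy) a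
    let mO : pullback (jO ≫ pullback.snd f iy) a ⟶ pullback (pullback.snd f iy) a :=
      sqA.lift (pullback.fst _ _ ≫ jO) (pullback.snd _ _) (by rw [Category.assoc]; exact sqO.w)
    have sqmO : IsPullback mO (pullback.fst (jO ≫ pullback.snd f iy) a) pA jO :=
      IsPullback.of_right (by rw [sqA.lift_snd]; exact sqO.flip) (sqA.lift_fst _ _ _) sqA.flip
    let r : G ⟶ O := Over.homMk (IsOpenImmersion.lift Oo.ι (jG ≫ pA).left
        (by rw [Scheme.Opens.range_ι]; exact le_rfl)) (by
      show _ ≫ Oo.ι ≫ _ = _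
      rw [IsOpenImmersion.lift_fac_assoc]; exact Over.w (jG ≫ pA))
    have hr : r ≫ jO = jG ≫ pA := Over.OverMorphism.ext (IsOpenImmersion.lift_fac _ _ _)
    let jG' : G ⟶ pullback (jO ≫ pullback.snd f iy) a := sqmO.lift jG r hr.symm
    have hmO : IsOpenImmersion mO.left :=
      MorphismProperty.of_isPullback (isPullback_left sqmO).flip hjO
    have : IsOpenImmersion jG'.left := by
      have : IsOpenImmersion (jG'.left ≫ mO.left) := by
        rw [← Over.comp_left, sqmO.lift_fst]; exact hjG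
      exact IsOpenImmersion.of_comp jG'.left mO.left
    refine h.sch_slice (hUy.fromSpec ≫ Y.hom) _ jG' (fun o => ?_) ?_
    · obtain ⟨z, hz⟩ := o.2
      refine ⟨z, jO.left.injective ?_⟩
      rw [← Scheme.Hom.comp_apply, ← Over.comp_left, sqmO.lift_snd, hr]
      exact hz
    · rw [show jG' ≫ pullback.snd (jO ≫ pullback.snd f iy) a = jG ≫ pullback.snd (pullback.snd f iy) a by
        rw [← show jG' ≫ mO = jG from sqmO.lift_fst _ _ _, Category.assoc, sqA.lift_snd]]
      exact hPG

/-- postcomposition with an etale morphism from an affine scheme to an algebraic space -/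
theorem postEtale_space (h : EtSmLocal P) {O Y0 : Over S} [IsAffine Y0.left] (g : O ⟶ Y0) {Y : Sp S}
    (hY : IsAlgSpace Y) (c : (yon S).obj Y0 ⟶ Y) (hc : RepWith @Etale c) (hg : Q P g) :
    P ((yon S).map g ≫ c) := by
  obtain ⟨ι, T, b, -, hbe, hbs⟩ := exists_affine_family hY
  have sq := fun i => hc.1.isPullback' (b i)
  have sqO := fun i => IsPullback.of_hasPullback g (hc.1.fst' (b i))
  refine ((h.base (fun i => (yon S).obj (T i)) b hY (fun i => IsAlgSpace.yon_obj _)
    ⟨fun i => locP_of_repWith etLocal_smooth (IsAlgSpace.yon_obj _)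
      (RepWith.mono (fun _ _ g (_ : Etale g) => (inferInstance : Smooth g)) (hbe i)), fun y => ?_⟩)
    _ (IsAlgSpace.yon_obj O) (fun i => (yon S).obj (pullback g (hc.1.fst' (b i))))
    (fun i => (yon S).map (pullback.snd g (hc.1.fst' (b i)) ≫ hc.1.snd (b i)))
    (fun i => (yon S).map (pullback.fst g (hc.1.fst' (b i)))) (fun i => IsAlgSpace.yon_obj _)
    fun i => ?_).2 fun i => ?_
  · obtain ⟨i, v, hv⟩ := hbs y
    exact ⟨i, Points.ofScheme _ v, by rw [← hv, Points.ofPt_eq_map_ofScheme]⟩
  · rw [Functor.map_comp]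
    exact ((sqO i).map (yon S)).paste_vert (sq i)
  · have hs : Etale (hc.1.snd (b i)).left := hc.property_snd (b i)
    have hf : Etale (hc.1.fst' (b i)).left := (hbe i).property _ _ _ (sq i).flip
    have hsep : IsSeparated (hc.1.snd (b i)).left := by
      have : IsSeparated Y0.hom := by
        have : IsSeparated (Y0.hom ≫ terminal.from S) := by
          rw [terminal.hom_ext (Y0.hom ≫ terminal.from S) (terminal.from _)]; infer_instance
        exact IsSeparated.of_comp Y0.hom (terminal.from S)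
      let m : (hc.1.pullback (b i)).left ⟶ pullback Y0.hom (T i).hom :=
        pullback.lift (hc.1.fst' (b i)).left (hc.1.snd (b i)).left
          ((Over.w (hc.1.fst' (b i))).trans (Over.w (hc.1.snd (b i))).symm)
      have hm1 : m ≫ pullback.fst _ _ = (hc.1.fst' (b i)).left := pullback.lift_fst _ _ _
      have hm2 : m ≫ pullback.snd _ _ = (hc.1.snd (b i)).left := pullback.lift_snd _ _ _
      have : Mono m := ⟨fun {W} a a' ha => by
        have h1 : a ≫ (hc.1.fst' (b i)).left = a' ≫ (hc.1.fst' (b i)).left := by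
          rw [← hm1, ← Category.assoc, ha, Category.assoc]
        have h2 : a ≫ (hc.1.snd (b i)).left = a' ≫ (hc.1.snd (b i)).left := by
          rw [← hm2, ← Category.assoc, ha, Category.assoc]
        have hw : a' ≫ (hc.1.pullback (b i)).hom = a ≫ (hc.1.pullback (b i)).hom := by
          rw [← Over.w (hc.1.snd (b i)), reassoc_of% h2]
        let a0 : Over.mk (a ≫ (hc.1.pullback (b i)).hom) ⟶ hc.1.pullback (b i) := Over.homMk a rfl
        let a1 : Over.mk (a ≫ (hc.1.pullback (b i)).hom) ⟶ hc.1.pullback (b i) := Over.homMk a' hw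
        have : (yon S).map a0 = (yon S).map a1 := (sq i).hom_ext
          (by rw [← Functor.map_comp, ← Functor.map_comp]; congr 1; exact Over.OverMorphism.ext h1)
          (by rw [← Functor.map_comp, ← Functor.map_comp]; congr 1; exact Over.OverMorphism.ext h2)
        exact congrArg CommaMorphism.left ((yon S).map_injective this)⟩
      have : IsSeparated (pullback.snd Y0.hom (T i).hom) := inferInstance
      have e : (hc.1.snd (b i)).left = m ≫ pullback.snd _ _ := (pullback.lift_snd _ _ _).symm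
      rw [e]
      infer_instance
    exact h.sch_postEtale _ _ (h.sch_baseChange (sqO i) hg)

/-- the locality axiom, at a point -/
theorem exists_chart (h : EtSmLocal P) {X Y V W U : Sp S} (hX : IsAlgSpace X) (hY : IsAlgSpace Y)
    (hV : IsAlgSpace V) (hW : IsAlgSpace W) (hU : IsAlgSpace U) (f : X ⟶ Y) (b : V ⟶ Y) (p : W ⟶ X)
    (q : W ⟶ V) (e : U ⟶ W) (hb : LocP @Smooth b) (sqW : IsPullback p q f b) (he : IsEtaleMor e)
    (v : Points U) (hP : P (e ≫ q)) :
    ∃ (O : Over S) (o : (yon S).obj O ⟶ X), RepWith @Etale o ∧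
      Points.map (e ≫ p) v ∈ Set.range (Points.ofPt o) ∧ P (o ≫ f) := by
  have he' : LocP @Etale e := (isEtaleMor_iff_locP etLocal_etale hU hW e).1 he
  obtain ⟨ι, Y0, c, hY0a, hce, hcs⟩ := exists_affine_family hY
  obtain ⟨i, y0, hy0⟩ := hcs (Points.map f (Points.map (e ≫ p) v))
  have := hY0a i
  have hcL : LocP @Etale (c i) := locP_of_repWith etLocal_etale (IsAlgSpace.yon_obj _) (hce i)
  have sqX0 := IsPullback.of_hasPullback f (c i)
  have hX0 : IsAlgSpace (pullback f (c i)) := isAlgSpace_of_isPullback hY.diag hX (IsAlgSpace.yon_obj _) sqX0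
  have sqV0 := IsPullback.of_hasPullback b (c i)
  have hV0 : IsAlgSpace (pullback b (c i)) := isAlgSpace_of_isPullback hY.diag hV (IsAlgSpace.yon_obj _) sqV0
  -- a chart of `V ×_Y Y0`
  obtain ⟨v0, hv0, hv0'⟩ := exists_point_of_isPullback sqV0
    (show Points.map b (Points.map q (Points.map e v)) = Points.map (c i) (Points.ofScheme _ y0) by
      rw [← Points.ofPt_eq_map_ofScheme, hy0, Points.map_comp e p, ← Points.map_comp q b,
        ← Points.map_comp p f, sqW.w])
  obtain ⟨V1, a2, ha2e, ha2s⟩ := hV0.atlas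
  obtain ⟨v1, hv1⟩ := surjective_ofPt a2 ha2s v0
  let n1 := a2 ≫ pullback.fst b (c i)
  obtain ⟨b1, hb1⟩ := (yon S).map_surjective (a2 ≫ pullback.snd b (c i))
  have hn1b : n1 ≫ b = (yon S).map b1 ≫ c i := by rw [hb1, Category.assoc, Category.assoc, sqV0.w]
  have hn1e : LocP @Etale n1 :=
    locP_comp etLocal_etale (IsAlgSpace.yon_obj _) hV0 hV (locP_of_repWith etLocal_etale (IsAlgSpace.yon_obj _) ha2e)
      (locP_of_isPullback etLocal_etale (IsAlgSpace.yon_obj _) hY hV0 sqV0.flip hcL)
  have hb1S : Smooth b1.left := by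
    rw [← repWith_yon_map_iff (P := @Smooth), repWith_iff_locP etLocal_smooth (IsAlgSpace.yon_obj _) (IsAlgSpace.yon_obj _)]
    · rw [hb1]
      exact locP_comp etLocal_smooth (IsAlgSpace.yon_obj _) hV0 (IsAlgSpace.yon_obj _)
        (locP_mono (fun _ _ g (_ : Etale g) => (inferInstance : Smooth g))
          (locP_of_repWith etLocal_etale (IsAlgSpace.yon_obj _) ha2e))
        (locP_of_isPullback etLocal_smooth hV hY hV0 sqV0 hb |> fun h' => h')
    · exact representable_yon_map b1
  -- `W ×_V V1` and `U ×_V V1`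
  have sqW2 := IsPullback.of_hasPullback q n1
  have hW2 : IsAlgSpace (pullback q n1) := isAlgSpace_of_isPullback hV.diag hW (IsAlgSpace.yon_obj _) sqW2
  have outer : IsPullback (pullback.fst q n1 ≫ p) (pullback.snd q n1) f ((yon S).map b1 ≫ c i) := by
    rw [← hn1b]; exact sqW2.paste_horiz sqW
  let w20 : pullback q n1 ⟶ pullback f (c i) :=
    sqX0.lift (pullback.fst q n1 ≫ p) (pullback.snd q n1 ≫ (yon S).map b1)
      (by rw [outer.w, Category.assoc])
  have sqw20 : IsPullback w20 (pullback.snd q n1) (pullback.snd f (c i)) ((yon S).map b1) :=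
    IsPullback.of_right (by rw [sqX0.lift_fst]; exact outer) (sqX0.lift_snd _ _ _) sqX0
  obtain ⟨w2, hw2, hw2'⟩ := exists_point_of_isPullback sqW2
    (show Points.map q (Points.map e v) = Points.map n1 (Points.ofScheme _ v1) by
      rw [← hv0, ← hv1, Points.ofPt_eq_map_ofScheme, Points.map_comp])
  have sqUE := IsPullback.of_hasPullback e (pullback.fst q n1)
  have hUE : IsAlgSpace (pullback e (pullback.fst q n1)) := isAlgSpace_of_isPullback hW.diag hU hW2 sqUE
  have hPUE : P (pullback.snd e (pullback.fst q n1) ≫ pullback.snd q n1) :=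
    h.baseChange hU hV hUE (IsAlgSpace.yon_obj _) (sqUE.paste_vert sqW2)
      (locP_mono (fun _ _ g (_ : Etale g) => (inferInstance : Smooth g)) hn1e) hP
  obtain ⟨ue, hue, hue'⟩ := exists_point_of_isPullback sqUE hw2.symm
  -- a chart of `X ×_Y Y0`
  obtain ⟨U1, a1, ha1e, ha1s⟩ := hX0.atlas
  obtain ⟨x1, hx1⟩ := surjective_ofPt a1 ha1s (Points.map w20 w2)
  obtain ⟨f1, hf1⟩ := (yon S).map_surjective (a1 ≫ pullback.snd f (c i))
  have sqW1 := (IsPullback.of_hasPullback f1 b1).map (yon S)
  let m0 : (yon S).obj (pullback f1 b1) ⟶ pullback q n1 :=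
    sqw20.lift ((yon S).map (pullback.fst f1 b1) ≫ a1) ((yon S).map (pullback.snd f1 b1))
      (by rw [Category.assoc, ← hf1]; exact sqW1.w)
  have sqm0 : IsPullback m0 ((yon S).map (pullback.fst f1 b1)) w20 a1 :=
    IsPullback.of_right (by rw [sqw20.lift_snd, ← hf1]; exact sqW1.flip) (sqw20.lift_fst _ _ _) sqw20.flip
  have hm0 : LocP @Etale m0 :=
    locP_of_isPullback etLocal_etale (IsAlgSpace.yon_obj _) hX0 (IsAlgSpace.yon_obj _) sqm0.flip
      (locP_of_repWith etLocal_etale (IsAlgSpace.yon_obj _) ha1e)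
  obtain ⟨w1, hw1, hw1'⟩ := exists_point_of_isPullback sqm0
    (show Points.map w20 w2 = Points.map a1 (Points.ofScheme _ x1) by
      rw [← hx1, Points.ofPt_eq_map_ofScheme])
  have sqUW := IsPullback.of_hasPullback (pullback.snd e (pullback.fst q n1)) m0
  have hUW : IsAlgSpace (pullback (pullback.snd e (pullback.fst q n1)) m0) :=
    isAlgSpace_of_isPullback hW2.diag hUE (IsAlgSpace.yon_obj _) sqUW
  have hse : LocP @Etale (pullback.snd e (pullback.fst q n1)) :=
    locP_of_isPullback etLocal_etale hU hW hUE sqUE he'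
  obtain ⟨uw, huw, huw'⟩ := exists_point_of_isPullback sqUW (hue'.trans hw1.symm)
  obtain ⟨U2, a3, ha3e, ha3s⟩ := hUW.atlas
  obtain ⟨u2, hu2⟩ := surjective_ofPt a3 ha3s uw
  obtain ⟨e2, he2⟩ := (yon S).map_surjective (a3 ≫ pullback.snd (pullback.snd e (pullback.fst q n1)) m0)
  have hae : LocP @Etale a3 := locP_of_repWith etLocal_etale (IsAlgSpace.yon_obj _) ha3e
  have he2E : Etale e2.left := by
    rw [← isEtaleMor_yon_map_iff, he2, isEtaleMor_iff_locP etLocal_etale (IsAlgSpace.yon_obj _) (IsAlgSpace.yon_obj _)]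
    exact locP_comp etLocal_etale (IsAlgSpace.yon_obj _) hUW (IsAlgSpace.yon_obj _) hae
      (locP_of_isPullback etLocal_etale hUE hW2 hUW sqUW hse)
  have hP2 : Q P (e2 ≫ pullback.snd f1 b1) := by
    have h1 : (yon S).map (e2 ≫ pullback.snd f1 b1) =
        (a3 ≫ pullback.fst _ m0) ≫ pullback.snd e (pullback.fst q n1) ≫ pullback.snd q n1 := by
      rw [Functor.map_comp, he2, ← sqw20.lift_snd ((yon S).map (pullback.fst f1 b1) ≫ a1)
        ((yon S).map (pullback.snd f1 b1)) (by rw [Category.assoc, ← hf1]; exact sqW1.w)]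
      simp only [Category.assoc]
      rw [reassoc_of% sqUW.w]
    show P _
    rw [h1]
    exact h.precomp (IsAlgSpace.yon_obj _) hUE (IsAlgSpace.yon_obj _) _ _
      ((isEtaleMor_iff_locP etLocal_etale (IsAlgSpace.yon_obj _) hUE _).2
        (locP_comp etLocal_etale (IsAlgSpace.yon_obj _) hUW hUE hae
          (locP_of_isPullback etLocal_etale (IsAlgSpace.yon_obj _) hW2 hUW sqUW.flip hm0))) hPUE
  obtain ⟨O, j, hj, ⟨t, ht⟩, hPO⟩ := h.sch_exists_open f1 b1 e2 hP2 u2
  refine ⟨O, (yon S).map j ≫ a1 ≫ pullback.fst f (c i), ?_, ?_, ?_⟩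
  · exact RepWith.comp ((repWith_yon_map_iff (P := @Etale) j).2 inferInstance)
      (RepWith.comp ha1e (RepWith.baseChange sqX0.flip (hce i)))
  · refine ⟨t, ?_⟩
    rw [ofPt_map, ht, ← ofPt_map, Points.ofPt_eq_map_ofScheme, Functor.map_comp, he2]
    simp only [Category.assoc, Points.map_comp]
    rw [← Points.ofPt_eq_map_ofScheme a3, hu2, huw', hw1', ← Points.ofPt_eq_map_ofScheme a1, hx1,
      ← Points.map_comp w20, sqX0.lift_fst, Points.map_comp, hw2]
  · rw [Category.assoc, Category.assoc, sqX0.w, reassoc_of% hf1.symm, ← Category.assoc, ← Functor.map_comp]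
    exact h.postEtale_space _ hY _ (hce i) hPO

/-- the main theorem -/
theorem isEtaleSmoothLocalST (h : EtSmLocal P) : IsEtaleSmoothLocalST P where
  precomp X Y Z hX hY hZ f g hf hg := h.precomp hX hY hZ f g hf hg
  baseChange X Y X' Y' hX hY hX' hY' f g f' g' sq hg hf := h.baseChange hX hY hX' hY' sq hg hf
  locality X Y hX hY f := by
    refine ⟨fun hf x => ⟨Y, X, X, 𝟙 Y, 𝟙 X, f, 𝟙 X, x, hY, hX, hX, locP_smooth_id hY,
      IsPullback.of_horiz_isIso ⟨by simp⟩, isEtaleMor_id hX,
      by rw [Category.comp_id]; exact Points.map_id x, by rw [Category.id_comp]; exact hf⟩, fun H => ?_⟩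
    obtain ⟨U₀, p₀, -, hp⟩ := hX.atlas
    have key : ∀ t : U₀.left, ∃ (O : Over S) (o : (yon S).obj O ⟶ X), RepWith @Etale o ∧
        Points.ofPt p₀ t ∈ Set.range (Points.ofPt o) ∧ P (o ≫ f) := fun t => by
      obtain ⟨V, W, U, b, p, q, e, v, hV, hW, hU, hb, sq, he, hv, hP⟩ := H (Points.ofPt p₀ t)
      rw [← hv]
      exact h.exists_chart hX hY hV hW hU f b p q e hb sq he v hP
    choose O o ho hmem hPo using key
    refine ((h.source (fun t => (yon S).obj (O t)) o hX (fun t => IsAlgSpace.yon_obj _)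
      ⟨fun t => (isEtaleMor_iff_locP etLocal_etale (IsAlgSpace.yon_obj _) hX _).2
        (locP_of_repWith etLocal_etale (IsAlgSpace.yon_obj _) (ho t)), fun x => ?_⟩) f hY).2 hPo
    obtain ⟨t, rfl⟩ := surjective_ofPt p₀ hp x
    obtain ⟨z, hz⟩ := hmem t
    exact ⟨t, Points.ofScheme _ z, by rw [← hz, Points.ofPt_eq_map_ofScheme]⟩

end EtSmLocal

end Groth.Agent.AlgSpLib
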