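import Groth.Agent.AlgSpLib.LocPMore
import Groth.Agent.AlgSpLib.EtLocalInst
import Groth.Agent.AlgSpLib.PointsTop
import Groth.Prelude.Def_AlgSpCov

/-!
Formal properties of properties of morphisms of algebraic spaces which are (etale-)smooth local on
source and target.
-/

universe u

open CategoryTheory CategoryTheory.Limits AlgebraicGeometry
open AlgSp

noncomputable section

namespace Groth.Agent.AlgSpLib

set_option backward.isDefEq.respectTransparency.types false

variable {S : Scheme.{u}} {X Y Z : Sp S} {P : MorphismProperty (Sp S)}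

theorem locP_smooth_id (hX : IsAlgSpace X) : LocP @Smooth (𝟙 X) := locP_id etLocal_smooth hX

theorem isEtaleMor_id (hX : IsAlgSpace X) : IsEtaleMor (𝟙 X) :=
  (isEtaleMor_iff_locP etLocal_etale hX hX _).2 (locP_id etLocal_etale hX)

theorem surjective_id (X : Sp S) : IsSurjectiveMor (𝟙 X) := fun x => ⟨x, Points.map_id x⟩

theorem locP_smooth_of_isEtaleMor (hX : IsAlgSpace X) (hY : IsAlgSpace Y) {f : X ⟶ Y}
    (hf : IsEtaleMor f) : LocP @Smooth f :=
  locP_mono (fun _ _ g (_ : Etale g) => (inferInstance : Smooth g))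
    ((isEtaleMor_iff_locP etLocal_etale hX hY f).1 hf)

/-! ### smooth local on source-and-target -/

theorem stLocal_source (hP : IsSmoothLocalST P) : IsLocalOnSource (IsSmCover (S := S)) P := by
  intro ι X Xi g hX hXi hc Y f hY
  refine ⟨fun hf i => hP.precomp (hXi i) hX hY (g i) f (hc.1 i) hf, fun h => ?_⟩
  refine (hP.locality hX hY f).2 fun x => ?_
  obtain ⟨i, v, hv⟩ := hc.2 x
  exact ⟨Xi i, Y, g i, 𝟙 Y, g i ≫ f, v, hXi i, hY, hc.1 i, locP_smooth_id hY,
    (Category.comp_id _).symm, hv, h i⟩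

theorem stLocal_base (hP : IsSmoothLocalST P) : IsLocalOnBase (IsSmCover (S := S)) P := by
  intro ι Y Yi g hY hYi hc X f hX Xi p q hXi sq
  refine ⟨fun hf i => hP.baseChange hX hY (hXi i) (hYi i) f (g i) (p i) (q i) (sq i) (hc.1 i) hf,
    fun h => ?_⟩
  refine (hP.locality hX hY f).2 fun x => ?_
  obtain ⟨i, y, hy⟩ := hc.2 (Points.map f x)
  obtain ⟨z, hz, -⟩ := exists_point_of_isPullback (sq i) hy.symm
  exact ⟨Xi i, Yi i, q i, g i, p i, z, hXi i, hYi i,
    locP_of_isPullback etLocal_smooth (hYi i) hY (hXi i) (sq i).flip (hc.1 i), hc.1 i, (sq i).w,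
    hz, h i⟩

theorem stLocal_postcomp (hP : IsSmoothLocalST P) (hX : IsAlgSpace X) (hY : IsAlgSpace Y)
    (hZ : IsAlgSpace Z) (f : X ⟶ Y) (g : Y ⟶ Z) (hf : P f) (hg : LocP @Smooth g) : P (f ≫ g) :=
  (hP.locality hX hZ (f ≫ g)).2 fun x => ⟨X, Y, 𝟙 X, g, f, x, hX, hY, locP_smooth_id hX, hg,
    Category.id_comp _, Points.map_id x, hf⟩

/-- the covering of `X` by the identity and one more morphism -/
theorem isCover_option {Q : MorphismProperty (Sp S)} {W : Sp S} (g : W ⟶ X) (hg : Q g)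
    (hid : Q (𝟙 X)) :
    IsCover Q (fun o : Option PUnit.{u + 1} => o.elim X fun _ => W)
      (fun o => match o with | none => 𝟙 X | some _ => g) :=
  ⟨fun o => match o with | none => hid | some _ => hg, fun x => ⟨none, x, Points.map_id x⟩⟩

theorem isSmoothLocalST_of (h1 : IsLocalOnSource (IsSmCover (S := S)) P)
    (h2 : IsLocalOnBase (IsSmCover (S := S)) P)
    (h3 : ∀ ⦃X Y Z : Sp S⦄, IsAlgSpace X → IsAlgSpace Y → IsAlgSpace Z →
      ∀ (f : X ⟶ Y) (g : Y ⟶ Z), P f → LocP @Smooth g → P (f ≫ g)) :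
    IsSmoothLocalST P where
  precomp X Y Z hX hY hZ f g hf hg := by
    have hc := isCover_option (Q := LocP @Smooth) f hf (locP_smooth_id hY)
    exact ((h1 _ _ hY (fun o => by cases o <;> assumption) hc) g hZ).1 hg (some PUnit.unit)
  baseChange X Y X' Y' hX hY hX' hY' f g f' g' sq hg hf := by
    have hc := isCover_option (Q := LocP @Smooth) g hg (locP_smooth_id hY)
    exact ((h2 _ _ hY (fun o => by cases o <;> assumption) hc) f hX
      (fun o : Option PUnit.{u + 1} => o.elim X fun _ => X')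
      (fun o => match o with | none => f | some _ => f')
      (fun o => match o with | none => 𝟙 X | some _ => g')
      (fun o => by cases o <;> assumption)
      (fun o => match o with
        | none => (show IsPullback (𝟙 X) f f (𝟙 Y) from IsPullback.of_horiz_isIso ⟨by simp⟩)
        | some _ => sq)).1 hf (some PUnit.unit)
  locality X Y hX hY f := by
    refine ⟨fun hf x => ⟨X, Y, 𝟙 X, 𝟙 Y, f, x, hX, hY, locP_smooth_id hX, locP_smooth_id hY,
      by simp, Points.map_id x, hf⟩, fun h => ?_⟩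
    obtain ⟨U₀, p₀, -, hp⟩ := hX.atlas
    choose U V a b k v hU hV ha hb w hv hk using fun t : U₀.left => h (Points.ofPt p₀ t)
    refine ((h1 U a hX hU ⟨ha, fun x => ?_⟩) f hY).2 fun t => ?_
    · obtain ⟨t, rfl⟩ := surjective_ofPt p₀ hp x
      exact ⟨t, v t, hv t⟩
    · rw [w t]
      exact h3 (hU t) (hV t) hY (k t) (b t) (hk t) (hb t)

/-! ### etale-smooth local on source-and-target -/

theorem esLocal_source (hP : IsEtaleSmoothLocalST P) : IsLocalOnSource (IsEtCover (S := S)) P := by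
  intro ι X Xi g hX hXi hc Y f hY
  refine ⟨fun hf i => hP.precomp (hXi i) hX hY (g i) f (hc.1 i) hf, fun h => ?_⟩
  refine (hP.locality hX hY f).2 fun x => ?_
  obtain ⟨i, v, hv⟩ := hc.2 x
  exact ⟨Y, X, Xi i, 𝟙 Y, 𝟙 X, f, g i, v, hY, hX, hXi i, locP_smooth_id hY,
    IsPullback.of_horiz_isIso ⟨by simp⟩, hc.1 i, by rwa [Category.comp_id], h i⟩

theorem esLocal_base (hP : IsEtaleSmoothLocalST P) : IsLocalOnBase (IsSmCover (S := S)) P := by
  intro ι Y Yi g hY hYi hc X f hX Xi p q hXi sq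
  refine ⟨fun hf i => hP.baseChange hX hY (hXi i) (hYi i) f (g i) (p i) (q i) (sq i) (hc.1 i) hf,
    fun h => ?_⟩
  refine (hP.locality hX hY f).2 fun x => ?_
  obtain ⟨i, y, hy⟩ := hc.2 (Points.map f x)
  obtain ⟨z, hz, -⟩ := exists_point_of_isPullback (sq i) hy.symm
  exact ⟨Yi i, Xi i, Xi i, g i, q i, p i, 𝟙 _, z, hYi i, hXi i, hXi i, hc.1 i, sq i,
    isEtaleMor_id (hXi i), by rwa [Category.id_comp], by rw [Category.id_comp]; exact h i⟩

/-- a section of an etale morphism is etale -/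
theorem isEtaleMor_of_section {W : Sp S} (hX : IsAlgSpace X) (hW : IsAlgSpace W) {p : W ⟶ X}
    (hp : LocP @Etale p) {e : X ⟶ W} (he : e ≫ p = 𝟙 X) : IsEtaleMor e :=
  (isEtaleMor_iff_locP etLocal_etale hX hW e).2
    (locP_of_comp' etLocal_etale hX hW hX (fun A B C a b h1 h2 => by
      have : Etale (a ≫ b) := h1
      have : Etale b := h2
      exact Etale.of_comp a b) (g := p) (by rw [he]; exact locP_id etLocal_etale hX) hp)

theorem esLocal_postcomp (hP : IsEtaleSmoothLocalST P) (hX : IsAlgSpace X) (hY : IsAlgSpace Y)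
    (hZ : IsAlgSpace Z) (f : X ⟶ Y) (g : Y ⟶ Z) (hf : P f) (hg : IsEtaleMor g) : P (f ≫ g) := by
  refine (hP.locality hX hZ (f ≫ g)).2 fun x => ?_
  have sq := IsPullback.of_hasPullback (f ≫ g) g
  have hW : IsAlgSpace (pullback (f ≫ g) g) := isAlgSpace_of_isPullback hZ.diag hX hY sq
  let e : X ⟶ pullback (f ≫ g) g := sq.lift (𝟙 X) f (by simp)
  refine ⟨Y, _, X, g, _, _, e, x, hY, hW, hX, locP_smooth_of_isEtaleMor hY hZ hg, sq, ?_, ?_, ?_⟩
  · exact isEtaleMor_of_section hX hW (p := pullback.fst (f ≫ g) g)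
      (locP_of_isPullback etLocal_etale hY hZ hW sq.flip
        ((isEtaleMor_iff_locP etLocal_etale hY hZ g).1 hg)) (sq.lift_fst _ _ _)
  · rw [sq.lift_fst]; exact Points.map_id x
  · rw [sq.lift_snd]; exact hf

theorem esLocal_of_postcomp (hP : IsEtaleSmoothLocalST P) (hX : IsAlgSpace X) (hY : IsAlgSpace Y)
    (hZ : IsAlgSpace Z) (f : X ⟶ Y) (g : Y ⟶ Z) (hg : IsEtaleMor g) (h : P (f ≫ g)) : P f := by
  have sq := IsPullback.of_hasPullback (f ≫ g) g
  have hW : IsAlgSpace (pullback (f ≫ g) g) := isAlgSpace_of_isPullback hZ.diag hX hY sq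
  let e : X ⟶ pullback (f ≫ g) g := sq.lift (𝟙 X) f (by simp)
  have hq : P (pullback.snd (f ≫ g) g) := hP.baseChange hX hZ hW hY (f ≫ g) g _ _ sq
    (locP_smooth_of_isEtaleMor hY hZ hg) h
  have he : IsEtaleMor e := isEtaleMor_of_section hX hW (p := pullback.fst (f ≫ g) g)
    (locP_of_isPullback etLocal_etale hY hZ hW sq.flip
      ((isEtaleMor_iff_locP etLocal_etale hY hZ g).1 hg)) (sq.lift_fst _ _ _)
  have := hP.precomp hX hW hY e _ he hq
  rwa [sq.lift_snd] at this

end Groth.Agent.AlgSpLib
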