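import Groth.Agent.AlgSpLib.UnivBdd
import Groth.Agent.AlgSpLib.SmoothLocalST
import Groth.Agent.AlgSpLib.Bootstrap

/-!
A property which is etale local on the source, smooth local on the base and stable under
postcomposition with open immersions is stable under postcomposition with etale morphisms
(induction on the degree of a separated etale morphism).
-/

universe u

open CategoryTheory CategoryTheory.Limits AlgebraicGeometry
open AlgSp

noncomputable section

namespace Groth.Agent.AlgSpLib

set_option backward.isDefEq.respectTransparency.types false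

variable {S : Scheme.{u}} {P : MorphismProperty (Sp S)}

/-- the three hypotheses -/
structure EtSmLocal (P : MorphismProperty (Sp S)) : Prop where
  source : IsLocalOnSource (IsEtCover (S := S)) P
  base : IsLocalOnBase (IsSmCover (S := S)) P
  postOpen : ∀ ⦃X Y Z : Sp S⦄, IsAlgSpace X → IsAlgSpace Y → IsAlgSpace Z →
    ∀ (f : X ⟶ Y) (j : Y ⟶ Z), P f → RepWith @IsOpenImmersion j → P (f ≫ j)

namespace EtSmLocal

variable {X Y Z X' Y' : Sp S}

theorem precomp (h : EtSmLocal P) (hX : IsAlgSpace X) (hY : IsAlgSpace Y) (hZ : IsAlgSpace Z)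
    (f : X ⟶ Y) (g : Y ⟶ Z) (hf : IsEtaleMor f) (hg : P g) : P (f ≫ g) := by
  have hc := isCover_option (Q := IsEtaleMor) f hf (isEtaleMor_id hY)
  exact ((h.source _ _ hY (fun o => by cases o <;> assumption) hc) g hZ).1 hg (some PUnit.unit)

theorem baseChange (h : EtSmLocal P) (hX : IsAlgSpace X) (hY : IsAlgSpace Y) (hX' : IsAlgSpace X')
    (hY' : IsAlgSpace Y') {f : X ⟶ Y} {g : Y' ⟶ Y} {f' : X' ⟶ Y'} {g' : X' ⟶ X}
    (sq : IsPullback g' f' f g) (hg : LocP @Smooth g) (hf : P f) : P f' := by
  have hc := isCover_option (Q := LocP @Smooth) g hg (locP_smooth_id hY)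
  exact ((h.base _ _ hY (fun o => by cases o <;> assumption) hc) f hX
    (fun o : Option PUnit.{u + 1} => o.elim X fun _ => X')
    (fun o => match o with | none => f | some _ => f')
    (fun o => match o with | none => 𝟙 X | some _ => g')
    (fun o => by cases o <;> assumption)
    (fun o => match o with
      | none => (show IsPullback (𝟙 X) f f (𝟙 Y) from IsPullback.of_horiz_isIso ⟨by simp⟩)
      | some _ => sq)).1 hf (some PUnit.unit)

/-- the morphism of representable sheaves of `g` has `P` -/
abbrev Q (P : MorphismProperty (Sp S)) {U V : Over S} (g : U ⟶ V) : Prop := P ((yon S).map g)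

theorem sch_precomp (h : EtSmLocal P) {U V T : Over S} (e : U ⟶ V) [Etale e.left] (g : V ⟶ T)
    (hg : Q P g) : Q P (e ≫ g) := by
  rw [Q, Functor.map_comp]
  exact h.precomp (IsAlgSpace.yon_obj U) (IsAlgSpace.yon_obj V) (IsAlgSpace.yon_obj T) _ _
    ((isEtaleMor_yon_map_iff e).2 inferInstance) hg

theorem locP_smooth_yon {U V : Over S} (g : U ⟶ V) [Smooth g.left] :
    LocP @Smooth ((yon S).map g) :=
  locP_of_repWith etLocal_smooth (IsAlgSpace.yon_obj U)
    ((repWith_yon_map_iff (P := @Smooth) g).2 inferInstance)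

theorem sch_baseChange (h : EtSmLocal P) {U V U' V' : Over S} {f : U ⟶ V} {g : V' ⟶ V}
    {f' : U' ⟶ V'} {g' : U' ⟶ U} (sq : IsPullback g' f' f g) [Smooth g.left] (hf : Q P f) :
    Q P f' :=
  h.baseChange (IsAlgSpace.yon_obj U) (IsAlgSpace.yon_obj V) (IsAlgSpace.yon_obj U')
    (IsAlgSpace.yon_obj V') (sq.map (yon S)) (locP_smooth_yon g) hf

theorem sch_postOpen (h : EtSmLocal P) {U V T : Over S} (g : U ⟶ V) (j : V ⟶ T)
    [IsOpenImmersion j.left] (hg : Q P g) : Q P (g ≫ j) := by
  rw [Q, Functor.map_comp]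
  exact h.postOpen (IsAlgSpace.yon_obj U) (IsAlgSpace.yon_obj V) (IsAlgSpace.yon_obj T) _ _ hg
    ((repWith_yon_map_iff (P := @IsOpenImmersion) j).2 ‹_›)

theorem sch_source (h : EtSmLocal P) {X T : Over S} (g : X ⟶ T) {ι : Type u} (U : ι → Over S)
    (e : ∀ i, U i ⟶ X) (he : ∀ i, Etale (e i).left)
    (hs : ∀ x : ↥X.left, ∃ i, x ∈ Set.range (e i).left) (hU : ∀ i, Q P (e i ≫ g)) : Q P g := by
  refine ((h.source (fun i => (yon S).obj (U i)) (fun i => (yon S).map (e i)) (IsAlgSpace.yon_obj X)
    (fun i => IsAlgSpace.yon_obj (U i)) ⟨fun i => (isEtaleMor_yon_map_iff (e i)).2 (he i), fun p => ?_⟩)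
    _ (IsAlgSpace.yon_obj T)).2 fun i => ?_
  · obtain ⟨i, u, hu⟩ := hs (Points.toScheme X p)
    refine ⟨i, Points.ofScheme _ u, ?_⟩
    rw [map_yon_map_ofScheme, hu, Points.ofScheme_toScheme]
  · have := hU i
    rwa [Q, Functor.map_comp] at this

theorem sch_empty (h : EtSmLocal P) {X T : Over S} (g : X ⟶ T) [IsEmpty ↥X.left] : Q P g :=
  h.sch_source g (ι := PEmpty.{u + 1}) (fun i => i.elim) (fun i => i.elim) (fun i => i.elim)
    (fun x => (IsEmpty.false x).elim) (fun i => i.elim)

/-- geometric fibres have at most `n` points -/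
def DegB {V T : Scheme.{u}} (g : V ⟶ T) (n : ℕ) : Prop :=
  ∀ (K : Type u) [Field K] [IsAlgClosed K] (σ : Spec (CommRingCat.of K) ⟶ T),
    ENat.card ↥(pullback g σ) ≤ n

theorem isEmpty_of_degB_zero {V T : Scheme.{u}} {g : V ⟶ T} (hn : DegB g 0) : IsEmpty ↥V := by
  refine ⟨fun v => ?_⟩
  let σ := Spec.map (CommRingCat.ofHom (algebraMap (V.residueField v) (AlgebraicClosure (V.residueField v)))) ≫
    V.fromSpecResidueField v
  obtain ⟨z, -⟩ : ∃ z : ↥(pullback g (σ ≫ g)), True :=
    ⟨pullback.lift σ (𝟙 _) (by simp) (IsLocalRing.closedPoint _), trivial⟩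
  have h0 := hn _ (σ ≫ g)
  rw [Nat.cast_zero, nonpos_iff_eq_zero, ENat.card_eq_zero_iff_empty] at h0
  exact h0.false z

theorem exists_degB {V T : Over S} (g : V ⟶ T) [Etale g.left] [CompactSpace ↥V.left] :
    ∃ n, DegB g.left n := by
  obtain ⟨n, hn⟩ := univBdd_etale_scheme (IsAlgSpace.yon_obj T) g
  refine ⟨n, fun K _ _ σ => ?_⟩
  obtain ⟨hfin, hcard⟩ := card_le_of_degLE (degLE_of_degFibresLE_map hn σ)
  rw [ENat.card_eq_coe_natCard]
  exact_mod_cast hcard

/-- removing the diagonal lowers the degree -/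
theorem degB_compl_diag {V T : Over S} (g : V ⟶ T) (n : ℕ) (hn : DegB g.left (n + 1))
    {VV : Over S} {p q : VV ⟶ V} (sq : IsPullback p q g g)
    (d : V ⟶ VV) (hd : d ≫ p = 𝟙 V) {R : Over S} (j : R ⟶ VV)
    [IsOpenImmersion j.left] (hR : Disjoint (Set.range j.left) (Set.range d.left)) :
    DegB (j ≫ p).left n := by
  intro K _ _ σ
  have sqVV := (isPullback_left sq).flip
  -- the fibre of the first projection over `σ` is the fibre of `g` over `σ ≫ g`
  have sq1 := IsPullback.of_hasPullback p.left σ
  have sq2 := sq1.paste_horiz sqVV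
  let e := sq2.isoIsPullback _ _ (IsPullback.of_hasPullback g.left (σ ≫ g.left))
  have hfull : ENat.card ↥(pullback p.left σ) ≤ ↑(n + 1) := by
    rw [ENat.card_congr e.hom.homeomorph.toEquiv]
    exact hn K (σ ≫ g.left)
  have sqR := IsPullback.of_hasPullback (j ≫ p).left σ
  let m : pullback (j ≫ p).left σ ⟶ pullback p.left σ :=
    sq1.lift (pullback.fst _ _ ≫ j.left) (pullback.snd _ _) (by
      rw [Category.assoc, ← Over.comp_left]; exact sqR.w)
  have hm : IsOpenImmersion m := by
    have h3 : IsPullback m (pullback.fst (j ≫ p).left σ)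
        (pullback.fst p.left σ) j.left := by
      refine IsPullback.of_right ?_ (sq1.lift_fst _ _ _) sq1.flip
      rw [sq1.lift_snd, ← Over.comp_left]
      exact sqR.flip
    exact MorphismProperty.of_isPullback h3.flip ‹IsOpenImmersion j.left›
  obtain ⟨z, hz⟩ : ∃ z, z ∉ Set.range m := by
    refine ⟨sq1.lift (σ ≫ d.left) (𝟙 _) (by
      rw [Category.assoc, ← Over.comp_left, hd, Over.id_left, Category.comp_id, Category.id_comp])
      (IsLocalRing.closedPoint _), ?_⟩
    rintro ⟨r, hr⟩
    have := congrArg (pullback.fst p.left σ) hr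
    rw [← Scheme.Hom.comp_apply, ← Scheme.Hom.comp_apply, sq1.lift_fst, sq1.lift_fst,
      Scheme.Hom.comp_apply, Scheme.Hom.comp_apply] at this
    exact Set.disjoint_left.1 hR ⟨_, rfl⟩ ⟨_, this.symm⟩
  have h4 : (Set.range m).encard + 1 ≤ (↑(n + 1) : ℕ∞) := by
    rw [← Set.encard_insert_of_notMem hz]
    exact (Set.encard_le_card).trans hfull
  rw [← Set.encard_univ, ← hm.base_open.injective.injOn.encard_image, Set.image_univ]
  rw [Nat.cast_add, Nat.cast_one] at h4
  exact (ENat.add_le_add_iff_right ENat.one_ne_top).1 h4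

theorem sch_postEtale_step (h : EtSmLocal P) (n : ℕ)
    (ih : ∀ {U V T : Over S} (u : U ⟶ V) (g : V ⟶ T) [Etale g.left] [IsSeparated g.left],
      DegB g.left n → Q P u → Q P (u ≫ g))
    {U V T : Over S} (u : U ⟶ V) (g : V ⟶ T) [Etale g.left] [IsSeparated g.left] [Surjective g.left]
    (hn : DegB g.left (n + 1)) (hu : Q P u) : Q P (u ≫ g) := by
  have sqU := IsPullback.of_hasPullback (u ≫ g) g
  have sqV := IsPullback.of_hasPullback g g
  -- it is enough to treat the base change to `V`
  suffices hk : Q P (pullback.snd (u ≫ g) g) by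
    refine ((h.base (fun _ : PUnit.{u + 1} => (yon S).obj V) (fun _ => (yon S).map g)
      (IsAlgSpace.yon_obj T) (fun _ => IsAlgSpace.yon_obj V) ⟨fun _ => locP_smooth_yon g, fun p => ?_⟩)
      _ (IsAlgSpace.yon_obj U) (fun _ => (yon S).obj (pullback (u ≫ g) g))
      (fun _ => (yon S).map (pullback.snd _ _)) (fun _ => (yon S).map (pullback.fst _ _))
      (fun _ => IsAlgSpace.yon_obj _) fun _ => sqU.map (yon S)).2 fun _ => hk
    obtain ⟨v, hv⟩ := g.left.surjective (Points.toScheme T p)
    exact ⟨⟨⟩, Points.ofScheme _ v, by rw [map_yon_map_ofScheme, hv, Points.ofScheme_toScheme]⟩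
  let d : V ⟶ pullback g g := sqV.lift (𝟙 V) (𝟙 V) rfl
  let s : U ⟶ pullback (u ≫ g) g := sqU.lift (𝟙 U) u (by simp)
  let mm : pullback (u ≫ g) g ⟶ pullback g g :=
    sqV.lift (pullback.fst _ _ ≫ u) (pullback.snd _ _) (by rw [Category.assoc]; exact sqU.w)
  have hd : d ≫ pullback.fst g g = 𝟙 V := sqV.lift_fst _ _ _
  have hd' : d ≫ pullback.snd g g = 𝟙 V := sqV.lift_snd _ _ _
  have hmm : mm ≫ pullback.snd g g = pullback.snd (u ≫ g) g := sqV.lift_snd _ _ _
  have hs : s ≫ pullback.snd (u ≫ g) g = u := sqU.lift_snd _ _ _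
  have hsf : Etale (pullback.fst g g).left :=
    MorphismProperty.of_isPullback (isPullback_left sqV).flip ‹Etale g.left›
  have hsep : IsSeparated (pullback.fst g g).left :=
    MorphismProperty.of_isPullback (isPullback_left sqV).flip ‹IsSeparated g.left›
  have hsf2 : Etale (pullback.snd g g).left :=
    MorphismProperty.of_isPullback (isPullback_left sqV) ‹Etale g.left›
  have hdc : IsClosedImmersion d.left := by
    have : IsClosedImmersion (d.left ≫ (pullback.fst g g).left) := by
      rw [← Over.comp_left, hd, Over.id_left]; infer_instance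
    exact IsClosedImmersion.of_comp d.left (pullback.fst g g).left
  -- the complement of the diagonal
  let Ro : (pullback g g).left.Opens := ⟨(Set.range d.left)ᶜ, hdc.base_closed.isClosed_range.isOpen_compl⟩
  let R : Over S := Over.mk (Ro.ι ≫ (pullback g g).hom)
  let j : R ⟶ pullback g g := Over.homMk Ro.ι rfl
  have hj : IsOpenImmersion j.left := inferInstanceAs (IsOpenImmersion Ro.ι)
  have hjr : Set.range j.left = (Set.range d.left)ᶜ := Ro.range_ι
  have hRe : Etale (j ≫ pullback.fst g g).left := inferInstanceAs (Etale (j.left ≫ (pullback.fst g g).left))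
  have hRs : IsSeparated (j ≫ pullback.fst g g).left :=
    inferInstanceAs (IsSeparated (j.left ≫ (pullback.fst g g).left))
  have hRn : DegB (j ≫ pullback.fst g g).left n :=
    degB_compl_diag g n hn sqV d hd j (by rw [hjr]; exact disjoint_compl_left)
  have hRe2 : Etale (j ≫ pullback.snd g g).left := inferInstanceAs (Etale (j.left ≫ (pullback.snd g g).left))
  have hRs2 : IsSeparated (j ≫ pullback.snd g g).left := by
    have : IsSeparated (pullback.snd g g).left :=
      MorphismProperty.of_isPullback (isPullback_left sqV) ‹IsSeparated g.left›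
    exact inferInstanceAs (IsSeparated (j.left ≫ (pullback.snd g g).left))
  have hRn2 : DegB (j ≫ pullback.snd g g).left n :=
    degB_compl_diag g n hn sqV.flip d hd' j (by rw [hjr]; exact disjoint_compl_left)
  -- the two pieces of the pullback
  have sqm : IsPullback (pullback.fst (u ≫ g) g) mm u (pullback.fst g g) :=
    IsPullback.of_bot (by rw [hmm]; exact sqU) (sqV.lift_fst _ _ _).symm sqV
  have sqR := IsPullback.of_hasPullback mm j
  have hRQ : Q P (pullback.snd mm j ≫ j ≫ pullback.snd g g) := by
    refine ih _ _ hRn2 (h.sch_baseChange (g := j ≫ pullback.fst g g) (g' := pullback.fst mm j ≫ pullback.fst (u ≫ g) g) ?_ hu)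
    exact (sqR.paste_horiz sqm)
  have hd3 : IsPullback s u mm d := by
    refine IsPullback.of_right (h₁₂ := pullback.fst (u ≫ g) g) (h₂₂ := pullback.fst g g)
      (v₁₃ := u) ?_ ?_ sqm
    · rw [sqU.lift_fst, hd]; exact IsPullback.of_horiz_isIso ⟨by simp⟩
    · exact sqV.hom_ext (by rw [Category.assoc, sqm.w.symm, ← Category.assoc, sqU.lift_fst, Category.id_comp,
        Category.assoc, hd, Category.comp_id]) (by rw [Category.assoc, hmm, hs, Category.assoc, hd', Category.comp_id])
  have hse : Etale s.left := by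
    have : Etale (s.left ≫ (pullback.fst (u ≫ g) g).left) := by
      rw [← Over.comp_left, sqU.lift_fst, Over.id_left]; infer_instance
    have : Etale (pullback.fst (u ≫ g) g).left :=
      MorphismProperty.of_isPullback (isPullback_left sqU).flip ‹Etale g.left›
    exact Etale.of_comp s.left (pullback.fst (u ≫ g) g).left
  let piece : Option PUnit.{u + 1} → Over S := fun o => o.elim U fun _ => pullback mm j
  refine h.sch_source _ piece
    (fun o => match o with | none => s | some _ => pullback.fst mm j) (fun o => ?_) (fun x => ?_)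
    (fun o => ?_)
  · rcases o with _ | _
    · exact hse
    · exact MorphismProperty.of_isPullback (isPullback_left sqR).flip (show Etale j.left from inferInstance)
  · by_cases hx : mm.left x ∈ Set.range d.left
    · obtain ⟨v, hv⟩ := hx
      obtain ⟨a, ha, -⟩ := Scheme.exists_preimage_of_isPullback (isPullback_left hd3) x v hv.symm
      exact ⟨none, a, ha⟩
    · obtain ⟨r, hr⟩ : mm.left x ∈ Set.range j.left := by rw [hjr]; exact hx
      obtain ⟨a, ha, -⟩ := Scheme.exists_preimage_of_isPullback (isPullback_left sqR) x r hr.symm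
      exact ⟨some ⟨⟩, a, ha⟩
  · rcases o with _ | _
    · show Q P (s ≫ _)
      rw [hs]; exact hu
    · show Q P (pullback.fst mm j ≫ _)
      rw [← hmm, ← Category.assoc, sqR.w, Category.assoc]
      exact hRQ

theorem sch_postEtale_aux (h : EtSmLocal P) (n : ℕ) : ∀ {U V T : Over S} (u : U ⟶ V) (g : V ⟶ T)
    [Etale g.left] [IsSeparated g.left], DegB g.left n → Q P u → Q P (u ≫ g) := by
  induction n with
  | zero =>
    intro U V T u g _ _ hn _
    have := isEmpty_of_degB_zero hn
    have : IsEmpty ↥U.left := Function.isEmpty u.left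
    exact h.sch_empty _
  | succ n ih =>
    intro U V T u g _ _ hn hu
    -- the image of `g`
    let Wo : T.left.Opens := ⟨Set.range g.left, g.left.isOpenMap.isOpen_range⟩
    let W : Over S := Over.mk (Wo.ι ≫ T.hom)
    let i : W ⟶ T := Over.homMk Wo.ι rfl
    have hr : Set.range g.left ⊆ Set.range Wo.ι := by rw [Scheme.Opens.range_ι]; exact le_rfl
    let g' : V ⟶ W := Over.homMk (IsOpenImmersion.lift Wo.ι g.left hr) (by
      show _ ≫ Wo.ι ≫ T.hom = V.hom
      rw [IsOpenImmersion.lift_fac_assoc]; exact Over.w g)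
    have hfac : g' ≫ i = g := Over.OverMorphism.ext (IsOpenImmersion.lift_fac _ _ hr)
    have : IsOpenImmersion i.left := inferInstanceAs (IsOpenImmersion Wo.ι)
    have hcomp : g'.left ≫ i.left = g.left := by rw [← Over.comp_left, hfac]
    have : Etale g'.left := by
      have : Etale (g'.left ≫ i.left) := hcomp ▸ inferInstance
      exact Etale.of_comp g'.left i.left
    have : IsSeparated g'.left := by
      have : IsSeparated (g'.left ≫ i.left) := hcomp ▸ inferInstance
      exact IsSeparated.of_comp g'.left i.left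
    have : Surjective g'.left := ⟨fun w => by
      obtain ⟨v, hv⟩ := w.2
      exact ⟨v, i.left.injective (by rw [← Scheme.Hom.comp_apply, hcomp]; exact hv)⟩⟩
    have hn' : DegB g'.left (n + 1) := fun K _ _ σ => by
      have sq : IsPullback (pullback.fst g'.left σ) (pullback.snd g'.left σ) g.left (σ ≫ i.left) := by
        rw [← hcomp]
        exact IsPullback.of_isLimit (pullbackIsPullbackOfCompMono g'.left σ i.left)
      rw [ENat.card_congr (sq.isoIsPullback _ _ (IsPullback.of_hasPullback g.left (σ ≫ i.left))).hom.homeomorph.toEquiv]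
      exact hn K _
    rw [← hfac, ← Category.assoc]
    exact h.sch_postOpen _ i (h.sch_postEtale_step n ih u g' hn' hu)

/-- postcomposition with a separated etale morphism -/
theorem sch_postEtale (h : EtSmLocal P) {U V T : Over S} (u : U ⟶ V) (g : V ⟶ T)
    [Etale g.left] [IsSeparated g.left] (hu : Q P u) : Q P (u ≫ g) := by
  choose O hO hv _ using fun v : ↥V.left => exists_isAffineOpen_mem_and_subset (x := v) (U := ⊤) trivial
  let jv : ∀ v, Over.mk ((O v).ι ≫ V.hom) ⟶ V := fun v => Over.homMk (O v).ι rfl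
  have hje : ∀ v, Etale (jv v).left := fun v => inferInstanceAs (Etale (O v).ι)
  have sq := fun v => IsPullback.of_hasPullback u (jv v)
  refine h.sch_source _ (fun v => pullback u (jv v)) (fun v => pullback.fst u (jv v))
    (fun v => MorphismProperty.of_isPullback (isPullback_left (sq v)).flip (hje v)) (fun x => ?_) fun v => ?_
  · obtain ⟨a, ha, -⟩ := Scheme.exists_preimage_of_isPullback (isPullback_left (sq (u.left x))) x
      (⟨u.left x, hv _⟩ : O (u.left x)) rfl
    exact ⟨_, a, ha⟩
  · rw [← Category.assoc, (sq v).w, Category.assoc]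
    have := hje v
    have : Etale (jv v ≫ g).left := inferInstanceAs (Etale ((jv v).left ≫ g.left))
    have : IsSeparated (jv v ≫ g).left := inferInstanceAs (IsSeparated ((O v).ι ≫ g.left))
    have : CompactSpace ↥(Over.mk ((O v).ι ≫ V.hom)).left := isCompact_iff_compactSpace.mp (hO v).isCompact
    obtain ⟨n, hn⟩ := exists_degB (jv v ≫ g)
    exact h.sch_postEtale_aux n _ _ hn (h.sch_baseChange (sq v) hu)

end EtSmLocal

end Groth.Agent.AlgSpLib
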