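import Mathlib.LinearAlgebra.Contraction
import Mathlib.RingTheory.IsTensorProduct
import Mathlib.Algebra.Category.Ring.Constructions
import Mathlib.RingTheory.Finiteness.Projective
import Mathlib.RingTheory.TensorProduct.Finite
import Mathlib.RingTheory.Flat.Basic

/-!
The affine quotient by a finite etale equivalence relation: rings.
-/

universe u

open CategoryTheory TensorProduct

noncomputable section

namespace Groth.Agent.AlgSpLib

section trace

variable (A B : Type u) [CommRing A] [CommRing B] [Algebra A B] [Module.Finite A B] [Module.Projective A B]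

/-- the trace of a finite projective algebra -/
def projTrace : B →ₗ[A] A :=
  contractLeft A B ∘ₗ (dualTensorHomEquiv A B B).symm.toLinearMap ∘ₗ (Algebra.lmul A B).toLinearMap

variable {A B}

theorem projTrace_eq (z : B) (τ : Module.Dual A B ⊗[A] B) (h : ∀ x, dualTensorHom A B B τ x = z * x) :
    projTrace A B z = contractLeft A B τ := by
  have : (dualTensorHomEquiv A B B).symm ((Algebra.lmul A B).toLinearMap z) = τ := by
    rw [LinearEquiv.symm_apply_eq]
    exact LinearMap.ext fun x => (h x).symm
  simp only [projTrace, LinearMap.comp_apply, LinearEquiv.coe_coe, this]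

theorem exists_dual_basis : ∃ (n : ℕ) (φ : Fin n → Module.Dual A B) (m : Fin n → B),
    ∀ x, ∑ i, φ i x • m i = x := by
  obtain ⟨n, f, g, -, -, h⟩ := Module.Finite.exists_comp_eq_id_of_projective A B
  refine ⟨n, fun i => (LinearMap.proj i).comp g, fun i => f (Pi.single i 1), fun x => ?_⟩
  have hx : g x = ∑ i, g x i • (Pi.single i 1 : Fin n → A) := pi_eq_sum_univ' _
  conv_rhs => rw [← show f (g x) = x from LinearMap.congr_fun h x, hx, map_sum]
  simp

/-- the trace of a section component -/
theorem projTrace_of_idempotent (e : B →+* A) (he : ∀ a, e (algebraMap A B a) = a) {ε : B}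
    (h : ∀ z, ε * z = ε * algebraMap A B (e z)) (hε : e ε = 1) (z : B) :
    projTrace A B (ε * z) = e z := by
  let φ : Module.Dual A B :=
    { toFun := fun x => e (z * x)
      map_add' := fun x y => by rw [mul_add, map_add]
      map_smul' := fun a x => by
        rw [Algebra.smul_def, mul_left_comm, map_mul, he, RingHom.id_apply, smul_eq_mul] }
  rw [projTrace_eq (ε * z) (φ ⊗ₜ ε) fun x => ?_]
  · show e (z * ε) = e z
    rw [map_mul, hε, mul_one]
  · rw [dualTensorHom_apply, mul_assoc, h, Algebra.smul_def]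
    exact mul_comm _ _

variable {A' B' : Type u} [CommRing A'] [CommRing B'] [Algebra A' B'] [Algebra A A'] [Algebra A B']
  [IsScalarTower A A' B']

theorem finite_of_isBaseChange (σ : B →ₐ[A] B') (h : IsBaseChange A' σ.toLinearMap) :
    Module.Finite A' B' ∧ Module.Projective A' B' :=
  ⟨Module.Finite.equiv h.equiv, Module.Projective.of_equiv h.equiv⟩

/-- the trace commutes with base change -/
theorem projTrace_baseChange (σ : B →ₐ[A] B') (h : IsBaseChange A' σ.toLinearMap)
    [Module.Finite A' B'] [Module.Projective A' B'] (z : B) :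
    projTrace A' B' (σ z) = algebraMap A A' (projTrace A B z) := by
  obtain ⟨n, φ, m, hm⟩ := exists_dual_basis (A := A) (B := B)
  let φ' : Fin n → Module.Dual A' B' := fun i => h.lift ((Algebra.linearMap A A').comp (φ i))
  rw [projTrace_eq z (∑ i, φ i ⊗ₜ[A] (z * m i)) fun x => ?_,
    projTrace_eq (σ z) (∑ i, φ' i ⊗ₜ[A'] σ (z * m i)) fun x => ?_]
  · simp only [map_sum, contractLeft_apply]
    exact Finset.sum_congr rfl fun i _ => IsBaseChange.lift_eq h _ _
  · refine LinearMap.congr_fun (h.algHom_ext (dualTensorHom A' B' B' _) (Algebra.lmul A' B' (σ z))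
      fun x => ?_) x
    have e : ∀ i, φ' i (σ x) = algebraMap A A' (φ i x) := fun i => IsBaseChange.lift_eq h _ x
    show dualTensorHom A' B' B' _ (σ x) = σ z * σ x
    simp only [map_sum, LinearMap.sum_apply, dualTensorHom_apply, e, algebraMap_smul]
    simp only [← map_smul, ← map_sum, ← map_mul]
    congr 1
    conv_rhs => rw [← hm x, Finset.mul_sum]
    simp
  · simp only [map_sum, LinearMap.sum_apply, dualTensorHom_apply]
    conv_rhs => rw [← hm x, Finset.mul_sum]
    simp

end trace

/-- the trace of a base change along a pushout square -/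
theorem exists_trace_of_isPushout {A B B' P : CommRingCat.{u}} (t : A ⟶ B) (ρ : A ⟶ B')
    (i : B' ⟶ P) (σ : B ⟶ P) (h : IsPushout ρ t i σ) (htf : t.hom.Finite)
    (htp : letI := t.hom.toAlgebra; Module.Projective A B) :
    letI := t.hom.toAlgebra
    letI := i.hom.toAlgebra
    haveI : Module.Finite A B := htf
    haveI : Module.Projective A B := htp
    ∃ (_ : Module.Finite B' P) (_ : Module.Projective B' P),
      ∀ z, projTrace B' P (σ z) = ρ (projTrace A B z) := by
  letI := t.hom.toAlgebra
  letI := i.hom.toAlgebra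
  letI := ρ.hom.toAlgebra
  letI := σ.hom.toAlgebra
  letI : Algebra A P := (ρ ≫ i).hom.toAlgebra
  haveI : Module.Finite A B := htf
  haveI : Module.Projective A B := htp
  haveI : IsScalarTower A B' P := IsScalarTower.of_algebraMap_eq fun _ => rfl
  haveI : IsScalarTower A B P := IsScalarTower.of_algebraMap_eq fun x =>
    congrArg (fun f => f.hom x) h.w
  have hp : Algebra.IsPushout A B' B P := CommRingCat.isPushout_iff_isPushout.mp h
  have hb : IsBaseChange B' (IsScalarTower.toAlgHom A B P).toLinearMap := hp.out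
  obtain ⟨h1, h2⟩ := finite_of_isBaseChange _ hb
  exact ⟨h1, h2, fun z => projTrace_baseChange (IsScalarTower.toAlgHom A B P) hb z⟩

/-- finite projectivity of the ring over the invariants of a finite etale equivalence relation -/
theorem invariants_of_etale_eqvRel {A B P : CommRingCat.{u}} (s t : A ⟶ B) (e : B ⟶ A)
    (hes : s ≫ e = 𝟙 A) (het : t ≫ e = 𝟙 A) (ε : B) (hε : e ε = 1) (hεz : ∀ z, ε * z = ε * t (e z))
    {n : ℕ} (x y : Fin n → A) (hxy : ε = ∑ i, s (x i) * t (y i))
    (hgen : Subring.closure (Set.range s ∪ Set.range t) = ⊤)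
    (htf : t.hom.Finite) (htp : letI := t.hom.toAlgebra; Module.Projective A B)
    (i₁ i₂ c : B ⟶ P) (h₁ : IsPushout s t i₁ i₂) (h₂ : IsPushout t t i₁ c) (hc : s ≫ c = s ≫ i₂) :
    let C := s.hom.eqLocus t.hom
    Module.Finite C A ∧ Module.Projective C A ∧
      ∃ μ : A ⊗[C] A ≃+* B, ∀ a b, μ (a ⊗ₜ b) = s a * t b := by
  intro C
  letI := t.hom.toAlgebra
  letI := i₁.hom.toAlgebra
  haveI : Module.Finite A B := htf
  haveI : Module.Projective A B := htp
  obtain ⟨_, _, k₁⟩ := exists_trace_of_isPushout t s i₁ i₂ h₁ htf htp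
  obtain ⟨_, _, k₂⟩ := exists_trace_of_isPushout t t i₁ c h₂ htf htp
  let τ := projTrace A B
  have hinv : ∀ a, s (τ (s a)) = t (τ (s a)) := fun a => by
    rw [← k₁, ← k₂]
    exact congrArg _ (congrArg (fun f => f.hom a) hc).symm
  have hτt : ∀ z b, τ (z * t b) = τ z * b := fun z b => by
    have : z * t b = b • z := by
      rw [Algebra.smul_def, mul_comm]
      rfl
    rw [this, map_smul, smul_eq_mul, mul_comm]
  have hes' : ∀ a, e (s a) = a := fun a => congrArg (fun f => f.hom a) hes
  have het' : ∀ a, e (t a) = a := fun a => congrArg (fun f => f.hom a) het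
  have hτε : ∀ z, τ (ε * z) = e z := fun z => projTrace_of_idempotent e.hom het' hεz hε z
  let ψ : Fin n → A →ₗ[C] C := fun i =>
    { toFun := fun a => ⟨τ (s (a * x i)), hinv _⟩
      map_add' := fun a b => Subtype.ext (by simp [add_mul])
      map_smul' := fun k a => Subtype.ext (by
        show τ (s ((k : A) * a * x i)) = (k : A) * τ (s (a * x i))
        rw [mul_assoc, map_mul, show s (k : A) = t (k : A) from k.2, mul_comm, hτt, mul_comm]) }
  have hrec : ∀ a, ∑ i, (ψ i a : A) * y i = a := fun a => by
    show ∑ i, τ (s (a * x i)) * y i = a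
    simp only [← hτt, ← map_sum, map_mul, mul_assoc]
    rw [← Finset.mul_sum, ← hxy, mul_comm, hτε, hes']
  let g : (Fin n → C) →ₗ[C] A := Fintype.linearCombination C y
  let f : A →ₗ[C] (Fin n → C) := LinearMap.pi ψ
  have hgf : g ∘ₗ f = LinearMap.id := LinearMap.ext fun a => by
    simp [g, f, Fintype.linearCombination_apply, Subring.smul_def, hrec]
  refine ⟨Module.Finite.of_surjective g fun a => ⟨f a, LinearMap.congr_fun hgf a⟩,
    Module.Projective.of_split f g hgf, ?_⟩
  letI : Algebra C B := (s.hom.comp C.subtype).toAlgebra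
  let sA : A →ₐ[C] B := { s.hom with commutes' := fun _ => rfl }
  let tA : A →ₐ[C] B := { t.hom with commutes' := fun k => k.2.symm }
  let μ : A ⊗[C] A →ₐ[C] B := Algebra.TensorProduct.lift sA tA fun _ _ => Commute.all _ _
  have hμ : ∀ a b, μ (a ⊗ₜ b) = s a * t b := fun a b => Algebra.TensorProduct.lift_tmul _ _ _ _ _
  let ν : B → A ⊗[C] A := fun z => ∑ i, y i ⊗ₜ τ (s (x i) * z)
  have hν : ∀ w, ν (μ w) = w := fun w => by
    induction w with
    | zero => simp [ν]
    | add v w hv hw =>
      conv_rhs => rw [← hv, ← hw]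
      simp [ν, mul_add, tmul_add, Finset.sum_add_distrib]
    | tmul a b =>
      conv_rhs => rw [← hrec a, sum_tmul]
      refine Finset.sum_congr rfl fun i _ => ?_
      rw [hμ, ← mul_assoc, ← map_mul, mul_comm (x i), hτt]
      exact (smul_tmul (ψ i a) (y i) b).symm
  refine ⟨RingEquiv.ofBijective μ ⟨Function.LeftInverse.injective hν, fun z => ?_⟩, hμ⟩
  have hle : Subring.closure (Set.range s ∪ Set.range t) ≤ μ.toRingHom.range := Subring.closure_le.2 (by
    rintro w (⟨a, rfl⟩ | ⟨b, rfl⟩)
    · exact ⟨a ⊗ₜ 1, by simp [hμ]⟩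
    · exact ⟨1 ⊗ₜ b, by simp [hμ]⟩)
  exact hle (by rw [hgen]; trivial)

end Groth.Agent.AlgSpLib
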