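import Groth.Prelude.Def_AlgSpRep
import Groth.Agent.AlgSpLib.Descent
import Mathlib.AlgebraicGeometry.Sites.Etale

/-!
The etale topology on schemes over `S`, and descent of maps out of an etale-locally surjective map.
-/

set_option autoImplicit false

universe u

open CategoryTheory CategoryTheory.Limits AlgebraicGeometry Opposite
open AlgSp

noncomputable section

namespace Groth.Agent.AlgSpLib

variable {S : Scheme.{u}}

/-- The big etale topology over `S`. -/
abbrev Ket (S : Scheme.{u}) : GrothendieckTopology (Over S) := QuotSh.J Scheme.etalePrecoverage S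

theorem mem_ket_of_family {T : Over S} {ι : Type u} (Z : ι → Over S) (f : ∀ i, Z i ⟶ T)
    (hf : ∀ i, Etale (f i).left) (hs : ∀ t : T.left, ∃ i z, (f i).left z = t) {R : Sieve T} (hR : ∀ i, R (f i)) :
    R ∈ Ket S T := by
  show Sieve.overEquiv T R ∈ Scheme.etalePrecoverage.toGrothendieck T.left
  refine GrothendieckTopology.superset_covering _ ?_ (Precoverage.generate_mem_toGrothendieck
    (R := Presieve.ofArrows _ fun i => (f i).left)
    ((Scheme.ofArrows_mem_precoverage_iff (P := @Etale)).2 ⟨hs, hf⟩))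
  rw [Sieve.generate_le_iff]
  rintro _ _ ⟨i⟩
  show (Sieve.overEquiv T R).arrows (f i).left
  rw [Sieve.overEquiv_iff]
  have e : (Over.homMk (f i).left : Over.mk ((f i).left ≫ T.hom) ⟶ T) =
      (Over.homMk (𝟙 (Z i).left) ((Category.id_comp _).trans (Over.w (f i)).symm) :
        Over.mk ((f i).left ≫ T.hom) ⟶ Z i) ≫ f i := Over.OverMorphism.ext (Category.id_comp _).symm
  rw [e]
  exact R.downward_closed (hR i) _

theorem ket_le_J : Ket S ≤ J S := by
  intro T R hR
  have h : (Scheme.etalePrecoverage : Precoverage Scheme.{u}) ≤ Scheme.fppfPrecoverage :=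
    Scheme.precoverage_mono fun _ _ f (_ : Etale f) => ⟨inferInstance, inferInstance⟩
  exact Precoverage.toGrothendieck_mono h _ hR

theorem isSheaf_ket_of_sheaf (F : Sp S) : Presheaf.IsSheaf (Ket S) F.obj :=
  (isSheaf_iff_isSheaf_of_type _ _).2
    (Presieve.isSheaf_of_le F.obj ket_le_J ((isSheaf_iff_isSheaf_of_type _ _).1 F.property))

/-- Sections in the same `p`-fibre go to the same section. -/
def FibreLE {P F Q : PSp S} (p : P ⟶ F) (π : P ⟶ Q) : Prop :=
  ∀ (T : Over S) (u v : P.obj (op T)), p.app _ u = p.app _ v → π.app _ u = π.app _ v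

theorem exists_hom_of_locallySurjective {P F Q : PSp S} (p : P ⟶ F) (π : P ⟶ Q)
    (hQ : Presheaf.IsSheaf (Ket S) Q) [Presheaf.IsLocallySurjective (Ket S) p] (hpπ : FibreLE p π) :
    ∃ φ : F ⟶ Q, p ≫ φ = π := by
  have hQ' := (isSheaf_iff_isSheaf_of_type _ _).1 hQ
  have key : ∀ (T : Over S) (x : F.obj (op T)), ∃! y : Q.obj (op T), ∀ ⦃T' : Over S⦄ (f : T' ⟶ T)
      (w : P.obj (op T')), p.app _ w = F.map f.op x → π.app _ w = Q.map f.op y := by
    intro T x
    have hc : Presheaf.imageSieve p x ∈ Ket S T := Presheaf.imageSieve_mem (Ket S) p x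
    let fam : Presieve.FamilyOfElements Q (Presheaf.imageSieve p x).arrows := fun T' f hf =>
      π.app _ (Presheaf.localPreimage p x f hf)
    have hfam : fam.Compatible := by
      intro Y₁ Y₂ Z g₁ g₂ f₁ f₂ h₁ h₂ e
      show Q.map g₁.op (π.app _ _) = Q.map g₂.op (π.app _ _)
      rw [← NatTrans.naturality_apply π, ← NatTrans.naturality_apply π]
      refine hpπ Z _ _ ?_
      rw [NatTrans.naturality_apply p, NatTrans.naturality_apply p, Presheaf.app_localPreimage,
        Presheaf.app_localPreimage, ← FunctorToTypes.map_comp_apply, ← FunctorToTypes.map_comp_apply,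
        ← op_comp, ← op_comp, e]
    obtain ⟨y, hy, hu⟩ := hQ' _ hc fam hfam
    refine ⟨y, fun T' f w hw => ?_, fun y' hy' => hu y' fun T' f hf => ?_⟩
    · have hf : Presheaf.imageSieve p x f := ⟨w, hw⟩
      exact (hpπ T' _ _ (hw.trans (Presheaf.app_localPreimage p x f hf).symm)).trans (hy f hf).symm
    · exact (hy' f _ (Presheaf.app_localPreimage p x f hf)).symm
  choose φ hφ hu using key
  refine ⟨{ app := fun T => ↾(fun x => φ T.unop x), naturality := ?_ }, ?_⟩
  · intro T T' g
    ext x
    refine (hu T'.unop (F.map g x) (Q.map g (φ T.unop x)) fun T'' f w hw => ?_).symm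
    rw [← FunctorToTypes.map_comp_apply] at hw ⊢
    exact hφ T.unop x (f ≫ g.unop) w hw
  · ext T w
    exact ((hφ T.unop (p.app T w) (𝟙 _) w (by simp)).trans (by simp)).symm

/-- Two sheaves with locally surjective maps from a common source with the same fibres are isomorphic. -/
theorem exists_iso_of_locallySurjective {P F Q : PSp S} (p : P ⟶ F) (π : P ⟶ Q)
    (hF : Presheaf.IsSheaf (Ket S) F) (hQ : Presheaf.IsSheaf (Ket S) Q)
    [Presheaf.IsLocallySurjective (Ket S) p] [Presheaf.IsLocallySurjective (Ket S) π]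
    (h₁ : FibreLE p π) (h₂ : FibreLE π p) : Nonempty (F ≅ Q) := by
  obtain ⟨φ, hφ⟩ := exists_hom_of_locallySurjective p π hQ h₁
  obtain ⟨ψ, hψ⟩ := exists_hom_of_locallySurjective π p hF h₂
  have ext : ∀ {G : PSp S} (_ : Presheaf.IsSheaf (Ket S) G) {H : PSp S} (q : P ⟶ H)
      [Presheaf.IsLocallySurjective (Ket S) q] (a b : H ⟶ G), q ≫ a = q ≫ b → a = b := by
    intro G hG H q _ a b h
    ext T x
    refine (((isSheaf_iff_isSheaf_of_type _ _).1 hG) _ (Presheaf.imageSieve_mem (Ket S) q x)).isSeparatedFor.ext fun T' f hf => ?_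
    obtain ⟨w, hw⟩ := hf
    show G.map f.op (a.app T x) = G.map f.op (b.app T x)
    rw [← NatTrans.naturality_apply a, ← NatTrans.naturality_apply b, ← hw]
    exact congr($(h).app _ w)
  exact ⟨⟨φ, ψ, ext hF p _ _ (by rw [← Category.assoc, hφ, hψ, Category.comp_id]),
    ext hQ π _ _ (by rw [← Category.assoc, hψ, hφ, Category.comp_id])⟩⟩

end Groth.Agent.AlgSpLib
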