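import Groth.Agent.AlgSpLib.EtaleSheafDesc
import Groth.Agent.AlgSpLib.EqvQuot
import Groth.Agent.AlgSpLib.MonoLft
import Groth.Agent.AlgSpLib.RepBySpLemmas
import Groth.Agent.S0412
import Groth.Agent.Stk19b.Boot.Main

/-!
An etale sheaf with a smooth surjective cover representable by algebraic spaces is an algebraic space.
-/

set_option autoImplicit false
set_option backward.isDefEq.respectTransparency.types false

universe u

open CategoryTheory CategoryTheory.Limits AlgebraicGeometry Opposite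
open AlgSp

noncomputable section

namespace Groth.Agent.AlgSpLib

variable {S : Scheme.{u}}

/-- The smooth surjective morphisms. -/
abbrev smCover : MorphismProperty (Sp S) := IsSurjectiveMor ⊓ LocP @Smooth

theorem isLocallySurjective_of_smooth {F : PSp S} {U : Over S} (p : (pyon S).obj U ⟶ F)
    (hp : ∀ (T : Over S) (ξ : (pyon S).obj T ⟶ F), ∃ (W : Over S) (a : W ⟶ U) (c : W ⟶ T),
      (pyon S).map a ≫ p = (pyon S).map c ≫ ξ ∧ Smooth c.left ∧ Surjective c.left) :
    Presheaf.IsLocallySurjective (Ket S) p := by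
  refine ⟨fun {T} x => ?_⟩
  obtain ⟨W, a, c, hw, hcs, hcj⟩ := hp T (uliftYonedaEquiv.symm x)
  choose Z g z hg hgz l hl using fun t : T.left =>
    Groth.Agent.S0412.result (f := c.left) t (hcj.surj t)
  let Z' : ↥T.left → Over S := fun t => Over.mk (g t ≫ T.hom)
  let g' : ∀ t, Z' t ⟶ T := fun t => Over.homMk (g t) rfl
  refine mem_ket_of_family Z' g' hg (fun t => ⟨t, z t, hgz t⟩) fun t => ?_
  let l' : Z' t ⟶ W := Over.homMk (l t) (by
    show l t ≫ W.hom = g t ≫ T.hom
    rw [← Over.w c, ← Category.assoc, hl t])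
  have hl' : l' ≫ c = g' t := Over.OverMorphism.ext (hl t)
  refine ⟨ULift.up (l' ≫ a), ?_⟩
  have h := congr($(hw).app (op (Z' t)) (ULift.up l'))
  exact h.trans (congrArg (fun k : Z' t ⟶ T => F.map k.op x) hl')

theorem exists_lift_yon {T : Over S} {P : Sp S} (hP : IsAlgSpace P) (b : P ⟶ (yon S).obj T) (hb : smCover b) :
    ∃ (W : Over S) (w : (yon S).obj W ⟶ P) (c : W ⟶ T), w ≫ b = (yon S).map c ∧ Smooth c.left ∧
      Surjective c.left := by
  obtain ⟨W, w, hwe, hws⟩ := hP.atlas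
  obtain ⟨c, hc⟩ := (yon S).map_surjective (w ≫ b)
  refine ⟨W, w, c, hc.symm, locP_yon_map (hc ▸ ?_), (surjective_map_yon_map_iff c).1 (hc ▸ ?_)⟩
  · exact locP_comp etLocal_smooth (IsAlgSpace.yon_obj W) hP (IsAlgSpace.yon_obj T)
      (locP_of_repWith etLocal_smooth (IsAlgSpace.yon_obj W)
        (RepWith.mono (fun _ _ g (_ : Etale g) => (inferInstance : Smooth g)) hwe)) hb.2
  · intro t
    obtain ⟨y, rfl⟩ := hb.1 t
    obtain ⟨z, rfl⟩ := surjective_map_of_repWith hws y
    exact ⟨z, Points.map_comp _ _ _⟩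

theorem exists_scheme_of_fibre {U : Over S} {R : Sp S} (hR : IsAlgSpace R) (a b : R ⟶ (yon S).obj U)
    (hab : ∀ {Z : Sp S} (x y : Z ⟶ R), x ≫ a = y ≫ a → x ≫ b = y ≫ b → x = y)
    (hb : LocP @Smooth b) :
    ∃ G : Over S, Nonempty ((yon S).obj G ≅ R) := by
  let m : R ⟶ (yon S).obj U ⨯ (yon S).obj U := prod.lift a b
  have : Mono m := ⟨fun x y e => hab x y
    (by simpa [m, prod.lift_fst] using congrArg (· ≫ prod.fst) e)
    (by simpa [m, prod.lift_snd] using congrArg (· ≫ prod.snd) e)⟩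
  have hUU := isAlgSpace_prod (IsAlgSpace.yon_obj U) (IsAlgSpace.yon_obj U)
  have hml : LocP @LocallyOfFiniteType m := by
    refine locP_of_comp' (Q := ⊤) etLocal_lft hR hUU (IsAlgSpace.yon_obj U)
      (fun A B C g₁ g₂ h _ => by
        have : LocallyOfFiniteType (g₁ ≫ g₂) := h
        exact locallyOfFiniteType_of_comp g₁ g₂) (g := prod.snd) ?_ (locP_top _)
    rw [prod.lift_snd]
    exact locP_mono (fun _ _ g (_ : Smooth g) => (inferInstance : LocallyOfFiniteType g)) hb
  obtain ⟨hmr, -, -⟩ := mono_lft_package hR hUU hml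
  let γ : (yon S).obj (U ⨯ U) ⟶ (yon S).obj U ⨯ (yon S).obj U := prodComparison (yon S) U U
  have : IsIso (hmr.fst γ) := (hmr.isPullback γ).isIso_fst_of_isIso
  exact ⟨hmr.pullback γ, ⟨asIso (hmr.fst γ)⟩⟩

/-- The scheme case. -/
theorem isAlgSpaceP_of_etale_sheaf_smooth_cover {F : PSp S} (hF : Presheaf.IsSheaf (Ket S) F) {U : Over S}
    (p : (pyon S).obj U ⟶ F) (hp : RepBySpWith smCover p) : IsAlgSpaceP F := by
  obtain ⟨hs, hR, hq⟩ := hp p _ _ (IsPullback.of_hasPullback p p)
  let R : Sp S := ⟨pullback p p, hs⟩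
  let a : R ⟶ (yon S).obj U := ObjectProperty.homMk (pullback.fst p p)
  let b : R ⟶ (yon S).obj U := ObjectProperty.homMk (pullback.snd p p)
  obtain ⟨hs', -, hq'⟩ := hp p _ _ (IsPullback.of_hasPullback p p).flip
  obtain ⟨G, ⟨e⟩⟩ := exists_scheme_of_fibre hR a b (fun x y h1 h2 =>
    ObjectProperty.hom_ext _ (pullback.hom_ext
      (congrArg (fun k : _ ⟶ (yon S).obj U => k.hom) h1)
      (congrArg (fun k : _ ⟶ (yon S).obj U => k.hom) h2))) hq.2
  obtain ⟨t, ht⟩ := (yon S).map_surjective (e.hom ≫ a)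
  obtain ⟨s, hsm⟩ := (yon S).map_surjective (e.hom ≫ b)
  have sm : ∀ (c : R ⟶ (yon S).obj U) (g : G ⟶ U), (yon S).map g = e.hom ≫ c → LocP @Smooth c → Smooth g.left := by
    intro c g hg hc
    refine locP_yon_map (hg ▸ ?_)
    exact locP_comp etLocal_smooth (IsAlgSpace.yon_obj G) hR (IsAlgSpace.yon_obj U)
      (locP_of_repWith etLocal_smooth (IsAlgSpace.yon_obj G) (RepWith.mono (fun _ _ g (_ : Etale g) => (inferInstance : Smooth g)) (repWith_of_isIso (P := @Etale.{u}) e.hom))) hc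
  have : Smooth s.left := sm b s hsm hq.2
  have : Smooth t.left := sm a t ht hq'.2
  let e' : (pyon S).obj G ≅ pullback p p := (sheafToPresheaf (J S) (Type (u + 1))).mapIso e
  have hsq : IsPullback ((pyon S).map t) ((pyon S).map s) p p :=
    (IsPullback.of_hasPullback p p).of_iso e'.symm (Iso.refl _) (Iso.refl _) (Iso.refl _)
      (by
        show pullback.fst p p ≫ 𝟙 _ = e'.inv ≫ (pyon S).map t
        rw [Category.comp_id, Iso.eq_inv_comp]
        exact (congrArg (fun k : _ ⟶ (yon S).obj U => k.hom) ht).symm)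
      (by
        show pullback.snd p p ≫ 𝟙 _ = e'.inv ≫ (pyon S).map s
        rw [Category.comp_id, Iso.eq_inv_comp]
        exact (congrArg (fun k : _ ⟶ (yon S).obj U => k.hom) hsm).symm)
      (by simp) (by simp)
  -- points with the same image in `F` are related
  have rel : ∀ (T : Over S) (x y : T ⟶ U), p.app (op T) ⟨x⟩ = p.app (op T) ⟨y⟩ →
      ∃ r : T ⟶ G, r ≫ t = x ∧ r ≫ s = y := by
    intro T x y h
    have hxy : (pyon S).map x ≫ p = (pyon S).map y ≫ p := uliftYonedaEquiv.injective (by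
      rw [uliftYonedaEquiv_comp, uliftYonedaEquiv_comp, uliftYonedaEquiv_uliftYoneda_map,
        uliftYonedaEquiv_uliftYoneda_map]
      exact h)
    obtain ⟨r, hr⟩ := (pyon S).map_surjective (hsq.lift _ _ hxy)
    refine ⟨r, (pyon S).map_injective ?_, (pyon S).map_injective ?_⟩
    · rw [Functor.map_comp, hr, hsq.lift_fst]
    · rw [Functor.map_comp, hr, hsq.lift_snd]
  have rel' : ∀ (T : Over S) (r : T ⟶ G), p.app (op T) ⟨r ≫ t⟩ = p.app (op T) ⟨r ≫ s⟩ := fun T r =>
    congr($(hsq.w).app (op T) ⟨r⟩)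
  have heq : IsEqvRel s t := by
    refine ⟨fun T r r' h1 h2 => (pyon S).map_injective (hsq.hom_ext ?_ ?_), fun T => ⟨fun x => ?_, ?_, ?_⟩⟩
    · rw [← Functor.map_comp, ← Functor.map_comp, h1]
    · rw [← Functor.map_comp, ← Functor.map_comp, h2]
    · exact rel T x x rfl
    · rintro _ _ ⟨r, rfl, rfl⟩
      exact rel T _ _ (rel' T r).symm
    · rintro _ _ _ ⟨r, rfl, rfl⟩ ⟨r', hr', rfl⟩
      refine rel T _ _ ((rel' T r).trans ?_)
      rw [← hr']
      exact rel' T r'
  let π := quotSpπ ((yon S).map s) ((yon S).map t)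
  have hsm' : RepWith @Smooth π := by
    have := etLocal_smooth.{u}.localTarget
    exact repWith_quotSpπ heq @Smooth ‹Smooth s.left›
  have hsj : RepWith @Surjective π := repWith_surjective_quotSpπ heq
  have hQ : IsAlgSpace (quotSp ((yon S).map s) ((yon S).map t)) := by
    refine Stk19b.Boot.isAlgSpace_of_smooth_cover_yon π ((repBySpWith_hom_iff _ _).2 fun T ξ F' fst snd sq => ?_)
    obtain ⟨V, snd', fst', sq'⟩ := hsm'.1 ξ
    have hF' : IsAlgSpace F' := (IsAlgSpace.yon_obj V).of_iso (sq'.isoIsPullback _ _ sq)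
    exact ⟨hF', surjective_map_of_repWith (RepWith.baseChange sq hsj),
      locP_of_repWith etLocal_smooth hF' (RepWith.baseChange sq hsm')⟩
  let π' : (pyon S).obj U ⟶ (quotSp ((yon S).map s) ((yon S).map t)).obj := π.hom
  have hπls : Presheaf.IsLocallySurjective (Ket S) π' :=
    isLocallySurjective_of_smooth π' fun T ξ => by
      let ξ' : (yon S).obj T ⟶ quotSp ((yon S).map s) ((yon S).map t) := ObjectProperty.homMk ξ
      obtain ⟨a', ha'⟩ := (yon S).map_surjective (hsm'.1.fst ξ')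
      refine ⟨_, a', hsm'.1.snd ξ', ?_, hsm'.property_snd ξ', hsj.property _ _ _ (hsm'.1.isPullback ξ')⟩
      have := congrArg (fun k => k.hom) (hsm'.1.w ξ')
      rw [← ha'] at this
      exact this
  have hpls : Presheaf.IsLocallySurjective (Ket S) p :=
    isLocallySurjective_of_smooth p fun T ξ => by
      obtain ⟨hsT, hP, hb⟩ := hp ξ _ _ (IsPullback.of_hasPullback p ξ)
      obtain ⟨W, w, c, hw, hcs, hcj⟩ := exists_lift_yon hP _ hb
      let w' : (yon S).obj W ⟶ (yon S).obj U := w ≫ ObjectProperty.homMk (pullback.fst p ξ)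
      obtain ⟨a', ha'⟩ := (yon S).map_surjective w'
      refine ⟨W, a', c, ?_, hcs, hcj⟩
      have h1 : (pyon S).map a' = w.hom ≫ pullback.fst p ξ := congrArg (fun k => k.hom) ha'
      have h2 : w.hom ≫ pullback.snd p ξ = (pyon S).map c := congrArg (fun k => k.hom) hw
      rw [h1, ← h2]
      exact (Category.assoc _ _ _).trans ((congrArg (fun k => w.hom ≫ k) pullback.condition).trans (Category.assoc _ _ _).symm)
  obtain ⟨i⟩ := exists_iso_of_locallySurjective p π' hF (isSheaf_ket_of_sheaf _) (fun T u v h => by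
      obtain ⟨x⟩ := u
      obtain ⟨y⟩ := v
      obtain ⟨r, rfl, rfl⟩ := rel T x y h
      exact (congr($(congrArg (fun k : (yon S).obj G ⟶ quotSp ((yon S).map s) ((yon S).map t) => k.hom) (quotSp_condition ((yon S).map s) ((yon S).map t))).app (op T) ⟨r⟩)).symm)
    (fun T u v h => by
      obtain ⟨x⟩ := u
      obtain ⟨y⟩ := v
      have hxy : (yon S).map x ≫ π = (yon S).map y ≫ π := ObjectProperty.hom_ext _ (uliftYonedaEquiv.injective (by
        show uliftYonedaEquiv ((pyon S).map x ≫ π.hom) = uliftYonedaEquiv ((pyon S).map y ≫ π.hom)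
        rw [uliftYonedaEquiv_comp, uliftYonedaEquiv_comp, uliftYonedaEquiv_uliftYoneda_map,
          uliftYonedaEquiv_uliftYoneda_map]
        exact h))
      obtain ⟨r, hr⟩ := (yon S).map_surjective ((isPullback_quotSpπ (isEqvRelSp_yon heq)).lift _ _ hxy)
      have h1 : r ≫ t = x := (yon S).map_injective (by rw [Functor.map_comp, hr, IsPullback.lift_fst])
      have h2 : r ≫ s = y := (yon S).map_injective (by rw [Functor.map_comp, hr, IsPullback.lift_snd])
      rw [← h1, ← h2]
      exact rel' T r)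
  exact ((isAlgSpaceP_obj_iff _).2 hQ).of_iso i.symm

/-- The general case. -/
theorem isAlgSpaceP_of_etale_sheaf_smooth_cover_space {F : PSp S} (hF : Presheaf.IsSheaf (Ket S) F) (X : Space S)
    (p : X.obj.obj ⟶ F) (hp : RepBySpWith smCover p) : IsAlgSpaceP F := by
  obtain ⟨U, e, hee, hes⟩ := X.property.atlas
  refine isAlgSpaceP_of_etale_sheaf_smooth_cover hF (e.hom ≫ p) fun T ξ F' fst snd sq => ?_
  have sqP := IsPullback.of_hasPullback p ξ
  obtain ⟨hPs, hP, h₁, h₂⟩ := hp ξ _ _ sqP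
  let P : Sp S := ⟨pullback p ξ, hPs⟩
  let y := sqP.lift (fst ≫ e.hom) snd (by rw [Category.assoc, sq.w])
  have sqy : IsPullback fst y e.hom (pullback.fst p ξ) :=
    IsPullback.of_bot (by rw [sqP.lift_snd]; exact sq) (sqP.lift_fst _ _ _).symm sqP
  have hs' : Presheaf.IsSheaf (J S) F' := isSheaf_of_isPullback (F := (yon S).obj U) (G := X.obj) (H := P) (f := e.hom) (ξ := pullback.fst p ξ) (fst := fst) (snd := y) sqy
  let f1 : (⟨F', hs'⟩ : Sp S) ⟶ (yon S).obj U := ObjectProperty.homMk fst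
  let y' : (⟨F', hs'⟩ : Sp S) ⟶ P := ObjectProperty.homMk y
  let p1 : P ⟶ X.obj := ObjectProperty.homMk (pullback.fst p ξ)
  have sqy' : IsPullback f1 y' e p1 := IsPullback.of_map_of_faithful (sheafToPresheaf (J S) (Type (u + 1))) sqy
  have hF' := isAlgSpace_of_isPullback X.property.diag (IsAlgSpace.yon_obj U) hP sqy'
  let p2 : P ⟶ (yon S).obj T := ObjectProperty.homMk (pullback.snd p ξ)
  have hcomp : y' ≫ p2 = ObjectProperty.homMk snd := ObjectProperty.hom_ext _ (sqP.lift_snd _ _ _)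
  refine ⟨hs', hF', ?_, ?_⟩
  · intro t
    obtain ⟨z, rfl⟩ := h₁ t
    obtain ⟨w, rfl⟩ := surjective_map_of_repWith (RepWith.baseChange sqy' hes) z
    exact ⟨w, by rw [← hcomp]; exact Points.map_comp _ _ _⟩
  · rw [← hcomp]
    exact locP_comp etLocal_smooth hF' hP (IsAlgSpace.yon_obj T)
      (locP_of_repWith etLocal_smooth hF'
        (RepWith.mono (fun _ _ g (_ : Etale g) => (inferInstance : Smooth g))
          (RepWith.baseChange sqy' hee))) h₂

end Groth.Agent.AlgSpLib
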