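import Groth.Agent.AlgSpLib.LocP
import Groth.Agent.AlgSpLib.EtLocalInst
import Groth.Prelude.Def_AlgSpMor5

/-!
Properties etale local on the target: one surjective etale chart suffices.
-/

universe u

open CategoryTheory CategoryTheory.Limits AlgebraicGeometry
open AlgSp

noncomputable section

namespace Groth.Agent.AlgSpLib

set_option backward.isDefEq.respectTransparency.types false

variable {P : MorphismProperty Scheme.{u}}

theorem property_of_etale_baseChange [P.IsLocalAtTarget Scheme.etalePrecoverage] {X Y X' Y' : Scheme.{u}}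
    {fst : X' ⟶ X} {snd : X' ⟶ Y'} {f : X ⟶ Y} {g : Y' ⟶ Y} [Etale g] (sq : IsPullback fst snd f g)
    (hf : P f) : P snd := by
  let O : Option PUnit.{u + 1} → Scheme.{u} := fun i => i.elim Y (fun _ => Y')
  let o : ∀ i, O i ⟶ Y := fun i => match i with
    | none => 𝟙 Y
    | some _ => g
  have hR : Presieve.ofArrows O o ∈ Scheme.etalePrecoverage Y :=
    (Scheme.ofArrows_mem_precoverage_iff _).2 ⟨fun x => ⟨none, x, rfl⟩, fun i => match i with
      | none => (inferInstance : Etale (𝟙 Y))
      | some _ => ‹Etale g›⟩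
  have h := MorphismProperty.IsLocalAtTarget.pullbackSnd (P := P) hR
    (g := g) (Presieve.ofArrows.mk (some PUnit.unit)) hf
  rw [← sq.isoPullback_hom_snd]
  exact (P.cancel_left_of_respectsIso _ _).2 h

theorem property_of_etale_cover [P.IsLocalAtTarget Scheme.etalePrecoverage] {X Y X' Y' : Scheme.{u}}
    {fst : X' ⟶ X} {snd : X' ⟶ Y'} {f : X ⟶ Y} {g : Y' ⟶ Y} [Etale g] [Surjective g]
    (sq : IsPullback fst snd f g) (h : P snd) : P f := by
  have hR : Presieve.singleton g ∈ Scheme.etalePrecoverage Y :=
    (Scheme.singleton_mem_precoverage_iff _ g).2 ⟨g.surjective, ‹Etale g›⟩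
  refine MorphismProperty.IsLocalAtTarget.of_forall_pullbackSnd (P := P) hR fun {U g'} _ hg' => ?_
  obtain ⟨⟩ := hg'
  rw [← sq.isoPullback_inv_snd]
  exact (P.cancel_left_of_respectsIso _ _).2 h

variable {S : Scheme.{u}}

theorem repLocT_of_chart [P.IsLocalAtTarget Scheme.etalePrecoverage] {X Y : Sp S} (hY : IsAlgSpace Y)
    (f : X ⟶ Y) (hf : Representable f)
    {V W : Over S} (b : (yon S).obj V ⟶ Y) (hb1 : RepWith @Etale b) (hb2 : RepWith @Surjective b)
    (fst : (yon S).obj W ⟶ X) (snd : W ⟶ V)
    (sq : IsPullback fst ((yon S).map snd) f b) (hP : P snd.left) : RepLocT P f := by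
  refine ⟨hf, fun V' W' b' fst' snd' hb' sq' => ?_⟩
  have hr := hY.representable_from_yon b
  have sqT := hr.isPullback' b'
  let q := hr.fst' b'
  let p := hr.snd b'
  have : Etale p.left := hb1.property_snd b'
  have : Surjective p.left := hb2.property_snd b'
  have : Etale q.left := hb'.property _ _ _ sqT.flip
  have s0 := IsPullback.of_hasPullback snd' p
  have big : IsPullback ((yon S).map (pullback.fst snd' p) ≫ fst') ((yon S).map (pullback.snd snd' p)) f
      ((yon S).map q ≫ b) := by
    rw [sqT.w]
    exact (s0.map (yon S)).paste_horiz sq'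
  let m : pullback snd' p ⟶ W := (yon S).preimage (sq.lift ((yon S).map (pullback.fst snd' p) ≫ fst')
    ((yon S).map (pullback.snd snd' p ≫ q)) (by rw [Functor.map_comp, Category.assoc, Category.assoc]; simpa using big.w))
  have hm1 : (yon S).map m ≫ fst = (yon S).map (pullback.fst snd' p) ≫ fst' := by
    simp [m]
  have hm2 : m ≫ snd = pullback.snd snd' p ≫ q := (yon S).map_injective (by simp [m])
  have s1 : IsPullback ((yon S).map m) ((yon S).map (pullback.snd snd' p)) ((yon S).map snd) ((yon S).map q) :=
    IsPullback.of_right (by rw [hm1]; exact big) (by rw [← Functor.map_comp, ← Functor.map_comp, hm2]) sq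
  have s2 : IsPullback m (pullback.snd snd' p) snd q := IsPullback.of_map (yon S) hm2 s1
  have : P (pullback.snd snd' p).left := property_of_etale_baseChange (g := q.left) (s2.map (Over.forget S)) hP
  exact property_of_etale_cover (g := p.left) (s0.map (Over.forget S)) this

end Groth.Agent.AlgSpLib
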