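import Groth.Agent.AlgSpLib.EtaleLift
import Groth.Agent.AlgSpLib.EqvQuot

/-!
Lifting along first order thickenings of algebraic spaces from lifting along affine square-zero thickenings.
-/

universe u

open CategoryTheory CategoryTheory.Limits AlgebraicGeometry
open AlgSp

noncomputable section

namespace Groth.Agent.AlgSpLib

set_option backward.isDefEq.respectTransparency.types false

variable {S : Scheme.{u}}

theorem foThick_baseChange_etale {T T' P P₀ : Sp S} {j : T ⟶ T'} (hj : IsFOThickMor j) {e : P ⟶ T'}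
    (he : IsEtaleMor e) {fst : P₀ ⟶ T} {jP : P₀ ⟶ P} (sq : IsPullback fst jP j e) : IsFOThickMor jP :=
  ⟨RepWith.baseChange sq hj.1, fun _ _ b fst' snd hV hb sq' =>
    hj.2 (b ≫ e) (fst' ≫ fst) snd hV (he b hb) (sq'.paste_horiz sq)⟩

theorem sq_eq_bot_of_powZero {A : CommRingCat.{u}} (I : Ideal A)
    (h : (Spec.map (CommRingCat.ofHom (Ideal.Quotient.mk I))).ker *
      (Spec.map (CommRingCat.ofHom (Ideal.Quotient.mk I))).ker = ⊥) : I ^ 2 = ⊥ := by
  let q : A ⟶ CommRingCat.of (A ⧸ I) := CommRingCat.ofHom (Ideal.Quotient.mk I)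
  have h1 := congr(($h).ideal ⟨⊤, isAffineOpen_top _⟩)
  rw [Scheme.IdealSheafData.ideal_mul, Pi.mul_apply, Scheme.IdealSheafData.ideal_bot, Pi.bot_apply,
    Scheme.Hom.ker_apply] at h1
  have h2 : I.map (Scheme.ΓSpecIso A).inv.hom ≤ RingHom.ker ((Spec.map q).app ⊤).hom := by
    refine Ideal.map_le_iff_le_comap.2 fun r hr => ?_
    have e4 := congr($(Scheme.ΓSpecIso_inv_naturality q) r)
    simp only [CommRingCat.hom_comp, RingHom.comp_apply] at e4
    exact e4.symm.trans ((congrArg _ (show q r = 0 from Ideal.Quotient.eq_zero_iff_mem.2 hr)).trans (map_zero _))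
  have h3 : (I ^ 2).map (Scheme.ΓSpecIso A).inv.hom = ⊥ := by
    rw [pow_two, Ideal.map_mul, ← le_bot_iff]
    exact (Ideal.mul_mono h2 h2).trans h1.le
  exact (Ideal.map_eq_bot_iff_of_injective
    (Scheme.ΓSpecIso A).symm.commRingCatIsoToRingEquiv.injective).1 h3

/-- an affine etale chart of a first order thickening gives lifting problems -/
theorem exists_infSq_chart {T T' X Y : Sp S} {j : T ⟶ T'} (hj : IsFOThickMor j) {f : X ⟶ Y} (a : T ⟶ X)
    (b : T' ⟶ Y) (w : a ≫ f = j ≫ b) {V : Over S} [IsAffine V.left] (c : (yon S).obj V ⟶ T')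
    (hc : RepWith @Etale c) :
    ∃ (sq : InfSq f) (e : (yon S).obj sq.ptT' ≅ (yon S).obj V), sq.bot = e.hom ≫ c ≫ b ∧
      ∃ p : _ ⟶ T, IsPullback p ((yon S).map sq.j) j (e.hom ≫ c) ∧ sq.top = p ≫ a := by
  let A := Γ(V.left, ⊤)
  let V1 : Over S := Over.mk (V.left.isoSpec.inv ≫ V.hom)
  let eV : V1 ≅ V := Over.isoMk V.left.isoSpec.symm rfl
  let c1 := (yon S).map eV.hom ≫ c
  have hc1 : RepWith @Etale c1 := RepWith.comp ((repWith_yon_map_iff @Etale eV.hom).2
    (inferInstanceAs (Etale V.left.isoSpec.inv))) hc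
  have : IsClosedImmersion (hj.1.rep.snd c1).left := (hj.1.property_snd c1).1
  obtain ⟨I, e, he⟩ := IsClosedImmersion.Spec_iff.1 this
  let q : A ⟶ CommRingCat.of (A ⧸ I) := CommRingCat.ofHom (Ideal.Quotient.mk I)
  have h0 : (hj.1.rep.snd c1).left.ker * (hj.1.rep.snd c1).left.ker = ⊥ :=
    hj.2 c1 (hj.1.rep.fst c1) (hj.1.rep.snd c1) (isAffine_Spec _) hc1 (hj.1.rep.isPullback c1)
  rw [show (hj.1.rep.snd c1).left = e.hom ≫ Spec.map q from he, Scheme.Hom.ker_comp_of_isIso] at h0
  let V0 : Over S := Over.mk (Spec.map q ≫ V1.hom)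
  let jV : V0 ⟶ V1 := Over.homMk (Spec.map q)
  let ev : V0 ⟶ hj.1.rep.pullback c1 := Over.homMk e.inv (by
    show e.inv ≫ (hj.1.rep.pullback c1).hom = Spec.map q ≫ V1.hom
    rw [← Over.w (hj.1.rep.snd c1), show (hj.1.rep.snd c1).left = e.hom ≫ Spec.map q from he]
    simp)
  have ev2 : ev ≫ hj.1.rep.snd c1 = jV := Over.OverMorphism.ext (by
    show e.inv ≫ (hj.1.rep.snd c1).left = Spec.map q
    rw [show (hj.1.rep.snd c1).left = e.hom ≫ Spec.map q from he, e.inv_hom_id_assoc])
  let p := (yon S).map ev ≫ hj.1.rep.fst c1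
  have hp : p ≫ j = (yon S).map jV ≫ c1 := by
    rw [Category.assoc, (hj.1.rep.isPullback c1).w, ← Category.assoc, ← Functor.map_comp, ev2]
  let sq : InfSq f := { A := A, I := I, sq_zero := sq_eq_bot_of_powZero I h0, str := V1.hom, top := p ≫ a, bot := c1 ≫ b, comm := by rw [Category.assoc, w, ← Category.assoc, hp, Category.assoc] }
  have : IsIso ev := by
    have : IsIso ((Over.forget S).map ev) := inferInstanceAs (IsIso e.inv)
    exact isIso_of_reflects_iso ev (Over.forget S)
  have hP : IsPullback p ((yon S).map jV) j c1 :=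
    (hj.1.rep.isPullback c1).of_iso ((yon S).mapIso (asIso ev).symm) (Iso.refl _) (Iso.refl _) (Iso.refl _)
      (by simp [p]) (by simp [← Functor.map_comp, ← ev2]) (by simp) (by simp)
  exact ⟨sq, (yon S).mapIso eV, Category.assoc _ _ _, p, hP, rfl⟩

/-- a cover by affine etale charts -/
theorem exists_affine_charts {T : Sp S} (hT : IsAlgSpace T) :
    ∃ (ι : Type u) (V : ι → Over S) (c : ∀ i, (yon S).obj (V i) ⟶ T)
      (ψ : (yon S).obj (sigmaOver V) ⟶ T), (∀ i, IsAffine (V i).left) ∧ (∀ i, RepWith @Etale (c i)) ∧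
      (∀ i, (yon S).map (sigmaOverι V i) ≫ ψ = c i) ∧ RepWith @Etale ψ ∧ Epi ψ := by
  obtain ⟨U, p, he, hs⟩ := hT.atlas
  let V : U.left.affineOpens → Over S := fun O => restrictOver U O.1
  let c : ∀ O, (yon S).obj (V O) ⟶ T := fun O => (yon S).map (restrictOverι U O.1) ≫ p
  have hc : ∀ O, RepWith @Etale (c O) := fun O => RepWith.comp
    ((repWith_yon_map_iff _ _).2 (inferInstanceAs (Etale O.1.ι))) he
  obtain ⟨ψ, hψ, -⟩ := existsUnique_desc_sigma V c
  obtain ⟨r, hr, -⟩ := existsUnique_desc_sigma V fun O => (yon S).map (restrictOverι U O.1)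
  obtain ⟨r', rfl⟩ := (yon S).map_surjective r
  have hr' : ∀ O, sigmaOverι V O ≫ r' = restrictOverι U O.1 := fun O =>
    (yon S).map_injective (by rw [Functor.map_comp]; exact hr O)
  have e : ψ = (yon S).map r' ≫ p := (existsUnique_desc_sigma V c).unique hψ fun O => by
    rw [← Category.assoc, ← Functor.map_comp, hr']
  have h1 : Etale r'.left := by
    have : r'.left = Sigma.desc fun O : U.left.affineOpens => O.1.ι := Sigma.hom_ext _ _ fun O =>
      (congrArg (fun k : V O ⟶ U => k.left) (hr' O)).trans (Sigma.ι_desc (fun O : U.left.affineOpens => O.1.ι) O).symm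
    rw [this]
    exact IsZariskiLocalAtSource.sigmaDesc fun O => inferInstance
  have h2 : Surjective r'.left := ⟨fun x => by
    obtain ⟨O, hO, hx, -⟩ := exists_isAffineOpen_mem_and_subset (x := x) (U := ⊤) trivial
    refine ⟨(sigmaOverι V ⟨O, hO⟩).left ⟨x, hx⟩, ?_⟩
    rw [← Scheme.Hom.comp_apply, ← Over.comp_left, hr']
    rfl⟩
  refine ⟨_, V, c, ψ, fun O => O.2, hc, hψ, ?_, ?_⟩
  · rw [e]; exact RepWith.comp ((repWith_yon_map_iff _ _).2 h1) he
  · rw [e]
    have := isLocallySurjective_of_etale (RepWith.comp ((repWith_yon_map_iff _ r').2 h1) he)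
      (RepWith.comp ((repWith_yon_map_iff _ r').2 h2) hs)
    exact Sheaf.epi_of_isLocallySurjective _

theorem eq_of_foThick_of_formallyUnramified {T T' X Y : Sp S} (hT' : IsAlgSpace T') {j : T ⟶ T'}
    (hj : IsFOThickMor j) {f : X ⟶ Y} (hf : IsFormallyUnramifiedMor f) (l l' : T' ⟶ X)
    (h1 : j ≫ l = j ≫ l') (h2 : l ≫ f = l' ≫ f) : l = l' := by
  obtain ⟨ι, V, c, ψ, hV, hc, hψ, -, hepi⟩ := exists_affine_charts hT'
  rw [← cancel_epi ψ]
  refine (existsUnique_desc_sigma V fun i => c i ≫ l).unique (fun i => ?_) fun i => ?_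
  · rw [← Category.assoc, hψ]
  rw [← Category.assoc, hψ]
  have := hV i
  obtain ⟨sq, e, hb, p, hP, ht⟩ := exists_infSq_chart hj (j ≫ l) (l ≫ f) (Category.assoc _ _ _) (c i) (hc i)
  have hp := hP.w
  have := hf sq (e.hom ≫ c i ≫ l) (e.hom ≫ c i ≫ l') (by rw [ht, reassoc_of% hp])
    (by rw [hb]; simp only [Category.assoc]) (by rw [ht, h1, reassoc_of% hp])
    (by rw [hb, h2]; simp only [Category.assoc])
  exact ((cancel_epi e.hom).1 this).symm

theorem existsUnique_lift_of_formallyEtale {T T' X Y : Sp S} (hT' : IsAlgSpace T') {j : T ⟶ T'}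
    (hj : IsFOThickMor j) {f : X ⟶ Y} (hf : IsFormallyEtaleMor f) (a : T ⟶ X) (b : T' ⟶ Y)
    (w : a ≫ f = j ≫ b) : ∃! l : T' ⟶ X, j ≫ l = a ∧ l ≫ f = b := by
  have hu : IsFormallyUnramifiedMor f := ((formallyEtale_iff f).1 hf).2
  obtain ⟨ι, V, c, ψ, hV, hc, hψ, hψe, hepi⟩ := exists_affine_charts hT'
  have key : ∀ i, ∃ l : (yon S).obj (V i) ⟶ X, l ≫ f = c i ≫ b ∧
      pullback.snd j (c i) ≫ l = pullback.fst j (c i) ≫ a := by
    intro i
    have := hV i
    obtain ⟨sq, e, hb, p, hP, ht⟩ := exists_infSq_chart hj a b w (c i) (hc i)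
    obtain ⟨l, ⟨hl1, hl2⟩, -⟩ := hf sq
    refine ⟨e.inv ≫ l, by rw [Category.assoc, hl2, hb, e.inv_hom_id_assoc], ?_⟩
    obtain ⟨x, hxp, hx⟩ := hP.exists_lift (pullback.fst j (c i)) (pullback.snd j (c i) ≫ e.inv)
      (by rw [Category.assoc, e.inv_hom_id_assoc, pullback.condition])
    rw [← Category.assoc, ← hx, Category.assoc, hl1, ht, ← Category.assoc, hxp]
  choose li hli1 hli2 using key
  obtain ⟨L, hL, -⟩ := existsUnique_desc_sigma V li
  have hLf : L ≫ f = ψ ≫ b := (existsUnique_desc_sigma V fun i => c i ≫ b).unique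
    (fun i => by rw [← Category.assoc, hL, hli1]) (fun i => by rw [← Category.assoc, hψ])
  have hL' : ∀ {Q : Sp S} (u : Q ⟶ (yon S).obj (sigmaOver V)) (z : Q ⟶ T), z ≫ j = u ≫ ψ → u ≫ L = z ≫ a := by
    intro Q u z hz
    refine hom_ext_of_yon fun Q₀ x => ?_
    obtain ⟨u', hu'⟩ := (yon S).map_surjective (x ≫ u)
    have hopen : ∀ i, IsOpenImmersion (pullback.fst u' (sigmaOverι V i)).left := fun i =>
      MorphismProperty.of_isPullback (P := @IsOpenImmersion)
        ((IsPullback.of_hasPullback u' (sigmaOverι V i)).map (Over.forget S)).flip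
        (isOpenImmersion_sigmaOverι V i)
    haveI : ∀ i, Flat (pullback.fst u' (sigmaOverι V i)).left := fun i => by have := hopen i; infer_instance
    haveI : ∀ i, LocallyOfFinitePresentation (pullback.fst u' (sigmaOverι V i)).left := fun i => by
      have := hopen i; infer_instance
    refine eq_of_covering (ofArrows_mem_J (fun i => pullback.fst u' (sigmaOverι V i)) fun q => ?_) ?_
    · obtain ⟨i, t, ht⟩ := exists_mem_range_sigmaOverι V (u'.left q)
      have sq := ((IsPullback.of_hasPullback u' (sigmaOverι V i)).map (Over.forget S))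
      obtain ⟨w', hw'1, -⟩ := Scheme.Pullback.exists_preimage_pullback q t ht.symm
      refine ⟨i, sq.isoPullback.inv w', ?_⟩
      refine Eq.trans ?_ hw'1
      exact congr($(sq.isoPullback_inv_fst) w')
    rintro Q' r ⟨_, k, _, ⟨i⟩, rfl⟩
    have e1 : (yon S).map (k ≫ pullback.fst u' (sigmaOverι V i)) ≫ x ≫ u =
        (yon S).map (k ≫ pullback.snd u' (sigmaOverι V i)) ≫ (yon S).map (sigmaOverι V i) := by
      rw [← hu', ← Functor.map_comp, ← Functor.map_comp, Category.assoc, Category.assoc, pullback.condition]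
    obtain ⟨m, hm1, hm2⟩ := (IsPullback.of_hasPullback j (c i)).exists_lift
      ((yon S).map (k ≫ pullback.fst u' (sigmaOverι V i)) ≫ x ≫ z)
      ((yon S).map (k ≫ pullback.snd u' (sigmaOverι V i))) (by
        rw [← hψ i, Category.assoc, Category.assoc, hz, reassoc_of% e1])
    rw [reassoc_of% e1, hL, ← hm2, Category.assoc, hli2, ← Category.assoc, hm1]
    simp only [Category.assoc]
  have hcomp : pullback.fst ψ ψ ≫ L = pullback.snd ψ ψ ≫ L := by
    have hQ : IsAlgSpace (pullback ψ ψ) := isAlgSpace_of_isPullback hT'.diag (IsAlgSpace.yon_obj _)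
      (IsAlgSpace.yon_obj _) (IsPullback.of_hasPullback ψ ψ)
    have he : IsEtaleMor (pullback.fst ψ ψ ≫ ψ) := fun W φ hφ => by
      rw [← Category.assoc]
      exact RepWith.comp (RepWith.comp hφ (RepWith.baseChange (IsPullback.of_hasPullback ψ ψ).flip hψe)) hψe
    refine eq_of_foThick_of_formallyUnramified hQ
      (foThick_baseChange_etale hj he (IsPullback.of_hasPullback j (pullback.fst ψ ψ ≫ ψ))) hu _ _ ?_ ?_
    · rw [← Category.assoc, ← Category.assoc, hL' _ (pullback.fst j _) (pullback.condition.trans (Category.assoc _ _ _).symm),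
        hL' _ (pullback.fst j _) ((pullback.condition.trans (congrArg (pullback.snd j _ ≫ ·) pullback.condition)).trans (Category.assoc _ _ _).symm)]
    · rw [Category.assoc, Category.assoc, hLf, pullback.condition_assoc]
  have hid : IsIso (quotSpDesc (s := pullback.snd ψ ψ) (t := pullback.fst ψ ψ) ψ pullback.condition.symm) := by
    have : Epi (pullback.lift (pullback.fst ψ ψ) (pullback.snd ψ ψ) pullback.condition :
        pullback ψ ψ ⟶ pullback ψ ψ) := by
      rw [show pullback.lift (pullback.fst ψ ψ) (pullback.snd ψ ψ) pullback.condition = 𝟙 _ from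
        pullback.hom_ext (by rw [pullback.lift_fst, Category.id_comp]) (by rw [pullback.lift_snd, Category.id_comp])]
      infer_instance
    exact isIso_quotSpDesc ψ pullback.condition.symm
  let l : T' ⟶ X := inv (quotSpDesc (s := pullback.snd ψ ψ) (t := pullback.fst ψ ψ) ψ pullback.condition.symm) ≫
    quotSpDesc L hcomp.symm
  have hl : ψ ≫ l = L := by
    have := quotSpπ_desc (s := pullback.snd ψ ψ) (t := pullback.fst ψ ψ) ψ pullback.condition.symm
    conv_lhs => rw [← this]
    rw [Category.assoc, IsIso.hom_inv_id_assoc, quotSpπ_desc]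
  have h2 : l ≫ f = b := by rw [← cancel_epi ψ, ← Category.assoc, hl, hLf]
  refine ⟨l, ⟨?_, h2⟩, fun l' hl' => ?_⟩
  · refine hom_ext_of_yon fun Q x => ?_
    obtain ⟨C, hC, h⟩ := exists_covering_lift ψ (x ≫ j)
    refine eq_of_covering hC fun Q' r hr => ?_
    obtain ⟨u, hu⟩ := h r hr
    rw [show (yon S).map r ≫ x ≫ j ≫ l = u ≫ L by rw [← hl, reassoc_of% hu]]
    exact (hL' u ((yon S).map r ≫ x) (by rw [Category.assoc, hu])).trans (Category.assoc _ _ _)
  · refine eq_of_foThick_of_formallyUnramified hT' hj hu _ _ ?_ (hl'.2.trans h2.symm)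
    rw [hl'.1]
    refine hom_ext_of_yon fun Q x => ?_
    obtain ⟨C, hC, h⟩ := exists_covering_lift ψ (x ≫ j)
    refine eq_of_covering hC fun Q' r hr => ?_
    obtain ⟨u, hu⟩ := h r hr
    rw [show (yon S).map r ≫ x ≫ j ≫ l = u ≫ L by rw [← hl, reassoc_of% hu]]
    exact ((hL' u ((yon S).map r ≫ x) (by rw [Category.assoc, hu])).trans (Category.assoc _ _ _)).symm

end Groth.Agent.AlgSpLib
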