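import Groth.Agent.AlgSpLib.FormallyChart
import Groth.Agent.AlgSpLib.AffineDescent

/-!
Base change of first order thickenings along arbitrary morphisms.
-/

universe u

open CategoryTheory CategoryTheory.Limits AlgebraicGeometry
open AlgSp

noncomputable section

namespace Groth.Agent.AlgSpLib

set_option backward.isDefEq.respectTransparency.types false

variable {S : Scheme.{u}}

theorem appTop_eq_zero_of_flat_family {Y : Scheme.{u}} (x : Γ(Y, ⊤))
    (h : ∀ p : Y, ∃ (X : Scheme.{u}) (f : X ⟶ Y), Flat f ∧ p ∈ Set.range f ∧ f.appTop x = 0) : x = 0 := by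
  refine TopCat.Presheaf.section_ext Y.sheaf ⊤ x 0 fun p hp => ?_
  obtain ⟨X, f, hf, ⟨q, rfl⟩, hx⟩ := h p
  algebraize [(f.stalkMap q).hom]
  have : Module.FaithfullyFlat (Y.presheaf.stalk (f q)) (X.presheaf.stalk q) :=
    @Module.FaithfullyFlat.of_flat_of_isLocalHom _ _ _ _ _ _ _
      (Flat.stalkMap f q) (f.toLRSHom.prop q)
  refine (‹RingHom.FaithfullyFlat _›.injective : Function.Injective (f.stalkMap q)) ?_
  erw [Scheme.Hom.germ_stalkMap_apply, Scheme.Hom.germ_stalkMap_apply]
  exact congrArg _ (hx.trans (map_zero _).symm)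

theorem isFOThickMor_infSq {F G : Sp S} {f : F ⟶ G} (sq : InfSq f) : IsFOThickMor ((yon S).map sq.j) :=
  ⟨isThickMor_infSq sq, fun V W b fst snd hV hb sq' => by
    obtain ⟨v, rfl⟩ := (yon S).map_surjective b
    obtain ⟨w', rfl⟩ := (yon S).map_surjective fst
    exact ker_sq_of_isPullback_quotient (A := CommRingCat.of sq.A) sq.I sq.sq_zero
      ((IsPullback.of_map (yon S) ((yon S).map_injective ((Functor.map_comp _ _ _).trans
        (sq'.w.trans (Functor.map_comp _ _ _).symm))) sq').map (Over.forget S))⟩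

theorem foThick_baseChange {T T' P P₀ : Sp S} (hT' : IsAlgSpace T') {j : T ⟶ T'} (hj : IsFOThickMor j)
    (g : P ⟶ T') {fst : P₀ ⟶ T} {jP : P₀ ⟶ P} (sq : IsPullback fst jP j g) : IsFOThickMor jP := by
  refine ⟨RepWith.baseChange sq hj.1, fun V W b fst' snd hV hb sq' => ?_⟩
  obtain ⟨U, c, hce, hcs⟩ := hT'.atlas
  let V₁ := hce.1.pullback (b ≫ g)
  let u : V₁ ⟶ V := hce.1.snd (b ≫ g)
  have hu : Etale u.left := hce.property_snd (b ≫ g)
  have hus : Surjective u.left := hcs.2 _ _ _ (hce.1.isPullback (b ≫ g))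
  obtain ⟨m₁, hm₁⟩ := (yon S).map_surjective (hce.1.fst (b ≫ g))
  have hw : (yon S).map m₁ ≫ c = (yon S).map u ≫ b ≫ g := by
    rw [hm₁]; exact (hce.1.isPullback (b ≫ g)).w
  have hsnd : IsClosedImmersion snd.left := ((RepWith.baseChange sq hj.1).2 b fst' snd sq').1
  have key : ∀ x y : Γ(V.left, ⊤), snd.left.appTop x = 0 → snd.left.appTop y = 0 → x * y = 0 := by
    intro x y hx hy
    refine appTop_eq_zero_of_flat_family _ fun p => ?_
    obtain ⟨v, rfl⟩ := u.left.surjective p
    obtain ⟨O, hO, hvO, -⟩ := exists_isAffineOpen_mem_and_subset (x := m₁.left v) (U := ⊤) trivial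
    obtain ⟨O', hO', hvO', hle⟩ := exists_isAffineOpen_mem_and_subset (x := v) (U := m₁.left ⁻¹ᵁ O) hvO
    let V'' := restrictOver V₁ O'
    have : IsAffine V''.left := hO'
    let ι := restrictOverι V₁ O'
    let f : V'' ⟶ V := ι ≫ u
    have hlft : Set.range (ι ≫ m₁).left ⊆ (restrictOverι U O).left.opensRange := by
      rintro _ ⟨z, rfl⟩
      exact (Scheme.Opens.range_ι O).symm.subset (hle z.2)
    let l : V'' ⟶ restrictOver U O := Over.homMk
      (IsOpenImmersion.lift (restrictOverι U O).left (ι ≫ m₁).left hlft)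
      (by show _ ≫ O.ι ≫ U.hom = _
          rw [← Category.assoc]
          exact (congrArg (· ≫ U.hom) (IsOpenImmersion.lift_fac _ _ hlft)).trans (Over.w (ι ≫ m₁)))
    have hl : l ≫ restrictOverι U O = ι ≫ m₁ := Over.OverMorphism.ext (IsOpenImmersion.lift_fac _ _ hlft)
    have : IsAffine (restrictOver U O).left := hO
    let cO := (yon S).map (restrictOverι U O) ≫ c
    have hcO : RepWith @Etale cO := RepWith.comp ((repWith_yon_map_iff _ _).2 (inferInstanceAs (Etale O.ι))) hce
    obtain ⟨sqI, e, -, p', hP, -⟩ := exists_infSq_chart hj (f := 𝟙 T') j (𝟙 T') rfl cO hcO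
    obtain ⟨e', he'⟩ := (yon S).map_surjective e.inv
    obtain ⟨s₁, hs₁⟩ : ∃ s : pullback snd f ⟶ V'', s = pullback.snd snd f := ⟨_, rfl⟩
    have big : IsPullback ((yon S).map (pullback.fst snd f) ≫ fst' ≫ fst) ((yon S).map s₁) j
        ((yon S).map (l ≫ e') ≫ e.hom ≫ cO) := by
      have e1 : (yon S).map (l ≫ e') ≫ e.hom ≫ cO = (yon S).map f ≫ b ≫ g := by
        rw [Functor.map_comp, Category.assoc, he', e.inv_hom_id_assoc, ← Category.assoc, ← Functor.map_comp,
          hl, Functor.map_comp, Category.assoc, hw, ← Category.assoc, ← Functor.map_comp]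
      rw [e1, hs₁]
      exact ((IsPullback.of_hasPullback snd f).map (yon S)).paste_horiz (sq'.paste_horiz sq)
    obtain ⟨t, ht⟩ := (yon S).map_surjective (hP.lift ((yon S).map (pullback.fst snd f) ≫ fst' ≫ fst)
      ((yon S).map s₁ ≫ (yon S).map (l ≫ e')) (by rw [Category.assoc, Category.assoc]; exact big.w.trans (by simp only [Category.assoc])))
    have sqt : IsPullback ((yon S).map t) ((yon S).map s₁) ((yon S).map sqI.j) ((yon S).map (l ≫ e')) := by
      refine IsPullback.of_right ?_ ?_ hP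
      · rw [ht, hP.lift_fst]; exact big
      · rw [ht, hP.lift_snd]
    have hker : s₁.left.ker * s₁.left.ker = ⊥ :=
      ker_sq_of_isPullback_quotient (A := CommRingCat.of sqI.A) sqI.I sqI.sq_zero
        ((IsPullback.of_map (yon S) ((yon S).map_injective ((Functor.map_comp _ _ _).trans
          (sqt.w.trans (Functor.map_comp _ _ _).symm))) sqt).map (Over.forget S))
    have : IsClosedImmersion s₁.left := by
      rw [hs₁]
      exact MorphismProperty.of_isPullback (P := @IsClosedImmersion)
        ((IsPullback.of_hasPullback snd f).map (Over.forget S)) hsnd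
    refine ⟨V''.left, f.left, ?_, ⟨⟨v, hvO'⟩, ?_⟩, ?_⟩
    · show Flat (O'.ι ≫ u.left)
      infer_instance
    · rfl
    · rw [map_mul]
      have h1 := congr(($hker).ideal ⟨⊤, isAffineOpen_top _⟩)
      rw [Scheme.IdealSheafData.ideal_mul, Pi.mul_apply, Scheme.IdealSheafData.ideal_bot, Pi.bot_apply,
        Scheme.Hom.ker_apply] at h1
      have hz : ∀ z : Γ(V.left, ⊤), snd.left.appTop z = 0 →
          f.left.appTop z ∈ RingHom.ker (s₁.left.app ⊤).hom := fun z hz => by
        have e2 : (pullback.fst snd f).left ≫ snd.left = s₁.left ≫ f.left := by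
          rw [hs₁, ← Over.comp_left, ← Over.comp_left, pullback.condition]
        have e3 := congr(($e2).appTop z)
        rw [Scheme.Hom.comp_appTop, Scheme.Hom.comp_appTop] at e3
        refine RingHom.mem_ker.2 (e3.symm.trans ?_)
        exact (congrArg (pullback.fst snd f).left.appTop.hom hz).trans (map_zero (pullback.fst snd f).left.appTop.hom)
      exact (Submodule.mem_bot _).1 (h1 ▸ Ideal.mul_mem_mul (hz x hx) (hz y hy))
  refine Scheme.IdealSheafData.ext_of_isAffine ?_
  rw [Scheme.IdealSheafData.ideal_mul, Pi.mul_apply, Scheme.IdealSheafData.ideal_bot, Pi.bot_apply,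
    Scheme.Hom.ker_apply, ← le_bot_iff, Ideal.mul_le]
  exact fun x hx y hy => (Submodule.mem_bot _).2 (key x y hx hy)

end Groth.Agent.AlgSpLib
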