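import Groth.Agent.FlatMorPush.Functorial
import Groth.Agent.FlatMorPush.Transfer
import Groth.Agent.HenselLib.MilnorGlue

/-!
# Functoriality of Ferrand pushouts along affine morphisms, with a given cover by pairs over pairs
-/

set_option autoImplicit false
set_option backward.isDefEq.respectTransparency.types false
set_option linter.unusedSectionVars false
set_option linter.style.haveILetI false
universe u

open AlgebraicGeometry CategoryTheory Limits TensorProduct
open Groth.Agent.KerEval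

namespace Groth.Agent.AlgSpLib.FerrandAffine

open Groth.Agent.FlatMorPush (Pair HasPairs Po inl inr condition ι inr_mem_range_ι inl_mem_range_ι
  exists_mem_range exists_away fromSpec_inr fromSpec_inl isPullback_inl isPullback_inr Over' SubPair
  isPushout isPushout_f isPushout_g opensRange_fromSpec')

theorem flat_of_corners {C A B D C' A' B' D' : Type u} [CommRing C] [CommRing A] [CommRing B] [CommRing D]
    [CommRing C'] [CommRing A'] [CommRing B'] [CommRing D']
    (S : Sq C A B D) (S' : Sq C' A' B' D') {φ : C →+* C'} {α : A →+* A'} {β : B →+* B'}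
    (hf : S'.f.comp φ = α.comp S.f) (hg : S'.g.comp φ = β.comp S.g)
    (h1 : IsPushout (CommRingCat.ofHom S.f) (CommRingCat.ofHom φ) (CommRingCat.ofHom α) (CommRingCat.ofHom S'.f))
    (h2 : IsPushout (CommRingCat.ofHom S.g) (CommRingCat.ofHom φ) (CommRingCat.ofHom β) (CommRingCat.ofHom S'.g))
    (hα : α.Flat) (hβ : β.Flat) : φ.Flat := by
  algebraize [φ, α, β, S.f, S.g, S.q, S.p, S.q.comp S.f, S'.f, S'.g, α.comp S.f, β.comp S.g]
  have : IsScalarTower C A D := .of_algebraMap_eq' rfl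
  have : IsScalarTower C B D := .of_algebraMap_eq' (RingHom.ext fun c => S.comm c)
  have hsq : EtMil.IsFibreSquare C A B D :=
    ⟨S.surj, fun a b h => by
      obtain ⟨c, hc⟩ := S.exist a b h
      exact ⟨c, hc, fun c' hc' => S.ext _ _ (hc'.1.trans hc.1.symm) (hc'.2.trans hc.2.symm)⟩⟩
  have : IsScalarTower C A A' := .of_algebraMap_eq' rfl
  have : IsScalarTower C C' A' := .of_algebraMap_eq' hf.symm
  have : IsScalarTower C B B' := .of_algebraMap_eq' rfl
  have : IsScalarTower C C' B' := .of_algebraMap_eq' hg.symm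
  have pA : Algebra.IsPushout C A C' A' := CommRingCat.isPushout_iff_isPushout.mp h1
  have pB : Algebra.IsPushout C B C' B' := CommRingCat.isPushout_iff_isPushout.mp h2
  let eA : A ⊗[C] C' ≃ₗ[A] A' := (Algebra.IsPushout.equiv C A C' A').toLinearEquiv
  let eB : B ⊗[C] C' ≃ₗ[B] B' := (Algebra.IsPushout.equiv C B C' B').toLinearEquiv
  have : Module.Flat A A' := hα
  have : Module.Flat B B' := hβ
  have : Module.Flat A (A ⊗[C] C') := .of_linearEquiv eA
  have : Module.Flat B (B ⊗[C] C') := .of_linearEquiv eB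
  exact HenselLib.Milnor.flat_of_flat hsq C'

variable {X Y Z X' Y' Z' : Scheme.{u}} {i : Z ⟶ X} {j : Z ⟶ Y} [IsClosedImmersion i]
  [IsAffineHom j] [HasPairs i j] {i' : Z' ⟶ X'} {j' : Z' ⟶ Y'} [IsClosedImmersion i']
  [IsAffineHom j'] {f : X' ⟶ X} {g : Y' ⟶ Y} {h : Z' ⟶ Z}

variable [HasPairs i' j'] (hX : IsPullback h i' i f) (hY : IsPullback h j' j g)

/-- The induced morphism of pushouts. -/
noncomputable def poMap : Po i' j' ⟶ Po i j :=
  (isPushout i' j').desc (f ≫ inl i j) (g ≫ inr i j) (by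
    rw [← Category.assoc, ← hX.w, ← Category.assoc, ← hY.w, Category.assoc, condition,
      Category.assoc])

lemma inl_poMap : inl i' j' ≫ poMap hX hY = f ≫ inl i j := (isPushout i' j').inl_desc ..
lemma inr_poMap : inr i' j' ≫ poMap hX hY = g ≫ inr i j := (isPushout i' j').inr_desc ..

section chart

variable {k : Pair i j} {k' : Pair i' j'} (ho : Over' f g k' k)

include hY ho in
lemma preimage_le : j' ⁻¹ᵁ k'.V ≤ h ⁻¹ᵁ (j ⁻¹ᵁ k.V) := by
  intro z hz
  have := ho.2 hz
  show (h ≫ j) z ∈ k.V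
  rw [hY.w]
  exact this

/-- `Γ(Y, V) → Γ(Y', V')` -/
noncomputable def mA : Γ(Y, k.V) →+* Γ(Y', k'.V) := (g.appLE k.V k'.V ho.2).hom

/-- `Γ(X, U) → Γ(X', U')` -/
noncomputable def mB : Γ(X, k.U) →+* Γ(X', k'.U) := (f.appLE k.U k'.U ho.1).hom

/-- `Γ(Z, W) → Γ(Z', W')` -/
noncomputable def mD : Γ(Z, j ⁻¹ᵁ k.V) →+* Γ(Z', j' ⁻¹ᵁ k'.V) :=
  (h.appLE _ _ (preimage_le hY ho)).hom

lemma mA_fromSpec : sp (mA ho) ≫ k.hV.fromSpec = k'.hV.fromSpec ≫ g :=
  IsAffineOpen.SpecMap_appLE_fromSpec g k.hV k'.hV ho.2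

lemma mB_fromSpec : sp (mB ho) ≫ k.hU.fromSpec = k'.hU.fromSpec ≫ f :=
  IsAffineOpen.SpecMap_appLE_fromSpec f k.hU k'.hU ho.1

lemma mD_fromSpec : sp (mD hY ho) ≫ k.hW.fromSpec = k'.hW.fromSpec ≫ h :=
  IsAffineOpen.SpecMap_appLE_fromSpec h k.hW k'.hW (preimage_le hY ho)

include hY in
lemma sp_mA_q : sp k'.sq.q ≫ sp (mA ho) = sp (mD hY ho) ≫ sp k.sq.q := by
  rw [← cancel_mono k.hV.fromSpec, Category.assoc, Category.assoc, mA_fromSpec, k.sp_q,
    ← Category.assoc, k'.sp_q, ← Category.assoc, mD_fromSpec, Category.assoc, Category.assoc, hY.w]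

include hX hY in
lemma sp_mB_p : sp k'.sq.p ≫ sp (mB ho) = sp (mD hY ho) ≫ sp k.sq.p := by
  rw [← cancel_mono k.hU.fromSpec, Category.assoc, Category.assoc, mB_fromSpec, k.sp_p,
    ← Category.assoc, k'.sp_p, ← Category.assoc, mD_fromSpec, Category.assoc, Category.assoc, hX.w]

lemma opensRange_fromSpec' {T : Scheme.{u}} {U : T.Opens} (hU : IsAffineOpen U) :
    hU.fromSpec.opensRange = U := TopologicalSpace.Opens.ext hU.range_fromSpec

include hY in
lemma isPushout_mA : IsPushout (CommRingCat.ofHom k.sq.q) (CommRingCat.ofHom (mA ho))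
    (CommRingCat.ofHom (mD hY ho)) (CommRingCat.ofHom k'.sq.q) := by
  have h1 : IsPullback (sp k'.sq.q) k'.hW.fromSpec k'.hV.fromSpec j' :=
    IsOpenImmersion.isPullback _ _ _ _ k'.sp_q.symm (by rw [opensRange_fromSpec', opensRange_fromSpec'])
  have h2 : IsPullback (sp k.sq.q) k.hW.fromSpec k.hV.fromSpec j :=
    IsOpenImmersion.isPullback _ _ _ _ k.sp_q.symm (by rw [opensRange_fromSpec', opensRange_fromSpec'])
  have h3 := h1.paste_vert hY.flip
  rw [← mA_fromSpec ho, ← mD_fromSpec hY ho] at h3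
  have h4 : IsPullback (sp k'.sq.q) (sp (mD hY ho)) (sp (mA ho)) (sp k.sq.q) :=
    IsPullback.of_bot h3 (sp_mA_q hY ho) h2
  exact (IsPullback.of_map Scheme.Spec (f := (CommRingCat.ofHom k'.sq.q).op)
    (g := (CommRingCat.ofHom (mD hY ho)).op) (h := (CommRingCat.ofHom (mA ho)).op)
    (i := (CommRingCat.ofHom k.sq.q).op)
    (congrArg Quiver.Hom.op (Spec.map_injective (by rw [Spec.map_comp, Spec.map_comp]; exact sp_mA_q hY ho)))
    h4).unop

include hX hY in
lemma isPushout_mB : IsPushout (CommRingCat.ofHom k.sq.p) (CommRingCat.ofHom (mB ho))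
    (CommRingCat.ofHom (mD hY ho)) (CommRingCat.ofHom k'.sq.p) := by
  have h1 : IsPullback (sp k'.sq.p) k'.hW.fromSpec k'.hU.fromSpec i' :=
    IsOpenImmersion.isPullback _ _ _ _ k'.sp_p.symm
      (by rw [opensRange_fromSpec', opensRange_fromSpec', k'.eq])
  have h2 : IsPullback (sp k.sq.p) k.hW.fromSpec k.hU.fromSpec i :=
    IsOpenImmersion.isPullback _ _ _ _ k.sp_p.symm
      (by rw [opensRange_fromSpec', opensRange_fromSpec', k.eq])
  have h3 := h1.paste_vert hX.flip
  rw [← mB_fromSpec ho, ← mD_fromSpec hY ho] at h3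
  have h4 : IsPullback (sp k'.sq.p) (sp (mD hY ho)) (sp (mB ho)) (sp k.sq.p) :=
    IsPullback.of_bot h3 (sp_mB_p hX hY ho) h2
  exact (IsPullback.of_map Scheme.Spec (f := (CommRingCat.ofHom k'.sq.p).op)
    (g := (CommRingCat.ofHom (mD hY ho)).op) (h := (CommRingCat.ofHom (mB ho)).op)
    (i := (CommRingCat.ofHom k.sq.p).op)
    (congrArg Quiver.Hom.op (Spec.map_injective (by rw [Spec.map_comp, Spec.map_comp]; exact sp_mB_p hX hY ho)))
    h4).unop

include hX hY in
lemma chart_compat : k'.sq.q.comp ((mA ho).comp k.sq.f) = k'.sq.p.comp ((mB ho).comp k.sq.g) :=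
  RingHom.ext fun c => by
    have h1 : k'.sq.q (mA ho (k.sq.f c)) = mD hY ho (k.sq.q (k.sq.f c)) :=
      (ConcreteCategory.congr_hom (isPushout_mA hY ho).w (k.sq.f c)).symm
    have h2 : k'.sq.p (mB ho (k.sq.g c)) = mD hY ho (k.sq.p (k.sq.g c)) :=
      (ConcreteCategory.congr_hom (isPushout_mB hX hY ho).w (k.sq.g c)).symm
    simp only [RingHom.comp_apply]
    rw [h1, h2, k.sq.comm]

/-- The map of chart rings. -/
noncomputable def mC : k.C →+* k'.C :=
  k'.sq.lift ((mA ho).comp k.sq.f) ((mB ho).comp k.sq.g) (chart_compat hX hY ho)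

lemma f_mC : k'.sq.f.comp (mC hX hY ho) = (mA ho).comp k.sq.f := Sq.f_comp_lift ..
lemma g_mC : k'.sq.g.comp (mC hX hY ho) = (mB ho).comp k.sq.g := Sq.g_comp_lift ..

lemma ι_poMap : ι k' ≫ poMap hX hY = sp (mC hX hY ho) ≫ ι k := by
  refine k'.sq.hom_ext _ _ ?_ ?_
  · rw [← Category.assoc, ← fromSpec_inr, Category.assoc, inr_poMap, ← Category.assoc,
      ← mA_fromSpec ho, Category.assoc, fromSpec_inr, ← Category.assoc, ← Category.assoc, ← sp_comp,
      ← sp_comp, f_mC]
  · rw [← Category.assoc, ← fromSpec_inl, Category.assoc, inl_poMap, ← Category.assoc,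
      ← mB_fromSpec ho, Category.assoc, fromSpec_inl, ← Category.assoc, ← Category.assoc, ← sp_comp,
      ← sp_comp, g_mC]

lemma isPullback_chart_f :
    IsPullback (sp k'.sq.f) (sp (mA ho)) (sp (mC hX hY ho)) (sp k.sq.f) :=
  (isPullback_SpecMap_of_isPushout _ _ _ _ (isPushout_f k.sq k'.sq (f_mC hX hY ho) (g_mC hX hY ho)
    (isPushout_mA hY ho) (isPushout_mB hX hY ho))).flip

lemma isPullback_chart_g :
    IsPullback (sp k'.sq.g) (sp (mB ho)) (sp (mC hX hY ho)) (sp k.sq.g) :=
  (isPullback_SpecMap_of_isPushout _ _ _ _ (isPushout_g k.sq k'.sq (f_mC hX hY ho) (g_mC hX hY ho)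
    (isPushout_mA hY ho) (isPushout_mB hX hY ho))).flip

include hX hY in
lemma flat_mC [Flat f] [Flat g] : (mC hX hY ho).Flat := by
  have h1 := isPushout_f k.sq k'.sq (f_mC hX hY ho) (g_mC hX hY ho) (isPushout_mA hY ho) (isPushout_mB hX hY ho)
  have h2 := isPushout_g k.sq k'.sq (f_mC hX hY ho) (g_mC hX hY ho) (isPushout_mA hY ho) (isPushout_mB hX hY ho)
  exact flat_of_corners k.sq k'.sq (f_mC hX hY ho) (g_mC hX hY ho) h1 h2
    (HasRingHomProperty.appLE @Flat g inferInstance ⟨k.V, k.hV⟩ ⟨k'.V, k'.hV⟩ ho.2)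
    (HasRingHomProperty.appLE @Flat f inferInstance ⟨k.U, k.hU⟩ ⟨k'.U, k'.hU⟩ ho.1)

end chart

section global

variable (hcov : ∀ w : Po i' j', ∃ p : SubPair f g i j i' j', w ∈ Set.range (ι p.1.1))

/-- the covering by charts over charts -/
noncomputable def subCover : (Po i' j').OpenCover where
  I₀ := SubPair f g i j i' j'
  X p := p.1.1.obj
  f p := ι p.1.1
  mem₀ := by
    rw [Scheme.presieve₀_mem_precoverage_iff]
    exact ⟨hcov, fun p => inferInstanceAs (IsOpenImmersion (ι p.1.1))⟩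

include hcov in
theorem isPullback_inr_poMap : IsPullback g (inr i' j') (inr i j) (poMap hX hY) := by
  refine (Scheme.isPullback_of_openCover (inr i' j') g (poMap hX hY) (inr i j) (subCover hcov)
    fun p => ?_).flip
  have h := (isPullback_chart_f hX hY p.2).paste_vert (isPullback_inr p.1.2)
  rw [← ι_poMap hX hY p.2, mA_fromSpec] at h
  refine h.of_iso ((isPullback_inr p.1.1).flip.isoPullback) (Iso.refl _) (Iso.refl _) (Iso.refl _)
    ?_ ?_ (by simp; rfl) (by simp)
  · exact (Category.comp_id _).trans (isPullback_inr p.1.1).flip.isoPullback_hom_snd.symm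
  · exact (Category.comp_id _).trans ((congrArg (· ≫ g)
      (isPullback_inr p.1.1).flip.isoPullback_hom_fst.symm).trans (Category.assoc _ _ _))

include hcov in
theorem isPullback_inl_poMap : IsPullback f (inl i' j') (inl i j) (poMap hX hY) := by
  refine (Scheme.isPullback_of_openCover (inl i' j') f (poMap hX hY) (inl i j) (subCover hcov)
    fun p => ?_).flip
  have h := (isPullback_chart_g hX hY p.2).paste_vert (isPullback_inl p.1.2)
  rw [← ι_poMap hX hY p.2, mB_fromSpec] at h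
  refine h.of_iso ((isPullback_inl p.1.1).flip.isoPullback) (Iso.refl _) (Iso.refl _) (Iso.refl _)
    ?_ ?_ (by simp; rfl) (by simp)
  · exact (Category.comp_id _).trans (isPullback_inl p.1.1).flip.isoPullback_hom_snd.symm
  · exact (Category.comp_id _).trans ((congrArg (· ≫ f)
      (isPullback_inl p.1.1).flip.isoPullback_hom_fst.symm).trans (Category.assoc _ _ _))

include hcov in
theorem flat_poMap [Flat f] [Flat g] : Flat (poMap hX hY) := by
  rw [IsZariskiLocalAtSource.iff_of_openCover (P := @Flat) (subCover hcov)]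
  intro p
  change Flat (ι p.1.1 ≫ poMap hX hY)
  rw [ι_poMap hX hY p.2]
  have : Flat (sp (mC hX hY p.2)) :=
    (HasRingHomProperty.Spec_iff (P := @Flat)).mpr (flat_mC hX hY p.2)
  infer_instance

end global

end Groth.Agent.AlgSpLib.FerrandAffine
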