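import Groth.Agent.AlgSpLib.FerrandQuot
import Groth.Agent.AlgSpLib.EtLocalInst

/-!
# Morphisms between pushouts of algebraic spaces along thickenings
-/

set_option autoImplicit false
set_option backward.isDefEq.respectTransparency false
set_option backward.isDefEq.respectTransparency.types false
set_option linter.style.haveILetI false

universe u

open CategoryTheory CategoryTheory.Limits AlgebraicGeometry
open AlgSp

noncomputable section

namespace Groth.Agent.AlgSpLib.FerrandProps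

open FerrandQuot

variable {S : Scheme.{u}}

/-- a commutative square is cartesian when it becomes cartesian over an etale cover of the source corner -/
theorem isPullback_of_cover {V V' Y Y' : Sp S} {a : V ⟶ V'} {v : V ⟶ Y} {v' : V' ⟶ Y'} {t' : Y ⟶ Y'}
    (w : a ≫ v' = v ≫ t') {W WY : Over S} {π : (yon S).obj W ⟶ V'} (he : RepWith @Etale π)
    (hs : RepWith @Surjective π) {b : WY ⟶ W} {q : (yon S).obj WY ⟶ V}
    (sqV : IsPullback q ((yon S).map b) a π) (big : IsPullback (q ≫ v) ((yon S).map b) t' (π ≫ v')) :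
    IsPullback a v v' t' := by
  have sqP := IsPullback.of_hasPullback v' t'
  let e := sqP.lift a v w
  have hea : e ≫ pullback.fst v' t' = a := sqP.lift_fst _ _ _
  have hev : e ≫ pullback.snd v' t' = v := sqP.lift_snd _ _ _
  have sqk : IsPullback (q ≫ e) ((yon S).map b) (pullback.fst v' t') π := by
    refine IsPullback.of_right (h₁₂ := pullback.snd v' t') ?_ ?_ sqP.flip
    · rw [Category.assoc, hev]; exact big
    · rw [Category.assoc, hea]; exact sqV.w
  have hke : RepWith @Etale (q ≫ e) := RepWith.baseChange sqk.flip he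
  have hks : RepWith @Surjective (q ≫ e) := RepWith.baseChange sqk.flip hs
  haveI : Epi (q ≫ e) := epi_of_etale_surjective hke hks
  haveI : Epi e := epi_of_epi q e
  haveI : Mono e := ⟨fun {Q} x₁ x₂ hx => by
    have sqQ := IsPullback.of_hasPullback (q ≫ e) (x₁ ≫ e)
    haveI : Epi (pullback.snd (q ≫ e) (x₁ ≫ e)) :=
      epi_of_etale_surjective (RepWith.baseChange sqQ hke) (RepWith.baseChange sqQ hks)
    rw [← cancel_epi (pullback.snd (q ≫ e) (x₁ ≫ e))]
    have key : ∀ (x : Q ⟶ V), x ≫ e = x₁ ≫ e →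
        pullback.snd (q ≫ e) (x₁ ≫ e) ≫ x = pullback.fst (q ≫ e) (x₁ ≫ e) ≫ q := by
      intro x hxe
      let c := pullback.snd (q ≫ e) (x₁ ≫ e)
      let z := pullback.fst (q ≫ e) (x₁ ≫ e)
      have h0 : c ≫ x ≫ e = z ≫ q ≫ e := by rw [hxe]; exact (pullback.condition).symm
      have h1 : (c ≫ x) ≫ a = (z ≫ (yon S).map b) ≫ π := by
        have := congrArg (· ≫ pullback.fst v' t') h0
        simp only [Category.assoc, hea] at this
        rw [Category.assoc, Category.assoc, ← sqV.w]; exact this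
      have h2 : (c ≫ x) ≫ v = z ≫ q ≫ v := by
        have := congrArg (· ≫ pullback.snd v' t') h0
        simp only [Category.assoc, hev] at this
        rw [Category.assoc]; exact this
      have hn : sqV.lift (c ≫ x) (z ≫ (yon S).map b) h1 = z := big.hom_ext
        (by rw [← Category.assoc, sqV.lift_fst, h2]) (by rw [sqV.lift_snd])
      calc c ≫ x = sqV.lift (c ≫ x) (z ≫ (yon S).map b) h1 ≫ q := (sqV.lift_fst _ _ _).symm
        _ = z ≫ q := by rw [hn]
    rw [key x₁ rfl, key x₂ hx.symm]⟩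
  haveI : IsIso e := isIso_of_mono_of_epi e
  exact IsPullback.of_iso_pullback ⟨w⟩ (asIso e) hea hev

/-- base change of a glueing chart along an etale cover -/
theorem exists_bc {Z X Y P W : Over S} {i : Z ⟶ X} {j : Z ⟶ Y} {a : X ⟶ P} {b : Y ⟶ P}
    (h : FerrandThick.IsThickPush i.left j.left a.left b.left) (r : W ⟶ P) [Flat r.left] :
    ∃ (WZ WX WY : Over S) (iW : WZ ⟶ WX) (jW : WZ ⟶ WY) (aW : WX ⟶ W) (bW : WY ⟶ W) (rZ : WZ ⟶ Z)
      (rX : WX ⟶ X) (rY : WY ⟶ Y), FerrandThick.IsThickPush iW.left jW.left aW.left bW.left ∧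
      IsPullback rX aW a r ∧ IsPullback rY bW b r ∧ IsPullback rZ iW i rX ∧ IsPullback rZ jW j rY := by
  have sA := IsPullback.of_hasPullback a r
  have sB := IsPullback.of_hasPullback b r
  have sI := IsPullback.of_hasPullback i (pullback.fst a r)
  have hw : i ≫ a = j ≫ b := Over.OverMorphism.ext h.pushout.w
  have hcond : (pullback.fst i (pullback.fst a r) ≫ j) ≫ b =
      (pullback.snd i (pullback.fst a r) ≫ pullback.snd a r) ≫ r := by
    rw [Category.assoc, ← hw, pullback.condition_assoc, Category.assoc, pullback.condition]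
  let jW : pullback i (pullback.fst a r) ⟶ pullback b r := sB.lift _ _ hcond
  have sJ : IsPullback (pullback.fst i (pullback.fst a r)) jW j (pullback.fst b r) := by
    refine IsPullback.flip (IsPullback.of_right (h₁₂ := pullback.snd b r) ?_ (sB.lift_fst _ _ _) sB.flip)
    rw [sB.lift_snd, ← hw]
    exact sI.flip.paste_horiz sA.flip
  have sAl : IsPullback (pullback.fst a r).left (pullback.snd a r).left a.left r.left := sA.map (Over.forget S)
  have sBl : IsPullback (pullback.fst b r).left (pullback.snd b r).left b.left r.left := sB.map (Over.forget S)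
  have sIl : IsPullback (pullback.fst i (pullback.fst a r)).left (pullback.snd i (pullback.fst a r)).left i.left
    (pullback.fst a r).left := sI.map (Over.forget S)
  have sJl : IsPullback (pullback.fst i (pullback.fst a r)).left jW.left j.left (pullback.fst b r).left :=
    sJ.map (Over.forget S)
  haveI := h.closed
  haveI := h.affine
  haveI := h.hasPairs
  refine ⟨_, _, _, pullback.snd i (pullback.fst a r), jW, pullback.snd a r, pullback.snd b r,
    pullback.fst i (pullback.fst a r), pullback.fst a r, pullback.fst b r,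
    ⟨MorphismProperty.of_isPullback sIl h.closed, MorphismProperty.of_isPullback sIl h.surj,
      MorphismProperty.of_isPullback sJl h.affine, ?_⟩, sA, sB, sI, sJ⟩
  refine FlatMorPush.isPushout_baseChange (i := i.left) (j := j.left) (a := a.left) (b := b.left)
    (hP := (IsPullback.of_vert_isIso ⟨by simp⟩ : IsPullback r.left (𝟙 _) (𝟙 P.left) r.left))
    (fun z => ?_) sAl sBl sIl sJl.w.symm ?_
  · obtain ⟨c, hc, -⟩ := FlatMorPush.exists_chart h.pushout z
    exact ⟨c, hc, Or.inl inferInstance⟩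
  · rw [← Over.comp_left, ← Over.comp_left, sB.lift_snd]

/-- compatible charts for a morphism between glued spaces -/
structure MapChart {X X' Y Y' U U' V V' : Space S} (uU' : U ⟶ U') (uV : U ⟶ V) (iU' : U' ⟶ V') (iV : V ⟶ V')
    (t : X ⟶ X') (f : X ⟶ Y) (f' : X' ⟶ Y') (t' : Y ⟶ Y') (v : V ⟶ Y) (u' : U' ⟶ X') (v' : V' ⟶ Y') where
  C₀ : Over S
  p : (yon S).obj C₀ ⟶ Y.obj
  hpe : RepWith @Etale p
  hps : RepWith @Surjective p
  C : GlueChart t f f' t' p
  D₀ : Over S
  q : (yon S).obj D₀ ⟶ V.obj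
  hqe : RepWith @Etale q
  hqs : RepWith @Surjective q
  D : GlueChart uU' uV iU' iV q
  h : D.VX ⟶ C.VX
  fm : D.VX' ⟶ C.VX'
  gm : D₀ ⟶ C₀
  m : D.V' ⟶ C.V'
  hY : q ≫ v.hom = (yon S).map gm ≫ p
  hX' : D.qX' ≫ u'.hom = (yon S).map fm ≫ C.qX'
  hm : D.π ≫ v'.hom = (yon S).map m ≫ C.π
  cI : IsPullback h.left D.iV.left C.iV.left fm.left
  cJ : IsPullback h.left D.jV.left C.jV.left gm.left
  wa : D.aV.left ≫ m.left = fm.left ≫ C.aV.left
  wb : D.bV.left ≫ m.left = gm.left ≫ C.bV.left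

theorem exists_mapChart {X X' Y Y' U U' V V' : Space S}
    {t : X ⟶ X'} (ht : IsThickMor t.hom) {f : X ⟶ Y} (hf : IsAffineMor f.hom) {f' : X' ⟶ Y'}
    {t' : Y ⟶ Y'} (hY' : IsPushout t f f' t') {v : V ⟶ Y} {u' : U' ⟶ X'} {uV : U ⟶ V} {uU' : U ⟶ U'}
    {uX : U ⟶ X} (hUV : IsPullback uV.hom uX.hom v.hom f.hom) (hUU' : IsPullback uU'.hom uX.hom u'.hom t.hom)
    {iV : V ⟶ V'} {iU' : U' ⟶ V'} (hV' : IsPushout uV uU' iV iU') {v' : V' ⟶ Y'}
    (hv'₁ : iV ≫ v' = v ≫ t') (hv'₂ : iU' ≫ v' = u' ≫ f') :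
    Nonempty (MapChart uU' uV iU' iV t f f' t' v u' v') := by
  have e₁ : iV.hom ≫ v'.hom = v.hom ≫ t'.hom := congrArg (fun m => m.hom) hv'₁
  have e₂ : iU'.hom ≫ v'.hom = u'.hom ≫ f'.hom := congrArg (fun m => m.hom) hv'₂
  have htU : IsThickMor uU'.hom := RepWith.baseChange hUU'.flip ht
  have hfV : IsAffineMor uV.hom :=
    (isAffineMor_iff_repWith uV.hom).2 (RepWith.baseChange hUV.flip ((isAffineMor_iff_repWith f.hom).1 hf))
  obtain ⟨C₀, p, hpe, hps⟩ := Y.property.atlas
  obtain ⟨C⟩ := exists_glueChart ht hf hY' p hpe hps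
  obtain ⟨A, q₀, hq₀e, hq₀s⟩ := V.property.atlas
  obtain ⟨D⟩ := exists_glueChart htU hfV hV'.flip q₀ hq₀e hq₀s
  -- refine the chart over the chart of the target
  have sqW := C.het.1.isPullback (D.π ≫ v'.hom)
  obtain ⟨m, hm⟩ := (yon S).map_surjective (C.het.1.fst (D.π ≫ v'.hom))
  let r := C.het.1.snd (D.π ≫ v'.hom)
  haveI : Etale r.left := C.het.property_snd _
  haveI : Surjective r.left := C.hsu.property_snd _
  have hmw : (yon S).map m ≫ C.π = (yon S).map r ≫ D.π ≫ v'.hom := by rw [hm]; exact sqW.w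
  obtain ⟨WZ, WX, WY, iW, jW, aW, bW, rZ, rX, rY, hW, sA, sB, sI, sJ⟩ := exists_bc D.push r
  have sAy := sA.map (yon S)
  have sBy := sB.map (yon S)
  have sIy := sI.map (yon S)
  have sJy := sJ.map (yon S)
  have sAl : IsPullback rX.left aW.left D.aV.left r.left := sA.map (Over.forget S)
  have sBl : IsPullback rY.left bW.left D.bV.left r.left := sB.map (Over.forget S)
  haveI : Etale rX.left := MorphismProperty.of_isPullback sAl.flip ‹Etale r.left›
  haveI : Etale rY.left := MorphismProperty.of_isPullback sBl.flip ‹Etale r.left›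
  haveI : Surjective rY.left := MorphismProperty.of_isPullback sBl.flip ‹Surjective r.left›
  have hre : RepWith @Etale ((yon S).map r) := (repWith_yon_map_iff _ _).2 ‹_›
  have hrs : RepWith @Surjective ((yon S).map r) := (repWith_yon_map_iff _ _).2 ‹_›
  let D' : GlueChart uU' uV iU' iV ((yon S).map rY ≫ q₀) :=
    { VX := WZ
      VX' := WX
      V' := C.het.1.pullback (D.π ≫ v'.hom)
      iV := iW
      jV := jW
      aV := aW
      bV := bW
      qX := (yon S).map rZ ≫ D.qX
      qX' := (yon S).map rX ≫ D.qX'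
      π := (yon S).map r ≫ D.π
      push := hW
      sqf := (sJy.flip.paste_vert D.sqf.flip).flip
      sqt := (sIy.flip.paste_vert D.sqt.flip).flip
      sqf' := (sAy.flip.paste_vert D.sqf'.flip).flip
      sqt' := (sBy.flip.paste_vert D.sqt'.flip).flip
      het := RepWith.comp hre D.het
      hsu := RepWith.comp hrs D.hsu }
  obtain ⟨gm, hgm⟩ := (yon S).map_surjective (C.sqt'.lift (((yon S).map rY ≫ q₀) ≫ v.hom) ((yon S).map (bW ≫ m)) (by
    rw [Category.assoc, Category.assoc, ← e₁, reassoc_of% D.sqt'.w, ← Functor.map_comp_assoc, sB.w,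
      Functor.map_comp_assoc, ← hmw, Functor.map_comp, Category.assoc]))
  obtain ⟨fm, hfm⟩ := (yon S).map_surjective (C.sqf'.lift (((yon S).map rX ≫ D.qX') ≫ u'.hom) ((yon S).map (aW ≫ m)) (by
    rw [Category.assoc, Category.assoc, ← e₂, reassoc_of% D.sqf'.w, ← Functor.map_comp_assoc, sA.w,
      Functor.map_comp_assoc, ← hmw, Functor.map_comp, Category.assoc]))
  have hgY : ((yon S).map rY ≫ q₀) ≫ v.hom = (yon S).map gm ≫ p := by rw [hgm, C.sqt'.lift_fst]
  have hfX : ((yon S).map rX ≫ D.qX') ≫ u'.hom = (yon S).map fm ≫ C.qX' := by rw [hfm, C.sqf'.lift_fst]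
  have hgb : gm ≫ C.bV = bW ≫ m := (yon S).map_injective (by rw [Functor.map_comp, hgm, C.sqt'.lift_snd])
  have hfa : fm ≫ C.aV = aW ≫ m := (yon S).map_injective (by rw [Functor.map_comp, hfm, C.sqf'.lift_snd])
  have hq : D'.qX ≫ uX.hom ≫ t.hom = (yon S).map iW ≫ D'.qX' ≫ u'.hom := by
    rw [← hUU'.w, ← Category.assoc, D'.sqt.w, Category.assoc]
  obtain ⟨hh, hhh⟩ := (yon S).map_surjective (C.sqt.lift (D'.qX ≫ uX.hom) ((yon S).map (iW ≫ fm)) (by
    rw [Category.assoc, hq, Functor.map_comp]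
    simp only [Category.assoc]
    rw [← hfX]))
  have hh₁ : (yon S).map hh ≫ C.qX = D'.qX ≫ uX.hom := by rw [hhh, C.sqt.lift_fst]
  have hh₂ : hh ≫ C.iV = iW ≫ fm := (yon S).map_injective (by rw [Functor.map_comp, hhh, C.sqt.lift_snd])
  have cIy : IsPullback ((yon S).map hh) ((yon S).map iW) ((yon S).map C.iV) ((yon S).map fm) := by
    refine IsPullback.of_right ?_ (by rw [← Functor.map_comp, ← Functor.map_comp, hh₂]) C.sqt
    rw [hh₁, ← hfX]
    exact D'.sqt.paste_horiz hUU'.flip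
  have hh₃ : hh ≫ C.jV = jW ≫ gm := by
    refine (yon S).map_injective (C.sqt'.hom_ext ?_ ?_)
    · rw [Functor.map_comp, Category.assoc, ← C.sqf.w, ← Category.assoc, hh₁, Category.assoc, ← hUV.w,
        ← Category.assoc, D'.sqf.w, Category.assoc, hgY, Functor.map_comp, Category.assoc]
    · have e1 : C.iV ≫ C.aV = C.jV ≫ C.bV := Over.OverMorphism.ext C.push.pushout.w
      have e2 : iW ≫ aW = jW ≫ bW := Over.OverMorphism.ext hW.pushout.w
      rw [← Functor.map_comp, ← Functor.map_comp, Category.assoc, ← e1, reassoc_of% hh₂, hfa, reassoc_of% e2,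
        Category.assoc, hgb]
  have cJy : IsPullback ((yon S).map hh) ((yon S).map jW) ((yon S).map C.jV) ((yon S).map gm) := by
    refine IsPullback.of_right ?_ (by rw [← Functor.map_comp, ← Functor.map_comp, hh₃]) C.sqf
    rw [hh₁, ← hgY]
    exact D'.sqf.paste_horiz hUV.flip
  exact ⟨{
    C₀ := C₀, p := p, hpe := hpe, hps := hps, C := C, D₀ := WY, q := (yon S).map rY ≫ q₀
    hqe := RepWith.comp ((repWith_yon_map_iff _ _).2 ‹Etale rY.left›) hq₀e
    hqs := RepWith.comp ((repWith_yon_map_iff _ _).2 ‹Surjective rY.left›) hq₀s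
    D := D', h := hh, fm := fm, gm := gm, m := m, hY := hgY, hX' := hfX
    hm := by show ((yon S).map r ≫ D.π) ≫ v'.hom = _; rw [Category.assoc, ← hmw]
    cI := (IsPullback.of_map (yon S) hh₂ cIy).map (Over.forget S)
    cJ := (IsPullback.of_map (yon S) hh₃ cJy).map (Over.forget S)
    wa := congrArg CommaMorphism.left hfa.symm
    wb := congrArg CommaMorphism.left hgb.symm }⟩

section

variable {X X' Y Y' U U' V V' : Space S} {uU' : U ⟶ U'} {uV : U ⟶ V} {iU' : U' ⟶ V'} {iV : V ⟶ V'}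
  {t : X ⟶ X'} {f : X ⟶ Y} {f' : X' ⟶ Y'} {t' : Y ⟶ Y'} {v : V ⟶ Y} {u' : U' ⟶ X'} {v' : V' ⟶ Y'}
  (M : MapChart uU' uV iU' iV t f f' t' v u' v')

include M in
theorem MapChart.isPullback (hv'₁ : iV ≫ v' = v ≫ t') (hv'₂ : iU' ≫ v' = u' ≫ f') :
    IsPullback iV.hom v.hom v'.hom t'.hom ∧ IsPullback iU'.hom u'.hom v'.hom f'.hom := by
  obtain ⟨pa, pb, -⟩ := FerrandThick.map_props M.C.push M.D.push M.cI M.cJ M.wa M.wb
  have pbO : IsPullback M.gm M.D.bV M.C.bV M.m :=
    IsPullback.of_map (Over.forget S) (Over.OverMorphism.ext M.wb.symm) pb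
  have paO : IsPullback M.fm M.D.aV M.C.aV M.m :=
    IsPullback.of_map (Over.forget S) (Over.OverMorphism.ext M.wa.symm) pa
  refine ⟨isPullback_of_cover (congrArg (fun m => m.hom) hv'₁) M.D.het M.D.hsu M.D.sqt' ?_,
    isPullback_of_cover (congrArg (fun m => m.hom) hv'₂) M.D.het M.D.hsu M.D.sqf' ?_⟩
  · rw [M.hY, M.hm]
    exact (pbO.map (yon S)).paste_horiz M.C.sqt'
  · rw [M.hX', M.hm]
    exact (paO.map (yon S)).paste_horiz M.C.sqf'

include M in
theorem MapChart.locP_iff {P : MorphismProperty Scheme.{u}} (hP : EtLocal P)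
    (hglue : P M.fm.left → P M.gm.left → P M.m.left) :
    LocP P v'.hom ↔ LocP P v.hom ∧ LocP P u'.hom := by
  have := hP.bc
  obtain ⟨pa, pb, -⟩ := FerrandThick.map_props M.C.push M.D.push M.cI M.cJ M.wa M.wb
  obtain ⟨eC, -⟩ := M.C.etX'
  obtain ⟨eD, sD, -⟩ := M.D.etX'
  constructor
  · intro h
    have hm : P M.m.left := h M.D.π M.C.π M.m M.D.het M.C.het M.hm
    exact ⟨locP_of_chart_square hP V.property M.q M.hqe M.hqs M.p M.hpe M.gm
        (MorphismProperty.of_isPullback pb.flip hm) M.hY,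
      locP_of_chart_square hP U'.property M.D.qX' eD sD M.C.qX' eC M.fm
        (MorphismProperty.of_isPullback pa.flip hm) M.hX'⟩
  · rintro ⟨hv, hu⟩
    exact locP_of_chart_square hP V'.property M.D.π M.D.het M.D.hsu M.C.π M.C.het M.m
      (hglue (hu M.D.qX' M.C.qX' M.fm eD eC M.hX') (hv M.q M.p M.gm M.hqe M.hpe M.hY)) M.hm

end

end Groth.Agent.AlgSpLib.FerrandProps
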