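import Groth.Agent.AlgSpLib.FerrandRing
import Groth.Agent.FlatMorPush.Sections
import Mathlib.AlgebraicGeometry.Morphisms.Etale
import Mathlib.AlgebraicGeometry.Morphisms.Smooth

/-!
# Pushouts of schemes along a thickening and an affine morphism, and morphisms between them
-/

set_option autoImplicit false
set_option backward.isDefEq.respectTransparency.types false
set_option linter.unusedSectionVars false
set_option linter.style.haveILetI false
set_option linter.overlappingInstances false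
universe u

open AlgebraicGeometry CategoryTheory Limits
open Groth.Agent.KerEval
open Groth.Agent.FlatMorPush (HasPairs Pair SubPair Over')

namespace Groth.Agent.AlgSpLib.FerrandThick

variable {Z X Y P Z' X' Y' P' : Scheme.{u}}

/-- a pushout of schemes along a thickening and an affine morphism -/
structure IsThickPush (i : Z ⟶ X) (j : Z ⟶ Y) (a : X ⟶ P) (b : Y ⟶ P) : Prop where
  closed : IsClosedImmersion i
  surj : Surjective i
  affine : IsAffineHom j
  pushout : IsPushout i j a b

theorem exists_isThickPush (i : Z ⟶ X) (j : Z ⟶ Y) [IsClosedImmersion i] [Surjective i] [IsAffineHom j] :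
    ∃ (P : Scheme.{u}) (a : X ⟶ P) (b : Y ⟶ P), IsThickPush i j a b := by
  have := FlatMorPush.hasPairs_of_thickening i j (Surjective.surj)
  exact ⟨_, _, _, inferInstance, inferInstance, inferInstance, FlatMorPush.isPushout i j⟩

variable {i : Z ⟶ X} {j : Z ⟶ Y} {a : X ⟶ P} {b : Y ⟶ P}

theorem IsThickPush.hasPairs (h : IsThickPush i j a b) :
    @HasPairs X Y Z i j :=
  haveI := h.closed
  haveI := h.affine
  FlatMorPush.hasPairs_of_thickening i j h.surj.surj

theorem IsThickPush.props (h : IsThickPush i j a b) :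
    IsPullback i j a b ∧ IsClosedImmersion b ∧ Surjective b ∧ IsAffineHom a := by
  haveI := h.closed
  haveI := h.affine
  haveI := h.hasPairs
  let e := (FlatMorPush.isPushout i j).isoIsPushout _ _ h.pushout
  have ha : FlatMorPush.inl i j ≫ e.hom = a := (FlatMorPush.isPushout i j).inl_isoIsPushout_hom _ _ h.pushout
  have hb : FlatMorPush.inr i j ≫ e.hom = b := (FlatMorPush.isPushout i j).inr_isoIsPushout_hom _ _ h.pushout
  have hc := FlatMorPush.isClosedImmersion_inr i j
  have hA := FlatMorPush.isAffineHom_inl i j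
  have hs : Surjective (FlatMorPush.inr i j) := ⟨FlatMorPush.surjective_inr i j h.surj.surj⟩
  refine ⟨?_, ?_, ?_, ?_⟩
  · exact (FlatMorPush.isPullback i j).of_iso (Iso.refl _) (Iso.refl _) (Iso.refl _) e
      (by simp) (by simp) (by simpa using ha) (by simpa using hb)
  all_goals first | (rw [← hb]; infer_instance) | (rw [← ha]; infer_instance)

section map

variable {i' : Z' ⟶ X'} {j' : Z' ⟶ Y'} {a' : X' ⟶ P'} {b' : Y' ⟶ P'} {f : X' ⟶ X} {g : Y' ⟶ Y}
  {h : Z' ⟶ Z} {m : P' ⟶ P}

theorem exists_cover [IsClosedImmersion i] [IsAffineHom j] [HasPairs i j] [IsClosedImmersion i']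
    [IsAffineHom j'] [HasPairs i' j'] (hi' : Function.Surjective i') (hX : IsPullback h i' i f)
    (hY : IsPullback h j' j g) (w : FlatMorPush.Po i' j') :
    ∃ p : SubPair f g i j i' j', w ∈ Set.range (FlatMorPush.ι p.1.1) := by
  obtain ⟨y', rfl⟩ := FlatMorPush.surjective_inr i' j' hi' w
  obtain ⟨k, hk⟩ := HasPairs.cover (i := i) (j := j) (g y')
  obtain ⟨V, hV, hy, hVle⟩ := exists_isAffineOpen_mem_and_subset (x := y') (U := g ⁻¹ᵁ k.V) hk
  obtain ⟨O, hO, hOV⟩ := i'.isClosedEmbedding.isInducing.isOpen_iff.mp (j' ⁻¹ᵁ V).isOpen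
  let U : X'.Opens := ⟨O, hO⟩
  have he : i' ⁻¹ᵁ U = j' ⁻¹ᵁ V := TopologicalSpace.Opens.ext hOV
  have : IsAffine (i' ⁻¹ᵁ U).toScheme := show IsAffineOpen _ from he ▸ hV.preimage j'
  have hU : IsAffineOpen U :=
    VarietyLib.isAffine_of_surjective_closedImmersion (i' ∣_ U) fun x => by
      obtain ⟨z, hz⟩ := hi' x.1
      exact ⟨⟨z, show i' z ∈ U from hz ▸ x.2⟩, Subtype.ext (by simp [hz])⟩
  refine ⟨⟨(⟨U, V, hU, hV, he⟩, k), ?_, hVle⟩, FlatMorPush.inr_mem_range_ι.mpr hy⟩
  intro x hx
  obtain ⟨z, rfl⟩ := hi' x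
  have h2 : j' z ∈ V := show z ∈ j' ⁻¹ᵁ V from he ▸ hx
  have h3 : g (j' z) ∈ k.V := hVle h2
  show f (i' z) ∈ k.U
  rw [← Scheme.Hom.comp_apply, ← hX.w]
  show h z ∈ i ⁻¹ᵁ k.U
  rw [k.eq]
  show (h ≫ j) z ∈ k.V
  rw [hY.w]
  exact h3

section std

variable [IsClosedImmersion i] [IsAffineHom j] [HasPairs i j] [IsClosedImmersion i'] [IsAffineHom j']
  [HasPairs i' j'] (hi : Function.Surjective i) (hi' : Function.Surjective i')
  (hX : IsPullback h i' i f) (hY : IsPullback h j' j g)

include hi' hX hY in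
theorem property_poMap (Q : MorphismProperty Scheme.{u}) [IsZariskiLocalAtSource Q]
    (hQ : ∀ p : SubPair f g i j i' j',
      Q (sp (FerrandAffine.mC hX hY p.2) ≫ FlatMorPush.ι p.1.2)) : Q (FerrandAffine.poMap hX hY) := by
  rw [IsZariskiLocalAtSource.iff_of_openCover (P := Q) (FerrandAffine.subCover (exists_cover hi' hX hY))]
  intro p
  change Q (FlatMorPush.ι p.1.1 ≫ FerrandAffine.poMap hX hY)
  rw [FerrandAffine.ι_poMap hX hY p.2]
  exact hQ p

include hi' in
theorem lft_poMap [LocallyOfFiniteType f] [LocallyOfFiniteType g] :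
    LocallyOfFiniteType (FerrandAffine.poMap hX hY) := by
  refine property_poMap hi' hX hY @LocallyOfFiniteType fun p => ?_
  have : LocallyOfFiniteType (sp (FerrandAffine.mC hX hY p.2)) :=
    HasRingHomProperty.Spec_iff.mpr (FlatMorPush.finiteType_map p.1.2.sq p.1.1.sq
      (FerrandAffine.f_mC hX hY p.2) (FerrandAffine.g_mC hX hY p.2)
      (FerrandAffine.isPushout_mA hY p.2) (FerrandAffine.isPushout_mB hX hY p.2)
      (HasRingHomProperty.appLE @LocallyOfFiniteType g inferInstance ⟨p.1.2.V, p.1.2.hV⟩ ⟨_, p.1.1.hV⟩ p.2.2)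
      (HasRingHomProperty.appLE @LocallyOfFiniteType f inferInstance ⟨p.1.2.U, p.1.2.hU⟩ ⟨_, p.1.1.hU⟩ p.2.1))
  infer_instance

include hi' in
theorem lfp_poMap [Flat f] [Flat g] [LocallyOfFinitePresentation f] [LocallyOfFinitePresentation g] :
    LocallyOfFinitePresentation (FerrandAffine.poMap hX hY) := by
  refine property_poMap hi' hX hY @LocallyOfFinitePresentation fun p => ?_
  have : LocallyOfFinitePresentation (sp (FerrandAffine.mC hX hY p.2)) :=
    HasRingHomProperty.Spec_iff.mpr (FerrandRing.finitePresentation_map p.1.2.sq p.1.1.sq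
      (FerrandAffine.f_mC hX hY p.2) (FerrandAffine.g_mC hX hY p.2)
      (FerrandAffine.isPushout_mA hY p.2) (FerrandAffine.isPushout_mB hX hY p.2)
      (HasRingHomProperty.appLE @Flat g inferInstance ⟨p.1.2.V, p.1.2.hV⟩ ⟨_, p.1.1.hV⟩ p.2.2)
      (HasRingHomProperty.appLE @Flat f inferInstance ⟨p.1.2.U, p.1.2.hU⟩ ⟨_, p.1.1.hU⟩ p.2.1)
      (HasRingHomProperty.appLE @LocallyOfFinitePresentation g inferInstance ⟨p.1.2.V, p.1.2.hV⟩ ⟨_, p.1.1.hV⟩ p.2.2)
      (HasRingHomProperty.appLE @LocallyOfFinitePresentation f inferInstance ⟨p.1.2.U, p.1.2.hU⟩ ⟨_, p.1.1.hU⟩ p.2.1))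
  infer_instance

include hi in
theorem ker_le_prime (k : Pair i j) (Q : Ideal k.C) (hQ : Q.IsPrime) : RingHom.ker k.sq.f ≤ Q := by
  rcases k.sq.exists_point ⟨Q, hQ⟩ with ⟨y, hy⟩ | ⟨-, -, -, x, hx⟩
  · intro c hc
    have : c ∈ (sp k.sq.f y).asIdeal := show k.sq.f c ∈ y.asIdeal by
      rw [RingHom.mem_ker.mp hc]; exact zero_mem _
    have e : (PrimeSpectrum.comap k.sq.f y).asIdeal = Q := congrArg PrimeSpectrum.asIdeal hy
    exact e.le this
  · obtain ⟨z, hz⟩ := hi (k.hU.fromSpec x)
    have hzW : z ∈ j ⁻¹ᵁ k.V := by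
      rw [← k.eq]
      show i z ∈ k.U
      rw [hz]
      exact k.hU.range_fromSpec.le ⟨x, rfl⟩
    obtain ⟨z₀, hz₀⟩ : z ∈ Set.range k.hW.fromSpec := by rw [k.hW.range_fromSpec]; exact hzW
    have hx' : sp k.sq.p z₀ = x := by
      apply k.hU.fromSpec.isOpenEmbedding.injective
      rw [← Scheme.Hom.comp_apply, k.sp_p, Scheme.Hom.comp_apply, hz₀, hz]
    intro c hc
    have : c ∈ (sp k.sq.g x).asIdeal := by
      rw [← hx']
      show k.sq.p (k.sq.g c) ∈ z₀.asIdeal
      rw [← k.sq.comm, RingHom.mem_ker.mp hc, map_zero]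
      exact zero_mem _
    have e : (PrimeSpectrum.comap k.sq.g x).asIdeal = Q := congrArg PrimeSpectrum.asIdeal hx
    exact e.le this

include hi hi' in
theorem smooth_poMap [Smooth f] [Smooth g] : Smooth (FerrandAffine.poMap hX hY) := by
  refine property_poMap hi' hX hY @Smooth fun p => ?_
  have : Smooth (sp (FerrandAffine.mC hX hY p.2)) :=
    HasRingHomProperty.Spec_iff.mpr (FerrandRing.smooth_map p.1.2.sq p.1.1.sq
      (FerrandAffine.f_mC hX hY p.2) (FerrandAffine.g_mC hX hY p.2)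
      (FerrandAffine.isPushout_mA hY p.2) (FerrandAffine.isPushout_mB hX hY p.2)
      (ker_le_prime hi p.1.2)
      (HasRingHomProperty.appLE @Smooth g inferInstance ⟨p.1.2.V, p.1.2.hV⟩ ⟨_, p.1.1.hV⟩ p.2.2)
      (HasRingHomProperty.appLE @Smooth f inferInstance ⟨p.1.2.U, p.1.2.hU⟩ ⟨_, p.1.1.hU⟩ p.2.1))
  infer_instance

include hi' in
theorem etale_poMap [Etale f] [Etale g] : Etale (FerrandAffine.poMap hX hY) := by
  refine property_poMap hi' hX hY @Etale fun p => ?_
  have : Etale (sp (FerrandAffine.mC hX hY p.2)) :=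
    HasRingHomProperty.Spec_iff.mpr (FerrandRing.etale_map p.1.2.sq p.1.1.sq
      (FerrandAffine.f_mC hX hY p.2) (FerrandAffine.g_mC hX hY p.2)
      (FerrandAffine.isPushout_mA hY p.2) (FerrandAffine.isPushout_mB hX hY p.2)
      (HasRingHomProperty.appLE @Etale g inferInstance ⟨p.1.2.V, p.1.2.hV⟩ ⟨_, p.1.1.hV⟩ p.2.2)
      (HasRingHomProperty.appLE @Etale f inferInstance ⟨p.1.2.U, p.1.2.hU⟩ ⟨_, p.1.1.hU⟩ p.2.1))
  infer_instance

end std

/-- what a morphism of thickened pushouts inherits from its two restrictions -/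
theorem map_props (hP : IsThickPush i j a b) (hP' : IsThickPush i' j' a' b') (hX : IsPullback h i' i f)
    (hY : IsPullback h j' j g) (ha : a' ≫ m = f ≫ a) (hb : b' ≫ m = g ≫ b) :
    IsPullback f a' a m ∧ IsPullback g b' b m ∧ (Flat f → Flat g → Flat m) ∧
      (LocallyOfFiniteType f → LocallyOfFiniteType g → LocallyOfFiniteType m) ∧
      (Flat f → Flat g → LocallyOfFinitePresentation f → LocallyOfFinitePresentation g →
        LocallyOfFinitePresentation m) ∧
      (Smooth f → Smooth g → Smooth m) ∧ (Etale f → Etale g → Etale m) := by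
  haveI := hP.closed
  haveI := hP.affine
  haveI := hP.hasPairs
  haveI := hP'.closed
  haveI := hP'.affine
  haveI := hP'.hasPairs
  have hi' := hP'.surj.surj
  have hi := hP.surj.surj
  let e := (FlatMorPush.isPushout i j).isoIsPushout _ _ hP.pushout
  let e' := (FlatMorPush.isPushout i' j').isoIsPushout _ _ hP'.pushout
  have hal : FlatMorPush.inl i j ≫ e.hom = a := (FlatMorPush.isPushout i j).inl_isoIsPushout_hom _ _ hP.pushout
  have hbl : FlatMorPush.inr i j ≫ e.hom = b := (FlatMorPush.isPushout i j).inr_isoIsPushout_hom _ _ hP.pushout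
  have hal' : FlatMorPush.inl i' j' ≫ e'.hom = a' :=
    (FlatMorPush.isPushout i' j').inl_isoIsPushout_hom _ _ hP'.pushout
  have hbl' : FlatMorPush.inr i' j' ≫ e'.hom = b' :=
    (FlatMorPush.isPushout i' j').inr_isoIsPushout_hom _ _ hP'.pushout
  have hm : e'.hom ≫ m = FerrandAffine.poMap hX hY ≫ e.hom := by
    refine (FlatMorPush.isPushout i' j').hom_ext ?_ ?_
    · rw [reassoc_of% hal', ha, reassoc_of% (FerrandAffine.inl_poMap hX hY), hal]
    · rw [reassoc_of% hbl', hb, reassoc_of% (FerrandAffine.inr_poMap hX hY), hbl]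
  have hcov := exists_cover hi' hX hY
  have key : ∀ (Q : MorphismProperty Scheme.{u}), Q.RespectsIso → Q (FerrandAffine.poMap hX hY) → Q m := by
    intro Q hQ h
    rw [show m = e'.inv ≫ FerrandAffine.poMap hX hY ≫ e.hom from (Iso.eq_inv_comp e').2 hm,
      MorphismProperty.cancel_left_of_respectsIso Q, MorphismProperty.cancel_right_of_respectsIso Q]
    exact h
  refine ⟨?_, ?_, fun hf hg => key @Flat inferInstance (FerrandAffine.flat_poMap hX hY hcov),
    fun hf hg => key @LocallyOfFiniteType inferInstance (lft_poMap hi' hX hY),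
    fun _ _ _ _ => key @LocallyOfFinitePresentation inferInstance (lfp_poMap hi' hX hY),
    fun _ _ => key @Smooth inferInstance (smooth_poMap hi hi' hX hY),
    fun _ _ => key @Etale inferInstance (etale_poMap hi' hX hY)⟩
  · exact (FerrandAffine.isPullback_inl_poMap hX hY hcov).of_iso (Iso.refl _) (Iso.refl _) e' e
      (by simp) (by simpa using hal') (by simpa using hal) (by simpa using hm.symm)
  · exact (FerrandAffine.isPullback_inr_poMap hX hY hcov).of_iso (Iso.refl _) (Iso.refl _) e' e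
      (by simp) (by simpa using hbl') (by simpa using hbl) (by simpa using hm.symm)

end map

end Groth.Agent.AlgSpLib.FerrandThick
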