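import Groth.Agent.AlgSpLib.MorQC
import Groth.Agent.AlgSpLib.RepLocal
import Groth.Agent.AlgSpLib.AffineDescent
import Groth.Agent.Pi1Alg.UnivInj
import Mathlib.Algebra.TrivSqZeroExt.Basic
import Mathlib.RingTheory.Smooth.Flat

/-!
Quasi-compact monomorphisms of algebraic spaces which are universally injective on functions are
isomorphisms.
-/

universe u

open CategoryTheory CategoryTheory.Limits AlgebraicGeometry Opposite AlgSp
open scoped TensorProduct

namespace Groth.Agent.AlgSpLib

variable {S : Scheme.{u}}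


theorem isPullback_comp_mono' {C : Type*} [Category C] {P A B Y Z : C} {a : P ⟶ A} {b : P ⟶ B}
    {p : A ⟶ Y} {q : B ⟶ Y} (sq : IsPullback a b p q) (i : Y ⟶ Z) [Mono i] :
    IsPullback a b (p ≫ i) (q ≫ i) :=
  ⟨⟨by rw [← Category.assoc, sq.w, Category.assoc]⟩, ⟨PullbackCone.IsLimit.mk _
    (fun s => sq.lift s.fst s.snd ((cancel_mono i).1 (by simpa using s.condition)))
    (fun s => sq.lift_fst ..) (fun s => sq.lift_snd ..)
    (fun s m h1 h2 => sq.hom_ext (by rw [sq.lift_fst]; exact h1) (by rw [sq.lift_snd]; exact h2))⟩⟩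

/-- the chart of a base change to an affine scheme -/
theorem univInjective_appTop_of_sections {T W : Over S} [IsAffine T.left] {P : Sp S}
    (p : (yon S).obj W ⟶ P) (he : RepWith @Etale p) (hs : RepWith @Surjective p)
    (snd : P ⟶ (yon S).obj T) (π : W ⟶ T) (hπ : (yon S).map π = p ≫ snd)
    (hinj : ∀ (T' : Over S) (c₀ : T' ⟶ T) (P' : Sp S) (fst' : P' ⟶ P) (snd' : P' ⟶ (yon S).obj T'),
      IsPullback fst' snd' snd ((yon S).map c₀) → ∀ s : Γ(T'.left, ⊤),
        (∀ (W' : Over S) (a : (yon S).obj W' ⟶ P') (c : W' ⟶ T'),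
          a ≫ snd' = (yon S).map c → c.left.appTop s = 0) → s = 0)
    (M : Type u) [AddCommGroup M] [Module Γ(T.left, ⊤) M] :
    letI := π.left.appTop.hom.toAlgebra
    Function.Injective (LinearMap.lTensor M (Algebra.linearMap Γ(T.left, ⊤) Γ(W.left, ⊤))) := by
  let A : Type u := Γ(T.left, ⊤)
  let B : Type u := Γ(W.left, ⊤)
  letI : Algebra A B := π.left.appTop.hom.toAlgebra
  show Function.Injective (LinearMap.lTensor M (Algebra.linearMap A B))
  refine (injective_iff_map_eq_zero _).2 fun z hz => ?_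
  obtain ⟨m, rfl⟩ := (TensorProduct.rid A M).symm.surjective z
  rw [TensorProduct.rid_symm_apply, LinearMap.lTensor_tmul, Algebra.linearMap_apply, map_one] at hz
  suffices hm : m = 0 by rw [hm, map_zero]
  letI : Module Aᵐᵒᵖ M := Module.compHom M ((RingHom.id A).fromOpposite mul_comm)
  haveI : IsCentralScalar A M := ⟨fun _ _ => rfl⟩
  let i : CommRingCat.of A ⟶ CommRingCat.of (TrivSqZeroExt A M) :=
    CommRingCat.ofHom (TrivSqZeroExt.inlHom A M)
  let T' : Over S := Over.mk (Spec.map i ≫ T.left.isoSpec.inv ≫ T.hom)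
  let c₀ : T' ⟶ T := Over.homMk (Spec.map i ≫ T.left.isoSpec.inv) (by simp [T'])
  let P' := pullback snd ((yon S).map c₀)
  let s : Γ(T'.left, ⊤) := (Scheme.ΓSpecIso (CommRingCat.of (TrivSqZeroExt A M))).inv (TrivSqZeroExt.inr m)
  have key : s = 0 := by
    refine hinj T' c₀ P' (pullback.fst _ _) (pullback.snd _ _) (IsPullback.of_hasPullback _ _) s
      fun W' a c hac => ?_
    let a₁ : (yon S).obj W' ⟶ P := a ≫ pullback.fst _ _
    let R := he.1.pullback a₁
    let u : R ⟶ W' := he.1.snd a₁
    have : Etale u.left := he.property_snd a₁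
    have : Surjective u.left := hs.2 a₁ _ _ (he.1.isPullback a₁)
    obtain ⟨v, hv⟩ := (yon S).map_surjective (he.1.fst a₁)
    have hvc : v ≫ π = (u ≫ c) ≫ c₀ := (yon S).map_injective (by
      calc (yon S).map (v ≫ π) = he.1.fst a₁ ≫ p ≫ snd := by rw [Functor.map_comp, hv, hπ]
        _ = (yon S).map u ≫ a₁ ≫ snd := by rw [← Category.assoc, he.1.w a₁, Category.assoc]
        _ = (yon S).map u ≫ a ≫ pullback.snd _ _ ≫ (yon S).map c₀ := by
          rw [← pullback.condition]; simp only [a₁, Category.assoc]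
        _ = _ := by rw [reassoc_of% hac]; simp only [Functor.map_comp, Category.assoc])
    have : Flat u.left := etale_le_flat _ _ _ ‹Etale u.left›
    refine appTop_injective_of_flat_surjective u.left ?_
    rw [map_zero]
    let C : Type u := Γ(R.left, ⊤)
    let ψ : TrivSqZeroExt A M →+* C :=
      ((Scheme.ΓSpecIso (CommRingCat.of (TrivSqZeroExt A M))).inv ≫ (u ≫ c).left.appTop).hom
    let χ : B →+* C := v.left.appTop.hom
    have hψ : ∀ r : A, ψ (TrivSqZeroExt.inl r) = χ (algebraMap A B r) := by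
      intro r
      have h1 : π.left.appTop ≫ v.left.appTop = c₀.left.appTop ≫ (u ≫ c).left.appTop := by
        rw [← Scheme.Hom.comp_appTop, ← Over.comp_left, hvc, Over.comp_left, Scheme.Hom.comp_appTop]
      have h2 : c₀.left.appTop = i ≫ (Scheme.ΓSpecIso (CommRingCat.of (TrivSqZeroExt A M))).inv := by
        show (Spec.map i ≫ T.left.isoSpec.inv).appTop = _
        rw [Scheme.Hom.comp_appTop]
        have h3 : T.left.isoSpec.inv.appTop = (Scheme.ΓSpecIso (CommRingCat.of A)).inv := by
          have h6 := congrArg Scheme.Hom.appTop T.left.isoSpec.inv_hom_id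
          rw [Scheme.Hom.comp_appTop, Scheme.Hom.id_appTop, Scheme.isoSpec_hom, Scheme.toSpecΓ_appTop] at h6
          rw [← Iso.inv_hom_id_assoc (Scheme.ΓSpecIso (CommRingCat.of A)) T.left.isoSpec.inv.appTop]
          exact (congrArg _ h6).trans (Category.comp_id _)
        rw [h3]
        exact (Scheme.ΓSpecIso_inv_naturality i).symm
      rw [h2, Category.assoc] at h1
      exact (congrArg (fun q : Γ(T.left, ⊤) ⟶ Γ(R.left, ⊤) => q.hom r) h1).symm
    have hadd : ∀ (r : A) (x : M), TrivSqZeroExt.inr (r • x) =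
        (TrivSqZeroExt.inl r : TrivSqZeroExt A M) * TrivSqZeroExt.inr x :=
      fun r x => (TrivSqZeroExt.inl_mul_inr r x).symm
    let L : M ⊗[A] B →+ C := TensorProduct.liftAddHom
      (AddMonoidHom.mk' (fun x => AddMonoidHom.mk' (fun b => ψ (TrivSqZeroExt.inr x) * χ b)
          fun b b' => by rw [map_add, mul_add])
        fun x x' => AddMonoidHom.ext fun b => by
          show ψ (TrivSqZeroExt.inr (x + x')) * χ b = _
          rw [TrivSqZeroExt.inr_add, map_add, add_mul]; rfl)
      fun r x b => by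
        show ψ (TrivSqZeroExt.inr (r • x)) * χ b = ψ (TrivSqZeroExt.inr x) * χ (r • b)
        rw [hadd, map_mul, hψ, Algebra.smul_def, map_mul]; ring
    have h4 : L (m ⊗ₜ[A] (1 : B)) = 0 := (congrArg L hz).trans (map_zero L)
    simp only [L, TensorProduct.liftAddHom_tmul, AddMonoidHom.mk'_apply, map_one, mul_one] at h4
    exact h4
  have h5 : (TrivSqZeroExt.inr m : TrivSqZeroExt A M) = 0 := by
    have := congrArg (Scheme.ΓSpecIso (CommRingCat.of (TrivSqZeroExt A M))).hom.hom key
    rw [map_zero] at this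
    exact (Iso.inv_hom_id_apply (Scheme.ΓSpecIso (CommRingCat.of (TrivSqZeroExt A M))) _).symm.trans this
  exact TrivSqZeroExt.inr_injective (h5.trans (TrivSqZeroExt.inr_zero A).symm)

/-- the chart is an etale covering of the base -/
theorem etale_surjective_of_univInjective {T W : Over S} [IsAffine T.left] [IsAffine W.left] {P : Sp S}
    (p : (yon S).obj W ⟶ P) (he : RepWith @Etale p) (snd : P ⟶ (yon S).obj T) [Mono snd]
    (π : W ⟶ T) (hπ : (yon S).map π = p ≫ snd)
    (hU : letI := π.left.appTop.hom.toAlgebra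
      ∀ (M : Type u) [AddCommGroup M] [Module Γ(T.left, ⊤) M],
      Function.Injective (LinearMap.lTensor M (Algebra.linearMap Γ(T.left, ⊤) Γ(W.left, ⊤)))) :
    Etale π.left ∧ Surjective π.left := by
  let A : Type u := Γ(T.left, ⊤)
  let B : Type u := Γ(W.left, ⊤)
  letI : Algebra A B := π.left.appTop.hom.toAlgebra
  obtain ⟨r₁, hr₁⟩ := (yon S).map_surjective (he.1.fst p)
  have sq₀ : IsPullback (he.1.fst p) ((yon S).map (he.1.snd p)) p p := he.1.isPullback p
  rw [← hr₁] at sq₀
  have hr₁e : Etale r₁.left := he.2 p _ _ sq₀.flip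
  have sq₁ := isPullback_comp_mono' sq₀ snd
  rw [← hπ] at sq₁
  have sqL : IsPullback r₁.left (he.1.snd p).left π.left π.left :=
    (IsPullback.of_map (yon S) (by
      apply (yon S).map_injective
      rw [Functor.map_comp, Functor.map_comp]
      exact sq₁.w) sq₁).map (Over.forget S)
  let φ : CommRingCat.of A ⟶ CommRingCat.of B := CommRingCat.ofHom (algebraMap A B)
  let inl : CommRingCat.of B ⟶ CommRingCat.of (B ⊗[A] B) :=
    CommRingCat.ofHom Algebra.TensorProduct.includeLeftRingHom
  let inr : CommRingCat.of B ⟶ CommRingCat.of (B ⊗[A] B) :=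
    CommRingCat.ofHom (Algebra.TensorProduct.includeRight : B →ₐ[A] B ⊗[A] B).toRingHom
  have hφ : φ = π.left.appTop := rfl
  have sqS : IsPullback (Spec.map inl) (Spec.map inr) (Spec.map φ) (Spec.map φ) :=
    isPullback_SpecMap_of_isPushout _ _ _ _ (CommRingCat.isPushout_tensorProduct A B B)
  have hnat : Spec.map φ = W.left.isoSpec.inv ≫ π.left ≫ T.left.isoSpec.hom := by
    rw [hφ]
    rw [← Scheme.isoSpec_inv_naturality_assoc π.left T.left.isoSpec.hom]
    simp
  have sqT : IsPullback (Spec.map inl ≫ W.left.isoSpec.inv) (Spec.map inr ≫ W.left.isoSpec.inv)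
      π.left π.left := by
    refine IsPullback.of_iso sqS (Iso.refl _) W.left.isoSpec.symm W.left.isoSpec.symm T.left.isoSpec.symm
      ?_ ?_ ?_ ?_ <;> simp [hnat]
  let e := sqT.isoIsPullback _ _ sqL
  have hinl : Etale (Spec.map inl) := by
    have h1 : e.hom ≫ r₁.left = Spec.map inl ≫ W.left.isoSpec.inv := sqT.isoIsPullback_hom_fst _ _ sqL
    have h2 : Spec.map inl = e.hom ≫ r₁.left ≫ W.left.isoSpec.hom := by
      rw [← Category.assoc, h1, Category.assoc, Iso.inv_hom_id, Category.comp_id]
    rw [h2]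
    infer_instance
  have hBB : Algebra.Etale B (B ⊗[A] B) := by
    have h1 : inl.hom.Etale := (HasRingHomProperty.Spec_iff (P := @Etale)).1 hinl
    rw [← RingHom.etale_algebraMap]
    exact h1
  have hU' : ∀ (M : Type u) [AddCommGroup M] [Module A M],
      Function.Injective (LinearMap.lTensor M (Algebra.linearMap A B)) := hU
  have hAB : Algebra.Etale A B := Pi1Alg.etale_of_univInjective hU' B
  have hπe : π.left = W.left.isoSpec.hom ≫ Spec.map φ ≫ T.left.isoSpec.inv := by simp [hnat]
  have hφe : Etale (Spec.map φ) := (HasRingHomProperty.Spec_iff (P := @Etale)).2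
    (RingHom.etale_algebraMap.2 hAB)
  have hff : Module.FaithfullyFlat A B := by
    haveI : Module.Flat A B := inferInstance
    refine (Module.FaithfullyFlat.iff_flat_and_proper_ideal A B).2 ⟨inferInstance, fun I hI htop => hI ?_⟩
    rw [Ideal.eq_top_iff_one, ← Ideal.Quotient.eq_zero_iff_mem]
    refine Pi1Alg.one_tmul_injective hU' _ _ ?_
    have h1 : (1 : B) ∈ I • (⊤ : Submodule A B) := by rw [htop]; exact Submodule.mem_top
    have key : ∀ b ∈ I • (⊤ : Submodule A B), b ⊗ₜ[A] (Ideal.Quotient.mk I 1) = 0 := fun b hb => by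
      refine Submodule.smul_induction_on hb (fun r hr x _ => ?_) fun x y hx hy => by
        rw [TensorProduct.add_tmul, hx, hy, add_zero]
      rw [TensorProduct.smul_tmul, Algebra.smul_def, Ideal.Quotient.algebraMap_eq,
        Ideal.Quotient.eq_zero_iff_mem.2 hr, zero_mul, TensorProduct.tmul_zero]
    exact key 1 h1
  have hφs : Surjective (Spec.map φ) := ⟨PrimeSpectrum.comap_surjective_of_faithfullyFlat (B := B)⟩
  rw [hπe]
  exact ⟨inferInstance, inferInstance⟩

theorem isIso_of_qc_mono_sections {X Y : Space.{u} S} (f : X.obj ⟶ Y.obj) [Mono f]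
    (hqc : IsQuasiCompactMor f)
    (hinj : ∀ (T : Over S) (g : (yon S).obj T ⟶ Y.obj) (P : Sp S) (fst : P ⟶ X.obj)
      (snd : P ⟶ (yon S).obj T), IsPullback fst snd f g →
      ∀ s : Γ(T.left, ⊤),
        (∀ (W : Over S) (a : (yon S).obj W ⟶ P) (c : W ⟶ T),
          a ≫ snd = (yon S).map c → c.left.appTop s = 0) → s = 0) :
    IsIso f := by
  have main : ∀ (T : Over S), IsAffine T.left → ∀ (g : (yon S).obj T ⟶ Y.obj),
      ∃ (W : Over S) (π : W ⟶ T), Etale π.left ∧ Surjective π.left ∧
        ∃ h : (yon S).obj W ⟶ X.obj, h ≫ f = (yon S).map π ≫ g := by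
    intro T _ g
    have sq : IsPullback (pullback.fst f g) (pullback.snd f g) f g := IsPullback.of_hasPullback f g
    have hP := isAlgSpace_of_isPullback Y.property.diag X.property (IsAlgSpace.yon_obj T) sq
    haveI : CompactSpace ↥T.left := inferInstance
    haveI := compactSpace_of_isQuasiCompactMor hqc sq
    obtain ⟨W, p, hW, he, hs⟩ := exists_affine_chart hP
    obtain ⟨π, hπ⟩ := (yon S).map_surjective (p ≫ pullback.snd f g)
    obtain ⟨h1, h2⟩ := etale_surjective_of_univInjective p he (pullback.snd f g) π hπ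
      (univInjective_appTop_of_sections p he hs (pullback.snd f g) π hπ
        fun T' c₀ P' fst' snd' sq' s hs' =>
          hinj T' ((yon S).map c₀ ≫ g) P' _ snd' (sq'.paste_horiz sq) s hs')
    exact ⟨W, π, h1, h2, p ≫ pullback.fst f g, by
      rw [Category.assoc, pullback.condition, ← Category.assoc, ← hπ]⟩
  have : Sheaf.IsLocallySurjective f := by
    refine ⟨fun {T} s => ?_⟩
    let g := (GrothendieckTopology.uliftYonedaEquiv.{u + 1} (J S)).symm s
    let c : ∀ O : T.left.affineOpens, restrictOver T O.1 ⟶ T := fun O => restrictOverι T O.1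
    have hc : ∀ z : T.left, ∃ O, z ∈ Set.range (c O).left := fun z => by
      obtain ⟨_, ⟨O, hO, rfl⟩, hz, -⟩ :=
        T.left.isBasis_affineOpens.exists_subset_of_mem_open (Set.mem_univ z) isOpen_univ
      exact ⟨⟨O, hO⟩, by rw [range_restrictOverι]; exact hz⟩
    refine (J S).transitive (ofArrows_mem_J c hc) _ fun Z a ha => ?_
    obtain ⟨_, b, _, ⟨O⟩, rfl⟩ := ha
    rw [Sieve.pullback_comp]
    refine (J S).pullback_stable b ?_
    obtain ⟨W, π, h1, h2, h, hh⟩ := main (restrictOver T O.1) O.2 ((yon S).map (c O) ≫ g)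
    haveI := etale_le_flat _ _ _ h1
    haveI := etale_le_lfp _ _ _ h1
    haveI := h2
    refine mem_J_of_flat_lfp_surjective π ?_
    have hh' : h ≫ f = (yon S).map (π ≫ c O) ≫ g := by rw [hh, Functor.map_comp, Category.assoc]
    have := (imageSieve_iff f _ (π ≫ c O)).2 ⟨h, hh'⟩
    rw [Equiv.apply_symm_apply] at this
    exact this
  haveI := this
  have : Epi f := Sheaf.epi_of_isLocallySurjective f
  exact isIso_of_mono_of_epi f

end Groth.Agent.AlgSpLib
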