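import Groth.Agent.AlgSpLib.PushEtale
import Groth.Agent.AlgSpLib.ThickScheme
import Groth.Agent.Et18.Thickening

/-!
The small etale site of a thickening.
-/

universe u

open CategoryTheory CategoryTheory.Limits AlgebraicGeometry Opposite
open AlgSp

noncomputable section

namespace Groth.Agent.AlgSpLib.ThickEt

set_option backward.isDefEq.respectTransparency.types false

variable {S : Scheme.{u}}

/-- maps into a scheme etale over a space extend uniquely along universal homeomorphisms -/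
theorem existsUnique_lift_etOver {Y : Sp S} {T T₀ W : Over S} (j : T₀ ⟶ T) [IsIntegralHom j.left]
    [UniversallyInjective j.left] [Surjective j.left] (a : (yon S).obj T ⟶ Y) (e : (yon S).obj W ⟶ Y)
    (he : RepWith @Etale e) (x : T₀ ⟶ W) (w : (yon S).map x ≫ e = (yon S).map j ≫ a) :
    ∃! g : T ⟶ W, (yon S).map g ≫ e = a ∧ j ≫ g = x := by
  have sq := he.1.isPullback a
  let P := he.1.pullback a
  let π : P ⟶ T := he.1.snd a
  have : Etale π.left := he.property_snd a
  obtain ⟨fw, hfw⟩ := (yon S).map_surjective (he.1.fst a)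
  obtain ⟨f₀, hf₀⟩ := (yon S).map_surjective (sq.lift ((yon S).map x) ((yon S).map j) w)
  have h1 : f₀ ≫ π = j := (yon S).map_injective (by rw [Functor.map_comp, hf₀, sq.lift_snd])
  have h2 : f₀ ≫ fw = x := (yon S).map_injective (by rw [Functor.map_comp, hf₀, hfw, sq.lift_fst])
  obtain ⟨s, ⟨hs1, hs2⟩, huniq⟩ := FEtLib.existsUnique_lift π.left (𝟙 T.left) j.left f₀.left
    (by rw [← Over.comp_left, h1, Category.comp_id])
  let s' : T ⟶ P := Over.homMk s (by rw [← Over.w π, ← Category.assoc, hs1, Category.id_comp])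
  have hs' : s' ≫ π = 𝟙 T := Over.OverMorphism.ext hs1
  refine ⟨s' ≫ fw, ⟨?_, ?_⟩, fun g hg => ?_⟩
  · rw [Functor.map_comp, Category.assoc, hfw, sq.w, ← Functor.map_comp_assoc, hs', (yon S).map_id,
      Category.id_comp]
  · rw [← Category.assoc, show j ≫ s' = f₀ from Over.OverMorphism.ext hs2, h2]
  · obtain ⟨s'', hs''⟩ := (yon S).map_surjective (sq.lift ((yon S).map g) (𝟙 _) (by rw [Category.id_comp, hg.1]))
    have e1 : s'' ≫ π = 𝟙 T := (yon S).map_injective (by rw [Functor.map_comp, hs'', sq.lift_snd, (yon S).map_id])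
    have e2 : s'' ≫ fw = g := (yon S).map_injective (by rw [Functor.map_comp, hs'', hfw, sq.lift_fst])
    have e3 : j ≫ s'' = f₀ := (yon S).map_injective (sq.hom_ext
      (by rw [← hfw, ← Functor.map_comp, ← Functor.map_comp, Category.assoc, e2, hg.2, h2])
      (by rw [← Functor.map_comp, ← Functor.map_comp, Category.assoc, e1, Category.comp_id, h1]))
    have e4 : s''.left = s := huniq s''.left
      ⟨congrArg (fun m : T ⟶ T => m.left) e1, congrArg (fun m : T₀ ⟶ P => m.left) e3⟩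
    rw [← e2, show s'' = s' from Over.OverMorphism.ext e4]

variable {X X' : Sp S} {i : X ⟶ X'}

theorem bc_map_bijective (hi : IsThickMor i) (E E' : EtOver X') :
    Function.Bijective fun g : E ⟶ E' => (EtOver.bc hi.1).map g := by
  have h : AlgSp.thick (hi.1.snd E.obj.hom).left := hi.property_snd E.obj.hom
  have : IsClosedImmersion (hi.1.snd E.obj.hom).left := h.1
  have : Surjective (hi.1.snd E.obj.hom).left := h.2
  refine ⟨fun g g' hgg => ?_, fun χ => ?_⟩
  · have e := congrArg (fun m : (EtOver.bc hi.1).obj E ⟶ (EtOver.bc hi.1).obj E' =>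
      m.hom.left ≫ hi.1.snd E'.obj.hom) hgg
    change (EtOver.bcMap hi.1 g).hom.left ≫ _ = (EtOver.bcMap hi.1 g').hom.left ≫ _ at e
    rw [EtOver.bcMap_snd, EtOver.bcMap_snd] at e
    obtain ⟨m, -, hu⟩ := existsUnique_lift_etOver (hi.1.snd E.obj.hom) E.obj.hom E'.obj.hom E'.property
      (hi.1.snd E.obj.hom ≫ g.hom.left) (by rw [Functor.map_comp, Category.assoc, EtOver.w g])
    exact EtOver.hom_ext _ _ ((hu _ ⟨EtOver.w g, rfl⟩).trans (hu _ ⟨EtOver.w g', e.symm⟩).symm)
  · have hχ : (yon S).map χ.hom.left ≫ hi.1.fst E'.obj.hom = hi.1.fst E.obj.hom := EtOver.w χ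
    obtain ⟨m, ⟨hm1, hm2⟩, -⟩ := existsUnique_lift_etOver (hi.1.snd E.obj.hom) E.obj.hom E'.obj.hom E'.property
      (χ.hom.left ≫ hi.1.snd E'.obj.hom) (by
        rw [Functor.map_comp, Category.assoc]
        exact (congrArg ((yon S).map χ.hom.left ≫ ·) (hi.1.isPullback E'.obj.hom).w.symm).trans
          ((Category.assoc _ _ _).symm.trans ((congrArg (· ≫ i) hχ).trans (hi.1.isPullback E.obj.hom).w)))
    refine ⟨EtOver.homMk m hm1, EtOver.hom_ext _ _ (hi.1.hom_ext ?_ ?_)⟩
    · exact (EtOver.map_bcMap_fst hi.1 _).trans hχ.symm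
    · exact (EtOver.bcMap_snd hi.1 _).trans hm2

section chart

variable {E U U₀ W₀ W' : Over S} {b : (yon S).obj E ⟶ X} {p : (yon S).obj U ⟶ X'}
  {q : (yon S).obj U₀ ⟶ X} {iU : U₀ ⟶ U} {fE : (yon S).obj W₀ ⟶ (yon S).obj E} {v : W₀ ⟶ U₀}
  {ν : W₀ ⟶ W'} {wb : W' ⟶ U}

theorem exists_chart_sec (sq0 : IsPullback q ((yon S).map iU) i p) (sqv : IsPullback fE ((yon S).map v) b q)
    (sqW' : IsPullback ((yon S).map ν) ((yon S).map v) ((yon S).map wb) ((yon S).map iU)) :
    ∃ sW : PushSp.Sec i b W', sW.g = (yon S).map wb ≫ p ∧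
      ∀ ⦃T' : Over S⦄ (u : T' ⟶ W') (h : (yon S).obj T' ⟶ X) (w : h ≫ i = (yon S).map u ≫ sW.g),
        ∃ χ : (yon S).obj T' ⟶ (yon S).obj W₀, χ ≫ (yon S).map ν = (yon S).map u ∧ χ ≫ (yon S).map v ≫ q = h ∧
          sW.φ u h w = χ ≫ fE := by
  have hlift : ∀ {T' : Over S} (u : T' ⟶ W') (h : (yon S).obj T' ⟶ X),
      h ≫ i = (yon S).map u ≫ (yon S).map wb ≫ p →
      ∃ χ : (yon S).obj T' ⟶ (yon S).obj W₀, χ ≫ (yon S).map ν = (yon S).map u ∧ χ ≫ (yon S).map v ≫ q = h :=
    fun {T'} u h w => by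
      refine ⟨sqW'.lift ((yon S).map u) (sq0.lift h ((yon S).map u ≫ (yon S).map wb) (by rw [Category.assoc]; exact w))
        (sq0.lift_snd _ _ _).symm, sqW'.lift_fst _ _ _, ?_⟩
      rw [← Category.assoc, sqW'.lift_snd]
      exact sq0.lift_fst _ _ _
  choose χ hχ1 hχ2 using @hlift
  refine ⟨{ g := (yon S).map wb ≫ p, φ := fun T' u h w => χ u h w ≫ fE, hb := fun T' u h w => ?_,
            nat := fun T' T'' v' u h w => ?_ }, rfl, fun T' u h w => ⟨_, hχ1 u h w, hχ2 u h w, rfl⟩⟩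
  · rw [Category.assoc, sqv.w]; exact hχ2 u h w
  · rw [← Category.assoc]
    congr 1
    refine sqW'.hom_ext ?_ (sq0.hom_ext ?_ ?_)
    · rw [Category.assoc, hχ1, hχ1, Functor.map_comp]
    · rw [Category.assoc, Category.assoc, Category.assoc, hχ2, hχ2]
    · rw [Category.assoc, Category.assoc, Category.assoc, ← sqW'.w, reassoc_of% hχ1, reassoc_of% hχ1,
        Functor.map_comp, Category.assoc]

theorem chart_existsUnique (sq0 : IsPullback q ((yon S).map iU) i p) (sqv : IsPullback fE ((yon S).map v) b q)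
    (sqW : IsPullback ν v wb iU) (sqW' : IsPullback ((yon S).map ν) ((yon S).map v) ((yon S).map wb) ((yon S).map iU))
    (hWe : Etale wb.left) (sW : PushSp.Sec i b W') (hg₀ : sW.g = (yon S).map wb ≫ p)
    (hsW : ∀ ⦃T' : Over S⦄ (u : T' ⟶ W') (h : (yon S).obj T' ⟶ X) (w : h ≫ i = (yon S).map u ≫ sW.g),
        ∃ χ : (yon S).obj T' ⟶ (yon S).obj W₀, χ ≫ (yon S).map ν = (yon S).map u ∧ χ ≫ (yon S).map v ≫ q = h ∧
          sW.φ u h w = χ ≫ fE)
    {K K₀ : Over S} (y : K ⟶ U) {iK : K₀ ⟶ K} {yK : K₀ ⟶ U₀} (sqK : IsPullback iK yK y iU)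
    (sqK' : IsPullback ((yon S).map iK) ((yon S).map yK) ((yon S).map y) ((yon S).map iU))
    [IsClosedImmersion iK.left] [Surjective iK.left] (sx : PushSp.Sec i b K) (hg : sx.g = (yon S).map y ≫ p) :
    ∃! m : K ⟶ W', (yon S).map m ≫ (yon S).map wb = (yon S).map y ∧ sW.res m = sx := by
  have h₀ : ((yon S).map yK ≫ q) ≫ i = (yon S).map iK ≫ sx.g := by
    rw [hg, Category.assoc, sq0.w, ← Functor.map_comp_assoc, ← sqK.w, Functor.map_comp_assoc]
  obtain ⟨c₀, hc₀⟩ := (yon S).map_surjective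
    (sqv.lift (sx.φ iK ((yon S).map yK ≫ q) h₀) ((yon S).map yK) (sx.hb _ _ _))
  have hc1 : c₀ ≫ v = yK := (yon S).map_injective (by rw [Functor.map_comp, hc₀, sqv.lift_snd])
  have hc2 : (yon S).map c₀ ≫ fE = sx.φ iK ((yon S).map yK ≫ q) h₀ := by rw [hc₀, sqv.lift_fst]
  obtain ⟨m, ⟨hm1, hm2⟩, hu⟩ := existsUnique_lift_etOver iK ((yon S).map y) ((yon S).map wb)
    ((repWith_yon_map_iff _ wb).2 hWe) (c₀ ≫ ν) (by
      rw [← Functor.map_comp, ← Functor.map_comp, Category.assoc, sqW.w, reassoc_of% hc1, sqK.w])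
  refine ⟨m, ⟨hm1, ?_⟩, fun m' ⟨hm', he⟩ => hu m' ⟨hm', ?_⟩⟩
  · have hgm : (sW.res m).g = sx.g := by
      show (yon S).map m ≫ sW.g = sx.g
      rw [hg₀, ← Category.assoc, hm1, hg]
    refine PushSp.Sec.ext' hgm fun T' u h w => ?_
    have w0 : h ≫ i = ((yon S).map u ≫ (yon S).map y) ≫ p := by
      rw [Category.assoc, ← hg, ← hgm]; exact w
    obtain ⟨k, hk⟩ := (yon S).map_surjective (sqK'.lift ((yon S).map u)
      (sq0.lift h ((yon S).map u ≫ (yon S).map y) w0) (sq0.lift_snd _ _ _).symm)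
    have hk1 : k ≫ iK = u := (yon S).map_injective (by rw [Functor.map_comp, hk, sqK'.lift_fst])
    have hk2 : (yon S).map k ≫ (yon S).map yK ≫ q = h := by
      rw [hk, reassoc_of% sqK'.lift_snd, sq0.lift_fst]
    have w1 : h ≫ i = (yon S).map (u ≫ m) ≫ sW.g := by
      rw [Functor.map_comp, Category.assoc]; exact w
    obtain ⟨χ, hχ1, hχ2, hχ3⟩ := hsW (u ≫ m) h w1
    show sW.φ (u ≫ m) h _ = _
    refine hχ3.trans (Eq.trans ?_ ((sx.nat k iK _ h₀).trans (PushSp.Sec.φ_congr rfl hk1 hk2 _)))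
    rw [← hc2, ← Category.assoc]
    congr 1
    refine sqW'.hom_ext ?_ (sq0.hom_ext ?_ ?_)
    · rw [hχ1, ← Functor.map_comp, ← Functor.map_comp, Category.assoc, ← hm2, ← Category.assoc, hk1]
    · rw [Category.assoc, hχ2, Category.assoc, Category.assoc]
      refine hk2.symm.trans ?_
      congr 1
      rw [← Functor.map_comp_assoc, hc1]
    · rw [Category.assoc, Category.assoc, ← sqW'.w, reassoc_of% hχ1, Functor.map_comp, Category.assoc, hm1,
        sqW'.w, ← Functor.map_comp, ← Functor.map_comp, ← Functor.map_comp, ← Functor.map_comp,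
        Category.assoc, reassoc_of% hc1, ← sqK.w, reassoc_of% hk1]
  · have hw' : ((yon S).map yK ≫ q) ≫ i = (yon S).map (iK ≫ m') ≫ sW.g := by
      rw [h₀, hg, hg₀, Functor.map_comp, Category.assoc, ← Category.assoc ((yon S).map m'), hm']
    obtain ⟨χ, hχ1, hχ2, hχ3⟩ := hsW (iK ≫ m') _ hw'
    have h1 : χ ≫ fE = sx.φ iK ((yon S).map yK ≫ q) h₀ := by
      rw [← hχ3]
      exact PushSp.Sec.φ_congr he rfl rfl (by
        show _ = _ ≫ (yon S).map m' ≫ sW.g
        rw [hw', Functor.map_comp, Category.assoc])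
    have h2 : χ = (yon S).map c₀ := by
      refine sqv.hom_ext (h1.trans hc2.symm) (sq0.hom_ext ?_ ?_)
      · rw [Category.assoc, hχ2, ← Functor.map_comp, hc1]
      · rw [Category.assoc, ← sqW'.w, reassoc_of% hχ1, Functor.map_comp, Category.assoc, hm',
          ← Functor.map_comp, ← Functor.map_comp (f := c₀), hc1, ← Functor.map_comp, sqK.w]
    exact (yon S).map_injective (by rw [← hχ1, h2, Functor.map_comp])

/-- the pushforward over a chart, from the squares of the chart -/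
theorem exists_chart_of_data (sq0 : IsPullback q ((yon S).map iU) i p) (hiU : AlgSp.thick iU.left)
    (sqv : IsPullback fE ((yon S).map v) b q) (sqW : IsPullback ν v wb iU) (hWe : Etale wb.left) :
    ∃ l : (yon S).obj W' ⟶ PushSp.obj i b, IsPullback l ((yon S).map wb) (PushSp.str i b) p := by
  have sqW' := sqW.map (yon S)
  obtain ⟨sW, hg₀, hsW⟩ := exists_chart_sec sq0 sqv sqW'
  have hl : PushSp.ofSec sW ≫ PushSp.str i b = (yon S).map wb ≫ p := by
    rw [PushSp.comp_str, PushSp.sec_ofSec, hg₀]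
  refine ⟨_, isPullback_of_yon hl fun K x y hxy => ?_⟩
  obtain ⟨y', rfl⟩ := (yon S).map_surjective y
  have sqK := IsPullback.of_hasPullback y' iU
  have : IsClosedImmersion (pullback.fst y' iU).left :=
    MorphismProperty.of_isPullback (P := @IsClosedImmersion) (sqK.map (Over.forget S)).flip hiU.1
  have : Surjective (pullback.fst y' iU).left :=
    MorphismProperty.of_isPullback (P := @Surjective) (sqK.map (Over.forget S)).flip hiU.2
  obtain ⟨m, ⟨hm1, hm2⟩, hu⟩ := chart_existsUnique sq0 sqv sqW sqW' hWe sW hg₀ hsW y' sqK (sqK.map (yon S))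
    (PushSp.sec x) ((PushSp.comp_str x).symm.trans hxy)
  have hiff : ∀ m' : K ⟶ W', (yon S).map m' ≫ PushSp.ofSec sW = x ↔ sW.res m' = PushSp.sec x := fun m' => by
    rw [← PushSp.sec_injective.eq_iff, PushSp.sec_comp, PushSp.sec_ofSec]
  refine ⟨(yon S).map m, ⟨(hiff m).2 hm2, hm1⟩, fun z hz => ?_⟩
  obtain ⟨m', rfl⟩ := (yon S).map_surjective z
  rw [hu m' ⟨hz.2, (hiff m').1 hz.1⟩]

end chart

/-- the pushforward of an etale scheme is an etale scheme over a chart -/
theorem exists_chart (hi : IsThickMor i) {E : Over S} (b : (yon S).obj E ⟶ X) (hb : RepWith @Etale b) {U : Over S}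
    (p : (yon S).obj U ⟶ X') :
    ∃ (W' : Over S) (wb : W' ⟶ U) (l : (yon S).obj W' ⟶ PushSp.obj i b),
      Etale wb.left ∧ IsPullback l ((yon S).map wb) (PushSp.str i b) p := by
  have := mono_of_thickMor hi
  have sq0 := hi.1.isPullback p
  let iU := hi.1.snd p
  have hiU : AlgSp.thick iU.left := hi.property_snd p
  have : IsClosedImmersion iU.left := hiU.1
  have : Surjective iU.left := hiU.2
  let q := hi.1.fst p
  let v := hb.1.snd q
  have : Etale v.left := hb.property_snd q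
  have := Et18.bc_isEquivalence_of_thickening iU.left
  obtain ⟨W, ⟨e⟩⟩ := Functor.EssSurj.mem_essImage (F := EtCoh.bc iU.left) (Scheme.Etale.mk v.left)
  obtain ⟨ε, hε⟩ : ∃ ε : (hb.1.pullback q).left ⟶ pullback W.hom iU.left, ε = e.inv.left := ⟨_, rfl⟩
  have : IsIso ε := hε ▸ inferInstanceAs
    (IsIso ((Scheme.Etale.forget _ ⋙ Over.forget _).map e.inv))
  have hev : ε ≫ pullback.snd W.hom iU.left = v.left := by rw [hε]; exact Over.w e.inv.hom
  have hw : (ε ≫ pullback.fst W.hom iU.left) ≫ W.hom = v.left ≫ iU.left :=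
    (Category.assoc _ _ _).trans ((congrArg (ε ≫ ·) pullback.condition).trans
      ((Category.assoc _ _ _).symm.trans (congrArg (· ≫ iU.left) hev)))
  have sq1 : IsPullback (ε ≫ pullback.fst W.hom iU.left) v.left W.hom iU.left :=
    IsPullback.of_iso_pullback ⟨hw⟩ (asIso ε) rfl hev
  have hWe : Etale W.hom := W.prop
  let W' : Over S := Over.mk (W.hom ≫ U.hom)
  let wb : W' ⟶ U := Over.homMk W.hom rfl
  let ν : hb.1.pullback q ⟶ W' := Over.homMk (ε ≫ pullback.fst W.hom iU.left) (by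
    show (ε ≫ pullback.fst W.hom iU.left) ≫ W.hom ≫ U.hom = (hb.1.pullback q).hom
    rw [← Category.assoc, sq1.w, Category.assoc, Over.w iU]
    exact Over.w v)
  have sqW : IsPullback ν v wb iU :=
    IsPullback.of_map (Over.forget S) (Over.OverMorphism.ext sq1.w) sq1
  obtain ⟨l, hl⟩ := exists_chart_of_data sq0 hiU (hb.1.isPullback q) sqW hWe
  exact ⟨W', wb, l, hWe, hl⟩

/-- the reduction of the pushforward of a scheme -/
theorem exists_reduction [Mono i] {E : Over S} (b : (yon S).obj E ⟶ X) :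
    ∃ κ : (yon S).obj E ⟶ PushSp.obj i b, IsPullback b κ i (PushSp.str i b) := by
  -- the reduction of the lift
  let sκ : PushSp.Sec i b E :=
    { g := b ≫ i
      φ := fun T' u h w => (yon S).map u
      hb := fun T' u h w => (cancel_mono i).1 (by rw [Category.assoc]; exact w.symm)
      nat := fun T' T'' v' u h w => ((yon S).map_comp v' u).symm }
  let κ := PushSp.ofSec sκ
  have hκ : κ ≫ PushSp.str i b = b ≫ i := by rw [PushSp.comp_str, PushSp.sec_ofSec]
  have sqκ : IsPullback b κ i (PushSp.str i b) := isPullback_of_yon hκ.symm fun T x y hxy => by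
    have hw : x ≫ i = (yon S).map (𝟙 T) ≫ (PushSp.sec y).g := by
      rw [(yon S).map_id, Category.id_comp, hxy, PushSp.comp_str]
    refine ⟨(PushSp.sec y).φ (𝟙 T) x hw, ⟨(PushSp.sec y).hb _ _ _, ?_⟩, ?_⟩
    · obtain ⟨l', hl'⟩ := (yon S).map_surjective ((PushSp.sec y).φ (𝟙 T) x hw)
      rw [← hl']
      refine PushSp.sec_injective ?_
      rw [PushSp.sec_comp, PushSp.sec_ofSec]
      refine PushSp.Sec.ext' ?_ fun T' u h w => ?_
      · show (yon S).map l' ≫ b ≫ i = _
        rw [← Category.assoc, hl', (PushSp.sec y).hb, hw, (yon S).map_id, Category.id_comp]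
      · show (yon S).map (u ≫ l') = _
        rw [Functor.map_comp]
        refine (congrArg ((yon S).map u ≫ ·) hl').trans ?_
        rw [(PushSp.sec y).nat]
        have hh : (yon S).map u ≫ x = h := (cancel_mono i).1 (by
          have hb' : (yon S).map l' ≫ b = x := by rw [hl']; exact (PushSp.sec y).hb _ _ _
          rw [Category.assoc, ← hb']
          refine Eq.trans ?_ w.symm
          show _ = (yon S).map u ≫ (yon S).map l' ≫ b ≫ i
          rw [Category.assoc])
        exact PushSp.Sec.φ_congr rfl (Category.comp_id _) hh _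
    · rintro z ⟨-, hz2⟩
      obtain ⟨z', rfl⟩ := (yon S).map_surjective z
      have es : PushSp.sec y = sκ.res z' := by rw [← hz2, PushSp.sec_comp, PushSp.sec_ofSec]
      rw [PushSp.Sec.φ_congr es rfl rfl hw]
      exact ((congrArg (yon S).map (Category.id_comp z')) : _).symm
  exact ⟨κ, sqκ⟩

/-- an object of the etale site of the thin space lifts -/
theorem exists_bc_iso (hX' : IsAlgSpace X') (hi : IsThickMor i) (E₀ : EtOver X) :
    ∃ E : EtOver X', Nonempty ((EtOver.bc hi.1).obj E ≅ E₀) := by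
  have := mono_of_thickMor hi
  let b := E₀.obj.hom
  obtain ⟨U, p, hpe, hps⟩ := hX'.atlas
  obtain ⟨W', wb, l, hWe, sqV⟩ := exists_chart hi b E₀.property p
  obtain ⟨κ, sqκ⟩ := exists_reduction (i := i) b
  have hl : l ≫ PushSp.str i b = (yon S).map wb ≫ p := sqV.w
  have hle : RepWith @Etale l := RepWith.baseChange sqV.flip hpe
  have hls : RepWith @Surjective l := RepWith.baseChange sqV.flip hps
  have hV : IsAlgSpace (PushSp.obj i b) := isAlgSpace_of_etale_surjective (IsAlgSpace.yon_obj W') l hle hls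
  obtain ⟨G, ⟨eG⟩⟩ := ThickAff.exists_iso_yon_of_thick hV κ (RepWith.baseChange sqκ hi)
  obtain ⟨c, hc⟩ := (yon S).map_surjective (l ≫ eG.inv)
  have hce : Etale c.left := (repWith_yon_map_iff _ c).1
    (by rw [hc]; exact RepWith.comp hle (repWith_of_isIso _ eG.inv))
  have hcs : Surjective c.left := (repWith_yon_map_iff _ c).1
    (by rw [hc]; exact RepWith.comp hls (repWith_of_isIso _ eG.inv))
  have ha : RepWith @Etale (eG.hom ≫ PushSp.str i b) := repWith_etale_of_comp c hX' _ (by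
    rw [hc, Category.assoc, Iso.inv_hom_id_assoc, hl]
    exact RepWith.comp ((repWith_yon_map_iff _ wb).2 hWe) hpe)
  refine ⟨EtOver.mk _ ha, ?_⟩
  have sqE : IsPullback b (κ ≫ eG.inv) i (eG.hom ≫ PushSp.str i b) :=
    sqκ.of_iso (Iso.refl _) (Iso.refl _) eG.symm (Iso.refl _) (by simp) (by simp) (by simp) (by simp)
  let Φ := (hi.1.isPullback (eG.hom ≫ PushSp.str i b)).isoIsPullback _ _ sqE
  obtain ⟨φ, hφ⟩ : ∃ φ, (Functor.FullyFaithful.ofFullyFaithful (yon S)).preimageIso Φ = φ := ⟨_, rfl⟩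
  refine ⟨ObjectProperty.isoMk _ (CostructuredArrow.isoMk φ ?_)⟩
  show (yon S).map φ.hom ≫ b = hi.1.fst _
  rw [← hφ, Functor.FullyFaithful.preimageIso_hom, Functor.FullyFaithful.map_preimage]
  exact IsPullback.isoIsPullback_hom_fst _ _ _ _

theorem bc_isEquivalence (hX' : IsAlgSpace X') (hi : IsThickMor i) : (EtOver.bc hi.1).IsEquivalence := by
  have : (EtOver.bc hi.1).Full := ⟨fun {E E'} => (bc_map_bijective hi E E').surjective⟩
  have : (EtOver.bc hi.1).Faithful := ⟨fun {E E'} => @fun g g' h => (bc_map_bijective hi E E').injective h⟩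
  exact { essSurj := ⟨exists_bc_iso hX' hi⟩ }

end Groth.Agent.AlgSpLib.ThickEt
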