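import Groth.Agent.AlgSpLib.FerrandSpace
import Groth.Agent.AlgSpLib.FerrandThick
import Groth.Agent.AlgSpLib.EqvQuot
import Groth.Agent.AlgSpLib.ThickEtSite
import Groth.Agent.AlgSpLib.Pres
import Groth.Agent.AlgSpLib.MonoIso
import Groth.Agent.S9941

/-!
# Pushouts of algebraic spaces along a thickening and an affine morphism
-/

set_option autoImplicit false
set_option backward.isDefEq.respectTransparency false
set_option backward.isDefEq.respectTransparency.types false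
set_option linter.style.haveILetI false

universe u

open CategoryTheory CategoryTheory.Limits AlgebraicGeometry
open AlgSp

noncomputable section

namespace Groth.Agent.AlgSpLib.FerrandQuot

variable {S : Scheme.{u}}

/-- a cartesian morphism of presentations gives a cartesian square of quotients -/
theorem isPullback_of_presentation {F G : Sp S} {U R U' R' : Over S} {p : (yon S).obj U ⟶ F} {r₁ r₂ : R ⟶ U}
    (sqR : IsPullback ((yon S).map r₁) ((yon S).map r₂) p p) (hpe : RepWith @Etale p) (hps : RepWith @Surjective p) {p' : (yon S).obj U' ⟶ G}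
    {r₁' r₂' : R' ⟶ U'} (sqR' : IsPullback ((yon S).map r₁') ((yon S).map r₂') p' p') {b : U ⟶ U'} {β : R ⟶ R'}
    (cart : IsPullback r₁ β b r₁') (h2 : β ≫ r₂' = r₂ ≫ b) {g : F ⟶ G} (hg : p ≫ g = (yon S).map b ≫ p') :
    IsPullback p ((yon S).map b) g p' := by
  have cartY := cart.map (yon S)
  obtain ⟨dg, hdg⟩ := (yon S).map_surjective (sqR.lift (𝟙 _) (𝟙 _) rfl)
  have hdg₁ : dg ≫ r₁ = 𝟙 U :=
    (yon S).map_injective (by rw [Functor.map_comp, hdg, sqR.lift_fst, (yon S).map_id])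
  have hdg₂ : dg ≫ r₂ = 𝟙 U :=
    (yon S).map_injective (by rw [Functor.map_comp, hdg, sqR.lift_snd, (yon S).map_id])
  let e := pullback.lift p ((yon S).map b) hg
  haveI hmono : Mono e := ⟨fun {Q} x₁ x₂ he => by
    have h1 : x₁ ≫ p = x₂ ≫ p := by simpa [e] using congrArg (· ≫ pullback.fst _ _) he
    have h2' : x₁ ≫ (yon S).map b = x₂ ≫ (yon S).map b := by
      simpa [e] using congrArg (· ≫ pullback.snd _ _) he
    let r0 := sqR.lift x₁ x₂ h1
    have hβ : r0 ≫ (yon S).map β = (x₁ ≫ (yon S).map dg) ≫ (yon S).map β := by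
      refine sqR'.hom_ext ?_ ?_
      · rw [Category.assoc, Category.assoc, ← cartY.w, ← Category.assoc, sqR.lift_fst, Category.assoc,
          ← Functor.map_comp_assoc, hdg₁, (yon S).map_id, Category.id_comp]
      · rw [Category.assoc, Category.assoc, ← Functor.map_comp, h2, Functor.map_comp, ← Category.assoc,
          sqR.lift_snd, Category.assoc, ← Functor.map_comp_assoc, hdg₂, (yon S).map_id, Category.id_comp, h2']
    have hr : r0 = x₁ ≫ (yon S).map dg := cartY.hom_ext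
      (by rw [sqR.lift_fst, Category.assoc, ← Functor.map_comp, hdg₁, (yon S).map_id, Category.comp_id]) hβ
    have := congrArg (· ≫ (yon S).map r₂) hr
    simp only [r0, sqR.lift_snd] at this
    rw [this, Category.assoc, ← Functor.map_comp, hdg₂, (yon S).map_id, Category.comp_id]⟩
  have sqQ := IsPullback.of_hasPullback p (pullback.fst g p')
  haveI : Epi (pullback.snd p (pullback.fst g p')) :=
    epi_of_etale_surjective (RepWith.baseChange sqQ hpe) (RepWith.baseChange sqQ hps)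
  let r := sqR'.lift (pullback.fst p (pullback.fst g p') ≫ (yon S).map b)
    (pullback.snd p (pullback.fst g p') ≫ pullback.snd g p') (by
      rw [Category.assoc, ← hg, pullback.condition_assoc, Category.assoc, pullback.condition])
  let r0 := cartY.lift (pullback.fst p (pullback.fst g p')) r (sqR'.lift_fst _ _ _).symm
  have hm : (r0 ≫ (yon S).map r₂) ≫ e = pullback.snd p (pullback.fst g p') := by
    refine pullback.hom_ext ?_ ?_
    · rw [Category.assoc, pullback.lift_fst, Category.assoc, ← sqR.w, ← Category.assoc, cartY.lift_fst,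
        pullback.condition]
    · rw [Category.assoc, pullback.lift_snd, Category.assoc, ← Functor.map_comp, ← h2, Functor.map_comp,
        ← Category.assoc, cartY.lift_snd, sqR'.lift_snd]
  haveI : Epi ((r0 ≫ (yon S).map r₂) ≫ e) := by rw [hm]; infer_instance
  haveI : Epi e := epi_of_epi (r0 ≫ (yon S).map r₂) e
  haveI : IsIso e := isIso_of_mono_of_epi e
  exact IsPullback.of_iso_pullback ⟨hg⟩ (asIso e) (pullback.lift_fst _ _ _) (pullback.lift_snd _ _ _)

/-- a field-valued point lifts along a thickening -/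
theorem exists_lift_of_field {A B : Scheme.{u}} (b : A ⟶ B) [IsClosedImmersion b] [Surjective b] {K : CommRingCat.{u}}
    (hK : IsField K) (x : Spec K ⟶ B) : ∃ y, y ≫ b = x := by
  letI := hK.toField
  haveI : IsClosedImmersion (pullback.snd b x) := inferInstance
  haveI : Surjective (pullback.snd b x) := inferInstance
  haveI : IsReduced (Spec K) := inferInstance
  haveI : IsIso (pullback.snd b x) := isIso_of_isClosedImmersion_of_surjective _
  exact ⟨inv (pullback.snd b x) ≫ pullback.fst b x, by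
    rw [Category.assoc, pullback.condition, IsIso.inv_hom_id_assoc]⟩

/-- a pushout of schemes along a thickening gives one over `S` -/
theorem exists_thickPush {Z X Y : Over S} (i : Z ⟶ X) (j : Z ⟶ Y) (hi : IsClosedImmersion i.left)
    (hs : Surjective i.left) (hj : IsAffineHom j.left) :
    ∃ (P : Over S) (a : X ⟶ P) (b : Y ⟶ P), FerrandThick.IsThickPush i.left j.left a.left b.left := by
  obtain ⟨P₀, a₀, b₀, h⟩ := FerrandThick.exists_isThickPush i.left j.left
  have hw : i.left ≫ X.hom = j.left ≫ Y.hom := by rw [Over.w, Over.w]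
  exact ⟨Over.mk (h.pushout.desc X.hom Y.hom hw), Over.homMk a₀ (h.pushout.inl_desc _ _ hw),
    Over.homMk b₀ (h.pushout.inr_desc _ _ hw), h⟩

theorem liftable_thick {Z X Y P : Over S} {i : Z ⟶ X} {j : Z ⟶ Y} {a : X ⟶ P} {b : Y ⟶ P}
    (h : FerrandThick.IsThickPush i.left j.left a.left b.left) :
    FerrandSpace.Liftable i.left j.left a.left b.left :=
  haveI := h.closed
  haveI := h.affine
  haveI := h.hasPairs
  FerrandSpace.liftable_of_thickening h.surj.surj h.pushout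

theorem hom_ext_thick {Z X Y P : Over S} {i : Z ⟶ X} {j : Z ⟶ Y} {a : X ⟶ P} {b : Y ⟶ P}
    (h : FerrandThick.IsThickPush i.left j.left a.left b.left) {B : Sp S} (hB : IsAlgSpace B)
    {t t' : (yon S).obj P ⟶ B} (ha : (yon S).map a ≫ t = (yon S).map a ≫ t')
    (hb : (yon S).map b ≫ t = (yon S).map b ≫ t') : t = t' :=
  FerrandSpace.hom_ext_pushout i j a b hB h.pushout t t' ha hb

theorem exists_desc_thick {Z X Y P : Over S} {i : Z ⟶ X} {j : Z ⟶ Y} {a : X ⟶ P} {b : Y ⟶ P}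
    (h : FerrandThick.IsThickPush i.left j.left a.left b.left) {B : Sp S} (hB : IsAlgSpace B)
    (u : (yon S).obj X ⟶ B) (v : (yon S).obj Y ⟶ B) (w : (yon S).map i ≫ u = (yon S).map j ≫ v) :
    ∃ t : (yon S).obj P ⟶ B, (yon S).map a ≫ t = u ∧ (yon S).map b ≫ t = v :=
  haveI := h.closed
  haveI := h.affine
  haveI := h.hasPairs
  FerrandSpace.exists_desc_pushout i j a b hB h.pushout (liftable_thick h) u v w

theorem over_hom_ext {Z X Y P Q : Over S} {i : Z ⟶ X} {j : Z ⟶ Y} {a : X ⟶ P} {b : Y ⟶ P}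
    (h : IsPushout i.left j.left a.left b.left) {x y : P ⟶ Q} (ha : a ≫ x = a ≫ y)
    (hb : b ≫ x = b ≫ y) : x = y :=
  Over.OverMorphism.ext (h.hom_ext (congrArg CommaMorphism.left ha) (congrArg CommaMorphism.left hb))

theorem over_exists_desc {Z X Y P Q : Over S} {i : Z ⟶ X} {j : Z ⟶ Y} {a : X ⟶ P} {b : Y ⟶ P}
    (h : IsPushout i.left j.left a.left b.left) (x : X ⟶ Q) (y : Y ⟶ Q) (w : i ≫ x = j ≫ y) :
    ∃ m : P ⟶ Q, a ≫ m = x ∧ b ≫ m = y := by
  have hw : i.left ≫ x.left = j.left ≫ y.left := congrArg CommaMorphism.left w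
  refine ⟨Over.homMk (h.desc x.left y.left hw) (h.hom_ext ?_ ?_),
    Over.OverMorphism.ext (h.inl_desc _ _ _), Over.OverMorphism.ext (h.inr_desc _ _ _)⟩
  · rw [h.inl_desc_assoc, Over.w x, Over.w a]
  · rw [h.inr_desc_assoc, Over.w y, Over.w b]

/-- a chart of a glued space -/
structure GlueChart {X X' Y Y' : Space S} (t : X ⟶ X') (f : X ⟶ Y) (f' : X' ⟶ Y') (t' : Y ⟶ Y')
    {V : Over S} (p : (yon S).obj V ⟶ Y.obj) where
  VX : Over S
  VX' : Over S
  V' : Over S
  iV : VX ⟶ VX'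
  jV : VX ⟶ V
  aV : VX' ⟶ V'
  bV : V ⟶ V'
  qX : (yon S).obj VX ⟶ X.obj
  qX' : (yon S).obj VX' ⟶ X'.obj
  π : (yon S).obj V' ⟶ Y'.obj
  push : FerrandThick.IsThickPush iV.left jV.left aV.left bV.left
  sqf : IsPullback qX ((yon S).map jV) f.hom p
  sqt : IsPullback qX ((yon S).map iV) t.hom qX'
  sqf' : IsPullback qX' ((yon S).map aV) f'.hom π
  sqt' : IsPullback p ((yon S).map bV) t'.hom π
  het : RepWith @Etale π
  hsu : RepWith @Surjective π

theorem GlueChart.etX' {X X' Y Y' : Space S} {t : X ⟶ X'} {f : X ⟶ Y} {f' : X' ⟶ Y'} {t' : Y ⟶ Y'}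
    {V : Over S} {p : (yon S).obj V ⟶ Y.obj} (C : GlueChart t f f' t' p) :
    RepWith @Etale C.qX' ∧ RepWith @Surjective C.qX' ∧ RepWith @Etale C.qX ∧ RepWith @Surjective C.qX :=
  ⟨RepWith.baseChange C.sqf'.flip C.het, RepWith.baseChange C.sqf'.flip C.hsu,
    RepWith.baseChange C.sqt.flip (RepWith.baseChange C.sqf'.flip C.het),
    RepWith.baseChange C.sqt.flip (RepWith.baseChange C.sqf'.flip C.hsu)⟩

set_option maxHeartbeats 3000000 in
/-- the glued relation -/
theorem exists_relation {VX VX' V R RX RX' : Over S} {F F' : Sp S} {p : (yon S).obj V ⟶ F}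
    {qX' : (yon S).obj VX' ⟶ F'} {iV : VX ⟶ VX'} {jV : VX ⟶ V} {iR : RX ⟶ RX'} {jR : RX ⟶ R}
    {r₁ r₂ : R ⟶ V} {u₁ u₂ : RX' ⟶ VX'} {ρ₁ ρ₂ : RX ⟶ VX}
    (sqR : IsPullback ((yon S).map r₁) ((yon S).map r₂) p p)
    (sqR' : IsPullback ((yon S).map u₁) ((yon S).map u₂) qX' qX')
    [Etale r₁.left] [Etale r₂.left] [Etale u₁.left] [Etale u₂.left]
    [IsClosedImmersion iV.left] [Surjective iV.left] [IsAffineHom jV.left]
    (cart₁ : IsPullback ρ₁ jR jV r₁) (cart₂ : IsPullback ρ₂ jR jV r₂)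
    (cX₁ : IsPullback ρ₁ iR iV u₁) (cX₂ : IsPullback ρ₂ iR iV u₂) :
    ∃ (V' R' : Over S) (aV : VX' ⟶ V') (bV : V ⟶ V') (aR : RX' ⟶ R') (bR : R ⟶ R') (s₁ s₂ : R' ⟶ V'),
      FerrandThick.IsThickPush iV.left jV.left aV.left bV.left ∧
      FerrandThick.IsThickPush iR.left jR.left aR.left bR.left ∧ IsEtaleEqvRel s₂ s₁ ∧
      IsPullback u₁ aR aV s₁ ∧ IsPullback r₁ bR bV s₁ ∧ aR ≫ s₂ = u₂ ≫ aV ∧ bR ≫ s₂ = r₂ ≫ bV := by
  have hiR₁ : iR ≫ u₁ = ρ₁ ≫ iV := cX₁.w.symm
  have hiR₂ : iR ≫ u₂ = ρ₂ ≫ iV := cX₂.w.symm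
  have hρj : ρ₂ ≫ jV = jR ≫ r₂ := cart₂.w
  have cX₁l : IsPullback ρ₁.left iR.left iV.left u₁.left := cX₁.map (Over.forget S)
  have cX₂l : IsPullback ρ₂.left iR.left iV.left u₂.left := cX₂.map (Over.forget S)
  have cY₁l : IsPullback ρ₁.left jR.left jV.left r₁.left := cart₁.map (Over.forget S)
  have cY₂l : IsPullback ρ₂.left jR.left jV.left r₂.left := cart₂.map (Over.forget S)
  -- the glued schemes
  obtain ⟨V', aV, bV, hV'⟩ := exists_thickPush iV jV inferInstance inferInstance inferInstance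
  obtain ⟨R', aR, bR, hR'⟩ := exists_thickPush iR jR
    (MorphismProperty.of_isPullback cX₁l (inferInstanceAs (IsClosedImmersion iV.left)))
    (MorphismProperty.of_isPullback cX₁l (inferInstanceAs (Surjective iV.left)))
    (MorphismProperty.of_isPullback cY₁l (inferInstanceAs (IsAffineHom jV.left)))
  have hjoin : iV ≫ aV = jV ≫ bV := Over.OverMorphism.ext hV'.pushout.w
  have mk : ∀ (u : RX' ⟶ VX') (ρ : RX ⟶ VX) (r : R ⟶ V), iR ≫ u = ρ ≫ iV → ρ ≫ jV = jR ≫ r →
      ∃ s : R' ⟶ V', aR ≫ s = u ≫ aV ∧ bR ≫ s = r ≫ bV := fun u ρ r h1 h2 =>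
    over_exists_desc hR'.pushout _ _ (by rw [reassoc_of% h1, hjoin, reassoc_of% h2])
  obtain ⟨s₁, hs₁a, hs₁b⟩ := mk u₁ ρ₁ r₁ hiR₁ cart₁.w
  obtain ⟨s₂, hs₂a, hs₂b⟩ := mk u₂ ρ₂ r₂ hiR₂ hρj
  obtain ⟨m₁a, m₁b, m₁f, -, -, -, m₁e⟩ := FerrandThick.map_props hV' hR' cX₁l cY₁l
    (congrArg CommaMorphism.left hs₁a) (congrArg CommaMorphism.left hs₁b)
  obtain ⟨m₂a, m₂b, -, -, -, -, m₂e⟩ := FerrandThick.map_props hV' hR' cX₂l cY₂l
    (congrArg CommaMorphism.left hs₂a) (congrArg CommaMorphism.left hs₂b)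
  haveI hes₁ : Etale s₁.left := m₁e inferInstance inferInstance
  haveI hes₂ : Etale s₂.left := m₂e inferInstance inferInstance
  have hbR : IsClosedImmersion bR.left ∧ Surjective bR.left := ⟨hR'.props.2.1, hR'.props.2.2.1⟩
  haveI := hV'.props.2.1
  haveI := hbR.1
  haveI := hbR.2
  have hRinj : ∀ {T : Over S} (r r' : T ⟶ R), r ≫ r₁ = r' ≫ r₁ → r ≫ r₂ = r' ≫ r₂ → r = r' := fun r r' h1 h2 =>
    (yon S).map_injective (sqR.hom_ext (by rw [← Functor.map_comp, h1, Functor.map_comp])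
      (by rw [← Functor.map_comp, h2, Functor.map_comp]))
  -- the glued relation is a monomorphism
  let μ : R'.left ⟶ pullback V'.hom V'.hom := pullback.lift s₁.left s₂.left (by rw [Over.w, Over.w])
  haveI : FormallyUnramified (μ ≫ pullback.fst _ _) := by rw [pullback.lift_fst]; infer_instance
  haveI : FormallyUnramified μ := FormallyUnramified.of_comp μ (pullback.fst _ _)
  haveI : LocallyOfFiniteType (μ ≫ pullback.fst _ _) := by rw [pullback.lift_fst]; infer_instance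
  haveI : LocallyOfFiniteType μ := locallyOfFiniteType_of_comp μ (pullback.fst _ _)
  haveI : Surjective (pullback.diagonal μ) := ⟨fun w => by
    let P := pullback μ μ
    let K := P.residueField w
    let x := P.fromSpecResidueField w
    have hK : IsField K := Field.toIsField _
    obtain ⟨y, hy⟩ := exists_lift_of_field bR.left hK (x ≫ pullback.fst μ μ)
    obtain ⟨y', hy'⟩ := exists_lift_of_field bR.left hK (x ≫ pullback.snd μ μ)
    let T : Over S := Over.mk (y ≫ R.hom)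
    have hμ : (x ≫ pullback.fst μ μ) ≫ μ = (x ≫ pullback.snd μ μ) ≫ μ := by
      rw [Category.assoc, Category.assoc, pullback.condition]
    have hyb : y ≫ bR.left ≫ s₁.left = y' ≫ bR.left ≫ s₁.left ∧ y ≫ bR.left ≫ s₂.left = y' ≫ bR.left ≫ s₂.left := by
      constructor
      · rw [reassoc_of% hy, reassoc_of% hy', ← pullback.lift_fst s₁.left s₂.left (by rw [Over.w, Over.w])]
        exact congrArg (· ≫ pullback.fst _ _) hμ |>.trans (Category.assoc _ _ _) |> (fun h => by simpa [μ] using h)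
      · rw [reassoc_of% hy, reassoc_of% hy', ← pullback.lift_snd s₁.left s₂.left (by rw [Over.w, Over.w])]
        exact congrArg (· ≫ pullback.snd _ _) hμ |>.trans (Category.assoc _ _ _) |> (fun h => by simpa [μ] using h)
    rw [show bR.left ≫ s₁.left = r₁.left ≫ bV.left from congrArg CommaMorphism.left hs₁b,
      show bR.left ≫ s₂.left = r₂.left ≫ bV.left from congrArg CommaMorphism.left hs₂b,
      ← Category.assoc, ← Category.assoc, cancel_mono bV.left, ← Category.assoc, ← Category.assoc, cancel_mono bV.left] at hyb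
    have hy'S : y' ≫ R.hom = y ≫ R.hom := by rw [← Over.w r₁, ← Category.assoc, ← hyb.1, Category.assoc]
    have hyy : y = y' := congrArg CommaMorphism.left
      (hRinj (Over.homMk y : T ⟶ R) (Over.homMk y' hy'S : T ⟶ R)
        (Over.OverMorphism.ext hyb.1) (Over.OverMorphism.ext hyb.2))
    have hx : x = (x ≫ pullback.fst μ μ) ≫ pullback.diagonal μ := by
      refine pullback.hom_ext (by simp) ?_
      rw [Category.assoc, Category.assoc, pullback.diagonal_snd, Category.comp_id, ← hy, hyy, hy']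
    refine ⟨(x ≫ pullback.fst μ μ) (IsLocalRing.closedPoint K), ?_⟩
    rw [← Scheme.Hom.comp_apply, ← hx]
    exact Scheme.fromSpecResidueField_apply _ _⟩
  haveI : IsIso (pullback.diagonal μ) := (isIso_iff_isOpenImmersion_and_epi_base _).2
    ⟨inferInstance, (TopCat.epi_iff_surjective _).2 (pullback.diagonal μ).surjective⟩
  haveI : Mono μ := (CategoryTheory.Limits.pullback.isIso_diagonal_iff μ).1 inferInstance
  have hinj : ∀ (T : Over S) (r r' : T ⟶ R'), r ≫ s₁ = r' ≫ s₁ → r ≫ s₂ = r' ≫ s₂ → r = r' := by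
    intro T r r' h1 h2
    refine Over.OverMorphism.ext ((cancel_mono μ).1 (pullback.hom_ext ?_ ?_))
    · simpa [μ] using congrArg CommaMorphism.left h1
    · simpa [μ] using congrArg CommaMorphism.left h2
  -- reflexive and symmetric
  obtain ⟨dV, hdV⟩ := (yon S).map_surjective (sqR.lift (𝟙 _) (𝟙 _) rfl)
  obtain ⟨dX', hdX'⟩ := (yon S).map_surjective (sqR'.lift (𝟙 _) (𝟙 _) rfl)
  have hdV' : dV ≫ r₁ = 𝟙 V ∧ dV ≫ r₂ = 𝟙 V := by
    constructor <;> refine (yon S).map_injective ?_ <;>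
      simp only [Functor.map_comp, hdV, sqR.lift_fst, sqR.lift_snd, (yon S).map_id]
  have hdX : dX' ≫ u₁ = 𝟙 VX' ∧ dX' ≫ u₂ = 𝟙 VX' := by
    constructor <;> refine (yon S).map_injective ?_ <;>
      simp only [Functor.map_comp, hdX', sqR'.lift_fst, sqR'.lift_snd, (yon S).map_id]
  obtain ⟨dg, hdga, hdgb⟩ := over_exists_desc hV'.pushout (dX' ≫ aR) (dV ≫ bR) (hinj _ _ _
    (by simp only [Category.assoc, hs₁a, hs₁b]; rw [reassoc_of% hdX.1, reassoc_of% hdV'.1, hjoin])
    (by simp only [Category.assoc, hs₂a, hs₂b]; rw [reassoc_of% hdX.2, reassoc_of% hdV'.2, hjoin]))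
  have hdg₁ : dg ≫ s₁ = 𝟙 V' := over_hom_ext hV'.pushout
    (by rw [reassoc_of% hdga, hs₁a, reassoc_of% hdX.1, Category.comp_id])
    (by rw [reassoc_of% hdgb, hs₁b, reassoc_of% hdV'.1, Category.comp_id])
  have hdg₂ : dg ≫ s₂ = 𝟙 V' := over_hom_ext hV'.pushout
    (by rw [reassoc_of% hdga, hs₂a, reassoc_of% hdX.2, Category.comp_id])
    (by rw [reassoc_of% hdgb, hs₂b, reassoc_of% hdV'.2, Category.comp_id])
  obtain ⟨σV, hσV⟩ := (yon S).map_surjective (sqR.lift ((yon S).map r₂) ((yon S).map r₁) sqR.w.symm)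
  obtain ⟨σX', hσX'⟩ := (yon S).map_surjective (sqR'.lift ((yon S).map u₂) ((yon S).map u₁) sqR'.w.symm)
  have hσV' : σV ≫ r₁ = r₂ ∧ σV ≫ r₂ = r₁ := by
    constructor <;> refine (yon S).map_injective ?_ <;>
      simp only [Functor.map_comp, hσV, sqR.lift_fst, sqR.lift_snd]
  have hσX : σX' ≫ u₁ = u₂ ∧ σX' ≫ u₂ = u₁ := by
    constructor <;> refine (yon S).map_injective ?_ <;>
      simp only [Functor.map_comp, hσX', sqR'.lift_fst, sqR'.lift_snd]
  obtain ⟨σ, hσa, hσb⟩ := over_exists_desc hR'.pushout (σX' ≫ aR) (σV ≫ bR) (hinj _ _ _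
    (by simp only [Category.assoc, hs₁a, hs₁b]
        rw [reassoc_of% hσX.1, reassoc_of% hσV'.1, reassoc_of% hiR₂, hjoin, reassoc_of% hρj])
    (by simp only [Category.assoc, hs₂a, hs₂b]
        rw [reassoc_of% hσX.2, reassoc_of% hσV'.2, reassoc_of% hiR₁, hjoin, reassoc_of% cart₁.w]))
  have hσ₁ : σ ≫ s₁ = s₂ := over_hom_ext hR'.pushout
    (by rw [reassoc_of% hσa, hs₁a, reassoc_of% hσX.1, hs₂a]) (by rw [reassoc_of% hσb, hs₁b, reassoc_of% hσV'.1, hs₂b])
  have hσ₂ : σ ≫ s₂ = s₁ := over_hom_ext hR'.pushout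
    (by rw [reassoc_of% hσa, hs₂a, reassoc_of% hσX.2, hs₁a]) (by rw [reassoc_of% hσb, hs₂b, reassoc_of% hσV'.2, hs₁b])
  -- transitive
  have hRpb : ∀ {T : Over S} (x y : T ⟶ V), (yon S).map x ≫ p = (yon S).map y ≫ p →
      ∃ r : T ⟶ R, r ≫ r₁ = x ∧ r ≫ r₂ = y := fun x y h => (exists_of_isPullback_yon sqR x y).1 h
  have hR'pb : ∀ {T : Over S} (x y : T ⟶ VX'), (yon S).map x ≫ qX' = (yon S).map y ≫ qX' →
      ∃ r : T ⟶ RX', r ≫ u₁ = x ∧ r ≫ u₂ = y := fun x y h => (exists_of_isPullback_yon sqR' x y).1 h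
  let W := pullback s₂ s₁
  let w : W ⟶ R' := pullback.fst s₂ s₁
  let w' : W ⟶ R' := pullback.snd s₂ s₁
  have sqW := (IsPullback.of_hasPullback s₂ s₁).map (Over.forget S)
  haveI : Etale w.left := MorphismProperty.of_isPullback sqW.flip hes₁
  -- composition, pointwise through the pieces
  have m₁aO : IsPullback u₁ aR aV s₁ := IsPullback.of_map (Over.forget S) hs₁a.symm m₁a
  have m₁bO : IsPullback r₁ bR bV s₁ := IsPullback.of_map (Over.forget S) hs₁b.symm m₁b
  have compA : ∀ {Q : Over S} (x y : Q ⟶ R') (x' : Q ⟶ RX'), x ≫ s₂ = y ≫ s₁ → x = x' ≫ aR →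
      ∃ z : Q ⟶ R', z ≫ s₁ = x ≫ s₁ ∧ z ≫ s₂ = y ≫ s₂ := by
    intro Q x y x' hxy hx
    have hy : (x' ≫ u₂) ≫ aV = y ≫ s₁ := by rw [Category.assoc, ← hs₂a, ← hxy, hx, Category.assoc]
    let y' := m₁aO.lift (x' ≫ u₂) y hy
    have hy1 : y' ≫ u₁ = x' ≫ u₂ := m₁aO.lift_fst _ _ _
    obtain ⟨z, hz₁, hz₂⟩ := hR'pb (x' ≫ u₁) (y' ≫ u₂) (by
      rw [Functor.map_comp, Category.assoc, sqR'.w, ← Functor.map_comp_assoc, ← hy1, Functor.map_comp_assoc,
        sqR'.w, ← Functor.map_comp_assoc])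
    refine ⟨z ≫ aR, ?_, ?_⟩
    · rw [Category.assoc, hs₁a, reassoc_of% hz₁, hx, Category.assoc, hs₁a]
    · rw [Category.assoc, hs₂a, reassoc_of% hz₂, ← hs₂a, ← Category.assoc, m₁aO.lift_snd]
  have compB : ∀ {Q : Over S} (x y : Q ⟶ R') (x' : Q ⟶ R), x ≫ s₂ = y ≫ s₁ → x = x' ≫ bR →
      ∃ z : Q ⟶ R', z ≫ s₁ = x ≫ s₁ ∧ z ≫ s₂ = y ≫ s₂ := by
    intro Q x y x' hxy hx
    have hy : (x' ≫ r₂) ≫ bV = y ≫ s₁ := by rw [Category.assoc, ← hs₂b, ← hxy, hx, Category.assoc]
    let y' := m₁bO.lift (x' ≫ r₂) y hy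
    have hy1 : y' ≫ r₁ = x' ≫ r₂ := m₁bO.lift_fst _ _ _
    obtain ⟨z, hz₁, hz₂⟩ := hRpb (x' ≫ r₁) (y' ≫ r₂) (by
      rw [Functor.map_comp, Category.assoc, sqR.w, ← Functor.map_comp_assoc, ← hy1, Functor.map_comp_assoc,
        sqR.w, ← Functor.map_comp_assoc])
    refine ⟨z ≫ bR, ?_, ?_⟩
    · rw [Category.assoc, hs₁b, reassoc_of% hz₁, hx, Category.assoc, hs₁b]
    · rw [Category.assoc, hs₂b, reassoc_of% hz₂, ← hs₂b, ← Category.assoc, m₁bO.lift_snd]
  obtain ⟨cmp, hcmp₁, hcmp₂⟩ : ∃ c : W ⟶ R', c ≫ s₁ = w ≫ s₁ ∧ c ≫ s₂ = w' ≫ s₂ := by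
    haveI := hR'.closed
    haveI := hR'.affine
    haveI := hR'.hasPairs
    let QA : Over S := Over.mk (pullback.snd aR.left w.left ≫ W.hom)
    let qA : QA ⟶ W := Over.homMk (pullback.snd aR.left w.left)
    let qA' : QA ⟶ RX' := Over.homMk (pullback.fst aR.left w.left) (by
      show _ = pullback.snd aR.left w.left ≫ W.hom
      rw [← Over.w aR, pullback.condition_assoc, Over.w w])
    let QB : Over S := Over.mk (pullback.snd bR.left w.left ≫ W.hom)
    let qB : QB ⟶ W := Over.homMk (pullback.snd bR.left w.left)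
    let qB' : QB ⟶ R := Over.homMk (pullback.fst bR.left w.left) (by
      show _ = pullback.snd bR.left w.left ≫ W.hom
      rw [← Over.w bR, pullback.condition_assoc, Over.w w])
    let QZ : Over S := Over.mk (pullback.snd (iR.left ≫ aR.left) w.left ≫ W.hom)
    let iQ : QZ ⟶ QA := Over.homMk
      (pullback.map (iR.left ≫ aR.left) w.left aR.left w.left iR.left (𝟙 _) (𝟙 _) (by simp) (by simp)) (by
        show _ ≫ pullback.snd aR.left w.left ≫ W.hom = _
        rw [pullback.lift_snd_assoc, Category.comp_id]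
        rfl)
    let jQ : QZ ⟶ QB := Over.homMk
      (pullback.map (iR.left ≫ aR.left) w.left bR.left w.left jR.left (𝟙 _) (𝟙 _) (by simp [hR'.pushout.w]) (by simp)) (by
        show _ ≫ pullback.snd bR.left w.left ≫ W.hom = _
        rw [pullback.lift_snd_assoc, Category.comp_id]
        rfl)
    have hpo'' : IsPushout iQ.left jQ.left qA.left qB.left := by
      refine FlatMorPush.isPushout_baseChange (i := iR.left) (j := jR.left) (a := aR.left) (b := bR.left)
        (hP := (IsPullback.of_vert_isIso ⟨by simp⟩ : IsPullback w.left (𝟙 _) (𝟙 R'.left) w.left))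
        (pX := pullback.fst aR.left w.left) (pY := pullback.fst bR.left w.left)
        (pZ := pullback.fst (iR.left ≫ aR.left) w.left)
        (fun z => ?_) (IsPullback.of_hasPullback _ _) (IsPullback.of_hasPullback _ _) ?_ (by simp [jQ]) (by simp [iQ, jQ, qA, qB])
      · obtain ⟨c, hc, -⟩ := FlatMorPush.exists_chart hR'.pushout z
        exact ⟨c, hc, Or.inl inferInstance⟩
      · refine IsPullback.of_bot ?_ (pullback.lift_fst _ _ _).symm (IsPullback.of_hasPullback aR.left w.left)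
        simpa [iQ] using IsPullback.of_hasPullback (iR.left ≫ aR.left) w.left
    have hWW : w ≫ s₂ = w' ≫ s₁ := pullback.condition
    obtain ⟨zA, hA₁, hA₂⟩ := compA (qA ≫ w) (qA ≫ w') qA' (by rw [Category.assoc, Category.assoc, hWW])
      (Over.OverMorphism.ext pullback.condition.symm)
    obtain ⟨zB, hB₁, hB₂⟩ := compB (qB ≫ w) (qB ≫ w') qB' (by rw [Category.assoc, Category.assoc, hWW])
      (Over.OverMorphism.ext pullback.condition.symm)
    have hIJ : iQ ≫ qA = jQ ≫ qB := Over.OverMorphism.ext hpo''.w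
    have hz : iQ ≫ zA = jQ ≫ zB := hinj _ _ _
      (by simp only [Category.assoc, hA₁, hB₁]; rw [reassoc_of% hIJ])
      (by simp only [Category.assoc, hA₂, hB₂]; rw [reassoc_of% hIJ])
    obtain ⟨c, hca, hcb⟩ := over_exists_desc hpo'' zA zB hz
    refine ⟨c, over_hom_ext hpo'' ?_ ?_, over_hom_ext hpo'' ?_ ?_⟩
    · rw [reassoc_of% hca, hA₁, Category.assoc]
    · rw [reassoc_of% hcb, hB₁, Category.assoc]
    · rw [reassoc_of% hca, hA₂, Category.assoc]
    · rw [reassoc_of% hcb, hB₂, Category.assoc]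
  have heq : IsEtaleEqvRel s₂ s₁ :=
    { injective := fun T r r' h1 h2 => hinj T r r' h1 h2
      equivalence := fun T => by
        refine ⟨fun x => ⟨x ≫ dg, by rw [Category.assoc, hdg₁, Category.comp_id],
          by rw [Category.assoc, hdg₂, Category.comp_id]⟩, fun {x y} => ?_, fun {x y z} => ?_⟩
        · rintro ⟨r, rfl, rfl⟩
          exact ⟨r ≫ σ, by rw [Category.assoc, hσ₁], by rw [Category.assoc, hσ₂]⟩
        · rintro ⟨r, hr₁, hr₂⟩ ⟨r', hr₁', hr₂'⟩
          let l := pullback.lift r r' (hr₂.trans hr₁'.symm)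
          exact ⟨l ≫ cmp, by rw [Category.assoc, hcmp₁, pullback.lift_fst_assoc, hr₁],
            by rw [Category.assoc, hcmp₂, pullback.lift_snd_assoc, hr₂']⟩
      etale_left := hes₂
      etale_right := hes₁ }
  exact ⟨V', R', aV, bV, aR, bR, s₁, s₂, hV', hR', heq, m₁aO, m₁bO, hs₂a, hs₂b⟩

set_option maxHeartbeats 3000000 in
theorem exists_glue {X X' Y : Space S} (t : X ⟶ X') (ht : IsThickMor t.hom) (f : X ⟶ Y)
    (hf : IsAffineMor f.hom) {V : Over S} (p : (yon S).obj V ⟶ Y.obj) (hpe : RepWith @Etale p)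
    (hps : RepWith @Surjective p) :
    ∃ (Y' : Space S) (f' : X' ⟶ Y') (t' : Y ⟶ Y'), IsPushout t f f' t' ∧ Nonempty (GlueChart t f f' t' p) := by
  have hfr : RepWith @IsAffineHom f.hom := Groth.Agent.S9941.result f hf
  -- the chart over X
  have sqf := hfr.1.isPullback p
  let jV := hfr.1.snd p
  haveI : IsAffineHom jV.left := hfr.property_snd p
  obtain ⟨E, ⟨eE⟩⟩ := ThickEt.exists_bc_iso X'.property ht
    (EtOver.mk (hfr.1.fst p) (RepWith.baseChange sqf.flip hpe) : EtOver X.obj)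
  let VX := hfr.1.pullback p
  let VX' := E.obj.left
  let qX' : (yon S).obj VX' ⟶ X'.obj := E.obj.hom
  let qX : (yon S).obj VX ⟶ X.obj := hfr.1.fst p
  let ε : VX ⟶ ht.1.pullback qX' := eE.inv.hom.left
  haveI : IsIso ε := inferInstanceAs (IsIso ((EtOver.forget X.obj).map eE.inv))
  have hε : (yon S).map ε ≫ ht.1.fst qX' = qX := EtOver.w eE.inv
  obtain ⟨iV, hiV⟩ : ∃ i : VX ⟶ VX', i = ε ≫ ht.1.snd qX' := ⟨_, rfl⟩
  have sqt : IsPullback qX ((yon S).map iV) t.hom qX' :=
    (ht.1.isPullback qX').of_iso (asIso ((yon S).map ε)).symm (Iso.refl _) (Iso.refl _) (Iso.refl _)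
      (by simp [hε]) (by simp [hiV]) (by simp) (by simp)
  have hthick := ht.property _ _ _ sqt
  haveI : IsClosedImmersion iV.left := hthick.1
  haveI : Surjective iV.left := hthick.2
  have hqe : RepWith @Etale qX' := E.property
  have hqXs : RepWith @Surjective qX := RepWith.baseChange sqf.flip hps
  haveI hmt : Mono t.hom := mono_of_thickMor ht
  have hqs : RepWith @Surjective qX' := ⟨hqe.1, fun T W x fst snd sq => by
    -- surjectivity can be checked on the thickened base change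
    have sqT := ht.1.isPullback x
    let w := ht.1.snd x
    haveI : Surjective w.left := (ht.property_snd x).2
    have sq' := hqXs.1.isPullback (ht.1.fst x)
    haveI : Surjective (hqXs.1.snd (ht.1.fst x)).left := hqXs.property_snd _
    obtain ⟨n, hn⟩ := (yon S).map_surjective (sq.lift (hqXs.1.fst (ht.1.fst x) ≫ (yon S).map iV)
      ((yon S).map (hqXs.1.snd (ht.1.fst x) ≫ w)) (by
        rw [Category.assoc, ← sqt.w, ← Category.assoc, sq'.w, Category.assoc, sqT.w, Functor.map_comp,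
          Category.assoc]))
    have e : n ≫ snd = hqXs.1.snd (ht.1.fst x) ≫ w :=
      (yon S).map_injective (by rw [Functor.map_comp, hn, sq.lift_snd])
    haveI : Surjective ((hqXs.1.snd (ht.1.fst x)).left ≫ w.left) := inferInstance
    haveI : Surjective (n.left ≫ snd.left) := by rw [← Over.comp_left, e, Over.comp_left]; infer_instance
    exact Surjective.of_comp n.left snd.left⟩
  -- the two kernel pairs
  obtain ⟨R, r₁, r₂, sqR⟩ : ∃ (R : Over S) (r₁ r₂ : R ⟶ V),
      IsPullback ((yon S).map r₁) ((yon S).map r₂) p p :=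
    ⟨_, hpe.1.fst' p, hpe.1.snd p, hpe.1.isPullback' p⟩
  obtain ⟨RX', u₁, u₂, sqR'⟩ : ∃ (RX' : Over S) (u₁ u₂ : RX' ⟶ VX'),
      IsPullback ((yon S).map u₁) ((yon S).map u₂) qX' qX' :=
    ⟨_, hqe.1.fst' qX', hqe.1.snd qX', hqe.1.isPullback' qX'⟩
  haveI : Etale r₁.left := hpe.property _ _ _ sqR.flip
  haveI : Etale r₂.left := hpe.property _ _ _ sqR
  haveI : Etale u₁.left := hqe.property _ _ _ sqR'.flip
  haveI : Etale u₂.left := hqe.property _ _ _ sqR'
  -- the kernel pair over X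
  let RX : Over S := Over.mk (pullback.fst r₁.left jV.left ≫ R.hom)
  let jR : RX ⟶ R := Over.homMk (pullback.fst r₁.left jV.left)
  let ρ₁ : RX ⟶ VX := Over.homMk (pullback.snd r₁.left jV.left) (by
    show _ = pullback.fst r₁.left jV.left ≫ R.hom
    rw [← Over.w jV, ← pullback.condition_assoc, Over.w r₁])
  have cart₁ : IsPullback ρ₁ jR jV r₁ := IsPullback.of_map (Over.forget S)
    (Over.OverMorphism.ext pullback.condition.symm) (IsPullback.of_hasPullback r₁.left jV.left).flip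
  have c₁ := cart₁.map (yon S)
  obtain ⟨ρ₂, hρ₂⟩ := (yon S).map_surjective (sqf.lift ((yon S).map ρ₁ ≫ qX) ((yon S).map (jR ≫ r₂)) (by
    rw [Category.assoc, sqf.w, ← Category.assoc, c₁.w, Category.assoc, sqR.w, Functor.map_comp, Category.assoc]))
  have hρq : (yon S).map ρ₂ ≫ qX = (yon S).map ρ₁ ≫ qX := by rw [hρ₂, sqf.lift_fst]
  have hρj : ρ₂ ≫ jV = jR ≫ r₂ := (yon S).map_injective (by rw [Functor.map_comp, hρ₂, sqf.lift_snd])
  -- the whole kernel pair of `qX`
  have big₁ : IsPullback ((yon S).map ρ₁ ≫ qX) ((yon S).map jR) f.hom ((yon S).map r₁ ≫ p) := c₁.paste_horiz sqf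
  have cart₂ : IsPullback ρ₂ jR jV r₂ := by
    refine IsPullback.of_map (yon S) hρj (IsPullback.of_right ?_ (by rw [← Functor.map_comp, hρj, Functor.map_comp]) sqf)
    rw [hρq, ← sqR.w]
    exact big₁
  have pairX : IsPullback ((yon S).map ρ₁) ((yon S).map ρ₂) qX qX := by
    refine IsPullback.flip (IsPullback.of_bot ?_ hρq sqf)
    rw [show (yon S).map ρ₁ ≫ (yon S).map jV = (yon S).map jR ≫ (yon S).map r₁ from c₁.w,
      show qX ≫ f.hom = (yon S).map jV ≫ p from sqf.w]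
    exact (cart₂.map (yon S)).paste_vert sqR.flip
  have pairX' : IsPullback ((yon S).map ρ₁) ((yon S).map ρ₂) (qX ≫ t.hom) (qX ≫ t.hom) :=
    isPullback_comp_mono' pairX t.hom
  obtain ⟨iR, hiR⟩ := (yon S).map_surjective (sqR'.lift ((yon S).map (ρ₁ ≫ iV)) ((yon S).map (ρ₂ ≫ iV)) (by
    rw [Functor.map_comp, Functor.map_comp, Category.assoc, Category.assoc, ← sqt.w, ← Category.assoc,
      ← Category.assoc, hρq]))
  have hiR₁ : iR ≫ u₁ = ρ₁ ≫ iV := (yon S).map_injective (by rw [Functor.map_comp, hiR, sqR'.lift_fst])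
  have hiR₂ : iR ≫ u₂ = ρ₂ ≫ iV := (yon S).map_injective (by rw [Functor.map_comp, hiR, sqR'.lift_snd])
  -- RX = VX ×_{VX'} RX' along both projections
  have cartX : ∀ (u u' : RX' ⟶ VX') (ρ ρ' : RX ⟶ VX), IsPullback ((yon S).map u) ((yon S).map u') qX' qX' →
      IsPullback ((yon S).map ρ) ((yon S).map ρ') (qX ≫ t.hom) (qX ≫ t.hom) → iR ≫ u = ρ ≫ iV →
      iR ≫ u' = ρ' ≫ iV → IsPullback ρ iR iV u := by
    intro u u' ρ ρ' hu hρ h1 h2
    have hw : ∀ (s : PullbackCone ((yon S).map iV) ((yon S).map u)),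
        (s.fst ≫ qX) ≫ t.hom = (s.snd ≫ (yon S).map u') ≫ qX' := fun s => by
      rw [Category.assoc, Category.assoc, sqt.w, s.condition_assoc, hu.w]
    refine IsPullback.of_map (yon S) h1.symm ⟨⟨by rw [← Functor.map_comp, ← Functor.map_comp, h1]⟩,
      ⟨PullbackCone.IsLimit.mk _ (fun s => hρ.lift s.fst (sqt.lift (s.fst ≫ qX) (s.snd ≫ (yon S).map u') (hw s))
          ((Category.assoc _ _ _).symm.trans (sqt.lift_fst_assoc _ _ (hw s) t.hom).symm))
        (fun s => hρ.lift_fst _ _ _) (fun s => ?_) (fun s m h h' => ?_)⟩⟩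
    · refine hu.hom_ext ?_ ?_
      · rw [Category.assoc, ← Functor.map_comp, h1, Functor.map_comp, ← Category.assoc, hρ.lift_fst]
        exact s.condition
      · rw [Category.assoc, ← Functor.map_comp, h2, Functor.map_comp, ← Category.assoc, hρ.lift_snd, sqt.lift_snd]
    · refine hρ.hom_ext (by rw [hρ.lift_fst]; exact h) ?_
      rw [hρ.lift_snd]
      refine sqt.hom_ext ?_ ?_
      · rw [sqt.lift_fst, Category.assoc, ← cancel_mono t.hom, Category.assoc, Category.assoc, ← hρ.w,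
          ← Category.assoc, h, Category.assoc]
      · rw [sqt.lift_snd, Category.assoc, ← Functor.map_comp, ← h2, Functor.map_comp, ← Category.assoc, h']
  have cX₁ : IsPullback ρ₁ iR iV u₁ := cartX u₁ u₂ ρ₁ ρ₂ sqR' pairX' hiR₁ hiR₂
  have cX₂ : IsPullback ρ₂ iR iV u₂ := cartX u₂ u₁ ρ₂ ρ₁ sqR'.flip pairX'.flip hiR₂ hiR₁
  obtain ⟨V', R', aV, bV, aR, bR, s₁, s₂, hV', hR', heq, m₁aO, m₁bO, hs₂a, hs₂b⟩ :=
    exists_relation sqR sqR' cart₁ cart₂ cX₁ cX₂
  have hjoin : iV ≫ aV = jV ≫ bV := Over.OverMorphism.ext hV'.pushout.w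
  have hs₁a : aR ≫ s₁ = u₁ ≫ aV := m₁aO.w.symm
  have hs₁b : bR ≫ s₁ = r₁ ≫ bV := m₁bO.w.symm
  have hpres := isPresentation_quotSp heq
  let Y' : Space S := ⟨_, isAlgSpace_quotSp heq⟩
  let π : (yon S).obj V' ⟶ Y'.obj := quotSpπ ((yon S).map s₂) ((yon S).map s₁)
  have sqπ : IsPullback ((yon S).map s₁) ((yon S).map s₂) π π := hpres.isPullback
  haveI : Epi p := epi_of_etale_surjective hpe hps
  haveI : Epi qX' := epi_of_etale_surjective hqe hqs
  haveI : Epi π := epi_of_etale_surjective hpres.etale hpres.surjective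
  haveI : IsRegularEpi p := IsRegularEpiCategory.regularEpiOfEpi _
  haveI : IsRegularEpi qX' := IsRegularEpiCategory.regularEpiOfEpi _
  have descP : ∀ {G : Sp S} (d : (yon S).obj V ⟶ G), (yon S).map r₁ ≫ d = (yon S).map r₂ ≫ d →
      ∃ e : Y.obj ⟶ G, p ≫ e = d := fun {G} d hd =>
    ⟨EffectiveEpi.desc p d (fun g₁ g₂ hg => by
      rw [← sqR.lift_fst g₁ g₂ hg, Category.assoc, hd, ← Category.assoc, sqR.lift_snd]), EffectiveEpi.fac _ _ _⟩
  have descX : ∀ {G : Sp S} (d : (yon S).obj VX' ⟶ G), (yon S).map u₁ ≫ d = (yon S).map u₂ ≫ d →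
      ∃ e : X'.obj ⟶ G, qX' ≫ e = d := fun {G} d hd =>
    ⟨EffectiveEpi.desc qX' d (fun g₁ g₂ hg => by
      rw [← sqR'.lift_fst g₁ g₂ hg, Category.assoc, hd, ← Category.assoc, sqR'.lift_snd]), EffectiveEpi.fac _ _ _⟩
  obtain ⟨tY, htY⟩ := descP ((yon S).map bV ≫ π) (by
    rw [← Functor.map_comp_assoc, ← Functor.map_comp_assoc, ← hs₁b, ← hs₂b, Functor.map_comp_assoc,
      Functor.map_comp_assoc, sqπ.w])
  obtain ⟨fX, hfX⟩ := descX ((yon S).map aV ≫ π) (by
    rw [← Functor.map_comp_assoc, ← Functor.map_comp_assoc, ← hs₁a, ← hs₂a, Functor.map_comp_assoc,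
      Functor.map_comp_assoc, sqπ.w])
  haveI : Epi qX := epi_of_etale_surjective (RepWith.baseChange sqf.flip hpe) hqXs
  have sqt' : IsPullback p ((yon S).map bV) tY π :=
    isPullback_of_presentation sqR hpe hps sqπ m₁bO hs₂b htY
  have sqf' : IsPullback qX' ((yon S).map aV) fX π :=
    isPullback_of_presentation sqR' hqe hqs sqπ m₁aO hs₂a hfX
  have hcomm : t.hom ≫ fX = f.hom ≫ tY := by
    rw [← cancel_epi qX, reassoc_of% sqt.w, hfX, reassoc_of% sqf.w, htY, ← Functor.map_comp_assoc,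
      ← Functor.map_comp_assoc, hjoin]
  refine ⟨Y', ObjectProperty.homMk fX, ObjectProperty.homMk tY, IsPushout.of_isColimit' ⟨ObjectProperty.hom_ext _ hcomm⟩
    (PushoutCocone.isColimitAux' _ fun c => ?_), ⟨{
      VX := VX, VX' := VX', V' := V', iV := iV, jV := jV, aV := aV, bV := bV, qX := qX, qX' := qX', π := π,
      push := hV', sqf := sqf, sqt := sqt, sqf' := sqf', sqt' := sqt', het := hpres.etale, hsu := hpres.surjective }⟩⟩
  have hd := exists_desc_thick hV' c.pt.property (qX' ≫ c.inl.hom) (p ≫ c.inr.hom) (by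
    rw [← reassoc_of% sqt.w, ← reassoc_of% sqf.w]
    exact congrArg (fun m => qX ≫ m.hom) c.condition)
  have hcoeq : (yon S).map s₂ ≫ hd.choose = (yon S).map s₁ ≫ hd.choose := by
    refine hom_ext_thick hR' c.pt.property ?_ ?_
    · rw [← Functor.map_comp_assoc, ← Functor.map_comp_assoc, hs₂a, hs₁a, Functor.map_comp_assoc,
        Functor.map_comp_assoc, hd.choose_spec.1, reassoc_of% sqR'.w]
    · rw [← Functor.map_comp_assoc, ← Functor.map_comp_assoc, hs₂b, hs₁b, Functor.map_comp_assoc,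
        Functor.map_comp_assoc, hd.choose_spec.2, reassoc_of% sqR.w]
  let d : Y'.obj ⟶ c.pt.obj := quotSpDesc hd.choose hcoeq
  have hd' : π ≫ d = hd.choose := quotSpπ_desc _ _ _ hcoeq
  refine ⟨ObjectProperty.homMk d, ObjectProperty.hom_ext _ ?_, ObjectProperty.hom_ext _ ?_,
    fun {m} h₁ h₂ => ObjectProperty.hom_ext _ ?_⟩
  · show fX ≫ d = c.inl.hom
    rw [← cancel_epi qX', reassoc_of% hfX, hd', hd.choose_spec.1]
  · show tY ≫ d = c.inr.hom
    rw [← cancel_epi p, reassoc_of% htY, hd', hd.choose_spec.2]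
  · show m.hom = d
    have e₁ : fX ≫ m.hom = c.inl.hom := congrArg (fun m => m.hom) h₁
    have e₂ : tY ≫ m.hom = c.inr.hom := congrArg (fun m => m.hom) h₂
    rw [← cancel_epi π, hd']
    refine hom_ext_thick hV' c.pt.property ?_ ?_
    · rw [hd.choose_spec.1, ← reassoc_of% hfX, e₁]
    · rw [hd.choose_spec.2, ← reassoc_of% htY, e₂]

/-- every pushout along a thickening and an affine morphism has charts -/
theorem exists_glueChart {X X' Y Y' : Space S} {t : X ⟶ X'} (ht : IsThickMor t.hom) {f : X ⟶ Y}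
    (hf : IsAffineMor f.hom) {f' : X' ⟶ Y'} {t' : Y ⟶ Y'} (hY' : IsPushout t f f' t') {V : Over S}
    (p : (yon S).obj V ⟶ Y.obj) (hpe : RepWith @Etale p) (hps : RepWith @Surjective p) :
    Nonempty (GlueChart t f f' t' p) := by
  obtain ⟨Z, fZ, tZ, hZ, ⟨C⟩⟩ := exists_glue t ht f hf p hpe hps
  let e := hZ.isoIsPushout _ _ hY'
  have e₁ : fZ ≫ e.hom = f' := hZ.inl_isoIsPushout_hom _ _ hY'
  have e₂ : tZ ≫ e.hom = t' := hZ.inr_isoIsPushout_hom _ _ hY'
  let eh : Z.obj ≅ Y'.obj := (ObjectProperty.ι _).mapIso e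
  have e₁' : fZ.hom ≫ eh.hom = f'.hom := congrArg (fun m => m.hom) e₁
  have e₂' : tZ.hom ≫ eh.hom = t'.hom := congrArg (fun m => m.hom) e₂
  exact ⟨{
    VX := C.VX, VX' := C.VX', V' := C.V', iV := C.iV, jV := C.jV, aV := C.aV, bV := C.bV, qX := C.qX,
    qX' := C.qX', π := C.π ≫ eh.hom, push := C.push, sqf := C.sqf, sqt := C.sqt
    sqf' := C.sqf'.of_iso (Iso.refl _) (Iso.refl _) (Iso.refl _) eh (by simp) (by simp) (by simp [e₁']) (by simp)
    sqt' := C.sqt'.of_iso (Iso.refl _) (Iso.refl _) (Iso.refl _) eh (by simp) (by simp) (by simp [e₂']) (by simp)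
    het := RepWith.comp C.het (repWith_of_isIso _ eh.hom)
    hsu := RepWith.comp C.hsu (repWith_of_isIso _ eh.hom) }⟩

end Groth.Agent.AlgSpLib.FerrandQuot
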