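import Groth.Agent.FlatMorPush.RingProps
import Groth.Agent.AlgSpLib.FerrandAffine

/-!
# Finite presentation, smooth and étale maps of fibre products of rings
-/

set_option autoImplicit false
set_option backward.isDefEq.respectTransparency.types false
set_option linter.style.haveILetI false
universe u

open CategoryTheory Limits TensorProduct
open Groth.Agent.KerEval Groth.Agent.FlatMorPush

namespace Groth.Agent.AlgSpLib.FerrandRing

variable {C A B D C' A' B' D' : Type u} [CommRing C] [CommRing A] [CommRing B] [CommRing D]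
  [CommRing C'] [CommRing A'] [CommRing B'] [CommRing D']
  (S : Sq C A B D) (S' : Sq C' A' B' D')
  {φ : C →+* C'} {α : A →+* A'} {β : B →+* B'} {δ : D →+* D'}
  (hf : S'.f.comp φ = α.comp S.f) (hg : S'.g.comp φ = β.comp S.g)
  (hAD : IsPushout (CommRingCat.ofHom S.q) (CommRingCat.ofHom α)
    (CommRingCat.ofHom δ) (CommRingCat.ofHom S'.q))
  (hBD : IsPushout (CommRingCat.ofHom S.p) (CommRingCat.ofHom β)
    (CommRingCat.ofHom δ) (CommRingCat.ofHom S'.p))

/-- generators of the kernel after a base change, taken from the kernel -/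
theorem exists_gens {C A C' : Type u} [CommRing C] [CommRing A] [CommRing C'] [Algebra C A] [Algebra C C']
    [Algebra.FinitePresentation A (A ⊗[C] C')] {n : ℕ} (π : MvPolynomial (Fin n) C →ₐ[C] C')
    (hπ : Function.Surjective π) :
    ∃ t : Finset (MvPolynomial (Fin n) C),
      (t : Set (MvPolynomial (Fin n) C)) ⊆ (RingHom.ker π.toRingHom : Set (MvPolynomial (Fin n) C)) ∧
      RingHom.ker (Algebra.TensorProduct.map (AlgHom.id A A) π).toRingHom ≤
        (Ideal.span (t : Set (MvPolynomial (Fin n) C))).map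
          (Algebra.TensorProduct.includeRight : _ →ₐ[C] A ⊗[C] MvPolynomial (Fin n) C).toRingHom := by
  classical
  let P := MvPolynomial (Fin n) C
  let incl : P →ₐ[C] A ⊗[C] P := Algebra.TensorProduct.includeRight
  let πA : A ⊗[C] P →ₐ[A] A ⊗[C] C' := Algebra.TensorProduct.map (AlgHom.id A A) π
  have hπA : Function.Surjective πA :=
    Algebra.TensorProduct.map_surjective _ _ Function.surjective_id hπ
  have hker : RingHom.ker πA.toRingHom = (RingHom.ker π.toRingHom).map incl.toRingHom :=
    Algebra.TensorProduct.lTensor_ker π hπ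
  obtain ⟨s, hs⟩ := Algebra.FinitePresentation.ker_fG_of_surjective πA hπA
  have hfin : ∀ q ∈ (RingHom.ker π.toRingHom).map incl.toRingHom,
      ∃ T : Finset P, (T : Set P) ⊆ (RingHom.ker π.toRingHom : Set P) ∧
        q ∈ (Ideal.span (T : Set P)).map incl.toRingHom := by
    intro q hq
    rw [Ideal.map] at hq
    obtain ⟨T₀, hT₀, hqT⟩ := Submodule.mem_span_finite_of_mem_span hq
    choose p hp hpq using fun x (hx : x ∈ T₀) => hT₀ hx
    refine ⟨T₀.attach.image fun x => p x.1 x.2, ?_, ?_⟩
    · intro x hx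
      obtain ⟨y, -, rfl⟩ := Finset.mem_image.mp hx
      exact hp _ _
    · refine (Ideal.span_le.mpr fun x hx => ?_) hqT
      rw [← hpq x hx]
      exact Ideal.mem_map_of_mem _
        (Ideal.subset_span (Finset.mem_image.mpr ⟨⟨x, hx⟩, Finset.mem_attach _ _, rfl⟩))
  have hsk : ∀ q ∈ s, q ∈ (RingHom.ker π.toRingHom).map incl.toRingHom := fun q hq =>
    hker ▸ hs ▸ Submodule.subset_span hq
  choose T hT hqT using fun q (hq : q ∈ s) => hfin q (hsk q hq)
  refine ⟨s.attach.biUnion fun q => T q.1 q.2, ?_, ?_⟩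
  · intro x hx
    obtain ⟨q, -, hq⟩ := Finset.mem_biUnion.mp hx
    exact hT _ _ hq
  · show RingHom.ker πA.toRingHom ≤ _
    rw [← hs]
    refine Ideal.span_le.mpr fun q hq => ?_
    refine Ideal.map_mono (Ideal.span_mono ?_) (hqT q hq)
    intro x hx
    exact Finset.mem_biUnion.mpr ⟨⟨q, hq⟩, Finset.mem_attach _ _, hx⟩

/-- finite presentation over a fibre square -/
theorem finitePresentation_of_square {C A B D C' : Type u} [CommRing C] [CommRing A] [CommRing B] [CommRing D]
    [CommRing C'] [Algebra C A] [Algebra C B] [Algebra A D] [Algebra B D] [Algebra C D] [IsScalarTower C A D]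
    [IsScalarTower C B D] [Algebra C C'] [Module.Flat C C'] [Algebra.FiniteType C C']
    [Algebra.FinitePresentation A (A ⊗[C] C')] [Algebra.FinitePresentation B (B ⊗[C] C')]
    (hsq : EtMil.IsFibreSquare C A B D) : Algebra.FinitePresentation C C' := by
  classical
  obtain ⟨n, π, hπ⟩ := Algebra.FiniteType.iff_quotient_mvPolynomial''.1 ‹Algebra.FiniteType C C'›
  obtain ⟨t₁, ht₁, h₁⟩ := exists_gens (A := A) π hπ
  obtain ⟨t₂, ht₂, h₂⟩ := exists_gens (A := B) π hπ
  let P := MvPolynomial (Fin n) C
  let J : Ideal P := Ideal.span ((t₁ ∪ t₂ : Finset _) : Set P)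
  have hJ : J ≤ RingHom.ker π.toRingHom :=
    Ideal.span_le.mpr (by rw [Finset.coe_union]; exact Set.union_subset ht₁ ht₂)
  let ρ : (P ⧸ J) →ₐ[C] C' := Ideal.Quotient.liftₐ J π fun x hx => hJ hx
  have hρ : Function.Surjective ρ := fun c => by
    obtain ⟨x, hx⟩ := hπ c
    exact ⟨Ideal.Quotient.mk J x, hx⟩
  let L : Submodule C (P ⧸ J) := LinearMap.ker ρ.toLinearMap
  have key : ∀ (E : Type u) [CommRing E] [Algebra C E] (t : Finset P), (t : Set P) ⊆ ((t₁ ∪ t₂ : Finset _) : Set P) →
      RingHom.ker (Algebra.TensorProduct.map (AlgHom.id E E) π).toRingHom ≤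
        (Ideal.span (t : Set P)).map (Algebra.TensorProduct.includeRight : _ →ₐ[C] E ⊗[C] P).toRingHom →
      Subsingleton (E ⊗[C] L) := by
    intro E _ _ t ht h
    have hinj : Function.Injective (L.subtype.lTensor E) :=
      LinearMap.lTensor_injective_of_exact_of_flat ρ.toLinearMap hρ L.subtype L.subtype_injective
        ρ.toLinearMap.exact_subtype_ker_map E
    have hzero : ∀ y : E ⊗[C] (P ⧸ J), ρ.toLinearMap.lTensor E y = 0 → y = 0 := by
      intro y hy
      let mkE : E ⊗[C] P →ₐ[E] E ⊗[C] (P ⧸ J) := Algebra.TensorProduct.map (AlgHom.id E E) (Ideal.Quotient.mkₐ C J)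
      obtain ⟨z, hz⟩ : ∃ z, mkE z = y :=
        Algebra.TensorProduct.map_surjective _ _ Function.surjective_id (Ideal.Quotient.mkₐ_surjective C J) y
      have hcomp : ∀ w, ρ.toLinearMap.lTensor E (mkE w) = (Algebra.TensorProduct.map (AlgHom.id E E) π) w := by
        intro w
        induction w with
        | zero => simp
        | tmul e p => simp [mkE, ρ]
        | add a b ha hb => simp only [map_add, ha, hb]
      have hz' : z ∈ RingHom.ker (Algebra.TensorProduct.map (AlgHom.id E E) π).toRingHom := by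
        rw [RingHom.mem_ker]
        exact (hcomp z).symm.trans (hz ▸ hy)
      rw [← hz]
      refine (RingHom.mem_ker (f := mkE.toRingHom)).mp ((Ideal.map_le_iff_le_comap.mpr ?_) (h hz'))
      refine Ideal.span_le.mpr fun p hp => ?_
      show mkE ((1 : E) ⊗ₜ[C] p) = 0
      have : Ideal.Quotient.mk J p = 0 := Ideal.Quotient.eq_zero_iff_mem.mpr (Ideal.subset_span (ht hp))
      simp [mkE, this]
    refine ⟨fun a b => hinj ?_⟩
    have h0 : ∀ x : E ⊗[C] L, L.subtype.lTensor E x = 0 := fun x => hzero _ (by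
      rw [← LinearMap.comp_apply, ← LinearMap.lTensor_comp,
        show ρ.toLinearMap ∘ₗ L.subtype = 0 from LinearMap.ext fun l => l.2, LinearMap.lTensor_zero,
        LinearMap.zero_apply])
    rw [h0, h0]
  haveI : Subsingleton L := HenselLib.Milnor.subsingleton_of_subsingleton hsq L
    (key A t₁ (by simp) h₁) (key B t₂ (by simp) h₂)
  refine Algebra.FinitePresentation.of_surjective hπ ⟨t₁ ∪ t₂, le_antisymm hJ fun x hx => ?_⟩
  have : (⟨Ideal.Quotient.mk J x, hx⟩ : L) = 0 := Subsingleton.elim _ _
  exact Ideal.Quotient.eq_zero_iff_mem.mp (congrArg Subtype.val this)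

include hf hg hAD hBD in
theorem finitePresentation_map (hα : α.Flat) (hβ : β.Flat)
    (hα' : α.FinitePresentation) (hβ' : β.FinitePresentation) : φ.FinitePresentation := by
  have h1 := isPushout_f S S' hf hg hAD hBD
  have h2 := isPushout_g S S' hf hg hAD hBD
  have hfl := flat_map S S' hf hg hAD hBD hα hβ
  have hft : φ.FiniteType := finiteType_map S S' hf hg hAD hBD
    (RingHom.FiniteType.of_finitePresentation hα') (RingHom.FiniteType.of_finitePresentation hβ')
  algebraize [φ, α, β, S.f, S.g, S.q, S.p, S.q.comp S.f, S'.f, S'.g, α.comp S.f, β.comp S.g]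
  have : IsScalarTower C A D := .of_algebraMap_eq' rfl
  have : IsScalarTower C B D := .of_algebraMap_eq' (RingHom.ext fun c => S.comm c)
  have hsq : EtMil.IsFibreSquare C A B D :=
    ⟨S.surj, fun a b h => by
      obtain ⟨c, hc⟩ := S.exist a b h
      exact ⟨c, hc, fun c' hc' => S.ext _ _ (hc'.1.trans hc.1.symm) (hc'.2.trans hc.2.symm)⟩⟩
  have : IsScalarTower C C' A' := .of_algebraMap_eq' hf.symm
  have : IsScalarTower C C' B' := .of_algebraMap_eq' hg.symm
  have pA : Algebra.IsPushout C A C' A' := CommRingCat.isPushout_iff_isPushout.mp h1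
  have pB : Algebra.IsPushout C B C' B' := CommRingCat.isPushout_iff_isPushout.mp h2
  have : Algebra.FinitePresentation A A' := hα'
  have : Algebra.FinitePresentation B B' := hβ'
  have : Module.Flat C C' := hfl
  have : Algebra.FiniteType C C' := hft
  have : Algebra.FinitePresentation A (A ⊗[C] C') :=
    Algebra.FinitePresentation.equiv (Algebra.IsPushout.equiv C A C' A').symm
  have : Algebra.FinitePresentation B (B ⊗[C] C') :=
    Algebra.FinitePresentation.equiv (Algebra.IsPushout.equiv C B C' B').symm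
  exact (finitePresentation_of_square hsq : Algebra.FinitePresentation C C')

include hf hg hAD hBD in
theorem smooth_map (hnil : ∀ P : Ideal C, P.IsPrime → RingHom.ker S.f ≤ P) (hα : α.Smooth) (hβ : β.Smooth) :
    φ.Smooth := by
  have h1 := isPushout_f S S' hf hg hAD hBD
  have hfl := flat_map S S' hf hg hAD hBD hα.flat hβ.flat
  have hfp := finitePresentation_map S S' hf hg hAD hBD hα.flat hβ.flat hα.finitePresentation
    hβ.finitePresentation
  algebraize [φ, α, S.f, S'.f, α.comp S.f]
  have : IsScalarTower C C' A' := .of_algebraMap_eq' hf.symm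
  have pA : Algebra.IsPushout C A C' A' := CommRingCat.isPushout_iff_isPushout.mp h1
  have : Algebra.Smooth A A' := hα
  have : Module.Flat C C' := hfl
  have : Algebra.FinitePresentation C C' := hfp
  have : Algebra.Smooth A (A ⊗[C] C') :=
    Algebra.Smooth.of_equiv (Algebra.IsPushout.equiv C A C' A').symm
  exact (Algebra.Smooth.of_formallySmooth_fiber fun P hP =>
    formallySmooth_fiber (A := A) S.f_surj P (hnil P hP) : Algebra.Smooth C C')

include hf hg hAD hBD in
theorem etale_map (hα : α.Etale) (hβ : β.Etale) : φ.Etale := by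
  have h1 := isPushout_f S S' hf hg hAD hBD
  have h2 := isPushout_g S S' hf hg hAD hBD
  have hαs : α.Smooth := ((RingHom.etale_iff_formallyUnramified_and_smooth α).mp hα).2
  have hβs : β.Smooth := ((RingHom.etale_iff_formallyUnramified_and_smooth β).mp hβ).2
  have hfl := flat_map S S' hf hg hAD hBD hαs.flat hβs.flat
  have hfp := finitePresentation_map S S' hf hg hAD hBD hαs.flat hβs.flat
    hαs.finitePresentation hβs.finitePresentation
  algebraize [φ, α, β, S.f, S.g, S.q, S.p, S.q.comp S.f, S'.f, S'.g, α.comp S.f, β.comp S.g]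
  have : IsScalarTower C A D := .of_algebraMap_eq' rfl
  have : IsScalarTower C B D := .of_algebraMap_eq' (RingHom.ext fun c => S.comm c)
  have hsq : EtMil.IsFibreSquare C A B D :=
    ⟨S.surj, fun a b h => by
      obtain ⟨c, hc⟩ := S.exist a b h
      exact ⟨c, hc, fun c' hc' => S.ext _ _ (hc'.1.trans hc.1.symm) (hc'.2.trans hc.2.symm)⟩⟩
  have : IsScalarTower C C' A' := .of_algebraMap_eq' hf.symm
  have : IsScalarTower C C' B' := .of_algebraMap_eq' hg.symm
  have pA : Algebra.IsPushout C A C' A' := CommRingCat.isPushout_iff_isPushout.mp h1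
  have pB : Algebra.IsPushout C B C' B' := CommRingCat.isPushout_iff_isPushout.mp h2
  have : Algebra.Etale A A' := hα
  have : Algebra.Etale B B' := hβ
  have : Module.Flat C C' := hfl
  have : Algebra.FinitePresentation C C' := hfp
  have hA0 : Subsingleton (A ⊗[C] Ω[C'⁄C]) :=
    (KaehlerDifferential.tensorKaehlerEquivBase C A C' A').toEquiv.subsingleton
  have hB0 : Subsingleton (B ⊗[C] Ω[C'⁄C]) :=
    (KaehlerDifferential.tensorKaehlerEquivBase C B C' B').toEquiv.subsingleton
  have : Algebra.FormallyUnramified C C' :=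
    ⟨HenselLib.Milnor.subsingleton_of_subsingleton hsq Ω[C'⁄C] hA0 hB0⟩
  exact (Algebra.Etale.of_formallyUnramified_of_flat : Algebra.Etale C C')

end Groth.Agent.AlgSpLib.FerrandRing
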