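import Groth.Agent.AlgSpLib.FpqcBase
import Groth.Agent.AlgSpLib.FppfLocal
import Groth.Agent.AlgSpLib.MorProper
import Groth.Agent.AlgSpLib.EtLocalInst

/-!
A second criterion for a property to be fpqc local on the base, and tools to use it.
-/

universe u

open CategoryTheory CategoryTheory.Limits AlgebraicGeometry Topology
open AlgSp

noncomputable section

namespace Groth.Agent.AlgSpLib

set_option backward.isDefEq.respectTransparency.types false

variable {S : Scheme.{u}}

/-- reduction of fpqc locality on the base to a finite affine family over an affine scheme -/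
theorem isLocalOnBase_fpqc_of_affine (P : MorphismProperty (Sp S))
    (hbc : ∀ ⦃X Y X' Y' : Sp S⦄, IsAlgSpace X → IsAlgSpace Y → IsAlgSpace X' → IsAlgSpace Y' →
      ∀ (f : X ⟶ Y) (g : Y' ⟶ Y) (fst : X' ⟶ X) (snd : X' ⟶ Y'),
        IsPullback fst snd f g → P f → P snd)
    (haff : ∀ ⦃X Y : Sp S⦄, IsAlgSpace X → IsAlgSpace Y → ∀ (f : X ⟶ Y),
      (∀ (Z : Over S), IsAffine Z.left → ∀ (g : (yon S).obj Z ⟶ Y) (W : Sp S)
        (fst : W ⟶ X) (snd : W ⟶ (yon S).obj Z), IsAlgSpace W → IsPullback fst snd f g → P snd) → P f)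
    (hdesc : ∀ ⦃Z : Over S⦄ ⦃m : ℕ⦄ (V : Fin m → Over S) (c : ∀ j, V j ⟶ Z), IsAffine Z.left →
      (∀ j, IsAffine (V j).left) → (∀ j, Flat (c j).left) →
      (∀ z : ↥Z.left, ∃ j, z ∈ Set.range (c j).left) →
      ∀ ⦃X : Sp S⦄ (f : X ⟶ (yon S).obj Z) (Q : Fin m → Sp S) (a : ∀ j, Q j ⟶ X)
        (b : ∀ j, Q j ⟶ (yon S).obj (V j)), IsAlgSpace X → (∀ j, IsAlgSpace (Q j)) →
        (∀ j, IsPullback (a j) (b j) f ((yon S).map (c j))) → (∀ j, P (b j)) → P f) :
    IsLocalOnBase (IsFpqcCover (S := S)) P := by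
  intro ι Y Yi g hY hYi hc X f hX Xi p q hXi sq
  refine ⟨fun hf i => hbc hX hY (hXi i) (hYi i) f (g i) (q i) (p i) (sq i) hf, fun hp => ?_⟩
  refine haff hX hY f fun Z hZ k W fst snd hW sqW => ?_
  obtain ⟨m, V, c, hV, hcf, hcs, hl⟩ := hc.2 Z hZ k
  choose i l hl using hl
  have sqj := fun j => IsPullback.of_hasPullback snd ((yon S).map (c j))
  have hQ : ∀ j, IsAlgSpace (pullback snd ((yon S).map (c j))) := fun j =>
    isAlgSpace_of_isPullback (IsAlgSpace.yon_obj Z).diag hW (IsAlgSpace.yon_obj _) (sqj j)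
  refine hdesc V c hZ hV hcf hcs snd _ _ (fun j => pullback.snd _ _) hW hQ sqj fun j => ?_
  have sqf := (sqj j).paste_horiz sqW
  rw [← hl] at sqf
  exact hbc (hXi _) (hYi _) (hQ j) (IsAlgSpace.yon_obj _) (p (i j)) (l j)
    ((sq (i j)).lift _ (pullback.snd _ _ ≫ l j) (by rw [Category.assoc]; exact sqf.w))
    (pullback.snd _ _) (IsPullback.of_right' sqf (sq (i j))) (hp _)

theorem quasiCompact_sigmaDesc {ι : Type u} [Finite ι] {T : ι → Scheme.{u}} {Y : Scheme.{u}}
    (c : ∀ i, T i ⟶ Y) (h : ∀ i, QuasiCompact (c i)) : QuasiCompact (Sigma.desc c) := by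
  refine ⟨fun U hU hUc => ?_⟩
  have e : Sigma.desc c ⁻¹' U = ⋃ i, Sigma.ι T i '' (c i ⁻¹' U) := by
    ext x
    obtain ⟨i, t, rfl⟩ : ∃ i t, Sigma.ι T i t = x := by
      obtain ⟨i, t, rfl⟩ := (sigmaOpenCover T).exists_eq x
      exact ⟨i, t, rfl⟩
    simp only [Set.mem_preimage, Set.mem_iUnion, Set.mem_image]
    constructor
    · intro hx
      refine ⟨i, t, ?_, rfl⟩
      rwa [← Scheme.Hom.comp_apply, Sigma.ι_desc] at hx
    · rintro ⟨k, t', ht', e⟩
      rw [← e, ← Scheme.Hom.comp_apply, Sigma.ι_desc]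
      exact ht'
  rw [e]
  exact isCompact_iUnion fun i =>
    ((h i).isCompact_preimage _ hU hUc).image (Scheme.Hom.continuous _)

theorem fpqc_sigmaDesc {m : ℕ} {T : Fin m → Scheme.{u}} {Y : Scheme.{u}} (c : ∀ i, T i ⟶ Y)
    (hf : ∀ i, Flat (c i)) (hq : ∀ i, QuasiCompact (c i))
    (hs : ∀ y, ∃ i, y ∈ Set.range (c i)) :
    Et18.FPQC.{u} (Sigma.desc fun i : ULift.{u} (Fin m) => c i.down) := by
  refine ⟨⟨⟨fun y => ?_⟩, IsZariskiLocalAtSource.sigmaDesc fun i => hf _⟩,
    quasiCompact_sigmaDesc _ fun i => hq _⟩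
  obtain ⟨i, x, hx⟩ := hs y
  refine ⟨Sigma.ι (fun i : ULift.{u} (Fin m) => T i.down) ⟨i⟩ x, ?_⟩
  rw [← Scheme.Hom.comp_apply, Sigma.ι_desc]
  exact hx

/-- descent along a finite fpqc family of schemes -/
theorem property_of_fpqc_family {P : MorphismProperty Scheme.{u}} [P.IsStableUnderBaseChange]
    [IsZariskiLocalAtTarget P] [P.DescendsAlong Et18.FPQC.{u}] {m : ℕ} {X Y : Scheme.{u}} (f : X ⟶ Y)
    {T : Fin m → Scheme.{u}} (c : ∀ i, T i ⟶ Y) (hf : ∀ i, Flat (c i))
    (hq : ∀ i, QuasiCompact (c i)) (hs : ∀ y, ∃ i, y ∈ Set.range (c i))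
    (h : ∀ i, P (pullback.snd f (c i))) : P f := by
  have : P.RespectsIso := inferInstance
  refine MorphismProperty.of_pullback_snd_of_descendsAlong (Q := Et18.FPQC.{u})
    (fpqc_sigmaDesc c hf hq hs) ?_
  let T' := fun i : ULift.{u} (Fin m) => T i.down
  let q : ∐ T' ⟶ Y := Sigma.desc fun i : ULift.{u} (Fin m) => c i.down
  refine IsZariskiLocalAtTarget.of_openCover (sigmaOpenCover T') fun i => ?_
  have sq := (IsPullback.of_hasPullback (pullback.snd f q) ((sigmaOpenCover T').f i)).paste_horiz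
    (IsPullback.of_hasPullback f q)
  have sq' : IsPullback (pullback.fst (pullback.snd f q) ((sigmaOpenCover T').f i) ≫ pullback.fst f q)
      (pullback.snd (pullback.snd f q) ((sigmaOpenCover T').f i)) f (c i.down) := by
    have : (sigmaOpenCover T').f i ≫ q = c i.down := Sigma.ι_desc _ _
    rwa [this] at sq
  change P (pullback.snd (pullback.snd f q) ((sigmaOpenCover T').f i))
  rw [show pullback.snd (pullback.snd f q) ((sigmaOpenCover T').f i) =
    sq'.isoPullback.hom ≫ pullback.snd f (c i.down) from sq'.isoPullback_hom_snd.symm]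
  exact (P.cancel_left_of_respectsIso _ _).2 (h i.down)

/-- the base change of a finite fpqc family between affine schemes -/
theorem exists_base_change_family {Z T : Over S} (z : T ⟶ Z) {m : ℕ} (V : Fin m → Over S)
    (c : ∀ j, V j ⟶ Z) (hZ : IsAffine Z.left) (hV : ∀ j, IsAffine (V j).left)
    (hc : ∀ j, Flat (c j).left) (hs : ∀ z : ↥Z.left, ∃ j, z ∈ Set.range (c j).left) :
    ∃ (W : Fin m → Over S) (π : ∀ j, W j ⟶ T) (r : ∀ j, W j ⟶ V j),
      (∀ j, IsPullback (π j) (r j) z (c j)) ∧ (∀ j, Flat (π j).left) ∧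
      (∀ j, QuasiCompact (π j).left) ∧ (∀ t : ↥T.left, ∃ j, t ∈ Set.range (π j).left) ∧
      (IsAffine T.left → ∀ j, IsAffine (W j).left) := by
  let W : Fin m → Over S := fun j => Over.mk (pullback.fst z.left (c j).left ≫ T.hom)
  let π : ∀ j, W j ⟶ T := fun j => Over.homMk (pullback.fst z.left (c j).left)
  let r : ∀ j, W j ⟶ V j := fun j => Over.homMk (pullback.snd z.left (c j).left) (by
    show _ = pullback.fst z.left (c j).left ≫ T.hom
    rw [← Over.w (c j), ← Over.w z, pullback.condition_assoc])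
  refine ⟨W, π, r, fun j => ?_, fun j => ?_, fun j => ?_, fun t => ?_, fun hT j => ?_⟩
  · exact IsPullback.of_map (Over.forget S) (Over.OverMorphism.ext pullback.condition)
      (IsPullback.of_hasPullback z.left (c j).left)
  · exact MorphismProperty.pullback_fst (P := @Flat) _ _ (hc j)
  · have := hV j
    exact MorphismProperty.pullback_fst (P := @QuasiCompact) _ _ inferInstance
  · obtain ⟨j, v, hv⟩ := hs (z.left t)
    obtain ⟨p, hp, -⟩ := Scheme.Pullback.exists_preimage_pullback (f := z.left) (g := (c j).left) t v hv.symm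
    exact ⟨j, p, hp⟩
  · have := hV j
    exact inferInstanceAs (IsAffine (pullback z.left (c j).left))

/-- the pieces of a base change of `f` to an affine scheme induced by a finite fpqc family -/
theorem exists_pieces {Z : Over S} {m : ℕ} {V : Fin m → Over S} (c : ∀ j, V j ⟶ Z)
    (hZ : IsAffine Z.left) (hV : ∀ j, IsAffine (V j).left)
    (hc : ∀ j, Flat (c j).left) (hs : ∀ z : ↥Z.left, ∃ j, z ∈ Set.range (c j).left)
    {X : Sp S} {f : X ⟶ (yon S).obj Z} {Q : Fin m → Sp S} {a : ∀ j, Q j ⟶ X}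
    {b : ∀ j, Q j ⟶ (yon S).obj (V j)} (sq : ∀ j, IsPullback (a j) (b j) f ((yon S).map (c j)))
    {T : Over S} (hT : IsAffine T.left) {g : (yon S).obj T ⟶ (yon S).obj Z} {P : Sp S} {fst : P ⟶ X}
    {snd : P ⟶ (yon S).obj T} (sqP : IsPullback fst snd f g) :
    ∃ (W : Fin m → Over S) (π : ∀ j, W j ⟶ T) (r : ∀ j, W j ⟶ V j) (R : Fin m → Sp S)
      (u : ∀ j, R j ⟶ P) (s : ∀ j, R j ⟶ (yon S).obj (W j)) (v : ∀ j, R j ⟶ Q j),
      (∀ j, IsAffine (W j).left) ∧ (∀ j, Flat (π j).left) ∧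
      (∀ t : ↥T.left, ∃ j, t ∈ Set.range (π j).left) ∧
      (∀ j, IsPullback (u j) (s j) snd ((yon S).map (π j))) ∧
      (∀ j, IsPullback (v j) (s j) (b j) ((yon S).map (r j))) := by
  obtain ⟨z, rfl⟩ := (yon S).map_surjective g
  obtain ⟨W, π, r, hsq, hπ, -, hπs, hW⟩ := exists_base_change_family z V c hZ hV hc hs
  have sqR := fun j => (IsPullback.of_hasPullback snd ((yon S).map (π j))).paste_horiz sqP
  have e : ∀ j, (yon S).map (π j) ≫ (yon S).map z = (yon S).map (r j) ≫ (yon S).map (c j) := fun j =>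
    by rw [← Functor.map_comp, ← Functor.map_comp, (hsq j).w]
  refine ⟨W, π, r, fun j => pullback snd ((yon S).map (π j)), fun j => pullback.fst _ _,
    fun j => pullback.snd _ _, fun j => (sq j).lift (pullback.fst _ _ ≫ fst)
      (pullback.snd _ _ ≫ (yon S).map (r j)) ?_, hW hT, hπ, hπs,
    fun j => IsPullback.of_hasPullback _ _, fun j => ?_⟩
  · rw [Category.assoc, Category.assoc, ← e, sqP.w, ← Category.assoc, pullback.condition,
      Category.assoc]
  · have h := sqR j
    rw [e] at h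
    exact IsPullback.of_right' h (sq j)

/-- points of a scheme covered by an fpqc family -/
theorem exists_points_preimage {m : ℕ} {T : Over S} {W : Fin m → Over S} (π : ∀ j, W j ⟶ T)
    (hs : ∀ t : ↥T.left, ∃ j, t ∈ Set.range (π j).left) (y : Points ((yon S).obj T)) :
    ∃ j w, Points.map ((yon S).map (π j)) w = y := by
  obtain ⟨t, rfl⟩ := (Points.schemeHomeo T).surjective y
  obtain ⟨j, w, hw⟩ := hs t
  refine ⟨j, Points.schemeHomeo _ w, ?_⟩
  rw [Points.map_yon_map_eq]
  simp only [Function.comp_apply, Homeomorph.symm_apply_apply, hw]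

theorem isOpen_of_fpqc_family {m : ℕ} {T : Over S} {W : Fin m → Over S} (π : ∀ j, W j ⟶ T)
    (hT : IsAffine T.left) (hW : ∀ j, IsAffine (W j).left) (hf : ∀ j, Flat (π j).left)
    (hs : ∀ t : ↥T.left, ∃ j, t ∈ Set.range (π j).left) {A : Set (Points ((yon S).obj T))}
    (h : ∀ j, IsOpen (Points.map ((yon S).map (π j)) ⁻¹' A)) : IsOpen A := by
  rw [← (Points.schemeHomeo T).isOpen_preimage]
  have hq := fpqc_sigmaDesc (fun j => (π j).left) hf
    (fun j => by have := hW j; infer_instance) hs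
  let W' := fun i : ULift.{u} (Fin m) => (W i.down).left
  have : Flat (Sigma.desc fun i : ULift.{u} (Fin m) => (π i.down).left) := hq.1.2
  have : QuasiCompact (Sigma.desc fun i : ULift.{u} (Fin m) => (π i.down).left) := hq.2
  have : Surjective (Sigma.desc fun i : ULift.{u} (Fin m) => (π i.down).left) := hq.1.1
  rw [← (Flat.isQuotientMap_of_surjective
    (Sigma.desc fun i : ULift.{u} (Fin m) => (π i.down).left)).isOpen_preimage]
  let B : Set ↥(∐ W') := Sigma.desc (fun i : ULift.{u} (Fin m) => (π i.down).left) ⁻¹'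
    (Points.schemeHomeo T ⁻¹' A)
  have e : B = ⋃ i, Sigma.ι W' i '' (Sigma.ι W' i ⁻¹' B) := by
    ext x
    obtain ⟨i, t, rfl⟩ : ∃ i t, Sigma.ι W' i t = x := by
      obtain ⟨i, t, rfl⟩ := (sigmaOpenCover W').exists_eq x
      exact ⟨i, t, rfl⟩
    exact ⟨fun hx => Set.mem_iUnion.2 ⟨i, t, hx, rfl⟩,
      fun hx => by obtain ⟨k, t', ht', e⟩ := Set.mem_iUnion.1 hx; exact e ▸ ht'⟩
  show IsOpen B
  rw [e]
  refine isOpen_iUnion fun i => (Scheme.Hom.isOpenEmbedding (Sigma.ι W' i)).isOpenMap _ ?_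
  have h1 := (h i.down).preimage (Points.schemeHomeo (W i.down)).continuous
  rw [Points.map_yon_map_eq, ← Set.preimage_comp] at h1
  convert h1 using 1
  ext x
  simp only [B, Set.mem_preimage, Function.comp_apply, Homeomorph.symm_apply_apply]
  rw [← Scheme.Hom.comp_apply, Sigma.ι_desc]

/-- descent of a property of a representable morphism along fpqc families of the target -/
theorem repWith_of_fpqc_family {F G : Sp S} {a : F ⟶ G} (ha : Representable a)
    (P : MorphismProperty Scheme.{u}) [P.IsStableUnderBaseChange] [IsZariskiLocalAtTarget P]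
    [P.DescendsAlong Et18.FPQC.{u}]
    (h : ∀ (T : Over S) (t : (yon S).obj T ⟶ G), ∃ (m : ℕ) (W : Fin m → Over S) (π : ∀ j, W j ⟶ T),
      (∀ j, Flat (π j).left) ∧ (∀ j, QuasiCompact (π j).left) ∧
      (∀ x : ↥T.left, ∃ j, x ∈ Set.range (π j).left) ∧
      ∀ j (D : Over S) (p : (yon S).obj D ⟶ F) (q : D ⟶ W j),
        IsPullback p ((yon S).map q) a ((yon S).map (π j) ≫ t) → P q.left) :
    RepWith P a := by
  refine MorphismProperty.relative.of_exists fun T t => ?_
  refine ⟨_, _, ha.snd t, ha.isPullback t, ?_⟩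
  obtain ⟨m, W, π, hf, hq, hs, hP⟩ := h T t
  refine property_of_fpqc_family _ (fun j => (π j).left) hf hq hs fun j => ?_
  let q := ha.snd t
  let D : Over S := Over.mk (pullback.fst q.left (π j).left ≫ (ha.pullback t).hom)
  let p : D ⟶ ha.pullback t := Over.homMk (pullback.fst q.left (π j).left)
  let q' : D ⟶ W j := Over.homMk (pullback.snd q.left (π j).left) (by
    show _ = pullback.fst q.left (π j).left ≫ (ha.pullback t).hom
    rw [← Over.w (π j), ← Over.w q, pullback.condition_assoc])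
  have sq : IsPullback p q' q (π j) :=
    IsPullback.of_map (Over.forget S) (Over.OverMorphism.ext pullback.condition)
      (IsPullback.of_hasPullback q.left (π j).left)
  exact hP j D _ q' ((sq.map (yon S)).paste_horiz (ha.isPullback t))

end Groth.Agent.AlgSpLib
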