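import Groth.Agent.AlgSpLib.RepLocal
import Groth.Agent.AlgSpLib.PointsCompact
import Groth.Agent.AlgSpLib.FpqcBase2
import Groth.Agent.Desc19b.IndQAEff
import Groth.Agent.Desc19b.HensSp.Lift
import Groth.Agent.FEtDesc.Fpqc
import Groth.Agent.S7482
import Mathlib.AlgebraicGeometry.Sites.Fpqc

/-!
# Algebraic spaces are sheaves for the fpqc topology
-/

set_option autoImplicit false
set_option backward.isDefEq.respectTransparency false
set_option backward.isDefEq.respectTransparency.types false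
set_option linter.style.haveILetI false

universe u

open CategoryTheory CategoryTheory.Limits AlgebraicGeometry
open AlgSp

noncomputable section

namespace Groth.Agent.AlgSpLib.GabberSheaf

variable {S : Scheme.{u}} {B : Sp S}

theorem fpqc_of_affine {W Z : Scheme.{u}} (c : W ⟶ Z) [IsAffine W] [IsAffine Z] [Flat c] [Surjective c] :
    Et18.FPQC.{u} c := ⟨⟨inferInstance, inferInstance⟩, inferInstance⟩

/-- two maps to an algebraic space agreeing after an fpqc map are equal -/
theorem eq_of_fpqc (hB : IsAlgSpace B) {T T' : Over S} (c : T' ⟶ T) (hc : Et18.FPQC.{u} c.left)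
    (a b : (yon S).obj T ⟶ B) (h : (yon S).map c ≫ a = (yon S).map c ≫ b) : a = b := by
  let r := hB.diag (prod.lift a b)
  obtain ⟨E, e, κ, sq⟩ := r
  have hκ : ∀ {W : Over S} (u v : W ⟶ E), u ≫ e = v ≫ e → u = v := by
    intro W u v huv
    refine (yon S).map_injective (sq.hom_ext ?_ ?_)
    · have h1 := congrArg ((yon S).map u ≫ ·) sq.w
      have h2 := congrArg ((yon S).map v ≫ ·) sq.w
      simp only [← Category.assoc] at h1 h2
      rw [← Functor.map_comp, huv] at h1
      rw [← Functor.map_comp] at h2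
      have := congrArg (· ≫ prod.fst) (h1.trans h2.symm)
      simpa using this
    · rw [← Functor.map_comp, ← Functor.map_comp, huv]
  haveI : Mono e.left := ⟨fun {Z} u v huv => by
    let W : Over S := Over.mk (u ≫ E.hom)
    have hv : v ≫ E.hom = u ≫ E.hom := by rw [← Over.w e, reassoc_of% huv]
    exact congrArg CommaMorphism.left
      (hκ (Over.homMk u : W ⟶ E) (Over.homMk v hv : W ⟶ E) (Over.OverMorphism.ext huv))⟩
  obtain ⟨t, ht⟩ := (yon S).map_surjective (sq.lift ((yon S).map c ≫ a) ((yon S).map c) (by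
    apply prod.hom_ext <;> simp [h]))
  have hte : t ≫ e = c := (yon S).map_injective (by rw [Functor.map_comp, ht, sq.lift_snd])
  have : IsSplitEpi (pullback.snd e.left c.left) := IsSplitEpi.mk'
    ⟨pullback.lift t.left (𝟙 _) (by rw [Category.id_comp, ← Over.comp_left, hte]), pullback.lift_snd _ _ _⟩
  have : IsIso (pullback.snd e.left c.left) := isIso_of_mono_of_isSplitEpi _
  haveI hiso : IsIso e.left := MorphismProperty.of_pullback_snd_of_descendsAlong
    (P := MorphismProperty.isomorphisms Scheme.{u}) (Q := Et18.FPQC.{u}) hc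
    (MorphismProperty.isomorphisms.infer_property _)
  haveI : IsIso ((Over.forget S).map e) := hiso
  haveI : IsIso e := isIso_of_reflects_iso e (Over.forget S)
  have h3 : (yon S).map e ≫ a = κ := by
    simpa using (congrArg (· ≫ prod.fst) sq.w).symm
  have h4 : (yon S).map e ≫ b = κ := by
    simpa using (congrArg (· ≫ prod.snd) sq.w).symm
  rw [← cancel_epi ((yon S).map e), h3, h4]

/-- a descent datum from a chart, in the one-member case -/
theorem exists_desc (hB : IsAlgSpace B) {Z W : Over S} (c : W ⟶ Z) [IsAffine W.left] [IsAffine Z.left]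
    [Flat c.left] [Surjective c.left] (b : (yon S).obj W ⟶ B)
    (hb : ∀ (T : Over S) (x y : T ⟶ W), x ≫ c = y ≫ c → (yon S).map x ≫ b = (yon S).map y ≫ b) :
    ∃ d : (yon S).obj Z ⟶ B, (yon S).map c ≫ d = b := by
  obtain ⟨κ, Vs, hVs, q, p, hpe, hps, -⟩ := exists_etale_surjective_sigma_affine hB
  let U : Over S := Over.mk q
  haveI hUsep : U.left.IsSeparated := ⟨by
    show IsSeparated (terminal.from (∐ Vs))
    rw [show terminal.from (∐ Vs) = Sigma.desc (fun k => terminal.from (Vs k)) from terminal.hom_ext _ _]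
    exact Desc19b.HensSp.isSeparated_sigmaDesc _ fun k => by have := hVs k; infer_instance⟩
  obtain ⟨V, g, aU, sq⟩ := hpe.1 b
  obtain ⟨uV, rfl⟩ := (yon S).map_surjective aU
  haveI : Etale g.left := hpe.property _ _ _ sq
  haveI : Surjective g.left := hps.property _ _ _ sq
  -- `V` is separated over `W`
  have hpair : ∀ {T : Scheme.{u}} (u v : T ⟶ V.left),
      u ≫ g.left = v ≫ g.left → u ≫ uV.left = v ≫ uV.left → u = v := by
    intro T u v h1 h2
    have hv : v ≫ V.hom = u ≫ V.hom := by rw [← Over.w g, reassoc_of% h1]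
    exact congrArg CommaMorphism.left ((yon S).map_injective (sq.hom_ext
      (W := (yon S).obj (Over.mk (u ≫ V.hom))) (k := (yon S).map (Over.homMk u))
      (l := (yon S).map (Over.homMk v hv))
      (((yon S).map_comp _ _).symm.trans ((congrArg _ (Over.OverMorphism.ext h2)).trans ((yon S).map_comp _ _)))
      (((yon S).map_comp _ _).symm.trans ((congrArg _ (Over.OverMorphism.ext h1)).trans ((yon S).map_comp _ _)))))
  haveI : IsSeparated g.left := by
    let m : V.left ⟶ pullback (terminal.from U.left) (terminal.from W.left) :=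
      pullback.lift uV.left g.left (terminal.hom_ext _ _)
    haveI : Mono m := ⟨fun u v huv => hpair u v
      (by simpa [m] using congrArg (· ≫ pullback.snd _ _) huv)
      (by simpa [m] using congrArg (· ≫ pullback.fst _ _) huv)⟩
    rw [show g.left = m ≫ pullback.snd _ _ from (pullback.lift_snd _ _ _).symm]
    infer_instance
  haveI : V.left.IsSeparated := ⟨by
    rw [show terminal.from V.left = g.left ≫ terminal.from W.left from terminal.hom_ext _ _]
    infer_instance⟩
  -- transport of points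
  have hex : ∀ {T : Scheme.{u}} (x₀ x₁ : T ⟶ W.left), x₀ ≫ c.left = x₁ ≫ c.left →
      ∀ v : T ⟶ V.left, v ≫ g.left = x₀ → ∃ v' : T ⟶ V.left, v' ≫ g.left = x₁ ∧ v' ≫ uV.left = v ≫ uV.left := by
    intro T x₀ x₁ h v hv
    let T₀ : Over S := Over.mk (v ≫ V.hom)
    let vv : T₀ ⟶ V := Over.homMk v
    let xx : T₀ ⟶ W := Over.homMk x₁ (by
      show x₁ ≫ W.hom = v ≫ V.hom
      rw [← Over.w c, ← Category.assoc, ← h, Category.assoc, Over.w c, ← hv, Category.assoc, Over.w g])
    have hxx : (yon S).map (vv ≫ g) ≫ b = (yon S).map xx ≫ b :=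
      hb T₀ _ _ (Over.OverMorphism.ext (show (v ≫ g.left) ≫ c.left = x₁ ≫ c.left by rw [hv, h]))
    obtain ⟨w, hw⟩ := (yon S).map_surjective (sq.lift ((yon S).map (vv ≫ uV)) ((yon S).map xx) (by
      rw [← hxx, Functor.map_comp, Functor.map_comp, Category.assoc, Category.assoc, sq.w]))
    refine ⟨w.left, ?_, ?_⟩
    · exact congrArg CommaMorphism.left (show w ≫ g = xx from (yon S).map_injective
        (by rw [Functor.map_comp, hw, sq.lift_snd]))
    · exact congrArg CommaMorphism.left (show w ≫ uV = vv ≫ uV from (yon S).map_injective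
        (by rw [Functor.map_comp, hw, sq.lift_fst]))
  choose tr htr₁ htr₂ using @hex
  let trL : ∀ {T : Scheme.{u}} (x₀ x₁ : T ⟶ W.left) (_ : x₀ ≫ c.left = x₁ ≫ c.left),
      Desc.Lifts (Over.mk g.left) x₀ → Desc.Lifts (Over.mk g.left) x₁ := fun x₀ x₁ h v =>
    ⟨tr x₀ x₁ h v.1 v.2, htr₁ x₀ x₁ h v.1 v.2⟩
  have hu : ∀ {T : Scheme.{u}} {x : T ⟶ W.left} (v v' : Desc.Lifts (Over.mk g.left) x),
      v.1 ≫ uV.left = v'.1 ≫ uV.left → v = v' := fun v v' h =>
    Subtype.ext (hpair v.1 v'.1 (v.2.trans v'.2.symm) h)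
  have htrL : ∀ {T : Scheme.{u}} (x₀ x₁ : T ⟶ W.left) (h : x₀ ≫ c.left = x₁ ≫ c.left)
      (v : Desc.Lifts (Over.mk g.left) x₀), (trL x₀ x₁ h v).1 ≫ uV.left = v.1 ≫ uV.left :=
    fun x₀ x₁ h v => htr₂ x₀ x₁ h v.1 v.2
  let D : Desc.SchDD c.left :=
    { obj := Over.mk g.left
      φ := fun T x₀ x₁ h =>
        { toFun := trL x₀ x₁ h
          invFun := trL x₁ x₀ h.symm
          left_inv := fun v => hu _ _ ((htrL _ _ _ _).trans (htrL _ _ _ _))
          right_inv := fun v => hu _ _ ((htrL _ _ _ _).trans (htrL _ _ _ _)) }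
      φ_natural := fun T T' k x₀ x₁ h h' v v' hv' => by
        refine hpair _ _ ((trL (k ≫ x₀) (k ≫ x₁) h' v').2.trans ?_) ?_
        · rw [Category.assoc]; exact congrArg (k ≫ ·) (trL x₀ x₁ h v).2.symm
        · show (trL (k ≫ x₀) (k ≫ x₁) h' v').1 ≫ _ = (k ≫ (trL x₀ x₁ h v).1) ≫ _
          rw [htrL, hv', Category.assoc, Category.assoc, htrL]
      φ_self := fun T x v => hu _ _ (htrL _ _ _ _)
      φ_comp := fun T x₀ x₁ x₂ h₀₁ h₁₂ v => hu _ _
        ((htrL _ _ _ _).trans ((htrL _ _ _ _).trans (htrL _ _ _ _).symm)) }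
  have hqa : MoreMor.IsIndQuasiAffineHom g.left := (FlatMorIndQA.hom_iff _).2 fun O _ O' _ hO' => by
    haveI : CompactSpace ↥(O' : Scheme.{u}) := isCompact_iff_compactSpace.mp hO'
    haveI : QuasiCompact (O'.ι ≫ g.left) := HasAffineProperty.iff_of_isAffine.mpr ‹_›
    haveI : IsSeparated (O'.ι ≫ g.left) := inferInstance
    haveI : Etale (O'.ι ≫ g.left) := inferInstance
    haveI := FEtDesc.locallyQuasiFinite_of_formallyUnramified (O'.ι ≫ g.left)
    exact FlatMorIndQA.isQuasiAffine_top (FEtDesc.isQuasiAffine_of_lqf (O'.ι ≫ g.left))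
  have hc : Et18.FPQC.{u} c.left := fpqc_of_affine _
  obtain ⟨U₀, ⟨e⟩⟩ : ∃ U₀ : Over Z.left, Nonempty ((Desc.toDD c.left).obj U₀ ≅ D) := by
    have hf : Presieve.ofArrows (fun _ : PUnit.{u + 1} => W.left) (fun _ => c.left) ∈
        Scheme.fpqcPrecoverage Z.left := by
      rw [Presieve.ofArrows_pUnit]; exact c.left.singleton_mem_fpqcPrecoverage
    obtain ⟨U₀, ⟨e⟩⟩ := S7482.result _ hf ((Desc.SchDDFam.ofSchDD c.left).obj D) (fun _ => hqa)
    exact ⟨U₀, ⟨(Desc.SchDDFam.toSchDD c.left).mapIso e⟩⟩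
  let P := pullback c.left U₀.hom
  let fst : P ⟶ W.left := pullback.fst _ _
  let snd : P ⟶ U₀.left := pullback.snd _ _
  let ψ : P ⟶ V.left := e.hom.hom.left
  have hψ : ψ ≫ g.left = fst := Over.w e.hom.hom
  haveI : IsIso ψ := ⟨e.inv.hom.left, congrArg (fun k => k.hom.left) e.hom_inv_id,
    congrArg (fun k => k.hom.left) e.inv_hom_id⟩
  haveI : Etale fst := hψ ▸ inferInstance
  haveI : Surjective fst := hψ ▸ inferInstance
  haveI : Etale U₀.hom := MorphismProperty.of_pullback_fst_of_descendsAlong (P := @Etale)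
    (Q := Et18.FPQC.{u}) hc ‹Etale fst›
  haveI : Surjective U₀.hom := MorphismProperty.of_pullback_fst_of_descendsAlong (P := @Surjective)
    (Q := Et18.FPQC.{u}) hc ‹Surjective fst›
  haveI : Flat snd := MorphismProperty.pullback_snd (P := @Flat) _ _ inferInstance
  haveI : Surjective snd := MorphismProperty.pullback_snd (P := @Surjective) _ _ inferInstance
  haveI : QuasiCompact snd := MorphismProperty.pullback_snd (P := @QuasiCompact) _ _ inferInstance
  -- the map to the chart
  have hag : ∀ {T : Scheme.{u}} (x y : T ⟶ P), x ≫ snd = y ≫ snd → x ≫ ψ ≫ uV.left = y ≫ ψ ≫ uV.left := by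
    intro T x y hxy
    have hx : (x ≫ fst) ≫ c.left = (y ≫ fst) ≫ c.left := by
      rw [Category.assoc, Category.assoc, pullback.condition, reassoc_of% hxy]
    let vx : Desc.Lifts ((Desc.toDD c.left).obj U₀).obj (x ≫ fst) := ⟨x, rfl⟩
    have hcan : (((Desc.toDD c.left).obj U₀).φ _ _ hx vx).1 = y :=
      pullback.hom_ext (pullback.lift_fst _ _ _) ((pullback.lift_snd _ _ _).trans hxy)
    have hcm := e.hom.comm _ _ hx vx (e.hom.push vx) rfl
    rw [hcan] at hcm
    have := htrL _ _ hx (e.hom.push vx)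
    rw [show (trL _ _ hx (e.hom.push vx)).1 = y ≫ ψ from hcm] at this
    simpa [Desc.SchDD.Hom.push, vx, ψ] using this.symm
  let uu : U₀.left ⟶ U.left := EffectiveEpi.desc snd (ψ ≫ uV.left) fun x y h => hag x y h
  have huu : snd ≫ uu = ψ ≫ uV.left := EffectiveEpi.fac _ _ _
  let X₀ : Over S := Over.mk (U₀.hom ≫ Z.hom)
  have hP : ∀ {k : P ⟶ V.left}, k ≫ g.left = fst → k ≫ V.hom = fst ≫ W.hom := fun hk => by
    rw [← Over.w g, reassoc_of% hk]
  let uuS : X₀ ⟶ U := Over.homMk uu (by
    show uu ≫ U.hom = U₀.hom ≫ Z.hom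
    rw [← cancel_epi snd, reassoc_of% huu, Over.w uV, hP hψ, ← pullback.condition_assoc, Over.w c])
  let q₀ : X₀ ⟶ Z := Over.homMk U₀.hom
  let P₀ : Over S := Over.mk (fst ≫ W.hom)
  let ψS : P₀ ⟶ V := Over.homMk ψ (hP hψ)
  let sndS : P₀ ⟶ X₀ := Over.homMk snd (by
    show snd ≫ U₀.hom ≫ Z.hom = fst ≫ W.hom
    rw [← pullback.condition_assoc, Over.w c])
  let fstS : P₀ ⟶ W := Over.homMk fst
  let ν := (yon S).map uuS ≫ p
  have hν : (yon S).map sndS ≫ ν = (yon S).map fstS ≫ b := by
    rw [← Functor.map_comp_assoc, show sndS ≫ uuS = ψS ≫ uV from Over.OverMorphism.ext huu,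
      Functor.map_comp, Category.assoc, sq.w, ← Functor.map_comp_assoc,
      show ψS ≫ g = fstS from Over.OverMorphism.ext hψ]
  have hagree : ∀ (T : Over S) (x y : T ⟶ X₀), x ≫ q₀ = y ≫ q₀ →
      (yon S).map x ≫ ν = (yon S).map y ≫ ν := by
    intro T x y hxy
    let T' : Over S := Over.mk (pullback.fst (x ≫ q₀).left c.left ≫ T.hom)
    let π : T' ⟶ T := Over.homMk (pullback.fst (x ≫ q₀).left c.left)
    let ρ : T' ⟶ W := Over.homMk (pullback.snd (x ≫ q₀).left c.left) (by
      show _ = pullback.fst (x ≫ q₀).left c.left ≫ T.hom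
      rw [← Over.w c, ← Over.w (x ≫ q₀), pullback.condition_assoc])
    have hπ : Et18.FPQC.{u} π.left :=
      MorphismProperty.pullback_fst (P := Et18.FPQC.{u}) _ _ hc
    refine eq_of_fpqc hB π hπ _ _ ?_
    have key : ∀ z : T ⟶ X₀, z ≫ q₀ = x ≫ q₀ →
        (yon S).map π ≫ (yon S).map z ≫ ν = (yon S).map ρ ≫ b := by
      intro z hz
      let z' : T' ⟶ P₀ := Over.homMk (pullback.lift ρ.left (π.left ≫ z.left) (by
        rw [Category.assoc]
        show ρ.left ≫ c.left = π.left ≫ (z ≫ q₀).left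
        rw [hz]; exact pullback.condition.symm)) (by
          show pullback.lift _ _ _ ≫ fst ≫ W.hom = T'.hom
          rw [pullback.lift_fst_assoc, Over.w ρ])
      rw [← Functor.map_comp_assoc, show π ≫ z = z' ≫ sndS from
          Over.OverMorphism.ext (pullback.lift_snd _ _ _).symm,
        Functor.map_comp, Category.assoc, hν, ← Functor.map_comp_assoc,
        show z' ≫ fstS = ρ from Over.OverMorphism.ext (pullback.lift_fst _ _ _)]
    rw [key x rfl, key y hxy.symm]
  haveI i1 : ∀ i : PUnit.{u + 1}, Flat ((fun _ => q₀) i).left := fun _ => (inferInstance : Flat U₀.hom)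
  haveI i2 : ∀ i : PUnit.{u + 1}, LocallyOfFinitePresentation ((fun _ => q₀) i).left := fun _ =>
    (inferInstance : LocallyOfFinitePresentation U₀.hom)
  obtain ⟨d, hd⟩ := @yon_exists_glue S _ Z (fun _ => X₀) (fun _ : PUnit.{u + 1} => q₀) i1 i2
    (fun z => ⟨⟨⟩, U₀.hom.surjective z⟩) B (fun _ => ν) fun _ _ T x y h => hagree T x y h
  haveI j1 : ∀ i : PUnit.{u + 1}, Flat ((fun _ => fstS) i).left := fun _ => (inferInstance : Flat fst)
  haveI j2 : ∀ i : PUnit.{u + 1}, LocallyOfFinitePresentation ((fun _ => fstS) i).left := fun _ =>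
    (inferInstance : LocallyOfFinitePresentation fst)
  refine ⟨d, @yon_hom_ext_of_cover S _ W (fun _ => P₀) (fun _ : PUnit.{u + 1} => fstS) j1 j2
    (fun z => ⟨⟨⟩, fst.surjective z⟩) B _ _ fun _ => ?_⟩
  rw [← hν, ← hd ⟨⟩, ← Functor.map_comp_assoc, ← Functor.map_comp_assoc,
    show fstS ≫ c = sndS ≫ q₀ from Over.OverMorphism.ext pullback.condition]

theorem hom_ext_of_affineOpens (T : Over S) (a b : (yon S).obj T ⟶ B)
    (h : ∀ (Z : Over S) (k : Z ⟶ T), IsAffine Z.left → (yon S).map k ≫ a = (yon S).map k ≫ b) : a = b := by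
  let V : T.left.affineOpens → Over S := fun O => restrictOver T O.1
  let k : ∀ O, V O ⟶ T := fun O => restrictOverι T O.1
  haveI h1 : ∀ O, Flat (k O).left := fun O => (inferInstance : Flat O.1.ι)
  haveI h2 : ∀ O, LocallyOfFinitePresentation (k O).left := fun O => (inferInstance : LocallyOfFinitePresentation O.1.ι)
  refine yon_hom_ext_of_cover k (fun z => ?_) a b fun O => h _ (k O) O.2
  obtain ⟨O, hO, hz, -⟩ := exists_isAffineOpen_mem_and_subset (x := z) (U := ⊤) trivial
  exact ⟨⟨O, hO⟩, ⟨z, hz⟩, rfl⟩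

variable {T : Sp S} {ι : Type u} {Ti : ι → Sp S} {g : ∀ i, Ti i ⟶ T}

theorem exists_sigma_cover (hg : IsFpqcCover Ti g) {Z : Over S} (hZ : IsAffine Z.left) (h : (yon S).obj Z ⟶ T) :
    ∃ (m : ℕ) (V : ULift.{u} (Fin m) → Over S) (c : sigmaOver V ⟶ Z),
      IsAffine (sigmaOver V).left ∧ Flat c.left ∧ Surjective c.left ∧
      ∀ j, ∃ (i : ι) (l : (yon S).obj (V j) ⟶ Ti i), l ≫ g i = (yon S).map (sigmaOverι V j ≫ c) ≫ h := by
  obtain ⟨m, V, c, hV, hcf, hcs, hl⟩ := hg.2 Z hZ h
  let V' : ULift.{u} (Fin m) → Over S := fun j => V j.down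
  let c' : sigmaOver V' ⟶ Z :=
    Over.homMk (Sigma.desc fun j : ULift.{u} (Fin m) => (c j.down).left)
      (Sigma.hom_ext _ _ fun j => by simp [sigmaOver, V'])
  have hc' : ∀ j, sigmaOverι V' j ≫ c' = c j.down := fun j => Over.OverMorphism.ext (Sigma.ι_desc _ _)
  haveI : ∀ j, IsAffine (V' j).left := fun j => hV j.down
  refine ⟨m, V', c', inferInstanceAs (IsAffine (∐ fun j => (V' j).left)),
    IsZariskiLocalAtSource.sigmaDesc fun j => hcf j.down, ⟨fun z => ?_⟩, fun j => ?_⟩
  · obtain ⟨j, v, hv⟩ := hcs z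
    refine ⟨(sigmaOverι V' ⟨j⟩).left v, ?_⟩
    rw [show c'.left ((sigmaOverι V' ⟨j⟩).left v) = (sigmaOverι V' ⟨j⟩ ≫ c').left v from rfl, hc']
    exact hv
  · rw [hc']
    exact hl j.down

theorem hom_ext_sigma {κ : Type u} (V : κ → Over S) {a b : (yon S).obj (sigmaOver V) ⟶ B}
    (h : ∀ j, (yon S).map (sigmaOverι V j) ≫ a = (yon S).map (sigmaOverι V j) ≫ b) : a = b :=
  (existsUnique_desc_sigma V fun j => (yon S).map (sigmaOverι V j) ≫ b).unique h fun _ => rfl

theorem ext_affine (hB : IsAlgSpace B) (hg : IsFpqcCover Ti g) {Z : Over S} (hZ : IsAffine Z.left)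
    (h : (yon S).obj Z ⟶ T) (a b : (yon S).obj Z ⟶ B)
    (hab : ∀ (W : Over S) (w : W ⟶ Z) (i : ι) (l : (yon S).obj W ⟶ Ti i),
      l ≫ g i = (yon S).map w ≫ h → (yon S).map w ≫ a = (yon S).map w ≫ b) : a = b := by
  obtain ⟨m, V, c, hV, hcf, hcs, hl⟩ := exists_sigma_cover hg hZ h
  refine eq_of_fpqc hB c (fpqc_of_affine c.left) a b (hom_ext_sigma V fun j => ?_)
  obtain ⟨i, l, hl⟩ := hl j
  rw [← Functor.map_comp_assoc, ← Functor.map_comp_assoc]
  exact hab _ _ i l hl

theorem hom_ext_of_cover (hT : IsAlgSpace T) (hB : IsAlgSpace B) (hg : IsFpqcCover Ti g) (a b : T ⟶ B)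
    (h : ∀ i, g i ≫ a = g i ≫ b) : a = b := by
  obtain ⟨κ, V, hV, q, p, hpe, hps, -⟩ := exists_etale_surjective_sigma_affine hT
  haveI := isLocallySurjective_of_etale hpe hps
  haveI : Epi p := Sheaf.epi_of_isLocallySurjective p
  rw [← cancel_epi p]
  refine hom_ext_of_affineOpens _ _ _ fun Z k hZ => ext_affine hB hg hZ ((yon S).map k ≫ p) _ _ fun W w i l hl => ?_
  rw [← Category.assoc ((yon S).map k), ← Category.assoc ((yon S).map w), ← hl, Category.assoc, h,
    ← Category.assoc, hl]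
  simp only [Category.assoc]

theorem exists_glue_of_cover (hT : IsAlgSpace T) (hB : IsAlgSpace B) (hg : IsFpqcCover Ti g)
    (bi : ∀ i, Ti i ⟶ B) (h : ∀ i j, pullback.fst (g i) (g j) ≫ bi i = pullback.snd (g i) (g j) ≫ bi j) :
    ∃ b : T ⟶ B, ∀ i, g i ≫ b = bi i := by
  have hcomp : ∀ {R : Sp S} {i j : ι} (u : R ⟶ Ti i) (v : R ⟶ Ti j), u ≫ g i = v ≫ g j →
      u ≫ bi i = v ≫ bi j := fun {R i j} u v huv => by
    have := congrArg (pullback.lift u v huv ≫ ·) (h i j)
    simpa using this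
  have haff : ∀ (Z : Over S), IsAffine Z.left → ∀ (k : (yon S).obj Z ⟶ T),
      ∃ d : (yon S).obj Z ⟶ B, ∀ (W : Over S) (w : W ⟶ Z) (i : ι) (l : (yon S).obj W ⟶ Ti i),
        l ≫ g i = (yon S).map w ≫ k → (yon S).map w ≫ d = l ≫ bi i := by
    intro Z hZ k
    obtain ⟨m, V, c, hV, hcf, hcs, hl⟩ := exists_sigma_cover hg hZ k
    choose i l hl using hl
    obtain ⟨b₀, hb₀, -⟩ := existsUnique_desc_sigma V fun j => l j ≫ bi (i j)
    have hag : ∀ (W : Over S) (w : W ⟶ Z) (i₀ : ι) (l₀ : (yon S).obj W ⟶ Ti i₀),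
        l₀ ≫ g i₀ = (yon S).map w ≫ k → ∀ (x : W ⟶ sigmaOver V), x ≫ c = w →
        (yon S).map x ≫ b₀ = l₀ ≫ bi i₀ := by
      intro W w i₀ l₀ hl₀ x hx
      let P : ULift.{u} (Fin m) → Over S := fun j =>
        Over.mk (pullback.fst x.left (sigmaOverι V j).left ≫ W.hom)
      let π : ∀ j, P j ⟶ W := fun j => Over.homMk (pullback.fst x.left (sigmaOverι V j).left)
      let r : ∀ j, P j ⟶ V j := fun j => Over.homMk (pullback.snd x.left (sigmaOverι V j).left) (by
        show _ = pullback.fst x.left (sigmaOverι V j).left ≫ W.hom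
        rw [← Over.w (sigmaOverι V j), ← Over.w x, pullback.condition_assoc])
      haveI h1 : ∀ j, Flat (π j).left := fun j =>
        (inferInstance : Flat (pullback.fst x.left (sigmaOverι V j).left))
      haveI h2 : ∀ j, LocallyOfFinitePresentation (π j).left := fun j =>
        (inferInstance : LocallyOfFinitePresentation (pullback.fst x.left (sigmaOverι V j).left))
      refine yon_hom_ext_of_cover π (fun z => ?_) _ _ fun j => ?_
      · obtain ⟨j, v, hv⟩ := exists_mem_range_sigmaOverι V (x.left z)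
        obtain ⟨t, ht, -⟩ := Scheme.Pullback.exists_preimage_pullback (f := x.left)
          (g := (sigmaOverι V j).left) z v hv.symm
        exact ⟨j, t, ht⟩
      have hπ : π j ≫ x = r j ≫ sigmaOverι V j := Over.OverMorphism.ext pullback.condition
      rw [← Functor.map_comp_assoc, hπ, Functor.map_comp, Category.assoc, hb₀, ← Category.assoc, ← Category.assoc]
      refine hcomp _ _ ?_
      rw [Category.assoc, hl, Category.assoc, hl₀, ← Functor.map_comp_assoc, ← Functor.map_comp_assoc, ← hx,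
        ← Category.assoc, ← hπ, Category.assoc]
    have hcompat : ∀ (W : Over S) (x y : W ⟶ sigmaOver V), x ≫ c = y ≫ c →
        (yon S).map x ≫ b₀ = (yon S).map y ≫ b₀ := by
      intro W x y hxy
      let P : ULift.{u} (Fin m) → Over S := fun j =>
        Over.mk (pullback.fst x.left (sigmaOverι V j).left ≫ W.hom)
      let π : ∀ j, P j ⟶ W := fun j => Over.homMk (pullback.fst x.left (sigmaOverι V j).left)
      let r : ∀ j, P j ⟶ V j := fun j => Over.homMk (pullback.snd x.left (sigmaOverι V j).left) (by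
        show _ = pullback.fst x.left (sigmaOverι V j).left ≫ W.hom
        rw [← Over.w (sigmaOverι V j), ← Over.w x, pullback.condition_assoc])
      haveI h1 : ∀ j, Flat (π j).left := fun j =>
        (inferInstance : Flat (pullback.fst x.left (sigmaOverι V j).left))
      haveI h2 : ∀ j, LocallyOfFinitePresentation (π j).left := fun j =>
        (inferInstance : LocallyOfFinitePresentation (pullback.fst x.left (sigmaOverι V j).left))
      refine yon_hom_ext_of_cover π (fun z => ?_) _ _ fun j => ?_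
      · obtain ⟨j, v, hv⟩ := exists_mem_range_sigmaOverι V (x.left z)
        obtain ⟨t, ht, -⟩ := Scheme.Pullback.exists_preimage_pullback (f := x.left)
          (g := (sigmaOverι V j).left) z v hv.symm
        exact ⟨j, t, ht⟩
      have hπ : π j ≫ x = r j ≫ sigmaOverι V j := Over.OverMorphism.ext pullback.condition
      have hl' : ((yon S).map (r j) ≫ l j) ≫ g (i j) = (yon S).map (π j ≫ x ≫ c) ≫ k := by
        rw [Category.assoc, hl, ← Functor.map_comp_assoc, ← Category.assoc, ← hπ, Category.assoc]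
      rw [← Functor.map_comp_assoc, ← Functor.map_comp_assoc, hag _ _ (i j) _ hl' _ (Category.assoc _ _ _),
        hag _ _ (i j) _ hl' _ (by rw [Category.assoc, hxy])]
    haveI := hZ
    haveI := hV
    haveI := hcf
    haveI := hcs
    obtain ⟨d, hd⟩ := exists_desc hB c b₀ hcompat
    refine ⟨d, fun W w i₀ l₀ hl₀ => ?_⟩
    let W' : Over S := Over.mk (pullback.fst w.left c.left ≫ W.hom)
    let π : W' ⟶ W := Over.homMk (pullback.fst w.left c.left)
    let x : W' ⟶ sigmaOver V := Over.homMk (pullback.snd w.left c.left) (by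
      show _ = pullback.fst w.left c.left ≫ W.hom
      rw [← Over.w c, ← Over.w w, pullback.condition_assoc])
    have hπx : x ≫ c = π ≫ w := Over.OverMorphism.ext pullback.condition.symm
    refine eq_of_fpqc hB π (MorphismProperty.pullback_fst (P := Et18.FPQC.{u}) _ _ (fpqc_of_affine c.left)) _ _ ?_
    rw [← Functor.map_comp_assoc, ← hπx, Functor.map_comp, Category.assoc, hd, ← Category.assoc ((yon S).map π)]
    exact hag W' (π ≫ w) i₀ _ (by rw [Category.assoc, hl₀, Functor.map_comp, Category.assoc]) x hπx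
  -- glue along a chart
  obtain ⟨κ, V, hV, q, p, hpe, hps, -⟩ := exists_etale_surjective_sigma_affine hT
  haveI := isLocallySurjective_of_etale hpe hps
  haveI : Epi p := Sheaf.epi_of_isLocallySurjective p
  haveI : IsRegularEpi p := IsRegularEpiCategory.regularEpiOfEpi p
  let Vo : κ → Over S := fun i => Over.mk (Sigma.ι V i ≫ q)
  let ιo : ∀ i, Vo i ⟶ Over.mk q := fun i => Over.homMk (Sigma.ι V i)
  choose d hd using fun i : κ => haff (Vo i) (hV i) ((yon S).map (ιo i) ≫ p)
  haveI h1 : ∀ i, Flat (ιo i).left := fun i => (inferInstance : Flat (Sigma.ι V i))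
  haveI h2 : ∀ i, LocallyOfFinitePresentation (ιo i).left := fun i =>
    (inferInstance : LocallyOfFinitePresentation (Sigma.ι V i))
  have hιc : ∀ z : ↥(Over.mk q).left, ∃ i, z ∈ Set.range (ιo i).left := fun z => (sigmaOpenCover V).exists_eq z
  have hd' : ∀ (Z : Over S) (i j : κ) (a : Z ⟶ Vo i) (b : Z ⟶ Vo j),
      (yon S).map a ≫ (yon S).map (ιo i) ≫ p = (yon S).map b ≫ (yon S).map (ιo j) ≫ p →
      (yon S).map a ≫ d i = (yon S).map b ≫ d j := by
    intro Z i j a b hab
    refine hom_ext_of_affineOpens _ _ _ fun A k hA => ext_affine hB hg hA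
      ((yon S).map (k ≫ a ≫ ιo i) ≫ p) _ _ fun W w i₀ l hl => ?_
    rw [← Functor.map_comp_assoc, ← Functor.map_comp_assoc, ← Functor.map_comp_assoc, ← Functor.map_comp_assoc,
      hd i W _ i₀ l, hd j W _ i₀ l]
    · rw [hl]; simp only [Functor.map_comp, Category.assoc, hab]
    · rw [hl]; simp only [Functor.map_comp, Category.assoc]
  obtain ⟨D, hD⟩ := yon_exists_glue ιo hιc d fun i j Z a b hab => hd' Z i j a b (by
    rw [← Functor.map_comp_assoc, ← Functor.map_comp_assoc, hab])
  have hDd : ∀ (Z : Over S) (u : Z ⟶ Over.mk q) (W : Over S) (w : W ⟶ Z) (i₀ : ι) (l : (yon S).obj W ⟶ Ti i₀),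
      l ≫ g i₀ = (yon S).map (w ≫ u) ≫ p → (yon S).map (w ≫ u) ≫ D = l ≫ bi i₀ := by
    intro Z u W w i₀ l hl
    let P : κ → Over S := fun i => Over.mk (pullback.fst (w ≫ u).left (ιo i).left ≫ W.hom)
    let π : ∀ i, P i ⟶ W := fun i => Over.homMk (pullback.fst (w ≫ u).left (ιo i).left)
    let r : ∀ i, P i ⟶ Vo i := fun i => Over.homMk (pullback.snd (w ≫ u).left (ιo i).left) (by
      show _ = pullback.fst (w ≫ u).left (ιo i).left ≫ W.hom
      rw [← Over.w (ιo i), ← Over.w (w ≫ u), pullback.condition_assoc])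
    haveI g1 : ∀ j, Flat (π j).left := fun j =>
      (inferInstance : Flat (pullback.fst (w ≫ u).left (ιo j).left))
    haveI g2 : ∀ j, LocallyOfFinitePresentation (π j).left := fun j =>
      (inferInstance : LocallyOfFinitePresentation (pullback.fst (w ≫ u).left (ιo j).left))
    refine yon_hom_ext_of_cover π (fun z => ?_) _ _ fun j => ?_
    · obtain ⟨j, v, hv⟩ := hιc ((w ≫ u).left z)
      obtain ⟨t, ht, -⟩ := Scheme.Pullback.exists_preimage_pullback (f := (w ≫ u).left) (g := (ιo j).left) z v hv.symm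
      exact ⟨j, t, ht⟩
    have hπ : π j ≫ w ≫ u = r j ≫ ιo j := Over.OverMorphism.ext pullback.condition
    rw [← Functor.map_comp_assoc, hπ, Functor.map_comp, Category.assoc, hD, ← Category.assoc]
    refine hd j _ _ i₀ _ ?_
    rw [Category.assoc, hl, ← Functor.map_comp_assoc, ← Functor.map_comp_assoc, hπ]
  let b := EffectiveEpi.desc p D fun {R} x y hxy => by
    exact hom_ext_of_yon fun Z u => by
      obtain ⟨x', hx'⟩ := (yon S).map_surjective (u ≫ x)
      obtain ⟨y', hy'⟩ := (yon S).map_surjective (u ≫ y)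
      rw [← Category.assoc, ← Category.assoc, ← hx', ← hy']
      refine hom_ext_of_affineOpens _ _ _ fun A k hA => ext_affine hB hg hA ((yon S).map (k ≫ x') ≫ p) _ _
        fun W w i₀ l hl => ?_
      rw [← Functor.map_comp_assoc, ← Functor.map_comp_assoc, ← Functor.map_comp_assoc, ← Functor.map_comp_assoc,
        Category.assoc, Category.assoc, hDd _ (k ≫ x') W w i₀ l, hDd _ (k ≫ y') W w i₀ l]
      · rw [hl]
        simp only [Functor.map_comp, Category.assoc, hx', hy', hxy]
      · rw [hl]; simp only [Functor.map_comp, Category.assoc]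
  have hb : p ≫ b = D := EffectiveEpi.fac _ _ _
  refine ⟨b, fun i => ?_⟩
  refine hom_ext_of_yon fun Z u => ?_
  obtain ⟨P, π, r, sqr⟩ := hpe.1 (u ≫ g i)
  have he : Etale π.left := hpe.property _ _ _ sqr
  have hs : Surjective π.left := hps.property _ _ _ sqr
  haveI p1 : ∀ j : PUnit.{u + 1}, Flat ((fun _ => π) j).left := fun _ => (inferInstance : Flat π.left)
  haveI p2 : ∀ j : PUnit.{u + 1}, LocallyOfFinitePresentation ((fun _ => π) j).left := fun _ =>
    (inferInstance : LocallyOfFinitePresentation π.left)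
  refine @yon_hom_ext_of_cover S _ Z (fun _ => P) (fun _ : PUnit.{u + 1} => π) p1 p2
    (fun z => ⟨⟨⟩, π.left.surjective z⟩) B _ _ fun _ => ?_
  obtain ⟨r', rfl⟩ := (yon S).map_surjective r
  have e1 : ((yon S).map π ≫ u) ≫ g i = (yon S).map r' ≫ p := by rw [Category.assoc]; exact sqr.w.symm
  have e2 := hDd _ r' P (𝟙 P) i ((yon S).map π ≫ u) (by rw [Category.id_comp]; exact e1)
  rw [Category.id_comp] at e2
  calc (yon S).map π ≫ u ≫ g i ≫ b = ((yon S).map π ≫ u) ≫ g i ≫ b := (Category.assoc _ _ _).symm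
    _ = (((yon S).map π ≫ u) ≫ g i) ≫ b := (Category.assoc _ _ _).symm
    _ = ((yon S).map r' ≫ p) ≫ b := by rw [e1]
    _ = (yon S).map π ≫ u ≫ bi i := by rw [Category.assoc, hb, e2, Category.assoc]

end Groth.Agent.AlgSpLib.GabberSheaf
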