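import Groth.Agent.AlgSpLib.FerrandAffine
import Groth.Agent.AlgSpLib.GabberSheaf
import Groth.Agent.AlgSpLib.EtSmPostcomp
import Groth.Prelude.Def_AlgSpInf
import Groth.Agent.AlgSpLib.Diag
import Groth.Agent.FlatMorPush.Sections

/-!
# Ferrand pushouts of schemes are pushouts of algebraic spaces
-/

set_option autoImplicit false
set_option backward.isDefEq.respectTransparency false
set_option backward.isDefEq.respectTransparency.types false
set_option linter.style.haveILetI false

universe u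

open CategoryTheory CategoryTheory.Limits AlgebraicGeometry
open AlgSp
open Groth.Agent.FlatMorPush (HasPairs Pair SubPair SqChart Over')

noncomputable section

namespace Groth.Agent.AlgSpLib.FerrandSpace

/-- cartesian étale separated surjective data over the two legs glue to a flat morphism over the pushout -/
def Liftable {Z X Y P : Scheme.{u}} (i : Z ⟶ X) (j : Z ⟶ Y) (a : X ⟶ P) (b : Y ⟶ P) : Prop :=
  ∀ ⦃X' Y' Z' : Scheme.{u}⦄ (f : X' ⟶ X) (g : Y' ⟶ Y) (h : Z' ⟶ Z) (i' : Z' ⟶ X') (j' : Z' ⟶ Y'),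
    IsPullback h i' i f → IsPullback h j' j g → Etale f → IsSeparated f → Etale g → IsSeparated g →
    ∃ (P' : Scheme.{u}) (k : P' ⟶ P) (a' : X' ⟶ P') (b' : Y' ⟶ P'),
      IsPushout i' j' a' b' ∧ IsPullback f a' a k ∧ IsPullback g b' b k ∧ Flat k

section sch

variable {X Y Z P : Scheme.{u}} {i : Z ⟶ X} {j : Z ⟶ Y} [IsClosedImmersion i] [IsAffineHom j]
  [HasPairs i j] {a : X ⟶ P} {b : Y ⟶ P}

/-- transporting the gluing from the standard pushout -/
theorem liftable_of_cover (hP : IsPushout i j a b)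
    (H : ∀ ⦃X' Y' Z' : Scheme.{u}⦄ (f : X' ⟶ X) (g : Y' ⟶ Y) (h : Z' ⟶ Z) (i' : Z' ⟶ X') (j' : Z' ⟶ Y'),
      IsPullback h i' i f → IsPullback h j' j g → Etale f → IsSeparated f → Etale g → IsSeparated g →
      ∀ [IsClosedImmersion i'] [IsAffineHom j'],
      ∃ _ : HasPairs i' j', ∀ w : FlatMorPush.Po i' j', ∃ p : SubPair f g i j i' j',
        w ∈ Set.range (FlatMorPush.ι p.1.1)) :
    Liftable i j a b := by
  intro X' Y' Z' f g h i' j' hX hY hf hfs hg hgs
  have : IsClosedImmersion i' := MorphismProperty.of_isPullback hX ‹IsClosedImmersion i›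
  have : IsAffineHom j' := MorphismProperty.of_isPullback hY ‹IsAffineHom j›
  obtain ⟨hp, hcov⟩ := H f g h i' j' hX hY hf hfs hg hgs
  let e := (FlatMorPush.isPushout i j).isoIsPushout _ _ hP
  have ha : FlatMorPush.inl i j ≫ e.hom = a := (FlatMorPush.isPushout i j).inl_isoIsPushout_hom _ _ hP
  have hb : FlatMorPush.inr i j ≫ e.hom = b := (FlatMorPush.isPushout i j).inr_isoIsPushout_hom _ _ hP
  have hflat := FerrandAffine.flat_poMap hX hY hcov
  refine ⟨FlatMorPush.Po i' j', FerrandAffine.poMap hX hY ≫ e.hom, FlatMorPush.inl i' j',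
    FlatMorPush.inr i' j', FlatMorPush.isPushout i' j', ?_, ?_, inferInstance⟩
  · exact (FerrandAffine.isPullback_inl_poMap hX hY hcov).of_iso (Iso.refl _) (Iso.refl _) (Iso.refl _) e
      (by simp) (by simp) (by simpa using ha) (by simp)
  · exact (FerrandAffine.isPullback_inr_poMap hX hY hcov).of_iso (Iso.refl _) (Iso.refl _) (Iso.refl _) e
      (by simp) (by simp) (by simpa using hb) (by simp)

/-- integral morphisms with fibres in affine opens -/
theorem liftable_of_integral [IsIntegralHom j] (hP : IsPushout i j a b) : Liftable i j a b :=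
  liftable_of_cover hP fun X' Y' Z' f g h i' j' hX hY _ _ _ _ _ _ => by
    have := locallyQuasiFinite_of_etale f
    have : IsIntegralHom j' := MorphismProperty.of_isPullback hY ‹IsIntegralHom j›
    have hp := FlatMorPush.hasPairs' (i := i) (j := j) (i' := i') (j' := j') (f := f) (g := g) hX.w hY.w
    exact ⟨hp, fun w => FlatMorPush.exists_subPair hX hY w⟩

/-- thickenings -/
theorem liftable_of_thickening (hi : Function.Surjective i) (hP : IsPushout i j a b) :
    Liftable i j a b :=
  liftable_of_cover hP fun X' Y' Z' f g h i' j' hX hY _ _ _ _ _ _ => by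
    have hsi : Surjective i := ⟨hi⟩
    have hsi' : Surjective i' := MorphismProperty.of_isPullback hX hsi
    have hp := FlatMorPush.hasPairs_of_thickening i' j' hsi'.surj
    refine ⟨hp, fun w => ?_⟩
    obtain ⟨y', rfl⟩ := FlatMorPush.surjective_inr i' j' hsi'.surj w
    obtain ⟨k, hk⟩ := HasPairs.cover (i := i) (j := j) (g y')
    obtain ⟨V, hV, hy, hVle⟩ := exists_isAffineOpen_mem_and_subset (x := y') (U := g ⁻¹ᵁ k.V) hk
    obtain ⟨O, hO, hOV⟩ := i'.isClosedEmbedding.isInducing.isOpen_iff.mp (j' ⁻¹ᵁ V).isOpen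
    let U : X'.Opens := ⟨O, hO⟩
    have he : i' ⁻¹ᵁ U = j' ⁻¹ᵁ V := TopologicalSpace.Opens.ext hOV
    have : IsAffine (i' ⁻¹ᵁ U).toScheme := show IsAffineOpen _ from he ▸ hV.preimage j'
    have hU : IsAffineOpen U :=
      VarietyLib.isAffine_of_surjective_closedImmersion (i' ∣_ U) fun x => by
        obtain ⟨z, hz⟩ := hsi'.surj x.1
        exact ⟨⟨z, show i' z ∈ U from hz ▸ x.2⟩, Subtype.ext (by simp [hz])⟩
    refine ⟨⟨(⟨U, V, hU, hV, he⟩, k), ?_, hVle⟩, FlatMorPush.inr_mem_range_ι.mpr hy⟩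
    intro x hx
    obtain ⟨z, rfl⟩ := hsi'.surj x
    have h2 : j' z ∈ V := show z ∈ j' ⁻¹ᵁ V from he ▸ hx
    have h3 : g (j' z) ∈ k.V := hVle h2
    show f (i' z) ∈ k.U
    rw [← Scheme.Hom.comp_apply, ← hX.w]
    show h z ∈ i ⁻¹ᵁ k.U
    rw [k.eq]
    show (h ≫ j) z ∈ k.V
    rw [hY.w]
    exact h3

/-- a point of a pushout comes from one of the legs -/
theorem exists_preimage (hP : IsPushout i j a b) (p : P) : (∃ x, a x = p) ∨ ∃ y, b y = p := by
  obtain ⟨c, ⟨w, rfl⟩, -⟩ := FlatMorPush.exists_chart hP p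
  rcases c.S.exists_point w with ⟨y, rfl⟩ | ⟨-, -, -, x, rfl⟩
  · exact Or.inr ⟨c.uY y, by rw [← Scheme.Hom.comp_apply, ← c.hY.w]; rfl⟩
  · exact Or.inl ⟨c.uX x, by rw [← Scheme.Hom.comp_apply, ← c.hX.w]; rfl⟩

theorem preimage_image {X' P' : Scheme.{u}} {f : X' ⟶ X} {a' : X' ⟶ P'} {k : P' ⟶ P}
    (h : IsPullback f a' a k) (O : Set P') : a ⁻¹' (k '' O) = f '' (a' ⁻¹' O) := by
  ext x
  constructor
  · rintro ⟨o, ho, hox⟩
    obtain ⟨t, ht1, ht2⟩ := Scheme.Pullback.exists_preimage_pullback (f := a) (g := k) x o hox.symm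
    refine ⟨h.isoPullback.inv t, ?_, ?_⟩
    · show a' (h.isoPullback.inv t) ∈ O
      rw [← Scheme.Hom.comp_apply, h.isoPullback_inv_snd, ht2]; exact ho
    · rw [← Scheme.Hom.comp_apply, h.isoPullback_inv_fst, ht1]
  · rintro ⟨x', hx', rfl⟩
    refine ⟨a' x', hx', ?_⟩
    rw [← Scheme.Hom.comp_apply, ← h.w]
    rfl

/-- the glued morphism is surjective and open -/
theorem surjective_and_isOpenMap {X' Y' P' : Scheme.{u}} {f : X' ⟶ X} {g : Y' ⟶ Y} {a' : X' ⟶ P'}
    {b' : Y' ⟶ P'} {k : P' ⟶ P} (hP : IsPushout i j a b) (ha : IsPullback f a' a k)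
    (hb : IsPullback g b' b k) (hfs : Surjective f) (hgs : Surjective g) (hf : IsOpenMap f)
    (hg : IsOpenMap g) : Surjective k ∧ IsOpenMap k := by
  refine ⟨⟨fun p => ?_⟩, fun O hO => FlatMorPush.isOpen_of_preimages hP _ ?_ ?_⟩
  · rcases exists_preimage hP p with ⟨x, rfl⟩ | ⟨y, rfl⟩
    · obtain ⟨x', rfl⟩ := hfs.surj x
      exact ⟨a' x', by rw [← Scheme.Hom.comp_apply, ← ha.w]; rfl⟩
    · obtain ⟨y', rfl⟩ := hgs.surj y
      exact ⟨b' y', by rw [← Scheme.Hom.comp_apply, ← hb.w]; rfl⟩
  · rw [preimage_image ha]; exact hf _ (hO.preimage a'.continuous)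
  · rw [preimage_image hb]; exact hg _ (hO.preimage b'.continuous)

end sch

variable {S : Scheme.{u}}

theorem isFpqcCover_yon {P' P : Over S} (k : P' ⟶ P) [Flat k.left] [Surjective k.left]
    (hk : IsOpenMap k.left) :
    IsFpqcCover (fun _ : PUnit.{u + 1} => (yon S).obj P') (fun _ => (yon S).map k) := by
  refine ⟨fun _ => locP_of_repWith etLocal_flat (IsAlgSpace.yon_obj P')
    ((repWith_yon_map_iff (P := @Flat) k).2 inferInstance), fun Z hZ h => ?_⟩
  obtain ⟨h, rfl⟩ := (yon S).map_surjective h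
  haveI := hZ
  have key : ∀ z : Z.left, ∃ (W : Over S) (c : W ⟶ Z) (l : W ⟶ P'), IsAffine W.left ∧ Flat c.left ∧
      l ≫ k = c ≫ h ∧ z ∈ Set.range c.left ∧ IsOpen (Set.range c.left) := by
    intro z
    obtain ⟨Q, hQ, hzQ, -⟩ := exists_isAffineOpen_mem_and_subset (x := h.left z) (U := ⊤) trivial
    obtain ⟨p', hp'⟩ := (‹Surjective k.left›).surj (h.left z)
    obtain ⟨O, hO, hpO, hOQ⟩ := exists_isAffineOpen_mem_and_subset (x := p') (U := k.left ⁻¹ᵁ Q)
      (show k.left p' ∈ Q from hp'.symm ▸ hzQ)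
    let img : P.left.Opens := ⟨k.left '' (O : Set P'.left), hk _ O.isOpen⟩
    obtain ⟨D, hD, hzD, hDle⟩ := exists_isAffineOpen_mem_and_subset (x := z) (U := h.left ⁻¹ᵁ img)
      (show h.left z ∈ k.left '' (O : Set P'.left) from ⟨p', hpO, hp'⟩)
    have hDQ : D ≤ h.left ⁻¹ᵁ Q := hDle.trans fun x hx => by
      obtain ⟨o, ho, hox⟩ := (hx : h.left x ∈ k.left '' (O : Set P'.left))
      show h.left x ∈ Q
      exact hox ▸ hOQ ho
    let l₁ : (D : Scheme.{u}) ⟶ Q := IsOpenImmersion.lift Q.ι (D.ι ≫ h.left) (by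
      rw [Scheme.Opens.range_ι]; rintro _ ⟨x, rfl⟩; exact hDQ x.2)
    let l₂ : (O : Scheme.{u}) ⟶ Q := IsOpenImmersion.lift Q.ι (O.ι ≫ k.left) (by
      rw [Scheme.Opens.range_ι]; rintro _ ⟨x, rfl⟩; exact hOQ x.2)
    have e₁ : l₁ ≫ Q.ι = D.ι ≫ h.left := IsOpenImmersion.lift_fac _ _ _
    have e₂ : l₂ ≫ Q.ι = O.ι ≫ k.left := IsOpenImmersion.lift_fac _ _ _
    haveI : IsAffine (Q : Scheme.{u}) := hQ
    haveI : IsAffine (D : Scheme.{u}) := hD
    haveI : IsAffine (O : Scheme.{u}) := hO
    haveI : Flat (l₂ ≫ Q.ι) := by rw [e₂]; infer_instance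
    haveI : Flat l₂ := MorphismProperty.of_isPullback
      (IsPullback.of_vert_isIso_mono (show CommSq l₂ (𝟙 _) Q.ι (l₂ ≫ Q.ι) from ⟨by simp⟩)).flip
      (‹Flat (l₂ ≫ Q.ι)›)
    have hc : (pullback.snd l₁ l₂ ≫ O.ι) ≫ k.left = (pullback.fst l₁ l₂ ≫ D.ι) ≫ h.left := by
      rw [Category.assoc, ← e₂, Category.assoc, ← e₁, pullback.condition_assoc]
    refine ⟨Over.mk ((pullback.fst l₁ l₂ ≫ D.ι) ≫ Z.hom),
      Over.homMk (pullback.fst l₁ l₂ ≫ D.ι) rfl,
      Over.homMk (pullback.snd l₁ l₂ ≫ O.ι) (by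
        show _ = (pullback.fst l₁ l₂ ≫ D.ι) ≫ Z.hom
        rw [← Over.w h, ← Category.assoc, ← hc, Category.assoc _ k.left, Over.w k]),
      inferInstanceAs (IsAffine (pullback l₁ l₂)),
      (inferInstance : Flat (pullback.fst l₁ l₂ ≫ D.ι)), Over.OverMorphism.ext hc, ?_⟩
    have hrange : Set.range (pullback.fst l₁ l₂ ≫ D.ι) = (D : Set Z.left) := by
      apply Set.eq_of_subset_of_subset
      · rintro _ ⟨t, rfl⟩
        exact (pullback.fst l₁ l₂ t).2
      · intro x hx
        obtain ⟨o, ho, hox⟩ := (hDle hx : h.left x ∈ k.left '' (O : Set P'.left))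
        have : l₁ ⟨x, hx⟩ = l₂ ⟨o, ho⟩ := by
          apply Q.ι.isOpenEmbedding.injective
          rw [← Scheme.Hom.comp_apply, ← Scheme.Hom.comp_apply, e₁, e₂]
          exact hox.symm
        obtain ⟨t, ht, -⟩ := Scheme.Pullback.exists_preimage_pullback (f := l₁) (g := l₂) ⟨x, hx⟩ ⟨o, ho⟩ this
        exact ⟨t, by rw [Scheme.Hom.comp_apply, ht]; rfl⟩
    exact ⟨show z ∈ Set.range (pullback.fst l₁ l₂ ≫ D.ι) from hrange.symm ▸ hzD,
      show IsOpen (Set.range (pullback.fst l₁ l₂ ≫ D.ι)) from hrange.symm ▸ D.isOpen⟩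
  choose W c l hW hcf hlk hmem hopen using key
  obtain ⟨t, ht⟩ := (isCompact_univ (X := Z.left)).elim_finite_subcover
    (fun z => Set.range (c z).left) hopen fun z _ => Set.mem_iUnion.mpr ⟨z, hmem z⟩
  let en := t.equivFin.symm
  refine ⟨t.card, fun n => W (en n).1, fun n => c (en n).1, fun n => hW _, fun n => hcf _, fun z => ?_,
    fun n => ⟨PUnit.unit, (yon S).map (l (en n).1), ?_⟩⟩
  · obtain ⟨z₀, hz₀, hz⟩ := Set.mem_iUnion₂.mp (ht (Set.mem_univ z))
    refine ⟨t.equivFin ⟨z₀, hz₀⟩, ?_⟩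
    have h : (en (t.equivFin ⟨z₀, hz₀⟩)).1 = z₀ := by simp [en]
    exact (congrArg (fun w => Set.range (c w).left) h).symm ▸ hz
  · rw [← Functor.map_comp, ← Functor.map_comp, hlk]

section space

variable {Z X Y P : Over S} (i : Z ⟶ X) (j : Z ⟶ Y) (a : X ⟶ P) (b : Y ⟶ P)

/-- uniqueness: a scheme pushout detects morphisms into algebraic spaces -/
theorem hom_ext_pushout {B : Sp S} (hB : IsAlgSpace B) (hpo : IsPushout i.left j.left a.left b.left)
    (t t' : (yon S).obj P ⟶ B) (ha : (yon S).map a ≫ t = (yon S).map a ≫ t')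
    (hb : (yon S).map b ≫ t = (yon S).map b ≫ t') : t = t' := by
  obtain ⟨E, e, κ, sq⟩ := hB.diag (prod.lift t t')
  have hκ : ∀ {W : Over S} (u v : W ⟶ E), u ≫ e = v ≫ e → u = v := by
    intro W u v huv
    refine (yon S).map_injective (sq.hom_ext ?_ ?_)
    · have h1 := congrArg ((yon S).map u ≫ ·) sq.w
      have h2 := congrArg ((yon S).map v ≫ ·) sq.w
      simp only [← Category.assoc] at h1 h2
      rw [← Functor.map_comp, huv] at h1
      rw [← Functor.map_comp] at h2
      have := congrArg (· ≫ prod.fst) (h1.trans h2.symm)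
      simpa using this
    · rw [← Functor.map_comp, ← Functor.map_comp, huv]
  haveI : Mono e.left := ⟨fun {W} u v huv => by
    let W' : Over S := Over.mk (u ≫ E.hom)
    have hv : v ≫ E.hom = u ≫ E.hom := by rw [← Over.w e, reassoc_of% huv]
    exact congrArg CommaMorphism.left
      (hκ (Over.homMk u : W' ⟶ E) (Over.homMk v hv : W' ⟶ E) (Over.OverMorphism.ext huv))⟩
  have lift : ∀ {T : Over S} (c : T ⟶ P), (yon S).map c ≫ t = (yon S).map c ≫ t' →
      ∃ s : T ⟶ E, s ≫ e = c := fun {T} c hc => by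
    obtain ⟨s, hs⟩ := (yon S).map_surjective (sq.lift ((yon S).map c ≫ t) ((yon S).map c) (by
      apply prod.hom_ext <;> simp [hc]))
    exact ⟨s, (yon S).map_injective (by rw [Functor.map_comp, hs, sq.lift_snd])⟩
  obtain ⟨sa, hsa⟩ := lift a ha
  obtain ⟨sb, hsb⟩ := lift b hb
  have hsa' : sa.left ≫ e.left = a.left := by rw [← Over.comp_left, hsa]
  have hsb' : sb.left ≫ e.left = b.left := by rw [← Over.comp_left, hsb]
  let s := hpo.desc sa.left sb.left (by rw [← cancel_mono e.left, Category.assoc, Category.assoc, hsa', hsb', hpo.w])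
  have hs : s ≫ e.left = 𝟙 P.left := hpo.hom_ext (by simp [s, hsa']) (by simp [s, hsb'])
  haveI : IsSplitEpi e.left := IsSplitEpi.mk' ⟨s, hs⟩
  haveI : IsIso e.left := isIso_of_mono_of_isSplitEpi _
  haveI : IsIso ((Over.forget S).map e) := ‹IsIso e.left›
  haveI : IsIso e := isIso_of_reflects_iso e (Over.forget S)
  have h3 : (yon S).map e ≫ t = κ := by simpa using (congrArg (· ≫ prod.fst) sq.w).symm
  have h4 : (yon S).map e ≫ t' = κ := by simpa using (congrArg (· ≫ prod.snd) sq.w).symm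
  rw [← cancel_epi ((yon S).map e), h3, h4]

variable [IsClosedImmersion i.left] [IsAffineHom j.left] [HasPairs i.left j.left]

/-- existence -/
theorem exists_desc_pushout {B : Sp S} (hB : IsAlgSpace B) (hpo : IsPushout i.left j.left a.left b.left)
    (hlift : Liftable i.left j.left a.left b.left) (u : (yon S).obj X ⟶ B) (v : (yon S).obj Y ⟶ B)
    (huv : (yon S).map i ≫ u = (yon S).map j ≫ v) :
    ∃ t : (yon S).obj P ⟶ B, (yon S).map a ≫ t = u ∧ (yon S).map b ≫ t = v := by
  obtain ⟨κ, Vs, hVs, q, p, hpe, hps, -⟩ := exists_etale_surjective_sigma_affine hB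
  let W : Over S := Over.mk q
  haveI hWsep : W.left.IsSeparated := ⟨by
    show IsSeparated (terminal.from (∐ Vs))
    rw [show terminal.from (∐ Vs) = Sigma.desc (fun k => terminal.from (Vs k)) from terminal.hom_ext _ _]
    exact Desc19b.HensSp.isSeparated_sigmaDesc _ fun k => by have := hVs k; infer_instance⟩
  have hsepf : ∀ {V T : Over S} {g : V ⟶ T} {uV : V ⟶ W} {t : (yon S).obj T ⟶ B},
      IsPullback ((yon S).map uV) ((yon S).map g) p t → IsSeparated g.left := by
    intro V T g uV t sq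
    let m : V.left ⟶ pullback (terminal.from W.left) (terminal.from T.left) :=
      pullback.lift uV.left g.left (terminal.hom_ext _ _)
    haveI : Mono m := ⟨fun {R} x y hxy => by
      have h1 : x ≫ uV.left = y ≫ uV.left := by simpa [m] using congrArg (· ≫ pullback.fst _ _) hxy
      have h2 : x ≫ g.left = y ≫ g.left := by simpa [m] using congrArg (· ≫ pullback.snd _ _) hxy
      have hy : y ≫ V.hom = x ≫ V.hom := by rw [← Over.w g, reassoc_of% h2]
      let R' : Over S := Over.mk (x ≫ V.hom)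
      refine congrArg CommaMorphism.left ((yon S).map_injective (sq.hom_ext
        (k := (yon S).map (Over.homMk x : R' ⟶ V)) (l := (yon S).map (Over.homMk y hy : R' ⟶ V)) ?_ ?_))
      · rw [← Functor.map_comp, ← Functor.map_comp]
        exact congrArg _ (Over.OverMorphism.ext h1)
      · rw [← Functor.map_comp, ← Functor.map_comp]
        exact congrArg _ (Over.OverMorphism.ext h2)⟩
    rw [show g.left = m ≫ pullback.snd _ _ from (pullback.lift_snd _ _ _).symm]
    infer_instance
  obtain ⟨X', f, fW, sqX⟩ := hpe.1 u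
  obtain ⟨uX, rfl⟩ := (yon S).map_surjective fW
  obtain ⟨Y', g, gW, sqY⟩ := hpe.1 v
  obtain ⟨uY, rfl⟩ := (yon S).map_surjective gW
  haveI : Etale f.left := hpe.property _ _ _ sqX
  haveI : Etale g.left := hpe.property _ _ _ sqY
  haveI hfs : Surjective f.left := hps.property _ _ _ sqX
  haveI hgs : Surjective g.left := hps.property _ _ _ sqY
  haveI : IsSeparated f.left := hsepf sqX
  haveI : IsSeparated g.left := hsepf sqY
  -- the common pullback
  let Z' : Over S := Over.mk (pullback.fst i.left f.left ≫ Z.hom)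
  let hh : Z' ⟶ Z := Over.homMk (pullback.fst i.left f.left)
  let i' : Z' ⟶ X' := Over.homMk (pullback.snd i.left f.left) (by
    show _ = pullback.fst i.left f.left ≫ Z.hom
    rw [← Over.w i, ← Over.w f, pullback.condition_assoc])
  have hXl : IsPullback hh.left i'.left i.left f.left := IsPullback.of_hasPullback i.left f.left
  have hX : IsPullback hh i' i f := IsPullback.of_map (Over.forget S) (Over.OverMorphism.ext hXl.w) hXl
  have sqXi : IsPullback ((yon S).map (i' ≫ uX)) ((yon S).map hh) p ((yon S).map i ≫ u) := by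
    rw [Functor.map_comp]
    exact (hX.flip.map (yon S)).paste_horiz sqX
  rw [huv] at sqXi
  obtain ⟨j', hj'⟩ := (yon S).map_surjective (sqY.lift ((yon S).map (i' ≫ uX)) ((yon S).map (hh ≫ j)) (by
    rw [sqXi.w, Functor.map_comp, Category.assoc]))
  have hj'g : j' ≫ g = hh ≫ j := (yon S).map_injective (by rw [Functor.map_comp, hj', sqY.lift_snd])
  have hj'W : j' ≫ uY = i' ≫ uX := (yon S).map_injective (by rw [Functor.map_comp, hj', sqY.lift_fst])
  have hY : IsPullback j' hh g j := by
    refine IsPullback.of_map (yon S) hj'g (IsPullback.of_right ?_ (by rw [← Functor.map_comp, ← Functor.map_comp, hj'g]) sqY)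
    rw [← Functor.map_comp, hj'W]
    exact sqXi
  haveI : PreservesLimitsOfShape WalkingCospan (Over.forget S) := inferInstance
  have hYl : IsPullback hh.left j'.left j.left g.left := (hY.map (Over.forget S)).flip
  obtain ⟨P'₀, k₀, a₀, b₀, hP', ha', hb', hkf⟩ :=
    hlift f.left g.left hh.left i'.left j'.left hXl hYl inferInstance inferInstance inferInstance inferInstance
  obtain ⟨hks, hko⟩ := surjective_and_isOpenMap hpo ha' hb' hfs hgs f.left.isOpenMap g.left.isOpenMap
  let P' : Over S := Over.mk (k₀ ≫ P.hom)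
  let k : P' ⟶ P := Over.homMk k₀
  haveI : Flat k.left := hkf
  haveI : Surjective k.left := hks
  let a' : X' ⟶ P' := Over.homMk a₀ (by
    show a₀ ≫ k₀ ≫ P.hom = _
    rw [← Category.assoc, ← ha'.w, Category.assoc, Over.w a, Over.w f])
  let b' : Y' ⟶ P' := Over.homMk b₀ (by
    show b₀ ≫ k₀ ≫ P.hom = _
    rw [← Category.assoc, ← hb'.w, Category.assoc, Over.w b, Over.w g])
  let m₀ := hP'.desc uX.left uY.left (by rw [← Over.comp_left, ← Over.comp_left, hj'W])
  let m : P' ⟶ W := Over.homMk m₀ (hP'.hom_ext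
    (by show a₀ ≫ m₀ ≫ W.hom = a₀ ≫ k₀ ≫ P.hom; rw [hP'.inl_desc_assoc, Over.w uX]; exact (Over.w a').symm)
    (by show b₀ ≫ m₀ ≫ W.hom = b₀ ≫ k₀ ≫ P.hom; rw [hP'.inr_desc_assoc, Over.w uY]; exact (Over.w b').symm))
  let d := (yon S).map m ≫ p
  have had : (yon S).map a' ≫ d = (yon S).map f ≫ u := by
    rw [← Category.assoc, ← Functor.map_comp, show a' ≫ m = uX from Over.OverMorphism.ext (hP'.inl_desc _ _ _), sqX.w]
  have hbd : (yon S).map b' ≫ d = (yon S).map g ≫ v := by
    rw [← Category.assoc, ← Functor.map_comp, show b' ≫ m = uY from Over.OverMorphism.ext (hP'.inr_desc _ _ _), sqY.w]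
  have hak : IsPullback f a' a k := IsPullback.of_map (Over.forget S) (Over.OverMorphism.ext ha'.w) ha'
  have hbk : IsPullback g b' b k := IsPullback.of_map (Over.forget S) (Over.OverMorphism.ext hb'.w) hb'
  -- the cocycle condition on `P' ×_P P'`
  let k₂ := pullback.fst k k ≫ k
  haveI : PreservesLimit (cospan k k) (Over.forget S) := inferInstance
  have hPP : IsPullback (pullback.fst k k).left (pullback.snd k k).left k₀ k₀ :=
    (IsPullback.of_hasPullback k k).map (Over.forget S)
  haveI : Flat (pullback.fst k k).left := MorphismProperty.of_isPullback hPP.flip hkf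
  haveI : Flat k₂.left := by rw [Over.comp_left]; infer_instance
  have hpo'' : IsPushout (pullback.map (i.left ≫ a.left) k₂.left a.left k₂.left i.left (𝟙 _) (𝟙 _) (by simp) (by simp))
      (pullback.map (i.left ≫ a.left) k₂.left b.left k₂.left j.left (𝟙 _) (𝟙 _) (by simp [hpo.w]) (by simp))
      (pullback.snd a.left k₂.left) (pullback.snd b.left k₂.left) := by
    refine FlatMorPush.isPushout_baseChange (i := i.left) (j := j.left) (a := a.left) (b := b.left)
      (hP := (IsPullback.of_vert_isIso ⟨by simp⟩ : IsPullback k₂.left (𝟙 _) (𝟙 P.left) k₂.left))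
      (pX := pullback.fst a.left k₂.left) (pY := pullback.fst b.left k₂.left)
      (pZ := pullback.fst (i.left ≫ a.left) k₂.left)
      (fun z => ?_) (IsPullback.of_hasPullback _ _) (IsPullback.of_hasPullback _ _) ?_ (by simp) (by simp)
    · obtain ⟨c, hc, -⟩ := FlatMorPush.exists_chart hpo z
      exact ⟨c, hc, Or.inl inferInstance⟩
    · refine IsPullback.of_bot ?_ (pullback.lift_fst _ _ _).symm (IsPullback.of_hasPullback a.left k₂.left)
      simpa using IsPullback.of_hasPullback (i.left ≫ a.left) k₂.left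
  have hcocycle : (yon S).map (pullback.fst k k) ≫ d = (yon S).map (pullback.snd k k) ≫ d := by
    let XX : Over S := Over.mk (pullback.fst a.left k₂.left ≫ X.hom)
    let YY : Over S := Over.mk (pullback.fst b.left k₂.left ≫ Y.hom)
    let ZZ : Over S := Over.mk (pullback.fst (i.left ≫ a.left) k₂.left ≫ Z.hom)
    let aa : XX ⟶ pullback k k := Over.homMk (pullback.snd a.left k₂.left) (by
      show _ = pullback.fst a.left k₂.left ≫ X.hom
      rw [← Over.w a, pullback.condition_assoc, Over.w k₂])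
    let bb : YY ⟶ pullback k k := Over.homMk (pullback.snd b.left k₂.left) (by
      show _ = pullback.fst b.left k₂.left ≫ Y.hom
      rw [← Over.w b, pullback.condition_assoc, Over.w k₂])
    let ii : ZZ ⟶ XX := Over.homMk
      (pullback.map (i.left ≫ a.left) k₂.left a.left k₂.left i.left (𝟙 _) (𝟙 _) (by simp) (by simp)) (by
      show _ ≫ pullback.fst a.left k₂.left ≫ X.hom = pullback.fst (i.left ≫ a.left) k₂.left ≫ Z.hom
      rw [pullback.lift_fst_assoc, Category.assoc, Over.w i])
    let jj : ZZ ⟶ YY := Over.homMk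
      (pullback.map (i.left ≫ a.left) k₂.left b.left k₂.left j.left (𝟙 _) (𝟙 _) (by simp [hpo.w]) (by simp)) (by
      show _ ≫ pullback.fst b.left k₂.left ≫ Y.hom = pullback.fst (i.left ≫ a.left) k₂.left ≫ Z.hom
      rw [pullback.lift_fst_assoc, Category.assoc, Over.w j])
    refine hom_ext_pushout ii jj aa bb hB hpo'' _ _ ?_ ?_
    · let px : XX ⟶ X := Over.homMk (pullback.fst a.left k₂.left)
      have key : ∀ (π : pullback k k ⟶ P'), π ≫ k = k₂ →
          (yon S).map aa ≫ (yon S).map π ≫ d = (yon S).map px ≫ u := by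
        intro π hπ
        have hw : px ≫ a = (aa ≫ π) ≫ k := by
          rw [Category.assoc, hπ]; exact Over.OverMorphism.ext pullback.condition
        rw [← Category.assoc, ← Functor.map_comp, ← hak.lift_snd px (aa ≫ π) hw, Functor.map_comp, Category.assoc, had,
          ← Category.assoc, ← Functor.map_comp, hak.lift_fst]
      rw [key _ rfl, key _ pullback.condition.symm]
    · let py : YY ⟶ Y := Over.homMk (pullback.fst b.left k₂.left)
      have key : ∀ (π : pullback k k ⟶ P'), π ≫ k = k₂ →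
          (yon S).map bb ≫ (yon S).map π ≫ d = (yon S).map py ≫ v := by
        intro π hπ
        have hw : py ≫ b = (bb ≫ π) ≫ k := by
          rw [Category.assoc, hπ]; exact Over.OverMorphism.ext pullback.condition
        rw [← Category.assoc, ← Functor.map_comp, ← hbk.lift_snd py (bb ≫ π) hw, Functor.map_comp, Category.assoc, hbd,
          ← Category.assoc, ← Functor.map_comp, hbk.lift_fst]
      rw [key _ rfl, key _ pullback.condition.symm]
  have hc := isFpqcCover_yon k (show IsOpenMap k.left from hko)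
  obtain ⟨t, ht⟩ := GabberSheaf.exists_glue_of_cover (IsAlgSpace.yon_obj P) hB hc (fun _ => d) (fun _ _ => by
    have hsq := (IsPullback.of_hasPullback k k).map (yon S)
    rw [← cancel_epi hsq.isoPullback.hom, hsq.isoPullback_hom_fst_assoc, hsq.isoPullback_hom_snd_assoc]
    exact hcocycle)
  have ht' : (yon S).map k ≫ t = d := ht PUnit.unit
  refine ⟨t, ?_, ?_⟩
  · refine @yon_hom_ext_of_cover S _ X (fun _ => X') (fun _ : PUnit.{u + 1} => f)
      (fun _ => (inferInstance : Flat f.left)) (fun _ => (inferInstance : LocallyOfFinitePresentation f.left))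
      (fun z => ⟨PUnit.unit, hfs.surj z⟩) B _ _ fun _ => ?_
    rw [← Category.assoc, ← Functor.map_comp, hak.w, Functor.map_comp, Category.assoc, ht', had]
  · refine @yon_hom_ext_of_cover S _ Y (fun _ => Y') (fun _ : PUnit.{u + 1} => g)
      (fun _ => (inferInstance : Flat g.left)) (fun _ => (inferInstance : LocallyOfFinitePresentation g.left))
      (fun z => ⟨PUnit.unit, hgs.surj z⟩) B _ _ fun _ => ?_
    rw [← Category.assoc, ← Functor.map_comp, hbk.w, Functor.map_comp, Category.assoc, ht', hbd]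

theorem isPushout_ofScheme (hpo : IsPushout i.left j.left a.left b.left)
    (hlift : Liftable i.left j.left a.left b.left) :
    IsPushout ((ofScheme S).map i) ((ofScheme S).map j) ((ofScheme S).map a) ((ofScheme S).map b) := by
  have w : i ≫ a = j ≫ b := Over.OverMorphism.ext hpo.w
  refine IsPushout.of_isColimit' ⟨by rw [← Functor.map_comp, ← Functor.map_comp, w]⟩ ?_
  refine PushoutCocone.isColimitAux' _ fun s => ?_
  let t := exists_desc_pushout i j a b s.pt.property hpo hlift s.inl.hom s.inr.hom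
    (congrArg (fun m => m.hom) s.condition)
  refine ⟨ObjectProperty.homMk t.choose, ObjectProperty.hom_ext _ t.choose_spec.1,
    ObjectProperty.hom_ext _ t.choose_spec.2, fun {m} h₁ h₂ => ObjectProperty.hom_ext _ ?_⟩
  exact hom_ext_pushout i j a b s.pt.property hpo m.hom t.choose
    ((congrArg (fun m => m.hom) h₁).trans t.choose_spec.1.symm)
    ((congrArg (fun m => m.hom) h₂).trans t.choose_spec.2.symm)

end space

/-- a pushout in `Over S` along pairs is a pushout of schemes -/
theorem isPushout_left {Z X Y P : Over S} {i : Z ⟶ X} {j : Z ⟶ Y} {a : X ⟶ P} {b : Y ⟶ P}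
    [IsClosedImmersion i.left] [IsAffineHom j.left] [HasPairs i.left j.left] (hX : IsPushout i j a b) :
    IsPushout i.left j.left a.left b.left := by
  have hPo := FlatMorPush.isPushout i.left j.left
  have hw : i.left ≫ X.hom = j.left ≫ Y.hom := by rw [Over.w, Over.w]
  let Q : Over S := Over.mk (hPo.desc X.hom Y.hom hw)
  let q₁ : X ⟶ Q := Over.homMk (FlatMorPush.inl i.left j.left) (hPo.inl_desc _ _ hw)
  let q₂ : Y ⟶ Q := Over.homMk (FlatMorPush.inr i.left j.left) (hPo.inr_desc _ _ hw)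
  have hQ : IsPushout i j q₁ q₂ := IsPushout.of_map (Over.forget S) (by ext; exact hPo.w) hPo
  let e := hQ.isoIsPushout _ _ hX
  let eL : FlatMorPush.Po i.left j.left ≅ P.left := (Over.forget S).mapIso e
  have he₁ : FlatMorPush.inl i.left j.left ≫ eL.hom = a.left :=
    congrArg (fun t => t.left) (hQ.inl_isoIsPushout_hom _ _ hX)
  have he₂ : FlatMorPush.inr i.left j.left ≫ eL.hom = b.left :=
    congrArg (fun t => t.left) (hQ.inr_isoIsPushout_hom _ _ hX)
  exact hPo.of_iso (Iso.refl _) (Iso.refl _) (Iso.refl _) eL (by simp) (by simp) (by simpa using he₁)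
    (by simpa using he₂)

end Groth.Agent.AlgSpLib.FerrandSpace
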