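import Groth.Agent.AlgSpLib.FieldIsolated
import Groth.Agent.AlgSpLib.FibreQF
import Groth.Agent.AlgSpLib.FibreEmbedding
import Groth.Agent.AlgSpLib.DecentPoints

/-!
Conditions on points of fibres of morphisms locally of finite type of algebraic spaces.
-/

universe u

open CategoryTheory CategoryTheory.Limits AlgebraicGeometry Opposite
open AlgSp

noncomputable section

namespace Groth.Agent.AlgSpLib

set_option backward.isDefEq.respectTransparency.types false

variable {S : Scheme.{u}} {X Y Xk : Sp S}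

theorem map_mk_point (r : FieldPt Y) :
    Points.map r.toHom (Points.ofScheme r.pt (IsLocalRing.closedPoint r.K)) = Points.mk r := by
  rw [← Points.ofPt_eq_map_ofScheme, ofPt_eq_ptOfHom_of_field, ptOfHom_toHom]

theorem map_field_point (r : FieldPt Y) (c : Points ((yon S).obj r.pt)) :
    Points.map r.toHom c = Points.mk r := by rw [map_eq_ptOfHom, ptOfHom_toHom]

/-- isolated points of a field valued fibre are the quasi-finite points -/
theorem isOpen_singleton_iff_lqf (hX : IsAlgSpace X) (hY : IsAlgSpace Y) {f : X ⟶ Y}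
    (hf : LocP @LocallyOfFiniteType f) (r : FieldPt Y) {fst : Xk ⟶ X} {snd : Xk ⟶ (yon S).obj r.pt}
    (sq : IsPullback fst snd f r.toHom) (z : Points Xk) :
    (IsOpen ({z} : Set (Points Xk)) ↔ HasAtMor (fun U _ h u => ∃ W : U.Opens, u ∈ W ∧
      LocallyQuasiFinite (W.ι ≫ h) ∧ LocallyOfFiniteType (W.ι ≫ h)) f (Points.map fst z)) := by
  have hP := isAlgSpace_of_isPullback hY.diag hX (IsAlgSpace.yon_obj r.pt) sq
  have hsnd : LocP @LocallyOfFiniteType snd := locP_of_isPullback etLocal_lft hX hY hP sq hf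
  refine ⟨fun h => lqf_of_localDim_zero hX hY hf sq ((point_conditions_field hP snd hsnd z).2.1.1 h), fun h => ?_⟩
  refine (point_conditions_field hP snd hsnd z).2.1.2 ?_
  obtain ⟨W, a, hae, has⟩ := hP.atlas
  obtain ⟨w, rfl⟩ := surjective_ofPt a has z
  obtain ⟨π, hπ⟩ := (yon S).map_surjective (a ≫ snd)
  have hl : LocallyOfFiniteType π.left :=
    hsnd a (𝟙 _) π hae (repWith_id _ r.pt) (by rw [Category.comp_id, hπ])
  have h0 := (relDim_baseChange hX hY (IsAlgSpace.yon_obj r.pt) hP sq hf (Points.ofPt a w) (fun d => d = 0)).2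
    ((hasAtMor_lqf_iff hX hY hf _).1 h)
  rw [hasAtMor_fibreDim_pred hP (IsAlgSpace.yon_obj r.pt) snd a (𝟙 _) π hae (repWith_id _ r.pt)
    (by rw [Category.comp_id, hπ]) w (fun d => d = 0)] at h0
  have hq := (fibreDimAt_eq_zero_iff π.left w).1 h0
  have : IsLocallyNoetherian r.pt.left := inferInstanceAs (IsLocallyNoetherian (Spec (CommRingCat.of r.K)))
  have := LocallyOfFiniteType.isLocallyNoetherian π.left
  refine ⟨W, a, w, hae, rfl, (S9798.result W.left w).2 ?_⟩
  have hr : Set.range (π.left.fiberι (π.left w)) = Set.univ := by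
    rw [Scheme.Hom.range_fiberι]
    exact Set.eq_univ_of_forall fun v => (inferInstance : Subsingleton ↥(Spec (CommRingCat.of r.K))).elim _ _
  have ho := Scheme.Hom.quasiFiniteAt_iff_isOpen_singleton_asFiber.1 hq
  have := (Topology.IsOpenEmbedding.mk (π.left.fiberι (π.left w)).isEmbedding (by rw [hr]; exact isOpen_univ)).isOpenMap _ ho
  simpa [Set.image_singleton] using this

/-- the homeomorphism with the fibre over a monomorphic point -/
theorem exists_homeo_fibre (hX : IsAlgSpace X) (hY : IsAlgSpace Y) (hd : IsDecent Y) (f : X ⟶ Y)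
    (y : Points Y) :
    ∃ (p : FieldPt Y) (X₀ : Sp S) (fst₀ : X₀ ⟶ X) (snd₀ : X₀ ⟶ (yon S).obj p.pt)
      (e : Points X₀ ≃ₜ ↥(Points.map f ⁻¹' {y})), Points.mk p = y ∧ IsPullback fst₀ snd₀ f p.toHom ∧
      Representable fst₀ ∧ ∀ z, (e z).1 = Points.map fst₀ z := by
  obtain ⟨p, hp, hm, hq⟩ := hd y
  have sq := IsPullback.of_hasPullback f p.toHom
  obtain ⟨hemb, hrange⟩ := isEmbedding_fibre hX hY f p.toHom hq sq
  rw [ptOfHom_toHom, hp] at hrange
  exact ⟨p, _, _, _, hemb.toHomeomorph.trans (Homeomorph.setCongr hrange), hp, sq,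
    (RepWith.baseChange sq.flip hq).1, fun z => rfl⟩

theorem isOpen_singleton_homeo {A B : Type*} [TopologicalSpace A] [TopologicalSpace B] (e : A ≃ₜ B) (a : A) :
    IsOpen ({e a} : Set B) ↔ IsOpen ({a} : Set A) := by
  rw [← Set.image_singleton, e.isOpen_image]

theorem closed_noGen_homeo {A B : Type*} [TopologicalSpace A] [TopologicalSpace B] (e : A ≃ₜ B) (a : A) :
    (IsClosed ({e a} : Set B) ∧ ∀ b, b ⤳ e a → b = e a) ↔ (IsClosed ({a} : Set A) ∧ ∀ b, b ⤳ a → b = a) := by
  rw [← Set.image_singleton, e.isClosed_image]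
  refine and_congr Iff.rfl ⟨fun h b hb => e.injective (h _ (hb.map e.continuous)), fun h b hb => ?_⟩
  have := h (e.symm b) (by simpa using hb.map e.symm.continuous)
  rw [← this, e.apply_symm_apply]

theorem localDim_homeo' {A B : Type u} [TopologicalSpace A] [TopologicalSpace B] (e : A ≃ₜ B) (a : A) :
    FlatMor.localDim A a = FlatMor.localDim B (e a) := by
  refine le_antisymm (le_iInf fun V => ?_) (le_iInf fun V => ?_)
  · refine (iInf_le _ ⟨⟨e ⁻¹' (V.1 : Set B), V.1.2.preimage e.continuous⟩, V.2⟩).trans (le_of_eq ?_)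
    exact IsHomeomorph.topologicalKrullDim_eq _ (e.sets (t := (V.1 : Set B)) rfl).isHomeomorph
  · refine (iInf_le _ ⟨⟨e '' (V.1 : Set A), e.isOpenMap _ V.1.2⟩, a, V.2, rfl⟩).trans (le_of_eq ?_)
    exact (IsHomeomorph.topologicalKrullDim_eq _ (e.image (V.1 : Set A)).isHomeomorph).symm

/-- the pointwise conditions -/
theorem point_fibre_conditions (hX : IsAlgSpace X) (hY : IsAlgSpace Y) {f : X ⟶ Y}
    (hf : LocP @LocallyOfFiniteType f) (r : FieldPt Y) {fst : Xk ⟶ X} {snd : Xk ⟶ (yon S).obj r.pt}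
    (sq : IsPullback fst snd f r.toHom) (hd : IsDecent Y) (x : ↥(Points.map f ⁻¹' {Points.mk r})) (xt : Points Xk)
    (hxt : Points.map fst xt = x.1) :
    (IsOpen ({x} : Set ↥(Points.map f ⁻¹' {Points.mk r})) ↔ IsOpen ({xt} : Set (Points Xk))) ∧
    ((IsClosed ({x} : Set ↥(Points.map f ⁻¹' {Points.mk r})) ∧ ∀ x', x' ⤳ x → x' = x) ↔
      IsOpen ({xt} : Set (Points Xk))) ∧
    (IsDecent X → (FlatMor.localDim ↥(Points.map f ⁻¹' {Points.mk r}) x = 0 ↔
      IsOpen ({x} : Set ↥(Points.map f ⁻¹' {Points.mk r})))) := by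
  obtain ⟨p, X₀, fst₀, snd₀, e, hp, sq₀, hr₀, he⟩ := exists_homeo_fibre hX hY hd f (Points.mk r)
  have hP := isAlgSpace_of_isPullback hY.diag hX (IsAlgSpace.yon_obj p.pt) sq₀
  have hl : LocP @LocallyOfFiniteType snd₀ := locP_of_isPullback etLocal_lft hX hY hP sq₀ hf
  obtain ⟨z, rfl⟩ := e.surjective x
  have key : IsOpen ({z} : Set (Points X₀)) ↔ IsOpen ({xt} : Set (Points Xk)) := by
    rw [isOpen_singleton_iff_lqf hX hY hf p sq₀ z, isOpen_singleton_iff_lqf hX hY hf r sq xt, hxt, he]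
  refine ⟨(isOpen_singleton_homeo e z).trans key, ?_, fun hdX => ?_⟩
  · rw [closed_noGen_homeo, ← (point_conditions_field hP snd₀ hl z).1]
    exact key
  · rw [isOpen_singleton_homeo, ← localDim_homeo' e z]
    exact (point_conditions_field hP snd₀ hl z).2.2 (isDecent_of_representable' hr₀ hdX)

/-- the conditions on the whole fibre, decent target -/
theorem fibre_conditions (hX : IsAlgSpace X) (hY : IsAlgSpace Y) {f : X ⟶ Y}
    (hf : LocP @LocallyOfFiniteType f) (r : FieldPt Y) {fst : Xk ⟶ X} {snd : Xk ⟶ (yon S).obj r.pt}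
    (sq : IsPullback fst snd f r.toHom) :
    (DiscreteTopology (Points Xk) ↔ ∀ x : Points X, Points.map f x = Points.mk r →
      HasAtMor (fun U _ h u => ∃ W : U.Opens, u ∈ W ∧
        LocallyQuasiFinite (W.ι ≫ h) ∧ LocallyOfFiniteType (W.ι ≫ h)) f x) := by
  constructor
  · intro h x hx
    obtain ⟨z, rfl, -⟩ := exists_point_of_isPullback sq (x := x)
      (y := Points.ofScheme r.pt (IsLocalRing.closedPoint r.K)) (by rw [map_mk_point, hx])
    exact (isOpen_singleton_iff_lqf hX hY hf r sq z).1 (isOpen_discrete _)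
  · intro h
    refine discreteTopology_iff_isOpen_singleton.2 fun z => (isOpen_singleton_iff_lqf hX hY hf r sq z).2 (h _ ?_)
    rw [← Points.map_comp, sq.w, Points.map_comp, map_field_point]

end Groth.Agent.AlgSpLib
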