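import Mathlib.RingTheory.Flat.IsBaseChange
import Mathlib.LinearAlgebra.TensorProduct.Prod
import Mathlib.RingTheory.RingHom.Flat
import Mathlib.Tactic.Algebraize
import Mathlib.RingTheory.IsTensorProduct
import Mathlib.RingTheory.Localization.Away.Basic
import Mathlib.RingTheory.IntegralClosure.IsIntegralClosure.Basic
import Mathlib.RingTheory.Finiteness.Prod
import Mathlib.Algebra.Category.Ring.Constructions

/-!
Fibre products of rings: flat base change, the locus where they are isomorphic to a factor.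
-/

universe u

open TensorProduct CategoryTheory

namespace Groth.Agent.AlgSpLib.FibreProdBC

set_option autoImplicit false
set_option backward.isDefEq.respectTransparency false

section

variable {B C D : Type u} [CommRing B] [CommRing C] [CommRing D]

/-- the fibre product of two maps of rings -/
abbrev fp (φ : B →+* D) (ψ : C →+* D) : Subring (B × C) :=
  (φ.comp (RingHom.fst B C)).eqLocus (ψ.comp (RingHom.snd B C))

variable (φ : B →+* D) (ψ : C →+* D)

theorem mem_fp {x : B × C} : x ∈ fp φ ψ ↔ φ x.1 = ψ x.2 := Iff.rfl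

/-- the first projection -/
def p₁ : fp φ ψ →+* B := (RingHom.fst B C).comp (fp φ ψ).subtype

/-- the second projection -/
def p₂ : fp φ ψ →+* C := (RingHom.snd B C).comp (fp φ ψ).subtype

theorem comm : φ.comp (p₁ φ ψ) = ψ.comp (p₂ φ ψ) := RingHom.ext fun x => x.2

/-- the universal map -/
def lift {P : Type u} [CommRing P] (b : P →+* B) (c : P →+* C) (h : φ.comp b = ψ.comp c) : P →+* fp φ ψ :=
  (b.prod c).codRestrict (fp φ ψ) fun x => (mem_fp φ ψ).2 (DFunLike.congr_fun h x)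

theorem p₁_lift {P : Type u} [CommRing P] (b : P →+* B) (c : P →+* C) (h : φ.comp b = ψ.comp c) :
    (p₁ φ ψ).comp (lift φ ψ b c h) = b := rfl

theorem p₂_lift {P : Type u} [CommRing P] (b : P →+* B) (c : P →+* C) (h : φ.comp b = ψ.comp c) :
    (p₂ φ ψ).comp (lift φ ψ b c h) = c := rfl

theorem hom_ext {P : Type u} [CommRing P] {f g : P →+* fp φ ψ} (h₁ : (p₁ φ ψ).comp f = (p₁ φ ψ).comp g)
    (h₂ : (p₂ φ ψ).comp f = (p₂ φ ψ).comp g) : f = g :=
  RingHom.ext fun x => Subtype.ext (Prod.ext (congrArg (· x) h₁) (congrArg (· x) h₂))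

/-- localized at an element of the kernel of `φ`, the fibre product is the localization of the first factor -/
theorem isLocalization_away (h : fp φ ψ) (hh : p₂ φ ψ h = 0) :
    Function.Bijective (IsLocalization.Away.map (Localization.Away h)
      (Localization.Away (p₁ φ ψ h)) (p₁ φ ψ) h) := by
  have hb : φ (p₁ φ ψ h) = 0 := ((mem_fp φ ψ).1 h.2).trans (by rw [show h.1.2 = 0 from hh, map_zero])
  constructor
  · rw [injective_iff_map_eq_zero]
    intro z hz
    obtain ⟨n, x, hx⟩ := IsLocalization.Away.surj h z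
    have h0 : algebraMap B (Localization.Away (p₁ φ ψ h)) (p₁ φ ψ x) = 0 := by
      have := congrArg (IsLocalization.Away.map (Localization.Away h) (Localization.Away (p₁ φ ψ h)) (p₁ φ ψ) h) hx
      rw [map_mul, hz, zero_mul] at this
      rw [this]
      exact (IsLocalization.map_eq _ _).symm
    obtain ⟨⟨_, m, rfl⟩, hm⟩ := (IsLocalization.map_eq_zero_iff (Submonoid.powers (p₁ φ ψ h)) _ _).1 h0
    have h1 : h ^ (m + 1) * x = 0 := by
      refine Subtype.ext (Prod.ext ?_ ?_)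
      · show h.1.1 ^ (m + 1) * x.1.1 = 0
        rw [pow_succ, mul_right_comm]
        exact (congrArg (· * h.1.1) hm).trans (zero_mul _)
      · show h.1.2 ^ (m + 1) * x.1.2 = 0
        rw [show h.1.2 = 0 from hh, zero_pow (by omega), zero_mul]
    have hu : IsUnit (algebraMap _ (Localization.Away h) h) := IsLocalization.Away.algebraMap_isUnit h
    have h2 : algebraMap _ (Localization.Away h) x = 0 := by
      apply (hu.pow (m + 1)).mul_right_eq_zero.1
      rw [← map_pow, ← map_mul, h1, map_zero]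
    exact ((hu.pow n).mul_left_eq_zero).1 (hx.trans h2)
  · intro w
    obtain ⟨n, b', hb'⟩ := IsLocalization.Away.surj (p₁ φ ψ h) w
    let x : fp φ ψ := ⟨(b' * p₁ φ ψ h, 0), by rw [mem_fp, map_mul, hb, mul_zero, map_zero]⟩
    refine ⟨algebraMap _ (Localization.Away h) x * IsLocalization.Away.invSelf h ^ (n + 1), ?_⟩
    set ρ := IsLocalization.Away.map (Localization.Away h) (Localization.Away (p₁ φ ψ h)) (p₁ φ ψ) h
    have e1 : ρ (algebraMap _ _ x) = algebraMap B _ (b' * p₁ φ ψ h) := IsLocalization.map_eq _ _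
    have e2 : ρ (IsLocalization.Away.invSelf h) * algebraMap B (Localization.Away (p₁ φ ψ h)) (p₁ φ ψ h) = 1 := by
      rw [show algebraMap B (Localization.Away (p₁ φ ψ h)) (p₁ φ ψ h) = ρ (algebraMap _ _ h) from
        (IsLocalization.map_eq _ _).symm, ← map_mul, mul_comm, IsLocalization.Away.mul_invSelf, map_one]
    rw [map_mul, map_pow, e1, map_mul, ← hb']
    calc _ = w * (ρ (IsLocalization.Away.invSelf h) *
          algebraMap B (Localization.Away (p₁ φ ψ h)) (p₁ φ ψ h)) ^ (n + 1) := by ring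
      _ = w := by rw [e2, one_pow, mul_one]

end

section bc

variable {A A' B C D B' C' D' : Type u} [CommRing A] [CommRing A'] [CommRing B] [CommRing C] [CommRing D]
  [CommRing B'] [CommRing C'] [CommRing D'] [Algebra A A'] [Algebra A B] [Algebra A C] [Algebra A D]
  [Algebra A B'] [Algebra A C'] [Algebra A D'] [Algebra A' B'] [Algebra A' C'] [Algebra A' D']
  [IsScalarTower A A' B'] [IsScalarTower A A' C'] [IsScalarTower A A' D']

theorem isBaseChange_prod {fB : B →ₗ[A] B'} {fC : C →ₗ[A] C'} (hB : IsBaseChange A' fB) (hC : IsBaseChange A' fC) :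
    IsBaseChange A' (fB.prodMap fC) := by
  refine IsBaseChange.of_equiv (TensorProduct.prodRight A A' A' B C ≪≫ₗ hB.equiv.prodCongr hC.equiv) fun x => ?_
  simp [TensorProduct.prodRight_tmul, IsBaseChange.equiv_tmul]

theorem isBaseChange_fp [Module.Flat A A'] {fB : B →ₐ[A] B'} {fC : C →ₐ[A] C'} {fD : D →ₐ[A] D'}
    (hB : IsBaseChange A' fB.toLinearMap) (hC : IsBaseChange A' fC.toLinearMap) (hD : IsBaseChange A' fD.toLinearMap)
    (φ : B →ₐ[A] D) (ψ : C →ₐ[A] D) (φ' : B' →ₐ[A'] D') (ψ' : C' →ₐ[A'] D')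
    (hφ : ∀ b, fD (φ b) = φ' (fB b)) (hψ : ∀ c, fD (ψ c) = ψ' (fC c))
    (P : Subalgebra A (B × C)) (hP : ∀ x, x ∈ P ↔ φ x.1 = ψ x.2)
    (P' : Subalgebra A' (B' × C')) (hP' : ∀ x, x ∈ P' ↔ φ' x.1 = ψ' x.2)
    (f : P →ₗ[A] P') (hf : ∀ x, (f x).1 = (fB x.1.1, fC x.1.2)) : IsBaseChange A' f := by
  let δ : B × C →ₗ[A] D := φ.toLinearMap.comp (LinearMap.fst A B C) - ψ.toLinearMap.comp (LinearMap.snd A B C)
  let δ' : B' × C' →ₗ[A'] D' :=
    φ'.toLinearMap.comp (LinearMap.fst A' B' C') - ψ'.toLinearMap.comp (LinearMap.snd A' B' C')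
  refine IsBaseChange.of_left_exact A' f (fB.toLinearMap.prodMap fC.toLinearMap) fD.toLinearMap
    (f := P.val.toLinearMap) (g := δ) (f' := P'.val.toLinearMap) (g' := δ') ?_ ?_
    (isBaseChange_prod hB hC) hD ?_ Subtype.val_injective ?_ Subtype.val_injective
  · exact LinearMap.ext fun x => (hf x).symm
  · refine LinearMap.ext fun x => ?_
    show fD (φ x.1 - ψ x.2) = φ' (fB x.1) - ψ' (fC x.2)
    rw [map_sub, hφ, hψ]
  · intro x
    refine ⟨fun h => ⟨⟨x, (hP x).2 (sub_eq_zero.1 h)⟩, rfl⟩, ?_⟩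
    rintro ⟨y, rfl⟩
    exact sub_eq_zero.2 ((hP _).1 y.2)
  · intro x
    refine ⟨fun h => ⟨⟨x, (hP' x).2 (sub_eq_zero.1 h)⟩, rfl⟩, ?_⟩
    rintro ⟨y, rfl⟩
    exact sub_eq_zero.2 ((hP' _).1 y.2)

end bc

/-- flat base change of fibre products of rings -/
theorem isPushout_fp {A A' B C D B' C' D' : CommRingCat.{u}} (r : A ⟶ A') (hr : r.hom.Flat)
    {a : A ⟶ B} {a₂ : A ⟶ C} {a₃ : A ⟶ D} {a' : A' ⟶ B'} {a₂' : A' ⟶ C'} {a₃' : A' ⟶ D'}
    {fB : B ⟶ B'} {fC : C ⟶ C'} {fD : D ⟶ D'}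
    (hB : IsPushout r a a' fB) (hC : IsPushout r a₂ a₂' fC) (hD : IsPushout r a₃ a₃' fD)
    (φ : B ⟶ D) (ψ : C ⟶ D) (φ' : B' ⟶ D') (ψ' : C' ⟶ D') (ha : a ≫ φ = a₃) (ha₂ : a₂ ≫ ψ = a₃)
    (ha' : a' ≫ φ' = a₃') (ha₂' : a₂' ≫ ψ' = a₃') (hφ : φ ≫ fD = fB ≫ φ') (hψ : ψ ≫ fD = fC ≫ ψ')
    (i : A →+* fp φ.hom ψ.hom) (hi : ∀ x, (i x).1 = (a.hom x, a₂.hom x))
    (i' : A' →+* fp φ'.hom ψ'.hom) (hi' : ∀ x, (i' x).1 = (a'.hom x, a₂'.hom x))
    (f : fp φ.hom ψ.hom →+* fp φ'.hom ψ'.hom) (hf : ∀ x, (f x).1 = (fB.hom x.1.1, fC.hom x.1.2)) :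
    IsPushout r (CommRingCat.ofHom i) (CommRingCat.ofHom i') (CommRingCat.ofHom f) := by
  algebraize [r.hom, a.hom, a₂.hom, a₃.hom, a'.hom, a₂'.hom, a₃'.hom, i, i', (fB.hom).comp a.hom, (fC.hom).comp a₂.hom,
    (fD.hom).comp a₃.hom, f.comp i]
  haveI : Module.Flat A A' := hr
  have wB : ∀ x, fB.hom (a.hom x) = a'.hom (r.hom x) := fun x => (congrArg (fun m : A ⟶ B' => m.hom x) hB.w).symm
  have wC : ∀ x, fC.hom (a₂.hom x) = a₂'.hom (r.hom x) := fun x => (congrArg (fun m : A ⟶ C' => m.hom x) hC.w).symm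
  have wD : ∀ x, fD.hom (a₃.hom x) = a₃'.hom (r.hom x) := fun x => (congrArg (fun m : A ⟶ D' => m.hom x) hD.w).symm
  haveI : IsScalarTower A A' B' := .of_algebraMap_eq wB
  haveI : IsScalarTower A A' C' := .of_algebraMap_eq wC
  haveI : IsScalarTower A A' D' := .of_algebraMap_eq wD
  have wf : ∀ x, f (i x) = i' (r.hom x) := fun x => Subtype.ext <| by rw [hf, hi, hi', wB, wC]
  haveI : IsScalarTower A A' (fp φ'.hom ψ'.hom) := .of_algebraMap_eq wf
  letI := fB.hom.toAlgebra; letI := fC.hom.toAlgebra; letI := fD.hom.toAlgebra; letI := f.toAlgebra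
  haveI : IsScalarTower A B B' := .of_algebraMap_eq fun _ => rfl
  haveI : IsScalarTower A C C' := .of_algebraMap_eq fun _ => rfl
  haveI : IsScalarTower A D D' := .of_algebraMap_eq fun _ => rfl
  haveI : IsScalarTower A (fp φ.hom ψ.hom) (fp φ'.hom ψ'.hom) := .of_algebraMap_eq fun _ => rfl
  have hB' : Algebra.IsPushout A A' B B' := CommRingCat.isPushout_iff_isPushout.1 hB
  have hC' : Algebra.IsPushout A A' C C' := CommRingCat.isPushout_iff_isPushout.1 hC
  have hD' : Algebra.IsPushout A A' D D' := CommRingCat.isPushout_iff_isPushout.1 hD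
  let φa : B →ₐ[A] D := ⟨φ.hom, fun x => congrArg (fun m : A ⟶ D => m.hom x) ha⟩
  let ψa : C →ₐ[A] D := ⟨ψ.hom, fun x => congrArg (fun m : A ⟶ D => m.hom x) ha₂⟩
  let φa' : B' →ₐ[A'] D' := ⟨φ'.hom, fun x => congrArg (fun m : A' ⟶ D' => m.hom x) ha'⟩
  let ψa' : C' →ₐ[A'] D' := ⟨ψ'.hom, fun x => congrArg (fun m : A' ⟶ D' => m.hom x) ha₂'⟩
  let P : Subalgebra A (B × C) := AlgHom.equalizer (φa.comp (AlgHom.fst A B C)) (ψa.comp (AlgHom.snd A B C))
  let P' : Subalgebra A' (B' × C') :=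
    AlgHom.equalizer (φa'.comp (AlgHom.fst A' B' C')) (ψa'.comp (AlgHom.snd A' B' C'))
  let e : (fp φ.hom ψ.hom) ≃ₗ[A] P :=
    { toFun := fun x => ⟨x.1, x.2⟩
      invFun := fun x => ⟨x.1, x.2⟩
      map_add' := fun _ _ => rfl
      map_smul' := fun c x => Subtype.ext <| by
        rw [Algebra.smul_def]
        show (i c).1 * x.1 = c • x.1
        rw [hi, Algebra.smul_def]
        rfl
      left_inv := fun _ => rfl
      right_inv := fun _ => rfl }
  let e' : (fp φ'.hom ψ'.hom) ≃ₗ[A'] P' :=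
    { toFun := fun x => ⟨x.1, x.2⟩
      invFun := fun x => ⟨x.1, x.2⟩
      map_add' := fun _ _ => rfl
      map_smul' := fun c x => Subtype.ext <| by
        rw [Algebra.smul_def]
        show (i' c).1 * x.1 = c • x.1
        rw [hi', Algebra.smul_def]
        rfl
      left_inv := fun _ => rfl
      right_inv := fun _ => rfl }
  let fl := (IsScalarTower.toAlgHom A (fp φ.hom ψ.hom) (fp φ'.hom ψ'.hom)).toLinearMap
  have key := isBaseChange_fp (A' := A') (fB := IsScalarTower.toAlgHom A B B') (fC := IsScalarTower.toAlgHom A C C')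
    (fD := IsScalarTower.toAlgHom A D D') hB'.out hC'.out hD'.out φa ψa φa' ψa'
    (fun b => congrArg (fun m : B ⟶ D' => m.hom b) hφ) (fun c => congrArg (fun m : C ⟶ D' => m.hom c) hψ)
    P (fun _ => Iff.rfl) P' (fun _ => Iff.rfl)
    ((e'.toLinearMap.restrictScalars A) ∘ₗ fl ∘ₗ e.symm.toLinearMap) (fun x => hf (e.symm x))
  exact CommRingCat.isPushout_iff_isPushout.2
    ⟨(IsBaseChange.iff_of_equiv_comm e e' (f := fl) (f' := (e'.toLinearMap.restrictScalars A) ∘ₗ fl ∘ₗ e.symm.toLinearMap)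
      (LinearMap.ext fun x => by simp)).2 key⟩

end Groth.Agent.AlgSpLib.FibreProdBC
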