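import Groth.Agent.AlgSpLib.RelDimFormula
import Groth.Agent.AlgSpLib.RelDimLocus
import Groth.Agent.CAlgH3.FibreCodim

/-!
Dimensions of local rings of fibres under base change.
-/

universe u

open CategoryTheory CategoryTheory.Limits AlgebraicGeometry
open AlgSp

noncomputable section

namespace Groth.Agent.AlgSpLib.FibreStalkBC

set_option backward.isDefEq.respectTransparency.types false

variable {X X' Y Y' : Scheme.{u}} {g' : X' ⟶ X} {f' : X' ⟶ Y'} {f : X ⟶ Y} {g : Y' ⟶ Y}

/-- the dimension of the local ring of the fibre -/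
abbrev fdim (f : X ⟶ Y) (x : X) : WithBot ℕ∞ := ringKrullDim ↥((f.fiber (f x)).presheaf.stalk (f.asFiber x))

theorem fdim_eq (y : Y) (w : f.fiber y) {x : X} (hx : f.fiberι y w = x) :
    ringKrullDim ↥((f.fiber y).presheaf.stalk w) = fdim f x := by
  have hy : y = f x := by
    rw [← hx]
    have := f.range_fiberι y ▸ Set.mem_range_self (f := f.fiberι y) w
    exact (Set.mem_singleton_iff.1 this).symm
  subst hy
  rw [show w = f.asFiber x from (f.fiberι _).isEmbedding.injective (by rw [hx, Scheme.Hom.fiberι_asFiber])]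

theorem nat_of_fibreDim [LocallyOfFiniteType f] (x : X) :
    ∃ n : ℕ, Cardinal.toENat (Dual3.resTrdeg f x) = (n : ℕ∞) := by
  refine ⟨(Dual3.resTrdeg f x).toNat, ?_⟩
  have hfin : Dual3.resTrdeg f x < Cardinal.aleph0 := FlatMor12.trdeg_residueFieldMap_lt f x
  conv_lhs => rw [← Cardinal.cast_toNat_of_lt_aleph0 hfin, map_natCast]

theorem exists_maximal_point {F : Scheme.{u}} (t : F) : ∃ η : F, η ⤳ t ∧ IsMax η := by
  let C := irreducibleComponent t
  obtain ⟨η, hη⟩ := QuasiSober.sober (isIrreducible_irreducibleComponent (x := t)) isClosed_irreducibleComponent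
  refine ⟨η, hη.specializes mem_irreducibleComponent, fun a ha => ?_⟩
  have h1 : C ⊆ closure {a} := hη.symm.trans_le (closure_minimal (Set.singleton_subset_iff.2
    (show a ⤳ η from ha).mem_closure) isClosed_closure)
  have h2 : closure ({a} : Set F) = C :=
    eq_irreducibleComponent isIrreducible_singleton.closure.2 h1
  show η ⤳ a
  rw [specializes_iff_mem_closure, hη]
  rw [← show closure ({a} : Set F) = irreducibleComponent t from h2]
  exact subset_closure rfl

theorem fibre_map (hc : IsPullback g' f' f g) [LocallyOfFiniteType f] (y' : Y') :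
    ∃ q : f'.fiber y' ⟶ f.fiber (g y'), Flat q ∧ IsLocallyNoetherian (f'.fiber y') ∧
      IsLocallyNoetherian (f.fiber (g y')) ∧ q ≫ f.fiberι (g y') = f'.fiberι y' ≫ g' ∧ Surjective q := by
  haveI : LocallyOfFiniteType (f.fiberToSpecResidueField (g y')) :=
    inferInstanceAs (LocallyOfFiniteType (pullback.snd f (Y.fromSpecResidueField (g y'))))
  haveI : LocallyOfFiniteType f' := MorphismProperty.of_isPullback hc ‹_›
  haveI : LocallyOfFiniteType (f'.fiberToSpecResidueField y') :=
    inferInstanceAs (LocallyOfFiniteType (pullback.snd f' (Y'.fromSpecResidueField y')))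
  have hsq := isPullback_fiberToSpecResidueField_of_isPullback hc y'
  letI : Algebra (Y.residueField (g y')) (Y'.residueField y') := (g.residueFieldMap y').hom.toAlgebra
  have hflat : Flat (Spec.map (g.residueFieldMap y')) := by
    rw [HasRingHomProperty.Spec_iff (P := @Flat)]
    exact (inferInstance : Module.Flat (Y.residueField (g y')) (Y'.residueField y'))
  have hsurj : Surjective (Spec.map (g.residueFieldMap y')) :=
    ⟨fun p => ⟨default, Subsingleton.elim (α := PrimeSpectrum (Y.residueField (g y'))) _ _⟩⟩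
  refine ⟨_, MorphismProperty.of_isPullback hsq.flip hflat,
    LocallyOfFiniteType.isLocallyNoetherian (f'.fiberToSpecResidueField y'),
    LocallyOfFiniteType.isLocallyNoetherian (f.fiberToSpecResidueField (g y')), pullback.lift_fst _ _ _,
    MorphismProperty.of_isPullback hsq.flip hsurj⟩

theorem fdim_le (hc : IsPullback g' f' f g) [LocallyOfFiniteType f] (z : X') : fdim f (g' z) ≤ fdim f' z := by
  obtain ⟨q, hq, hN', hN, hqw, -⟩ := fibre_map hc (f' z)
  show _ ≤ ringKrullDim _
  rw [CAlgH3.FibreCodim.dim_eq_add_fiberStalk q (f'.asFiber z), fdim_eq (f := f) (x := g' z)]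
  · exact le_add_of_nonneg_right ringKrullDim_nonneg_of_nontrivial
  · rw [← Scheme.Hom.comp_apply, hqw, Scheme.Hom.comp_apply, Scheme.Hom.fiberι_asFiber]

theorem exists_fdim_eq (hc : IsPullback g' f' f g) [LocallyOfFiniteType f] (x : X) (y' : Y') (h : f x = g y') :
    ∃ z : X', g' z = x ∧ f' z = y' ∧ fdim f' z = fdim f x := by
  obtain ⟨q, hq, hN', hN, hqw, hqs⟩ := fibre_map hc y'
  obtain ⟨w, hw⟩ : x ∈ Set.range (f.fiberι (g y')) := by rw [f.range_fiberι]; exact h
  obtain ⟨w', hw'⟩ := q.surjective w
  obtain ⟨t, ht⟩ : w' ∈ Set.range (q.fiberι w) := by rw [q.range_fiberι]; exact hw'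
  obtain ⟨η, -, hη⟩ := exists_maximal_point t
  let w'' := q.fiberι w η
  have hq'' : q w'' = w := by
    have := q.range_fiberι w ▸ Set.mem_range_self (f := q.fiberι w) η
    exact this
  have h0 : ringKrullDim (CInt.fiberStalk q w'') = 0 := by
    show fdim q w'' = 0
    rw [← fdim_eq (f := q) w η (x := w'') rfl, ringKrullDim_stalk_eq_coheight, Order.coheight_eq_zero.2 hη]
    rfl
  let z := f'.fiberι y' w''
  have hz2 : f' z = y' := by
    have := f'.range_fiberι y' ▸ Set.mem_range_self (f := f'.fiberι y') w''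
    exact this
  have hz1 : g' z = x := by
    show g' (f'.fiberι y' w'') = x
    rw [← Scheme.Hom.comp_apply, ← hqw, Scheme.Hom.comp_apply, hq'', hw]
  refine ⟨z, hz1, hz2, ?_⟩
  rw [← fdim_eq (f := f') y' w'' (rfl : _ = z), CAlgH3.FibreCodim.dim_eq_add_fiberStalk q w'', h0, add_zero,
    fdim_eq (f := f) (g y') (q w'') (by rw [hq'', hw])]

end Groth.Agent.AlgSpLib.FibreStalkBC
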