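import Groth.Agent.AlgSpLib.DiscreteFibres
import Groth.Agent.AlgSpLib.CodimOneQF
import Groth.Agent.AlgSpLib.DecentDim
import Groth.Agent.AlgSpLib.DimBasic
import Groth.Agent.AlgSpLib.EtLocalInst
import Groth.Agent.S9798

/-!
Isolated points of spaces locally of finite type over a field.
-/

universe u

open CategoryTheory CategoryTheory.Limits AlgebraicGeometry Opposite
open AlgSp

noncomputable section

namespace Groth.Agent.AlgSpLib

set_option backward.isDefEq.respectTransparency.types false

variable {S : Scheme.{u}} {K : Type u} [Field K] {sK : Spec (CommRingCat.of K) ⟶ S} {Z : Sp S}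

/-- chart points over the same point have the same residue transcendence degree -/
theorem ptDim_eq_of_ofPt_eq (hZ : IsAlgSpace Z) (q : Z ⟶ (yon S).obj (Over.mk sK)) {W : Over S}
    (a : (yon S).obj W ⟶ Z) (ha : RepWith @Etale a) (π : W.left ⟶ Spec (CommRingCat.of K))
    [LocallyOfFiniteType π] (p : W ⟶ Over.mk sK) (hp : p.left = π) (w : a ≫ q = (yon S).map p)
    {x x' : ↥W.left} (e : Points.ofPt a x = Points.ofPt a x') : DimLib.ptDim π x = DimLib.ptDim π x' := by
  have hra := hZ.representable_from_yon a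
  have sqR := hra.isPullback' a
  obtain ⟨r, hr1, hr2⟩ := (ofPt_eq_ofPt_iff sqR x x').1 e
  have : Etale (hra.fst' a).left := ha.property _ _ _ sqR.flip
  have : Etale (hra.snd a).left := ha.property_snd a
  have ew : hra.fst' a ≫ p = hra.snd a ≫ p := (yon S).map_injective (by
    rw [Functor.map_comp, Functor.map_comp, ← w, ← Category.assoc, sqR.w, Category.assoc])
  have ew' : (hra.fst' a).left ≫ π = (hra.snd a).left ≫ π := hp ▸ congrArg (fun t => t.left) ew
  have d1 := ptDim_eq_of_etale π (hra.fst' a).left r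
  have d2 := ptDim_eq_of_etale π (hra.snd a).left r
  rw [hr1] at d1
  rw [hr2, ← ew', d1] at d2
  exact d2

/-- the isolated points of a space locally of finite type over a field -/
theorem point_conditions_field (hZ : IsAlgSpace Z) (q : Z ⟶ (yon S).obj (Over.mk sK))
    (hq : LocP @LocallyOfFiniteType q) (x : Points Z) :
    (IsOpen ({x} : Set (Points Z)) ↔ (IsClosed ({x} : Set (Points Z)) ∧ ∀ x' : Points Z, x' ⤳ x → x' = x)) ∧
      (IsOpen ({x} : Set (Points Z)) ↔ HasAt (fun U u => FlatMor.localDim ↥U u = 0) Z x) ∧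
      (IsDecent Z → (FlatMor.localDim (Points Z) x = 0 ↔ IsOpen ({x} : Set (Points Z)))) := by
  obtain ⟨W, a, hae, has⟩ := hZ.atlas
  obtain ⟨p, hp⟩ := (yon S).map_surjective (a ≫ q)
  let π : W.left ⟶ Spec (CommRingCat.of K) := p.left
  have : LocallyOfFiniteType π :=
    hq a (𝟙 _) p hae (repWith_id _ (Over.mk sK)) (by rw [Category.comp_id, hp])
  have := LocallyOfFiniteType.isLocallyNoetherian π
  have : JacobsonSpace ↥W.left := LocallyOfFiniteType.jacobsonSpace π
  have hq' := isOpenQuotientMap_ofPt a hae has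
  have hdim : ∀ {y y' : ↥W.left}, Points.ofPt a y = Points.ofPt a y' → y ⤳ y' → y = y' := fun {y y'} e hs => by
    by_contra hne
    exact absurd (DimLib.ptDim_lt_of_specializes π hs hne)
      (by rw [ptDim_eq_of_ofPt_eq hZ q a hae π p rfl hp.symm e]; omega)
  have hiso : IsOpen ({x} : Set (Points Z)) → ∀ w, Points.ofPt a w = x → IsOpen ({w} : Set ↥W.left) := by
    intro ho w hw
    have hE : IsOpen (Points.ofPt a ⁻¹' {x}) := ho.preimage (Points.continuous_ofPt a)
    obtain ⟨w₀, hw₀, hd⟩ := exists_dimZero_generization w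
    have e : w₀ = w := hdim ((show Points.ofPt a w₀ ∈ ({x} : Set _) from
      (hw₀.mem_open hE hw)).trans hw.symm) hw₀
    obtain ⟨N, hN, hwN, hsp⟩ := exists_open_subset_specializations w (e ▸ hd)
    convert hN.inter hE using 1
    exact Set.Subset.antisymm (Set.singleton_subset_iff.2 ⟨hwN, hw⟩)
      fun v hv => (hdim (hw.trans hv.2.symm) (hsp v hv.1)).symm
  refine ⟨⟨fun ho => ⟨?_, fun x' hx' => hx'.mem_open ho rfl⟩, fun hc => ?_⟩, ⟨fun ho => ?_, ?_⟩, fun hd => ?_⟩
  · rw [← hq'.isQuotientMap.isClosed_preimage]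
    refine isOpen_compl_iff.1 (isOpen_iff_forall_mem_open.2 fun v hv => ?_)
    obtain ⟨O, hO, hvO, -⟩ := exists_isAffineOpen_mem_and_subset (x := v) (U := ⊤) trivial
    have : IsAffine O.toScheme := hO
    have : IsNoetherianRing Γ(W.left, O) := IsLocallyNoetherian.component_noetherian ⟨O, hO⟩
    have := isNoetherianRing_of_ringEquiv _ O.topIso.symm.commRingCatIsoToRingEquiv
    have : IsLocallyNoetherian O.toScheme := isLocallyNoetherian_of_isOpenImmersion O.ι
    have : IsNoetherian O.toScheme := {}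
    let E := O.ι ⁻¹' (Points.ofPt a ⁻¹' {x})
    have hd' : DiscreteTopology E := discreteTopology_iff_isOpen_singleton.2 fun e => by
      have h1 := ((hiso ho (O.ι e.1) e.2).preimage O.ι.continuous).preimage (continuous_subtype_val (p := (· ∈ E)))
      convert h1 using 1
      ext e'
      exact ⟨fun h => by rw [Set.mem_singleton_iff.1 h]; rfl, fun h => Subtype.ext (O.ι.injective h)⟩
    have hfin : E.Finite := by
      have := isCompact_iff_compactSpace.mp (TopologicalSpace.NoetherianSpace.isCompact E)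
      exact Set.finite_coe_iff.1 finite_of_compact_of_discrete
    have hcl : ∀ e ∈ O.ι '' E, IsClosed ({e} : Set ↥W.left) := by
      rintro _ ⟨e, he, rfl⟩
      exact isClosed_singleton_of_isLocallyClosed_singleton (hiso ho _ he).isLocallyClosed
    have hcl' : IsClosed (O.ι '' E) := Set.biUnion_of_singleton (O.ι '' E) ▸ (hfin.image O.ι).isClosed_biUnion hcl
    exact ⟨(O : Set ↥W.left) ∩ (O.ι '' E)ᶜ, fun t ht hx => ht.2 ⟨⟨t, ht.1⟩, hx, rfl⟩,
      O.2.inter hcl'.isOpen_compl, hvO, fun ⟨t, ht, e⟩ => hv (e ▸ ht)⟩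
  · rw [← hq'.isQuotientMap.isOpen_preimage]
    refine isOpen_iff_forall_mem_open.2 fun w hw => ⟨{w}, Set.singleton_subset_iff.2 hw, ?_, rfl⟩
    have hE : IsClosed (Points.ofPt a ⁻¹' {x}) := hc.1.preimage (Points.continuous_ofPt a)
    have hmax : ∀ v, v ⤳ w → v = w := fun v hv =>
      hdim ((hc.2 _ ((hv.map (Points.continuous_ofPt a)).trans
        (specializes_of_eq (show Points.ofPt a w = x from hw)))).trans (show Points.ofPt a w = x from hw).symm) hv
    obtain ⟨N, hN, hwN, hsp⟩ := exists_open_subset_specializations w ((stalk_dimZero_iff w).2 hmax)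
    convert hN using 1
    exact Set.Subset.antisymm (Set.singleton_subset_iff.2 hwN) fun v hv =>
      (hdim ((show Points.ofPt a w = x from hw).trans
        (show Points.ofPt a v = x from (hsp v hv).mem_closed hE hw).symm) (hsp v hv)).symm
  · obtain ⟨w, hw⟩ := surjective_ofPt a has x
    exact ⟨W, a, w, hae, hw, (S9798.result W.left w).2 (hiso ho w hw)⟩
  · rintro ⟨W', a', w', ha', rfl, hw'⟩
    obtain ⟨p', hp'⟩ := (yon S).map_surjective (a' ≫ q)
    let π' : W'.left ⟶ Spec (CommRingCat.of K) := p'.left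
    have : LocallyOfFiniteType π' :=
      hq a' (𝟙 _) p' ha' (repWith_id _ (Over.mk sK)) (by rw [Category.comp_id, hp'])
    have := LocallyOfFiniteType.isLocallyNoetherian π'
    have := isOpenMap_ofPt a' ha' _ ((S9798.result W'.left w').1 hw')
    rwa [Set.image_singleton] at this
  · obtain ⟨w, rfl⟩ := surjective_ofPt a has x
    rw [← localDim_eq hZ hd a hae w, S9798.result W.left w]
    refine ⟨fun h => ?_, fun h => hiso h w rfl⟩
    have := isOpenMap_ofPt a hae _ h
    rwa [Set.image_singleton] at this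

theorem quasiFiniteAt_of_discrete {U V : Scheme.{u}} (h : U ⟶ V) [LocallyOfFiniteType h] [DiscreteTopology ↥U]
    (u : ↥U) : h.QuasiFiniteAt u := by
  have : DiscreteTopology ↥(h.fiber (h u)) := (h.fiberι (h u)).isEmbedding.discreteTopology
  exact Scheme.Hom.quasiFiniteAt_iff_isOpen_singleton_asFiber.2 (isOpen_discrete _)

/-- discreteness, dimension and local quasi-finiteness over a field -/
theorem space_conditions_field (hZ : IsAlgSpace Z) (q : Z ⟶ (yon S).obj (Over.mk sK))
    (hq : LocP @LocallyOfFiniteType q) :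
    (DiscreteTopology (Points Z) ↔ AlgSp.dim Z ≤ 0) ∧
      (AlgSp.dim Z ≤ 0 ↔ LocP (@LocallyQuasiFinite ⊓ @LocallyOfFiniteType) q) ∧
      (IsDecent Z → Finite (Points Z) → AlgSp.dim Z ≤ 0) := by
  obtain ⟨W, a, hae, has⟩ := hZ.atlas
  obtain ⟨p, hp⟩ := (yon S).map_surjective (a ≫ q)
  let π : W.left ⟶ Spec (CommRingCat.of K) := p.left
  have hl : LocallyOfFiniteType π :=
    hq a (𝟙 _) p hae (repWith_id _ (Over.mk sK)) (by rw [Category.comp_id, hp])
  rw [dim_eq_atlas hZ a hae has]
  have hdisc : DiscreteTopology ↥W.left ↔ topologicalKrullDim ↥W.left ≤ 0 := by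
    constructor
    · intro h
      rcases isEmpty_or_nonempty ↥W.left with h' | h'
      · rw [Stk19b.EtaleDim.topologicalKrullDim_eq_iSup_coheight]
        exact iSup_le fun w => h'.elim w
      · exact topologicalKrullDim_zero_of_discreteTopology _
    · intro h
      refine discreteTopology_of_isClosed_points π fun w => closure_subset_iff_isClosed.1 fun v hv => ?_
      have h0 : ringKrullDim ↥(W.left.presheaf.stalk v) = 0 := by
        rw [ringKrullDim_stalk_eq_coheight]
        refine le_antisymm ((le_iSup (fun x : ↥W.left => (Order.coheight x : WithBot ℕ∞)) v).trans ?_)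
          (WithBot.coe_le_coe.2 bot_le)
        rw [← Stk19b.EtaleDim.topologicalKrullDim_eq_iSup_coheight]
        exact h
      exact (eq_of_specializes_stalk v h0 w (specializes_iff_mem_closure.2 hv)).symm
  have h1 : DiscreteTopology (Points Z) ↔ topologicalKrullDim ↥W.left ≤ 0 := by
    refine ⟨fun h => hdisc.1 (discreteTopology_chart_of_discrete_points hZ q a hae p (hp := hl) hp.symm), fun h => ?_⟩
    have := hdisc.2 h
    refine discreteTopology_iff_isOpen_singleton.2 fun x => ?_
    obtain ⟨w, rfl⟩ := surjective_ofPt a has x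
    rw [← Set.image_singleton]
    exact isOpenMap_ofPt a hae _ (isOpen_discrete _)
  refine ⟨h1, ⟨fun h => ?_, fun h => hdisc.1 ?_⟩, fun hd hfin => hdisc.1 ?_⟩
  · have := hdisc.2 h
    have : LocallyOfFiniteType p.left := hl
    refine locP_of_chart_square etLocal_lqf hZ a hae has (𝟙 _) (repWith_id _ (Over.mk sK)) p ?_
      (by rw [Category.comp_id, hp])
    exact ⟨(Scheme.Hom.quasiFiniteLocus_eq_top_iff p.left).1
      (top_le_iff.1 fun w _ => quasiFiniteAt_of_discrete p.left w), hl⟩
  · have hh := h a (𝟙 _) p hae (repWith_id _ (Over.mk sK)) (by rw [Category.comp_id, hp])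
    have : LocallyQuasiFinite π := hh.1
    let c : ↥(Spec (CommRingCat.of K)) := IsLocalRing.closedPoint K
    have hd := π.isDiscrete_preimage_singleton c
    have e : π ⁻¹' {c} = Set.univ :=
      Set.eq_univ_of_forall fun w => (inferInstance : Subsingleton ↥(Spec (CommRingCat.of K))).elim _ _
    exact isDiscrete_univ_iff.1 (e ▸ hd)
  · refine discreteTopology_iff_isOpen_singleton.2 fun w => ?_
    obtain ⟨O, hO, hwO, -⟩ := exists_isAffineOpen_mem_and_subset (x := w) (U := ⊤) trivial
    let V : Over S := Over.mk (O.ι ≫ W.hom)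
    let j : V ⟶ W := Over.homMk O.ι
    have : IsAffine V.left := hO
    let b := (yon S).map j ≫ a
    have hb : RepWith @Etale b :=
      RepWith.comp ((repWith_yon_map_iff (P := @Etale) j).2 (inferInstanceAs (Etale O.ι))) hae
    have hfinV : Finite ↥V.left := by
      refine Set.finite_univ_iff.1 ((Set.finite_univ.preimage' fun x _ => ?_).subset
        (Set.subset_preimage_univ (f := Points.ofPt b)))
      exact finite_preimage_ofPt (FiniteFibres.of_mk (hd x)).1 b hb
    have : JacobsonSpace ↥V.left := LocallyOfFiniteType.jacobsonSpace (O.ι ≫ π)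
    have := O.ι.isOpenEmbedding.isOpenMap _ (isOpen_discrete ({(⟨w, hwO⟩ : O)} : Set ↥V.left))
    convert this using 1
    ext z
    exact ⟨fun h => ⟨⟨w, hwO⟩, rfl, h.symm⟩, by rintro ⟨_, rfl, rfl⟩; rfl⟩

end Groth.Agent.AlgSpLib
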