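import Groth.Agent.AlgSpLib.SourceGen

/-!
Fpqc coverings of algebraic spaces: fppf coverings, base change, composition, locality.
-/

universe u

open CategoryTheory CategoryTheory.Limits AlgebraicGeometry Topology
open AlgSp

noncomputable section

namespace Groth.Agent.AlgSpLib

set_option backward.isDefEq.respectTransparency.types false

variable {S : Scheme.{u}} {X X' : Sp S}

theorem mk_standard {ι' : Type} [Finite ι'] {ι : Type u} {Xi : ι → Sp S} {g : ∀ i, Xi i ⟶ X}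
    {Z : Over S} {h : (yon S).obj Z ⟶ X} (W : ι' → Over S) (c : ∀ j, W j ⟶ Z)
    (hW : ∀ j, IsAffine (W j).left) (hc : ∀ j, Flat (c j).left)
    (hs : ∀ z : ↥Z.left, ∃ j, z ∈ Set.range (c j).left)
    (hl : ∀ j, ∃ (i : ι) (l : (yon S).obj (W j) ⟶ Xi i), l ≫ g i = (yon S).map (c j) ≫ h) :
    ∃ (m : ℕ) (W : Fin m → Over S) (c : ∀ j, W j ⟶ Z),
      (∀ j, IsAffine (W j).left) ∧ (∀ j, Flat (c j).left) ∧
      (∀ z : ↥Z.left, ∃ j, z ∈ Set.range (c j).left) ∧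
      ∀ j, ∃ (i : ι) (l : (yon S).obj (W j) ⟶ Xi i), l ≫ g i = (yon S).map (c j) ≫ h := by
  obtain ⟨m, ⟨e⟩⟩ := Finite.exists_equiv_fin ι'
  refine ⟨m, fun j => W (e.symm j), fun j => c (e.symm j), fun j => hW _, fun j => hc _, fun z => ?_,
    fun j => hl _⟩
  obtain ⟨j, hj⟩ := hs z
  obtain ⟨k, rfl⟩ := e.symm.surjective j
  exact ⟨k, hj⟩

theorem isFpqcCover_of_isFppfCover (hX : IsAlgSpace X) {ι : Type u} {Xi : ι → Sp S}
    {g : ∀ i, Xi i ⟶ X} (hXi : ∀ i, IsAlgSpace (Xi i)) (hg : IsFppfCover Xi g) :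
    IsFpqcCover Xi g := by
  refine ⟨fun i => (hg.1 i).1, fun Z hZ h => ?_⟩
  obtain ⟨C⟩ := nonempty_familyChart hX g hXi h
  have hfl : ∀ i, Flat (C.c i).left := C.property etLocal_flat hX hXi fun i => (hg.1 i).1
  have hfp : ∀ i, LocallyOfFinitePresentation (C.c i).left :=
    C.property etLocal_lfp hX hXi fun i => (hg.1 i).2
  have : IsAffine Z.left := hZ
  obtain ⟨σ, hσ⟩ := isCompact_univ.elim_finite_subcover
    (fun B : Σ i, (C.W i).left.affineOpens => (C.c B.1).left '' (B.2.1 : Set (C.W B.1).left))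
    (fun B => by
      have := hfl B.1
      have := hfp B.1
      exact (C.c B.1).left.isOpenMap _ B.2.1.2) (fun z _ => by
      obtain ⟨i, t, rfl⟩ := C.exists_eq hg.2 z
      obtain ⟨_, ⟨B, hB, rfl⟩, ht, -⟩ := (C.W i).left.isBasis_affineOpens.exists_subset_of_mem_open
        (Set.mem_univ t) isOpen_univ
      exact Set.mem_iUnion.2 ⟨⟨i, ⟨B, hB⟩⟩, t, ht, rfl⟩)
  obtain ⟨m, ⟨e⟩⟩ := Finite.exists_equiv_fin σ
  let W : Fin m → Over S := fun j =>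
    Over.mk ((e.symm j).1.2.1.ι ≫ (C.W (e.symm j).1.1).hom)
  let k : ∀ j, W j ⟶ C.W (e.symm j).1.1 := fun j => Over.homMk (e.symm j).1.2.1.ι
  refine ⟨m, W, fun j => k j ≫ C.c _, fun j => (e.symm j).1.2.2, fun j => ?_, fun z => ?_,
    fun j => ⟨_, (yon S).map (k j) ≫ C.e _ ≫ pullback.fst _ h, ?_⟩⟩
  · have := hfl (e.symm j).1.1
    exact (inferInstance : Flat ((e.symm j).1.2.1.ι ≫ (C.c (e.symm j).1.1).left))
  · obtain ⟨B, hB, t, ht, rfl⟩ := Set.mem_iUnion₂.1 (hσ (Set.mem_univ z))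
    obtain ⟨j, hj⟩ : ∃ j, (e.symm j) = ⟨B, hB⟩ := ⟨e ⟨B, hB⟩, e.symm_apply_apply _⟩
    refine ⟨j, ?_⟩
    show (C.c B.1).left t ∈ Set.range ((e.symm j).1.2.1.ι ≫ (C.c (e.symm j).1.1).left)
    rw [hj]
    exact ⟨⟨t, ht⟩, rfl⟩
  · rw [Category.assoc, Category.assoc, pullback.condition, ← Category.assoc (C.e _), ← C.fac,
      Functor.map_comp, Category.assoc]

theorem isFpqcCover_of_isPullback (hX : IsAlgSpace X) (hX' : IsAlgSpace X') (a : X' ⟶ X) {ι : Type u}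
    {Xi : ι → Sp S} {g : ∀ i, Xi i ⟶ X} (hXi : ∀ i, IsAlgSpace (Xi i)) {Xi' : ι → Sp S}
    (hXi' : ∀ i, IsAlgSpace (Xi' i)) {q : ∀ i, Xi' i ⟶ X'} {p : ∀ i, Xi' i ⟶ Xi i}
    (sq : ∀ i, IsPullback (q i) (p i) a (g i)) (h : IsFpqcCover Xi g) : IsFpqcCover Xi' q := by
  refine ⟨fun i => locP_of_isPullback etLocal_flat (hXi i) hX (hXi' i) (sq i).flip (h.1 i),
    fun Z hZ k => ?_⟩
  obtain ⟨m, W, c, hW, hc, hs, hl⟩ := h.2 Z hZ (k ≫ a)
  refine ⟨m, W, c, hW, hc, hs, fun j => ?_⟩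
  obtain ⟨i, l, e⟩ := hl j
  exact ⟨i, (sq i).lift ((yon S).map (c j) ≫ k) l (by rw [Category.assoc, e]),
    (sq i).lift_fst _ _ _⟩

theorem isFpqcCover_sigma (hX : IsAlgSpace X) {ι : Type u} {Xi : ι → Sp S} {g : ∀ i, Xi i ⟶ X}
    (hXi : ∀ i, IsAlgSpace (Xi i)) {κ : ι → Type u} {Xij : ∀ i, κ i → Sp S}
    {gij : ∀ i j, Xij i j ⟶ Xi i} (hXij : ∀ i j, IsAlgSpace (Xij i j)) (h : IsFpqcCover Xi g)
    (hij : ∀ i, IsFpqcCover (Xij i) (gij i)) :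
    IsFpqcCover (fun r : Σ i, κ i => Xij r.1 r.2) (fun r => gij r.1 r.2 ≫ g r.1) := by
  refine ⟨fun r => locP_comp etLocal_flat (hXij _ _) (hXi _) hX ((hij r.1).1 r.2) (h.1 r.1),
    fun Z hZ k => ?_⟩
  obtain ⟨m, W, c, hW, hc, hs, hl⟩ := h.2 Z hZ k
  choose i l hl using hl
  choose m' W' c' hW' hc' hs' hl' using fun j => (hij (i j)).2 (W j) (hW j) (l j)
  refine mk_standard (ι' := Σ j, Fin (m' j)) (fun r => W' r.1 r.2) (fun r => c' r.1 r.2 ≫ c r.1)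
    (fun r => hW' r.1 r.2) (fun r => ?_) (fun z => ?_) (fun r => ?_)
  · exact MorphismProperty.comp_mem @Flat _ _ (hc' r.1 r.2) (hc r.1)
  · obtain ⟨j, w, rfl⟩ := hs z
    obtain ⟨k, v, rfl⟩ := hs' j w
    exact ⟨⟨j, k⟩, v, rfl⟩
  · obtain ⟨a, l', e'⟩ := hl' r.1 r.2
    exact ⟨⟨i r.1, a⟩, l', by
      rw [← Category.assoc, e', Category.assoc, hl, Functor.map_comp, Category.assoc]⟩

theorem isFpqcCover_of_chart (hX : IsAlgSpace X) {ι : Type u} {Xi : ι → Sp S} {g : ∀ i, Xi i ⟶ X}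
    (hXi : ∀ i, IsAlgSpace (Xi i)) {U : Over S} {p : (yon S).obj U ⟶ X} (hp : RepWith @Etale p)
    (hps : RepWith @Surjective p) {Ui : ι → Sp S} {q : ∀ i, Ui i ⟶ (yon S).obj U}
    {p' : ∀ i, Ui i ⟶ Xi i} (sq : ∀ i, IsPullback (q i) (p' i) p (g i))
    (h : IsFpqcCover Ui q) : IsFpqcCover Xi g := by
  refine ⟨fun i => locP_of_target_cover etLocal_flat (hXi i) hX p hp hps (sq i).flip (h.1 i),
    fun Z hZ k => ?_⟩
  have hr := hX.representable_from_yon p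
  have sqP := hr.isPullback' k
  let π := (hr.snd k).left
  have : Etale π := hp.property_snd k
  have : Surjective π := hps.property _ _ _ (hr.isPullback k)
  have : IsAffine Z.left := hZ
  obtain ⟨σ, hσ⟩ := isCompact_univ.elim_finite_subcover
    (fun B : (hr.pullback k).left.affineOpens => π '' (B.1 : Set (hr.pullback k).left))
    (fun B => π.isOpenMap _ B.1.2) (fun z _ => by
      obtain ⟨t, rfl⟩ := π.surjective z
      obtain ⟨_, ⟨B, hB, rfl⟩, ht, -⟩ := (hr.pullback k).left.isBasis_affineOpens.exists_subset_of_mem_open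
        (Set.mem_univ t) isOpen_univ
      exact Set.mem_iUnion.2 ⟨⟨B, hB⟩, t, ht, rfl⟩)
  obtain ⟨n, ⟨e⟩⟩ := Finite.exists_equiv_fin σ
  let A : Fin n → Over S := fun j => Over.mk ((e.symm j).1.1.ι ≫ (hr.pullback k).hom)
  let a : ∀ j, A j ⟶ hr.pullback k := fun j => Over.homMk (e.symm j).1.1.ι
  choose m W c hW hc hs hl using fun j =>
    h.2 (A j) (e.symm j).1.2 ((yon S).map (a j ≫ hr.fst' k))
  refine mk_standard (ι' := Σ j, Fin (m j)) (fun r => W r.1 r.2)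
    (fun r => c r.1 r.2 ≫ a r.1 ≫ hr.snd k) (fun r => hW r.1 r.2) (fun r => ?_) (fun z => ?_)
    (fun r => ?_)
  · exact MorphismProperty.comp_mem @Flat _ _ (hc r.1 r.2)
      (inferInstance : Flat ((e.symm r.1).1.1.ι ≫ π))
  · obtain ⟨B, hB, t, ht, rfl⟩ := Set.mem_iUnion₂.1 (hσ (Set.mem_univ z))
    obtain ⟨j, hj⟩ : ∃ j, (e.symm j) = ⟨B, hB⟩ := ⟨e ⟨B, hB⟩, e.symm_apply_apply _⟩
    obtain ⟨w, hw⟩ : ∃ w : (A j).left, (a j).left w = t := by
      show t ∈ Set.range (e.symm j).1.1.ι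
      rw [hj, Scheme.Opens.range_ι]
      exact ht
    obtain ⟨l, v, rfl⟩ := hs j w
    exact ⟨⟨j, l⟩, v, by rw [← hw]; rfl⟩
  · obtain ⟨i, l, e'⟩ := hl r.1 r.2
    refine ⟨i, l ≫ p' i, ?_⟩
    rw [Category.assoc, ← (sq i).w, ← Category.assoc, e']
    simp only [Functor.map_comp, Category.assoc, sqP.w]

end Groth.Agent.AlgSpLib
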