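import Groth.Agent.AlgSpLib.ModEtAB
import Groth.Agent.AlgSpLib.QCohEtPush
import Groth.Agent.AlgSpLib.QCohEtPushQcqs
import Groth.Agent.AlgSpLib.WeakAssEtPush
import Groth.Agent.Stk19b.QPullEt
import Mathlib.CategoryTheory.Abelian.GrothendieckCategory.Coseparator
import Mathlib.CategoryTheory.Adjunction.AdjointFunctorTheorems

/-!
# Inverse image of modules on small etale sites; colimits of quasi-coherent modules

Existence of the inverse image, preservation of finite presentation, sections of colimits.
-/

universe u

open CategoryTheory CategoryTheory.Limits AlgebraicGeometry Opposite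
open AlgSp

noncomputable section

set_option linter.style.haveILetI false

namespace Groth.Agent.AlgSpLib.QCohEt

set_option backward.isDefEq.respectTransparency.types false
set_option backward.isDefEq.respectTransparency false

variable {S : Scheme.{u}} {X Y : Sp S} {f : X ⟶ Y} (hf : Representable f)

theorem preservesLimits_pushModEt : PreservesLimitsOfSize.{u + 1, u + 1} (pushModEt hf) := by
  refine ⟨fun {J} _ => ⟨fun {K} => ⟨fun {c} hc => ⟨?_⟩⟩⟩⟩
  refine isLimitOfReflects (SheafOfModules.forget _) (PresheafOfModules.evaluationJointlyReflectsLimits _ _ fun E => ?_)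
  exact isLimitOfPreserves (ModuleCat.restrictScalars ((bcRingHom hf).hom.app E).hom)
    (isLimitOfPreserves (SheafOfModules.evaluation (OEtRing X) ((EtOver.bc hf).op.obj E)) hc)

/-- inverse image of modules exists -/
theorem isRightAdjoint_pushModEt : (SheafOfModules.pushforward.{u + 1} (bcRingHom hf)).IsRightAdjoint := by
  haveI : PreservesLimitsOfSize.{u + 1, u + 1} (SheafOfModules.pushforward.{u + 1} (bcRingHom hf)) :=
    preservesLimits_pushModEt hf
  exact isRightAdjoint_of_preservesLimits_of_isCoseparating.{u + 1} (isCoseparator_coseparator (ModEt X)) _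

/-- inverse image preserves finite presentation -/
theorem isFinitePresentation_pull (hY : IsAlgSpace Y)
    [(SheafOfModules.pushforward.{u + 1} (bcRingHom hf)).IsRightAdjoint]
    (G : ModEt Y) [G.IsFinitePresentation] : ((pullModEt hf).obj G).IsFinitePresentation := by
  obtain ⟨q, hq⟩ := SheafOfModules.IsFinitePresentation.exists_quasicoherentData (M := G)
  let P : ∀ i, (((pullModEt hf).obj G).over ((EtOver.bc hf).obj (q.X i))).Presentation := fun i =>
    Stk19b.QPull.presentationOfCorep (Over.post (EtOver.bc hf))
      (Stk19b.QPull.phiOver (EtOver.bc hf) (bcRingHom hf) (q.X i)) (q.presentation i) _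
      (Stk19b.QPull.overCorep (EtOver.bc hf) (bcRingHom hf) G (q.X i))
      (Stk19b.QPull.overCorep_comp (EtOver.bc hf) (bcRingHom hf) G (q.X i))
  refine @SheafOfModules.IsFinitePresentation.mk _ _ _ (OEtRing X) _ _ _
    ⟨@SheafOfModules.QuasicoherentData.mk _ _ _ (OEtRing X) _ _ _ q.I (fun i => (EtOver.bc hf).obj (q.X i))
      (Stk19b.QPullEt.coversTop_bc hf hY q.X q.coversTop) P,
      @SheafOfModules.QuasicoherentData.IsFinitePresentation.mk _ _ _ (OEtRing X) _ _ _ _ fun i => ?_⟩
  exact @SheafOfModules.Presentation.IsFinite.mk _ _ _ _ _ _ _ _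
    ⟨inferInstanceAs (Finite (q.presentation i).generators.I)⟩
    ⟨inferInstanceAs (Finite (q.presentation i).relations.I)⟩

/-- direct image along an affine morphism is faithful out of quasi-coherent modules -/
theorem eq_zero_of_pushModEt_map (hY : IsAlgSpace Y) (haff : IsAffineMor f) {M K : ModEt X} [M.IsQuasicoherent]
    (g : M ⟶ K) (h : (pushModEt hf).map g = 0) : g = 0 := by
  have key : ∀ (W : EtOver X) [IsAff W] (m : Sec M W), secMap g W m = 0 := by
    intro W hW m
    obtain ⟨ι, hι, Z, z, hZ, hz, hc⟩ := exists_finite_affine_refinement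
      ((Stk19b.QPullEt.coversTop_bc hf hY _ (coversTop_affine Y)) W)
    haveI := hZ
    refine mapSec_ext K z hc _ _ fun j => ?_
    obtain ⟨⟨E, hE⟩, ⟨k⟩⟩ := (Sieve.mem_ofObjects_iff ..).1 (hz j)
    haveI := hE
    haveI := isAff_bcObj hf haff E
    rw [map_zero, mapSec_secMap]
    generalize mapSec M (z j) m = m'
    obtain ⟨x, rfl⟩ := (isBC M (EtOver.bcObj hf E) (Over.mk k) (hZ j)).surjective m'
    refine (bcMap_natural g (EtOver.bcObj hf E) (Over.mk k) x).trans ?_
    have h0 : secMap g (EtOver.bcObj hf E) = 0 := by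
      ext n
      exact congrArg (fun φ : (pushModEt hf).obj M ⟶ (pushModEt hf).obj K => φ.val.app (op E) n) h
    rw [h0, LinearMap.lTensor_zero, LinearMap.zero_apply, map_zero]
  refine SheafOfModules.Hom.ext (PresheafOfModules.hom_ext fun W => ?_)
  ext m
  obtain ⟨ι, Z, z, hZ, hc⟩ := exists_affine_cover W.unop
  refine mapSec_ext K z hc _ _ fun j => ?_
  show mapSec K (z j) (secMap g W.unop m) = mapSec K (z j) 0
  rw [map_zero, mapSec_secMap]
  exact @key (Z j) (hZ j) _

/-- the counit is an epimorphism on quasi-coherent modules -/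
theorem epi_counit (hY : IsAlgSpace Y) (haff : IsAffineMor f)
    [(SheafOfModules.pushforward.{u + 1} (bcRingHom hf)).IsRightAdjoint] (M : ModEt X) [M.IsQuasicoherent] :
    Epi ((pullPushAdjModEt hf).counit.app M) := by
  refine Preadditive.epi_of_cancel_zero _ fun {K} g hg => @eq_zero_of_pushModEt_map _ _ _ _ hf hY haff M _ ‹M.IsQuasicoherent› g ?_
  have h := congrArg ((pullPushAdjModEt hf).homEquiv ((pushModEt hf).obj M) K) hg
  rw [Adjunction.homEquiv_naturality_right, Adjunction.homEquiv_unit, Adjunction.homEquiv_unit] at h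
  erw [(pullPushAdjModEt hf).right_triangle_components M, Category.id_comp] at h
  exact h.trans (by rw [Functor.map_zero, comp_zero])

section colimits

variable {J : Type (u + 1)} [Category.{u + 1} J] (G : J ⥤ ModEt X) (c : EtOver X) [IsAff c]

/-- colimits of quasi-coherent modules are attached on affine objects -/
theorem exists_colimit_over (hq : ∀ j, (G.obj j).IsQuasicoherent) :
    ∃ N : J ⥤ ModuleCat.{u + 1} (ΓE c), (∀ j, N.obj j = Sec (G.obj j) c) ∧
      Nonempty ((L c).obj (colimit N) ≅ (colimit G).over c) := by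
  refine ⟨G ⋙ resModEt c ⋙ Γtop c, fun j => rfl, ?_⟩
  haveI : ∀ j, IsIso ((adj c).counit.app ((resModEt c).obj (G.obj j))) := fun j =>
    haveI := hq j
    isIso_counit_of_isBC (G.obj j) (isBC (G.obj j) c)
  haveI : PreservesColimitsOfSize.{u + 1, u + 1} (L c) := (adj c).leftAdjoint_preservesColimits
  let η' : (G ⋙ resModEt c ⋙ Γtop c) ⋙ L c ≅ G ⋙ resModEt c :=
    NatIso.ofComponents (fun j => asIso ((adj c).counit.app ((resModEt c).obj (G.obj j))))
      fun g => (adj c).counit.naturality ((resModEt c).map (G.map g))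
  exact ⟨preservesColimitIso (L c) _ ≪≫ HasColimit.isoOfNatIso η' ≪≫ (preservesColimitIso (resModEt c) G).symm⟩

omit [IsAff c] in
/-- colimits of quasi-coherent modules are quasi-coherent -/
theorem isQuasicoherent_colimit (hq : ∀ j, (G.obj j).IsQuasicoherent) : (colimit G).IsQuasicoherent := by
  refine isQuasicoherent_of_forall _ fun d hd => ?_
  haveI := hd
  obtain ⟨N, -, ⟨e⟩⟩ := exists_colimit_over G d hq
  exact isBC_of_essImage _ ⟨colimit N, ⟨e⟩⟩

end colimits

theorem finitePresentation_pi {R : Type*} [CommRing R] {ι : Type*} [Finite ι] :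
    ∀ (M : ι → Type (u + 1)) [∀ i, AddCommGroup (M i)] [∀ i, Module R (M i)]
      [∀ i, Module.FinitePresentation R (M i)], Module.FinitePresentation R (∀ i, M i) := by
  induction ι using Finite.induction_empty_option with
  | of_equiv e ih =>
    intro M _ _ _
    haveI := ih (fun a => M (e a))
    exact Module.FinitePresentation.of_equiv (LinearEquiv.piCongrLeft R M e)
  | h_empty => intro M _ _ _; exact Module.finitePresentation_of_projective R _
  | h_option ih =>
    intro M _ _ _
    haveI := ih (fun a => M (some a))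
    exact Module.FinitePresentation.of_equiv (LinearEquiv.piOptionEquivProd R (M := M)).symm

/-- finite sums of finitely presented modules are finitely presented -/
theorem isFinitePresentation_sigma {ι : Type (u + 1)} [Finite ι] (A : ι → ModEt X)
    (hA : ∀ i, (A i).IsFinitePresentation) : (∐ A).IsFinitePresentation := by
  classical
  haveI := Fintype.ofFinite ι
  have hq : ∀ j, ((Discrete.functor A).obj j).IsQuasicoherent := fun j => haveI := hA j.as; inferInstanceAs ((A j.as).IsQuasicoherent)
  haveI := isQuasicoherent_colimit (Discrete.functor A) hq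
  refine isFinitePresentation_of_forall _ (fun E hE => by haveI := hE; exact isBC _ E) fun E hE => ?_
  haveI := hE
  obtain ⟨N, hN, ⟨e⟩⟩ := exists_colimit_over (Discrete.functor A) E hq
  haveI : ∀ i, Module.FinitePresentation (ΓE E) (N.obj ⟨i⟩) := fun i => by
    rw [hN]
    haveI := hA i
    exact finitePresentation_sec (A i) E
  haveI := finitePresentation_pi (R := ΓE E) (fun i => N.obj ⟨i⟩)
  let s : colimit N ≅ ModuleCat.of (ΓE E) (DirectSum ι fun i => N.obj ⟨i⟩) :=
    HasColimit.isoOfNatIso (Discrete.natIsoFunctor (F := N)) ≪≫ ModuleCat.coprodIsoDirectSum.{u + 1, u + 1, u + 1} (fun i => N.obj ⟨i⟩)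
  haveI : Module.FinitePresentation (ΓE E) (DirectSum ι fun i => N.obj ⟨i⟩) :=
    Module.FinitePresentation.of_equiv (DirectSum.linearEquivFunOnFintype (ΓE E) ι fun i => N.obj ⟨i⟩).symm
  haveI : Module.FinitePresentation (ΓE E) (colimit N : ModuleCat.{u + 1} (ΓE E)) :=
    Module.FinitePresentation.of_equiv s.toLinearEquiv.symm
  let r : (colimit N : ModuleCat.{u + 1} (ΓE E)) ≅ (Γtop E).obj ((colimit (Discrete.functor A)).over E) :=
    asIso ((adj E).unit.app (colimit N)) ≪≫ (Γtop E).mapIso e
  exact Module.FinitePresentation.of_equiv r.toLinearEquiv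

/-- cokernels of finitely presented modules are finitely presented -/
theorem isFinitePresentation_cokernel {A B : ModEt X} [A.IsFinitePresentation] [B.IsFinitePresentation] (φ : A ⟶ B) :
    (cokernel φ).IsFinitePresentation := by
  refine isFinitePresentation_of_forall _ (fun E hE => by haveI := hE; exact (cokernel_sec φ E (isBC A E) (isBC B E)).1)
    fun E hE => ?_
  haveI := hE
  haveI := finitePresentation_sec A E
  haveI := finitePresentation_sec B E
  let F := SheafOfModules.overFunctor.{u + 1} (OEtRing X) E
  haveI : F.IsLeftAdjoint := (SheafOfModules.overPushforwardOverAdj E).isLeftAdjoint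
  haveI : F.PreservesZeroMorphisms := Functor.preservesZeroMorphisms_of_isLeftAdjoint _
  haveI : (L E).PreservesZeroMorphisms := Functor.preservesZeroMorphisms_of_isLeftAdjoint _
  haveI := isIso_counit_of_isBC A (isBC A E)
  haveI := isIso_counit_of_isBC B (isBC B E)
  let t : (Γtop E).obj (F.obj A) ⟶ (Γtop E).obj (F.obj B) := (Γtop E).map (F.map φ)
  let e : F.obj (cokernel φ) ≅ (L E).obj (cokernel t) :=
    PreservesCokernel.iso F φ ≪≫
      cokernel.mapIso (F.map φ) ((L E).map t) (asIso ((adj E).counit.app (F.obj A))).symm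
        (asIso ((adj E).counit.app (F.obj B))).symm (by
          rw [Iso.symm_hom, Iso.symm_hom, asIso_inv, asIso_inv, IsIso.eq_inv_comp, ← Category.assoc,
            IsIso.comp_inv_eq]
          exact ((adj E).counit.naturality (F.map φ)).symm) ≪≫
      (PreservesCokernel.iso (L E) t).symm
  haveI : Module.FinitePresentation (ΓE E) ((Sec B E) ⧸ LinearMap.range t.hom) :=
    haveI := finite_sec A E
    Module.finitePresentation_of_surjective (LinearMap.range t.hom).mkQ (Submodule.mkQ_surjective _)
      ((Submodule.ker_mkQ (LinearMap.range t.hom)).symm ▸ Submodule.fg_range t.hom)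
  exact Module.FinitePresentation.of_equiv
    ((ModuleCat.cokernelIsoRangeQuotient t).symm ≪≫ asIso ((adj E).unit.app (cokernel t)) ≪≫
      ((Γtop E).mapIso e).symm).toLinearEquiv

end Groth.Agent.AlgSpLib.QCohEt
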