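import Groth.Agent.Stk19b.StalkPoint
import Groth.Agent.Et18.IntegralLift
import Groth.Prelude.Def_AlgSpOX2

/-!
Direct images on small etale sites along integral universally injective morphisms: stalks.
-/

set_option autoImplicit false

universe w v' u' u

open CategoryTheory CategoryTheory.Limits AlgebraicGeometry Opposite
open AlgSp

noncomputable section

namespace Groth.Agent.AlgSpLib.PushEtStalk

set_option backward.isDefEq.respectTransparency.types false
set_option backward.isDefEq.respectTransparency false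

open Groth.Agent.Stk19b

variable {S : Scheme.{u}} {X Y : Sp S} {f : X ⟶ Y}

/-- the geometric lift to a base change -/
def toBc (hf : Representable f) {p : FieldPt X} {E : EtOver Y} (v : (FieldPt.liftsTo (p.map f)).obj E) :
    (FieldPt.liftsTo p).obj ((EtOver.bc hf).obj E) :=
  ⟨hf.lift p.toHom v.1 ((v.2.trans (FieldPt.toHom_map f p)).symm), hf.lift_fst _ _ _⟩

theorem toBc_map (hf : Representable f) {p : FieldPt X} {E E' : EtOver Y} (g : E ⟶ E')
    (v : (FieldPt.liftsTo (p.map f)).obj E) :
    (FieldPt.liftsTo p).map ((EtOver.bc hf).map g) (toBc hf v) =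
      toBc hf ((FieldPt.liftsTo (p.map f)).map g v) := by
  refine Subtype.ext (hf.hom_ext ?_ ?_)
  · refine Eq.trans ?_ (hf.lift_fst _ _ _).symm
    show (yon S).map (_ ≫ (EtOver.bcMap hf g).hom.left) ≫ _ = _
    rw [Functor.map_comp, Category.assoc, EtOver.map_bcMap_fst]
    exact hf.lift_fst _ _ _
  · refine Eq.trans ?_ (hf.lift_snd _ _ _).symm
    show (_ ≫ (EtOver.bcMap hf g).hom.left) ≫ _ = _
    rw [Category.assoc, EtOver.bcMap_snd]
    exact (Category.assoc _ _ _).symm.trans (congrArg (· ≫ g.hom.left) (hf.lift_snd _ _ _))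

/-- the lift of the image point from a lift to a base change -/
def ofBc (hf : Representable f) {p : FieldPt X} {E : EtOver Y}
    (v : (FieldPt.liftsTo p).obj ((EtOver.bc hf).obj E)) : (FieldPt.liftsTo (p.map f)).obj E :=
  ⟨v.1 ≫ hf.snd E.obj.hom, by
    rw [FieldPt.toHom_map, Functor.map_comp, Category.assoc]
    exact (congrArg ((yon S).map v.1 ≫ ·) (hf.w E.obj.hom).symm).trans ((Category.assoc _ _ _).symm.trans
      (congrArg (· ≫ f) v.2))⟩

theorem toBc_ofBc (hf : Representable f) {p : FieldPt X} {E : EtOver Y}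
    (v : (FieldPt.liftsTo p).obj ((EtOver.bc hf).obj E)) : toBc hf (ofBc hf v) = v :=
  Subtype.ext (hf.hom_ext ((hf.lift_fst _ _ _).trans v.2.symm) (hf.lift_snd _ _ _))

theorem ofBc_map (hf : Representable f) {p : FieldPt X} {E E' : EtOver Y} (g : E ⟶ E')
    (v : (FieldPt.liftsTo p).obj ((EtOver.bc hf).obj E)) :
    (FieldPt.liftsTo (p.map f)).map g (ofBc hf v) =
      ofBc hf ((FieldPt.liftsTo p).map ((EtOver.bc hf).map g) v) := by
  refine Subtype.ext ?_
  show (v.1 ≫ hf.snd E.obj.hom) ≫ g.hom.left = (v.1 ≫ (EtOver.bcMap hf g).hom.left) ≫ hf.snd E'.obj.hom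
  rw [Category.assoc, Category.assoc]
  exact congrArg (v.1 ≫ ·) (EtOver.bcMap_snd hf g).symm

section lifting

variable (hi : RepWith @IsIntegralHom f) (hu : RepWith @UniversallyInjective f)
include hi hu

/-- etale neighbourhoods over a base change come from the target -/
theorem exists_lift_nbhd {p : FieldPt X} (hp : p.IsGeometric) (E : EtOver Y) (W : EtOver X)
    (g : W ⟶ (EtOver.bc hi.1).obj E) (w : (FieldPt.liftsTo p).obj W) :
    ∃ (E' : EtOver Y) (a : E' ⟶ E) (x : (FieldPt.liftsTo p).obj ((EtOver.bc hi.1).obj E'))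
      (h : (EtOver.bc hi.1).obj E' ⟶ W),
        h ≫ g = (EtOver.bc hi.1).map a ∧ (FieldPt.liftsTo p).map h x = w := by
  have : IsAlgClosed p.K := hp
  have hI : IsIntegralHom (hi.1.snd E.obj.hom).left := hi.property_snd _
  have hU : UniversallyInjective (hi.1.snd E.obj.hom).left := hu.property_snd E.obj.hom
  let iU : ((EtOver.bc hi.1).obj E).obj.left.left ⟶ E.obj.left.left := (hi.1.snd E.obj.hom).left
  have : IsIntegralHom iU := hI
  have : UniversallyInjective iU := hU
  let V : E.obj.left.left.Etale := Scheme.Etale.mk (𝟙 E.obj.left.left)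
  have hinj : Function.Injective (pullback.fst V.hom iU : ((EtCoh.bc iU).obj V).left ⟶ V.left) := by
    have : UniversallyInjective (pullback.fst V.hom iU) :=
      MorphismProperty.pullback_fst (P := @UniversallyInjective) _ _ inferInstance
    exact (pullback.fst V.hom iU).injective
  have : Etale g.hom.left.left := EtOver.etale_left g
  let g₀ : Scheme.Etale.mk g.hom.left.left ⟶ (EtCoh.bc iU).obj V := MorphismProperty.Over.homMk
    (pullback.lift (g.hom.left.left ≫ iU) g.hom.left.left (Category.comp_id _)) (pullback.lift_snd _ _ _)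
  obtain ⟨V', -, x, h, -, hx⟩ := Et18.exists_bc_lift_of_integral (f := iU)
    (w.1.left ≫ g.hom.left.left) V hinj (Scheme.Etale.mk g.hom.left.left) g₀ (Over.homMk w.1.left rfl)
  let E' : EtOver Y := (EtOver.ofChart E.obj.hom E.property).obj V'
  let a : E' ⟶ E := EtOver.homMk (EtOver.homOfEtale V') rfl
  have sq : IsPullback (EtOver.bcMap hi.1 a).hom.left.left (hi.1.snd E'.obj.hom).left iU V'.hom :=
    EtOver.isPullback_bcMap_left hi.1 a
  let θ := sq.flip.isoPullback
  have hθ : θ.hom ≫ pullback.snd V'.hom iU = (EtOver.bcMap hi.1 a).hom.left.left :=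
    sq.flip.isoPullback_hom_snd
  have hh : h.left ≫ g.hom.left.left = pullback.snd V'.hom iU := Over.w h.hom
  have hm : (θ.hom ≫ h.left) ≫ g.hom.left.left = (EtOver.bcMap hi.1 a).hom.left.left := by
    rw [Category.assoc, hh, hθ]
  let h' : ((EtOver.bc hi.1).obj E').obj.left ⟶ W.obj.left := Over.homMk (θ.hom ≫ h.left) (by
    rw [← Over.w g.hom.left, ← Category.assoc, hm]
    exact Over.w (EtOver.bcMap hi.1 a).hom.left)
  have hh' : h' ≫ g.hom.left = (EtOver.bcMap hi.1 a).hom.left := Over.OverMorphism.ext hm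
  have hwh : (yon S).map h' ≫ W.obj.hom = ((EtOver.bc hi.1).obj E').obj.hom := by
    rw [← EtOver.w g, ← Category.assoc, ← Functor.map_comp, hh']
    exact EtOver.w (EtOver.bcMap hi.1 a)
  have hxh : x.left ≫ h.left = w.1.left := congrArg (fun m => m.left) hx
  have hxl : (x.left ≫ θ.inv) ≫ θ.hom ≫ h.left = w.1.left := by
    rw [Category.assoc, θ.inv_hom_id_assoc, hxh]
  let x' : p.pt ⟶ ((EtOver.bc hi.1).obj E').obj.left := Over.homMk (x.left ≫ θ.inv) (by
    rw [← Over.w h', ← Over.w w.1, ← Category.assoc]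
    exact congrArg (· ≫ W.obj.left.hom) hxl)
  have hx' : x' ≫ h' = w.1 := Over.OverMorphism.ext hxl
  refine ⟨E', a, ⟨x', ?_⟩, EtOver.homMk h' hwh, EtOver.hom_ext _ _ hh', Subtype.ext hx'⟩
  rw [← hwh, ← Category.assoc, ← Functor.map_comp, hx']
  exact w.2

/-- every neighbourhood is dominated by a base change -/
theorem exists_nbhd_bc (hY : IsAlgSpace Y) {p : FieldPt X} (hp : p.IsGeometric) (W : EtOver X)
    (w : (FieldPt.liftsTo p).obj W) :
    ∃ (E : EtOver Y) (x : (FieldPt.liftsTo p).obj ((EtOver.bc hi.1).obj E))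
      (h : (EtOver.bc hi.1).obj E ⟶ W), (FieldPt.liftsTo p).map h x = w := by
  obtain ⟨⟨E, v⟩⟩ := EtNbhd.exists_nbhd hY (p.map f) hp
  obtain ⟨z, hz1, -⟩ := EtNbhd.exists_prod_lift (p := p) ⟨W, w⟩ ⟨(EtOver.bc hi.1).obj E, toBc hi.1 v⟩
  obtain ⟨E', a, x, h, -, hx⟩ := exists_lift_nbhd hi hu hp E _ (EtOver.prodSnd W ((EtOver.bc hi.1).obj E)) z
  refine ⟨E', x, h ≫ EtOver.prodFst _ _, ?_⟩
  rw [Functor.map_comp_apply, hx]
  exact hz1

end lifting

variable {A : Type u'} [Category.{v'} A] [HasColimitsOfSize.{u, u} A]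
variable (hf : Representable f) (hX : IsAlgSpace X) (hY : IsAlgSpace Y) (p : FieldPt X) (hp : p.IsGeometric)

/-- the comparison of the stalk of a direct image with the stalk -/
def pushStalk (F : EtSh X A) :
    (EtNbhd.point hY (p.map f) hp).presheafFiber.obj ((pushEt hf A).obj F).obj ⟶
      (EtNbhd.point hX p hp).presheafFiber.obj F.obj :=
  GrothendieckTopology.Point.presheafFiberDesc (EtNbhd.point hY (p.map f) hp)
    (fun E x => (EtNbhd.point hX p hp).toPresheafFiber ((EtOver.bc hf).obj E) (toBc hf x) F.obj)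
    fun E E' g x => by
      show F.obj.map ((EtOver.bc hf).map g).op ≫ _ = _
      rw [GrothendieckTopology.Point.toPresheafFiber_w]
      exact congrArg (fun r => (EtNbhd.point hX p hp).toPresheafFiber _ r F.obj) (toBc_map hf g x)

theorem toPresheafFiber_pushStalk (F : EtSh X A) (E : EtOver Y) (x : (FieldPt.liftsTo (p.map f)).obj E) :
    (EtNbhd.point hY (p.map f) hp).toPresheafFiber E x ((pushEt hf A).obj F).obj ≫ pushStalk hf hX hY p hp F =
      (EtNbhd.point hX p hp).toPresheafFiber ((EtOver.bc hf).obj E) (toBc hf x) F.obj :=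
  GrothendieckTopology.Point.toPresheafFiber_presheafFiberDesc _ _ _ _ _

theorem pushStalk_naturality {F G : EtSh X A} (a : F ⟶ G) :
    (EtNbhd.point hY (p.map f) hp).presheafFiber.map ((pushEt hf A).map a).hom ≫ pushStalk hf hX hY p hp G =
      pushStalk hf hX hY p hp F ≫ (EtNbhd.point hX p hp).presheafFiber.map a.hom := by
  refine GrothendieckTopology.Point.presheafFiber_hom_ext _ fun E x => ?_
  rw [GrothendieckTopology.Point.toPresheafFiber_naturality_assoc, toPresheafFiber_pushStalk,
    reassoc_of% (toPresheafFiber_pushStalk hf hX hY p hp F E x),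
    GrothendieckTopology.Point.toPresheafFiber_naturality]
  rfl

section concrete

variable {FA : A → A → Type*} {CA : A → Type (u + 1)} [∀ P Q, FunLike (FA P Q) (CA P) (CA Q)]
  [ConcreteCategory.{u + 1} A FA] [PreservesFilteredColimitsOfSize.{u, u} (forget A)]

omit [PreservesFilteredColimitsOfSize.{u, u} (forget A)] in
theorem pushStalk_apply (F : EtSh X A) (E : EtOver Y) (x : (FieldPt.liftsTo (p.map f)).obj E)
    (s : ToType (F.obj.obj (op ((EtOver.bc hf).obj E)))) :
    pushStalk hf hX hY p hp F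
      ((EtNbhd.point hY (p.map f) hp).toPresheafFiber E x ((pushEt hf A).obj F).obj s) =
      (EtNbhd.point hX p hp).toPresheafFiber ((EtOver.bc hf).obj E) (toBc hf x) F.obj s :=
  (ConcreteCategory.comp_apply _ _ s).symm.trans
    (congrArg (fun t => t s) (toPresheafFiber_pushStalk hf hX hY p hp F E x))

variable (hi : RepWith @IsIntegralHom f) (hu : RepWith @UniversallyInjective f)
include hi hu

/-- the stalk of a direct image is the stalk -/
theorem pushStalk_bijective (F : EtSh X A) : Function.Bijective (pushStalk hi.1 hX hY p hp F) := by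
  let Φ := EtNbhd.point hX p hp
  let Φ' := EtNbhd.point hY (p.map f) hp
  constructor
  · intro z z' hzz
    obtain ⟨E, x, s, t, rfl, rfl⟩ := Φ'.toPresheafFiber_jointly_surjective₂ z z'
    rw [pushStalk_apply hi.1 hX hY p hp F E x s, pushStalk_apply hi.1 hX hY p hp F E x t,
      Φ.toPresheafFiber_eq_iff'] at hzz
    obtain ⟨W, g, w, hw, hst⟩ := hzz
    obtain ⟨E', a, x', h, hg, hx'⟩ := exists_lift_nbhd hi hu hp E W g w
    rw [Φ'.toPresheafFiber_eq_iff']
    refine ⟨E', a, ofBc hi.1 x', ?_, ?_⟩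
    · show (FieldPt.liftsTo (p.map f)).map a (ofBc hi.1 x') = x
      rw [ofBc_map, ← hg, Functor.map_comp_apply, hx']
      show ofBc hi.1 (Φ.fiber.map g w) = x
      rw [hw]
      exact Subtype.ext (hi.1.lift_snd _ _ _)
    · show F.obj.map ((EtOver.bc hi.1).map a).op s = F.obj.map ((EtOver.bc hi.1).map a).op t
      rw [← hg, op_comp, Functor.map_comp, ConcreteCategory.comp_apply, ConcreteCategory.comp_apply, hst]
  · intro z
    obtain ⟨W, w, s, rfl⟩ := Φ.toPresheafFiber_jointly_surjective z
    obtain ⟨E, x, h, hx⟩ := exists_nbhd_bc hi hu hY hp W w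
    refine ⟨Φ'.toPresheafFiber E (ofBc hi.1 x) ((pushEt hi.1 A).obj F).obj (F.obj.map h.op s), ?_⟩
    refine (pushStalk_apply hi.1 hX hY p hp F E (ofBc hi.1 x) _).trans ?_
    rw [toBc_ofBc, GrothendieckTopology.Point.toPresheafFiber_w_apply]
    exact congrArg (fun r => Φ.toPresheafFiber W r F.obj s) hx

end concrete

end Groth.Agent.AlgSpLib.PushEtStalk
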