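import Groth.Agent.AlgSpLib.PushEtStalk
import Mathlib.CategoryTheory.Sites.Point.Skyscraper

/-!
The essential image of direct images on small etale sites along integral universally injective morphisms.
-/

set_option autoImplicit false

universe v' u' u

open CategoryTheory CategoryTheory.Limits AlgebraicGeometry Opposite
open AlgSp

noncomputable section

namespace Groth.Agent.AlgSpLib.PushEtStalk

set_option backward.isDefEq.respectTransparency.types false
set_option backward.isDefEq.respectTransparency false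

open Groth.Agent.Stk19b

variable {S : Scheme.{u}} {X Y : Sp S} {f : X ⟶ Y}

/-- a point of a base change lies over the points of the image -/
theorem exists_over_of_mem_range (hf : Representable f) (E : EtOver Y) (e : ↥E.obj.left.left)
    (h : Points.ofPt E.obj.hom e ∈ Set.range (Points.map f)) :
    ∃ e' : ↥(hf.pullback E.obj.hom).left, (hf.snd E.obj.hom).left e' = e := by
  obtain ⟨y, hy⟩ := h
  obtain ⟨z, -, hz⟩ := exists_point_of_isPullback (hf.isPullback E.obj.hom)
    (x := y) (y := Points.ofScheme _ e) (hy.trans (Points.ofPt_eq_map_ofScheme _ _))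
  obtain ⟨e', rfl⟩ := (Points.schemeEquiv _).surjective z
  exact ⟨e', (Points.schemeEquiv E.obj.left).injective ((map_yon_map_ofScheme _ e').symm.trans hz)⟩

section stalk

variable {A : Type u'} [Category.{v'} A] [HasColimitsOfSize.{u, u} A] [HasProducts.{u} A]
  (hX : IsAlgSpace X) (hY : IsAlgSpace Y) (hf : Representable f) (p : FieldPt X) (hp : p.IsGeometric)
  [((EtOver.bc hf).sheafPushforwardContinuous A (etTop Y) (etTop X)).IsRightAdjoint]

/-- the stalk of an inverse image is the stalk at the image point -/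
theorem isIso_unit_pushStalk (G : EtSh Y A) :
    IsIso ((EtNbhd.point hY (p.map f) hp).presheafFiber.map ((pullPushAdjEt hf A).unit.app G).hom ≫
      pushStalk hf hX hY p hp ((pullEt hf A).obj G)) := by
  let Φ := EtNbhd.point hX p hp
  let Φ' := EtNbhd.point hY (p.map f) hp
  let adj := pullPushAdjEt hf A
  let θ : Φ'.presheafFiber.obj G.obj ⟶ Φ.presheafFiber.obj ((pullEt hf A).obj G).obj := Φ'.presheafFiber.map (adj.unit.app G).hom ≫ pushStalk hf hX hY p hp ((pullEt hf A).obj G)
  have hθ : ∀ (E : EtOver Y) (x : (FieldPt.liftsTo (p.map f)).obj E),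
      Φ'.toPresheafFiber E x G.obj ≫ θ =
        (adj.unit.app G).hom.app (op E) ≫ Φ.toPresheafFiber _ (toBc hf x) ((pullEt hf A).obj G).obj := fun E x => by
    refine (Φ'.toPresheafFiber_naturality_assoc (adj.unit.app G).hom E x _).trans ?_
    exact congrArg (fun r => (adj.unit.app G).hom.app (op E) ≫ r)
      (toPresheafFiber_pushStalk hf hX hY p hp _ E x)
  -- the universal property
  have hinj : ∀ (M : A) (k k' : Φ.presheafFiber.obj ((pullEt hf A).obj G).obj ⟶ M), θ ≫ k = θ ≫ k' → k = k' := by
    intro M k k' h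
    let sky : EtSh X A := ⟨Φ.skyscraperPresheaf M, Φ.isSheaf_skyscraperPresheaf M⟩
    let kk : (pullEt hf A).obj G ⟶ sky := ⟨Φ.skyscraperPresheafHomEquiv k⟩
    let kk' : (pullEt hf A).obj G ⟶ sky := ⟨Φ.skyscraperPresheafHomEquiv k'⟩
    suffices kk = kk' from Φ.skyscraperPresheafHomEquiv.injective (congrArg (fun m => m.hom) this)
    refine (adj.homEquiv G sky).injective (Sheaf.hom_ext (NatTrans.ext (funext fun E => ?_)))
    rw [Adjunction.homEquiv_unit, Adjunction.homEquiv_unit]
    refine Pi.hom_ext _ _ fun x => ?_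
    have e1 : ∀ l : Φ.presheafFiber.obj ((pullEt hf A).obj G).obj ⟶ M,
        ((adj.unit.app G).hom.app E ≫ (Φ.skyscraperPresheafHomEquiv l).app (op ((EtOver.bc hf).obj E.unop))) ≫
          Pi.π (fun _ => M) x = Φ'.toPresheafFiber E.unop (ofBc hf x) G.obj ≫ θ ≫ l := fun l => by
      rw [Category.assoc, ← Category.assoc (Φ'.toPresheafFiber _ _ _), hθ, toBc_ofBc, Category.assoc]
      exact congrArg ((adj.unit.app G).hom.app E ≫ ·) (Φ.skyscraperPresheafHomEquiv_app_π l _ x)
    exact (e1 k).trans ((congrArg _ h).trans (e1 k').symm)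
  have hsurj : ∀ (M : A) (a : Φ'.presheafFiber.obj G.obj ⟶ M), ∃ k, θ ≫ k = a := by
    intro M a
    let sky : EtSh X A := ⟨Φ.skyscraperPresheaf M, Φ.isSheaf_skyscraperPresheaf M⟩
    let b₀ : G ⟶ (pushEt hf A).obj sky :=
      ⟨{ app := fun E => Pi.lift fun x => Φ'.toPresheafFiber E.unop (ofBc hf x) G.obj ≫ a
         naturality := fun E E' g => by
           refine Pi.hom_ext _ _ fun x => ?_
           rw [Category.assoc, Category.assoc, Pi.lift_π]
           have hmap : ((pushEt hf A).obj sky).obj.map g ≫ Pi.π (fun _ => M) x =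
               Pi.π (fun _ => M) ((FieldPt.liftsTo p).map ((EtOver.bc hf).map g.unop) x) :=
             Pi.map'_comp_π _ _ x |>.trans (Category.comp_id _)
           refine Eq.trans ?_ (congrArg (Pi.lift _ ≫ ·) hmap.symm)
           refine Eq.trans ?_ (Pi.lift_π (fun z => Φ'.toPresheafFiber E.unop (ofBc hf z) G.obj ≫ a)
             ((FieldPt.liftsTo p).map ((EtOver.bc hf).map g.unop) x)).symm
           rw [← ofBc_map hf g.unop x, ← Category.assoc]
           exact congrArg (· ≫ a) (Φ'.toPresheafFiber_w g.unop (ofBc hf x) G.obj) }⟩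
    obtain ⟨b, hb⟩ := (adj.homEquiv G sky).surjective b₀
    refine ⟨Φ.skyscraperPresheafHomEquiv.symm b.hom, Φ'.presheafFiber_hom_ext fun E x => ?_⟩
    refine (Category.assoc _ _ _).symm.trans ((congrArg (· ≫ Φ.skyscraperPresheafHomEquiv.symm b.hom) (hθ E x)).trans ?_)
    rw [Category.assoc, Φ.toPresheafFiber_skyscraperPresheafHomEquiv_symm]
    have e := congrArg (fun m : G ⟶ (pushEt hf A).obj sky => m.hom.app (op E) ≫ Pi.π (fun _ => M) (toBc hf x)) hb
    rw [Adjunction.homEquiv_unit] at e
    refine (Category.assoc _ _ _).symm.trans (e.trans ?_)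
    refine (Pi.lift_π _ _).trans ?_
    congr 2
    exact Subtype.ext (hf.lift_snd _ _ _)
  obtain ⟨k, hk⟩ := hsurj _ (𝟙 _)
  exact ⟨k, hk, hinj _ _ _ (by rw [← Category.assoc]; exact (congrArg (· ≫ θ) hk).trans ((Category.id_comp θ).trans (Category.comp_id θ).symm))⟩

end stalk

section concrete

variable {A : Type u'} [Category.{v'} A] [HasColimitsOfSize.{u, u} A] [HasProducts.{u} A]
  {FA : A → A → Type*} {CA : A → Type (u + 1)} [∀ P Q, FunLike (FA P Q) (CA P) (CA Q)]
  [cc : ConcreteCategory.{u + 1} A FA] [pfc : PreservesFilteredColimitsOfSize.{u, u} (forget A)]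
  [(forget A).ReflectsIsomorphisms]
  [hscY : (etTop Y).HasSheafCompose (forget A)]

/-- a morphism bijective on stalks at enough geometric points is an isomorphism -/
theorem isIso_of_bijective_stalks (hY : IsAlgSpace Y) {G G' : EtSh Y A} (a : G ⟶ G')
    (h : ∀ (E : EtOver Y) (e : ↥E.obj.left.left), ∃ (p : FieldPt Y) (hp : p.IsGeometric)
      (x : (FieldPt.liftsTo p).obj E), x.1.left (IsLocalRing.closedPoint p.K) = e ∧
        Function.Bijective ((EtNbhd.point hY p hp).presheafFiber.map a.hom)) : IsIso a := by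
  have hinj : ∀ E, Function.Injective (a.hom.app E) := fun ⟨E⟩ s t hst => by
    have hsep : Presieve.IsSeparated (etTop Y) (G.obj ⋙ forget A) := by
      apply Presieve.IsSheaf.isSeparated
      rw [← isSheaf_iff_isSheaf_of_type]
      exact ((sheafCompose (etTop Y) (forget A)).obj G).2
    refine (hsep _ (StalkPoint.mem_etTop_of_forall (Presheaf.equalizerSieve s t) fun e => ?_)).ext
      fun V g hg => hg
    obtain ⟨p, hp, x, hx, hb⟩ := h E e
    have h1 : (EtNbhd.point hY p hp).toPresheafFiber E x G.obj s =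
        (EtNbhd.point hY p hp).toPresheafFiber E x G.obj t := hb.1 (by
      rw [GrothendieckTopology.Point.toPresheafFiber_naturality_apply,
        GrothendieckTopology.Point.toPresheafFiber_naturality_apply, hst])
    obtain ⟨V, g, y, hy, hg⟩ := ((EtNbhd.point hY p hp).toPresheafFiber_eq_iff' E x s t).1 h1
    exact ⟨V, g, hg, hx ▸ StalkPoint.range_of_map g hy⟩
  have hsurj : Presheaf.IsLocallySurjective (etTop Y) a.hom := ⟨fun {E} t => StalkPoint.mem_etTop_of_forall _ fun e => by
    obtain ⟨p, hp, x, hx, hb⟩ := h E e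
    let Φ := EtNbhd.point hY p hp
    obtain ⟨z, hz⟩ := hb.2 (Φ.toPresheafFiber E x G'.obj t)
    obtain ⟨V, y, s, rfl⟩ := Φ.toPresheafFiber_jointly_surjective z
    rw [GrothendieckTopology.Point.toPresheafFiber_naturality_apply] at hz
    obtain ⟨w, hw1, hw2⟩ := EtNbhd.exists_prod_lift (p := p) ⟨E, x⟩ ⟨V, y⟩
    let f₁ := EtOver.prodFst E V
    let f₂ := EtOver.prodSnd E V
    have e1 : Φ.toPresheafFiber _ w G'.obj (G'.obj.map f₁.op t) =
        Φ.toPresheafFiber _ w G'.obj (G'.obj.map f₂.op (a.hom.app (op V) s)) := by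
      rw [GrothendieckTopology.Point.toPresheafFiber_w_apply, GrothendieckTopology.Point.toPresheafFiber_w_apply]
      exact (congrArg (fun r => Φ.toPresheafFiber E r G'.obj t) hw1).trans
        (hz.symm.trans (congrArg (fun r => Φ.toPresheafFiber V r G'.obj _) hw2.symm))
    obtain ⟨L, g, l, hl, hg⟩ := (Φ.toPresheafFiber_eq_iff' _ w _ _).1 e1
    refine ⟨L, g ≫ f₁, ⟨G.obj.map (g ≫ f₂).op s, ?_⟩, hx ▸ StalkPoint.range_of_map (g ≫ f₁) (y := l) (by
      rw [Functor.map_comp_apply]; exact (congrArg _ hl).trans hw1)⟩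
    rw [NatTrans.naturality_apply, op_comp, Functor.map_comp, ConcreteCategory.comp_apply, ← hg,
      ← ConcreteCategory.comp_apply, ← Functor.map_comp, ← op_comp]⟩
  refine (Sheaf.isLocallyBijective_iff_isIso a).1 ⟨Presheaf.isLocallyInjective_of_injective _ _ hinj, hsurj⟩

variable (hX : IsAlgSpace X) (hY : IsAlgSpace Y) (hi : RepWith @IsIntegralHom f) (hu : RepWith @UniversallyInjective f)
  [((EtOver.bc hi.1).sheafPushforwardContinuous A (etTop Y) (etTop X)).IsRightAdjoint]
include hX hY hu cc pfc hscY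

/-- a sheaf trivial outside the image is a direct image -/
theorem essImage_pushEt (G : EtSh Y A)
    (hF : ∀ (F : EtSh X A) (E : EtOver Y), Disjoint (Set.range (Points.map E.obj.hom)) (Set.range (Points.map f)) →
      Subsingleton (ToType (((pushEt hi.1 A).obj F).obj.obj (op E))) ∧
        Nonempty (ToType (((pushEt hi.1 A).obj F).obj.obj (op E))))
    (hG : ∀ E : EtOver Y, Disjoint (Set.range (Points.map E.obj.hom)) (Set.range (Points.map f)) →
      Subsingleton (ToType (G.obj.obj (op E))) ∧ Nonempty (ToType (G.obj.obj (op E)))) :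
    (pushEt hi.1 A).essImage G := by
  have : IsIso ((pullPushAdjEt hi.1 A).unit.app G) := isIso_of_bijective_stalks hY _ fun E e => by
    by_cases he : Points.ofPt E.obj.hom e ∈ Set.range (Points.map f)
    · obtain ⟨e', he'⟩ := exists_over_of_mem_range hi.1 E e he
      obtain ⟨p, x, hp, hx, -⟩ := StalkPoint.exists_point_through ((EtOver.bc hi.1).obj E) e'
      refine ⟨p.map f, hp, ofBc hi.1 x, ?_, ?_⟩
      · exact (congrArg (hi.1.snd E.obj.hom).left hx).trans he'
      have h1 := isIso_unit_pushStalk hX hY hi.1 p hp G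
      have h2 := (ConcreteCategory.isIso_iff_bijective _).1 h1
      have h3 := pushStalk_bijective hX hY p hp hi hu ((pullEt hi.1 A).obj G)
      constructor
      · intro z z' hz
        refine h2.1 ?_
        rw [ConcreteCategory.comp_apply, ConcreteCategory.comp_apply, hz]
      · intro z
        obtain ⟨w, hw⟩ := h2.2 (pushStalk hi.1 hX hY p hp ((pullEt hi.1 A).obj G) z)
        rw [ConcreteCategory.comp_apply] at hw
        exact ⟨w, h3.1 hw⟩
    · obtain ⟨p, x, hp, hx, hpe⟩ := StalkPoint.exists_point_through E e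
      refine ⟨p, hp, x, hx, ?_⟩
      -- both stalks are trivial
      have key : ∀ (V : EtOver Y) (y : (FieldPt.liftsTo p).obj V), ∃ (V' : EtOver Y) (k : V' ⟶ V)
          (y' : (FieldPt.liftsTo p).obj V'), (FieldPt.liftsTo p).map k y' = y ∧
            Disjoint (Set.range (Points.map V'.obj.hom)) (Set.range (Points.map f)) := fun V y => by
        have : IsIntegralHom (hi.1.snd V.obj.hom).left := hi.property_snd _
        let O : V.obj.left.left.Opens := ⟨(Set.range (hi.1.snd V.obj.hom).left)ᶜ,
          (hi.1.snd V.obj.hom).left.isClosedMap.isClosed_range.isOpen_compl⟩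
        have hy : y.1.left (IsLocalRing.closedPoint p.K) ∈ O := by
          rintro ⟨e', he'⟩
          refine he ⟨Points.ofPt (hi.1.fst V.obj.hom) e', ?_⟩
          rw [Points.map_ofPt, hi.1.w, AlgSpLib.ofPt_map, he', ← AlgSpLib.ofPt_map, y.2, EtNbhd.ofPt_toHom, hpe]
        let V' := (EtOver.ofChart V.obj.hom V.property).obj (Scheme.Etale.mk O.ι)
        let k : V' ⟶ V := EtOver.homMk (EtOver.homOfEtale (Scheme.Etale.mk O.ι)) rfl
        have : IsAlgClosed p.K := hp
        obtain ⟨l, hl, -⟩ := EtNbhd.exists_lift_over k.hom.left (EtOver.etale_left k) y.1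
          (⟨_, hy⟩ : O) rfl
        refine ⟨V', k, ⟨l, ?_⟩, Subtype.ext hl, Set.disjoint_left.2 ?_⟩
        · rw [← EtOver.w k, ← Category.assoc, ← Functor.map_comp, hl]; exact y.2
        rintro _ ⟨o, rfl⟩ hmem
        obtain ⟨o', rfl⟩ := (Points.schemeEquiv _).surjective o
        rw [← EtOver.w k, Points.map_comp] at hmem
        erw [map_yon_map_ofScheme] at hmem
        rw [← Points.ofPt_eq_map_ofScheme] at hmem
        exact (o' : O).2 (exists_over_of_mem_range hi.1 V _ hmem)
      have triv : ∀ (K : EtSh Y A), (∀ E : EtOver Y, Disjoint (Set.range (Points.map E.obj.hom)) (Set.range (Points.map f)) →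
          Subsingleton (ToType (K.obj.obj (op E))) ∧ Nonempty (ToType (K.obj.obj (op E)))) →
          Subsingleton (ToType ((EtNbhd.point hY p hp).presheafFiber.obj K.obj)) ∧
            Nonempty (ToType ((EtNbhd.point hY p hp).presheafFiber.obj K.obj)) := fun K hK => by
        refine ⟨⟨fun z z' => ?_⟩, ?_⟩
        · obtain ⟨V, y, s, t, rfl, rfl⟩ := (EtNbhd.point hY p hp).toPresheafFiber_jointly_surjective₂ z z'
          obtain ⟨V', k, y', hk, hd⟩ := key V y
          rw [(EtNbhd.point hY p hp).toPresheafFiber_eq_iff']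
          exact ⟨V', k, y', hk, (hK V' hd).1.elim _ _⟩
        · obtain ⟨V', k, y', -, hd⟩ := key E x
          exact (hK V' hd).2.map ((EtNbhd.point hY p hp).toPresheafFiber V' y' K.obj)
      obtain ⟨hs1, hn1⟩ := triv _ hG
      obtain ⟨hs2, -⟩ := triv _ (hF ((pullEt hi.1 A).obj G))
      exact ⟨fun a b _ => hs1.elim a b, fun b => ⟨hn1.some, hs2.elim _ _⟩⟩
  exact ⟨_, ⟨(asIso ((pullPushAdjEt hi.1 A).unit.app G)).symm⟩⟩

end concrete

/-- base changes of schemes missing the image are empty -/
theorem isEmpty_bc (hf : Representable f) (E : EtOver Y)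
    (hd : Disjoint (Set.range (Points.map E.obj.hom)) (Set.range (Points.map f))) :
    IsEmpty ↥((EtOver.bc hf).obj E).obj.left.left := ⟨fun e => Set.disjoint_left.1 hd
  ⟨Points.map ((yon S).map (hf.snd E.obj.hom)) (Points.ofScheme _ e), rfl⟩
  ⟨Points.map (hf.fst E.obj.hom) (Points.ofScheme _ e), by
    rw [← Points.map_comp, hf.w, Points.map_comp]⟩⟩

/-- sections of a sheaf on an empty object -/
theorem unique_sections_of_isEmpty (F : EtSh X (Type (u + 1))) (W : EtOver X) (hW : IsEmpty ↥W.obj.left.left) :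
    Nonempty (Unique (F.obj.obj (op W))) := by
  have hb : (⊥ : Sieve W) ∈ etTop X W := StalkPoint.mem_etTop_of_forall _ fun e => isEmptyElim e
  have hs := (isSheaf_iff_isSheaf_of_type _ _).1 F.property _ hb
  obtain ⟨t, -, ht⟩ := hs (fun V g hg => hg.elim) (fun V₁ V₂ Z g₁ g₂ f₁ f₂ h₁ => h₁.elim)
  exact ⟨{ default := t, uniq := fun s => ht s fun V g hg => hg.elim }⟩

end Groth.Agent.AlgSpLib.PushEtStalk
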