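import Groth.Agent.AlgSpLib.QCohEtClosed
import Groth.Agent.AlgSpLib.PushEtImage
import Groth.Agent.Stk19b.QPullEt

/-!
Modules killed by the ideal of a closed subspace are direct images.
-/

universe u

open CategoryTheory CategoryTheory.Limits AlgebraicGeometry Opposite TensorProduct
open AlgSp

noncomputable section

set_option linter.style.haveILetI false

namespace Groth.Agent.AlgSpLib.QCohEt

set_option backward.isDefEq.respectTransparency.types false
set_option backward.isDefEq.respectTransparency false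

open Groth.Agent.Stk19b Groth.Agent.AlgSpLib.PushEtStalk

variable {S : Scheme.{u}} {X Y : Sp S}

/-- morphisms bijective on the members of enough coverings are isomorphisms -/
theorem isIso_of_cover {c : EtOver X} {F G : SheafOfModules.{u + 1} ((OEtRing X).over c)} (φ : F ⟶ G)
    (hcov : ∀ W : Over c, ∃ (ι : Type u) (Z : ι → EtOver X) (g : ∀ j, Z j ⟶ W.left),
      (∀ x, ∃ j, x ∈ Set.range (g j).hom.left.left) ∧ ∀ j, Function.Bijective (φ.val.app (op (below (g j))))) :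
    IsIso φ := by
  have hbij : ∀ W : Over c, Function.Bijective (φ.val.app (op W)) := by
    have hinj : ∀ W : Over c, Function.Injective (φ.val.app (op W)) := fun W x y hxy => by
      obtain ⟨ι, Z, g, hc, hb⟩ := hcov W
      refine eq_of_below' F g hc x y fun j => (hb j).injective ?_
      rw [PresheafOfModules.naturality_apply, PresheafOfModules.naturality_apply, hxy]
    intro W
    refine ⟨hinj W, fun y => ?_⟩
    obtain ⟨ι, Z, g, hc, hb⟩ := hcov W
    choose x hx using fun j => (hb j).surjective (G.val.map (belowι (g j)).op y)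
    obtain ⟨z, hz⟩ := exists_of_below F g hc x fun j k U pl pr e => by
      refine hinj U ?_
      rw [PresheafOfModules.naturality_apply, PresheafOfModules.naturality_apply, hx, hx,
        ← PresheafOfModules.map_comp_apply, ← PresheafOfModules.map_comp_apply, ← op_comp, ← op_comp, e]
    refine ⟨z, eq_of_below' G g hc _ _ fun j => ?_⟩
    rw [← PresheafOfModules.naturality_apply, hz, hx]
  have : ∀ W, IsIso (((PresheafOfModules.toPresheaf _).map φ.val).app W) := fun W => by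
    rw [ConcreteCategory.isIso_iff_bijective]
    exact hbij W.unop
  have := NatIso.isIso_of_isIso_app ((PresheafOfModules.toPresheaf _).map φ.val)
  haveI : IsIso φ.val := isIso_of_reflects_iso φ.val (PresheafOfModules.toPresheaf _)
  haveI : IsIso ((SheafOfModules.forget _).map φ) := ‹IsIso φ.val›
  exact isIso_of_reflects_iso φ (SheafOfModules.forget _)

theorem exists_range_pullbackFst' {E W : EtOver X} (f : W ⟶ E) {ι : Type*} {Z : ι → EtOver X} (g : ∀ j, Z j ⟶ E)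
    (hcov : ∀ x, ∃ j, x ∈ Set.range (g j).hom.left.left) (w : W.obj.left.left) :
    ∃ j, w ∈ Set.range (EtOver.pullbackFst f (g j)).hom.left.left := by
  obtain ⟨j, z, hz⟩ := hcov (f.hom.left.left w)
  obtain ⟨p, hp, -⟩ := Scheme.exists_preimage_of_isPullback
    ((IsPullback.of_hasPullback f.hom.left (g j).hom.left).map (Over.forget S)) w z hz.symm
  exact ⟨j, p, hp⟩

/-- sections over a base change generate those over a further base change -/
theorem bijective_bcMap_bc {f : X ⟶ Y} (hf : Representable f) (M : ModEt X) (E : EtOver Y) [IsAff E] (W : Over E)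
    [IsAff W.left] [IsAff (EtOver.bcObj hf E)] [IsAff (EtOver.bcObj hf W.left)]
    (hN : Function.Bijective (bcMap ((pushModEt hf).obj M) E W)) :
    Function.Bijective (bcMap M (EtOver.bcObj hf E) (Over.mk (EtOver.bcMap hf W.hom))) := by
  let N : ModEt Y := (pushModEt hf).obj M
  let U : Over (EtOver.bcObj hf E) := Over.mk (EtOver.bcMap hf W.hom)
  letI := (bcΓ hf E).toAlgebra
  letI : Algebra (ΓE E) (ΓE U.left) := ((bcΓ hf W.left).comp (ΓMap W.hom).hom).toAlgebra
  haveI : IsScalarTower (ΓE E) (ΓE (EtOver.bcObj hf E)) (ΓE U.left) := IsScalarTower.of_algebraMap_eq fun a =>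
    ConcreteCategory.congr_hom ((bcRingHom hf).hom.naturality W.hom.op) a
  letI : Module (ΓE E) (Sec M (EtOver.bcObj hf E)) := (inferInstance : Module (ΓE E) (Sec N E))
  haveI : IsScalarTower (ΓE E) (ΓE (EtOver.bcObj hf E)) (Sec M (EtOver.bcObj hf E)) :=
    IsScalarTower.of_algebraMap_smul fun a m => rfl
  let l : ΓE W.left →ₐ[ΓE E] ΓE U.left := { bcΓ hf W.left with commutes' := fun a => rfl }
  have hb : Function.Bijective (Algebra.TensorProduct.productMap l
      (IsScalarTower.toAlgHom (ΓE E) (ΓE (EtOver.bcObj hf E)) (ΓE U.left))) :=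
    bijective_productMap_bc hf W.hom l (IsScalarTower.toAlgHom (ΓE E) (ΓE (EtOver.bcObj hf E)) (ΓE U.left)) rfl rfl
  let φ : ΓE W.left ⊗[ΓE E] Sec M (EtOver.bcObj hf E) →+ ΓE U.left ⊗[ΓE (EtOver.bcObj hf E)] Sec M (EtOver.bcObj hf E) :=
    TensorProduct.liftAddHom
    { toFun := fun t =>
        { toFun := fun m => l t ⊗ₜ[ΓE (EtOver.bcObj hf E)] m
          map_zero' := TensorProduct.tmul_zero _ _
          map_add' := fun x y => TensorProduct.tmul_add _ x y }
      map_zero' := AddMonoidHom.ext fun m => by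
        change l 0 ⊗ₜ[ΓE (EtOver.bcObj hf E)] m = 0
        rw [map_zero, TensorProduct.zero_tmul]
      map_add' := fun x y => AddMonoidHom.ext fun m => by
        change l (x + y) ⊗ₜ[ΓE (EtOver.bcObj hf E)] m =
          l x ⊗ₜ[ΓE (EtOver.bcObj hf E)] m + l y ⊗ₜ[ΓE (EtOver.bcObj hf E)] m
        rw [map_add, TensorProduct.add_tmul] }
    fun a t m => by
      change l (a • t) ⊗ₜ[ΓE (EtOver.bcObj hf E)] m =
        l t ⊗ₜ[ΓE (EtOver.bcObj hf E)] (bcΓ hf E a • m)
      rw [map_smul, ← IsScalarTower.algebraMap_smul (ΓE (EtOver.bcObj hf E)) a (l t)]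
      exact ((TensorProduct.mk (ΓE (EtOver.bcObj hf E)) (ΓE U.left) (Sec M (EtOver.bcObj hf E))).map_smul₂ _ (l t) m).trans
        ((TensorProduct.mk (ΓE (EtOver.bcObj hf E)) (ΓE U.left) (Sec M (EtOver.bcObj hf E)) (l t)).map_smul _ m).symm
  have hφ := bijective_twoStep l hb φ fun t m => rfl
  have e : ∀ x, bcMap N E W x = bcMap M (EtOver.bcObj hf E) U (φ x) := fun x => by
    induction x using TensorProduct.induction_on with
    | zero => exact (map_zero _).trans ((congrArg _ φ.map_zero).trans (map_zero _)).symm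
    | tmul t m => rfl
    | add y z hy hz =>
      exact (map_add _ _ _).trans ((congrArg₂ (· + ·) hy hz).trans
        ((congrArg _ (φ.map_add _ _)).trans (map_add _ _ _)).symm)
  refine (Function.Bijective.of_comp_iff _ hφ).1 ?_
  rw [show (bcMap ((pushModEt hf).obj M) E W : _ → _) = _ from funext e] at hN
  exact hN

variable {f : X ⟶ Y} (hi : RepWith @IsClosedImmersion f)

/-- a module killed by the ideal of the closed subspace -/
def Kills (M : ModEt Y) : Prop :=
  ∀ (E : EtOver Y), IsAff E → ∀ r : ΓE E, bcΓ hi.1 E r = 0 → ∀ m : Sec M E, r • m = 0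

theorem smul_eq_of_bcΓ {M : ModEt Y} (hM : Kills hi M) {E : EtOver Y} [IsAff E] {r r' : ΓE E}
    (h : bcΓ hi.1 E r = bcΓ hi.1 E r') (m : Sec M E) : r • m = r' • m := by
  rw [← sub_eq_zero, ← sub_smul]
  exact hM E inferInstance _ (by rw [map_sub, h, sub_self]) m

theorem bcΓ_natural {E E' : EtOver Y} (a : E' ⟶ E) (r : ΓE E) :
    bcΓ hi.1 E' ((ΓMap a).hom r) = (ΓMap (EtOver.bcMap hi.1 a)).hom (bcΓ hi.1 E r) :=
  ConcreteCategory.congr_hom ((bcRingHom hi.1).hom.naturality a.op) r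

variable (hY : IsAlgSpace Y)

include hY in
/-- two morphisms to base changes become base changes near a point -/
theorem exists_bc_refine {p : FieldPt X} (hp : p.IsGeometric) {E₁ E₂ : EtOver Y} {V : EtOver X}
    (g₁ : V ⟶ (EtOver.bc hi.1).obj E₁) (g₂ : V ⟶ (EtOver.bc hi.1).obj E₂) (w : (FieldPt.liftsTo p).obj V) :
    ∃ (E : EtOver Y) (a₁ : E ⟶ E₁) (a₂ : E ⟶ E₂) (h : (EtOver.bc hi.1).obj E ⟶ V)
      (v : (FieldPt.liftsTo p).obj ((EtOver.bc hi.1).obj E)), IsAff E ∧
      h ≫ g₁ = (EtOver.bc hi.1).map a₁ ∧ h ≫ g₂ = (EtOver.bc hi.1).map a₂ ∧ (FieldPt.liftsTo p).map h v = w := by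
  let g := (QPullEt.bcProdIsLimit hi.1 E₁ E₂).lift (BinaryFan.mk g₁ g₂)
  obtain ⟨E₀, a, x, h, ha, hx⟩ := exists_lift_nbhd (repWith_integral hi) (repWith_univInj hi) hp _ V g w
  have hp' : (p.map f).IsGeometric := hp
  obtain ⟨E, k, v, hE, hv⟩ := exists_affine_refine hp' (ofBc hi.1 x)
  have e₁ : g ≫ (EtOver.bc hi.1).map (EtOver.prodFst E₁ E₂) = g₁ :=
    (QPullEt.bcProdIsLimit hi.1 E₁ E₂).fac (BinaryFan.mk g₁ g₂) ⟨.left⟩
  have e₂ : g ≫ (EtOver.bc hi.1).map (EtOver.prodSnd E₁ E₂) = g₂ :=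
    (QPullEt.bcProdIsLimit hi.1 E₁ E₂).fac (BinaryFan.mk g₁ g₂) ⟨.right⟩
  refine ⟨E, k ≫ a ≫ EtOver.prodFst E₁ E₂, k ≫ a ≫ EtOver.prodSnd E₁ E₂, (EtOver.bc hi.1).map k ≫ h,
    toBc hi.1 v, hE, ?_, ?_, ?_⟩
  · rw [← e₁, Category.assoc, ← Category.assoc h g, ha, Functor.map_comp, Functor.map_comp]
  · rw [← e₂, Category.assoc, ← Category.assoc h g, ha, Functor.map_comp, Functor.map_comp]
  · rw [Functor.map_comp_apply, toBc_map, hv, toBc_ofBc]
    exact hx

variable (M : ModEt Y) (G₀ : AbEt X) (θ : (pushEt hi.1 AddCommGrpCat.{u + 1}).obj G₀ ≅ (toAbEt Y).obj M)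

/-- the sections of the sheaf over an object -/
abbrev G0 (W : EtOver X) : Type (u + 1) := G₀.obj.obj (op W)

/-- restriction -/
def res0 {W' W : EtOver X} (k : W' ⟶ W) : G0 G₀ W →+ G0 G₀ W' := (G₀.obj.map k.op).hom

theorem res0_comp {W'' W' W : EtOver X} (a : W'' ⟶ W') (b : W' ⟶ W) (s : G0 G₀ W) :
    res0 G₀ (a ≫ b) s = res0 G₀ a (res0 G₀ b s) := ConcreteCategory.congr_hom (G₀.obj.map_comp b.op a.op) s

/-- the comparison on sections -/
def θE (E : EtOver Y) : G0 G₀ (EtOver.bcObj hi.1 E) ≃+ Sec M E where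
  toFun s := (show Sec M E from θ.hom.hom.app (op E) s)
  invFun m := θ.inv.hom.app (op E) m
  left_inv s := ConcreteCategory.congr_hom (congrArg (fun t => t.hom.app (op E)) θ.hom_inv_id) s
  right_inv m := ConcreteCategory.congr_hom
    (congrArg (fun t : (toAbEt Y).obj M ⟶ (toAbEt Y).obj M => t.hom.app (op E)) θ.inv_hom_id)
    (show ((toAbEt Y).obj M).obj.obj (op E) from m)
  map_add' a b := map_add (θ.hom.hom.app (op E)).hom a b

theorem θE_natural {E E' : EtOver Y} (a : E' ⟶ E) (s : G0 G₀ (EtOver.bcObj hi.1 E)) :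
    θE hi M G₀ θ E' (res0 G₀ ((EtOver.bc hi.1).map a) s) = mapSec M a (θE hi M G₀ θ E s) :=
  NatTrans.naturality_apply θ.hom.hom a.op s

/-- the defining property of the action -/
def Spec (W : EtOver X) (r : ΓE W) (s t : G0 G₀ W) : Prop :=
  ∀ (E : EtOver Y) (_ : IsAff E) (h : (EtOver.bc hi.1).obj E ⟶ W) (r' : ΓE E),
    bcΓ hi.1 E r' = (ΓMap h).hom r → θE hi M G₀ θ E (res0 G₀ h t) = r' • θE hi M G₀ θ E (res0 G₀ h s)

theorem eq_of_cover {W : EtOver X} {ι : Type u} {Z : ι → EtOver X} (g : ∀ j, Z j ⟶ W)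
    (hc : ∀ e, ∃ j, e ∈ Set.range (g j).hom.left.left) (s t : G0 G₀ W) (h : ∀ j, res0 G₀ (g j) s = res0 G₀ (g j) t) :
    s = t := by
  have hsep : Presieve.IsSeparated (etTop X) (G₀.obj ⋙ forget AddCommGrpCat.{u + 1}) := by
    apply Presieve.IsSheaf.isSeparated
    rw [← isSheaf_iff_isSheaf_of_type]
    exact ((sheafCompose (etTop X) (forget AddCommGrpCat.{u + 1})).obj G₀).2
  refine (hsep _ (ofArrows_mem_etTop Z g hc)).ext fun V k hk => ?_
  obtain ⟨_, l, _, ⟨j⟩, rfl⟩ := hk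
  exact (res0_comp G₀ l (g j) s).trans ((congrArg (res0 G₀ l) (h j)).trans (res0_comp G₀ l (g j) t).symm)

include hY in
theorem spec_unique {W : EtOver X} {r : ΓE W} {s t t' : G0 G₀ W} (ht : Spec hi M G₀ θ W r s t)
    (ht' : Spec hi M G₀ θ W r s t') : t = t' := by
  obtain ⟨ι, E, h, hE, hc⟩ := exists_bc_cover hi hY W
  refine eq_of_cover G₀ h hc t t' fun j => ?_
  haveI := hE j
  obtain ⟨r', hr'⟩ := surjective_bcΓ_closed hi (E j) ((ΓMap (h j)).hom r)
  exact (θE hi M G₀ θ (E j)).injective ((ht (E j) (hE j) (h j) r' hr').trans (ht' (E j) (hE j) (h j) r' hr').symm)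

theorem spec_map {W' W : EtOver X} (k : W' ⟶ W) {r : ΓE W} {s t : G0 G₀ W} (ht : Spec hi M G₀ θ W r s t) :
    Spec hi M G₀ θ W' ((ΓMap k).hom r) (res0 G₀ k s) (res0 G₀ k t) := fun E hE h r' hr' => by
  rw [← res0_comp, ← res0_comp]
  exact ht E hE (h ≫ k) r' (hr'.trans (ΓMap_comp h k r).symm)

variable (hM : Kills hi M)

include hM hY in
theorem spec_exists (W : EtOver X) (r : ΓE W) (s : G0 G₀ W) : ∃ t, Spec hi M G₀ θ W r s t := by
  obtain ⟨ι, E, h, hE, hc⟩ := exists_bc_cover hi hY W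
  haveI := hE
  choose r' hr' using fun j => surjective_bcΓ_closed hi (E j) ((ΓMap (h j)).hom r)
  let y : ∀ j, G0 G₀ ((EtOver.bc hi.1).obj (E j)) := fun j =>
    (θE hi M G₀ θ (E j)).symm (r' j • θE hi M G₀ θ (E j) (res0 G₀ (h j) s))
  have key : ∀ (E₁ E₂ : EtOver Y) (_ : IsAff E₁) (_ : IsAff E₂) (h₁ : (EtOver.bc hi.1).obj E₁ ⟶ W)
      (h₂ : (EtOver.bc hi.1).obj E₂ ⟶ W) (r₁ : ΓE E₁) (r₂ : ΓE E₂) (t₁ : G0 G₀ ((EtOver.bc hi.1).obj E₁))
      (t₂ : G0 G₀ ((EtOver.bc hi.1).obj E₂)), bcΓ hi.1 E₁ r₁ = (ΓMap h₁).hom r → bcΓ hi.1 E₂ r₂ = (ΓMap h₂).hom r →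
      θE hi M G₀ θ E₁ t₁ = r₁ • θE hi M G₀ θ E₁ (res0 G₀ h₁ s) →
      θE hi M G₀ θ E₂ t₂ = r₂ • θE hi M G₀ θ E₂ (res0 G₀ h₂ s) →
      ∀ (V : EtOver X) (g₁ : V ⟶ (EtOver.bc hi.1).obj E₁) (g₂ : V ⟶ (EtOver.bc hi.1).obj E₂),
        g₁ ≫ h₁ = g₂ ≫ h₂ → res0 G₀ g₁ t₁ = res0 G₀ g₂ t₂ := by
    intro E₁ E₂ _ _ h₁ h₂ r₁ r₂ t₁ t₂ e₁ e₂ ht₁ ht₂ V g₁ g₂ hg
    have loc : ∀ e : V.obj.left.left, ∃ (E' : EtOver Y) (k : (EtOver.bc hi.1).obj E' ⟶ V),
        e ∈ Set.range k.hom.left.left ∧ res0 G₀ (k ≫ g₁) t₁ = res0 G₀ (k ≫ g₂) t₂ := by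
      intro e
      obtain ⟨p, w, hp, hw, -⟩ := StalkPoint.exists_point_through V e
      obtain ⟨E', a₁, a₂, k, v, hE', ha₁, ha₂, hv⟩ := exists_bc_refine hi hY hp g₁ g₂ w
      haveI := hE'
      refine ⟨E', k, hw ▸ StalkPoint.range_of_map k hv, ?_⟩
      refine (θE hi M G₀ θ E').injective ?_
      have hk : (EtOver.bc hi.1).map a₁ ≫ h₁ = (EtOver.bc hi.1).map a₂ ≫ h₂ := by
        rw [← ha₁, ← ha₂, Category.assoc, Category.assoc, hg]
      rw [ha₁, ha₂, θE_natural, θE_natural, ht₁, ht₂, mapSec_smul, mapSec_smul, ← θE_natural, ← θE_natural,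
        ← res0_comp, ← res0_comp, hk]
      refine smul_eq_of_bcΓ hi hM ?_ _
      rw [bcΓ_natural hi, bcΓ_natural hi, e₁, e₂]
      exact (ΓMap_comp ((EtOver.bc hi.1).map a₁) h₁ r).symm.trans ((congrArg (fun q => (ΓMap q).hom r) hk).trans
        (ΓMap_comp ((EtOver.bc hi.1).map a₂) h₂ r))
    choose E' k hk he using loc
    exact eq_of_cover G₀ k (fun e => ⟨e, hk e⟩) _ _ fun e => by
      rw [← res0_comp, ← res0_comp]; exact he e
  have hs : Presieve.IsSheaf (etTop X) (G₀.obj ⋙ forget AddCommGrpCat.{u + 1}) := by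
    rw [← isSheaf_iff_isSheaf_of_type]
    exact ((sheafCompose (etTop X) (forget AddCommGrpCat.{u + 1})).obj G₀).2
  have hy : ∀ j, θE hi M G₀ θ (E j) (y j) = r' j • θE hi M G₀ θ (E j) (res0 G₀ (h j) s) :=
    fun j => (θE hi M G₀ θ (E j)).apply_symm_apply _
  obtain ⟨t, ht, -⟩ := (Presieve.isSheafFor_arrows_iff _ _).1
    ((Presieve.isSheafFor_iff_generate _).2 (hs _ (ofArrows_mem_etTop _ h hc))) y
    fun i j V gi gj e => key (E i) (E j) (hE i) (hE j) (h i) (h j) (r' i) (r' j) (y i) (y j) (hr' i) (hr' j)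
      (hy i) (hy j) V gi gj e
  refine ⟨t, fun E₁ hE₁ h₁ r₁ hr₁ => ?_⟩
  haveI := hE₁
  let t₁ := (θE hi M G₀ θ E₁).symm (r₁ • θE hi M G₀ θ E₁ (res0 G₀ h₁ s))
  have ht₁ : θE hi M G₀ θ E₁ t₁ = r₁ • θE hi M G₀ θ E₁ (res0 G₀ h₁ s) := (θE hi M G₀ θ E₁).apply_symm_apply _
  suffices e : res0 G₀ h₁ t = t₁ by rw [e, ht₁]
  refine eq_of_cover G₀ (fun j => EtOver.pullbackFst h₁ (h j))
    (fun e => exists_range_pullbackFst' h₁ h hc e) _ _ fun j => ?_
  rw [← res0_comp, EtOver.pullback_condition, res0_comp, show res0 G₀ (h j) t = y j from ht j]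
  exact (key E₁ (E j) hE₁ (hE j) h₁ (h j) r₁ (r' j) t₁ (y j) hr₁ (hr' j) ht₁ (hy j) _ _ _
    (EtOver.pullback_condition _ _)).symm

/-- the action of functions -/
def actC (W : EtOver X) (r : ΓE W) (s : G0 G₀ W) : G0 G₀ W := (spec_exists hi hY M G₀ θ hM W r s).choose

theorem spec_act (W : EtOver X) (r : ΓE W) (s : G0 G₀ W) : Spec hi M G₀ θ W r s (actC hi hY M G₀ θ hM W r s) :=
  (spec_exists hi hY M G₀ θ hM W r s).choose_spec

/-- the module structure on sections -/
@[implicit_reducible]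
def actModule (W : EtOver X) : Module (ΓE W) (G0 G₀ W) where
  smul := actC hi hY M G₀ θ hM W
  one_smul s := spec_unique hi hY M G₀ θ (spec_act hi hY M G₀ θ hM W 1 s) fun E hE h r' hr' => by
    haveI := hE
    rw [smul_eq_of_bcΓ hi hM (r' := 1) (by rw [hr', map_one, map_one]), one_smul]
  mul_smul a b s := spec_unique hi hY M G₀ θ (spec_act hi hY M G₀ θ hM W (a * b) s) fun E hE h r' hr' => by
    haveI := hE
    obtain ⟨a', ha'⟩ := surjective_bcΓ_closed hi E ((ΓMap h).hom a)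
    obtain ⟨b', hb'⟩ := surjective_bcΓ_closed hi E ((ΓMap h).hom b)
    rw [smul_eq_of_bcΓ hi hM (r' := a' * b') (by rw [hr', map_mul, map_mul, ha', hb']), mul_smul]
    exact (spec_act hi hY M G₀ θ hM W a _ E hE h a' ha').trans
      (congrArg (a' • ·) (spec_act hi hY M G₀ θ hM W b s E hE h b' hb'))
  smul_zero a := spec_unique hi hY M G₀ θ (spec_act hi hY M G₀ θ hM W a 0) fun E hE h r' hr' => by
    simp only [map_zero, smul_zero]
  smul_add a s s' := spec_unique hi hY M G₀ θ (spec_act hi hY M G₀ θ hM W a (s + s')) fun E hE h r' hr' => by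
    rw [map_add, map_add, map_add, map_add, smul_add]
    exact congrArg₂ (· + ·) (spec_act hi hY M G₀ θ hM W a s E hE h r' hr') (spec_act hi hY M G₀ θ hM W a s' E hE h r' hr')
  add_smul a b s := spec_unique hi hY M G₀ θ (spec_act hi hY M G₀ θ hM W (a + b) s) fun E hE h r' hr' => by
    haveI := hE
    obtain ⟨a', ha'⟩ := surjective_bcΓ_closed hi E ((ΓMap h).hom a)
    obtain ⟨b', hb'⟩ := surjective_bcΓ_closed hi E ((ΓMap h).hom b)
    rw [smul_eq_of_bcΓ hi hM (r' := a' + b') (by rw [hr', map_add, map_add, ha', hb']), add_smul, map_add, map_add]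
    exact congrArg₂ (· + ·) (spec_act hi hY M G₀ θ hM W a s E hE h a' ha') (spec_act hi hY M G₀ θ hM W b s E hE h b' hb')
  zero_smul s := spec_unique hi hY M G₀ θ (spec_act hi hY M G₀ θ hM W 0 s) fun E hE h r' hr' => by
    haveI := hE
    rw [smul_eq_of_bcΓ hi hM (r' := 0) (by rw [hr', map_zero, map_zero]), zero_smul, map_zero, map_zero]

theorem act_map {W' W : EtOver X} (k : W' ⟶ W) (r : ΓE W) (s : G0 G₀ W) :
    res0 G₀ k (actC hi hY M G₀ θ hM W r s) = actC hi hY M G₀ θ hM W' ((ΓMap k).hom r) (res0 G₀ k s) :=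
  spec_unique hi hY M G₀ θ (spec_map hi M G₀ θ k (spec_act hi hY M G₀ θ hM W r s)) (spec_act hi hY M G₀ θ hM W' _ _)

theorem θE_act (E : EtOver Y) [IsAff E] (r : ΓE E) (s : G0 G₀ (EtOver.bcObj hi.1 E)) :
    θE hi M G₀ θ E (actC hi hY M G₀ θ hM _ (bcΓ hi.1 E r) s) = r • θE hi M G₀ θ E s := by
  have h := spec_act hi hY M G₀ θ hM (EtOver.bcObj hi.1 E) (bcΓ hi.1 E r) s E inferInstance (𝟙 _) r
    (ConcreteCategory.congr_hom ((OEt X).obj.map_id (op ((EtOver.bc hi.1).obj E))) _).symm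
  have e : ∀ t : G0 G₀ (EtOver.bcObj hi.1 E), res0 G₀ (𝟙 ((EtOver.bc hi.1).obj E)) t = t := fun t =>
    ConcreteCategory.congr_hom (G₀.obj.map_id (op ((EtOver.bc hi.1).obj E))) t
  exact ((congrArg (θE hi M G₀ θ E) (e _)).symm.trans h).trans
    (congrArg (fun z => r • θE hi M G₀ θ E z) (e s))

/-- the module attached to the action -/
def imageMod : ModEt X :=
  letI : ∀ U : (EtOver X)ᵒᵖ, Module ((OEtRing X).obj.obj U) (G₀.obj.obj U) :=
    fun U => actModule hi hY M G₀ θ hM U.unop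
  ⟨PresheafOfModules.ofPresheaf G₀.obj (fun {U V} k r m => act_map hi hY M G₀ θ hM k.unop r m), G₀.property⟩

theorem θE_imageMod (E : EtOver Y) (r : ΓE E) (s : G0 G₀ (EtOver.bcObj hi.1 E)) :
    θE hi M G₀ θ E (actC hi hY M G₀ θ hM _ (bcΓ hi.1 E r) s) = r • θE hi M G₀ θ E s := by
  obtain ⟨ι, Z, g, hZ, hc⟩ := exists_affine_cover E
  refine mapSec_ext M g hc _ _ fun j => ?_
  haveI := hZ j
  rw [← θE_natural, mapSec_smul, ← θE_natural]
  refine (congrArg (θE hi M G₀ θ (Z j)) ((act_map hi hY M G₀ θ hM ((EtOver.bc hi.1).map (g j)) (bcΓ hi.1 E r) s).trans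
    (congrArg (fun q => actC hi hY M G₀ θ hM _ q (res0 G₀ ((EtOver.bc hi.1).map (g j)) s))
      (bcΓ_natural hi (g j) r).symm))).trans ?_
  exact θE_act hi hY M G₀ θ hM (Z j) _ _

theorem nonempty_imageMod_iso : Nonempty ((pushModEt hi.1).obj (imageMod hi hY M G₀ θ hM) ≅ M) := by
  let N := (pushModEt hi.1).obj (imageMod hi hY M G₀ θ hM)
  let φ : N ⟶ M := ⟨PresheafOfModules.homMk θ.hom.hom fun U r m => θE_imageMod hi hY M G₀ θ hM U.unop r m⟩
  haveI : IsIso ((toAbEt Y).map φ) := (inferInstance : IsIso θ.hom)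
  haveI : IsIso φ := isIso_of_reflects_iso φ (toAbEt Y)
  exact ⟨asIso φ⟩

include hY in
/-- modules with quasi-coherent direct image along a closed immersion are quasi-coherent -/
theorem isQuasicoherent_of_push (G : ModEt X) [((pushModEt hi.1).obj G).IsQuasicoherent] : G.IsQuasicoherent := by
  have hb : ∀ (E E' : EtOver Y) (_ : IsAff E) (_ : IsAff E') (a : E' ⟶ E),
      Function.Bijective (bcMap G (EtOver.bcObj hi.1 E) (Over.mk (EtOver.bcMap hi.1 a))) := by
    intro E E' _ _ a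
    haveI := isAff_bcObj_closed hi E
    haveI := isAff_bcObj_closed hi E'
    haveI : IsAff (Over.mk a).left := ‹IsAff E'›
    haveI : IsAff (EtOver.bcObj hi.1 (Over.mk a).left) := isAff_bcObj_closed hi E'
    exact bijective_bcMap_bc hi.1 G E (Over.mk a) (isBC ((pushModEt hi.1).obj G) E (Over.mk a) ‹IsAff E'›)
  let I : Type (u + 1) := {E : EtOver Y // IsAff E}
  have hcov : (etTop X).CoversTop (fun i : I => EtOver.bcObj hi.1 i.1) := fun U => by
    obtain ⟨ι, E, h, hE, hc⟩ := exists_bc_cover hi hY U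
    refine GrothendieckTopology.superset_covering _ ?_ (ofArrows_mem_etTop _ h hc)
    rintro V g ⟨_, k, _, ⟨j⟩, rfl⟩
    exact (Sieve.mem_ofObjects_iff ..).2 ⟨⟨E j, hE j⟩, ⟨k⟩⟩
  have hP : ∀ i : I, Nonempty (G.over (EtOver.bcObj hi.1 i.1)).Presentation := fun i => by
    haveI := i.2
    haveI : IsAff (EtOver.bcObj hi.1 i.1) := isAff_bcObj_closed hi i.1
    haveI : IsIso ((adj (EtOver.bcObj hi.1 i.1)).counit.app (G.over (EtOver.bcObj hi.1 i.1))) := by
      refine isIso_of_cover _ fun W => ?_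
      have loc : ∀ e : W.left.obj.left.left, ∃ (E' : EtOver Y) (a : E' ⟶ i.1) (k : (EtOver.bc hi.1).obj E' ⟶ W.left),
          IsAff E' ∧ k ≫ W.hom = (EtOver.bc hi.1).map a ∧ e ∈ Set.range k.hom.left.left := fun e => by
        obtain ⟨p, w, hp, hw, -⟩ := StalkPoint.exists_point_through W.left e
        obtain ⟨E₀, a, x, h, ha, hx⟩ :=
          exists_lift_nbhd (repWith_integral hi) (repWith_univInj hi) hp i.1 W.left W.hom w
        have hp' : (p.map f).IsGeometric := hp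
        obtain ⟨E', k, v, hE', hv⟩ := exists_affine_refine hp' (ofBc hi.1 x)
        refine ⟨E', k ≫ a, (EtOver.bc hi.1).map k ≫ h, hE', by rw [Category.assoc, ha, Functor.map_comp], ?_⟩
        refine hw ▸ StalkPoint.range_of_map _ (y := toBc hi.1 v) ?_
        rw [Functor.map_comp_apply, toBc_map, hv, toBc_ofBc]
        exact hx
      choose E' a k hE' hk he using loc
      refine ⟨W.left.obj.left.left, _, k, fun e => ⟨e, he e⟩, fun e => ?_⟩
      haveI : IsAff (below (k e)).left := by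
        haveI := hE' e
        exact isAff_bcObj_closed hi (E' e)
      have h1 : Function.Bijective ((preDesc (G := (G.over (EtOver.bcObj hi.1 i.1)).val)
          (N := Sec G (EtOver.bcObj hi.1 i.1)) (AddMonoidHom.id _) (fun _ _ => rfl)).app (op (below (k e)))) := by
        have e1 : below (k e) = Over.mk (EtOver.bcMap hi.1 (a e)) :=
          congrArg (fun q : (EtOver.bc hi.1).obj (E' e) ⟶ EtOver.bcObj hi.1 i.1 => Over.mk q) (hk e)
        rw [e1]
        exact hb i.1 (E' e) i.2 (hE' e) (a e)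
      rw [preDesc_id_eq (EtOver.bcObj hi.1 i.1) (G.over (EtOver.bcObj hi.1 i.1))] at h1
      exact (Function.Bijective.of_comp_iff _ (bijective_app (η (Sec G (EtOver.bcObj hi.1 i.1))) (below (k e)))).1 h1
    obtain ⟨P⟩ := exists_presentation (Sec G (EtOver.bcObj hi.1 i.1))
    exact ⟨P.ofIsIso ((adj (EtOver.bcObj hi.1 i.1)).counit.app (G.over (EtOver.bcObj hi.1 i.1)))⟩
  exact (@SheafOfModules.QuasicoherentData.mk _ _ _ (OEtRing X) _ _ G I (fun i => EtOver.bcObj hi.1 i.1) hcov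
    fun i => (hP i).some).isQuasicoherent

include hM in
theorem subsingleton_of_disjoint (E : EtOver Y)
    (hd : Disjoint (Set.range (Points.map E.obj.hom)) (Set.range (Points.map f))) : Subsingleton (Sec M E) := by
  obtain ⟨ι, Z, g, hZ, hc⟩ := exists_affine_cover E
  refine ⟨fun s t => mapSec_ext M g hc s t fun j => ?_⟩
  haveI := hZ j
  have hd' : Disjoint (Set.range (Points.map (Z j).obj.hom)) (Set.range (Points.map f)) := by
    refine hd.mono_left ?_
    rintro _ ⟨z, rfl⟩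
    refine ⟨Points.map ((yon S).map (g j).hom.left) z, ?_⟩
    rw [← Points.map_comp]
    exact congrArg (fun q => Points.map q z) (EtOver.w (g j))
  have he := isEmpty_bc hi.1 (Z j) hd'
  obtain ⟨hu⟩ := unique_sections_of_isEmpty
    ((sheafCompose (etTop X) (forget CommRingCat.{u + 1})).obj (OEt X)) _ he
  have h1 : bcΓ hi.1 (Z j) 1 = 0 := (hu.uniq _).trans (hu.uniq _).symm
  have hz : ∀ m : Sec M (Z j), m = 0 := fun m => (one_smul (ΓE (Z j)) m).symm.trans (hM (Z j) inferInstance 1 h1 m)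
  rw [hz (mapSec M (g j) s), hz (mapSec M (g j) t)]

include hY hM in
/-- modules killed by the ideal of a closed subspace are direct images -/
theorem exists_iso_push (hX : IsAlgSpace X) :
    ∃ G : ModEt X, Nonempty ((pushModEt hi.1).obj G ≅ M) := by
  have uA : ∀ (F : AbEt X) (E : EtOver Y),
      Disjoint (Set.range (Points.map E.obj.hom)) (Set.range (Points.map f)) →
        Subsingleton ↥(((pushEt hi.1 AddCommGrpCat.{u + 1}).obj F).obj.obj (op E)) := fun F E hd => by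
    obtain ⟨hu⟩ := unique_sections_of_isEmpty
      ((sheafCompose (etTop X) (forget AddCommGrpCat.{u + 1})).obj F) _ (isEmpty_bc hi.1 E hd)
    exact ⟨fun a b => (hu.uniq a).trans (hu.uniq b).symm⟩
  obtain ⟨G₀, ⟨θ⟩⟩ := essImage_pushEt hX hY (repWith_integral hi) (repWith_univInj hi) ((toAbEt Y).obj M)
    (fun F E hd => ⟨uA F E hd, ⟨0⟩⟩) (fun E hd => ⟨subsingleton_of_disjoint hi M hM E hd, ⟨0⟩⟩)
  exact ⟨imageMod hi hY M G₀ θ hM, nonempty_imageMod_iso hi hY M G₀ θ hM⟩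

end Groth.Agent.AlgSpLib.QCohEt
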