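import Groth.Agent.AlgSpLib.QCohEtAcyclic
import Groth.Agent.AlgSpLib.PushEtImage
import Groth.Agent.EtCmp.AdjExt

/-!
Exactness of inverse images on small etale sites and cohomology of direct images.
-/

universe u

open CategoryTheory CategoryTheory.Limits AlgebraicGeometry Opposite
open AlgSp

noncomputable section

set_option linter.style.haveILetI false

namespace Groth.Agent.AlgSpLib.PushEtStalk

set_option backward.isDefEq.respectTransparency.types false
set_option backward.isDefEq.respectTransparency false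

open Groth.Agent.Stk19b

variable {S : Scheme.{u}} {X Y : Sp S}

/-- monomorphisms are injective on stalks -/
theorem injective_fiber (hX : IsAlgSpace X) (p : FieldPt X) (hp : p.IsGeometric) {F G : AbEt X} (a : F ⟶ G)
    [Mono a] : Function.Injective ((EtNbhd.point hX p hp).presheafFiber.map a.hom) := by
  intro z z' h
  obtain ⟨V, y, s, t, rfl, rfl⟩ := (EtNbhd.point hX p hp).toPresheafFiber_jointly_surjective₂ z z'
  rw [GrothendieckTopology.Point.toPresheafFiber_naturality_apply,
    GrothendieckTopology.Point.toPresheafFiber_naturality_apply,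
    (EtNbhd.point hX p hp).toPresheafFiber_eq_iff'] at h
  obtain ⟨L, g, l, hl, hg⟩ := h
  rw [← NatTrans.naturality_apply, ← NatTrans.naturality_apply] at hg
  rw [(EtNbhd.point hX p hp).toPresheafFiber_eq_iff']
  exact ⟨L, g, l, hl, EtCechLib.sections_injective a L hg⟩

/-- morphisms injective on stalks are monomorphisms -/
theorem mono_of_injective_fiber (hX : IsAlgSpace X) {F G : AbEt X} (a : F ⟶ G)
    (h : ∀ (p : FieldPt X) (hp : p.IsGeometric),
      Function.Injective ((EtNbhd.point hX p hp).presheafFiber.map a.hom)) : Mono a := by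
  have hinj : ∀ E, Function.Injective (a.hom.app (op E)) := fun E s t hst => by
    have hsep : Presieve.IsSeparated (etTop X) (F.obj ⋙ forget AddCommGrpCat.{u + 1}) := by
      apply Presieve.IsSheaf.isSeparated
      rw [← isSheaf_iff_isSheaf_of_type]
      exact ((sheafCompose (etTop X) (forget AddCommGrpCat.{u + 1})).obj F).2
    refine (hsep _ (StalkPoint.mem_etTop_of_forall (Presheaf.equalizerSieve s t) fun e => ?_)).ext
      fun V g hg => hg
    obtain ⟨p, x, hp, hx, -⟩ := StalkPoint.exists_point_through E e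
    have h1 : (EtNbhd.point hX p hp).toPresheafFiber E x F.obj s =
        (EtNbhd.point hX p hp).toPresheafFiber E x F.obj t := h p hp (by
      rw [GrothendieckTopology.Point.toPresheafFiber_naturality_apply,
        GrothendieckTopology.Point.toPresheafFiber_naturality_apply, hst])
    obtain ⟨V, g, y, hy, hg⟩ := ((EtNbhd.point hX p hp).toPresheafFiber_eq_iff' E x s t).1 h1
    exact ⟨V, g, hg, hx ▸ StalkPoint.range_of_map g hy⟩
  haveI : ∀ E, Mono (a.hom.app E) := fun E => (AddCommGrpCat.mono_iff_injective _).2 (hinj E.unop)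
  haveI : Mono a.hom := NatTrans.mono_of_mono_app _
  exact (sheafToPresheaf (etTop X) AddCommGrpCat.{u + 1}).mono_of_mono_map ‹Mono a.hom›

variable {f : X ⟶ Y} (hX : IsAlgSpace X) (hY : IsAlgSpace Y) (hf : Representable f)

include hX hY in
/-- inverse images preserve monomorphisms -/
theorem preservesMonomorphisms_pullEt : (pullEt hf AddCommGrpCat.{u + 1}).PreservesMonomorphisms := ⟨fun {G G'} a _ => by
  refine mono_of_injective_fiber hX _ fun p hp => ?_
  let Φ := (EtNbhd.point hX p hp).presheafFiber (A := AddCommGrpCat.{u + 1})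
  let Φ' := (EtNbhd.point hY (p.map f) hp).presheafFiber (A := AddCommGrpCat.{u + 1})
  let θ : ∀ K : AbEt Y, Φ'.obj K.obj ⟶ Φ.obj ((pullEt hf AddCommGrpCat.{u + 1}).obj K).obj := fun K =>
    Φ'.map ((pullPushAdjEt hf AddCommGrpCat.{u + 1}).unit.app K).hom ≫
      pushStalk hf hX hY p hp ((pullEt hf AddCommGrpCat.{u + 1}).obj K)
  have hθ : ∀ K : AbEt Y, Function.Bijective (θ K) := fun K =>
    (ConcreteCategory.isIso_iff_bijective _).1 (isIso_unit_pushStalk hX hY hf p hp K)
  have hsq : Φ'.map a.hom ≫ θ G' = θ G ≫ Φ.map ((pullEt hf AddCommGrpCat.{u + 1}).map a).hom := by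
    simp only [θ, Category.assoc]
    rw [← pushStalk_naturality hf hX hY p hp, ← Functor.map_comp_assoc, ← Functor.map_comp_assoc]
    congr 2
    exact congrArg (fun t => t.hom) ((pullPushAdjEt hf AddCommGrpCat.{u + 1}).unit.naturality a)
  intro z z' h
  obtain ⟨w, rfl⟩ := (hθ G).2 z
  obtain ⟨w', rfl⟩ := (hθ G).2 z'
  rw [← ConcreteCategory.comp_apply, ← ConcreteCategory.comp_apply, ← hsq, ConcreteCategory.comp_apply,
    ConcreteCategory.comp_apply] at h
  rw [injective_fiber hY (p.map f) hp a ((hθ G').1 h)]⟩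

include hX hY in
/-- inverse images are exact -/
theorem preservesFiniteLimits_pullEt : PreservesFiniteLimits (pullEt hf AddCommGrpCat.{u + 1}) := by
  haveI := preservesMonomorphisms_pullEt hX hY hf
  haveI : (pullEt hf AddCommGrpCat.{u + 1}).IsLeftAdjoint := (pullPushAdjEt hf AddCommGrpCat.{u + 1}).isLeftAdjoint
  haveI : (pullEt hf AddCommGrpCat.{u + 1}).Additive := (pullPushAdjEt hf AddCommGrpCat.{u + 1}).left_adjoint_additive
  rw [Functor.preservesFiniteLimits_iff_forall_exact_map_and_mono]
  intro C hC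
  haveI := hC.mono_f
  haveI := hC.epi_g
  exact ⟨hC.exact.map_of_epi_of_preservesCokernel (pullEt hf AddCommGrpCat.{u + 1}) inferInstance inferInstance, inferInstance⟩

/-- the coefficients -/
abbrev intU : AddCommGrpCat.{u + 1} := AddCommGrpCat.of (ULift.{u + 1} ℤ)

/-- the constant sheaf -/
abbrev constEt (Z : Sp S) : AbEt Z := (constantSheaf (etTop Z) AddCommGrpCat.{u + 1}).obj intU.{u}

/-- the stalk map from the constants -/
theorem bijective_constFiber (hX : IsAlgSpace X) (p : FieldPt X) (hp : p.IsGeometric) (E : EtOver X)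
    (x : (FieldPt.liftsTo p).obj E) :
    Function.Bijective (fun z : intU.{u} => (EtNbhd.point hX p hp).presheafFiber.map
      (toSheafify (etTop X) ((Functor.const (EtOver X)ᵒᵖ).obj intU.{u}))
      ((EtNbhd.point hX p hp).toPresheafFiber E x ((Functor.const (EtOver X)ᵒᵖ).obj intU.{u}) z)) := by
  refine Function.Bijective.comp
    ⟨(EtNbhd.point hX p hp).toPresheafFiber_map_injective _, (EtNbhd.point hX p hp).toPresheafFiber_map_surjective _⟩ ?_
  refine ⟨fun z z' h => ?_, fun w => ?_⟩
  · obtain ⟨L, g, l, -, hg⟩ := ((EtNbhd.point hX p hp).toPresheafFiber_eq_iff' (P := (Functor.const (EtOver X)ᵒᵖ).obj intU.{u}) E x z z').1 h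
    exact hg
  · obtain ⟨V, y, z, rfl⟩ := (EtNbhd.point hX p hp).toPresheafFiber_jointly_surjective w
    obtain ⟨v, hv₁, hv₂⟩ := EtNbhd.exists_prod_lift (p := p) ⟨E, x⟩ ⟨V, y⟩
    refine ⟨z, ?_⟩
    have h1 := GrothendieckTopology.Point.toPresheafFiber_w_apply (EtNbhd.point hX p hp) (EtOver.prodFst E V) v
      ((Functor.const (EtOver X)ᵒᵖ).obj intU.{u}) z
    have h2 := GrothendieckTopology.Point.toPresheafFiber_w_apply (EtNbhd.point hX p hp) (EtOver.prodSnd E V) v
      ((Functor.const (EtOver X)ᵒᵖ).obj intU.{u}) z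
    have a1 := congrArg (fun r => (EtNbhd.point hX p hp).toPresheafFiber E r
        ((Functor.const (EtOver X)ᵒᵖ).obj intU.{u}) z) hv₁
    have a2 := congrArg (fun r => (EtNbhd.point hX p hp).toPresheafFiber V r
        ((Functor.const (EtOver X)ᵒᵖ).obj intU.{u}) z) hv₂
    exact (a1.symm.trans h1.symm).trans (h2.trans a2)

/-- the comparison of constant presheaves -/
def constComp : (Functor.const (EtOver Y)ᵒᵖ).obj intU.{u} ⟶
    ((pushEt hf AddCommGrpCat.{u + 1}).obj (constEt X)).obj where
  app E := (toSheafify (etTop X) ((Functor.const (EtOver X)ᵒᵖ).obj intU.{u})).app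
    (op ((EtOver.bc hf).obj E.unop))
  naturality _ _ g :=
    (toSheafify (etTop X) ((Functor.const (EtOver X)ᵒᵖ).obj intU.{u})).naturality ((EtOver.bc hf).map g.unop).op

/-- the comparison of constant sheaves -/
def constToPush : constEt Y ⟶ (pushEt hf AddCommGrpCat.{u + 1}).obj (constEt X) :=
  ⟨sheafifyLift (etTop Y) (constComp hf) ((pushEt hf AddCommGrpCat.{u + 1}).obj (constEt X)).property⟩

include hX hY in
/-- inverse images of constant sheaves are constant -/
theorem nonempty_pull_const : Nonempty ((pullEt hf AddCommGrpCat.{u + 1}).obj (constEt Y) ≅ constEt X) := by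
  let adj := pullPushAdjEt hf AddCommGrpCat.{u + 1}
  let ψ : (pullEt hf AddCommGrpCat.{u + 1}).obj (constEt Y) ⟶ constEt X := (adj.homEquiv _ _).symm (constToPush hf)
  haveI : IsIso ψ := isIso_of_bijective_stalks hX ψ fun E e => by
    obtain ⟨p, x, hp, hx, -⟩ := StalkPoint.exists_point_through E e
    refine ⟨p, hp, x, hx, ?_⟩
    have hp' : (p.map f).IsGeometric := hp
    obtain ⟨⟨E', x'⟩⟩ : Nonempty (EtNbhd.point hY (p.map f) hp).fiber.Elements :=
      (EtNbhd.point hY (p.map f) hp).isCofiltered.nonempty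
    let Φ := (EtNbhd.point hX p hp).presheafFiber (A := AddCommGrpCat.{u + 1})
    let Φ' := (EtNbhd.point hY (p.map f) hp).presheafFiber (A := AddCommGrpCat.{u + 1})
    let θ := Φ'.map (adj.unit.app (constEt Y)).hom ≫
      pushStalk hf hX hY p hp ((pullEt hf AddCommGrpCat.{u + 1}).obj (constEt Y))
    have hθ : Function.Bijective θ :=
      (ConcreteCategory.isIso_iff_bijective _).1 (isIso_unit_pushStalk hX hY hf p hp (constEt Y))
    have hsq : θ ≫ Φ.map ψ.hom = Φ'.map (constToPush hf).hom ≫ pushStalk hf hX hY p hp (constEt X) := by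
      have e : adj.homEquiv _ _ ψ = constToPush hf := (adj.homEquiv _ _).apply_symm_apply _
      rw [Adjunction.homEquiv_unit] at e
      simp only [θ, Category.assoc]
      rw [← pushStalk_naturality hf hX hY p hp, ← Functor.map_comp_assoc]
      exact congrArg (fun t : constEt Y ⟶ (pushEt hf AddCommGrpCat.{u + 1}).obj (constEt X) =>
        Φ'.map t.hom ≫ pushStalk hf hX hY p hp (constEt X)) e
    have hY' := bijective_constFiber hY (p.map f) hp E' x'
    have hX' := bijective_constFiber hX p hp ((EtOver.bc hf).obj E') (toBc hf x')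
    refine (Function.Bijective.of_comp_iff _ hθ).1 ((Function.Bijective.of_comp_iff _ hY').1 ?_)
    refine (congrArg Function.Bijective (funext fun z => ?_)).mpr hX'
    simp only [Function.comp_apply]
    rw [← ConcreteCategory.comp_apply θ, hsq, ConcreteCategory.comp_apply,
      GrothendieckTopology.Point.toPresheafFiber_naturality_apply,
      GrothendieckTopology.Point.toPresheafFiber_naturality_apply]
    erw [GrothendieckTopology.Point.toPresheafFiber_naturality_apply]
    refine (congrArg (fun t => pushStalk hf hX hY p hp (constEt X)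
      ((EtNbhd.point hY (p.map f) hp).toPresheafFiber E' x' ((pushEt hf AddCommGrpCat.{u + 1}).obj (constEt X)).obj t)) ?_).trans (pushStalk_apply hf hX hY p hp _ E' x' _)
    exact ConcreteCategory.congr_hom (NatTrans.congr_app (toSheafify_sheafifyLift (etTop Y) (constComp hf)
      ((pushEt hf AddCommGrpCat.{u + 1}).obj (constEt X)).property) (op E')) z
  exact ⟨asIso ψ⟩

include hX hY in
/-- cohomology of direct images -/
theorem nonempty_hEt_push (F : AbEt X) (hR : ∀ q, 0 < q → IsZero ((RpushEt hf q).obj F)) (n : ℕ) :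
    Nonempty (HEt X F n ≃+ HEt Y ((pushEt hf AddCommGrpCat.{u + 1}).obj F) n) := by
  haveI := preservesFiniteLimits_pullEt hX hY hf
  let adj := pullPushAdjEt hf AddCommGrpCat.{u + 1}
  haveI : (pullEt hf AddCommGrpCat.{u + 1}).IsLeftAdjoint := adj.isLeftAdjoint
  haveI : (pullEt hf AddCommGrpCat.{u + 1}).Additive := adj.left_adjoint_additive
  obtain ⟨e⟩ := nonempty_pull_const hX hY hf
  have h := EtCmp.bijective_adjExtHom adj (constEt Y) n F hR
  let P : Abelian.Ext ((pullEt hf AddCommGrpCat.{u + 1}).obj (constEt Y)) F n ≃+ Abelian.Ext (constEt X) F n :=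
    { toFun := fun x => (Abelian.Ext.mk₀ e.inv).comp x (zero_add n)
      invFun := fun x => (Abelian.Ext.mk₀ e.hom).comp x (zero_add n)
      left_inv := fun x => by
        dsimp only
        rw [Abelian.Ext.mk₀_comp_mk₀_assoc, Iso.hom_inv_id, Abelian.Ext.mk₀_id_comp]
      right_inv := fun x => by
        dsimp only
        rw [Abelian.Ext.mk₀_comp_mk₀_assoc, Iso.inv_hom_id, Abelian.Ext.mk₀_id_comp]
      map_add' := fun x y => Abelian.Ext.comp_add _ x y (zero_add n) }
  exact ⟨((AddEquiv.ofBijective (EtCmp.adjExtHom adj (constEt Y) F n) h).trans P).symm⟩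

end Groth.Agent.AlgSpLib.PushEtStalk
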