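import Groth.Agent.AlgSpLib.SerreAffineNoeth
import Groth.Agent.AlgSpLib.QCohEtClosedImage
import Groth.Agent.AlgSpLib.QCohEtClosedFinite
import Groth.Agent.AlgSpLib.QCohEtPushQcqs
import Groth.Agent.AlgSpLib.PullModEt
import Groth.Agent.AlgSpLib.PushEtStalk
import Groth.Agent.AlgSpLib.QCohEtPullExact
import Groth.Agent.AlgSpLib.FpqcBaseAffine2
import Groth.Agent.S10754

/-!
Vanishing of first cohomology along extensions and for modules supported on affine closed subspaces.
-/

universe u

open CategoryTheory CategoryTheory.Limits AlgebraicGeometry Opposite TensorProduct CategoryTheory.Abelian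
open AlgSp

noncomputable section

set_option linter.style.haveILetI false

namespace Groth.Agent.AlgSpLib.SerreChev

open Groth.Agent.AlgSpLib Groth.Agent.AlgSpLib.QCohEt Groth.Agent.AlgSpLib.SerreAff

set_option backward.isDefEq.respectTransparency.types false
set_option backward.isDefEq.respectTransparency false

variable {S : Scheme.{u}} {X : Sp S}

/-- vanishing of first cohomology of one module -/
def V1 (M : ModEt X) : Prop := Subsingleton (HModEt X M 1)

theorem v1_iso {A B : ModEt X} (e : A ≅ B) (h : V1 A) : V1 B := by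
  haveI : Subsingleton (((toAbEt X ⋙ HEtF X 1).obj A : AddCommGrpCat.{u + 1}) : Type (u + 1)) := h
  exact ((toAbEt X ⋙ HEtF X 1).mapIso e).symm.addCommGroupIsoToAddEquiv.toEquiv.subsingleton

/-- vanishing passes to extensions -/
theorem v1_mid {T : ShortComplex (ModEt X)} (hT : T.ShortExact) (h₁ : V1 T.X₁) (h₃ : V1 T.X₃) : V1 T.X₂ := by
  haveI : Mono T.f := hT.mono_f
  haveI : Epi T.g := hT.epi_g
  haveI : Mono (T.map (toAbEt X)).f := inferInstanceAs (Mono ((toAbEt X).map T.f))
  haveI : Epi (T.map (toAbEt X)).g := inferInstanceAs (Epi ((toAbEt X).map T.g))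
  have hS : (T.map (toAbEt X)).ShortExact :=
    ShortComplex.ShortExact.mk (hT.exact.map_of_mono_of_preservesKernel (toAbEt X) inferInstance inferInstance)
  refine ⟨fun a b => sub_eq_zero.1 ?_⟩
  obtain ⟨x, hx⟩ := Ext.covariant_sequence_exact₂ _ hS (a - b) (@Subsingleton.elim _ h₃ _ _)
  rw [← hx]
  exact (congrArg (fun z => Ext.comp z _ (add_zero 1)) (@Subsingleton.elim _ h₁ x 0)).trans (Ext.zero_comp ..)

/-- vanishing for a submodule and the quotient gives vanishing -/
theorem v1_of_mono {A B : ModEt X} (i : A ⟶ B) [Mono i] (hA : V1 A) (hC : V1 (cokernel i)) : V1 B :=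
  v1_mid (T := ShortComplex.mk i (cokernel.π i) (cokernel.condition i))
    (ShortComplex.ShortExact.mk (ShortComplex.exact_of_g_is_cokernel _ (cokernelIsCokernel i))) hA hC

theorem v1_retract {A B : ModEt X} (i : A ⟶ B) (p : B ⟶ A) (hip : i ≫ p = 𝟙 A) (h : V1 B) : V1 A := by
  let F := toAbEt X ⋙ HEtF X 1
  haveI : Subsingleton ((F.obj B : AddCommGrpCat.{u + 1}) : Type (u + 1)) := h
  have key : F.map i ≫ F.map p = 𝟙 (F.obj A) := by rw [← F.map_comp, hip, F.map_id]
  refine ⟨fun a b => ?_⟩
  have h2 : ∀ z : (F.obj A : AddCommGrpCat.{u + 1}), F.map p (F.map i z) = z := fun z =>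
    ConcreteCategory.congr_hom key z
  exact (h2 a).symm.trans ((congrArg (F.map p) (Subsingleton.elim _ _)).trans (h2 b))

theorem v1_of_isZero {A : ModEt X} (h : IsZero A) : V1 A :=
  ⟨fun a b => by
    have h2 : ∀ z : HModEt X A 1, Ext.comp z (Ext.mk₀ ((toAbEt X).map (𝟙 A))) (add_zero 1) = z := fun z => by
      rw [(toAbEt X).map_id, Ext.comp_mk₀_id]
    rw [← h2 a, ← h2 b, (IsZero.iff_id_eq_zero A).1 h]
    haveI : (toAbEt X).PreservesZeroMorphisms := inferInstance
    simp only [Functor.map_zero, Ext.mk₀_zero, Ext.comp_zero]⟩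

theorem eq_zero_of_affine {A B : ModEt X} (f : A ⟶ B)
    (h : ∀ E, IsAff E → ∀ a : Sec A E, secMap f E a = 0) : f = 0 := by
  refine SheafOfModules.Hom.ext (PresheafOfModules.hom_ext fun W => ?_)
  ext m
  refine sec_eq_of_affine B _ _ fun Z g hZ => ?_
  show mapSec B g (secMap f W.unop m) = mapSec B g 0
  rw [map_zero, mapSec_secMap]
  exact h Z hZ _

theorem mono_of_injective {A B : ModEt X} (f : A ⟶ B) (h : ∀ E, IsAff E → Function.Injective (secMap f E)) :
    Mono f :=
  Preadditive.mono_of_cancel_zero _ fun g hg => eq_zero_of_affine g fun E hE a =>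
    h E hE ((secMap_comp_zero hg E a).trans (map_zero (secMap f E)).symm)

theorem injective_secMap_of_mono {A B : ModEt X} (i : A ⟶ B) [Mono i] (E : EtOver X) :
    Function.Injective (secMap i E) := by
  haveI : Mono i.val := (SheafOfModules.forget (OEtRing X)).map_mono i
  haveI : Mono ((PresheafOfModules.evaluation _ (op E)).map i.val) := inferInstance
  exact (ModuleCat.mono_iff_injective _).1 this

theorem isZero_of_forall (A : ModEt X) (h : ∀ E, IsAff E → ∀ a : Sec A E, a = 0) : IsZero A :=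
  (IsZero.iff_id_eq_zero A).2 (eq_zero_of_affine _ fun E hE a => (congrArg _ (h E hE a)).trans (map_zero _))

/-- a map of quasi-coherent modules vanishing on a chart vanishes -/
theorem eq_zero_of_chart (hX : IsAlgSpace X) {A B : ModEt X} [A.IsQuasicoherent] (f : A ⟶ B)
    {E₀ : EtOver X} [IsAff E₀] (hs : RepWith @Surjective E₀.obj.hom) (h : ∀ a : Sec A E₀, secMap f E₀ a = 0) :
    f = 0 := by
  refine eq_zero_of_affine f fun E hE a => ?_
  haveI := hE
  have key : ∀ e : E.obj.left.left, ∃ (W : EtOver X) (g : W ⟶ E) (_ : W ⟶ E₀),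
      IsAff W ∧ e ∈ Set.range g.hom.left.left := fun e => by
    obtain ⟨u, hu⟩ := surjective_ofPt E₀.obj.hom hs (Points.ofPt E.obj.hom e)
    obtain ⟨W, hW, g, q, w, hg, -⟩ := exists_common_refinement hX hu.symm
    exact ⟨W, g, q, hW, w, hg⟩
  choose W g q hW hc using key
  refine mapSec_ext B g (fun e => ⟨e, hc e⟩) _ _ fun e => ?_
  haveI := hW e
  rw [map_zero, mapSec_secMap]
  generalize mapSec A (g e) a = m
  obtain ⟨z, rfl⟩ := (isBC A E₀ (Over.mk (q e)) (hW e)).surjective m
  refine (bcMap_natural f E₀ (Over.mk (q e)) z).trans ?_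
  rw [show secMap f E₀ = 0 from LinearMap.ext h, LinearMap.lTensor_zero, LinearMap.zero_apply, map_zero]

/-- direct images from affine schemes along affine morphisms -/
theorem v1_push (hX : IsAlgSpace X) {T : Over S} [IsAffine T.left] {f : (yon S).obj T ⟶ X}
    (hf : Representable f) (haff : IsAffineMor f) (M : ModEt ((yon S).obj T)) [M.IsQuasicoherent] :
    V1 ((pushModEt hf).obj M) := by
  haveI : Subsingleton (HEt ((yon S).obj T) ((toAbEt ((yon S).obj T)).obj M) 1) :=
    Groth.Agent.S10754.result ⟨(yon S).obj T, IsAlgSpace.yon_obj T⟩ T inferInstance (Iso.refl _) M 1 Nat.one_pos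
  obtain ⟨e⟩ := PushEtStalk.nonempty_hEt_push (IsAlgSpace.yon_obj T) hX hf ((toAbEt ((yon S).obj T)).obj M)
    (fun q hq => by
      obtain ⟨n, rfl⟩ : ∃ n, q = n + 1 := ⟨q - 1, by omega⟩
      exact isZero_rpushEt hf (fun E hE => by haveI := hE; exact isAff_bcObj hf haff E) n _ (affBasis_acyclic M)) 1
  exact e.symm.toEquiv.subsingleton

theorem isQuasicoherent_push {Y : Sp S} {f : Y ⟶ X} (hf : Representable f) (haff : IsAffineMor f)
    (M : ModEt Y) [M.IsQuasicoherent] : ((pushModEt hf).obj M).IsQuasicoherent :=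
  isQuasicoherent_of_forall _ fun E hE => by haveI := hE; exact isBC_push hf haff M E

/-- the support of a module lies in a set -/
def SuppIn (M : ModEt X) (Z : Set (Points X)) : Prop :=
  ∀ (E : EtOver X) (_ : IsAff E) (e : E.obj.left.left), InSupp M E e → Points.ofPt E.obj.hom e ∈ Z

theorem SuppIn.of_mono {A B : ModEt X} (i : A ⟶ B) [Mono i] {Z : Set (Points X)} (h : SuppIn B Z) :
    SuppIn A Z := fun E hE e ⟨s, hs⟩ => h E hE e ⟨secMap i E s, fun r hr => hs (CAlgH3.mem_annEl.2
      (injective_secMap_of_mono i E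
        (((map_smul (secMap i E) r s).trans (CAlgH3.mem_annEl.1 hr)).trans (map_zero _).symm)))⟩

theorem SuppIn.cokernel {A B : ModEt X} (i : A ⟶ B) [A.IsQuasicoherent] [B.IsQuasicoherent] {Z : Set (Points X)}
    (h : SuppIn B Z) : SuppIn (Limits.cokernel i) Z := fun E hE e ⟨s, hs⟩ => by
  haveI := hE
  obtain ⟨b, rfl⟩ := surjective_cokernel_π i E s
  exact h E hE e ⟨b, fun r hr => hs (CAlgH3.mem_annEl.2 (by rw [← map_smul, CAlgH3.mem_annEl.1 hr, map_zero]))⟩

variable [QuasiSeparatedSpace ↥S] {Y : AlgSp.Space S}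

theorem finite_sec_of_fp (M : ModEt X) [M.IsFinitePresentation] (E : EtOver X) [IsAff E] :
    Module.Finite (ΓE E) (Sec M E) :=
  haveI := finitePresentation_sec M E
  inferInstance

/-- quotients of coherent modules are coherent -/
theorem isFinitePresentation_quotient {M : ModEt X} [M.IsFinitePresentation] (hN : IsLocNoethSp X)
    (Q : QSub M) : Q.obj.IsFinitePresentation ∧ (cokernel Q.incl).IsFinitePresentation := by
  haveI := Q.isQuasicoherent_obj
  have hfg : ∀ E hE, (Q.P E hE).FG := fun E hE => by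
    haveI := hE
    haveI := isNoetherianRing_ΓE hN E
    haveI := finite_sec_of_fp M E
    exact IsNoetherian.noetherian _
  haveI := Q.isFiniteType_obj hfg
  haveI := isFinitePresentation_of_finiteType Q.obj hN
  exact ⟨inferInstance, isFinitePresentation_cokernel Q.incl⟩

/-- modules supported on a closed subspace which is affine have no first cohomology -/
theorem v1_of_suppIn_affine (hN : IsLocNoethSp Y.obj) {E₀ : EtOver Y.obj} [IsAff E₀]
    (hs : RepWith @Surjective E₀.obj.hom)
    {T : Over S} [IsAffine T.left] {i : (yon S).obj T ⟶ Y.obj} (hi : RepWith @IsClosedImmersion i)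
    (M : ModEt Y.obj) [M.IsFinitePresentation] (hM : SuppIn M (Set.range (Points.map i))) : V1 M := by
  classical
  let J : IdealEt Y.obj := idealOfRep hi.1
  have hJ := isQCoh_idealOfRep hi
  let I : Ideal Γ(E₀.obj.left.left, ⊤) := J.ideal E₀ inferInstance
  haveI := isNoetherianRing_ΓE hN E₀
  haveI : IsNoetherianRing Γ(E₀.obj.left.left, ⊤) :=
    isNoetherianRing_of_ringEquiv (ΓE E₀) (ULift.ringEquiv (R := Γ(E₀.obj.left.left, ⊤)))
  have hzero : E₀.obj.left.left.zeroLocus (U := ⊤) (I : Set Γ(E₀.obj.left.left, ⊤)) =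
      Points.ofPt E₀.obj.hom ⁻¹' Set.range (Points.map i) := zeroLocus_isCutOutBy ⟨hi, rfl⟩ E₀ inferInstance
  suffices key : ∀ (n : ℕ) (N : ModEt Y.obj), N.IsFinitePresentation →
      (∀ x : Sec N E₀, ∀ a ∈ upIdeal E₀ (I ^ n), a • x = 0) → V1 N by
    haveI := finite_sec_of_fp M E₀
    have hmem : ∀ x : Sec M E₀, x ∈ (⨆ n : ℕ, annSub M E₀ (upIdeal E₀ (I ^ n))) := fun x => by
      refine ((mem_iSup_annSub_iff M E₀ I (IsNoetherian.noetherian _) x).1).2 fun e he => ?_
      rw [hzero]
      refine hM E₀ inferInstance e ⟨x, fun r hr => ?_⟩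
      have h0 : r • x = (0 : Sec M E₀) := (CAlgH3.mem_annEl (R := ΓE E₀)).1 hr
      have hd : r.down ∈ annSect (M := M) (E := E₀) x := (mem_annSect_iff (M := M) (E := E₀) x r.down).2 h0
      have h1 := (mem_zeroLocus_iff_le_primeAtPt _ e).1 he hd
      exact (upΓ_mem_primeE E₀ r.down e).2 h1
    have hdir : Directed (· ≤ ·) (fun n : ℕ => annSub M E₀ (upIdeal E₀ (I ^ n))) :=
      Monotone.directed_le fun m n hmn x hx a ha => hx a (Ideal.map_mono (Ideal.pow_le_pow_right hmn) ha)
    obtain ⟨t, ht⟩ := (Module.Finite.fg_top : (⊤ : Submodule (ΓE E₀) (Sec M E₀)).FG)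
    have h2 : ∀ x : Sec M E₀, ∃ n, x ∈ annSub M E₀ (upIdeal E₀ (I ^ n)) := fun x =>
      (Submodule.mem_iSup_of_directed _ hdir).1 (hmem x)
    choose nx hnx using h2
    refine key (t.sup nx) M inferInstance fun x a ha => ?_
    have hx : x ∈ Submodule.span (ΓE E₀) (t : Set (Sec M E₀)) := by rw [ht]; trivial
    refine (Submodule.span_le.2 (fun y hy => ?_) hx :
      x ∈ annSub M E₀ (upIdeal E₀ (I ^ (t.sup nx)))) a ha
    exact fun a ha => hnx y a (Ideal.map_mono (Ideal.pow_le_pow_right (Finset.le_sup (Finset.mem_coe.1 hy))) ha)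
  intro n
  induction n with
  | zero =>
    intro N hN' h
    haveI := hN'
    refine v1_of_isZero ((IsZero.iff_id_eq_zero N).2 (eq_zero_of_chart Y.property _ hs fun x => ?_))
    refine ((one_smul (ΓE E₀) x).symm.trans (h x 1 ?_) : x = 0)
    rw [pow_zero, upIdeal, Ideal.one_eq_top, Ideal.map_top]
    trivial
  | succ n ih =>
    intro N hN' h
    haveI := hN'
    let Q := idealSub N J hJ
    haveI : Q.obj.IsQuasicoherent := Q.isQuasicoherent_obj
    obtain ⟨hQ1, hQ2⟩ := isFinitePresentation_quotient hN Q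
    haveI := hQ2
    have hQ0 : V1 Q.obj := ih Q.obj hQ1 fun x a ha => Q.injective_incl E₀ (by
      rw [map_smul, map_zero]
      have hx : secMap Q.incl E₀ x ∈ upIdeal E₀ I • (⊤ : Submodule (ΓE E₀) (Sec N E₀)) :=
        (Q.range_incl (inferInstance : IsAff E₀)).subset ⟨x, rfl⟩
      refine Submodule.smul_induction_on hx (fun b hb m _ => ?_) fun y z hy hz => ?_
      · rw [smul_smul]
        refine h m _ ?_
        rw [pow_succ, upIdeal, Ideal.map_mul]
        exact Ideal.mul_mem_mul ha hb
      · rw [smul_add, hy, hz, add_zero])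
    refine v1_of_mono Q.incl hQ0 ?_
    have hkill : Kills hi (cokernel Q.incl) := kills_quotient hi N Q fun W hW => le_rfl
    obtain ⟨G, ⟨e⟩⟩ := exists_iso_push hi Y.property (cokernel Q.incl) hkill (IsAlgSpace.yon_obj T)
    haveI : ((pushModEt hi.1).obj G).IsQuasicoherent :=
      (SheafOfModules.isQuasicoherent (OEtRing Y.obj)).prop_of_iso e.symm
        (show SheafOfModules.isQuasicoherent (OEtRing Y.obj) (cokernel Q.incl) from inferInstanceAs ((cokernel Q.incl).IsQuasicoherent))
    haveI := isQuasicoherent_of_push hi Y.property G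
    exact v1_iso e (v1_push Y.property hi.1 (isAffineMor_closed hi) G)

end Groth.Agent.AlgSpLib.SerreChev
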