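import Groth.Agent.AlgSpLib.AffineEtaleQuot
import Groth.Agent.AlgSpLib.PointsTop
import Groth.Agent.AlgSpLib.LqfPiece
import Groth.Agent.AlgSpLib.MorProper
import Groth.Agent.AlgSpLib.MorMore
import Groth.Agent.GrpdLib.InvariantAffine
import Groth.Agent.Stk19b.Fppf.Basic
import Groth.Agent.PnEmb.Segre

/-!
Affine open subspaces of a space with a finite etale chart.
-/

universe u

open CategoryTheory CategoryTheory.Limits AlgebraicGeometry Opposite
open AlgSp

noncomputable section

namespace Groth.Agent.AlgSpLib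

set_option backward.isDefEq.respectTransparency.types false

variable {S : Scheme.{u}}

theorem range_map_ι {V : Over S} (O : V.left.Opens) :
    Set.range (Points.map ((yon S).map (Over.homMk O.ι : Over.mk (O.ι ≫ V.hom) ⟶ V))) =
      Points.ofScheme V '' (O : Set ↥V.left) := by
  let jO : Over.mk (O.ι ≫ V.hom) ⟶ V := Over.homMk O.ι
  show Set.range (Points.map ((yon S).map jO)) = _
  ext z
  constructor
  · rintro ⟨y, rfl⟩
    obtain ⟨y, rfl⟩ := (Points.schemeEquiv _).surjective y
    exact ⟨O.ι y, y.2, (map_yon_map_ofScheme jO y).symm⟩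
  · rintro ⟨a, ha, rfl⟩
    exact ⟨Points.ofScheme _ ⟨a, ha⟩, map_yon_map_ofScheme jO ⟨a, ha⟩⟩

/-- near a point whose orbit lies in an affine open, a space with a finite etale chart is an affine scheme -/
theorem exists_affine_open_of_finite_chart {Y : Sp S} (hY : IsAlgSpace Y) {V : Over S}
    (p : (yon S).obj V ⟶ Y) (he : RepWith @Etale p) (hfi : RepWith @IsFinite p) (v : ↥V.left)
    {O : V.left.Opens} (hO : IsAffineOpen O) (hvO : ∀ w, Points.ofPt p w = Points.ofPt p v → w ∈ O) :
    ∃ (C : Over S) (j : (yon S).obj C ⟶ Y), IsAffine C.left ∧ RepWith @IsOpenImmersion j ∧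
      Points.ofPt p v ∈ Set.range (Points.map j) := by
  let s := he.1.snd p
  obtain ⟨t, ht⟩ := (yon S).map_surjective (he.1.fst p)
  have sqR : IsPullback ((yon S).map t) ((yon S).map s) p p := ht ▸ he.1.isPullback p
  have hst : ∀ r, Points.ofPt p (t.left r) = Points.ofPt p (s.left r) := fun r => by
    rw [← ofPt_map, sqR.w, ofPt_map]
  have : Etale s.left := he.property _ _ _ sqR
  have hsfin : IsFinite s.left := hfi.property _ _ _ sqR
  -- an affine open of the base
  obtain ⟨q, -⟩ := exists_to_base Y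
  obtain ⟨c, hc⟩ := (yon S).map_surjective (p ≫ q)
  have hs : ∀ w, Points.ofPt p w = Points.ofPt p v → c.left w = c.left v := fun w hw => by
    have := congrArg (Points.map q) hw
    rw [Points.map_ofPt, Points.map_ofPt, ← hc] at this
    have := congrArg (Points.toScheme _) this
    rwa [Points.toScheme_ofPt, Points.toScheme_ofPt] at this
  obtain ⟨Z, hZ, hvZ, -⟩ := exists_isAffineOpen_mem_and_subset (x := c.left v) (U := ⊤) trivial
  have : IsAffine O.toScheme := hO
  have hfibre : (Points.ofPt p ⁻¹' {Points.ofPt p v}).Finite := by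
    refine ((s.left.finite_preimage_singleton v).image t.left).subset fun w hw => ?_
    obtain ⟨r, hr1, hr2⟩ := (ofPt_eq_ofPt_iff sqR w v).1 hw
    exact ⟨r, hr2, hr1⟩
  obtain ⟨f, hf1, hf2⟩ := GrpdLib.exists_basicOpen_of_finite
    (O.ι ⁻¹' (Points.ofPt p ⁻¹' {Points.ofPt p v})) (hfibre.preimage O.ι.isOpenEmbedding.injective.injOn)
    (O.ι ⁻¹ᵁ c.left ⁻¹ᵁ Z) (fun w hw => show c.left (O.ι w) ∈ Z by rw [hs _ hw]; exact hvZ)
  let O' : V.left.Opens := O.ι ''ᵁ O.toScheme.basicOpen f
  have hO' : IsAffineOpen O' := ((isAffineOpen_top O.toScheme).basicOpen f).image_of_isOpenImmersion O.ι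
  have hO'Z : ∀ w ∈ O', c.left w ∈ Z := by
    rintro _ ⟨w, hw, rfl⟩
    exact hf2 hw
  let G := Stk19b.Fppf.grpd (isEqvRel_of_isPullback sqR)
  have : IsFinite G.s := hsfin
  have : Flat G.s := inferInstanceAs (Flat s.left)
  have : LocallyOfFinitePresentation G.s := inferInstanceAs (LocallyOfFinitePresentation s.left)
  obtain ⟨W, hWa, hvW, hWO, hinv⟩ := GrpdLib.exists_invariant_affine G v O' hO' fun r hr => by
    have h : Points.ofPt p (t.left r) = Points.ofPt p v := (hst r).trans (congrArg _ hr)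
    exact ⟨⟨t.left r, hvO _ h⟩, hf1 h, rfl⟩
  let WV : V.left.Opens := W
  let Ω : Set (Points Y) := Points.ofPt p '' (WV : Set ↥V.left)
  have hΩ : IsOpen Ω := isOpenMap_ofPt p he _ WV.2
  have hpre : Points.ofPt p ⁻¹' Ω = (WV : Set ↥V.left) := by
    refine subset_antisymm ?_ (Set.subset_preimage_image _ _)
    rintro w ⟨w', hw', e⟩
    obtain ⟨r, hr1, hr2⟩ := (ofPt_eq_ofPt_iff sqR w w').1 e.symm
    have : r ∈ G.s ⁻¹ᵁ W := show s.left r ∈ WV by rw [hr2]; exact hw'
    rw [hinv] at this
    exact hr1 ▸ this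
  let Y' := openSubspace Y Ω
  let j := openSubspaceι Y Ω
  have hj : RepWith @IsOpenImmersion j := repWith_openSubspaceι Y hΩ
  have : Mono j := inferInstanceAs (Mono (openSubspaceι Y Ω))
  let WW : Over S := Over.mk (WV.ι ≫ V.hom)
  let i : WW ⟶ V := Over.homMk WV.ι
  obtain ⟨q', hq'⟩ := (exists_lift_openSubspace_iff Ω ((yon S).map i ≫ p)).2 fun w => by
    rw [ofPt_map]; exact ⟨_, w.2, rfl⟩
  have hi : RepWith @IsOpenImmersion ((yon S).map i) :=
    (repWith_yon_map_iff _ i).2 (inferInstanceAs (IsOpenImmersion WV.ι))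
  have : Mono ((yon S).map i) :=
    mono_of_repWith (fun _ _ k (_ : IsOpenImmersion k) => (inferInstance : Mono k)) hi
  have sqW : IsPullback ((yon S).map i) q' p j := by
    refine isPullback_of_yon hq'.symm fun T x y e => ?_
    obtain ⟨l, hl⟩ := (exists_lift_iff_range_subset hi x).2 (by
      rintro _ ⟨z, rfl⟩
      rw [range_map_ι]
      obtain ⟨w, hw⟩ := (Points.schemeEquiv V).surjective (Points.map x z)
      refine ⟨w, ?_, hw⟩
      show w ∈ (WV : Set ↥V.left)
      rw [← hpre]
      show Points.ofPt p w ∈ Ω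
      rw [Points.ofPt_eq_map_ofScheme, show Points.ofScheme V w = _ from hw, ← Points.map_comp, e,
        Points.map_comp]
      exact (range_openSubspaceι Y Ω).subset ⟨_, rfl⟩)
    refine ⟨l, ⟨hl, (cancel_mono j).1 ?_⟩, fun l' hl' => (cancel_mono ((yon S).map i)).1 (hl'.1.trans hl.symm)⟩
    rw [Category.assoc, hq', ← Category.assoc, hl, e]
  have hqe : RepWith @Etale q' := RepWith.baseChange sqW he
  have hqf : RepWith @IsFinite q' := RepWith.baseChange sqW hfi
  have hqs : RepWith @Surjective q' := by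
    refine repWith_surjective_of_surjective_map hqe.1 ?_
    intro y
    have hy : Points.map j y ∈ Ω := (range_openSubspaceι Y Ω).subset ⟨_, rfl⟩
    obtain ⟨w, hw, e⟩ := hy
    refine ⟨Points.ofScheme WW ⟨w, hw⟩, injective_map_of_mono j ?_⟩
    rw [← Points.map_comp, hq', ← Points.ofPt_eq_map_ofScheme, ofPt_map]
    exact e
  have : IsAffine WW.left := hWa
  let s' := hqe.1.snd q'
  obtain ⟨t', ht'⟩ := (yon S).map_surjective (hqe.1.fst q')
  have sqK : IsPullback ((yon S).map t') ((yon S).map s') q' q' := ht' ▸ hqe.1.isPullback q'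
  have : Etale s'.left := hqe.property _ _ _ sqK
  have : Etale t'.left := hqe.property _ _ _ sqK.flip
  have : IsFinite t'.left := hqf.property _ _ _ sqK.flip
  have : IsAffine (hqe.1.pullback q').left := isAffine_of_isAffineHom t'.left
  let ZZ : Over S := Over.mk Z.ι
  have : IsAffine ZZ.left := hZ
  let jZ : ZZ ⟶ Over.mk (𝟙 S) := Over.homMk Z.ι (Category.comp_id _)
  have hjZ : RepWith @IsOpenImmersion ((yon S).map jZ) :=
    (repWith_yon_map_iff _ jZ).2 (inferInstanceAs (IsOpenImmersion Z.ι))
  obtain ⟨g, -⟩ := (exists_lift_iff_range_subset hjZ (j ≫ q)).2 (by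
    rintro _ ⟨y, rfl⟩
    obtain ⟨z, rfl⟩ := surjective_map_of_repWith hqs y
    obtain ⟨z, rfl⟩ := (Points.schemeEquiv WW).surjective z
    rw [← Points.map_comp, reassoc_of% hq', ← hc, ← Functor.map_comp]
    refine ⟨Points.ofScheme ZZ ⟨c.left (i.left z), hO'Z _ (hWO z.2)⟩, ?_⟩
    show _ = Points.map _ (Points.ofScheme WW z)
    rw [map_yon_map_ofScheme, map_yon_map_ofScheme]
    refine congrArg _ ?_
    rw [Over.comp_left, Scheme.Hom.comp_apply]
    rfl)
  have : Sheaf.IsLocallySurjective q' := isLocallySurjective_of_etale hqe hqs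
  have : Epi q' := inferInstance
  -- the arrows embed in the product over the affine base
  let wg := (yon S).preimage (q' ≫ g)
  have hwg : (yon S).map wg = q' ≫ g := Functor.map_preimage _ _
  have ew : t' ≫ wg = s' ≫ wg := (yon S).map_injective (by
    rw [Functor.map_comp, Functor.map_comp, hwg, ← Category.assoc, sqK.w, Category.assoc])
  let P := pullback wg.left wg.left
  let l : (hqe.1.pullback q').left ⟶ P := pullback.lift t'.left s'.left (congrArg (fun φ => φ.left) ew)
  have : Mono l := ⟨fun {T} g₁ g₂ hg => by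
    have a1 := congr($hg ≫ pullback.fst wg.left wg.left)
    have a2 := congr($hg ≫ pullback.snd wg.left wg.left)
    simp only [l, Category.assoc, pullback.lift_fst, pullback.lift_snd] at a1 a2
    exact Stk19b.Fppf.eqvRel_hom_ext (isEqvRel_of_isPullback sqK) a1 a2⟩
  have : IsAffine P := inferInstance
  have : IsFinite (l ≫ pullback.fst wg.left wg.left) := by rw [pullback.lift_fst]; infer_instance
  have : IsFinite l := IsFinite.of_comp l (pullback.fst wg.left wg.left)
  have : IsClosedImmersion l := (IsClosedImmersion.iff_isProper_and_mono l).2 ⟨inferInstance, inferInstance⟩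
  have hgen : Subring.closure (Set.range s'.left.appTop ∪ Set.range t'.left.appTop) = ⊤ := by
    have h1 := PnEmb.closure_range_union_eq_top
      (isPushout_appTop_of_isPullback (IsPullback.of_hasPullback wg.left wg.left))
    have hsurj : Function.Surjective l.appTop.hom := (IsClosedImmersion.isAffine_surjective_of_isAffine l).2
    rw [eq_top_iff]
    rintro z -
    obtain ⟨z', rfl⟩ := hsurj z
    have : z' ∈ Subring.comap l.appTop.hom
        (Subring.closure (Set.range s'.left.appTop ∪ Set.range t'.left.appTop)) := by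
      refine Subring.closure_le.2 ?_ (h1.symm ▸ Subring.mem_top z')
      rintro _ (⟨b, rfl⟩ | ⟨b, rfl⟩)
      · refine Subring.subset_closure (Or.inr ⟨b, ?_⟩)
        rw [← pullback.lift_fst (f := wg.left) (g := wg.left) t'.left s'.left (congrArg (fun φ => φ.left) ew)]
        rfl
      · refine Subring.subset_closure (Or.inl ⟨b, ?_⟩)
        rw [← pullback.lift_snd (f := wg.left) (g := wg.left) t'.left s'.left (congrArg (fun φ => φ.left) ew)]
        rfl
    exact this
  obtain ⟨C, hC, ⟨eC⟩⟩ := exists_affine_quot g q' sqK hgen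
  refine ⟨C, eC.hom ≫ j, hC, RepWith.comp (repWith_of_isIso @IsOpenImmersion eC.hom) hj, ?_⟩
  obtain ⟨y, hy⟩ : Points.ofPt p v ∈ Set.range (Points.map j) :=
    (range_openSubspaceι Y Ω).symm.subset ⟨v, hvW, rfl⟩
  exact ⟨Points.map eC.inv y, by rw [← Points.map_comp, Iso.inv_hom_id_assoc, hy]⟩

end Groth.Agent.AlgSpLib
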