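import Groth.Agent.AlgSpLib.DecentComponents
import Groth.Agent.AlgSpLib.DecentDim
import Groth.Agent.AlgSpLib.LocP
import Groth.Agent.DimLib.Maximal
import Groth.Agent.Stk19b.EtaleDim

/-!
Schemes whose quasi-compact opens have finitely many irreducible components.
-/

universe u

open CategoryTheory CategoryTheory.Limits AlgebraicGeometry Topology
open AlgSp

noncomputable section

namespace Groth.Agent.AlgSpLib

set_option backward.isDefEq.respectTransparency.types false
set_option backward.isDefEq.respectTransparency false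

/-- maximal points -/
def maxPts (U : Scheme.{u}) : Set U := {x | ∀ z : U, z ⤳ x → z = x}

theorem ringKrullDim_stalk_eq_zero_iff {U : Scheme.{u}} (x : U) :
    ringKrullDim ↥(U.presheaf.stalk x) = 0 ↔ x ∈ maxPts U := by
  rw [ringKrullDim_stalk_eq_coheight, ← WithBot.coe_zero, WithBot.coe_inj, Order.coheight_eq_zero]
  exact ⟨fun h z hz => ((show x ⤳ z from h hz).antisymm hz).eq.symm, fun h z hz => (h z hz).symm ▸ le_rfl⟩

theorem exists_maxPts_specializes {U : Scheme.{u}} (x : U) : ∃ η ∈ maxPts U, η ⤳ x := by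
  obtain ⟨η, hη, hmax⟩ := DimLib.exists_genericPoint_of_mem_components (irreducibleComponent_mem_irreducibleComponents x)
  exact ⟨η, fun z hz => (hmax z hz).symm, hη.specializes mem_irreducibleComponent⟩

theorem finite_components_iff_finite_maxPts {U : Scheme.{u}} (W : U.Opens) :
    (irreducibleComponents ↥W).Finite ↔ ((W : Set U) ∩ maxPts U).Finite := by
  have hmax : ∀ w : W.toScheme, w ∈ maxPts W.toScheme ↔ W.ι w ∈ maxPts U := fun w => by
    constructor
    · intro h z hz
      exact congrArg W.ι (h ⟨z, hz.mem_open W.isOpen w.2⟩ (W.ι.isEmbedding.isInducing.specializes_iff.1 hz))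
    · intro h z hz
      exact W.ι.isEmbedding.injective (h _ (hz.map W.ι.continuous))
  change (irreducibleComponents ↥W.toScheme).Finite ↔ _
  constructor
  · intro h
    refine ((h.preimage (f := fun w : W.toScheme => closure ({w} : Set W.toScheme))
      fun a _ b _ hab => (isGenericPoint_closure (x := a)).eq (by rw [show closure ({a} : Set _) = closure {b} from hab]; exact isGenericPoint_closure)).image W.ι).subset ?_
    rintro x ⟨hx, hm⟩
    exact ⟨⟨x, hx⟩, DimLib.closure_mem_components fun z hz => (((hmax ⟨x, hx⟩).2 hm) z hz).symm, rfl⟩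
  · intro h
    refine finite_irreducibleComponents_of_cover
      (h.preimage (f := fun w : W.toScheme => W.ι w) W.ι.isEmbedding.injective.injOn) fun w => ?_
    obtain ⟨η, hη, hsp⟩ := exists_maxPts_specializes w
    exact ⟨η, ⟨η.2, (hmax η).1 hη⟩, hsp⟩

/-- quasi-compact opens have finitely many maximal points -/
def FinMax (U : Scheme.{u}) : Prop := ∀ W : U.Opens, IsCompact (W : Set U) → ((W : Set U) ∩ maxPts U).Finite

theorem finMax_iff {U : Scheme.{u}} :
    FinMax U ↔ ∀ W : U.Opens, IsCompact (W : Set U) → (irreducibleComponents ↥W).Finite :=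
  forall₂_congr fun W _ => (finite_components_iff_finite_maxPts W).symm

theorem finMax_of_flat {U V : Scheme.{u}} (h : U ⟶ V) [Flat h] [LocallyOfFiniteType h] (hV : FinMax V) :
    FinMax U := by
  intro W hW
  choose O hO hxO _ using fun y : V => exists_isAffineOpen_mem_and_subset (x := y) (U := ⊤) (Set.mem_univ _)
  choose A hA hxA hAW using fun x : U => exists_isAffineOpen_mem_and_subset (x := x) (U := h ⁻¹ᵁ O (h x)) (hxO _)
  obtain ⟨t, ht⟩ := hW.elim_finite_subcover (fun x : U => (A x : Set U)) (fun x => (A x).isOpen)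
    fun x _ => Set.mem_iUnion.2 ⟨x, hxA x⟩
  suffices key : ∀ x, ((A x : Set U) ∩ maxPts U).Finite by
    refine (Set.Finite.biUnion t.finite_toSet fun x _ => key x).subset ?_
    rintro y ⟨hy, hm⟩
    obtain ⟨x, hx, hyx⟩ := Set.mem_iUnion₂.1 (ht hy)
    exact Set.mem_iUnion₂.2 ⟨x, hx, hyx, hm⟩
  intro x
  have : IsAffine (O (h x)).toScheme := hO _
  have : IsAffine (A x).toScheme := hA x
  let g : (A x).toScheme ⟶ (O (h x)).toScheme := h.resLE (O (h x)) (A x) (hAW x)
  have : LocallyOfFiniteType g := by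
    have : LocallyOfFiniteType (g ≫ (O (h x)).ι) := by
      rw [Scheme.Hom.resLE_comp_ι]; infer_instance
    exact locallyOfFiniteType_of_comp g (O (h x)).ι
  have key : ∀ ξ : (O (h x)).toScheme, ({w | g w = ξ} ∩ maxPts (A x).toScheme).Finite := fun ξ => by
    let π : g.fiber ξ ⟶ Spec (CommRingCat.of ↥((O (h x)).toScheme.residueField ξ)) := g.fiberToSpecResidueField ξ
    have : LocallyOfFiniteType π :=
      inferInstanceAs (LocallyOfFiniteType (pullback.snd g ((O (h x)).toScheme.fromSpecResidueField ξ)))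
    have : IsLocallyNoetherian (g.fiber ξ) := LocallyOfFiniteType.isLocallyNoetherian π
    have : CompactSpace (g.fiber ξ) := inferInstance
    have : IsNoetherian (g.fiber ξ) := ⟨⟩
    have hC : (irreducibleComponents ↥(g.fiber ξ)).Finite :=
      TopologicalSpace.NoetherianSpace.finite_irreducibleComponents
    have := hC.to_subtype
    refine Set.Finite.subset (s := ⋃ (C : irreducibleComponents ↥(g.fiber ξ)),
      g.fiberι ξ '' {w | IsGenericPoint w (C : Set ↥(g.fiber ξ))}) ?_ ?_
    · exact Set.finite_iUnion fun C => Set.Finite.image _ (Set.Subsingleton.finite fun a ha b hb => ha.eq hb)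
    · rintro w ⟨hw, hm⟩
      obtain ⟨v, rfl⟩ : w ∈ Set.range (g.fiberι ξ) := by rw [Scheme.Hom.range_fiberι]; exact hw
      have hv : ∀ z, z ⤳ v → v = z := fun z hz =>
        ((g.fiberι ξ).isEmbedding.injective (hm _ (hz.map (g.fiberι ξ).continuous))).symm
      exact Set.mem_iUnion.2 ⟨⟨_, DimLib.closure_mem_components hv⟩, v, isGenericPoint_closure, rfl⟩
  refine (((hV (O (h x)) (hO _).isCompact).preimage
    (f := fun ξ : (O (h x)).toScheme => (O (h x)).ι ξ) (O (h x)).ι.isEmbedding.injective.injOn).biUnion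
      fun ξ _ => (key ξ).image (A x).ι).subset ?_
  rintro y ⟨hy, hm⟩
  refine Set.mem_iUnion₂.2 ⟨g ⟨y, hy⟩, ?_, ⟨y, hy⟩, ⟨rfl, fun z hz =>
    (A x).ι.isEmbedding.injective (hm _ (hz.map (A x).ι.continuous))⟩, rfl⟩
  have e : (O (h x)).ι (g ⟨y, hy⟩) = h y :=
    congrArg (fun φ : (A x).toScheme ⟶ V => φ ⟨y, hy⟩) (h.resLE_comp_ι (hAW x))
  refine Set.mem_preimage.2 (e.symm ▸ ⟨hAW x hy, fun z hz => ?_⟩)
  obtain ⟨z', hz', rfl⟩ := Flat.generalizingMap h hz
  rw [hm z' hz']

theorem finMax_of_surjective {U V : Scheme.{u}} (h : U ⟶ V) [Surjective h] (ho : IsOpenMap h) (hU : FinMax U) :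
    FinMax V := by
  intro W hW
  choose O hO hxO hOW using fun u : ↥(h ⁻¹ᵁ W) =>
    exists_isAffineOpen_mem_and_subset (x := (u : U)) (U := h ⁻¹ᵁ W) u.2
  obtain ⟨t, ht⟩ := hW.elim_finite_subcover (fun u => h '' (O u : Set U)) (fun u => ho _ (O u).isOpen)
    fun y hy => by
      obtain ⟨u, rfl⟩ := h.surjective y
      exact Set.mem_iUnion.2 ⟨⟨u, hy⟩, u, hxO ⟨u, hy⟩, rfl⟩
  refine ((Set.Finite.biUnion t.finite_toSet fun u _ => hU (O u) (hO u).isCompact).image h).subset ?_
  rintro y ⟨hy, hm⟩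
  obtain ⟨u, hu, x, hx, rfl⟩ := Set.mem_iUnion₂.1 (ht hy)
  obtain ⟨η, hη, hsp⟩ := exists_maxPts_specializes x
  exact ⟨η, Set.mem_iUnion₂.2 ⟨u, hu, hsp.mem_open (O u).isOpen hx, hη⟩, hm _ (hsp.map h.continuous)⟩

variable {S : Scheme.{u}} {X Y : Sp S}

theorem finMax_chart (hX : IsAlgSpace X) (h : EtaleLocally FinMax X) {U : Over S}
    (a : (yon S).obj U ⟶ X) (ha : RepWith @Etale a) : FinMax U.left := by
  obtain ⟨U₀, p, hpe, hps, hU₀⟩ := h
  have hp := hX.representable_from_yon p
  have sq := hp.isPullback' a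
  have : Etale (hp.fst' a).left := ha.property _ _ _ sq.flip
  have : Etale (hp.snd a).left := hpe.property_snd a
  have : Surjective (hp.snd a).left := hps.property_snd a
  exact finMax_of_surjective (hp.snd a).left (hp.snd a).left.isOpenMap (finMax_of_flat (hp.fst' a).left hU₀)

theorem finMax_of_flat_lft (hX : IsAlgSpace X) (hY : IsAlgSpace Y) {f : X ⟶ Y} (hf : LocP @Flat f)
    (hf' : LocP @LocallyOfFiniteType f) (h : EtaleLocally FinMax Y) : EtaleLocally FinMax X := by
  obtain ⟨V, b, hbe, hbs, hV⟩ := h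
  obtain ⟨U, a, g, hae, has, w⟩ := exists_chart_over hX hY f b hbe hbs
  have : Flat g.left := hf a b g hae hbe w
  have : LocallyOfFiniteType g.left := hf' a b g hae hbe w
  exact ⟨U, a, hae, has, finMax_of_flat g.left hV⟩

theorem finite_codimZero_of_compact (hX : IsAlgSpace X) (h : EtaleLocally FinMax X)
    (hc : IsQuasiCompactSp X) :
    {x : Points X | HasAt (fun U u => ringKrullDim ↥(U.presheaf.stalk u) = 0) X x}.Finite := by
  obtain ⟨U, a, hae, has, hU⟩ := hc
  refine ((finMax_chart hX h a hae ⊤ (@isCompact_univ _ _ hU)).image (Points.ofPt a)).subset ?_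
  rintro x ⟨V, b, v, hb, rfl, hv⟩
  obtain ⟨u, hu⟩ := surjective_ofPt a has (Points.ofPt b v)
  exact ⟨u, ⟨trivial, (ringKrullDim_stalk_eq_zero_iff u).1
    ((Stk19b.EtaleDim.ringKrullDim_stalk_eq_of_ofPt hX hae hb hu).trans hv)⟩, hu⟩

theorem finite_components_of_compact (hX : IsAlgSpace X) (h : EtaleLocally FinMax X)
    (hc : IsQuasiCompactSp X) : (irreducibleComponents (Points X)).Finite := by
  obtain ⟨U, a, hae, has, hU⟩ := hc
  refine finite_irreducibleComponents_of_cover
    ((finMax_chart hX h a hae ⊤ (@isCompact_univ _ _ hU)).image (Points.ofPt a)) fun x => ?_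
  obtain ⟨u, rfl⟩ := surjective_ofPt a has x
  obtain ⟨η, hη, hsp⟩ := exists_maxPts_specializes u
  exact ⟨_, ⟨η, ⟨trivial, hη⟩, rfl⟩, hsp.map (Points.continuous_ofPt a)⟩

end Groth.Agent.AlgSpLib

namespace Groth.Agent.AlgSpLib

set_option backward.isDefEq.respectTransparency.types false

variable {S : Scheme.{u}} {X : AlgSp.Space S}

/-- a quasi-compact open of a chart as a space etale over `X` -/
theorem exists_space_of_compact {U : Over S} (a : (yon S).obj U ⟶ X.obj) (ha : RepWith @Etale a)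
    (W : U.left.Opens) (hW : IsCompact (W : Set U.left)) :
    ∃ g : ((⟨(yon S).obj (Over.mk (W.ι ≫ U.hom)), IsAlgSpace.yon_obj _⟩ : AlgSp.Space S)) ⟶ X,
      IsEtaleMor g.hom ∧ IsQuasiCompactSp ((yon S).obj (Over.mk (W.ι ≫ U.hom))) := by
  let j : Over.mk (W.ι ≫ U.hom) ⟶ U := Over.homMk W.ι rfl
  refine ⟨ObjectProperty.homMk ((yon S).map j ≫ a), fun T φ hφ => ?_, ?_⟩
  · exact RepWith.comp hφ (RepWith.comp ((repWith_yon_map_iff @Etale j).2 (inferInstanceAs (Etale W.ι))) ha)
  · refine ⟨Over.mk (W.ι ≫ U.hom), (yon S).map (𝟙 _), (repWith_yon_map_iff @Etale _).2 ?_,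
      (repWith_yon_map_iff @Surjective _).2 ?_, isCompact_iff_compactSpace.1 hW⟩
    · exact inferInstanceAs (Etale (𝟙 W.toScheme))
    · exact inferInstanceAs (Surjective (𝟙 W.toScheme))

end Groth.Agent.AlgSpLib
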