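import Mathlib.AlgebraicGeometry.Morphisms.FlatRank
import Mathlib.AlgebraicGeometry.Morphisms.QuasiFinite
import Mathlib.AlgebraicGeometry.Morphisms.Etale
import Groth.Agent.Et18.Descent
import Groth.Agent.FlatMorGeom.GeomFibreBound

/-!
Degrees of finite schemes over a field.
-/

universe u

open CategoryTheory CategoryTheory.Limits AlgebraicGeometry TensorProduct

noncomputable section

namespace Groth.Agent.AlgSpLib

set_option backward.isDefEq.respectTransparency.types false

variable {K : Type u} [Field K] {T : Scheme.{u}}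

/-- finite of degree at most `n` over a field -/
def DegLE (n : ℕ) (c : T ⟶ Spec (CommRingCat.of K)) : Prop := IsFinite c ∧ ∀ s, c.finrank s ≤ n

theorem exists_spec_of_isAffineHom (c : T ⟶ Spec (CommRingCat.of K)) [IsAffineHom c] :
    ∃ (A : CommRingCat.{u}) (φ : CommRingCat.of K ⟶ A) (e : T ≅ Spec A), e.hom ≫ Spec.map φ = c := by
  have : IsAffine T := isAffine_of_isAffineHom c
  obtain ⟨φ, hφ⟩ := Spec.map_surjective (T.isoSpec.inv ≫ c)
  exact ⟨_, φ, T.isoSpec, by rw [hφ, Iso.hom_inv_id_assoc]⟩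

theorem finrank_spec {A : Type u} [CommRing A] [Algebra K A] [Module.Finite K A] {T : Scheme.{u}}
    (e : T ≅ Spec (CommRingCat.of A)) (s) :
    (e.hom ≫ Spec.map (CommRingCat.ofHom (algebraMap K A))).finrank s = Module.finrank K A := by
  have : IsFinite (Spec.map (CommRingCat.ofHom (algebraMap K A))) :=
    (IsFinite.SpecMap_iff _).2 (RingHom.finite_algebraMap.2 inferInstance)
  rw [Scheme.Hom.finrank_comp_left_of_isIso, Scheme.Hom.finrank_SpecMap_algebraMap,
    Module.rankAtStalk_eq_finrank_of_free]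
  rfl

theorem degLE_spec {A : Type u} [CommRing A] [Algebra K A] [Module.Finite K A] {T : Scheme.{u}}
    (c : T ⟶ Spec (CommRingCat.of K)) (e : T ≅ Spec (CommRingCat.of A))
    (he : e.hom ≫ Spec.map (CommRingCat.ofHom (algebraMap K A)) = c) {n : ℕ}
    (hn : Module.finrank K A ≤ n) : DegLE n c := by
  have : IsFinite (Spec.map (CommRingCat.ofHom (algebraMap K A))) :=
    (IsFinite.SpecMap_iff _).2 (RingHom.finite_algebraMap.2 inferInstance)
  subst he
  exact ⟨inferInstance, fun s => (finrank_spec e s).trans_le hn⟩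

theorem exists_algebra_of_isFinite (c : T ⟶ Spec (CommRingCat.of K)) [IsFinite c] :
    ∃ (A : Type u) (_ : CommRing A) (_ : Algebra K A) (_ : Module.Finite K A)
      (e : T ≅ Spec (CommRingCat.of A)),
      e.hom ≫ Spec.map (CommRingCat.ofHom (algebraMap K A)) = c ∧ ∀ s, c.finrank s = Module.finrank K A := by
  obtain ⟨A, φ, e, he⟩ := exists_spec_of_isAffineHom c
  letI := φ.hom.toAlgebra
  have : IsFinite (Spec.map φ) := by
    rw [← MorphismProperty.cancel_left_of_respectsIso @IsFinite e.hom, he]; infer_instance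
  have : Module.Finite K A := (IsFinite.SpecMap_iff φ).1 this
  exact ⟨A, inferInstance, inferInstance, inferInstance, e, he, fun s => he ▸ finrank_spec e s⟩

theorem card_le_of_degLE {c : T ⟶ Spec (CommRingCat.of K)} {n : ℕ} (h : DegLE n c) :
    Finite ↥T ∧ Nat.card ↥T ≤ n := by
  have := h.1
  obtain ⟨A, _, _, _, e, he, hs⟩ := exists_algebra_of_isFinite c
  have h1 := FlatMorGeom.card_primeSpectrum_le_finrank K A
  have h2 := h.2 (IsLocalRing.closedPoint K)
  rw [hs] at h2
  have : IsArtinianRing A := IsArtinianRing.of_finite K A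
  have eqv : ↥T ≃ PrimeSpectrum A := e.hom.homeomorph.toEquiv
  refine ⟨Finite.of_equiv _ eqv.symm, ?_⟩
  rw [Nat.card_congr eqv]
  rw [ENat.card_eq_coe_natCard, Nat.cast_le] at h1
  exact h1.trans h2

theorem degLE_of_isPullback {L : Type u} [Field L] {T' : Scheme.{u}} {g' : T' ⟶ T}
    {c' : T' ⟶ Spec (CommRingCat.of L)} {c : T ⟶ Spec (CommRingCat.of K)}
    {g : Spec (CommRingCat.of L) ⟶ Spec (CommRingCat.of K)} (sq : IsPullback g' c' c g) {n : ℕ} :
    DegLE n c ↔ DegLE n c' := by
  refine ⟨fun h => ?_, fun h => ?_⟩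
  · have := h.1
    exact ⟨MorphismProperty.of_isPullback sq h.1, fun s => by
      rw [Scheme.Hom.finrank_of_isPullback g' c' c g sq]; exact h.2 _⟩
  · have hg : Et18.FPQC g :=
      ⟨⟨⟨fun _ => ⟨IsLocalRing.closedPoint L, Subsingleton.elim _ _⟩⟩, inferInstance⟩, inferInstance⟩
    have := Et18.descends_isFinite.{u}
    have : IsFinite c := MorphismProperty.of_isPullback_of_descendsAlong (P := @IsFinite) sq.flip hg h.1
    refine ⟨this, fun s => ?_⟩
    rw [show s = g (IsLocalRing.closedPoint L) from Subsingleton.elim _ _,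
      ← Scheme.Hom.finrank_of_isPullback g' c' c g sq]
    exact h.2 _

theorem degLE_of_isEmpty [IsEmpty ↥T] (c : T ⟶ Spec (CommRingCat.of K)) (n : ℕ) : DegLE n c := by
  obtain ⟨A, φ, e, he⟩ := exists_spec_of_isAffineHom c
  letI := φ.hom.toAlgebra
  have : IsEmpty (PrimeSpectrum A) := e.hom.homeomorph.toEquiv.symm.isEmpty
  have : Subsingleton A := PrimeSpectrum.isEmpty_iff_subsingleton.1 this
  exact degLE_spec (A := A) c e he (by simp [Module.finrank_zero_of_subsingleton])

/-- a faithfully flat triangle bounds the degree of the lower scheme -/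
theorem degLE_of_flat_surjective {T' : Scheme.{u}} (h : T' ⟶ T) [Flat h] [Surjective h]
    (c : T ⟶ Spec (CommRingCat.of K)) {n : ℕ} (hn : DegLE n (h ≫ c)) : DegLE n c := by
  have := hn.1
  obtain ⟨B, _, _, _, e', he', hs'⟩ := exists_algebra_of_isFinite (h ≫ c)
  have : IsArtinianRing B := IsArtinianRing.of_finite K B
  have : Finite ↥T' := (card_le_of_degLE hn).1
  have : DiscreteTopology ↥T' := e'.hom.homeomorph.isEmbedding.discreteTopology
  have : Finite ↥T := Finite.of_surjective _ h.surjective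
  have : T1Space ↥T := t1Space_iff_specializes_imp_eq.2 fun {a b} hab => by
    obtain ⟨b', rfl⟩ := h.surjective b
    obtain ⟨a', ha', rfl⟩ := Flat.generalizingMap h hab
    rw [ha'.eq]
  have : DiscreteTopology ↥T := inferInstance
  obtain ⟨A, φ, e, he⟩ := exists_spec_of_isAffineHom c
  obtain ⟨ψ, hψ⟩ := Spec.map_surjective (e'.inv ≫ h ≫ e.hom)
  have hK : φ ≫ ψ = CommRingCat.ofHom (algebraMap K B) := Spec.map_injective (by
    rw [Spec.map_comp, hψ, Category.assoc, Category.assoc, he, ← he', Iso.inv_hom_id_assoc])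
  have hff : ψ.hom.FaithfullyFlat := by
    refine RingHom.FaithfullyFlat.iff_flat_and_comap_surjective.2 ⟨?_, ?_⟩
    · rw [← Flat.SpecMap_iff, hψ]; infer_instance
    · have : Surjective (Spec.map ψ) := by rw [hψ]; infer_instance
      exact (Spec.map ψ).surjective
  letI := φ.hom.toAlgebra
  let L : A →ₐ[K] B := { ψ.hom with commutes' := fun r => congr($(hK).hom r) }
  have hinj : Function.Injective L.toLinearMap := hff.injective
  have : Module.Finite K A := FiniteDimensional.of_injective L.toLinearMap hinj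
  refine degLE_spec (A := A) c e he ((LinearMap.finrank_le_finrank_of_injective hinj).trans ?_)
  rw [← hs' (IsLocalRing.closedPoint K)]
  exact hn.2 _

theorem span_range_lift {A B : Type u} [CommRing A] [CommRing B] [Algebra A B] (p : Ideal A) [p.IsMaximal]
    [Module.Finite (A ⧸ p) ((A ⧸ p) ⊗[A] B)] {m : ℕ} (hm : Module.finrank (A ⧸ p) ((A ⧸ p) ⊗[A] B) ≤ m) :
    ∃ b : Fin m → B, Submodule.span A (Set.range b) ⊔ p • (⊤ : Submodule A B) = ⊤ := by
  letI := Ideal.Quotient.field p
  have hs : Function.Surjective (TensorProduct.mk A (A ⧸ p) B 1) :=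
    TensorProduct.mk_surjective A B (A ⧸ p) Ideal.Quotient.mk_surjective
  let bas := Module.finBasis (A ⧸ p) ((A ⧸ p) ⊗[A] B)
  choose lift hlift using fun i => hs (bas i)
  let b : Fin m → B := fun i => if h : i.val < Module.finrank (A ⧸ p) ((A ⧸ p) ⊗[A] B) then lift ⟨i, h⟩ else 0
  have hb : ∀ j, b ⟨j.val, j.isLt.trans_le hm⟩ = lift j := fun j => dif_pos j.isLt
  refine ⟨b, eq_top_iff.2 fun x _ => ?_⟩
  choose a ha using fun i => Ideal.Quotient.mk_surjective (bas.repr (TensorProduct.mk A (A ⧸ p) B 1 x) i)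
  have key : TensorProduct.mk A (A ⧸ p) B 1 (x - ∑ i, a i • lift i) = 0 := by
    rw [map_sub, map_sum, sub_eq_zero]
    conv_lhs => rw [← bas.sum_repr (TensorProduct.mk A (A ⧸ p) B 1 x)]
    refine Finset.sum_congr rfl fun i _ => ?_
    rw [map_smul, hlift, ← ha i, ← algebraMap_smul (A ⧸ p) (a i) (bas i)]
    rfl
  have hmem : x - ∑ i, a i • lift i ∈ p • (⊤ : Submodule A B) := by
    rw [← Submodule.Quotient.mk_eq_zero]
    have h1 := quotTensorEquivQuotSMul_mk_tmul (M := B) p 1 (x - ∑ i, a i • lift i)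
    rw [one_smul, map_one] at h1
    rw [← h1, show ((1 : A ⧸ p) ⊗ₜ[A] (x - ∑ i, a i • lift i)) = 0 from key, map_zero]
  rw [← sub_add_cancel x (∑ i, a i • lift i), add_comm]
  refine Submodule.add_mem_sup (Submodule.sum_mem _ fun i _ => Submodule.smul_mem _ _ ?_) hmem
  exact Submodule.subset_span ⟨⟨i.val, i.isLt.trans_le hm⟩, hb i⟩

theorem exists_generators {A B : Type u} [CommRing A] [IsArtinianRing A] [CommRing B] [Algebra A B] (m : ℕ)
    (h : ∀ (p : Ideal A) [p.IsMaximal], Module.Finite (A ⧸ p) ((A ⧸ p) ⊗[A] B) ∧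
      Module.finrank (A ⧸ p) ((A ⧸ p) ⊗[A] B) ≤ m) :
    ∃ b : Fin m → B, Submodule.span A (Set.range b) = ⊤ := by
  classical
  choose c hc using fun p : MaximalSpectrum A =>
    have := (h p.asIdeal).1; span_range_lift p.asIdeal (h p.asIdeal).2
  let _ := Fintype.ofFinite (MaximalSpectrum A)
  have hI : Pairwise fun p q : MaximalSpectrum A => IsCoprime p.asIdeal q.asIdeal := fun p q hpq =>
    Ideal.isCoprime_iff_sup_eq.2 (p.isMaximal.coprime_of_ne q.isMaximal fun e => hpq (MaximalSpectrum.ext e))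
  choose ε hε using fun q : MaximalSpectrum A => Ideal.exists_forall_sub_mem_ideal
    (I := fun p : MaximalSpectrum A => p.asIdeal) hI (fun p => if p = q then (1 : A) else 0)
  let b : Fin m → B := fun i => ∑ q, ε q • c q i
  let M := Submodule.span A (Set.range b)
  refine ⟨b, ?_⟩
  have hstep : ∀ p : MaximalSpectrum A, M ⊔ p.asIdeal • (⊤ : Submodule A B) = ⊤ := fun p => by
    refine eq_top_iff.2 (le_trans (hc p).ge (sup_le (Submodule.span_le.2 ?_) le_sup_right))
    rintro _ ⟨i, rfl⟩
    have : c p i = b i + (c p i - b i) := (add_sub_cancel _ _).symm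
    rw [SetLike.mem_coe, this]
    refine Submodule.add_mem_sup (Submodule.subset_span ⟨i, rfl⟩) ?_
    have e1 : c p i - b i = ∑ q, ((if p = q then (1 : A) else 0) - ε q) • c q i := by
      simp only [b, sub_smul, Finset.sum_sub_distrib, ite_smul, one_smul, zero_smul, Finset.sum_ite_eq,
        Finset.mem_univ, if_true]
    rw [e1]
    exact Submodule.sum_mem _ fun q _ => Submodule.smul_mem_smul
      (by rw [← neg_sub]; exact neg_mem (hε q p)) trivial
  have hmul : ∀ s : Multiset (MaximalSpectrum A),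
      M ⊔ (s.map fun p => p.asIdeal).prod • (⊤ : Submodule A B) = ⊤ := fun s => by
    induction s using Multiset.induction with
    | empty => simp only [Multiset.map_zero, Multiset.prod_zero, Ideal.one_eq_top, Submodule.top_smul, sup_top_eq]
    | cons p s ih =>
      rw [Multiset.map_cons, Multiset.prod_cons, mul_comm, eq_top_iff]
      conv_lhs => rw [← ih]
      refine sup_le le_sup_left ?_
      conv_lhs => rw [← hstep p]
      rw [Submodule.smul_sup, ← Submodule.smul_assoc, smul_eq_mul]
      exact sup_le_sup_right Submodule.smul_le_right _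
  obtain ⟨N, hN⟩ := IsArtinianRing.isNilpotent_jacobson_bot (R := A)
  have := hmul (N • (Finset.univ : Finset (MaximalSpectrum A)).val)
  rwa [Multiset.map_nsmul, Multiset.prod_nsmul, show ((Finset.univ : Finset (MaximalSpectrum A)).val.map
      fun p => p.asIdeal).prod ^ N = ⊥ from le_bot_iff.1 ((Ideal.pow_right_mono ?_ N).trans hN.le),
    Submodule.bot_smul, sup_bot_eq] at this
  refine le_sInf fun q hq => ?_
  exact Ideal.prod_le_inf.trans (Finset.inf_le (Finset.mem_univ (⟨q, hq.2⟩ : MaximalSpectrum A)))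

/-- composites: degrees multiply -/
theorem degLE_comp {T' : Scheme.{u}} (d : T' ⟶ T) {c : T ⟶ Spec (CommRingCat.of K)} {n m : ℕ}
    (hc : DegLE n c)
    (h : ∀ (L : Type u) [Field L] (σ : Spec (CommRingCat.of L) ⟶ T), DegLE m (pullback.snd d σ)) :
    DegLE (m * n) (d ≫ c) := by
  have := hc.1
  have : Finite ↥T := (card_le_of_degLE hc).1
  obtain ⟨A, _, _, _, e, he, hA⟩ := exists_algebra_of_isFinite c
  have : IsArtinianRing A := IsArtinianRing.of_finite K A
  have : DiscreteTopology ↥T := e.hom.homeomorph.isEmbedding.discreteTopology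
  have hfib : ∀ t : ↥T, Finite ↥(d.fiber t) ∧ DiscreteTopology ↥(d.fiber t) := fun t => by
    have ht := h (T.residueField t) (T.fromSpecResidueField t)
    refine ⟨(card_le_of_degLE ht).1, ?_⟩
    have : IsFinite (pullback.snd d (T.fromSpecResidueField t)) := ht.1
    exact (IsLocallyArtinian.of_locallyQuasiFinite (pullback.snd d (T.fromSpecResidueField t))).discreteTopology
  have : Finite ↥T' := by
    refine Set.finite_univ_iff.1 (Set.Finite.subset (Set.finite_iUnion fun t : ↥T => ?_)
      (fun x _ => Set.mem_iUnion.2 ⟨d x, rfl⟩ : Set.univ ⊆ ⋃ t, d ⁻¹' {t}))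
    have := (hfib t).1
    exact (Set.toFinite (Set.range (d.fiberι t))).subset (d.range_fiberι t).ge
  have : DiscreteTopology ↥T' := discreteTopology_iff_isOpen_singleton.2 fun x => by
    obtain ⟨z, hz⟩ : x ∈ Set.range (d.fiberι (d x)) := by rw [d.range_fiberι]; rfl
    have := (hfib (d x)).2
    obtain ⟨O, hO, hOz⟩ := (d.fiberι (d x)).isEmbedding.isInducing.isOpen_iff.1 (isOpen_discrete {z})
    have : O ∩ d ⁻¹' {d x} = {x} := by
      refine Set.Subset.antisymm (fun y hy => ?_) ?_
      · obtain ⟨w, rfl⟩ : y ∈ Set.range (d.fiberι (d x)) := by rw [d.range_fiberι]; exact hy.2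
        have : w ∈ ({z} : Set _) := hOz ▸ hy.1
        rw [Set.mem_singleton_iff.1 this, hz]; rfl
      · rintro _ rfl
        exact ⟨hz ▸ (show z ∈ d.fiberι _ ⁻¹' O from hOz.symm ▸ rfl), rfl⟩
    rw [← this]
    exact hO.inter ((isOpen_discrete _).preimage d.continuous)
  obtain ⟨ψ, hψ⟩ := Spec.map_surjective (T'.isoSpec.inv ≫ d ≫ e.hom)
  let B : Type u := Γ(T', ⊤)
  letI : Algebra A B := ψ.hom.toAlgebra
  letI : Algebra K B := ((algebraMap A B).comp (algebraMap K A)).toAlgebra
  have : IsScalarTower K A B := IsScalarTower.of_algebraMap_eq fun _ => rfl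
  have hfield : ∀ (p : Ideal A) [p.IsMaximal], Module.Finite (A ⧸ p) ((A ⧸ p) ⊗[A] B) ∧
      Module.finrank (A ⧸ p) ((A ⧸ p) ⊗[A] B) ≤ m := fun p hp => by
    letI := Ideal.Quotient.field p
    let σ : Spec (CommRingCat.of (A ⧸ p)) ⟶ T :=
      Spec.map (CommRingCat.ofHom (algebraMap A (A ⧸ p))) ≫ e.inv
    have sq : IsPullback (T'.isoSpec.inv ≫ 𝟙 T') (Spec.map ψ) d e.inv :=
      IsPullback.of_horiz_isIso ⟨by rw [hψ]; simp⟩
    let B' : CommRingCat.{u} := CommRingCat.of ((A ⧸ p) ⊗[A] B)
    have sq2 := (isPullback_SpecMap_of_isPushout _ _ _ _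
      (CommRingCat.isPushout_tensorProduct A (A ⧸ p) B)).flip.paste_horiz sq
    have hd : DegLE m (Spec.map (CommRingCat.ofHom
        (Algebra.TensorProduct.includeLeftRingHom (R := A) (A := A ⧸ p) (B := B)))) := by
      obtain ⟨h1, h2⟩ := h (A ⧸ p) σ
      rw [← sq2.isoPullback_hom_snd]
      exact ⟨inferInstance, fun s => by rw [Scheme.Hom.finrank_comp_left_of_isIso]; exact h2 s⟩
    have hf : Module.Finite (A ⧸ p) ((A ⧸ p) ⊗[A] B) :=
      RingHom.finite_algebraMap.1 ((IsFinite.SpecMap_iff _).1 hd.1)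
    refine ⟨hf, ?_⟩
    have h2 := hd.2 (IsLocalRing.closedPoint _)
    have h3 := finrank_spec (K := A ⧸ p) (Iso.refl (Spec (CommRingCat.of ((A ⧸ p) ⊗[A] B))))
      (IsLocalRing.closedPoint _)
    rw [Iso.refl_hom, Category.id_comp] at h3
    exact h3 ▸ h2
  obtain ⟨b, hb⟩ := exists_generators m hfield
  have hsur : Function.Surjective ((Fintype.linearCombination A b).restrictScalars K) := by
    show Function.Surjective (Fintype.linearCombination A b)
    rw [← LinearMap.range_eq_top, Fintype.range_linearCombination, hb]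
  have : Module.Finite K B := Module.Finite.of_surjective _ hsur
  refine degLE_spec (A := B) _ T'.isoSpec ?_ ((LinearMap.finrank_le_finrank_of_surjective hsur).trans ?_)
  · show T'.isoSpec.hom ≫ Spec.map (CommRingCat.ofHom (algebraMap K A) ≫ ψ) = _
    rw [Spec.map_comp, hψ, Category.assoc, Category.assoc, Iso.hom_inv_id_assoc, he]
  · rw [Module.finrank_pi_fintype, Finset.sum_const, Finset.card_univ, Fintype.card_fin, smul_eq_mul]
    exact Nat.mul_le_mul le_rfl (hA (IsLocalRing.closedPoint K) ▸ hc.2 _)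

theorem finrank_eq_card_of_etale {Ω : Type u} [Field Ω] [IsAlgClosed Ω] (B : Type u) [CommRing B]
    [Algebra Ω B] [Module.Finite Ω B] [IsReduced B] :
    Module.finrank Ω B = Nat.card (PrimeSpectrum B) := by
  have : IsArtinianRing B := IsArtinianRing.of_finite Ω B
  let _ := Fintype.ofFinite (PrimeSpectrum B)
  rw [IsArtinianRing.finrank_eq_sum_primeSpectrum B Ω, Nat.card_eq_fintype_card, ← Finset.card_univ,
    Finset.card_eq_sum_ones]
  refine Finset.sum_congr rfl fun p _ => ?_
  let R := Localization.AtPrime p.asIdeal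
  have : Module.Finite Ω R :=
    Module.Finite.of_surjective (Algebra.algHom Ω B R).toLinearMap
      (IsArtinianRing.localization_surjective p.asIdeal.primeCompl _)
  letI : Field R := (IsArtinianRing.isField_of_isReduced_of_isLocalRing R).toField
  have hb := IsAlgClosed.algebraMap_bijective_of_isIntegral (k := Ω) (K := R)
  rw [← LinearEquiv.finrank_eq (AlgEquiv.ofBijective (Algebra.ofId Ω R) hb).toLinearEquiv, Module.finrank_self]

/-- etale schemes over a field: the degree is the number of geometric points -/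
theorem degLE_of_etale (c : T ⟶ Spec (CommRingCat.of K)) [Etale c] [CompactSpace ↥T] (n : ℕ)
    (h : ∀ (Ω : Type u) [Field Ω] [IsAlgClosed Ω] (σ : Spec (CommRingCat.of Ω) ⟶ Spec (CommRingCat.of K)),
      ENat.card ↥(pullback c σ) ≤ n) : DegLE n c := by
  let Ω := AlgebraicClosure K
  let σ : Spec (CommRingCat.of Ω) ⟶ Spec (CommRingCat.of K) :=
    Spec.map (CommRingCat.ofHom (algebraMap K Ω))
  refine (degLE_of_isPullback (IsPullback.of_hasPullback c σ)).2 ?_
  let c' : pullback c σ ⟶ Spec (CommRingCat.of Ω) := pullback.snd c σ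
  have : Etale c' := MorphismProperty.pullback_snd _ _ inferInstance
  have : QuasiCompact c := quasiCompact_of_compactSpace c
  have : CompactSpace ↥(pullback c σ) := QuasiCompact.compactSpace_of_compactSpace c'
  have : LocallyQuasiFinite c' := by
    refine locallyQuasiFinite_iff_finite_preimage_singleton.2 fun x => ?_
    have hc : ENat.card ↥(pullback c σ) < ⊤ := (h Ω σ).trans_lt (ENat.coe_lt_top n)
    have := ENat.card_lt_top.1 hc
    exact Set.toFinite _
  have : IsFinite c' := IsFinite.of_locallyQuasiFinite c'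
  obtain ⟨B, _, _, _, e, he, hB⟩ := exists_algebra_of_isFinite c'
  have : Algebra.Etale Ω B := by
    have h1 : Etale (e.inv ≫ c') := inferInstance
    rw [← he, Iso.inv_hom_id_assoc, HasRingHomProperty.Spec_iff (P := @Etale)] at h1
    exact RingHom.etale_algebraMap.1 h1
  have : IsReduced B := Algebra.FormallyUnramified.isReduced_of_field Ω B
  refine degLE_spec (A := B) _ e he ?_
  rw [finrank_eq_card_of_etale B]
  have h2 := h Ω σ
  have : Finite ↥(pullback c σ) := ENat.card_lt_top.1 ((h Ω σ).trans_lt (ENat.coe_lt_top n))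
  rw [ENat.card_eq_coe_natCard, Nat.cast_le] at h2
  exact le_trans (le_of_eq (Nat.card_congr e.inv.homeomorph.toEquiv)) h2

end Groth.Agent.AlgSpLib
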