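import Groth.Agent.AlgSpLib.SchemeDescent

/-!
Effective fppf descent for separated locally quasi-finite morphisms, for sheaves: a sheaf over an affine scheme
whose pullback to an fppf covering is a separated locally quasi-finite scheme is a scheme.
-/

universe u

open CategoryTheory CategoryTheory.Limits AlgebraicGeometry Opposite Topology
open AlgSp

noncomputable section

namespace Groth.Agent.AlgSpLib

set_option backward.isDefEq.respectTransparency.types false

variable {S : Scheme.{u}} {X F : Sp S}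

/-- a representable flat morphism locally of finite presentation is open on points -/
theorem isOpenMap_ofPt_of_flat {U : Over S} (a : (yon S).obj U ⟶ F) (hf : RepWith @Flat a)
    (hp : RepWith @LocallyOfFinitePresentation a) : IsOpenMap (Points.ofPt a) := by
  intro W hW
  refine Points.isOpen_iff.2 fun T g => ?_
  have sq := hf.1.isPullback' g
  have : Flat (hf.1.snd g).left := hf.property_snd g
  have : LocallyOfFinitePresentation (hf.1.snd g).left := hp.property _ _ _ sq
  have e : Points.ofPt g ⁻¹' (Points.ofPt a '' W) =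
      (hf.1.snd g).left '' ((hf.1.fst' g).left ⁻¹' W) := by
    ext t
    constructor
    · rintro ⟨u, hu, h⟩
      obtain ⟨r, hr1, hr2⟩ := (ofPt_eq_ofPt_iff sq u t).1 h
      exact ⟨r, show (hf.1.fst' g).left r ∈ W from hr1 ▸ hu, hr2⟩
    · rintro ⟨r, hr, rfl⟩
      exact ⟨_, hr, (ofPt_eq_ofPt_iff sq _ _).2 ⟨r, rfl, rfl⟩⟩
  rw [e]
  exact (hf.1.snd g).left.isOpenMap _ (hW.preimage (hf.1.fst' g).left.continuous)

/-- a quasi-compact scheme is covered by an affine scheme -/
theorem exists_affine_surjective_etale (W : Over S) [CompactSpace ↥W.left] :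
    ∃ (U : Over S) (r : U ⟶ W), IsAffine U.left ∧ Etale r.left ∧ Surjective r.left := by
  let 𝒰 := W.left.affineCover.finiteSubcover
  have : ∀ i, IsAffine (𝒰.X i) := fun i => inferInstanceAs (IsAffine (W.left.affineCover.X _))
  let V : ULift.{u} (Fin (Fintype.card 𝒰.I₀)) → Over S :=
    fun i => Over.mk (𝒰.f ((Fintype.equivFin 𝒰.I₀).symm i.down) ≫ W.hom)
  have : ∀ i, IsAffine (V i).left := fun i => this _
  let r : sigmaOver V ⟶ W :=
    Over.homMk (Sigma.desc fun i => 𝒰.f ((Fintype.equivFin 𝒰.I₀).symm i.down))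
      (Sigma.hom_ext _ _ fun i => by simp [sigmaOver, V])
  refine ⟨sigmaOver V, r, inferInstanceAs (IsAffine (∐ fun i => (V i).left)),
    IsZariskiLocalAtSource.sigmaDesc fun i => inferInstance, ⟨fun x => ?_⟩⟩
  obtain ⟨i, y, hy⟩ := 𝒰.exists_eq x
  obtain ⟨k, rfl⟩ := (Fintype.equivFin 𝒰.I₀).symm.surjective i
  refine ⟨(sigmaOverι V ⟨k⟩).left y, ?_⟩
  rw [← Scheme.Hom.comp_apply, show (sigmaOverι V ⟨k⟩).left ≫ r.left = 𝒰.f _ from Sigma.ι_desc _ _]
  exact hy

/-- effective fppf descent of quasi-affine schemes, for sheaves -/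
theorem exists_quasiAffine_of_fppf {Z V W : Over S} [IsAffine Z.left] [IsAffine V.left] (c : V ⟶ Z)
    [Flat c.left] [LocallyOfFinitePresentation c.left] [Surjective c.left]
    {f : X ⟶ (yon S).obj Z} [W.left.IsQuasiAffine] {w : W ⟶ V} {πX : (yon S).obj W ⟶ X}
    (sq : IsPullback πX ((yon S).map w) f ((yon S).map c)) :
    ∃ (A : Over S) (i : A ⟶ Z) (fst : (yon S).obj A ⟶ X),
      A.left.IsQuasiAffine ∧ IsPullback fst ((yon S).map i) f (𝟙 _) := by
  have hπf : RepWith @Flat πX := RepWith.baseChange sq.flip ((repWith_yon_map_iff _ c).2 ‹_›)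
  have hπp : RepWith @LocallyOfFinitePresentation πX :=
    RepWith.baseChange sq.flip ((repWith_yon_map_iff _ c).2 ‹_›)
  have hπs : RepWith @Surjective πX := RepWith.baseChange sq.flip ((repWith_yon_map_iff _ c).2 ‹_›)
  obtain ⟨U, r, hU, hre, hrs⟩ := exists_affine_surjective_etale W
  have hpf : RepWith @Flat ((yon S).map r ≫ πX) :=
    RepWith.comp ((repWith_yon_map_iff _ r).2 (inferInstance : Flat r.left)) hπf
  have hpp : RepWith @LocallyOfFinitePresentation ((yon S).map r ≫ πX) :=
    RepWith.comp ((repWith_yon_map_iff _ r).2 (inferInstance : LocallyOfFinitePresentation r.left)) hπp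
  have hps : RepWith @Surjective ((yon S).map r ≫ πX) :=
    RepWith.comp ((repWith_yon_map_iff _ r).2 hrs) hπs
  have := isLocallySurjective_of_repWith hpf hpp hps
  have : Epi ((yon S).map r ≫ πX) := Sheaf.epi_of_isLocallySurjective _
  obtain ⟨A, i, g, A', πA, i', g', hA, hA', hgf, sqA, sqg, -, hiso⟩ :=
    exists_affinization_of_chart c sq _ hpf hps
  have hg' : IsOpenImmersion g'.left := by
    have e := Scheme.toSpecΓ_naturality g'.left
    have : IsIso A'.left.toSpecΓ := IsAffine.affine
    rw [← cancel_mono (inv A'.left.toSpecΓ), Category.assoc, IsIso.hom_inv_id, Category.comp_id] at e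
    rw [e]
    infer_instance
  have hmono : Mono ((yon S).map g') := mono_of_repWith
    (fun _ _ k (_ : IsOpenImmersion k) => (inferInstance : Mono k)) ((repWith_yon_map_iff _ g').2 hg')
  have : Flat πA.left := MorphismProperty.of_isPullback (P := @Flat) (sqA.map (Over.forget S)).flip ‹_›
  have : LocallyOfFinitePresentation πA.left :=
    MorphismProperty.of_isPullback (P := @LocallyOfFinitePresentation) (sqA.map (Over.forget S)).flip ‹_›
  let k : W.left ⟶ A.left := g'.left ≫ πA.left
  let O : A.left.Opens := ⟨Set.range k, k.isOpenMap.isOpen_range⟩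
  let AO : Over S := Over.mk (O.ι ≫ A.hom)
  let jO : AO ⟶ A := Over.homMk O.ι
  have hk : Set.range k ⊆ Set.range O.ι := by rw [Scheme.Opens.range_ι]; rfl
  let l : W ⟶ AO := Over.homMk (IsOpenImmersion.lift O.ι k hk) (by
    show _ ≫ O.ι ≫ A.hom = _
    rw [← Category.assoc, IsOpenImmersion.lift_fac]
    exact (Category.assoc _ _ _).trans ((congrArg _ (Over.w πA)).trans (Over.w g')))
  have hl : l ≫ jO = g' ≫ πA := Over.OverMorphism.ext (IsOpenImmersion.lift_fac _ _ _)
  have hlk : l.left ≫ O.ι = k := IsOpenImmersion.lift_fac _ _ _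
  have : Flat l.left := MorphismProperty.of_postcomp (W := @Flat) (W' := @IsOpenImmersion) l.left O.ι
    inferInstance (by rw [hlk]; infer_instance)
  have : LocallyOfFinitePresentation l.left :=
    MorphismProperty.of_postcomp (W := @LocallyOfFinitePresentation) (W' := @IsOpenImmersion) l.left O.ι
    inferInstance (by rw [hlk]; infer_instance)
  have hls : Surjective l.left := ⟨fun a => by
    obtain ⟨x, hx⟩ : a.1 ∈ Set.range k := a.2
    refine ⟨x, O.ι.isOpenEmbedding.injective ?_⟩
    rw [← Scheme.Hom.comp_apply, hlk, hx]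
    rfl⟩
  have := isLocallySurjective_of_repWith (a := (yon S).map l) ((repWith_yon_map_iff _ l).2 ‹_›)
    ((repWith_yon_map_iff _ l).2 ‹_›) ((repWith_yon_map_iff _ l).2 hls)
  have : Epi ((yon S).map l) := Sheaf.epi_of_isLocallySurjective _
  have hjO : Mono ((yon S).map jO) := mono_of_repWith
    (fun _ _ k (_ : IsOpenImmersion k) => (inferInstance : Mono k))
    ((repWith_yon_map_iff _ jO).2 (inferInstanceAs (IsOpenImmersion O.ι)))
  have := isLocallySurjective_of_repWith hπf hπp hπs
  have : Epi πX := Sheaf.epi_of_isLocallySurjective _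
  have : IsRegularEpiCategory (Sp S) :=
    inferInstanceAs (IsRegularEpiCategory (Sheaf (J S) (Type (u + 1))))
  have : IsRegularEpi πX := IsRegularEpiCategory.regularEpiOfEpi πX
  have hgl : πX ≫ g = (yon S).map l ≫ (yon S).map jO := by
    rw [sqg.w, ← Functor.map_comp, ← Functor.map_comp, hl]
  let gO : X ⟶ (yon S).obj AO := EffectiveEpi.desc πX ((yon S).map l) fun g₁ g₂ h => by
    rw [← cancel_mono ((yon S).map jO), Category.assoc, Category.assoc, ← hgl,
      ← Category.assoc, h, Category.assoc]
  have hgO : πX ≫ gO = (yon S).map l := EffectiveEpi.fac _ _ _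
  have hgj : gO ≫ (yon S).map jO = g := by rw [← cancel_epi πX, ← Category.assoc, hgO, hgl]
  have : Epi gO := by
    have : Epi (πX ≫ gO) := by rw [hgO]; infer_instance
    exact epi_of_epi πX gO
  have : Mono gO := ⟨fun {T} a b hab => by
    have sqa := IsPullback.of_hasPullback a πX
    have := isLocallySurjective_of_repWith (RepWith.baseChange sqa.flip hπf)
      (RepWith.baseChange sqa.flip hπp) (RepWith.baseChange sqa.flip hπs)
    have : Epi (pullback.fst a πX) := Sheaf.epi_of_isLocallySurjective _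
    rw [← cancel_epi (pullback.fst a πX)]
    have hab' : b ≫ g = a ≫ g := by rw [← hgj, ← Category.assoc, ← hab, Category.assoc]
    obtain ⟨w₂, h1, h2⟩ := sqg.exists_lift (pullback.fst a πX ≫ b) (pullback.snd a πX ≫ (yon S).map g')
      (by rw [Category.assoc, hab', ← Category.assoc, pullback.condition, Category.assoc,
        Category.assoc, sqg.w])
    obtain rfl : w₂ = pullback.snd a πX := (cancel_mono _).1 h2
    rw [← h1, pullback.condition]⟩
  have : IsIso gO := isIso_of_mono_of_epi gO
  have : CompactSpace ↥AO.left := l.left.surjective.compactSpace l.left.continuous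
  refine ⟨AO, jO ≫ i, inv gO, ?_, exists_yon_of_isIso gO (jO ≫ i) ?_⟩
  · exact Scheme.IsQuasiAffine.of_isImmersion (Y := A.left) O.ι
  · rw [Functor.map_comp, ← Category.assoc, hgj, hgf]

/-- effective fppf descent of separated locally quasi-finite morphisms, for sheaves -/
theorem exists_iso_yon_of_fppf_descent {Z V W : Over S} [IsAffine Z.left] [IsAffine V.left] (c : V ⟶ Z)
    [Flat c.left] [LocallyOfFinitePresentation c.left] [Surjective c.left]
    {f : X ⟶ (yon S).obj Z} (w : W ⟶ V) [IsSeparated w.left] [LocallyQuasiFinite w.left]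
    [LocallyOfFiniteType w.left] {πX : (yon S).obj W ⟶ X}
    (sq : IsPullback πX ((yon S).map w) f ((yon S).map c)) :
    ∃ G : Over S, Nonempty ((yon S).obj G ≅ X) := by
  have hπf : RepWith @Flat πX := RepWith.baseChange sq.flip ((repWith_yon_map_iff _ c).2 ‹_›)
  have hπp : RepWith @LocallyOfFinitePresentation πX :=
    RepWith.baseChange sq.flip ((repWith_yon_map_iff _ c).2 ‹_›)
  have hπs : RepWith @Surjective πX := RepWith.baseChange sq.flip ((repWith_yon_map_iff _ c).2 ‹_›)
  have hπq : RepWith @QuasiCompact πX :=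
    RepWith.baseChange sq.flip ((repWith_yon_map_iff _ c).2 (inferInstance : QuasiCompact c.left))
  have hpiece : ∀ x : Points X, ∃ (A : Over S) (j : (yon S).obj A ⟶ X),
      RepWith @IsOpenImmersion j ∧ x ∈ Set.range (Points.map j) := by
    intro x
    obtain ⟨x₀, rfl⟩ := surjective_ofPt πX hπs x
    obtain ⟨O₀, hO₀, hx₀, -⟩ := exists_isAffineOpen_mem_and_subset (U := ⊤) (x := x₀) trivial
    let T₀ : Set (Points X) := Points.ofPt πX '' (O₀ : Set ↥W.left)
    have hT₀ : IsOpen T₀ := isOpenMap_ofPt_of_flat πX hπf hπp _ O₀.isOpen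
    let j₀ := openSubspaceι X T₀
    have hj₀ := repWith_openSubspaceι X hT₀
    have sqO := hj₀.1.isPullback πX
    let WO := hj₀.1.pullback πX
    let v : WO ⟶ W := hj₀.1.snd πX
    have : IsOpenImmersion v.left := hj₀.property_snd πX
    have sq' : IsPullback (hj₀.1.fst πX) ((yon S).map (v ≫ w)) (j₀ ≫ f) ((yon S).map c) := by
      rw [Functor.map_comp]
      exact sqO.paste_vert sq
    have hr : Set.range v.left = Points.ofPt πX ⁻¹' T₀ := by
      ext y
      constructor
      · rintro ⟨z, rfl⟩
        show Points.ofPt πX (v.left z) ∈ T₀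
        rw [← ofPt_map, ← sqO.w, ← Points.map_ofPt]
        exact (range_openSubspaceι X T₀).subset ⟨_, rfl⟩
      · intro hy
        obtain ⟨o, ho⟩ := (range_openSubspaceι X T₀).symm.subset hy
        rw [Points.ofPt_eq_map_ofScheme] at ho
        obtain ⟨z, -, hz⟩ := exists_point_of_isPullback sqO ho
        obtain ⟨p, rfl⟩ := (Points.schemeEquiv WO).surjective z
        exact ⟨p, (Points.schemeEquiv W).injective ((map_yon_map_ofScheme v p).symm.trans hz)⟩
    have : CompactSpace ↥WO.left := by
      have sqR := hπf.1.isPullback' πX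
      have : QuasiCompact (hπf.1.fst' πX).left := hπq.property _ _ _ sqR.flip
      have e : Points.ofPt πX ⁻¹' T₀ =
          (hπf.1.snd πX).left '' ((hπf.1.fst' πX).left ⁻¹' (O₀ : Set ↥W.left)) := by
        ext t
        constructor
        · rintro ⟨u, hu, h⟩
          obtain ⟨r, hr1, hr2⟩ := (ofPt_eq_ofPt_iff sqR u t).1 h
          exact ⟨r, show (hπf.1.fst' πX).left r ∈ _ from hr1 ▸ hu, hr2⟩
        · rintro ⟨r, hr, rfl⟩
          exact ⟨_, hr, (ofPt_eq_ofPt_iff sqR _ _).2 ⟨r, rfl, rfl⟩⟩
      refine ⟨v.left.isOpenEmbedding.isEmbedding.isCompact_iff.2 ?_⟩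
      rw [Set.image_univ, hr, e]
      exact ((hπf.1.fst' πX).left.isCompact_preimage hO₀.isCompact).image
        (hπf.1.snd πX).left.continuous
    have : IsSeparated (v ≫ w).left := inferInstanceAs (IsSeparated (v.left ≫ w.left))
    have : LocallyOfFiniteType (v ≫ w).left := inferInstanceAs (LocallyOfFiniteType (v.left ≫ w.left))
    have : LocallyQuasiFinite (v ≫ w).left :=
      MorphismProperty.comp_mem @LocallyQuasiFinite v.left w.left inferInstance ‹_›
    have : WO.left.IsQuasiAffine := isQuasiAffine_of_lqf (v ≫ w).left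
    obtain ⟨A, i, fst, -, sqA⟩ := exists_quasiAffine_of_fppf c sq'
    have : IsIso fst := sqA.isIso_fst_of_isIso
    refine ⟨A, fst ≫ j₀, RepWith.comp (repWith_of_isIso _ fst) hj₀, ?_⟩
    obtain ⟨o, ho⟩ := (range_openSubspaceι X T₀).symm.subset
      (⟨x₀, hx₀, rfl⟩ : Points.ofPt πX x₀ ∈ T₀)
    refine ⟨Points.map (inv fst) o, ?_⟩
    rw [Points.map_comp, ← Points.map_comp (inv fst), IsIso.inv_hom_id, Points.map_id, ho]
  choose A j hj hxj using fun u : ↥W.left => hpiece (Points.ofPt πX u)
  refine exists_iso_yon_of_openCover j hj fun x => ?_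
  obtain ⟨u, rfl⟩ := surjective_ofPt πX hπs x
  exact ⟨u, hxj u⟩

end Groth.Agent.AlgSpLib
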