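import Groth.Agent.AlgSpLib.FiniteChartAffine
import Groth.Agent.AlgSpLib.SheafDescent
import Groth.Agent.AlgSpLib.FpqcBaseAffine
import Groth.Agent.AlgSpLib.MorQC
import Groth.Agent.AlgSpLib.WhereLocus
import Groth.Agent.GrpdLib.CoequalizerMono

/-!
The schematic locus of the target of a finite locally free surjection.
-/

universe u

open CategoryTheory CategoryTheory.Limits AlgebraicGeometry Opposite
open AlgSp

noncomputable section

namespace Groth.Agent.AlgSpLib

set_option backward.isDefEq.respectTransparency.types false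
set_option backward.isDefEq.respectTransparency false

variable {S : Scheme.{u}}

theorem finLocFree_flat : (finLocFree.{u}) ≤ @Flat := fun _ _ _ h => h.2.1
theorem finLocFree_lfp : (finLocFree.{u}) ≤ @LocallyOfFinitePresentation := fun _ _ _ h => h.2.2
theorem finLocFree_fin : (finLocFree.{u}) ≤ @IsFinite := fun _ _ _ h => h.1

theorem isPullback_restrict_openSubspace {X Y : Sp S} (f : X ⟶ Y) {Ω : Set (Points Y)} (hΩ : IsOpen Ω)
    {V : Over S} (c : (yon S).obj V ⟶ X) (hc : RepWith @IsOpenImmersion c)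
    (q : (yon S).obj V ⟶ openSubspace Y Ω) (hq : q ≫ openSubspaceι Y Ω = c ≫ f)
    (hpre : Points.map f ⁻¹' Ω ⊆ Set.range (Points.ofPt c)) :
    IsPullback c q f (openSubspaceι Y Ω) := by
  have : Mono c := mono_of_repWith (fun _ _ g (_ : IsOpenImmersion g) => (inferInstance : Mono g)) hc
  have : Mono (openSubspaceι Y Ω) :=
    mono_of_repWith (fun _ _ g (_ : IsOpenImmersion g) => (inferInstance : Mono g)) (repWith_openSubspaceι Y hΩ)
  refine isPullback_of_yon hq.symm fun T x y e => ?_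
  obtain ⟨l, hl⟩ := (exists_lift_iff_range_subset hc x).2 (by
    rintro _ ⟨z, rfl⟩
    have hz : Points.map x z ∈ Points.map f ⁻¹' Ω := by
      rw [Set.mem_preimage, ← Points.map_comp, e, Points.map_comp]
      exact (range_openSubspaceι Y Ω).le ⟨_, rfl⟩
    obtain ⟨w, hw⟩ := hpre hz
    exact ⟨Points.ofScheme V w, by rw [← hw, Points.ofPt_eq_map_ofScheme]⟩)
  refine ⟨l, ⟨hl, (cancel_mono (openSubspaceι Y Ω)).1 ?_⟩,
    fun l' hl' => (cancel_mono c).1 (hl'.1.trans hl.symm)⟩
  rw [Category.assoc, hq, ← Category.assoc, hl, e]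

/-- a sheaf with a finite locally free covering by an affine scheme is affine -/
theorem exists_affine_of_finLocFree_cover {Y : Sp S} {V : Over S} [IsAffine V.left] (q : (yon S).obj V ⟶ Y)
    (hq : RepWith finLocFree q) (hqs : RepWith @Surjective q) :
    ∃ C : Over S, IsAffine C.left ∧ Nonempty ((yon S).obj C ≅ Y) := by
  let s := hq.1.snd q
  obtain ⟨t, ht⟩ := (yon S).map_surjective (hq.1.fst q)
  have sqR : IsPullback ((yon S).map t) ((yon S).map s) q q := ht ▸ hq.1.isPullback q
  have hs : finLocFree s.left := hq.property _ _ _ sqR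
  let G := Stk19b.Fppf.grpd (isEqvRel_of_isPullback sqR)
  haveI : IsFinite G.s := hs.1
  haveI : Flat G.s := hs.2.1
  haveI : LocallyOfFinitePresentation G.s := hs.2.2
  haveI : IsAffine G.U := ‹IsAffine V.left›
  haveI : Mono G.j := ⟨fun {T} g₁ g₂ hg => by
    have a1 := congr($hg ≫ pullback.fst G.pU G.pU)
    have a2 := congr($hg ≫ pullback.snd G.pU G.pU)
    simp only [Grpd.GroupoidScheme.j, Category.assoc, pullback.lift_fst, pullback.lift_snd] at a1 a2
    exact Stk19b.Fppf.eqvRel_hom_ext (isEqvRel_of_isPullback sqR) a1 a2⟩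
  have hb : GrpdLib.OrbitsInAffines G := fun x => ⟨⊤, isAffineOpen_top G.U, Set.subset_univ _⟩
  haveI := GrpdLib.isAffine_quot hb
  obtain ⟨hco⟩ := GrpdLib.isColimit_proj hb
  obtain ⟨h, hh⟩ := Cofork.IsColimit.desc' hco G.pU (G.t_over.trans G.s_over.symm)
  let M : Over S := Over.mk h
  let π : V ⟶ M := Over.homMk (GrpdLib.proj hb) hh
  have sqM : IsPullback t s π π := IsPullback.of_map (Over.forget S)
    (Over.OverMorphism.ext (GrpdLib.cond_proj hb)) (GrpdLib.isPullback_arrows hb)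
  have hπ := GrpdLib.finLocFree_proj hb
  haveI : Flat π.left := hπ.2.1
  haveI : LocallyOfFinitePresentation π.left := hπ.2.2
  haveI : Surjective π.left := GrpdLib.surjective_proj hb
  haveI := isLocallySurjective_of_repWith (a := (yon S).map π) ((repWith_yon_map_iff _ π).2 inferInstance)
    ((repWith_yon_map_iff _ π).2 inferInstance) ((repWith_yon_map_iff _ π).2 inferInstance)
  haveI : Epi ((yon S).map π) := Sheaf.epi_of_isLocallySurjective _
  haveI := isLocallySurjective_of_repWith (RepWith.mono finLocFree_flat hq) (RepWith.mono finLocFree_lfp hq) hqs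
  haveI : Epi q := Sheaf.epi_of_isLocallySurjective _
  haveI : IsRegularEpiCategory (Sp S) :=
    inferInstanceAs (IsRegularEpiCategory (Sheaf (J S) (Type (u + 1))))
  haveI : IsRegularEpi q := IsRegularEpiCategory.regularEpiOfEpi q
  haveI : IsRegularEpi ((yon S).map π) := IsRegularEpiCategory.regularEpiOfEpi _
  have sqM' := sqM.map (yon S)
  let a : (yon S).obj M ⟶ Y := EffectiveEpi.desc ((yon S).map π) q fun g₁ g₂ e => by
    rw [← sqM'.lift_fst g₁ g₂ e, Category.assoc, sqR.w, ← Category.assoc, sqM'.lift_snd]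
  let b : Y ⟶ (yon S).obj M := EffectiveEpi.desc q ((yon S).map π) fun g₁ g₂ e => by
    rw [← sqR.lift_fst g₁ g₂ e, Category.assoc, sqM'.w, ← Category.assoc, sqR.lift_snd]
  refine ⟨M, ‹IsAffine (GrpdLib.Quot G)›, ⟨⟨a, b, ?_, ?_⟩⟩⟩
  · rw [← cancel_epi ((yon S).map π)]; simp [a, b]
  · rw [← cancel_epi q]; simp [a, b]

theorem mem_schematicLocus_iff {X Y : Space S} (f : X ⟶ Y) (hf : IsFinLocFreeMor f.hom)
    (hs : RepWith @Surjective f.hom) (y : Points Y.obj) :
    (∃ (Y' : Space S) (j : Y' ⟶ Y), RepWith @IsOpenImmersion j.hom ∧ Y'.obj.obj.IsRepresentable ∧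
        y ∈ Set.range (Points.map j.hom)) ↔
      ∃ (U : Over S) (a : (yon S).obj U ⟶ X.obj), IsAffine U.left ∧ RepWith @IsOpenImmersion a ∧
        Points.map f.hom ⁻¹' {y} ⊆ Set.range (Points.ofPt a) := by
  constructor
  · rintro ⟨Y', j, hj, hrep, y', rfl⟩
    obtain ⟨M, ⟨eM⟩⟩ := hrep.has_representation
    let iM := isoOfRepresentableBy eM
    obtain ⟨m, hm⟩ := (Points.schemeEquiv M).surjective (Points.map iM.inv y')
    obtain ⟨O, hO, hmO, -⟩ := exists_isAffineOpen_mem_and_subset (X := M.left) (x := m) (U := ⊤) trivial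
    let j' : (yon S).obj (restrictOver M O) ⟶ Y.obj := (yon S).map (restrictOverι M O) ≫ iM.hom ≫ j.hom
    have hj' : RepWith @IsOpenImmersion j' := RepWith.comp ((repWith_yon_map_iff _ _).2 (inferInstanceAs (IsOpenImmersion O.ι)))
      (RepWith.comp (repWith_of_isIso _ _) hj)
    obtain ⟨U, u, a, sq, hu⟩ := exists_yon_of_repWith hf j'
    haveI : IsFinite u.left := hu.1
    haveI : IsAffine (restrictOver M O).left := hO
    refine ⟨U, a, isAffine_of_isAffineHom u.left, RepWith.baseChange sq.flip hj', fun x hx => ?_⟩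
    have hy : Points.map f.hom x = Points.map j' (Points.ofScheme (restrictOver M O) ⟨m, hmO⟩) := by
      rw [show Points.map f.hom x = Points.map j.hom y' from hx, Points.map_comp, Points.map_comp,
        map_yon_map_ofScheme]
      congr 1
      show y' = Points.map iM.hom (Points.ofScheme M m)
      rw [show Points.ofScheme M m = Points.map iM.inv y' from hm, ← Points.map_comp, iM.inv_hom_id, Points.map_id]
    obtain ⟨z, hz, -⟩ := exists_point_of_isPullback sq hy
    obtain ⟨z, rfl⟩ := (Points.schemeEquiv U).surjective z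
    exact ⟨z, by rw [Points.ofPt_eq_map_ofScheme]; exact hz⟩
  · rintro ⟨U, a, hU, ha, hfib⟩
    haveI := hU
    have hfc : IsClosedMap (Points.map f.hom) := isClosedMap_of_univClosed Y.property
      ((repWith_universallyClosed_iff hf.1).1 (RepWith.mono (fun A B g (h : finLocFree g) => by
        have := h.1; exact (inferInstance : UniversallyClosed g)) hf))
    have hra : IsOpen (Set.range (Points.ofPt a)) := by
      rw [← Set.image_univ]
      exact isOpenMap_ofPt a (RepWith.mono (fun _ _ g (_ : IsOpenImmersion g) => (inferInstance : Etale g)) ha) _ isOpen_univ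
    let Y₀ : Set (Points Y.obj) := (Points.map f.hom '' (Set.range (Points.ofPt a))ᶜ)ᶜ
    have hY₀ : IsOpen Y₀ := (hfc _ hra.isClosed_compl).isOpen_compl
    have hyY₀ : y ∈ Y₀ := fun ⟨x, hx, e⟩ => hx (hfib e)
    let c₀ : (yon S).obj U ⟶ Y.obj := a ≫ f.hom
    let OV : U.left.Opens := ⟨Points.ofPt c₀ ⁻¹' Y₀, hY₀.preimage (Points.continuous_ofPt c₀)⟩
    let V := restrictOver U OV
    let cV : (yon S).obj V ⟶ X.obj := (yon S).map (restrictOverι U OV) ≫ a
    have hcV : RepWith @IsOpenImmersion cV :=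
      RepWith.comp ((repWith_yon_map_iff _ _).2 (inferInstanceAs (IsOpenImmersion OV.ι))) ha
    obtain ⟨q₀, hq₀⟩ := (exists_lift_openSubspace_iff Y₀ (cV ≫ f.hom)).2 fun t => by
      rw [show cV ≫ f.hom = (yon S).map (restrictOverι U OV) ≫ c₀ from Category.assoc _ _ _, ofPt_map]
      exact t.2
    have hpre : Points.map f.hom ⁻¹' Y₀ ⊆ Set.range (Points.ofPt cV) := fun x hx => by
      by_cases hxa : x ∈ Set.range (Points.ofPt a)
      · obtain ⟨u, rfl⟩ := hxa
        refine ⟨⟨u, show Points.ofPt c₀ u ∈ Y₀ by rw [← Points.map_ofPt]; exact hx⟩, ?_⟩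
        rw [ofPt_map]; rfl
      · exact absurd ⟨x, hxa, rfl⟩ hx
    have sq₀ := isPullback_restrict_openSubspace f.hom hY₀ cV hcV q₀ hq₀ hpre
    have hq₀f : RepWith finLocFree q₀ := RepWith.baseChange sq₀ hf
    have hq₀s : RepWith @Surjective q₀ := RepWith.baseChange sq₀ hs
    let s := hq₀f.1.snd q₀
    obtain ⟨t, ht⟩ := (yon S).map_surjective (hq₀f.1.fst q₀)
    have sqR : IsPullback ((yon S).map t) ((yon S).map s) q₀ q₀ := ht ▸ hq₀f.1.isPullback q₀
    have hsf : finLocFree s.left := hq₀f.property _ _ _ sqR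
    haveI := hsf.1
    obtain ⟨y₀, hy₀⟩ := (range_openSubspaceι Y.obj Y₀).ge hyY₀
    obtain ⟨v, hv⟩ := surjective_ofPt q₀ hq₀s y₀
    have hfin : (Points.ofPt q₀ ⁻¹' {Points.ofPt q₀ v}).Finite := by
      refine ((s.left.finite_preimage_singleton v).image t.left).subset fun w hw => ?_
      obtain ⟨r, hr1, hr2⟩ := (ofPt_eq_ofPt_iff sqR w v).1 hw
      exact ⟨r, hr2, hr1⟩
    obtain ⟨g, hg1, hg2⟩ := GrpdLib.exists_basicOpen_of_finite
      (OV.ι '' (Points.ofPt q₀ ⁻¹' {Points.ofPt q₀ v})) (hfin.image _) OV (by rintro _ ⟨w, -, rfl⟩; exact w.2)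
    let O' : V.left.Opens := OV.ι ⁻¹ᵁ U.left.basicOpen g
    have hO' : IsAffineOpen O' := ((isAffineOpen_top U.left).basicOpen g).preimage_of_isOpenImmersion OV.ι
      (by rw [Scheme.Opens.opensRange_ι]; exact hg2)
    let G := Stk19b.Fppf.grpd (isEqvRel_of_isPullback sqR)
    haveI : IsFinite G.s := hsf.1
    haveI : Flat G.s := hsf.2.1
    haveI : LocallyOfFinitePresentation G.s := hsf.2.2
    obtain ⟨W, hW, hvW, -, hinv⟩ := GrpdLib.exists_invariant_affine G v O' hO' fun r hr => by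
      have e : Points.ofPt q₀ (t.left r) = Points.ofPt q₀ v := (ofPt_eq_ofPt_iff sqR _ _).2 ⟨r, rfl, hr⟩
      exact hg1 ⟨t.left r, e, rfl⟩
    let WV : V.left.Opens := W
    let Ω : Set (Points (openSubspace Y.obj Y₀)) := Points.ofPt q₀ '' (WV : Set ↥V.left)
    have hΩ : IsOpen Ω := isOpenMap_ofPt_of_flat q₀ (RepWith.mono finLocFree_flat hq₀f)
      (RepWith.mono finLocFree_lfp hq₀f) _ WV.2
    have hpre' : Points.ofPt q₀ ⁻¹' Ω ⊆ (WV : Set ↥V.left) := by
      rintro w ⟨w', hw', e⟩
      obtain ⟨r, hr1, hr2⟩ := (ofPt_eq_ofPt_iff sqR w w').1 e.symm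
      have : r ∈ G.s ⁻¹ᵁ W := show s.left r ∈ W by rw [hr2]; exact hw'
      rw [hinv] at this
      exact hr1 ▸ this
    let WW := restrictOver V WV
    haveI : IsAffine WW.left := hW
    let i := restrictOverι V WV
    have hi : RepWith @IsOpenImmersion ((yon S).map i) :=
      (repWith_yon_map_iff _ i).2 (inferInstanceAs (IsOpenImmersion WV.ι))
    obtain ⟨q, hq⟩ := (exists_lift_openSubspace_iff Ω ((yon S).map i ≫ q₀)).2 fun w => by
      rw [ofPt_map]; exact ⟨_, w.2, rfl⟩
    have sqW := isPullback_restrict_openSubspace q₀ hΩ ((yon S).map i) hi q hq (fun z hz => by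
      obtain ⟨w, rfl⟩ := (Points.schemeEquiv V).surjective z
      have hw : w ∈ WV := hpre' (by rw [Set.mem_preimage, Points.ofPt_eq_map_ofScheme]; exact hz)
      refine ⟨⟨w, hw⟩, ?_⟩
      rw [Points.ofPt_eq_map_ofScheme, map_yon_map_ofScheme]
      rfl)
    obtain ⟨C, hC, ⟨eC⟩⟩ := exists_affine_of_finLocFree_cover q (RepWith.baseChange sqW hq₀f) (RepWith.baseChange sqW hq₀s)
    let j : (⟨_, IsAlgSpace.yon_obj C⟩ : Space S) ⟶ Y :=
      ObjectProperty.homMk (eC.hom ≫ openSubspaceι _ Ω ≫ openSubspaceι Y.obj Y₀)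
    refine ⟨_, j, RepWith.comp (repWith_of_isIso _ _) (RepWith.comp (repWith_openSubspaceι _ hΩ)
      (repWith_openSubspaceι _ hY₀)), (representableByOfIso (Iso.refl ((yon S).obj C))).isRepresentable, ?_⟩
    obtain ⟨z, hz⟩ := (range_openSubspaceι _ Ω).ge (show y₀ ∈ Ω from ⟨v, hvW, hv⟩)
    refine ⟨Points.map eC.inv z, ?_⟩
    show Points.map (eC.hom ≫ _ ≫ _) _ = y
    rw [Points.map_comp, Points.map_comp, ← Points.map_comp eC.inv, eC.inv_hom_id, Points.map_id, hz, hy₀]

end Groth.Agent.AlgSpLib
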