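import Groth.Agent.AlgSpLib.FiniteSpread
import Groth.Agent.AlgSpLib.MorSep

/-!
Open subspaces over which a morphism with finite fibres over codimension zero points is finite.
-/

universe u

open CategoryTheory CategoryTheory.Limits AlgebraicGeometry Opposite
open AlgSp

noncomputable section

namespace Groth.Agent.AlgSpLib

set_option backward.isDefEq.respectTransparency.types false

variable {S : Scheme.{u}}

theorem eq_of_specializes_stalk {U : Scheme.{u}} (v : ↥U) (h : ringKrullDim ↥(U.presheaf.stalk v) = 0) :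
    ∀ z, z ⤳ v → z = v := by
  intro z hz
  rw [ringKrullDim_stalk_eq_coheight, ← WithBot.coe_zero, WithBot.coe_inj, Order.coheight_eq_zero] at h
  exact ((show v ⤳ z from h hz).antisymm hz).eq.symm

/-- finiteness over the open image of a family of charts -/
theorem exists_finite_over_image {X Y : AlgSp.Space S} (f : X ⟶ Y) {ι : Type u} (V : ι → Over S)
    (b : ∀ i, (yon S).obj (V i) ⟶ Y.obj) (hb : ∀ i, RepWith @Etale (b i))
    (hfin : ∀ i, IsFiniteMor (pullback.snd f.hom (b i))) :
    ∃ (Y' X' : AlgSp.Space S) (j : Y' ⟶ Y) (fst : X' ⟶ Y') (snd : X' ⟶ X), RepWith @IsOpenImmersion j.hom ∧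
      (⋃ i, Set.range (Points.ofPt (b i))) ⊆ Set.range (Points.map j.hom) ∧
      IsPullback fst.hom snd.hom j.hom f.hom ∧ IsFiniteMor fst.hom := by
  let W := ⋃ i, Set.range (Points.ofPt (b i))
  have hW : IsOpen W := isOpen_iUnion fun i => (isOpenMap_ofPt (b i) (hb i)).isOpen_range
  let j := openSubspaceι Y.obj W
  have hj : RepWith @IsOpenImmersion j := repWith_openSubspaceι Y.obj hW
  have hY' := isAlgSpace_openSubspace Y.property hW
  have sq := IsPullback.of_hasPullback j f.hom
  have hX' : IsAlgSpace (pullback j f.hom) := isAlgSpace_of_isPullback Y.property.diag hY' X.property sq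
  refine ⟨⟨openSubspace Y.obj W, hY'⟩, ⟨pullback j f.hom, hX'⟩, ObjectProperty.homMk j,
    ObjectProperty.homMk (pullback.fst j f.hom), ObjectProperty.homMk (pullback.snd j f.hom), hj,
    (range_openSubspaceι Y.obj W).symm.subset, sq, ?_⟩
  have hl : ∀ i, ∃ l, l ≫ j = b i := fun i => (exists_lift_openSubspace_iff W (b i)).2 fun t =>
    Set.mem_iUnion.2 ⟨i, t, rfl⟩
  choose l hl using hl
  have : Mono j := inferInstanceAs (Mono (openSubspaceι Y.obj W))
  have hle : ∀ i, RepWith @Etale (l i) := fun i => repWith_of_comp_mono (l i) j ((hl i).symm ▸ hb i)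
  let k : ∀ i, pullback f.hom (b i) ⟶ pullback j f.hom := fun i =>
    pullback.lift (pullback.snd f.hom (b i) ≫ l i) (pullback.fst f.hom (b i))
      (by rw [Category.assoc, hl, pullback.condition])
  have hsq : ∀ i, IsPullback (k i) (pullback.snd f.hom (b i)) (pullback.fst j f.hom) (l i) := fun i => by
    refine IsPullback.of_right ?_ (pullback.lift_fst _ _ _) sq.flip
    rw [pullback.lift_snd, hl]
    exact IsPullback.of_hasPullback f.hom (b i)
  refine (isLocalOnBase_fpqc_finite (fun i => (yon S).obj (V i)) l hY' (fun i => IsAlgSpace.yon_obj _)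
    (isFpqcCover_of_etale hY' V l hle fun y => ?_) (pullback.fst j f.hom) hX' _ _ k
    (fun i => isAlgSpace_of_isPullback Y.property.diag X.property (IsAlgSpace.yon_obj _)
      (IsPullback.of_hasPullback f.hom (b i))) hsq).2 hfin
  obtain ⟨i, v, hv⟩ := Set.mem_iUnion.1 ((range_openSubspaceι Y.obj W).subset ⟨y, rfl⟩)
  exact ⟨i, Points.ofScheme (V i) v, injective_map_of_mono j (by
    rw [← Points.map_comp, hl, ← Points.ofPt_eq_map_ofScheme]; exact hv)⟩

/-- restricting a chart to an open -/
theorem isFiniteMor_snd_restrict {X Y : Sp S} (hY : IsAlgSpace Y) (f : X ⟶ Y) {V : Over S}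
    (b : (yon S).obj V ⟶ Y) (N : V.left.Opens)
    (h : ∀ (P' : Sp S) (fst : P' ⟶ pullback f b) (snd : P' ⟶ (yon S).obj (Over.mk (N.ι ≫ V.hom))),
      IsPullback fst snd (pullback.snd f b)
        ((yon S).map (Over.homMk N.ι : Over.mk (N.ι ≫ V.hom) ⟶ V)) → IsFiniteMor snd) :
    IsFiniteMor (pullback.snd f ((yon S).map (Over.homMk N.ι : Over.mk (N.ι ≫ V.hom) ⟶ V) ≫ b)) := by
  let j : Over.mk (N.ι ≫ V.hom) ⟶ V := Over.homMk N.ι
  have sq := IsPullback.of_hasPullback f ((yon S).map j ≫ b)
  have sq₁ := IsPullback.of_hasPullback f b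
  refine h _ (sq₁.lift (pullback.fst _ _) (pullback.snd _ _ ≫ (yon S).map j) (by rw [Category.assoc]; exact sq.w))
    (pullback.snd _ _) ?_
  refine IsPullback.of_right ?_ (sq₁.lift_snd _ _ _) sq₁
  rw [sq₁.lift_fst]
  exact sq

/-- finite fibres over a codimension zero point of the target of a quasi-finite morphism -/
theorem exists_finite_nhd_qf {X Y : AlgSp.Space S} (f : X ⟶ Y) (hqs : IsQuasiSeparatedMor f.hom)
    (hft : IsFiniteTypeMor f.hom) (y : Points Y.obj)
    (hy : HasAt (fun U u => ringKrullDim ↥(U.presheaf.stalk u) = 0) Y.obj y)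
    (hqf : ∀ x : Points X.obj, Points.map f.hom x = y →
      HasAtMor (fun U _ h u => ∃ W : U.Opens, u ∈ W ∧ LocallyQuasiFinite (W.ι ≫ h) ∧
        LocallyOfFiniteType (W.ι ≫ h)) f.hom x) :
    ∃ (Y' X' : AlgSp.Space S) (j : Y' ⟶ Y) (fst : X' ⟶ Y') (snd : X' ⟶ X), RepWith @IsOpenImmersion j.hom ∧
      y ∈ Set.range (Points.map j.hom) ∧ IsPullback fst.hom snd.hom j.hom f.hom ∧ IsFiniteMor fst.hom := by
  obtain ⟨hlft, hqc⟩ := hft
  obtain ⟨V₀, b₀, v₀, hb₀, rfl, hv₀⟩ := hy
  obtain ⟨O, hO, hvO, -⟩ := exists_isAffineOpen_mem_and_subset (x := v₀) (U := ⊤) trivial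
  let V : Over S := Over.mk (O.ι ≫ V₀.hom)
  let jV : V ⟶ V₀ := Over.homMk O.ι
  have : IsAffine V.left := hO
  have hjV : IsOpenImmersion jV.left := inferInstanceAs (IsOpenImmersion O.ι)
  let b := (yon S).map jV ≫ b₀
  have hb : RepWith @Etale b :=
    RepWith.comp ((repWith_yon_map_iff (P := @Etale) jV).2 inferInstance) hb₀
  let v : ↥V.left := (⟨v₀, hvO⟩ : O)
  have hv : Points.ofPt b v = Points.ofPt b₀ v₀ := ofPt_map jV b₀ v
  have hmax : ∀ z, z ⤳ v → z = v := fun z hz =>
    O.ι.injective (eq_of_specializes_stalk v₀ hv₀ _ (hz.map O.ι.continuous))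
  have sq := IsPullback.of_hasPullback f.hom b
  let P := pullback f.hom b
  let g : P ⟶ (yon S).obj V := pullback.snd f.hom b
  have hP : IsAlgSpace P := isAlgSpace_of_isPullback Y.property.diag X.property (IsAlgSpace.yon_obj V) sq
  have hg : LocP @LocallyOfFiniteType g := locP_of_isPullback etLocal_lft X.property Y.property hP sq hlft
  have : CompactSpace (Points P) := compactSpace_of_isQuasiCompactMor hqc sq
  obtain ⟨W, p, hW, he, hs⟩ := exists_affine_chart hP
  obtain ⟨π, hπ⟩ := (yon S).map_surjective (p ≫ g)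
  have : LocallyOfFiniteType π.left := hg p (𝟙 _) π he (repWith_id _ V) (by rw [Category.comp_id, hπ])
  -- the fibre is finite
  have hfin : (π.left ⁻¹' {v}).Finite := by
    have hq : ∀ w, π.left w = v → π.left.QuasiFiniteAt w := fun w hw => by
      have hx : Points.map f.hom (Points.map (pullback.fst f.hom b) (Points.ofPt p w)) = Points.ofPt b₀ v₀ := by
        rw [← Points.map_comp, sq.w, Points.map_comp, Points.map_ofPt, ← hπ, Points.map_ofPt, ofPt_map, hw, hv]
      have h0 := (hasAtMor_lqf_iff X.property Y.property hlft _).1 (hqf _ hx)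
      have h1 := (relDim_baseChange X.property Y.property (IsAlgSpace.yon_obj V) hP sq hlft
        (Points.ofPt p w) (fun d => d = 0)).2 h0
      rw [hasAtMor_fibreDim_pred hP (IsAlgSpace.yon_obj V) g p (𝟙 _) π he (repWith_id _ V)
        (by rw [Category.comp_id, hπ]) w (fun d => d = 0)] at h1
      exact (fibreDimAt_eq_zero_iff π.left w).1 h1
    have : QuasiCompact π.left := quasiCompact_of_compactSpace π.left
    have : DiscreteTopology ↥(π.left.fiber v) := by
      refine discreteTopology_iff_isOpen_singleton.2 fun z => ?_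
      let w := (π.left.fiberHomeo v z).1
      have hw : π.left w = v := (π.left.fiberHomeo v z).2
      have h2 : ∀ (v' : ↥V.left) (hw' : π.left w = v') (z : ↥(π.left.fiber v')),
          (π.left.fiberHomeo v' z).1 = w → IsOpen ({z} : Set ↥(π.left.fiber v')) := by
        rintro _ rfl z hz
        have e : z = π.left.asFiber w := (π.left.fiberHomeo (π.left w)).injective (Subtype.ext (hz.trans
          (by simp [Scheme.Hom.asFiber])))
        rw [e]
        exact Scheme.Hom.quasiFiniteAt_iff_isOpen_singleton_asFiber.1 (hq w hw)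
      exact h2 v hw z rfl
    have : Finite ↥(π.left.fiber v) := finite_of_compact_of_discrete
    exact Set.finite_coe_iff.1 ((π.left.fiberHomeo v).finite_iff.1 this)
  -- the arrows are compact
  obtain ⟨t, ht⟩ := (yon S).map_surjective (he.1.fst p)
  have sqR : IsPullback ((yon S).map t) ((yon S).map (he.1.snd p)) p p := ht ▸ he.1.isPullback p
  have hpq : RepWith @QuasiCompact p := by
    refine (repWith_quasiCompact_iff (IsAlgSpace.yon_obj W) hP (representable_diag_iff.1 hP.diag p)).2
      (isQuasiCompactMor_cancel (IsAlgSpace.yon_obj W) hP (IsAlgSpace.yon_obj V) (g := g) ?_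
        (isQuasiSeparatedMor_of_isPullback sq hqs))
    rw [← hπ]
    exact (repWith_quasiCompact_iff (IsAlgSpace.yon_obj W) (IsAlgSpace.yon_obj V) (representable_yon_map π)).1
      ((repWith_yon_map_iff (P := @QuasiCompact) π).2 (quasiCompact_of_compactSpace π.left))
  have : QuasiCompact (he.1.snd p).left := hpq.property _ _ _ sqR
  have : CompactSpace ↥(he.1.pullback p).left :=
    QuasiCompact.compactSpace_of_compactSpace (he.1.snd p).left
  obtain ⟨N, hvN, hN⟩ := exists_open_finite_over hP g hg p he hs π hπ sqR hmax hfin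
  let jN : Over.mk (N.ι ≫ V.hom) ⟶ V := Over.homMk N.ι
  have hjN : RepWith @Etale ((yon S).map jN ≫ b) :=
    RepWith.comp ((repWith_yon_map_iff (P := @Etale) jN).2 (inferInstanceAs (Etale N.ι))) hb
  obtain ⟨Y', X', j, fst, snd, hj, hsub, hsq, hfm⟩ := exists_finite_over_image f
    (fun _ : PUnit.{u + 1} => Over.mk (N.ι ≫ V.hom)) (fun _ => (yon S).map jN ≫ b) (fun _ => hjN)
    fun _ => isFiniteMor_snd_restrict Y.property f.hom b N hN
  refine ⟨Y', X', j, fst, snd, hj, hsub (Set.mem_iUnion.2 ⟨⟨⟩, (⟨v, hvN⟩ : N), ?_⟩), hsq, hfm⟩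
  rw [ofPt_map]
  exact hv

end Groth.Agent.AlgSpLib
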