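import Groth.Agent.AlgSpLib.FibreQF
import Groth.Agent.AlgSpLib.MorQC
import Groth.Agent.AlgSpLib.PointsCompact

/-!
Finiteness of quasi-finite points over a point.
-/

universe u

open CategoryTheory CategoryTheory.Limits AlgebraicGeometry Opposite
open AlgSp

noncomputable section

namespace Groth.Agent.AlgSpLib

set_option backward.isDefEq.respectTransparency.types false

variable {S : Scheme.{u}} {X Y : Sp S}

/-- the quasi-finite points of a finite type morphism over a point are finitely many -/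
theorem finite_lqf_over_point (hX : IsAlgSpace X) (hY : IsAlgSpace Y) {f : X ⟶ Y} (hf : IsFiniteTypeMor f)
    (y : Points Y) :
    {x : Points X | Points.map f x = y ∧ HasAtMor (fun U _ h u => ∃ W : U.Opens, u ∈ W ∧
      LocallyQuasiFinite (W.ι ≫ h) ∧ LocallyOfFiniteType (W.ι ≫ h)) f x}.Finite := by
  obtain ⟨K, _, str, r, rfl⟩ := exists_ptOfHom y
  let T : Over S := Over.mk str
  have sq := IsPullback.of_hasPullback f r
  have hP := isAlgSpace_of_isPullback hY.diag hX (IsAlgSpace.yon_obj T) sq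
  have : CompactSpace (Points (pullback f r)) := by
    have : CompactSpace ↥T.left := inferInstanceAs (CompactSpace ↥(Spec (CommRingCat.of K)))
    exact compactSpace_of_isQuasiCompactMor hf.2 sq
  obtain ⟨W, a, hW, ha, has⟩ := exists_affine_chart hP
  obtain ⟨π, hπ⟩ := (yon S).map_surjective (a ≫ pullback.snd f r)
  have : LocallyOfFiniteType π.left := (locP_of_isPullback etLocal_lft hX hY hP sq hf.1) a (𝟙 _) π ha
    (repWith_id _ T) (by rw [Category.comp_id, hπ])
  have : IsLocallyNoetherian T.left := inferInstanceAs (IsLocallyNoetherian (Spec (CommRingCat.of K)))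
  have := LocallyOfFiniteType.isLocallyNoetherian π.left
  have : IsNoetherian W.left := {}
  let L := π.left.quasiFiniteLocus
  have : CompactSpace ↥L.toScheme :=
    isCompact_iff_compactSpace.mp (TopologicalSpace.NoetherianSpace.isCompact (L : Set ↥W.left))
  have : LocallyOfFiniteType (L.ι ≫ π.left) := inferInstance
  have : LocallyQuasiFinite (L.ι ≫ π.left) := (Scheme.Hom.quasiFiniteLocus_eq_top_iff _).1
    (top_le_iff.1 fun w _ => Scheme.Hom.quasiFiniteAt_comp_iff_of_isOpenImmersion.2 w.2)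
  have : QuasiCompact (L.ι ≫ π.left) := quasiCompact_of_compactSpace _
  have hfin : Finite ↥L.toScheme := by
    refine Set.finite_univ_iff.1 (((L.ι ≫ π.left).finite_preimage_singleton
      (IsLocalRing.closedPoint K)).subset fun w _ => ?_)
    exact (inferInstance : Subsingleton ↥(Spec (CommRingCat.of K))).elim _ _
  refine (Set.finite_range fun w : ↥L.toScheme =>
    Points.map (pullback.fst f r) (Points.ofPt a (L.ι w))).subset ?_
  rintro x ⟨hx, hq⟩
  obtain ⟨z, rfl, -⟩ := exists_point_of_isPullback sq (x := x)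
    (y := Points.ofScheme T (IsLocalRing.closedPoint K)) (by rw [hx, map_eq_ptOfHom])
  obtain ⟨w, rfl⟩ := surjective_ofPt a has z
  refine ⟨(⟨w, ?_⟩ : L), rfl⟩
  have h0 := (relDim_baseChange hX hY (IsAlgSpace.yon_obj T) hP sq hf.1 (Points.ofPt a w) (fun d => d = 0)).2
    ((hasAtMor_lqf_iff hX hY hf.1 _).1 hq)
  rw [hasAtMor_fibreDim_pred hP (IsAlgSpace.yon_obj T) (pullback.snd f r) a (𝟙 _) π ha (repWith_id _ T)
    (by rw [Category.comp_id, hπ]) w (fun d => d = 0)] at h0
  exact (fibreDimAt_eq_zero_iff π.left w).1 h0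

end Groth.Agent.AlgSpLib

namespace Groth.Agent.AlgSpLib

set_option backward.isDefEq.respectTransparency.types false

variable {S : Scheme.{u}} {X Y Z W : Sp S}

/-- a morphism of finite type to a field has finitely many quasi-finite points -/
theorem finite_quasiFiniteLocus_field {Q : Scheme.{u}} {K : Type u} [Field K] (π : Q ⟶ Spec (CommRingCat.of K))
    [LocallyOfFiniteType π] [CompactSpace ↥Q] : (π.quasiFiniteLocus : Set ↥Q).Finite := by
  have := LocallyOfFiniteType.isLocallyNoetherian π
  have : IsNoetherian Q := {}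
  let L := π.quasiFiniteLocus
  have : CompactSpace ↥L.toScheme :=
    isCompact_iff_compactSpace.mp (TopologicalSpace.NoetherianSpace.isCompact (L : Set ↥Q))
  have : LocallyQuasiFinite (L.ι ≫ π) := (Scheme.Hom.quasiFiniteLocus_eq_top_iff _).1
    (top_le_iff.1 fun w _ => Scheme.Hom.quasiFiniteAt_comp_iff_of_isOpenImmersion.2 w.2)
  have : QuasiCompact (L.ι ≫ π) := quasiCompact_of_compactSpace _
  have hfin : (Set.univ : Set ↥L.toScheme).Finite :=
    ((L.ι ≫ π).finite_preimage_singleton (IsLocalRing.closedPoint K)).subset fun w _ =>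
      (inferInstance : Subsingleton ↥(Spec (CommRingCat.of K))).elim _ _
  exact (hfin.image L.ι).subset fun w hw => ⟨(⟨w, hw⟩ : L), trivial, rfl⟩

theorem finite_fibre_of_mono_point_lft (hX : IsAlgSpace X) (hY : IsAlgSpace Y) (hZ : IsAlgSpace Z) {f : X ⟶ Y}
    {g : Z ⟶ Y} (hgl : LocP @LocallyOfFiniteType g) {p : W ⟶ X} {q : W ⟶ Z} (hW : IsPullback p q f g)
    (r : FieldPt Y) [Mono r.toHom]
    (x : Points X) (z : Points Z) (hxz : Points.map f x = Points.map g z) (hr : Points.mk r = Points.map g z)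
    (hg : HasAtMor (fun U _ h u => ∃ W : U.Opens, u ∈ W ∧ LocallyQuasiFinite (W.ι ≫ h) ∧
      LocallyOfFiniteType (W.ι ≫ h)) g z) :
    {w : Points W | Points.map p w = x ∧ Points.map q w = z}.Finite := by
  let c := Points.ofScheme r.pt (IsLocalRing.closedPoint r.K)
  have hc : Points.map r.toHom c = Points.mk r := by
    rw [← Points.ofPt_eq_map_ofScheme, ofPt_eq_ptOfHom_of_field, ptOfHom_toHom]
  obtain ⟨Ω, _, str, a, b, e, rfl, -⟩ := exists_of_map_eq (f := f) (g := r.toHom) (x := x) (y := c)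
    (by rw [hxz, hc, hr])
  let T : Over S := Over.mk str
  -- the fibre and its chart
  have sqP := IsPullback.of_hasPullback g r.toHom
  have hP := isAlgSpace_of_isPullback hY.diag hZ (IsAlgSpace.yon_obj r.pt) sqP
  have : Mono (pullback.fst g r.toHom) := ⟨fun g₁ g₂ h => sqP.hom_ext h ((cancel_mono r.toHom).1 (by
    rw [Category.assoc, Category.assoc, ← sqP.w, reassoc_of% h]))⟩
  obtain ⟨z0, hz0, -⟩ := exists_point_of_isPullback sqP (x := z) (y := c) (by rw [hc, hr])
  obtain ⟨U₀, a₀, hae, has⟩ := hP.atlas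
  obtain ⟨u₀, rfl⟩ := surjective_ofPt a₀ has z0
  obtain ⟨O, hO, huO, -⟩ := exists_isAffineOpen_mem_and_subset (x := u₀) (U := ⊤) trivial
  let U : Over S := Over.mk (O.ι ≫ U₀.hom)
  let k : U ⟶ U₀ := Over.homMk O.ι
  let aP := (yon S).map k ≫ a₀
  let u : ↥U.left := (⟨u₀, huO⟩ : O)
  have hu : Points.ofPt aP u = Points.ofPt a₀ u₀ := ofPt_map k a₀ u
  have : IsAffine U.left := hO
  have haP : RepWith @Etale aP :=
    RepWith.comp ((repWith_yon_map_iff (P := @Etale) k).2 (inferInstanceAs (Etale O.ι))) hae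
  obtain ⟨π, hπ⟩ := (yon S).map_surjective (aP ≫ pullback.snd g r.toHom)
  have hsnd : LocP @LocallyOfFiniteType (pullback.snd g r.toHom) :=
    locP_of_isPullback etLocal_lft hZ hY hP sqP hgl
  have : LocallyOfFiniteType π.left := hsnd aP (𝟙 _) π haP (repWith_id _ r.pt) (by rw [Category.comp_id, hπ])
  have hπq : π.left.QuasiFiniteAt u := by
    have h0 := (relDim_baseChange hZ hY (IsAlgSpace.yon_obj r.pt) hP sqP hgl (Points.ofPt aP u) (fun d => d = 0)).2
      (by rw [hu, hz0]; exact (hasAtMor_lqf_iff hZ hY hgl _).1 hg)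
    rw [hasAtMor_fibreDim_pred hP (IsAlgSpace.yon_obj r.pt) (pullback.snd g r.toHom) aP (𝟙 _) π haP
      (repWith_id _ r.pt) (by rw [Category.comp_id, hπ]) u (fun d => d = 0)] at h0
    exact (fibreDimAt_eq_zero_iff π.left u).1 h0
  -- base change along `b`
  obtain ⟨β, rfl⟩ := (yon S).map_surjective b
  let Q := pullback π β
  have sqQ := (IsPullback.of_hasPullback π β).map (yon S)
  have : LocallyOfFiniteType (pullback.snd π β).left :=
    MorphismProperty.of_isPullback (P := @LocallyOfFiniteType) ((IsPullback.of_hasPullback π β).map (Over.forget S))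
      (inferInstanceAs (LocallyOfFiniteType π.left))
  have : IsAffine r.pt.left := inferInstanceAs (IsAffine (Spec (CommRingCat.of r.K)))
  have : IsAffine T.left := inferInstanceAs (IsAffine (Spec (CommRingCat.of Ω)))
  have : IsAffineHom π.left := isAffineHom_of_isAffine _
  have : IsAffineHom (pullback.snd π β).left :=
    MorphismProperty.of_isPullback (P := @IsAffineHom) ((IsPullback.of_hasPullback π β).map (Over.forget S))
      (inferInstanceAs (IsAffineHom π.left))
  have : IsAffine Q.left := isAffine_of_isAffineHom (pullback.snd π β).left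
  have hfinQ := finite_quasiFiniteLocus_field (K := Ω) (pullback.snd π β).left
  -- the pullback to `x`
  let Wa := pullback p a
  have sqa := IsPullback.of_hasPullback p a
  let l : Wa ⟶ pullback g r.toHom := sqP.lift (pullback.fst p a ≫ q) (pullback.snd p a ≫ (yon S).map β) (by
    rw [Category.assoc, ← hW.w, reassoc_of% sqa.w, e, Category.assoc])
  have sql : IsPullback l (pullback.snd p a) (pullback.snd g r.toHom) ((yon S).map β) := by
    refine IsPullback.of_right ?_ (sqP.lift_snd _ _ _) sqP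
    rw [sqP.lift_fst, ← e]
    exact sqa.paste_horiz hW.flip
  let m : (yon S).obj Q ⟶ Wa := sql.lift ((yon S).map (pullback.fst π β) ≫ aP) ((yon S).map (pullback.snd π β))
    (by rw [Category.assoc, ← hπ]; exact sqQ.w)
  have sqm : IsPullback ((yon S).map (pullback.fst π β)) m aP l := by
    refine IsPullback.of_bot ?_ (sql.lift_fst _ _ _).symm sql
    rw [sql.lift_snd, ← hπ]
    exact sqQ
  refine (hfinQ.image fun v => Points.map (m ≫ pullback.fst p a) (Points.ofScheme Q v)).subset ?_
  rintro w ⟨hwx, hwz⟩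
  obtain ⟨wa, hwa, -⟩ := exists_point_of_isPullback sqa (x := w) (y := Points.ofScheme T (IsLocalRing.closedPoint Ω))
    (by rw [hwx, map_eq_ptOfHom])
  have hl : Points.map l wa = Points.map aP (Points.ofScheme U u) := by
    refine injective_map_of_mono (pullback.fst g r.toHom) ?_
    rw [← Points.map_comp, sqP.lift_fst, Points.map_comp, hwa, hwz, ← Points.ofPt_eq_map_ofScheme, hu]
    exact hz0.symm
  obtain ⟨v', hv1, hv2⟩ := exists_point_of_isPullback sqm hl.symm
  obtain ⟨v, rfl⟩ := (Points.schemeEquiv _).surjective v'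
  have hv : (pullback.fst π β).left v = u :=
    (Points.schemeEquiv U).injective ((map_yon_map_ofScheme _ v).symm.trans hv1)
  refine ⟨v, ?_, ((Points.map_comp m (pullback.fst p a) _).trans (congrArg _ hv2)).trans hwa⟩
  show (pullback.snd π β).left.QuasiFiniteAt v
  have : LocallyOfFiniteType ((Over.forget S).map π) := inferInstanceAs (LocallyOfFiniteType π.left)
  rw [← fibreDimAt_eq_zero_iff]
  refine (fibreDimAt_baseChange ((IsPullback.of_hasPullback π β).map (Over.forget S)) v).trans ?_
  exact (fibreDimAt_eq_zero_iff π.left _).2 (hv ▸ hπq)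

/-- over a point given by a monomorphism a quasi-finite point has finitely many points over any other -/
theorem finite_fibre_of_mono_point (hX : IsAlgSpace X) (hY : IsAlgSpace Y) (hZ : IsAlgSpace Z) {f : X ⟶ Y}
    {g : Z ⟶ Y} {p : W ⟶ X} {q : W ⟶ Z} (hW : IsPullback p q f g) (r : FieldPt Y) [Mono r.toHom]
    (x : Points X) (z : Points Z) (hxz : Points.map f x = Points.map g z) (hr : Points.mk r = Points.map g z)
    (hg : HasAtMor (fun U _ h u => ∃ W : U.Opens, u ∈ W ∧ LocallyQuasiFinite (W.ι ≫ h) ∧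
      LocallyOfFiniteType (W.ι ≫ h)) g z) :
    {w : Points W | Points.map p w = x ∧ Points.map q w = z}.Finite := by
  obtain ⟨U, V, a, b, h, u, ha, hb, w, rfl, L, huL, hLq, hLft⟩ := hg
  let O := Points.ofPt a '' (L : Set ↥U.left)
  have hO : IsOpen O := isOpenMap_ofPt a ha _ L.2
  let j := openSubspaceι Z O
  have hj : RepWith @IsOpenImmersion j := repWith_openSubspaceι Z hO
  have hZ₁ := isAlgSpace_openSubspace hZ hO
  have : Mono j := inferInstanceAs (Mono (openSubspaceι Z O))
  let U' : Over S := Over.mk (L.ι ≫ U.hom)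
  let k : U' ⟶ U := Over.homMk L.ι
  have hk : RepWith @Etale ((yon S).map k ≫ a) :=
    RepWith.comp ((repWith_yon_map_iff (P := @Etale) k).2 (inferInstanceAs (Etale L.ι))) ha
  obtain ⟨a', ha'⟩ : ∃ a', a' ≫ j = (yon S).map k ≫ a := (exists_lift_openSubspace_iff O _).2 fun t =>
    ⟨t.1, t.2, (ofPt_map k a t).symm⟩
  have hae : RepWith @Etale a' := repWith_of_comp_mono a' j (ha'.symm ▸ hk)
  have has : RepWith @Surjective a' := repWith_surjective_of_surjective_map hae.1 fun y => by
    obtain ⟨u', hu', e⟩ := (range_openSubspaceι Z O).subset ⟨y, rfl⟩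
    refine ⟨Points.ofScheme U' (⟨u', hu'⟩ : L), injective_map_of_mono j ?_⟩
    rw [← Points.map_comp, ha', ← e, ← Points.ofPt_eq_map_ofScheme]
    exact ofPt_map k a _
  have w' : a' ≫ (j ≫ g) = (yon S).map (k ≫ h) ≫ b := by
    rw [reassoc_of% ha', w, Functor.map_comp_assoc]
  have hgl : LocP @LocallyOfFiniteType (j ≫ g) := locP_of_chart_square etLocal_lft hZ₁ a' hae has b hb (k ≫ h) hLft w'
  have hg₁ : HasAtMor (fun U _ h u => ∃ W : U.Opens, u ∈ W ∧ LocallyQuasiFinite (W.ι ≫ h) ∧
      LocallyOfFiniteType (W.ι ≫ h)) (j ≫ g) (Points.ofPt a' (⟨u, huL⟩ : L)) := by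
    refine ⟨U', V, a', b, k ≫ h, (⟨u, huL⟩ : L), hae, hb, w', rfl, ⊤, trivial, ?_, ?_⟩
    · have : LocallyQuasiFinite (k ≫ h).left := hLq
      infer_instance
    · have : LocallyOfFiniteType (k ≫ h).left := hLft
      infer_instance
  have hz : Points.map j (Points.ofPt a' (⟨u, huL⟩ : L)) = Points.ofPt a u := by
    rw [Points.map_ofPt, ha', ofPt_map]; rfl
  have sq₁ := IsPullback.of_hasPullback q j
  have hfin := finite_fibre_of_mono_point_lft hX hY hZ₁ hgl ((sq₁.flip.paste_vert hW.flip).flip) r x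
    (Points.ofPt a' (⟨u, huL⟩ : L)) (by rw [hxz, Points.map_comp, hz]) (by rw [hr, Points.map_comp, hz]) hg₁
  refine (hfin.image (Points.map (pullback.fst q j))).subset ?_
  rintro w₀ ⟨hw1, hw2⟩
  obtain ⟨w₁, hw₁, hw₁'⟩ := exists_point_of_isPullback sq₁ (x := w₀) (y := Points.ofPt a' (⟨u, huL⟩ : L))
    (by rw [hw2, hz])
  exact ⟨w₁, ⟨by rw [Points.map_comp, hw₁, hw1], hw₁'⟩, hw₁⟩

end Groth.Agent.AlgSpLib
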