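import Groth.Agent.AlgSpLib.GenFinite
import Groth.Agent.AlgSpLib.FiniteChartAffine
import Groth.Agent.AlgSpLib.FpqcBaseAffine2
import Groth.Agent.AlgSpLib.RelDimLocus
import Groth.Agent.AlgSpLib.PointsCompact
import Groth.Agent.AlgSpLib.DenseScheme

/-!
Morphisms with finite fibres over codimension zero points are finite nearby.
-/

universe u

open CategoryTheory CategoryTheory.Limits AlgebraicGeometry Opposite
open AlgSp

noncomputable section

namespace Groth.Agent.AlgSpLib

set_option backward.isDefEq.respectTransparency.types false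

/-- finiteness restricts to smaller opens -/
theorem isFinite_restrict_le {W T : Scheme.{u}} (f : W ⟶ T) {N N' : T.Opens} (hle : N' ≤ N)
    (h : IsFinite (f ∣_ N)) : IsFinite (f ∣_ N') := by
  let j := T.homOfLE hle
  have sq : IsPullback ((f ⁻¹ᵁ N').ι) (f ∣_ N') f N'.ι := (isPullback_morphismRestrict f N').flip
  have sqN : IsPullback ((f ⁻¹ᵁ N).ι) (f ∣_ N) f N.ι := (isPullback_morphismRestrict f N).flip
  let l := sqN.lift ((f ⁻¹ᵁ N').ι) ((f ∣_ N') ≫ j) (by rw [Category.assoc, Scheme.homOfLE_ι]; exact sq.w)
  refine MorphismProperty.of_isPullback (P := @IsFinite) (?_ : IsPullback l (f ∣_ N') (f ∣_ N) j) h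
  refine IsPullback.of_right ?_ (sqN.lift_snd _ _ _) sqN
  rw [sqN.lift_fst, Scheme.homOfLE_ι]
  exact sq

variable {S : Scheme.{u}} {P : Sp S}

/-- spaces with an affine chart finite over an affine base and finite arrows are affine, finite over it -/
theorem exists_finite_scheme_of_finite_chart {Z W R : Over S} [IsAffine Z.left] (g : P ⟶ (yon S).obj Z)
    (p : (yon S).obj W ⟶ P) (he : RepWith @Etale p) (hs : RepWith @Surjective p) (π : W ⟶ Z)
    (hπ : (yon S).map π = p ≫ g) [IsFinite π.left] {s t : R ⟶ W}
    (sqR : IsPullback ((yon S).map t) ((yon S).map s) p p) [IsFinite (s.left ≫ π.left)] :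
    ∃ (C : Over S) (i : C ⟶ Z) (e : (yon S).obj C ≅ P), IsAffine C.left ∧ IsFinite i.left ∧
      e.hom ≫ g = (yon S).map i := by
  have : IsAffine W.left := isAffine_of_isAffineHom π.left
  have : IsAffine R.left := isAffine_of_isAffineHom (s.left ≫ π.left)
  have : Etale s.left := he.property _ _ _ sqR
  have : Etale t.left := he.property _ _ _ sqR.flip
  have ew : t ≫ π = s ≫ π := (yon S).map_injective (by
    rw [Functor.map_comp, Functor.map_comp, hπ, ← Category.assoc, sqR.w, Category.assoc])
  have ew' : t.left ≫ π.left = s.left ≫ π.left := congrArg (fun φ => φ.left) ew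
  have : IsFinite (t.left ≫ π.left) := by rw [ew']; infer_instance
  have : IsFinite t.left := IsFinite.of_comp t.left π.left
  let Q := pullback π.left π.left
  let l : R.left ⟶ Q := pullback.lift t.left s.left ew'
  have : Mono l := ⟨fun {T} g₁ g₂ hg => by
    have a1 := congr($hg ≫ pullback.fst π.left π.left)
    have a2 := congr($hg ≫ pullback.snd π.left π.left)
    simp only [l, Category.assoc, pullback.lift_fst, pullback.lift_snd] at a1 a2
    exact Stk19b.Fppf.eqvRel_hom_ext (isEqvRel_of_isPullback sqR) a1 a2⟩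
  have : IsAffine Q := inferInstance
  have : IsFinite (l ≫ pullback.fst π.left π.left) := by rw [pullback.lift_fst]; infer_instance
  have : IsFinite l := IsFinite.of_comp l (pullback.fst π.left π.left)
  have : IsClosedImmersion l := (IsClosedImmersion.iff_isProper_and_mono l).2 ⟨inferInstance, inferInstance⟩
  have hgen : Subring.closure (Set.range s.left.appTop ∪ Set.range t.left.appTop) = ⊤ := by
    have h1 := PnEmb.closure_range_union_eq_top
      (isPushout_appTop_of_isPullback (IsPullback.of_hasPullback π.left π.left))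
    have hsurj : Function.Surjective l.appTop.hom := (IsClosedImmersion.isAffine_surjective_of_isAffine l).2
    rw [eq_top_iff]
    rintro z -
    obtain ⟨z', rfl⟩ := hsurj z
    have : z' ∈ Subring.comap l.appTop.hom
        (Subring.closure (Set.range s.left.appTop ∪ Set.range t.left.appTop)) := by
      refine Subring.closure_le.2 ?_ (h1.symm ▸ Subring.mem_top z')
      rintro _ (⟨b, rfl⟩ | ⟨b, rfl⟩)
      · refine Subring.subset_closure (Or.inr ⟨b, ?_⟩)
        rw [← pullback.lift_fst (f := π.left) (g := π.left) t.left s.left ew']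
        rfl
      · refine Subring.subset_closure (Or.inl ⟨b, ?_⟩)
        rw [← pullback.lift_snd (f := π.left) (g := π.left) t.left s.left ew']
        rfl
    exact this
  have : Sheaf.IsLocallySurjective p := isLocallySurjective_of_etale he hs
  have : Epi p := inferInstance
  obtain ⟨C, hC, ⟨e⟩⟩ := exists_affine_quot g p sqR hgen
  obtain ⟨i, hi⟩ := (yon S).map_surjective (e.hom ≫ g)
  refine ⟨C, i, e, hC, ?_, hi.symm⟩
  obtain ⟨q, hq⟩ := (yon S).map_surjective (p ≫ e.inv)
  have hqi : q ≫ i = π := (yon S).map_injective (by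
    rw [Functor.map_comp, hq, hi, Category.assoc, Iso.inv_hom_id_assoc, hπ])
  have hr : ∀ (P' : MorphismProperty Scheme.{u}) [P'.IsStableUnderBaseChange] [P'.RespectsIso],
      RepWith P' p → P' q.left := fun P' _ _ h => by
    refine (repWith_yon_map_iff P' q).1 ?_
    rw [hq, MorphismProperty.cancel_right_of_respectsIso (RepWith P')]
    exact h
  have : Etale q.left := hr @Etale he
  have : Surjective q.left := hr @Surjective hs
  have hqi' : q.left ≫ i.left = π.left := congrArg (fun φ => φ.left) hqi
  have : IsFinite (q.left ≫ i.left) := by rw [hqi']; infer_instance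
  have : UniversallyClosed i.left := UniversallyClosed.of_comp_surjective q.left i.left
  have : LocallyOfFiniteType i.left := by
    refine etLocal_lft.descend q.left i.left inferInstance inferInstance ?_
    rw [hqi']; infer_instance
  have : IsIntegralHom i.left := (IsIntegralHom.iff_universallyClosed_and_isAffineHom).2 ⟨inferInstance, by
    have : IsAffine C.left := hC
    exact isAffineHom_of_isAffine _⟩
  exact (IsFinite.iff_isIntegralHom_and_locallyOfFiniteType _).2 ⟨inferInstance, inferInstance⟩

theorem isFinite_of_isPullback_opens {A B A' : Scheme.{u}} {f : A ⟶ B} {N : B.Opens} {ρ : A' ⟶ A}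
    {f' : A' ⟶ N.toScheme} (sq : IsPullback ρ f' f N.ι) (h : IsFinite (f ∣_ N)) : IsFinite f' := by
  have sq₀ := (isPullback_morphismRestrict f N).flip
  rw [← IsPullback.isoIsPullback_hom_snd _ _ sq sq₀]
  infer_instance

/-- over a neighbourhood of a maximal point with finite fibre, a space with compact arrows is finite -/
theorem exists_open_finite_over (hP : IsAlgSpace P) {V : Over S} [IsAffine V.left] (g : P ⟶ (yon S).obj V)
    (hg : LocP @LocallyOfFiniteType g) {W R : Over S} [IsAffine W.left] (p : (yon S).obj W ⟶ P)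
    (he : RepWith @Etale p) (hs : RepWith @Surjective p) (π : W ⟶ V) (hπ : (yon S).map π = p ≫ g)
    {s t : R ⟶ W} (sqR : IsPullback ((yon S).map t) ((yon S).map s) p p) [CompactSpace ↥R.left]
    {η : ↥V.left} (hmax : ∀ z, z ⤳ η → z = η) (hfin : (π.left ⁻¹' {η}).Finite) :
    ∃ (N : V.left.Opens), η ∈ N ∧ ∀ (P' : Sp S) (fst : P' ⟶ P)
      (snd : P' ⟶ (yon S).obj (Over.mk (N.ι ≫ V.hom))),
      IsPullback fst snd g ((yon S).map (Over.homMk N.ι : Over.mk (N.ι ≫ V.hom) ⟶ V)) → IsFiniteMor snd := by
  have : LocallyOfFiniteType π.left := hg p (𝟙 _) π he (repWith_id _ V) (by rw [Category.comp_id, hπ])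
  have : Etale s.left := he.property _ _ _ sqR
  have : IsSeparated W.hom := inferInstance
  have : IsSeparated s.left := (repWith_isSeparated_of_isSeparated_source hP p).property _ _ _ sqR
  have : LocallyOfFiniteType (s.left ≫ π.left) := inferInstance
  have : QuasiCompact s.left := quasiCompact_of_compactSpace s.left
  have hfinR : ((s.left ≫ π.left) ⁻¹' {η}).Finite := by
    have := locallyQuasiFinite_of_etale s.left
    exact (hfin.preimage' fun w _ => s.left.finite_preimage_singleton w).subset fun r hr => hr
  obtain ⟨N₁, hN₁, hη₁, hf₁⟩ := exists_isFinite_of_finite_fibre π.left hmax hfin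
  obtain ⟨N₂, hN₂, hη₂, hf₂⟩ := exists_isFinite_of_finite_fibre (s.left ≫ π.left) hmax hfinR
  obtain ⟨N, hN, hηN, hNle⟩ := exists_isAffineOpen_mem_and_subset (x := η) (U := N₁ ⊓ N₂) ⟨hη₁, hη₂⟩
  refine ⟨N, hηN, fun P' fst snd sq => ?_⟩
  let VN : Over S := Over.mk (N.ι ≫ V.hom)
  let jN : VN ⟶ V := Over.homMk N.ι
  have : IsAffine VN.left := hN
  let W' := pullback π jN
  let π' : W' ⟶ VN := pullback.snd π jN
  let w : W' ⟶ W := pullback.fst π jN
  have sqW := (IsPullback.of_hasPullback π jN).map (yon S)
  let p' : (yon S).obj W' ⟶ P' := sq.lift ((yon S).map w ≫ p) ((yon S).map π') (by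
    rw [Category.assoc, ← hπ]; exact sqW.w)
  have sqp : IsPullback ((yon S).map w) p' p fst := by
    refine IsPullback.of_bot ?_ (sq.lift_fst _ _ _).symm sq
    rw [sq.lift_snd, ← hπ]
    exact sqW
  have he' : RepWith @Etale p' := RepWith.baseChange sqp he
  have hs' : RepWith @Surjective p' := RepWith.baseChange sqp hs
  obtain ⟨t', ht'⟩ := (yon S).map_surjective (he'.1.fst p')
  let s' : he'.1.pullback p' ⟶ W' := he'.1.snd p'
  have sqR' : IsPullback ((yon S).map t') ((yon S).map s') p' p' := ht' ▸ he'.1.isPullback p'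
  obtain ⟨ρ, hρ⟩ := (yon S).map_surjective (sqR.lift ((yon S).map (t' ≫ w)) ((yon S).map (s' ≫ w)) (by
    rw [Functor.map_comp, Category.assoc, sqp.w, Functor.map_comp, Category.assoc, sqp.w,
      reassoc_of% sqR'.w]))
  have sqρ : IsPullback ρ s' s w := by
    refine IsPullback.of_map (yon S) ((yon S).map_injective (by rw [Functor.map_comp, hρ, sqR.lift_snd])) ?_
    refine IsPullback.of_right ?_ (by rw [hρ, sqR.lift_snd, Functor.map_comp]) sqR
    rw [hρ, sqR.lift_fst, Functor.map_comp, sqp.w]
    exact sqR'.paste_horiz sqp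
  have hπ' : IsFinite π'.left := isFinite_of_isPullback_opens (f := π.left)
    ((IsPullback.of_hasPullback π jN).map (Over.forget S)) (isFinite_restrict_le π.left (hNle.trans inf_le_left) hf₁)
  have hsπ' : IsFinite (s'.left ≫ π'.left) := isFinite_of_isPullback_opens (f := s.left ≫ π.left)
    ((sqρ.map (Over.forget S)).paste_vert ((IsPullback.of_hasPullback π jN).map (Over.forget S)))
    (isFinite_restrict_le (s.left ≫ π.left) (hNle.trans inf_le_right) hf₂)
  obtain ⟨C, i, e, hC, hi, hei⟩ := exists_finite_scheme_of_finite_chart snd p' he' hs' π'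
    (sq.lift_snd _ _ _).symm sqR'
  refine (isFiniteMor_iff_repWith snd).2 ?_
  rw [← MorphismProperty.cancel_left_of_respectsIso (RepWith @IsFinite) e.hom snd, hei]
  exact (repWith_yon_map_iff (P := @IsFinite) i).2 hi

end Groth.Agent.AlgSpLib
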