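import Groth.Agent.AlgSpLib.FlatAt
import Groth.Agent.AlgSpLib.EtLocalInst
import Groth.Agent.EGA43.Cons.FibreCritScheme
import Groth.Agent.EGA43.FlatDescent.SchemeOpen

/-!
The fibrewise criterion of flatness on charts of algebraic spaces.
-/

universe u

open CategoryTheory CategoryTheory.Limits AlgebraicGeometry
open AlgSp

noncomputable section

namespace Groth.Agent.AlgSpLib

set_option backward.isDefEq.respectTransparency.types false

variable {S : Scheme.{u}} {X Y Z : Sp S}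

/-- the hypothesis: the maps on fibres over field points are flat -/
def FlatOnFibres (f : X ⟶ Y) (g : Y ⟶ Z) : Prop :=
  ∀ (K : Type u) [Field K] (sK : Spec (CommRingCat.of K) ⟶ S)
    (z : (yon S).obj (Over.mk sK) ⟶ Z) (Xz Yz : Sp S)
    (pX : Xz ⟶ X) (qX : Xz ⟶ (yon S).obj (Over.mk sK))
    (pY : Yz ⟶ Y) (qY : Yz ⟶ (yon S).obj (Over.mk sK)) (fz : Xz ⟶ Yz),
    IsPullback pX qX (f ≫ g) z → IsPullback pY qY g z → fz ≫ pY = pX ≫ f → fz ≫ qY = qX →
    LocP @Flat fz

theorem isFibFlatMorAt_chart {f : X ⟶ Y} {g : Y ⟶ Z} (C : Charts f g) (hfib : FlatOnFibres f g)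
    (u : ↥C.U.left) : EGA43.Cons.IsFibFlatMorAt C.h.left C.k.left u := by
  let s : ↥C.W.left := C.k.left (C.h.left u)
  refine (EGA43.Cons.flat_fibMap_iff C.h.left C.k.left s).1 ?_ u rfl
  let sK : Spec (C.W.left.residueField s) ⟶ S := C.W.left.fromSpecResidueField s ≫ C.W.hom
  let ι : Over.mk sK ⟶ C.W := Over.homMk (C.W.left.fromSpecResidueField s)
  let Us : Over S := Over.mk ((C.h.left ≫ C.k.left).fiberι s ≫ C.U.hom)
  let pU : Us ⟶ C.U := Over.homMk ((C.h.left ≫ C.k.left).fiberι s)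
  let qU : Us ⟶ Over.mk sK := Over.homMk ((C.h.left ≫ C.k.left).fiberToSpecResidueField s) (by
    show _ ≫ C.W.left.fromSpecResidueField s ≫ C.W.hom = (C.h.left ≫ C.k.left).fiberι s ≫ C.U.hom
    rw [← Over.w (C.h ≫ C.k), ← Category.assoc, ← Scheme.Hom.fiber_fac, Category.assoc]
    rfl)
  have sqU : IsPullback pU qU (C.h ≫ C.k) ι :=
    IsPullback.of_map (Over.forget S) (Over.OverMorphism.ext pullback.condition)
      (IsPullback.of_hasPullback (C.h.left ≫ C.k.left) (C.W.left.fromSpecResidueField s))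
  let Vs : Over S := Over.mk (C.k.left.fiberι s ≫ C.V.hom)
  let pV : Vs ⟶ C.V := Over.homMk (C.k.left.fiberι s)
  let qV : Vs ⟶ Over.mk sK := Over.homMk (C.k.left.fiberToSpecResidueField s) (by
    show _ ≫ C.W.left.fromSpecResidueField s ≫ C.W.hom = C.k.left.fiberι s ≫ C.V.hom
    rw [← Over.w C.k, ← Category.assoc, ← Scheme.Hom.fiber_fac, Category.assoc])
  have sqV : IsPullback pV qV C.k ι :=
    IsPullback.of_map (Over.forget S) (Over.OverMorphism.ext pullback.condition)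
      (IsPullback.of_hasPullback C.k.left (C.W.left.fromSpecResidueField s))
  let z := (yon S).map ι ≫ C.c
  have sqX := IsPullback.of_hasPullback (f ≫ g) z
  have sqY := IsPullback.of_hasPullback g z
  obtain ⟨aX, hX1, hX2, hX3⟩ := exists_baseChange_chart C.ψX_snd sqU sqX C.ψX_etale
  obtain ⟨aY, hY1, hY2, hY3⟩ := exists_baseChange_chart C.ψY_snd sqV sqY C.ψY_etale
  rw [C.ψX_fst] at hX1
  rw [C.ψY_fst] at hY1
  let fz : pullback (f ≫ g) z ⟶ pullback g z :=
    sqY.lift (pullback.fst (f ≫ g) z ≫ f) (pullback.snd (f ≫ g) z) (by rw [Category.assoc, pullback.condition])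
  let hs : Us ⟶ Vs := sqV.lift (pU ≫ C.h) qU (by rw [Category.assoc]; exact sqU.w)
  have e : hs.left = EGA43.Cons.fibMap C.h.left C.k.left s := by
    apply pullback.hom_ext
    · rw [pullback.lift_fst]
      exact congrArg (fun t : Us ⟶ C.V => t.left) (sqV.lift_fst _ _ _)
    · rw [pullback.lift_snd]
      exact congrArg (fun t : Us ⟶ Over.mk sK => t.left) (sqV.lift_snd _ _ _)
  have hw : aX ≫ fz = (yon S).map hs ≫ aY := by
    refine sqY.hom_ext ?_ ?_
    · rw [Category.assoc, Category.assoc, sqY.lift_fst, hY1, ← Category.assoc, hX1, Category.assoc, C.wf,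
        ← Category.assoc, ← Category.assoc, ← Functor.map_comp, ← Functor.map_comp, sqV.lift_fst]
    · rw [Category.assoc, Category.assoc, sqY.lift_snd, hY2, hX2, ← Functor.map_comp, sqV.lift_snd]
  have := hfib (C.W.left.residueField s) sK z _ _ _ _ _ _ fz sqX sqY (sqY.lift_fst _ _ _) (sqY.lift_snd _ _ _)
    aX aY hs hX3 hY3 hw
  rwa [e] at this

theorem lft_chart {f : X ⟶ Y} {g : Y ⟶ Z} (C : Charts f g) (hft : LocP @LocallyOfFiniteType g) :
    LocallyOfFiniteType C.k.left :=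
  hft C.b C.c C.k C.b_etale C.c_etale C.wg

theorem lfp_flat_chart {f : X ⟶ Y} {g : Y ⟶ Z} (C : Charts f g) {P : MorphismProperty Scheme.{u}}
    (h : LocP P (f ≫ g)) : P (C.h.left ≫ C.k.left) :=
  h C.a C.c (C.h ≫ C.k) C.a_etale C.c_etale (by
    rw [← Category.assoc, C.wf, Category.assoc, C.wg, Functor.map_comp, Category.assoc])

/-- flatness from flatness on all points of a chart -/
theorem locP_flat_of_chart (hX : IsAlgSpace X) (hY : IsAlgSpace Y) {f : X ⟶ Y} {g : Y ⟶ Z} (C : Charts f g)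
    (hu : ∀ u : ↥C.U.left, (C.h.left.stalkMap u).hom.Flat) : LocP @Flat f :=
  locP_of_chart_square etLocal_flat hX C.a C.a_etale C.a_surj C.b C.b_etale C.h
    ((Flat.iff_flat_stalkMap C.h.left).2 hu) C.wf

theorem locP_flat_right_of_chart (hY : IsAlgSpace Y) (hZ : IsAlgSpace Z) {f : X ⟶ Y} {g : Y ⟶ Z}
    (C : Charts f g) (hu : ∀ u : ↥C.U.left, (C.k.left.stalkMap (C.h.left u)).hom.Flat)
    (hs : IsSurjectiveMor f) : LocP @Flat g := by
  refine (locP_flat_iff_forall_isFlatAtMor g).2 fun y => ?_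
  obtain ⟨x, rfl⟩ := hs y
  obtain ⟨u, rfl⟩ := surjective_ofPt C.a C.a_surj x
  rw [Points.map_ofPt, C.wf, ofPt_map]
  exact (isFlatAtMor_iff hY hZ g C.b C.c C.k C.b_etale C.c_etale C.wg _).2 (hu u)

end Groth.Agent.AlgSpLib
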