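import Groth.Agent.AlgSpLib.FOLift
import Mathlib.AlgebraicGeometry.Morphisms.FormallyUnramified

/-!
Formally unramified and formally etale morphisms, compared with the scheme notions on charts.
-/

universe u

open CategoryTheory CategoryTheory.Limits AlgebraicGeometry
open AlgSp

noncomputable section

namespace Groth.Agent.AlgSpLib

set_option backward.isDefEq.respectTransparency.types false

variable {S : Scheme.{u}}

theorem ker_specMap_quotient_sq {A : CommRingCat.{u}} (I : Ideal A) (hI : I ^ 2 = ⊥) :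
    (Spec.map (CommRingCat.ofHom (Ideal.Quotient.mk I))).ker ^ 2 = ⊥ := by
  let q : A ⟶ CommRingCat.of (A ⧸ I) := CommRingCat.ofHom (Ideal.Quotient.mk I)
  refine Scheme.IdealSheafData.ext_of_isAffine ?_
  rw [Scheme.IdealSheafData.ideal_pow, Pi.pow_apply, Scheme.IdealSheafData.ideal_bot, Pi.bot_apply,
    Scheme.Hom.ker_apply]
  have h2 : RingHom.ker ((Spec.map q).app ⊤).hom ≤ I.map (Scheme.ΓSpecIso A).inv.hom := by
    intro x hx
    obtain ⟨r, rfl⟩ : ∃ r, (Scheme.ΓSpecIso A).inv r = x :=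
      ⟨(Scheme.ΓSpecIso A).hom x, Iso.hom_inv_id_apply (Scheme.ΓSpecIso A) x⟩
    refine Ideal.mem_map_of_mem _ (Ideal.Quotient.eq_zero_iff_mem.1 ?_)
    have e4 := congr($(Scheme.ΓSpecIso_inv_naturality q) r)
    simp only [CommRingCat.hom_comp, RingHom.comp_apply] at e4
    exact (Scheme.ΓSpecIso (CommRingCat.of (A ⧸ I))).symm.commRingCatIsoToRingEquiv.injective
      ((e4.trans hx).trans (map_zero _).symm)
  rw [← le_bot_iff]
  refine (Ideal.pow_right_mono h2 2).trans ?_
  rw [← Ideal.map_pow, hI, Ideal.map_bot]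

theorem ker_sq_of_isPullback_quotient {A : CommRingCat.{u}} (I : Ideal A) (hI : I ^ 2 = ⊥)
    {V W : Scheme.{u}} [IsAffine V] {v : V ⟶ Spec A} {w : W ⟶ Spec (CommRingCat.of (A ⧸ I))} {s : W ⟶ V}
    (sq : IsPullback w s (Spec.map (CommRingCat.ofHom (Ideal.Quotient.mk I))) v) : s.ker * s.ker = ⊥ := by
  obtain ⟨φ, hφ⟩ : ∃ φ : A ⟶ Γ(V, ⊤), Spec.map φ = V.isoSpec.inv ≫ v := Spec.map_surjective _
  let J := I.map φ.hom
  let q : Γ(V, ⊤) ⟶ CommRingCat.of (Γ(V, ⊤) ⧸ J) := CommRingCat.ofHom (Ideal.Quotient.mk J)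
  let φ₀ := CommRingCat.ofHom (Ideal.quotientMap J φ.hom I.le_comap_map)
  have hS : IsPullback (Spec.map q) (Spec.map φ₀) (Spec.map φ) (Spec.map (CommRingCat.ofHom (Ideal.Quotient.mk I))) :=
    isPullback_SpecMap_of_isPushout φ (CommRingCat.ofHom (Ideal.Quotient.mk I)) q φ₀ (isPushout_quotient φ.hom I)
  have hS' : IsPullback (Spec.map φ₀) (Spec.map q ≫ V.isoSpec.inv)
      (Spec.map (CommRingCat.ofHom (Ideal.Quotient.mk I))) v :=
    hS.flip.of_iso (Iso.refl _) (Iso.refl _) V.isoSpec.symm (Iso.refl _) (by simp) (by simp) (by simp)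
      (by simp [hφ])
  obtain ⟨e, he⟩ : ∃ e : W ≅ _, s = e.hom ≫ Spec.map q ≫ V.isoSpec.inv :=
    ⟨sq.isoIsPullback _ _ hS', (sq.isoIsPullback_hom_snd _ _ hS').symm⟩
  have hJ : J ^ 2 = ⊥ := by rw [← Ideal.map_pow, hI, Ideal.map_bot]
  have h0 := congr(($(ker_specMap_quotient_sq (A := Γ(V, ⊤)) J hJ)).ideal ⟨⊤, isAffineOpen_top _⟩)
  rw [Scheme.IdealSheafData.ideal_pow, Pi.pow_apply, Scheme.IdealSheafData.ideal_bot, Pi.bot_apply,
    Scheme.Hom.ker_apply] at h0
  rw [he, Scheme.Hom.ker_comp_of_isIso, ← pow_two]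
  refine Scheme.IdealSheafData.ext_of_isAffine ?_
  rw [Scheme.IdealSheafData.ideal_pow, Pi.pow_apply, Scheme.IdealSheafData.ideal_bot, Pi.bot_apply,
    Scheme.Hom.ker_apply, ← le_bot_iff]
  show RingHom.ker (Spec.map q ≫ V.isoSpec.inv).appTop.hom ^ 2 ≤ ⊥
  rw [Scheme.Hom.comp_appTop, CommRingCat.hom_comp, ← RingHom.comap_ker]
  have : IsIso (Scheme.Hom.appTop V.isoSpec.inv) := inferInstanceAs (IsIso (V.isoSpec.inv.app ⊤))
  have hinj : Function.Injective (V.isoSpec.inv.appTop).hom :=
    (ConcreteCategory.bijective_of_isIso V.isoSpec.inv.appTop).1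
  refine le_trans ?_ ((RingHom.injective_iff_ker_eq_bot _).1 hinj).le
  rw [RingHom.ker_eq_comap_bot (V.isoSpec.inv.appTop).hom, ← Ideal.map_le_iff_le_comap]
  · exact (Ideal.map_pow _ _ _).le.trans ((Ideal.pow_right_mono Ideal.map_comap_le 2).trans h0.le)

theorem isFormallyUnramifiedMor_yon {U V : Over S} (h : U ⟶ V) [FormallyUnramified h.left] :
    IsFormallyUnramifiedMor ((yon S).map h) := by
  intro sq l l' h1 h2 h3 h4
  obtain ⟨m, rfl⟩ := (yon S).map_surjective l
  obtain ⟨m', rfl⟩ := (yon S).map_surjective l'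
  have e1 : sq.j ≫ m = sq.j ≫ m' := (yon S).map_injective (by
    rw [Functor.map_comp, Functor.map_comp, h1, h3])
  have e2 : m ≫ h = m' ≫ h := (yon S).map_injective (by rw [Functor.map_comp, Functor.map_comp, h2, h4])
  refine congrArg (yon S).map (Over.OverMorphism.ext ?_)
  have : IsClosedImmersion (Spec.map (CommRingCat.ofHom (Ideal.Quotient.mk sq.I))) :=
    IsClosedImmersion.spec_of_surjective _ Ideal.Quotient.mk_surjective
  exact FormallyUnramified.hom_ext (Spec.map (CommRingCat.ofHom (Ideal.Quotient.mk sq.I)))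
    ⟨2, ker_specMap_quotient_sq (A := CommRingCat.of sq.A) sq.I sq.sq_zero⟩ h.left (congrArg (fun k : _ ⟶ U => k.left) e1)
    (congrArg (fun k : _ ⟶ V => k.left) e2)

theorem formallyUnramified_of_mor {U V : Over S} (h : U ⟶ V) (hh : IsFormallyUnramifiedMor ((yon S).map h)) :
    FormallyUnramified h.left := by
  refine FormallyUnramified.of_hom_ext _ fun R R' φ hφ hI g₁ g₂ e1 e2 => ?_
  let I := RingHom.ker φ.hom
  let str : Spec R ⟶ S := g₁ ≫ U.hom
  have hs : g₂ ≫ U.hom = str := by
    show g₂ ≫ U.hom = g₁ ≫ U.hom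
    rw [← Over.w h, ← Category.assoc, ← e2, Category.assoc]
  let T' : Over S := Over.mk str
  let m₁ : T' ⟶ U := Over.homMk g₁
  let m₂ : T' ⟶ U := Over.homMk g₂ hs
  let q := CommRingCat.ofHom (Ideal.Quotient.mk I)
  have hq : Spec.map q ≫ g₁ = Spec.map q ≫ g₂ := by
    have e3 : q = φ ≫ CommRingCat.ofHom (RingHom.quotientKerEquivOfSurjective hφ).symm.toRingHom := by
      refine CommRingCat.hom_ext (RingHom.ext fun x => ?_)
      exact ((RingHom.quotientKerEquivOfSurjective hφ).symm_apply_apply (Ideal.Quotient.mk I x)).symm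
    rw [e3, Spec.map_comp, Category.assoc, Category.assoc, e1]
  let jm : Over.mk (Spec.map q ≫ str) ⟶ T' := Over.homMk (Spec.map q) rfl
  have ej : jm ≫ m₁ = jm ≫ m₂ := Over.OverMorphism.ext hq
  have eh : m₁ ≫ h = m₂ ≫ h := Over.OverMorphism.ext e2
  let sq : InfSq ((yon S).map h) := { A := R, I := I, sq_zero := hI, str := str, top := (yon S).map (jm ≫ m₁), bot := (yon S).map (m₁ ≫ h), comm := by rw [← Functor.map_comp, ← Functor.map_comp, Category.assoc] }
  have := hh sq ((yon S).map m₁) ((yon S).map m₂) (Functor.map_comp _ _ _).symm (Functor.map_comp _ _ _).symm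
    ((Functor.map_comp _ _ _).symm.trans (congrArg (yon S).map ej.symm))
    ((Functor.map_comp _ _ _).symm.trans (congrArg (yon S).map eh.symm))
  exact congrArg (fun k : T' ⟶ U => k.left) ((yon S).map_injective this)

theorem isFormallyUnramifiedMor_chart {X Y : Sp S} {f : X ⟶ Y} {U V : Over S}
    {a : (yon S).obj U ⟶ X} {b : (yon S).obj V ⟶ Y} {h : U ⟶ V} (ha : RepWith @Etale a)
    (hb : RepWith @Etale b) (w : a ≫ f = (yon S).map h ≫ b) (hf : IsFormallyUnramifiedMor f) :
    IsFormallyUnramifiedMor ((yon S).map h) := by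
  refine isFormallyUnramifiedMor_of_comp (b := b) ?_
  rw [← w]
  exact isFormallyUnramifiedMor_comp ((formallyEtale_iff a).1 (isFormallyEtaleMor_of_repWith ha)).2 hf

theorem locP_formallyUnramified_of_mor_chart {X Y : Sp S} {f : X ⟶ Y} (hf : IsFormallyUnramifiedMor f) :
    LocP @FormallyUnramified f := fun _ _ _ _ _ ha hb w =>
  formallyUnramified_of_mor _ (isFormallyUnramifiedMor_chart ha hb w hf)

theorem isFormallyUnramifiedMor_of_chart {X Y : Sp S} (hX : IsAlgSpace X) (hY : IsAlgSpace Y) {f : X ⟶ Y}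
    {U V : Over S} {a : (yon S).obj U ⟶ X} {b : (yon S).obj V ⟶ Y} {h : U ⟶ V} (ha : RepWith @Etale a)
    (has : RepWith @Surjective a) (hb : RepWith @Etale b) (w : a ≫ f = (yon S).map h ≫ b)
    [FormallyUnramified h.left] : IsFormallyUnramifiedMor f := by
  intro sq l l' h1 h2 h3 h4
  let T' := (yon S).obj sq.ptT'
  have hT' : IsAlgSpace T' := IsAlgSpace.yon_obj _
  have sqU := ha.1.isPullback l
  let U' := ha.1.pullback l
  let π := (yon S).map (ha.1.snd l)
  let m₁ := ha.1.fst l
  have hπ : RepWith @Etale π := (repWith_yon_map_iff _ _).2 (ha.property_snd l)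
  have hπs : RepWith @Surjective π := (repWith_yon_map_iff _ _).2 (has.2 l _ _ sqU)
  let j : _ ⟶ T' := (yon S).map sq.j
  have hj : IsFOThickMor j := ⟨isThickMor_infSq sq, by
    intro V' W b' fst snd hV' hb' sq'
    obtain ⟨v, rfl⟩ := (yon S).map_surjective b'
    obtain ⟨w', rfl⟩ := (yon S).map_surjective fst
    have hv : Etale v.left := (repWith_yon_map_iff @Etale v).1 hb'
    exact ker_sq_of_isPullback_quotient (A := CommRingCat.of sq.A) sq.I sq.sq_zero ((IsPullback.of_map (yon S) ((yon S).map_injective ((Functor.map_comp _ _ _).trans (sq'.w.trans (Functor.map_comp _ _ _).symm))) sq').map (Over.forget S))⟩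
  have he : IsEtaleMor π := (isEtaleMor_iff_locP etLocal_etale (IsAlgSpace.yon_obj _) hT' π).2
    (locP_of_repWith etLocal_etale (IsAlgSpace.yon_obj _) hπ)
  have sq₀ := IsPullback.of_hasPullback j π
  have hjU : IsFOThickMor (pullback.snd j π) := foThick_baseChange_etale hj he sq₀
  have hU₀ : IsAlgSpace (pullback j π) :=
    isAlgSpace_of_isPullback hT'.diag (IsAlgSpace.yon_obj _) (IsAlgSpace.yon_obj _) sq₀
  have haf := (isEtaleMor_iff_locP etLocal_etale (IsAlgSpace.yon_obj U) hX a).2
    (locP_of_repWith etLocal_etale (IsAlgSpace.yon_obj U) ha)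
  obtain ⟨m₂, ⟨e1, e2⟩, -⟩ := existsUnique_lift_of_etale (IsAlgSpace.yon_obj U) hX hU₀ (IsAlgSpace.yon_obj _)
    hjU.1 haf (pullback.snd j π ≫ m₁) (π ≫ l') (by
      rw [Category.assoc, sqU.w, ← Category.assoc, ← Category.assoc, ← pullback.condition, Category.assoc,
        Category.assoc]
      exact congrArg _ (h1.trans h3.symm))
  have hbu := ((formallyEtale_iff b).1 (isFormallyEtaleMor_of_repWith hb)).2
  have e3 : m₁ ≫ (yon S).map h = m₂ ≫ (yon S).map h := by
    refine eq_of_foThick_of_formallyUnramified (IsAlgSpace.yon_obj _) hjU hbu _ _ ?_ ?_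
    · rw [← Category.assoc, ← Category.assoc, e1]
    · rw [Category.assoc, Category.assoc, ← w, ← Category.assoc, ← Category.assoc, e2, sqU.w,
        Category.assoc, Category.assoc, h2, h4]
  have e4 : m₁ = m₂ := eq_of_foThick_of_formallyUnramified (IsAlgSpace.yon_obj _) hjU
    (isFormallyUnramifiedMor_yon h) _ _ e1.symm e3
  have e5 : π ≫ l = π ≫ l' := by rw [← e2, ← e4, sqU.w]
  have := isLocallySurjective_of_etale hπ hπs
  have : Epi π := Sheaf.epi_of_isLocallySurjective π
  exact (cancel_epi π).1 e5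

theorem etale_of_mor {U V : Over S} (h : U ⟶ V) [LocallyOfFinitePresentation h.left]
    (hh : IsFormallyEtaleMor ((yon S).map h)) : Etale h.left := by
  refine ⟨fun {Vs} hVs {Us} hUs eU => ?_⟩
  let ψ := h.left.appLE Vs Us eU
  have hfp : ψ.hom.FinitePresentation :=
    HasRingHomProperty.appLE (P := @LocallyOfFinitePresentation) h.left inferInstance ⟨Vs, hVs⟩ ⟨Us, hUs⟩ eU
  let U1 : Over S := Over.mk (hUs.fromSpec ≫ U.hom)
  let ju : U1 ⟶ U := Over.homMk hUs.fromSpec
  let V1 : Over S := Over.mk (hVs.fromSpec ≫ V.hom)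
  let jv : V1 ⟶ V := Over.homMk hVs.fromSpec
  have eh : Spec.map ψ ≫ hVs.fromSpec = hUs.fromSpec ≫ h.left := hVs.SpecMap_appLE_fromSpec h.left hUs eU
  let h₁ : U1 ⟶ V1 := Over.homMk (Spec.map ψ) (by
    show Spec.map ψ ≫ hVs.fromSpec ≫ V.hom = hUs.fromSpec ≫ U.hom
    rw [reassoc_of% eh, Over.w h])
  have hju := isFormallyEtaleMor_of_repWith ((repWith_yon_map_iff @Etale ju).2 (inferInstanceAs (Etale hUs.fromSpec)))
  have hjv := isFormallyEtaleMor_of_repWith ((repWith_yon_map_iff @Etale jv).2 (inferInstanceAs (Etale hVs.fromSpec)))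
  have ew : (yon S).map h₁ ≫ (yon S).map jv = (yon S).map ju ≫ (yon S).map h := by
    rw [← Functor.map_comp, ← Functor.map_comp]
    exact congrArg _ (Over.OverMorphism.ext eh)
  rw [formallyEtale_iff] at hju hjv hh
  have hcs : IsFormallySmoothMor ((yon S).map h₁ ≫ (yon S).map jv) := by
    rw [ew]; exact formallySmooth_comp hju.1 hh.1
  have hcu : IsFormallyUnramifiedMor ((yon S).map h₁ ≫ (yon S).map jv) := by
    rw [ew]; exact isFormallyUnramifiedMor_comp hju.2 hh.2
  have h1 : IsFormallyEtaleMor ((yon S).map h₁) :=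
    (formallyEtale_iff _).2 ⟨formallySmooth_of_comp hjv.2 hcs, isFormallyUnramifiedMor_of_comp hcu⟩
  algebraize [ψ.hom]
  have : Algebra.FormallyEtale Γ(V.left, Vs) Γ(U.left, Us) := by
    refine Algebra.FormallyEtale.iff_comp_bijective.2 fun R _ _ I hI => ?_
    let str : Spec (CommRingCat.of R) ⟶ S := Spec.map (CommRingCat.ofHom (algebraMap Γ(V.left, Vs) R)) ≫ V1.hom
    let bot : Over.mk str ⟶ V1 := Over.homMk (Spec.map (CommRingCat.ofHom (algebraMap Γ(V.left, Vs) R)))
    let q := CommRingCat.ofHom (Ideal.Quotient.mk I)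
    let jm : Over.mk (Spec.map q ≫ str) ⟶ Over.mk str := Over.homMk (Spec.map q) rfl
    have mkU : ∀ g : Γ(U.left, Us) →ₐ[Γ(V.left, Vs)] R,
        Spec.map (CommRingCat.ofHom g.toRingHom) ≫ U1.hom = str := fun g => by
      rw [← Over.w h₁]
      show _ ≫ Spec.map ψ ≫ V1.hom = _
      rw [← Spec.map_comp_assoc]
      exact congrArg (fun k => Spec.map k ≫ V1.hom) (CommRingCat.hom_ext g.comp_algebraMap)
    have mb : ∀ g : Γ(U.left, Us) →ₐ[Γ(V.left, Vs)] R,
        (yon S).map (Over.homMk (Spec.map (CommRingCat.ofHom g.toRingHom)) (mkU g) : Over.mk str ⟶ U1) ≫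
          (yon S).map h₁ = (yon S).map bot := fun g => by
      rw [← Functor.map_comp]
      refine congrArg _ (Over.OverMorphism.ext ?_)
      show Spec.map _ ≫ Spec.map ψ = Spec.map _
      rw [← Spec.map_comp]
      exact congrArg Spec.map (CommRingCat.hom_ext g.comp_algebraMap)
    refine ⟨fun g₁ g₂ e => ?_, fun g₀ => ?_⟩
    · let top : Over.mk (Spec.map q ≫ str) ⟶ U1 :=
        jm ≫ (Over.homMk (Spec.map (CommRingCat.ofHom g₁.toRingHom)) (mkU g₁) : Over.mk str ⟶ U1)
      let sq : InfSq ((yon S).map h₁) := { A := R, I := I, sq_zero := hI, str := str, top := (yon S).map top, bot := (yon S).map bot, comm := by rw [Functor.map_comp, Category.assoc, mb] }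
      have := ((formallyEtale_iff _).1 h1).2 sq
        ((yon S).map (Over.homMk (Spec.map (CommRingCat.ofHom g₁.toRingHom)) (mkU g₁) : Over.mk str ⟶ U1))
        ((yon S).map (Over.homMk (Spec.map (CommRingCat.ofHom g₂.toRingHom)) (mkU g₂) : Over.mk str ⟶ U1))
        (Functor.map_comp _ _ _).symm (mb g₁) ((Functor.map_comp _ _ _).symm.trans (congrArg (yon S).map
          (Over.OverMorphism.ext (by
            show Spec.map q ≫ Spec.map _ = Spec.map q ≫ Spec.map _
            rw [← Spec.map_comp, ← Spec.map_comp]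
            exact congrArg (fun k : Γ(U.left, Us) →ₐ[Γ(V.left, Vs)] R ⧸ I => Spec.map (CommRingCat.ofHom k.toRingHom)) e.symm))))
        (mb g₂)
      exact AlgHom.coe_ringHom_injective (congrArg CommRingCat.Hom.hom
        (Spec.map_injective (congrArg (fun k : Over.mk str ⟶ U1 => k.left) ((yon S).map_injective this))))
    · let top : Over.mk (Spec.map q ≫ str) ⟶ U1 := Over.homMk (Spec.map (CommRingCat.ofHom g₀.toRingHom)) (by
        show _ ≫ U1.hom = Spec.map q ≫ str
        rw [← Over.w h₁]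
        show _ ≫ Spec.map ψ ≫ V1.hom = _ ≫ Spec.map _ ≫ V1.hom
        rw [← Spec.map_comp_assoc, ← Spec.map_comp_assoc]
        exact congrArg (fun k => Spec.map k ≫ V1.hom) (CommRingCat.hom_ext g₀.comp_algebraMap))
      let sq : InfSq ((yon S).map h₁) := { A := R, I := I, sq_zero := hI, str := str, top := (yon S).map top, bot := (yon S).map bot, comm := by
                                             rw [← Functor.map_comp, ← Functor.map_comp]
                                             refine congrArg _ (Over.OverMorphism.ext ?_)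
                                             show Spec.map _ ≫ Spec.map ψ = Spec.map q ≫ Spec.map _
                                             rw [← Spec.map_comp, ← Spec.map_comp]
                                             exact congrArg Spec.map (CommRingCat.hom_ext g₀.comp_algebraMap) }
      obtain ⟨l, ⟨hl1, hl2⟩, -⟩ := h1 sq
      obtain ⟨m, rfl⟩ := (yon S).map_surjective l
      obtain ⟨g, hg⟩ := Spec.map_surjective (show Spec (CommRingCat.of R) ⟶ Spec Γ(U.left, Us) from m.left)
      have e5 : ψ ≫ g = CommRingCat.ofHom (algebraMap Γ(V.left, Vs) R) := Spec.map_injective (by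
        rw [Spec.map_comp, hg]
        exact congrArg (fun k : Over.mk str ⟶ V1 => k.left) ((yon S).map_injective ((Functor.map_comp _ _ _).trans hl2)))
      refine ⟨⟨g.hom, fun r => congr($e5 r)⟩, AlgHom.coe_ringHom_injective ?_⟩
      exact congrArg CommRingCat.Hom.hom (@Spec.map_injective _ _ (g ≫ q) (CommRingCat.ofHom g₀.toRingHom) (by
        rw [Spec.map_comp, hg]
        exact congrArg (fun k : Over.mk (Spec.map q ≫ str) ⟶ U1 => k.left)
          ((yon S).map_injective ((Functor.map_comp _ _ _).trans hl1))))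
  have : Algebra.FinitePresentation Γ(V.left, Vs) Γ(U.left, Us) := hfp
  exact (RingHom.etale_algebraMap (R := Γ(V.left, Vs)) (S := Γ(U.left, Us))).2 { }

end Groth.Agent.AlgSpLib
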