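import Groth.Agent.AlgSpLib.FOThick2
import Groth.Agent.AlgSpLib.SourceRingEtale
import Groth.Agent.MorProj.EtaleNbhd
import Groth.Agent.AlgSpLib.RepLocal

/-!
Formally smooth / etale morphisms: scheme versus sheaf notions, and descent along etale surjections.
-/

universe u

open CategoryTheory CategoryTheory.Limits AlgebraicGeometry
open AlgSp

noncomputable section

namespace Groth.Agent.AlgSpLib

set_option backward.isDefEq.respectTransparency.types false

variable {S : Scheme.{u}}

theorem isFormallySmoothMor_yon_iff {U V : Over S} (h : U ⟶ V) :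
    IsFormallySmoothMor ((yon S).map h) ↔ MoreMor.IsFormallySmoothHom h.left := by
  constructor
  · intro H A _ I hI a b w
    let str : Spec (CommRingCat.of A) ⟶ S := b ≫ V.hom
    let top : Over.mk (Spec.map (CommRingCat.ofHom (Ideal.Quotient.mk I)) ≫ str) ⟶ U :=
      Over.homMk a (by
        show a ≫ U.hom = Spec.map (CommRingCat.ofHom (Ideal.Quotient.mk I)) ≫ b ≫ V.hom
        rw [reassoc_of% w, Over.w h])
    let bot : Over.mk str ⟶ V := Over.homMk b
    obtain ⟨l, h1, h2⟩ := H
      { A := A, I := I, sq_zero := hI, str := str, top := (yon S).map top, bot := (yon S).map bot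
        comm := by
          rw [← Functor.map_comp, ← Functor.map_comp]
          exact congrArg _ (Over.OverMorphism.ext w.symm) }
    obtain ⟨m, rfl⟩ := (yon S).map_surjective l
    exact ⟨m.left, congrArg (fun k : _ ⟶ U => k.left) ((yon S).map_injective ((Functor.map_comp _ _ _).trans h1)),
      congrArg (fun k : _ ⟶ V => k.left) ((yon S).map_injective ((Functor.map_comp _ _ _).trans h2))⟩
  · intro H sq
    obtain ⟨t, ht⟩ := (yon S).map_surjective sq.top
    obtain ⟨b, hb⟩ := (yon S).map_surjective sq.bot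
    have hc := sq.comm
    rw [← ht, ← hb, ← Functor.map_comp, ← Functor.map_comp] at hc
    obtain ⟨l, h1, h2⟩ := H sq.A sq.I sq.sq_zero t.left b.left
      (congrArg (fun k : _ ⟶ V => k.left) ((yon S).map_injective hc)).symm
    let m : sq.ptT' ⟶ U := Over.homMk l (by
      show l ≫ U.hom = _
      rw [← Over.w h, reassoc_of% h2]
      exact Over.w b)
    refine ⟨(yon S).map m, ?_, ?_⟩
    · rw [← ht, ← Functor.map_comp]
      exact congrArg _ (Over.OverMorphism.ext h1)
    · rw [← hb, ← Functor.map_comp]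
      exact congrArg _ (Over.OverMorphism.ext h2)

theorem isFormallyEtaleHom_of_mor {U V : Over S} (h : U ⟶ V) (H : IsFormallyEtaleMor ((yon S).map h)) :
    MoreMor.IsFormallyEtaleHom h.left := by
  intro A _ I hI a b w
  obtain ⟨l, h1, h2⟩ := (isFormallySmoothMor_yon_iff h).1 ((formallyEtale_iff _).1 H).1 A I hI a b w
  refine ⟨l, ⟨h1, h2⟩, fun l' ⟨h1', h2'⟩ => ?_⟩
  have := formallyUnramified_of_mor h ((formallyEtale_iff _).1 H).2
  have : IsClosedImmersion (Spec.map (CommRingCat.ofHom (Ideal.Quotient.mk I))) :=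
    IsClosedImmersion.spec_of_surjective _ Ideal.Quotient.mk_surjective
  exact FormallyUnramified.hom_ext (Spec.map (CommRingCat.ofHom (Ideal.Quotient.mk I)))
    ⟨2, ker_specMap_quotient_sq (A := CommRingCat.of A) I hI⟩ h.left (h1'.trans h1.symm) (h2'.trans h2.symm)

theorem isFormallyEtaleMor_yon_iff {U V : Over S} (h : U ⟶ V) :
    IsFormallyEtaleMor ((yon S).map h) ↔ MoreMor.IsFormallyEtaleHom h.left := by
  refine ⟨isFormallyEtaleHom_of_mor h, fun H sq => (hasUniqLift_iff sq).2 ⟨?_, ?_⟩⟩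
  · exact (isFormallySmoothMor_yon_iff h).2 (fun A _ I hI a b w => (H A I hI a b w).exists) sq
  · intro l l' h1 h2 h3 h4
    obtain ⟨m, rfl⟩ := (yon S).map_surjective l
    obtain ⟨m', rfl⟩ := (yon S).map_surjective l'
    obtain ⟨t, ht⟩ := (yon S).map_surjective sq.top
    obtain ⟨b, hb⟩ := (yon S).map_surjective sq.bot
    rw [← ht] at h1 h3
    rw [← hb] at h2 h4
    rw [← Functor.map_comp] at h1 h2 h3 h4
    have e1 := congrArg (fun k : _ ⟶ U => k.left) ((yon S).map_injective h1)
    have e2 := congrArg (fun k : _ ⟶ V => k.left) ((yon S).map_injective h2)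
    have e3 := congrArg (fun k : _ ⟶ U => k.left) ((yon S).map_injective h3)
    have e4 := congrArg (fun k : _ ⟶ V => k.left) ((yon S).map_injective h4)
    refine congrArg _ (Over.OverMorphism.ext ?_)
    exact (H sq.A sq.I sq.sq_zero t.left b.left (by
      rw [← e1, ← e2]
      exact (Category.assoc _ _ _).symm)).unique ⟨e1, e2⟩ ⟨e3, e4⟩

/-- etale neighbourhoods along which maps from a closed subscheme lift through an etale surjection -/
theorem exists_etale_nhd_factor {F G : Sp S} {a : F ⟶ G} (ha : RepWith @Etale a) (ha' : RepWith @Surjective a)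
    {A : Type u} [CommRing A] (I : Ideal A) (str : Spec (CommRingCat.of A) ⟶ S)
    (top : (yon S).obj (Over.mk (Spec.map (CommRingCat.ofHom (Ideal.Quotient.mk I)) ≫ str)) ⟶ G)
    (t₀ : ↥(Spec (CommRingCat.of (A ⧸ I)))) :
    ∃ (U' : Over S) (g : U' ⟶ Over.mk str),
      IsAffine U'.left ∧ Etale g.left ∧
      (∃ u, g.left u = (Spec.map (CommRingCat.ofHom (Ideal.Quotient.mk I))) t₀) ∧
      ∃ (U₀ : Over S) (g₀ : U₀ ⟶ Over.mk (Spec.map (CommRingCat.ofHom (Ideal.Quotient.mk I)) ≫ str))
        (j' : U₀ ⟶ U') (m : (yon S).obj U₀ ⟶ F),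
        IsPullback g₀ j' (Over.homMk (Spec.map (CommRingCat.ofHom (Ideal.Quotient.mk I))) rfl :
            Over.mk (Spec.map (CommRingCat.ofHom (Ideal.Quotient.mk I)) ≫ str) ⟶ Over.mk str) g ∧
          m ≫ a = (yon S).map g₀ ≫ top := by
  let B := CommRingCat.of (A ⧸ I)
  let W := ha.1.pullback top
  let π := ha.1.snd top
  have hπ : Etale π.left := ha.property_snd top
  have hπs : Surjective π.left := ha'.2 top _ _ (ha.1.isPullback top)
  obtain ⟨w, hw⟩ := π.left.surjective t₀
  have : Etale ((⊤ : W.left.Opens).ι ≫ π.left) := inferInstance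
  obtain ⟨O, hO, hwO, e, hstd⟩ := MorProj.EtaleNbhd.exists_isStandardEtale_nhd (X := W.left)
    (S := Spec B) π.left w (isAffineOpen_top _) trivial (W := ⊤) trivial
  let φ : Γ(Spec B, ⊤) ⟶ Γ(W.left, O) := π.left.appLE ⊤ O e
  let ι₀ : A →+* Γ(Spec B, ⊤) := (Scheme.ΓSpecIso B).inv.hom.comp (Ideal.Quotient.mk I)
  let := φ.hom.toAlgebra
  let := ι₀.toAlgebra
  let := (φ.hom.comp ι₀).toAlgebra
  have : IsScalarTower A Γ(Spec B, ⊤) Γ(W.left, O) := .of_algebraMap_eq' rfl
  have hs : Function.Surjective (algebraMap A Γ(Spec B, ⊤)) :=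
    (Scheme.ΓSpecIso B).symm.commRingCatIsoToRingEquiv.surjective.comp Ideal.Quotient.mk_surjective
  obtain ⟨pr, σ, hσ, hker⟩ := exists_lift_standardEtale (P := A) (A := Γ(Spec B, ⊤)) (T := Γ(W.left, O)) hs
  have hI : RingHom.ker (algebraMap A Γ(Spec B, ⊤)) = I := by
    show RingHom.ker ι₀ = I
    rw [RingHom.ker_comp_of_injective _ (f := (Scheme.ΓSpecIso B).inv.hom)
      (Scheme.ΓSpecIso B).symm.commRingCatIsoToRingEquiv.injective, Ideal.mk_ker]
  rw [hI] at hker
  let ψ : A →+* pr.Ring := algebraMap A pr.Ring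
  have hψ : Etale (Spec.map (CommRingCat.ofHom ψ)) :=
    (HasRingHomProperty.Spec_iff (P := @Etale)).2
      ((RingHom.etale_algebraMap (R := A) (S := pr.Ring)).2 inferInstance)
  let J : Ideal pr.Ring := I.map ψ
  let eσ : (pr.Ring ⧸ J) ≃+* Γ(W.left, O) :=
    (Ideal.quotEquivOfEq hker.symm).trans (RingHom.quotientKerEquivOfSurjective hσ)
  let q : CommRingCat.of pr.Ring ⟶ CommRingCat.of (pr.Ring ⧸ J) := CommRingCat.ofHom (Ideal.Quotient.mk J)
  let ψ₀ : B ⟶ CommRingCat.of (pr.Ring ⧸ J) := CommRingCat.ofHom (Ideal.quotientMap J ψ I.le_comap_map)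
  have sq : IsPullback (Spec.map ψ₀) (Spec.map q) (Spec.map (CommRingCat.ofHom (Ideal.Quotient.mk I)))
      (Spec.map (CommRingCat.ofHom ψ)) :=
    (isPullback_SpecMap_of_isPushout _ _ q ψ₀ (isPushout_quotient ψ I)).flip
  let k : Γ(W.left, O) ⟶ CommRingCat.of (pr.Ring ⧸ J) := CommRingCat.ofHom eσ.symm.toRingHom
  have hk : (Scheme.ΓSpecIso B).inv ≫ φ ≫ k = ψ₀ := by
    refine CommRingCat.hom_ext (Ideal.Quotient.ringHom_ext (RingHom.ext fun x => ?_))
    show eσ.symm (φ.hom (ι₀ x)) = Ideal.Quotient.mk J (ψ x)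
    refine (eσ.symm_apply_eq).2 ?_
    show algebraMap A Γ(W.left, O) x = σ (algebraMap A pr.Ring x)
    rw [σ.commutes]
  let U' : Over S := Over.mk (Spec.map (CommRingCat.ofHom ψ) ≫ str)
  let g : U' ⟶ Over.mk str := Over.homMk (Spec.map (CommRingCat.ofHom ψ))
  let U₀ : Over S := Over.mk (Spec.map q ≫ U'.hom)
  let j' : U₀ ⟶ U' := Over.homMk (Spec.map q)
  let g₀ : U₀ ⟶ Over.mk (Spec.map (CommRingCat.ofHom (Ideal.Quotient.mk I)) ≫ str) :=
    Over.homMk (Spec.map ψ₀) (by
      show Spec.map ψ₀ ≫ Spec.map _ ≫ str = Spec.map q ≫ Spec.map _ ≫ str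
      rw [reassoc_of% sq.w])
  have hm : (Spec.map k ≫ hO.fromSpec) ≫ π.left = Spec.map ψ₀ := by
    have h1 : Spec.map φ ≫ Spec.map (Scheme.ΓSpecIso B).inv = hO.fromSpec ≫ π.left := by
      rw [← Scheme.isoSpec_Spec_inv, ← IsAffineOpen.fromSpec_top]
      exact (isAffineOpen_top (Spec B)).SpecMap_appLE_fromSpec π.left hO e
    refine (Category.assoc _ _ _).trans ((congrArg (Spec.map k ≫ ·) h1.symm).trans ?_)
    rw [← hk, Spec.map_comp, Spec.map_comp, Category.assoc]
  let m₀ : U₀ ⟶ W := Over.homMk (Spec.map k ≫ hO.fromSpec) (by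
    show _ ≫ W.hom = Spec.map q ≫ Spec.map _ ≫ str
    rw [← Over.w π]
    show (Spec.map k ≫ hO.fromSpec) ≫ π.left ≫ Spec.map _ ≫ str = _
    rw [← Category.assoc, hm, reassoc_of% sq.w])
  refine ⟨U', g, isAffine_Spec _, hψ, ?_, U₀, g₀, j', (yon S).map m₀ ≫ ha.1.fst top, ?_, ?_⟩
  · have : IsIso (Spec.map k) := by
      have : IsIso k := (eσ.symm.toCommRingCatIso).isIso_hom
      infer_instance
    obtain ⟨v, hv⟩ : w ∈ Set.range hO.fromSpec := by rw [hO.range_fromSpec]; exact hwO
    obtain ⟨x, rfl⟩ := (Spec.map k).homeomorph.surjective v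
    refine ⟨Spec.map q x, ?_⟩
    show (Spec.map q ≫ Spec.map (CommRingCat.ofHom ψ)) x = _
    rw [← sq.w, ← hm]
    simp only [Scheme.Hom.comp_apply]
    rw [← hw, ← hv]
    rfl
  · exact IsPullback.of_map (Over.forget S) (Over.OverMorphism.ext sq.w) sq
  · rw [Category.assoc, (ha.1.isPullback top).w, ← Category.assoc, ← Functor.map_comp]
    refine congrArg (fun f => (yon S).map f ≫ top) ?_
    exact Over.OverMorphism.ext hm

theorem isFormallyUnramifiedMor_of_comp_surj {F G H : Sp S} {a : F ⟶ G} {b : G ⟶ H}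
    (ha : RepWith @Etale a) (ha' : RepWith @Surjective a) (hab : IsFormallyUnramifiedMor (a ≫ b)) :
    IsFormallyUnramifiedMor b := by
  intro sq l l' h1 h2 h3 h4
  let T' := (yon S).obj sq.ptT'
  have hT' : IsAlgSpace T' := IsAlgSpace.yon_obj _
  let π := (yon S).map (ha.1.snd l)
  let m₁ := ha.1.fst l
  have hπ : RepWith @Etale π := (repWith_yon_map_iff _ _).2 (ha.property_snd l)
  have hπs : RepWith @Surjective π :=
    (repWith_yon_map_iff _ _).2 (ha'.2 l _ _ (ha.1.isPullback l))
  let j : _ ⟶ T' := (yon S).map sq.j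
  have hj : IsFOThickMor j := isFOThickMor_infSq sq
  have he : IsEtaleMor π := (isEtaleMor_iff_locP etLocal_etale (IsAlgSpace.yon_obj _) hT' π).2
    (locP_of_repWith etLocal_etale (IsAlgSpace.yon_obj _) hπ)
  have sq₀ := IsPullback.of_hasPullback j π
  have hjU : IsFOThickMor (pullback.snd j π) := foThick_baseChange_etale hj he sq₀
  obtain ⟨m₂, ⟨e1, e2⟩, -⟩ := existsUnique_lift_of_formallyEtale (IsAlgSpace.yon_obj _) hjU
    (isFormallyEtaleMor_of_repWith ha) (pullback.snd j π ≫ m₁) (π ≫ l') (by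
      rw [Category.assoc, (ha.1.isPullback l).w, ← Category.assoc, ← Category.assoc, ← pullback.condition,
        Category.assoc, Category.assoc]
      exact congrArg _ (h1.trans h3.symm))
  have e3 : m₁ = m₂ := eq_of_foThick_of_formallyUnramified (IsAlgSpace.yon_obj _) hjU hab m₁ m₂ e1.symm (by
    rw [← Category.assoc, ← Category.assoc, (ha.1.isPullback l).w, e2, Category.assoc, Category.assoc,
      h2, h4])
  have e5 : π ≫ l = π ≫ l' := by rw [← e2, ← e3, (ha.1.isPullback l).w]
  have := isLocallySurjective_of_etale hπ hπs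
  have : Epi π := Sheaf.epi_of_isLocallySurjective π
  exact (cancel_epi π).1 e5

/-- lifting etale locally -/
theorem exists_etale_local_lift {F G H : Sp S} {a : F ⟶ G} {b : G ⟶ H}
    (ha : RepWith @Etale a) (ha' : RepWith @Surjective a) (hab : IsFormallySmoothMor (a ≫ b))
    (sq : InfSq b) (t : ↥sq.ptT'.left) :
    ∃ (U' : Over S) (g : U' ⟶ sq.ptT') (l : (yon S).obj U' ⟶ G),
      IsAffine U'.left ∧ Etale g.left ∧ (∃ u : ↥U'.left, g.left u = t) ∧
        l ≫ b = (yon S).map g ≫ sq.bot ∧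
          ∀ (P : Sp S) (p : P ⟶ (yon S).obj sq.ptT) (q : P ⟶ (yon S).obj U'),
            p ≫ (yon S).map sq.j = q ≫ (yon S).map g → q ≫ l = p ≫ sq.top := by
  obtain ⟨t₀, rfl⟩ := ((repWith_yon_map_iff thick sq.j).1 (isThickMor_infSq sq)).2.surj t
  obtain ⟨U', g, hU', hg, hu, U₀, g₀, j', m, hP, hm⟩ := exists_etale_nhd_factor ha ha' sq.I sq.str sq.top t₀
  have hPy := hP.map (yon S)
  have hj' : IsFOThickMor ((yon S).map j') := foThick_baseChange (IsAlgSpace.yon_obj _) (isFOThickMor_infSq sq) _ hPy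
  obtain ⟨sq', e, hb, p, hp, ht⟩ := exists_infSq_chart hj' (f := a ≫ b) m ((yon S).map g ≫ sq.bot) (by
    rw [← Category.assoc, hm, Category.assoc, sq.comm, ← Category.assoc, ← Category.assoc]
    exact congrArg (· ≫ sq.bot) hPy.w) (𝟙 _) (repWith_id _ U')
  obtain ⟨l', hl1, hl2⟩ := hab sq'
  have hl3 : (yon S).map j' ≫ e.inv ≫ l' = m := by
    obtain ⟨x, hx1, hx2⟩ := hp.exists_lift (𝟙 _) ((yon S).map j' ≫ e.inv) (by simp)
    rw [← Category.assoc, ← hx2, Category.assoc, hl1, ht, ← Category.assoc, hx1, Category.id_comp]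
  refine ⟨U', g, e.inv ≫ l' ≫ a, hU', hg, hu, ?_, fun P x y hxy => ?_⟩
  · simp only [Category.assoc]
    rw [hl2, hb, e.inv_hom_id_assoc, Category.id_comp]
  · obtain ⟨z, hz1, hz2⟩ := hPy.exists_lift x y hxy
    rw [← hz1, ← hz2, Category.assoc, Category.assoc, ← hm, ← hl3]
    simp only [Category.assoc]

theorem isFormallyEtaleMor_of_comp_surj {F G H : Sp S} {a : F ⟶ G} {b : G ⟶ H}
    (ha : RepWith @Etale a) (ha' : RepWith @Surjective a) (hab : IsFormallyEtaleMor (a ≫ b)) :
    IsFormallyEtaleMor b := by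
  rw [formallyEtale_iff] at hab ⊢
  have hu : IsFormallyUnramifiedMor b := isFormallyUnramifiedMor_of_comp_surj ha ha' hab.2
  refine ⟨fun sq => ?_, hu⟩
  have key := fun t => exists_etale_local_lift ha ha' hab.1 sq t
  choose U g l hU hg hgt hlb hlj using key
  have hgE : ∀ t, IsEtaleMor ((yon S).map (g t)) := fun t =>
    (isEtaleMor_iff_locP etLocal_etale (IsAlgSpace.yon_obj _) (IsAlgSpace.yon_obj _) _).2
      (locP_of_repWith etLocal_etale (IsAlgSpace.yon_obj _) ((repWith_yon_map_iff _ _).2 (hg t)))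
  have : ∀ t, Flat (g t).left := fun t => by have := hg t; infer_instance
  have : ∀ t, LocallyOfFinitePresentation (g t).left := fun t => by have := hg t; infer_instance
  have hc : ∀ z : sq.ptT'.left, ∃ i, z ∈ Set.range (g i).left := fun z => by
    obtain ⟨u, hu⟩ := hgt z
    exact ⟨z, u, hu⟩
  obtain ⟨L, hL⟩ := yon_exists_glue g hc l (fun i k Z x y hxy => by
    have sq₀ := IsPullback.of_hasPullback ((yon S).map sq.j) ((yon S).map (x ≫ g i))
    have hjZ := foThick_baseChange (IsAlgSpace.yon_obj _) (isFOThickMor_infSq sq) _ sq₀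
    refine eq_of_foThick_of_formallyUnramified (IsAlgSpace.yon_obj _) hjZ hu _ _ ?_ ?_
    · rw [← Category.assoc, ← Category.assoc, hlj i _ (pullback.fst _ _) _ (by
        rw [Category.assoc, ← Functor.map_comp]; exact pullback.condition),
        hlj k _ (pullback.fst _ _) _ (by
        rw [Category.assoc, ← Functor.map_comp, ← hxy]; exact pullback.condition)]
    · rw [Category.assoc, Category.assoc, hlb, hlb, ← Category.assoc, ← Category.assoc, ← Functor.map_comp,
        ← Functor.map_comp, hxy])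
  refine ⟨L, ?_, ?_⟩
  · have sq₀ := fun t => IsPullback.of_hasPullback sq.j (g t)
    have : ∀ t, Etale (pullback.fst sq.j (g t)).left := fun t =>
      MorphismProperty.of_isPullback ((sq₀ t).map (Over.forget S)).flip (hg t)
    have : ∀ t, Flat (pullback.fst sq.j (g t)).left := fun t => inferInstance
    have : ∀ t, LocallyOfFinitePresentation (pullback.fst sq.j (g t)).left := fun t => inferInstance
    refine yon_hom_ext_of_cover (fun t => pullback.fst sq.j (g t)) (fun z => ?_) _ _ fun t => ?_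
    · obtain ⟨u, hu'⟩ := hgt (sq.j.left z)
      obtain ⟨x, hx, -⟩ := Scheme.Pullback.exists_preimage_pullback z u hu'.symm
      refine ⟨sq.j.left z, ((sq₀ _).map (Over.forget S)).isoPullback.inv x, ?_⟩
      refine Eq.trans ?_ hx
      exact congr($(((sq₀ _).map (Over.forget S)).isoPullback_inv_fst) x)
    · rw [← Category.assoc, ← Functor.map_comp, pullback.condition, Functor.map_comp, Category.assoc, hL]
      exact hlj t _ _ _ (by rw [← Functor.map_comp, ← Functor.map_comp, pullback.condition])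
  · refine yon_hom_ext_of_cover g hc _ _ fun t => ?_
    rw [← Category.assoc, hL, hlb]

end Groth.Agent.AlgSpLib

namespace Groth.Agent.AlgSpLib

theorem isFormallyEtaleMor_of_chart {S : Scheme.{u}} {X Y : Sp S} {f : X ⟶ Y} {U V : Over S}
    {a : (yon S).obj U ⟶ X} {b : (yon S).obj V ⟶ Y} {h : U ⟶ V} (ha : RepWith @Etale a)
    (has : RepWith @Surjective a) (hb : RepWith @Etale b) (w : a ≫ f = (yon S).map h ≫ b)
    (hh : MoreMor.IsFormallyEtaleHom h.left) : IsFormallyEtaleMor f := by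
  refine isFormallyEtaleMor_of_comp_surj ha has ?_
  rw [w]
  have h1 := (formallyEtale_iff _).1 ((isFormallyEtaleMor_yon_iff h).2 hh)
  have h2 := (formallyEtale_iff b).1 (isFormallyEtaleMor_of_repWith hb)
  exact (formallyEtale_iff _).2 ⟨formallySmooth_comp h1.1 h2.1, isFormallyUnramifiedMor_comp h1.2 h2.2⟩

theorem locP_formallyEtale_of_mor {S : Scheme.{u}} {X Y : Sp S} {f : X ⟶ Y} (hf : IsFormallyEtaleMor f) :
    LocP @MoreMor.IsFormallyEtaleHom f := fun U V a b h ha hb w => by
  refine isFormallyEtaleHom_of_mor h ((formallyEtale_iff _).2 ?_)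
  have h1 := (formallyEtale_iff a).1 (isFormallyEtaleMor_of_repWith ha)
  have h2 := (formallyEtale_iff b).1 (isFormallyEtaleMor_of_repWith hb)
  have h3 := (formallyEtale_iff f).1 hf
  have hs : IsFormallySmoothMor ((yon S).map h ≫ b) := by rw [← w]; exact formallySmooth_comp h1.1 h3.1
  have hu : IsFormallyUnramifiedMor ((yon S).map h ≫ b) := by
    rw [← w]; exact isFormallyUnramifiedMor_comp h1.2 h3.2
  exact ⟨formallySmooth_of_comp h2.2 hs, isFormallyUnramifiedMor_of_comp hu⟩

end Groth.Agent.AlgSpLib
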