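import Groth.Agent.AlgSpLib.SourceLocal
import Groth.Agent.AlgSpLib.FppfSource

/-!
Locally of finite type / presentation for algebraic spaces is local on the source for fppf coverings.
-/

universe u

open CategoryTheory CategoryTheory.Limits AlgebraicGeometry
open AlgSp

noncomputable section

namespace Groth.Agent.AlgSpLib

set_option backward.isDefEq.respectTransparency.types false

variable {S : Scheme.{u}} {X Y Z : Sp S} {P : MorphismProperty Scheme.{u}}

theorem etLocal_fppf :
    EtLocal (@Flat ⊓ @LocallyOfFinitePresentation : MorphismProperty Scheme.{u}) where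
  bc := inferInstance
  comp := ⟨fun {_ _ _} f g hf hg => ⟨MorphismProperty.comp_mem _ f g hf.1 hg.1,
    MorphismProperty.comp_mem _ f g hf.2 hg.2⟩⟩
  of_etale := le_inf etLocal_flat.of_etale etLocal_lfp.of_etale
  localTarget := inferInstance
  descend := fun _ _ _ g f hg hs h =>
    ⟨etLocal_flat.descend g f hg hs h.1, etLocal_lfp.descend g f hg hs h.2⟩

theorem locP_flat_lfp {f : X ⟶ Y} (h1 : LocP @Flat f) (h2 : LocP @LocallyOfFinitePresentation f) :
    LocP (@Flat ⊓ @LocallyOfFinitePresentation : MorphismProperty Scheme.{u}) f :=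
  fun _ _ a b l ha hb w => ⟨h1 a b l ha hb w, h2 a b l ha hb w⟩

theorem isLocalOnSource_fppf_of_descend (hP : EtLocal P)
    (hle : (@Flat ⊓ @LocallyOfFinitePresentation : MorphismProperty Scheme.{u}) ≤ P)
    (hPs : ∀ {ι : Type u} {A : ι → Scheme.{u}} {B : Scheme.{u}} (k : ∀ i, A i ⟶ B),
      (∀ i, P (k i)) → P (Sigma.desc k))
    (hd : ∀ {A' A B : Scheme.{u}} (c : A' ⟶ A) (k : A ⟶ B), Flat c →
      LocallyOfFinitePresentation c → Surjective c → P (c ≫ k) → P k) :
    IsLocalOnSource (IsFppfCover (S := S)) (LocP P) := by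
  intro ι X Xi g hX hXi hc Y f hY
  have hg : ∀ i, LocP (@Flat ⊓ @LocallyOfFinitePresentation : MorphismProperty Scheme.{u}) (g i) :=
    fun i => locP_flat_lfp (hc.1 i).1 (hc.1 i).2
  exact ⟨fun hf i => locP_comp_family hP hle hX hY (hXi i) (hg i) hf, fun h =>
    locP_of_family.{u} (P := P) (R := (@Flat.{u} ⊓ @LocallyOfFinitePresentation.{u} : MorphismProperty Scheme.{u})) etLocal_fppf
      (fun _ hk => ⟨IsZariskiLocalAtSource.sigmaDesc fun i => (hk i).1,
        IsZariskiLocalAtSource.sigmaDesc fun i => (hk i).2⟩) hPs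
      (fun c k hc hs h => hd c k hc.1 hc.2 hs h) hX g hXi hg hc.2 h⟩

theorem isLocalOnSource_fppf_lft :
    IsLocalOnSource (IsFppfCover (S := S)) (LocP @LocallyOfFiniteType) :=
  isLocalOnSource_fppf_of_descend etLocal_lft
    (fun _ _ f h => by
      have : LocallyOfFinitePresentation f := h.2
      exact (inferInstance : LocallyOfFiniteType f))
    (fun _ hk => IsZariskiLocalAtSource.sigmaDesc hk)
    (fun c k h1 h2 h3 h => lft_of_comp_fppf c k h)

theorem isLocalOnSource_fppf_lfp :
    IsLocalOnSource (IsFppfCover (S := S)) (LocP @LocallyOfFinitePresentation) :=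
  isLocalOnSource_fppf_of_descend etLocal_lfp inf_le_right
    (fun _ hk => IsZariskiLocalAtSource.sigmaDesc hk)
    (fun c k h1 h2 h3 h => lfp_of_comp_fppf c k h)

/-- the single-member covering given by a surjective flat lfp morphism -/
theorem isFppfCover_single {f : X ⟶ Y} (hX : IsAlgSpace X) (hY : IsAlgSpace Y)
    (hs : IsSurjectiveMor f) (hfl : LocP @Flat f) (hfp : LocP @LocallyOfFinitePresentation f) :
    IsFppfCover (fun _ : PUnit.{u + 1} => X) (fun _ => f) :=
  ⟨fun _ => ⟨hfl, hfp⟩, fun x => ⟨⟨⟩, hs x⟩⟩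

end Groth.Agent.AlgSpLib
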