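import Groth.Agent.AlgSpLib.YonCoprod
import Groth.Agent.AlgSpLib.FpqcCov

/-!
A criterion for a property to be fpqc local on the base.
-/

universe u

open CategoryTheory CategoryTheory.Limits AlgebraicGeometry
open AlgSp

noncomputable section

namespace Groth.Agent.AlgSpLib

set_option backward.isDefEq.respectTransparency.types false

variable {S : Scheme.{u}}

theorem isLocalOnBase_fpqc_of_criterion (P : MorphismProperty (Sp S))
    (h1 : ∀ ⦃ι : Type u⦄ [Finite ι] (Xi Yi : ι → Sp S) (fi : ∀ i, Xi i ⟶ Yi i)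
      (cX : Cofan Xi) (cY : Cofan Yi) (_ : IsColimit cX) (_ : IsColimit cY) (m : cX.pt ⟶ cY.pt),
      (∀ i, IsAlgSpace (Xi i)) → (∀ i, IsAlgSpace (Yi i)) →
      IsAlgSpace cX.pt → IsAlgSpace cY.pt →
      (∀ i, cX.inj i ≫ m = fi i ≫ cY.inj i) → (∀ i, P (fi i)) → P m)
    (h2 : ∀ ⦃X Y : Sp S⦄, IsAlgSpace X → IsAlgSpace Y → ∀ (f : X ⟶ Y),
      P f ↔ ∀ (Z : Over S), IsAffine Z.left → ∀ (g : (yon S).obj Z ⟶ Y) (W : Sp S)
        (fst : W ⟶ X) (snd : W ⟶ (yon S).obj Z), IsAlgSpace W → IsPullback fst snd f g → P snd)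
    (h3 : ∀ ⦃Z Z' : Over S⦄ (c : Z' ⟶ Z), IsAffine Z.left → IsAffine Z'.left → Surjective c.left →
      Flat c.left →
      ∀ ⦃X X' : Sp S⦄ (f : X ⟶ (yon S).obj Z) (fst : X' ⟶ X) (f' : X' ⟶ (yon S).obj Z'),
        IsAlgSpace X → IsAlgSpace X' → IsPullback fst f' f ((yon S).map c) → P f' → P f) :
    IsLocalOnBase (IsFpqcCover (S := S)) P := by
  intro ι Y Yi g hY hYi hc X f hX Xi p q hXi sq
  refine ⟨fun hf i => ?_, fun hp => ?_⟩
  · exact (h2 (hXi i) (hYi i) (p i)).2 fun Z hZ k W fst snd hW sqW =>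
      (h2 hX hY f).1 hf Z hZ (k ≫ g i) W (fst ≫ q i) snd hW (sqW.paste_horiz (sq i))
  refine (h2 hX hY f).2 fun Z hZ k W fst snd hW sqW => ?_
  obtain ⟨m, V, c, hV, hcf, hcs, hl⟩ := hc.2 Z hZ k
  choose i l hl using hl
  let V' : ULift.{u} (Fin m) → Over S := fun j => V j.down
  let c' : sigmaOver V' ⟶ Z :=
    Over.homMk (Sigma.desc fun j : ULift.{u} (Fin m) => (c j.down).left)
      (Sigma.hom_ext _ _ fun j => by simp [sigmaOver, V'])
  have hc' : ∀ j, sigmaOverι V' j ≫ c' = c j.down := fun j => Over.OverMorphism.ext (Sigma.ι_desc _ _)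
  have : ∀ j, IsAffine (V' j).left := fun j => hV j.down
  have hZ' : IsAffine (sigmaOver V').left := inferInstanceAs (IsAffine (∐ fun j => (V' j).left))
  have hflat : Flat c'.left := IsZariskiLocalAtSource.sigmaDesc fun j => hcf j.down
  have hsurj : Surjective c'.left := ⟨fun z => by
    obtain ⟨j, v, hv⟩ := hcs z
    refine ⟨(sigmaOverι V' ⟨j⟩).left v, ?_⟩
    rw [show c'.left ((sigmaOverι V' ⟨j⟩).left v) = (sigmaOverι V' ⟨j⟩ ≫ c').left v from rfl, hc']
    exact hv⟩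
  have hT : IsAlgSpace ((yon S).obj (sigmaOver V')) := IsAlgSpace.yon_obj _
  have sq' := IsPullback.of_hasPullback snd ((yon S).map c')
  have hW' : IsAlgSpace (pullback snd ((yon S).map c')) :=
    isAlgSpace_of_isPullback (IsAlgSpace.yon_obj Z).diag hW hT sq'
  refine h3 c' hZ hZ' hsurj hflat snd _ _ hW hW' sq' ?_
  let snd' := pullback.snd snd ((yon S).map c')
  have sqj := fun j => IsPullback.of_hasPullback snd' ((yon S).map (sigmaOverι V' j))
  have hQ : ∀ j, IsAlgSpace (pullback snd' ((yon S).map (sigmaOverι V' j))) := fun j =>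
    isAlgSpace_of_isPullback hT.diag hW' (IsAlgSpace.yon_obj _) (sqj j)
  obtain ⟨hcol⟩ := nonempty_isColimit_of_isPullback V' snd' _ _ sqj
  refine h1 (fun j => pullback snd' ((yon S).map (sigmaOverι V' j))) (fun j => (yon S).obj (V' j))
    (fun j => pullback.snd _ _) (Cofan.mk _ _) (yonCofan V') hcol (isColimitYonCofan V') snd' hQ
    (fun j => IsAlgSpace.yon_obj _) hW' hT (fun j => pullback.condition) fun j => ?_
  have sqf := ((sqj j).paste_horiz sq').paste_horiz sqW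
  have e : ((yon S).map (sigmaOverι V' j) ≫ (yon S).map c') ≫ k = l j.down ≫ g (i j.down) := by
    rw [← Functor.map_comp, hc', hl]
  rw [e] at sqf
  exact (h2 (hXi _) (hYi _) (p (i j.down))).1 (hp _) (V' j) (hV _) (l j.down) _
    ((sq (i j.down)).lift _ (pullback.snd _ _ ≫ l j.down) (by rw [Category.assoc]; exact sqf.w))
    (pullback.snd _ _) (hQ j) (IsPullback.of_right' sqf (sq (i j.down)))

end Groth.Agent.AlgSpLib
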