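import Groth.Agent.AlgSpLib.FpqcBase2
import Groth.Agent.AlgSpLib.MorTop
import Groth.Agent.AlgSpLib.MorQC
import Groth.Agent.AlgSpLib.PointsCompact

/-!
Quasi-compactness and the topological properties of morphisms are fpqc local on the base.
-/

universe u

open CategoryTheory CategoryTheory.Limits AlgebraicGeometry Topology
open AlgSp

noncomputable section

namespace Groth.Agent.AlgSpLib

set_option backward.isDefEq.respectTransparency.types false

variable {S : Scheme.{u}}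

theorem univSp_bc {Q : MorphismProperty (Sp S)} {X Y X' Y' : Sp S} {f : X ⟶ Y} {g : Y' ⟶ Y}
    {fst : X' ⟶ X} {snd : X' ⟶ Y'} (sq : IsPullback fst snd f g) (h : UnivSp Q f) : UnivSp Q snd :=
  fun _ _ hZ _ _ _ sq' => h hZ _ _ _ (sq'.paste_horiz sq)

theorem isPullback_id_right {W Y : Sp S} (snd : W ⟶ Y) : IsPullback (𝟙 W) snd snd (𝟙 Y) :=
  IsPullback.of_horiz_isIso ⟨by simp⟩

theorem isLocalOnBase_fpqc_qc : IsLocalOnBase (IsFpqcCover (S := S)) IsQuasiCompactMor := by
  refine isLocalOnBase_fpqc_of_affine _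
    (fun X Y X' Y' hX hY _ hY' f g fst snd sq h =>
      isQuasiCompactMor_of_isPullback hX hY hY' sq h)
    (fun X Y hX hY f h => isQuasiCompactMor_of_affine hX hY fun Z hZ g P fst snd sq => ?_)
    (fun Z m V c hZ hV hc hs X f Q a b hX hQ sq hb => ?_)
  · exact compactSpace_of_isQuasiCompactMor (h Z hZ g P fst snd
      (isAlgSpace_of_isPullback hY.diag hX (IsAlgSpace.yon_obj Z) sq) sq) (isPullback_id_right snd)
  refine isQuasiCompactMor_of_affine hX (IsAlgSpace.yon_obj Z) fun T hT g P fst snd sqP => ?_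
  obtain ⟨W, π, r, R, u, s, v, hW, -, hπs, sqR, sqv⟩ := exists_pieces c hZ hV hc hs sq hT sqP
  refine ⟨?_⟩
  rw [show (Set.univ : Set (Points P)) = ⋃ j, Set.range (Points.map (u j)) by
    refine (Set.eq_univ_of_forall fun x => ?_).symm
    obtain ⟨j, w, hw⟩ := exists_points_preimage π hπs (Points.map snd x)
    obtain ⟨x', hx', -⟩ := exists_point_of_isPullback (sqR j) hw.symm
    exact Set.mem_iUnion.2 ⟨j, x', hx'⟩]
  refine isCompact_iUnion fun j => ?_
  have := hW j
  have : CompactSpace (Points (R j)) := compactSpace_of_isQuasiCompactMor (hb j) (sqv j)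
  exact isCompact_range (Points.continuous_map _)

theorem isLocalOnBase_fpqc_univOpen : IsLocalOnBase (IsFpqcCover (S := S)) IsUnivOpenMor := by
  refine isLocalOnBase_fpqc_of_affine _ (fun _ _ _ _ _ _ _ _ _ _ _ _ sq h => univSp_bc sq h)
    (fun X Y hX hY f h => isUnivOpenMor_of_affine fun Z hZ g P fst snd sq => ?_)
    (fun Z m V c hZ hV hc hs X f Q a b hX hQ sq hb => ?_)
  · exact h Z hZ g P fst snd (isAlgSpace_of_isPullback hY.diag hX (IsAlgSpace.yon_obj Z) sq) sq
      (IsAlgSpace.yon_obj Z) _ _ _ (isPullback_id_right snd)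
  refine isUnivOpenMor_of_affine fun T hT g P fst snd sqP U hU => ?_
  obtain ⟨W, π, r, R, u, s, v, hW, hπ, hπs, sqR, sqv⟩ := exists_pieces c hZ hV hc hs sq hT sqP
  refine isOpen_of_fpqc_family π hT hW hπ hπs fun j => ?_
  rw [preimage_map_image (sqR j)]
  exact hb j (IsAlgSpace.yon_obj _) _ _ _ (sqv j) _ (hU.preimage (Points.continuous_map _))

theorem isLocalOnBase_fpqc_univClosed : IsLocalOnBase (IsFpqcCover (S := S)) IsUnivClosedMor := by
  refine isLocalOnBase_fpqc_of_affine _ (fun _ _ _ _ _ _ _ _ _ _ _ _ sq h => univSp_bc sq h)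
    (fun X Y hX hY f h => isUnivClosedMor_of_affine fun Z hZ g P fst snd sq => ?_)
    (fun Z m V c hZ hV hc hs X f Q a b hX hQ sq hb => ?_)
  · exact h Z hZ g P fst snd (isAlgSpace_of_isPullback hY.diag hX (IsAlgSpace.yon_obj Z) sq) sq
      (IsAlgSpace.yon_obj Z) _ _ _ (isPullback_id_right snd)
  refine isUnivClosedMor_of_affine fun T hT g P fst snd sqP U hU => ?_
  obtain ⟨W, π, r, R, u, s, v, hW, hπ, hπs, sqR, sqv⟩ := exists_pieces c hZ hV hc hs sq hT sqP
  refine ⟨isOpen_of_fpqc_family π hT hW hπ hπs fun j => ?_⟩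
  rw [Set.preimage_compl, preimage_map_image (sqR j)]
  exact (hb j (IsAlgSpace.yon_obj _) _ _ _ (sqv j) _
    (hU.preimage (Points.continuous_map _))).isOpen_compl

theorem univInjective_of_fpqc_family {Z : Over S} {m : ℕ} {V : Fin m → Over S} (c : ∀ j, V j ⟶ Z)
    (hZ : IsAffine Z.left) (hV : ∀ j, IsAffine (V j).left)
    (hc : ∀ j, Flat (c j).left) (hs : ∀ z : ↥Z.left, ∃ j, z ∈ Set.range (c j).left)
    {X : Sp S} {f : X ⟶ (yon S).obj Z} {Q : Fin m → Sp S} {a : ∀ j, Q j ⟶ X}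
    {b : ∀ j, Q j ⟶ (yon S).obj (V j)} (sq : ∀ j, IsPullback (a j) (b j) f ((yon S).map (c j)))
    (hb : ∀ j, IsUnivInjectiveMor (b j)) : IsUnivInjectiveMor f := by
  refine isUnivInjectiveMor_of_affine fun T hT g P fst snd sqP x y e => ?_
  obtain ⟨W, π, r, R, u, s, v, hW, hπ, hπs, sqR, sqv⟩ := exists_pieces c hZ hV hc hs sq hT sqP
  obtain ⟨j, w, hw⟩ := exists_points_preimage π hπs (Points.map snd x)
  obtain ⟨x', rfl, hx⟩ := exists_point_of_isPullback (sqR j) hw.symm
  obtain ⟨y', rfl, hy⟩ := exists_point_of_isPullback (sqR j) (e.symm.trans hw.symm)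
  rw [hb j (IsAlgSpace.yon_obj _) _ _ _ (sqv j) (hx.trans hy.symm)]

theorem isLocalOnBase_fpqc_univInjective :
    IsLocalOnBase (IsFpqcCover (S := S)) IsUnivInjectiveMor := by
  refine isLocalOnBase_fpqc_of_affine _ (fun _ _ _ _ _ _ _ _ _ _ _ _ sq h => univSp_bc sq h)
    (fun X Y hX hY f h => isUnivInjectiveMor_of_affine fun Z hZ g P fst snd sq => ?_)
    (fun Z m V c hZ hV hc hs X f Q a b _ _ sq hb => univInjective_of_fpqc_family c hZ hV hc hs sq hb)
  exact h Z hZ g P fst snd (isAlgSpace_of_isPullback hY.diag hX (IsAlgSpace.yon_obj Z) sq) sq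
      (IsAlgSpace.yon_obj Z) _ _ _ (isPullback_id_right snd)

theorem univSubmersive_of_fpqc_family {Z : Over S} {m : ℕ} {V : Fin m → Over S} (c : ∀ j, V j ⟶ Z)
    (hZ : IsAffine Z.left) (hV : ∀ j, IsAffine (V j).left)
    (hc : ∀ j, Flat (c j).left) (hs : ∀ z : ↥Z.left, ∃ j, z ∈ Set.range (c j).left)
    {X : Sp S} {f : X ⟶ (yon S).obj Z} {Q : Fin m → Sp S} {a : ∀ j, Q j ⟶ X}
    {b : ∀ j, Q j ⟶ (yon S).obj (V j)} (sq : ∀ j, IsPullback (a j) (b j) f ((yon S).map (c j)))
    (hb : ∀ j, IsUnivSubmersiveMor (b j)) : IsUnivSubmersiveMor f := by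
  refine isUnivSubmersiveMor_of_affine fun T hT g P fst snd sqP => ?_
  obtain ⟨W, π, r, R, u, s, v, hW, hπ, hπs, sqR, sqv⟩ := exists_pieces c hZ hV hc hs sq hT sqP
  have hsub : ∀ j, IsQuotientMap (Points.map (s j)) := fun j =>
    hb j (IsAlgSpace.yon_obj _) _ _ _ (sqv j)
  have e : ∀ j, Points.map ((yon S).map (π j)) ∘ Points.map (s j) =
      Points.map snd ∘ Points.map (u j) := fun j => by
    funext w; simp only [Function.comp_apply, ← Points.map_comp, (sqR j).w]
  refine (isQuotientMap_iff _).2 ⟨isCoinducing_iff.2 fun A => ⟨fun hA =>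
    isOpen_of_fpqc_family π hT hW hπ hπs fun j => (hsub j).isOpen_preimage.1 ?_,
    fun hA => hA.preimage (Points.continuous_map _)⟩, fun y => ?_⟩
  · rw [← Set.preimage_comp, e, Set.preimage_comp]
    exact hA.preimage (Points.continuous_map _)
  · obtain ⟨j, w, rfl⟩ := exists_points_preimage π hπs y
    obtain ⟨z, rfl⟩ := (hsub j).surjective w
    exact ⟨Points.map (u j) z, (congrFun (e j) z).symm⟩

theorem isLocalOnBase_fpqc_univSubmersive :
    IsLocalOnBase (IsFpqcCover (S := S)) IsUnivSubmersiveMor := by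
  refine isLocalOnBase_fpqc_of_affine _ (fun _ _ _ _ _ _ _ _ _ _ _ _ sq h => univSp_bc sq h)
    (fun X Y hX hY f h => isUnivSubmersiveMor_of_affine fun Z hZ g P fst snd sq => ?_)
    (fun Z m V c hZ hV hc hs X f Q a b _ _ sq hb => univSubmersive_of_fpqc_family c hZ hV hc hs sq hb)
  exact h Z hZ g P fst snd (isAlgSpace_of_isPullback hY.diag hX (IsAlgSpace.yon_obj Z) sq) sq
      (IsAlgSpace.yon_obj Z) _ _ _ (isPullback_id_right snd)

theorem univHomeo_components {X Y : Sp S} {f : X ⟶ Y} (h : IsUnivHomeoMor f) :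
    IsUnivOpenMor f ∧ IsUnivInjectiveMor f ∧ IsUnivSubmersiveMor f :=
  ⟨fun _ _ hZ g fst snd sq => (h hZ g fst snd sq).isOpenMap,
    fun _ _ hZ g fst snd sq => (h hZ g fst snd sq).bijective.injective,
    fun _ _ hZ g fst snd sq => (h hZ g fst snd sq).homeomorph.isQuotientMap⟩

theorem isLocalOnBase_fpqc_univHomeo : IsLocalOnBase (IsFpqcCover (S := S)) IsUnivHomeoMor := by
  intro ι Y Yi g hY hYi hc X f hX Xi p q hXi sq
  have ho := isLocalOnBase_fpqc_univOpen (S := S) Yi g hY hYi hc f hX Xi p q hXi sq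
  have hi := isLocalOnBase_fpqc_univInjective (S := S) Yi g hY hYi hc f hX Xi p q hXi sq
  have hs := isLocalOnBase_fpqc_univSubmersive (S := S) Yi g hY hYi hc f hX Xi p q hXi sq
  refine ⟨fun h i => univSp_bc (sq i) h, fun h => ?_⟩
  exact isUnivHomeoMor_of (ho.2 fun i => (univHomeo_components (h i)).1)
    (hi.2 fun i => (univHomeo_components (h i)).2.1) (hs.2 fun i => (univHomeo_components (h i)).2.2)

end Groth.Agent.AlgSpLib
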