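import Groth.Agent.AlgSpLib.EffDescentRep
import Groth.Agent.AlgSpLib.OpenCoverScheme
import Groth.Agent.S1133
import Mathlib.AlgebraicGeometry.Morphisms.FlatDescent

/-!
Sheaves with gluing along single fpqc morphisms: effective descent for affine base changes.
-/

universe u

open CategoryTheory CategoryTheory.Limits AlgebraicGeometry Opposite
open AlgSp

noncomputable section

set_option linter.style.haveILetI false

namespace Groth.Agent.AlgSpLib.FpqcGlue

open Groth.Agent.AlgSpLib EffDescentRep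

set_option backward.isDefEq.respectTransparency.types false

variable {S : Scheme.{u}}

/-- gluing along single fpqc morphisms -/
structure FpqcSp (X : Sp S) : Prop where
  ext : ∀ {A B : Over S} (c : A ⟶ B) [Flat c.left] [Surjective c.left] [QuasiCompact c.left]
    (a b : (AlgSp.yon S).obj B ⟶ X), (AlgSp.yon S).map c ≫ a = (AlgSp.yon S).map c ≫ b → a = b
  glue : ∀ {A B : Over S} (c : A ⟶ B) [Flat c.left] [Surjective c.left] [QuasiCompact c.left]
    (s : (AlgSp.yon S).obj A ⟶ X),
    (∀ (Z : Over S) (a b : Z ⟶ A), a ≫ c = b ≫ c → (AlgSp.yon S).map a ≫ s = (AlgSp.yon S).map b ≫ s) →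
      ∃ t : (AlgSp.yon S).obj B ⟶ X, (AlgSp.yon S).map c ≫ t = s

theorem generate_mem_fpqc {A B : Over S} (c : A ⟶ B) [Flat c.left] [Surjective c.left] [QuasiCompact c.left] :
    Sieve.generate (Presieve.ofArrows (fun _ : PUnit.{u + 1} => A) fun _ => c) ∈ Scheme.fpqcTopology.over S B := by
  rw [GrothendieckTopology.mem_over_iff]
  refine Scheme.fpqcTopology.superset_covering ?_ (Precoverage.generate_mem_toGrothendieck (c.left.singleton_mem_fpqcPrecoverage))
  rw [Sieve.generate_le_iff]
  rintro _ _ ⟨⟩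
  rw [Sieve.overEquiv_iff]
  exact ⟨A, Over.homMk (𝟙 _) (Category.id_comp _ |>.trans (Over.w c).symm), c, ⟨⟨⟩⟩, Over.OverMorphism.ext (Category.id_comp _)⟩

theorem FpqcSp.of_isSheaf {X : Sp S} (h : Presheaf.IsSheaf (Scheme.fpqcTopology.over S) X.obj) : FpqcSp X := by
  have key : ∀ {A B : Over S} (c : A ⟶ B) [Flat c.left] [Surjective c.left] [QuasiCompact c.left],
      (Presieve.ofArrows (fun _ : PUnit.{u + 1} => A) fun _ => c).IsSheafFor X.obj := fun c _ _ _ =>
    (Presieve.isSheafFor_iff_generate _).2 ((isSheaf_iff_isSheaf_of_type _ _).1 h _ (generate_mem_fpqc c))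
  refine ⟨fun {A B} c _ _ _ a b e => ?_, fun {A B} c _ _ _ s hs => ?_⟩
  · refine (J S).uliftYonedaEquiv.injective ((key c).isSeparatedFor.ext ?_)
    rintro Y f ⟨⟩
    rw [GrothendieckTopology.uliftYonedaEquiv_naturality, GrothendieckTopology.uliftYonedaEquiv_naturality, e]
  · obtain ⟨t, ht, -⟩ := (Presieve.isSheafFor_arrows_iff _ _).1 (key c)
      (fun _ => (J S).uliftYonedaEquiv s) (fun i j Z a b e => by
        rw [GrothendieckTopology.uliftYonedaEquiv_naturality, GrothendieckTopology.uliftYonedaEquiv_naturality,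
          hs Z a b e])
    refine ⟨(J S).uliftYonedaEquiv.symm t, (J S).uliftYonedaEquiv.injective ?_⟩
    rw [← GrothendieckTopology.uliftYonedaEquiv_naturality, Equiv.apply_symm_apply]
    exact ht ⟨⟩

theorem FpqcSp.yon (W : Over S) : FpqcSp ((AlgSp.yon S).obj W) := by
  refine ⟨fun {A B} c _ _ _ a b e => ?_, fun {A B} c _ _ _ s hs => ?_⟩
  · obtain ⟨a, rfl⟩ := (AlgSp.yon S).map_surjective a
    obtain ⟨b, rfl⟩ := (AlgSp.yon S).map_surjective b
    rw [← Functor.map_comp, ← Functor.map_comp] at e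
    refine congrArg _ (Over.OverMorphism.ext ?_)
    rw [← cancel_epi c.left]
    exact congrArg CommaMorphism.left ((AlgSp.yon S).map_injective e)
  · obtain ⟨s, rfl⟩ := (AlgSp.yon S).map_surjective s
    have w : ∀ {Z : Scheme.{u}} (g₁ g₂ : Z ⟶ A.left), g₁ ≫ c.left = g₂ ≫ c.left → g₁ ≫ s.left = g₂ ≫ s.left := by
      intro Z g₁ g₂ e
      have e' : g₂ ≫ A.hom = g₁ ≫ A.hom := by rw [← Over.w c, reassoc_of% e]
      have h := hs (Over.mk (g₁ ≫ A.hom)) (Over.homMk g₁) (Over.homMk g₂ e') (Over.OverMorphism.ext e)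
      rw [← Functor.map_comp, ← Functor.map_comp] at h
      exact congrArg CommaMorphism.left ((AlgSp.yon S).map_injective h)
    refine ⟨(AlgSp.yon S).map (Over.homMk (EffectiveEpi.desc c.left s.left w) ?_), ?_⟩
    · rw [← cancel_epi c.left, EffectiveEpi.fac_assoc, Over.w s, Over.w c]
    · rw [← Functor.map_comp]
      exact congrArg _ (Over.OverMorphism.ext (EffectiveEpi.fac c.left s.left w))

theorem FpqcSp.openSubspace {X : Sp S} (h : FpqcSp X) (V : Set (Points X)) : FpqcSp (openSubspace X V) := by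
  refine ⟨fun {A B} c _ _ _ a b e => ?_, fun {A B} c _ _ _ s hs => ?_⟩
  · haveI : Mono (openSubspaceι X V) := inferInstance
    rw [← cancel_mono (openSubspaceι X V)]
    exact h.ext c _ _ (by rw [reassoc_of% e])
  · obtain ⟨t, ht⟩ := h.glue c (s ≫ openSubspaceι X V) fun Z a b e => by rw [reassoc_of% (hs Z a b e)]
    obtain ⟨l, hl⟩ := (exists_lift_openSubspace_iff V t).2 fun z => by
      obtain ⟨y, rfl⟩ := c.left.surjective z
      rw [← ofPt_map, ht]
      exact (exists_lift_openSubspace_iff V _).1 ⟨s, rfl⟩ y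
    refine ⟨l, ?_⟩
    rw [← cancel_mono (openSubspaceι X V), Category.assoc, hl, ht]

variable {G F : Sp S} {f : G ⟶ F} {T T' V' : Over S} {π : T' ⟶ T}
  {k : (AlgSp.yon S).obj T ⟶ F} {g' : V' ⟶ T'} {a' : (AlgSp.yon S).obj V' ⟶ G}

/-- effectivity of the datum gives a scheme pullback -/
theorem exists_isPullback (hG : FpqcSp G) (hF : FpqcSp F)
    (sq : IsPullback a' ((AlgSp.yon S).map g') f ((AlgSp.yon S).map π ≫ k))
    [Flat π.left] [QuasiCompact π.left] [Surjective π.left]
    (heff : ∃ U, Nonempty ((Desc.toDD π.left).obj U ≅ datum sq)) :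
    ∃ (W : Over S) (w : (AlgSp.yon S).obj W ⟶ G) (ω : W ⟶ T), IsPullback w ((AlgSp.yon S).map ω) f k := by
  obtain ⟨U, ⟨e⟩⟩ := heff
  let W : Over S := Over.mk (U.hom ≫ T.hom)
  let ω : W ⟶ T := Over.homMk U.hom
  let W' : Over S := Over.mk (pullback.fst π.left U.hom ≫ T'.hom)
  let c : W' ⟶ W := Over.homMk (pullback.snd π.left U.hom) (by
    show pullback.snd π.left U.hom ≫ U.hom ≫ T.hom = pullback.fst π.left U.hom ≫ T'.hom
    rw [← Category.assoc, ← pullback.condition, Category.assoc, Over.w π])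
  let ω' : W' ⟶ T' := Over.homMk (pullback.fst π.left U.hom)
  let eh : pullback π.left U.hom ⟶ V'.left := e.hom.hom.left
  let ei : V'.left ⟶ pullback π.left U.hom := e.inv.hom.left
  have hθ : eh ≫ g'.left = pullback.fst π.left U.hom := Over.w e.hom.hom
  have hθ' : ei ≫ pullback.fst π.left U.hom = g'.left := Over.w e.inv.hom
  let θ : W' ⟶ V' := Over.homMk eh (by
    show _ = pullback.fst π.left U.hom ≫ T'.hom
    rw [← Over.w g', ← Category.assoc, hθ])
  let θ' : V' ⟶ W' := Over.homMk ei (by
    show ei ≫ pullback.fst π.left U.hom ≫ T'.hom = V'.hom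
    rw [← Category.assoc, hθ', Over.w g'])
  have hθθ' : θ' ≫ θ = 𝟙 V' := Over.OverMorphism.ext
    (congrArg (fun t => CommaMorphism.left (Desc.SchDD.Hom.hom t)) e.inv_hom_id)
  have hθ'θ : θ ≫ θ' = 𝟙 W' := Over.OverMorphism.ext
    (congrArg (fun t => CommaMorphism.left (Desc.SchDD.Hom.hom t)) e.hom_inv_id)
  have hc : ω' ≫ π = c ≫ ω := Over.OverMorphism.ext pullback.condition
  have : Flat c.left := MorphismProperty.pullback_snd (P := @Flat) _ _ ‹_›
  have : QuasiCompact c.left := MorphismProperty.pullback_snd (P := @QuasiCompact) _ _ ‹_›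
  have : Surjective c.left := MorphismProperty.pullback_snd (P := @Surjective) _ _ ‹_›
  -- the map to G
  have hglue : ∀ (Z : Over S) (a b : Z ⟶ W'), a ≫ c = b ≫ c →
      (yon S).map a ≫ (yon S).map θ ≫ a' = (yon S).map b ≫ (yon S).map θ ≫ a' := by
    intro Z a b hab
    have hx : (a ≫ ω').left ≫ π.left = (b ≫ ω').left ≫ π.left := by
      rw [← Over.comp_left, ← Over.comp_left, Category.assoc, Category.assoc, hc, reassoc_of% hab]
    let va : Desc.Lifts ((Desc.toDD π.left).obj U).obj (a ≫ ω').left := ⟨a.left, rfl⟩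
    have hb : (((Desc.toDD π.left).obj U).φ _ _ hx va).1 = b.left := by
      refine pullback.hom_ext (pullback.lift_fst _ _ _) ((pullback.lift_snd _ _ _).trans ?_)
      exact congrArg CommaMorphism.left hab
    have hcm := e.hom.comm _ _ hx va (e.hom.push va) rfl
    rw [hb] at hcm
    have hr := rel_phiFun sq _ _ hx (e.hom.push va)
    rw [show (phiFun sq _ _ hx (e.hom.push va)).1 = b.left ≫ e.hom.hom.left from hcm] at hr
    rw [← Functor.map_comp_assoc, ← Functor.map_comp_assoc]
    exact (rel_iff (a ≫ θ) (b ≫ θ)).1 hr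
  obtain ⟨w, hw'⟩ := hG.glue c ((yon S).map θ ≫ a') hglue
  have hwf : w ≫ f = (yon S).map ω ≫ k := by
    refine hF.ext c _ _ ?_
    rw [← Category.assoc, hw', Category.assoc, sq.w, ← Functor.map_comp_assoc, ← Functor.map_comp_assoc,
      ← Functor.map_comp_assoc]
    congr 2
    rw [← hc]
    exact congrArg (· ≫ π) (Over.OverMorphism.ext hθ)
  -- uniqueness
  have huniq : ∀ {Z : Over S} (l l' : Z ⟶ W), l ≫ ω = l' ≫ ω →
      (yon S).map l ≫ w = (yon S).map l' ≫ w → l = l' := by
    intro Z l l' h1 h2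
    let cZ := pullback.fst (l ≫ ω) π
    let z := pullback.snd (l ≫ ω) π
    have : Flat cZ.left := MorphismProperty.of_isPullback (P := @Flat)
      ((IsPullback.of_hasPullback (l ≫ ω) π).map (Over.forget S)).flip ‹_›
    have : QuasiCompact cZ.left := MorphismProperty.of_isPullback (P := @QuasiCompact)
      ((IsPullback.of_hasPullback (l ≫ ω) π).map (Over.forget S)).flip ‹_›
    have : Surjective cZ.left := MorphismProperty.of_isPullback (P := @Surjective)
      ((IsPullback.of_hasPullback (l ≫ ω) π).map (Over.forget S)).flip ‹_›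
    have lift : ∀ m : Z ⟶ W, m ≫ ω = l ≫ ω → ∃ n, n ≫ ω' = z ∧ n ≫ c = cZ ≫ m := by
      intro m hm
      let n : pullback (l ≫ ω) π ⟶ W' := Over.homMk (pullback.lift z.left (cZ ≫ m).left (by
          show (z ≫ π).left = (cZ ≫ m ≫ ω).left
          rw [hm, pullback.condition])) (by
        show pullback.lift _ _ _ ≫ pullback.fst π.left U.hom ≫ T'.hom = _
        rw [pullback.lift_fst_assoc, Over.w z])
      exact ⟨n, Over.OverMorphism.ext (pullback.lift_fst _ _ _), Over.OverMorphism.ext (pullback.lift_snd _ _ _)⟩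
    obtain ⟨n, hn1, hn2⟩ := lift l rfl
    obtain ⟨n', hn1', hn2'⟩ := lift l' h1.symm
    have hnn : n ≫ θ = n' ≫ θ := by
      refine (yon S).map_injective (sq.hom_ext ?_ ?_)
      · rw [Functor.map_comp, Functor.map_comp, Category.assoc, Category.assoc, ← hw', ← Functor.map_comp_assoc,
          ← Functor.map_comp_assoc, hn2, hn2', Functor.map_comp, Functor.map_comp, Category.assoc, Category.assoc, h2]
      · rw [← Functor.map_comp, ← Functor.map_comp, Category.assoc, Category.assoc,
          show θ ≫ g' = ω' from Over.OverMorphism.ext hθ, hn1, hn1']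
    have : n = n' := by
      have := congrArg (· ≫ θ') hnn
      simpa only [Category.assoc, hθ'θ, Category.comp_id] using this
    refine (yon S).map_injective ((FpqcSp.yon W).ext cZ _ _ ?_)
    rw [← Functor.map_comp, ← Functor.map_comp, ← hn2, ← hn2', this]
  refine ⟨W, w, ω, isPullback_of_yon hwf fun Z x y hxy => ?_⟩
  obtain ⟨yy, rfl⟩ := (yon S).map_surjective y
  let cZ := pullback.fst yy π
  have : Flat cZ.left := MorphismProperty.of_isPullback (P := @Flat)
    ((IsPullback.of_hasPullback yy π).map (Over.forget S)).flip ‹_›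
  have : QuasiCompact cZ.left := MorphismProperty.of_isPullback (P := @QuasiCompact)
    ((IsPullback.of_hasPullback yy π).map (Over.forget S)).flip ‹_›
  have : Surjective cZ.left := MorphismProperty.of_isPullback (P := @Surjective)
    ((IsPullback.of_hasPullback yy π).map (Over.forget S)).flip ‹_›
  obtain ⟨u, hu⟩ := (yon S).map_surjective (sq.lift ((yon S).map cZ ≫ x) ((yon S).map (pullback.snd yy π))
    (by rw [Category.assoc, hxy, ← Functor.map_comp_assoc, pullback.condition, Functor.map_comp, Category.assoc]))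
  have hu2 : u ≫ g' = pullback.snd yy π := (yon S).map_injective (by rw [Functor.map_comp, hu, sq.lift_snd])
  let s := u ≫ θ' ≫ c
  have hs1 : s ≫ ω = cZ ≫ yy := by
    rw [Category.assoc, Category.assoc, ← hc, pullback.condition, ← hu2, Category.assoc,
      ← show θ' ≫ ω' = g' from Over.OverMorphism.ext hθ', Category.assoc]
  have hs2 : (yon S).map s ≫ w = (yon S).map cZ ≫ x := by
    rw [Functor.map_comp, Functor.map_comp, Category.assoc, Category.assoc, hw']
    rw [← Functor.map_comp_assoc (yon S) θ', hθθ']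
    erw [(yon S).map_id, Category.id_comp]
    rw [hu, sq.lift_fst]
  obtain ⟨l, hl⟩ := (FpqcSp.yon W).glue cZ ((yon S).map s) fun Z' a b hab => by
      rw [← Functor.map_comp, ← Functor.map_comp]
      refine congrArg _ (huniq _ _ ?_ ?_)
      · exact (Category.assoc a s ω).trans ((congrArg (a ≫ ·) hs1).trans
          (((reassoc_of% hab) yy).trans ((congrArg (b ≫ ·) hs1).symm.trans (Category.assoc b s ω).symm)))
      · rw [Functor.map_comp (yon S) a s, Functor.map_comp (yon S) b s, Category.assoc, Category.assoc, hs2,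
          ← Functor.map_comp_assoc, ← Functor.map_comp_assoc, hab]
  refine ⟨l, ⟨?_, ?_⟩, ?_⟩
  · refine hG.ext cZ _ _ ?_
    rw [← Category.assoc, hl, hs2]
  · refine (FpqcSp.yon T).ext cZ _ _ ?_
    rw [← Category.assoc, hl, ← Functor.map_comp, ← Functor.map_comp, hs1]
  · rintro l' ⟨h1, h2⟩
    obtain ⟨ll, rfl⟩ := (yon S).map_surjective l
    obtain ⟨ll', rfl⟩ := (yon S).map_surjective l'
    refine congrArg _ (huniq _ _ ?_ ?_)
    · refine (yon S).map_injective ((FpqcSp.yon T).ext cZ _ _ ?_)
      rw [Functor.map_comp, Functor.map_comp, h2, ← Category.assoc, hl, ← Functor.map_comp,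
        ← Functor.map_comp, hs1]
    · rw [h1]
      refine (hG.ext cZ _ _ ?_)
      rw [← Category.assoc, hl, hs2]

/-- the morphism to the base -/
abbrev toB (Z : Over S) : Z ⟶ Over.mk (𝟙 S) := Over.homMk Z.hom (Category.comp_id _)

/-- descent of representability along an fpqc base change with affine total space -/
theorem isRepresentable_of_affine {X : Sp S} (hX : FpqcSp X) (T : Over S) [Flat T.hom] [Surjective T.hom]
    [QuasiCompact T.hom] {X' : Over S} [IsAffine T.left] [IsAffine X'.left] (q : X' ⟶ T)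
    (a : (AlgSp.yon S).obj X' ⟶ X)
    (sq : IsPullback a ((AlgSp.yon S).map q) ((isTerminal_yon_base S).some.from X) ((AlgSp.yon S).map (toB T))) :
    X.obj.IsRepresentable := by
  haveI : Flat (toB T).left := ‹Flat T.hom›
  haveI : Surjective (toB T).left := ‹Surjective T.hom›
  haveI : QuasiCompact (toB T).left := ‹QuasiCompact T.hom›
  have sq' : IsPullback a ((AlgSp.yon S).map q) ((isTerminal_yon_base S).some.from X)
      ((AlgSp.yon S).map (toB T) ≫ 𝟙 _) := by rw [Category.comp_id]; exact sq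
  haveI : IsAffineHom (datum sq').obj.hom := inferInstanceAs (IsAffineHom q.left)
  obtain ⟨W, w, ω, h⟩ := exists_isPullback hX (FpqcSp.yon _) sq' (Groth.Agent.S1133.result (toB T).left (datum sq'))
  haveI : IsIso w := h.isIso_fst_of_isIso
  exact isRepresentable_of_iso_yon (F := X) (asIso w)

/-- openness of point sets is detected after an fpqc base change -/
theorem isOpen_of_preimage {X : Sp S} (T : Over S) [Flat T.hom] [Surjective T.hom] [QuasiCompact T.hom]
    {X' : Over S} (q : X' ⟶ T) (a : (AlgSp.yon S).obj X' ⟶ X)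
    (sq : IsPullback a ((AlgSp.yon S).map q) ((isTerminal_yon_base S).some.from X) ((AlgSp.yon S).map (toB T)))
    {V : Set (Points X)} (hV : IsOpen (Points.ofPt a ⁻¹' V)) : IsOpen V := by
  refine Points.isOpen_iff.2 fun Z g => ?_
  let P : Over S := Over.mk (pullback.fst Z.hom T.hom ≫ Z.hom)
  let p₁ : P ⟶ Z := Over.homMk (pullback.fst Z.hom T.hom)
  let p₂ : P ⟶ T := Over.homMk (pullback.snd Z.hom T.hom) pullback.condition.symm
  obtain ⟨r, hr⟩ := (AlgSp.yon S).map_surjective (sq.lift ((AlgSp.yon S).map p₁ ≫ g) ((AlgSp.yon S).map p₂)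
    ((isTerminal_yon_base S).some.hom_ext _ _))
  have hra : (AlgSp.yon S).map r ≫ a = (AlgSp.yon S).map p₁ ≫ g := by rw [hr, sq.lift_fst]
  have e : p₁.left ⁻¹' (Points.ofPt g ⁻¹' V) = r.left ⁻¹' (Points.ofPt a ⁻¹' V) := by
    ext y
    rw [Set.mem_preimage, Set.mem_preimage, Set.mem_preimage, Set.mem_preimage, ← ofPt_map, ← ofPt_map, hra]
  haveI : Flat p₁.left := inferInstanceAs (Flat (pullback.fst Z.hom T.hom))
  haveI : Surjective p₁.left := inferInstanceAs (Surjective (pullback.fst Z.hom T.hom))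
  haveI : QuasiCompact p₁.left := inferInstanceAs (QuasiCompact (pullback.fst Z.hom T.hom))
  refine (Flat.isQuotientMap_of_surjective p₁.left).isOpen_preimage.1 ?_
  rw [e]
  exact hV.preimage r.left.continuous

end Groth.Agent.AlgSpLib.FpqcGlue
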