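import Groth.Agent.AlgSpLib.JacobsonMore
import Groth.Agent.AlgSpLib.DecentPoints
import Groth.Agent.H8Top.FiniteTypePoints
import Groth.Agent.AlgSpLib.NoethSpace
import Groth.Prelude.Def_Dual3

/-!
Finite type points of algebraic spaces.
-/

universe u

open CategoryTheory CategoryTheory.Limits AlgebraicGeometry Opposite
open AlgSp

noncomputable section

namespace Groth.Agent.AlgSpLib

set_option backward.isDefEq.respectTransparency.types false

variable {S : Scheme.{u}} {X Y : Sp S}

/-- finite type points of a chart give closed points of charts -/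
theorem hasAt_closed_of_ftPt {U : Over S} (a : (yon S).obj U ⟶ X) (ha : RepWith @Etale a) (t : ↥U.left)
    (ht : LocallyOfFiniteType (U.left.fromSpecResidueField t)) :
    HasAt (fun U u => IsClosed ({u} : Set ↥U)) X (Points.ofPt a t) := by
  obtain ⟨O, -, htO, hc⟩ := (H8Top.locallyOfFiniteType_fromSpecResidueField_iff t).1 ht
  let U' : Over S := Over.mk (O.ι ≫ U.hom)
  let k : U' ⟶ U := Over.homMk O.ι
  exact ⟨U', (yon S).map k ≫ a, (⟨t, htO⟩ : O),
    RepWith.comp ((repWith_yon_map_iff (P := @Etale) k).2 (inferInstanceAs (Etale O.ι))) ha, ofPt_map k a _, hc⟩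

/-- a finite type point lifts to a finite type point of every atlas -/
theorem exists_ftPt_of_hasAt_closed (hX : IsAlgSpace X) {x : Points X}
    (hx : HasAt (fun U u => IsClosed ({u} : Set ↥U)) X x) {U : Over S} (a : (yon S).obj U ⟶ X)
    (ha : RepWith @Etale a) (has : RepWith @Surjective a) :
    ∃ t : ↥U.left, LocallyOfFiniteType (U.left.fromSpecResidueField t) ∧ Points.ofPt a t = x := by
  obtain ⟨V, b, v, hb, rfl, hv⟩ := hx
  have sq := hb.1.isPullback' a
  have : Etale (hb.1.fst' a).left := ha.property _ _ _ sq.flip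
  have : Etale (hb.1.snd a).left := hb.property_snd a
  have : Surjective (hb.1.fst' a).left := has.property _ _ _ sq.flip
  have : IsClosedImmersion (V.left.fromSpecResidueField v) := isClosed_singleton_iff_isClosedImmersion.1 hv
  obtain ⟨r, hr, hrv⟩ := H8Top.exists_ftPt_preimage (hb.1.fst' a).left (s := v) inferInstance
  refine ⟨(hb.1.snd a).left r, H8Top.image_ftPts_subset _ hr, ?_⟩
  exact ((ofPt_eq_ofPt_iff sq v _).2 ⟨r, hrv, rfl⟩).symm

/-- the two descriptions of finite type points -/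
theorem ftPt_iff (hX : IsAlgSpace X) (x : Points X) :
    (∃ (k : Type u) (_ : Field k) (str : Spec (CommRingCat.of k) ⟶ S) (ξ : (yon S).obj (Over.mk str) ⟶ X),
        LocP @LocallyOfFiniteType ξ ∧ Points.ofPt ξ (IsLocalRing.closedPoint k) = x) ↔
      HasAt (fun U u => IsClosed ({u} : Set ↥U)) X x := by
  constructor
  · rintro ⟨k, _, str, ξ, hξ, rfl⟩
    obtain ⟨U, a, hae, has⟩ := hX.atlas
    have sq := hae.1.isPullback' ξ
    let T := hae.1.pullback ξ
    have : Etale (hae.1.snd ξ).left := hae.property_snd ξ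
    have hT : LocallyOfFiniteType (hae.1.fst' ξ).left :=
      hξ ((yon S).map (hae.1.snd ξ)) a (hae.1.fst' ξ)
        ((repWith_yon_map_iff (P := @Etale) _).2 inferInstance) hae sq.w.symm
    have : JacobsonSpace ↥(Over.mk str).left := inferInstanceAs (JacobsonSpace ↥(Spec (CommRingCat.of k)))
    have : JacobsonSpace ↥T.left := LocallyOfFiniteType.jacobsonSpace (hae.1.snd ξ).left
    obtain ⟨u, hu⟩ := surjective_ofPt a has (Points.ofPt ξ (IsLocalRing.closedPoint k))
    obtain ⟨r, -, -⟩ := (ofPt_eq_ofPt_iff sq u (IsLocalRing.closedPoint k)).1 hu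
    obtain ⟨p, -, hp⟩ : (Set.univ ∩ closedPoints T.left).Nonempty :=
      (jacobsonSpace_iff_locallyClosed (X := T.left)).1 ‹_› Set.univ ⟨r, trivial⟩ isOpen_univ.isLocallyClosed
    have : IsClosedImmersion (T.left.fromSpecResidueField p) := isClosed_singleton_iff_isClosedImmersion.1 hp
    have h := hasAt_closed_of_ftPt a hae ((hae.1.fst' ξ).left p) (H8Top.image_ftPts_subset _ inferInstance)
    have e : Points.ofPt a ((hae.1.fst' ξ).left p) = Points.ofPt ξ (IsLocalRing.closedPoint k) :=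
      ((ofPt_eq_ofPt_iff sq _ ((hae.1.snd ξ).left p)).2 ⟨p, rfl, rfl⟩).trans
        (congrArg _ ((inferInstance : Subsingleton ↥(Spec (CommRingCat.of k))).elim _ _))
    rwa [e] at h
  · rintro ⟨U, a, u, ha, rfl, hu⟩
    let T : Over S := Over.mk (U.left.fromSpecResidueField u ≫ U.hom)
    let j : T ⟶ U := Over.homMk (U.left.fromSpecResidueField u)
    have : IsClosedImmersion (U.left.fromSpecResidueField u) := isClosed_singleton_iff_isClosedImmersion.1 hu
    refine ⟨U.left.residueField u, inferInstance, _, (yon S).map j ≫ a, ?_, ?_⟩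
    · refine locP_comp etLocal_lft (IsAlgSpace.yon_obj T) (IsAlgSpace.yon_obj U) hX ?_ ?_
      · exact locP_of_repWith etLocal_lft (IsAlgSpace.yon_obj T) ((repWith_yon_map_iff (P := @LocallyOfFiniteType) j).2
          (inferInstanceAs (LocallyOfFiniteType (U.left.fromSpecResidueField u))))
      · exact locP_of_repWith etLocal_lft (IsAlgSpace.yon_obj U)
          (RepWith.mono (fun _ _ g (_ : Etale g) => (inferInstance : LocallyOfFiniteType g)) ha)
    · rw [ofPt_map]
      exact congrArg _ (Scheme.fromSpecResidueField_apply _ _)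

/-- every nonempty locally closed set has a finite type point -/
theorem exists_hasAt_closed_mem (hX : IsAlgSpace X) {T : Set (Points X)} (hT : IsLocallyClosed T)
    (hne : T.Nonempty) : ∃ x ∈ T, HasAt (fun U u => IsClosed ({u} : Set ↥U)) X x := by
  obtain ⟨U, a, hae, has⟩ := hX.atlas
  obtain ⟨C₁, C₂, hC₁, hC₂, rfl⟩ := hT
  obtain ⟨x, hx₁, hx₂⟩ := hne
  obtain ⟨z, rfl⟩ := surjective_ofPt a has x
  obtain ⟨M, hM, hzM, hMC⟩ := exists_isAffineOpen_mem_and_subset (x := z)
    (U := ⟨Points.ofPt a ⁻¹' C₁, hC₁.preimage (Points.continuous_ofPt a)⟩) hx₁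
  have : CompactSpace ↥M.toScheme := isCompact_iff_compactSpace.mp hM.isCompact
  have hK : IsClosed (M.ι ⁻¹' (Points.ofPt a ⁻¹' C₂)) :=
    (hC₂.preimage (Points.continuous_ofPt a)).preimage M.ι.continuous
  obtain ⟨m, hm, hmc⟩ := hK.exists_closed_singleton ⟨⟨z, hzM⟩, hx₂⟩
  exact ⟨Points.ofPt a (M.ι m), ⟨hMC m.2, hm⟩,
    hasAt_closed_of_ftPt a hae _ (H8Top.locallyOfFiniteType_fromSpecResidueField_of_isClosed m.2 hmc)⟩

theorem exists_hasAt_closed_map (hX : IsAlgSpace X) (hY : IsAlgSpace Y) {f : X ⟶ Y}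
    (hf : LocP @LocallyOfFiniteType f) (hs : IsSurjectiveMor f) {y : Points Y}
    (hy : HasAt (fun U u => IsClosed ({u} : Set ↥U)) Y y) :
    ∃ x, Points.map f x = y ∧ HasAt (fun U u => IsClosed ({u} : Set ↥U)) X x := by
  obtain ⟨U₀, p₀, he, hp⟩ := hX.atlas
  obtain ⟨V, b, U, a, h, c, hbe, hbs, hae, -, w, hsur⟩ := exists_surjective_chart_over hY hs p₀ he hp
  obtain ⟨v, hv, rfl⟩ := exists_ftPt_of_hasAt_closed hY hy b hbe hbs
  have : LocallyOfFiniteType h.left := hf a b h hae hbe w
  have := hsur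
  obtain ⟨t, ht, e⟩ := H8Top.exists_ftPt_preimage h.left hv
  exact ⟨Points.ofPt a t, by rw [Points.map_ofPt, w, ofPt_map, e], hasAt_closed_of_ftPt a hae t ht⟩

theorem resTrdeg_zero_of_ftPt (hX : IsAlgSpace X) (hY : IsAlgSpace Y) {f : X ⟶ Y}
    (hf : LocP @LocallyOfFiniteType f) (hJ : EtaleLocally (fun U => JacobsonSpace ↥U) Y) {x : Points X}
    (hx : HasAt (fun U u => IsClosed ({u} : Set ↥U)) X x) :
    HasAtMor (fun _ _ h u => Dual3.resTrdeg h u = 0) f x := by
  obtain ⟨U₁, a₁, u₁, ha₁, rfl, hu₁⟩ := hx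
  obtain ⟨V, b, hbe, hbs, hV⟩ := hJ
  have : JacobsonSpace ↥V.left := hV
  obtain ⟨U, a, h, hae, has, w⟩ := exists_chart_over hX hY f b hbe hbs
  have : LocallyOfFiniteType h.left := hf a b h hae hbe w
  have : JacobsonSpace ↥U.left := LocallyOfFiniteType.jacobsonSpace h.left
  obtain ⟨u, hu⟩ := surjective_ofPt a has (Points.ofPt a₁ u₁)
  refine ⟨U, V, a, b, h, u, hae, hbe, w, hu, ?_⟩
  let _ := (h.left.residueFieldMap u).hom.toAlgebra
  have : Module.Finite (V.left.residueField (h.left u)) (U.left.residueField u) :=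
    H8Top.residueFieldMap_finite h.left (isClosed_chart_point a₁ a ha₁ hae hu₁ hu)
  exact trdeg_eq_zero

end Groth.Agent.AlgSpLib
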