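import Groth.Agent.VarietyLib.AffineNhd
import Mathlib.AlgebraicGeometry.ZariskisMainTheorem
import Groth.Agent.SGA3cLib.MonoClosed

/-!
Morphisms with finite fibre over a point without proper generalisations are finite nearby.
-/

universe u

open CategoryTheory CategoryTheory.Limits AlgebraicGeometry

noncomputable section

namespace Groth.Agent.AlgSpLib

set_option backward.isDefEq.respectTransparency.types false

/-- quasi-compact image avoiding a point without proper generalisations avoids a neighbourhood -/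
theorem notMem_closure_range_of_maximal {P X : Scheme.{u}} [CompactSpace ↥P] [QuasiSeparatedSpace ↥X]
    (g : P ⟶ X) {η : ↥X} (hmax : ∀ t, t ⤳ η → t = η) (h : η ∉ Set.range g) : η ∉ closure (Set.range g) := by
  intro hc
  obtain ⟨p, hp⟩ := VarietyLib.exists_specializes_of_mem_closure_range g hc
  exact h ⟨p, hmax _ hp⟩

/-- finiteness over an affine neighbourhood of a point without proper generalisations -/
theorem exists_isFinite_of_finite_fibre {W T : Scheme.{u}} [IsAffine T] [CompactSpace ↥W] (f : W ⟶ T)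
    [LocallyOfFiniteType f] [IsSeparated f] {η : ↥T} (hmax : ∀ t, t ⤳ η → t = η)
    (hfin : (f ⁻¹' {η}).Finite) : ∃ N : T.Opens, IsAffineOpen N ∧ η ∈ N ∧ IsFinite (f ∣_ N) := by
  have : QuasiCompact f := quasiCompact_of_compactSpace f
  -- quasi-finite near the fibre
  have hqf : ∀ w, f w = η → f.QuasiFiniteAt w := by
    rintro w rfl
    have : Finite (f.fiber (f w)) := (f.fiberHomeo (f w)).finite_iff.mpr hfin.to_subtype
    exact Scheme.Hom.quasiFiniteAt_iff_isOpen_singleton_asFiber.mpr (isOpen_discrete _)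
  let C : Set ↥W := (f.quasiFiniteLocus : Set ↥W)ᶜ
  have hC : IsClosed C := f.quasiFiniteLocus.isOpen.isClosed_compl
  have hCη : η ∉ closure (f '' C) := by
    intro hc
    let I := Scheme.IdealSheafData.vanishingIdeal (⟨C, hC⟩ : TopologicalSpace.Closeds ↥W)
    have hr : Set.range (I.subschemeι ≫ f) = f '' C := by
      rw [Scheme.Hom.comp_base, TopCat.coe_comp, Set.range_comp, Scheme.IdealSheafData.range_subschemeι,
        Scheme.IdealSheafData.coe_support_vanishingIdeal]
      rfl
    have : CompactSpace ↥I.subscheme := I.subschemeι.isClosedEmbedding.compactSpace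
    rw [← hr] at hc
    refine notMem_closure_range_of_maximal (I.subschemeι ≫ f) hmax ?_ hc
    rw [hr]
    rintro ⟨w, hw, e⟩
    exact hw (hqf w e)
  obtain ⟨N₁, hN₁, hηN₁, hN₁C⟩ := exists_isAffineOpen_mem_and_subset (x := η)
    (U := ⟨(closure (f '' C))ᶜ, isClosed_closure.isOpen_compl⟩) hCη
  let g := f ∣_ N₁
  have : IsAffine N₁.toScheme := hN₁
  have hgq : LocallyQuasiFinite g := by
    rw [← Scheme.Hom.quasiFiniteLocus_eq_top_iff]
    ext w
    simp only [Scheme.Hom.mem_quasiFiniteLocus, TopologicalSpace.Opens.coe_top, Set.mem_univ, iff_true,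
      SetLike.mem_coe]
    have : f.QuasiFiniteAt ((f ⁻¹ᵁ N₁).ι w) := by
      by_contra H
      exact hN₁C w.2 (subset_closure ⟨_, H, rfl⟩)
    rw [← Scheme.Hom.quasiFiniteAt_comp_iff_of_isOpenImmersion, ← morphismRestrict_ι,
      Scheme.Hom.quasiFiniteAt_comp_iff] at this
    exact this
  have : CompactSpace ↥(f ⁻¹ᵁ N₁).toScheme :=
    isCompact_iff_compactSpace.mp (f.isCompact_preimage hN₁.isCompact)
  let j := g.toNormalization
  let ν := g.fromNormalization
  have hjν : j ≫ ν = g := g.toNormalization_fromNormalization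
  let D : Set ↥g.normalization := (Set.range j)ᶜ
  have hD : IsClosed D := j.isOpenEmbedding.isOpen_range.isClosed_compl
  let η₁ : ↥N₁.toScheme := ⟨η, hηN₁⟩
  have hmax₁ : ∀ t, t ⤳ η₁ → t = η₁ := fun t ht =>
    Subtype.ext (hmax _ (ht.map N₁.ι.continuous))
  have hDη : η₁ ∉ ν '' D := by
    rintro ⟨z, hz, hzη⟩
    have hzc : z ∈ closure (Set.range j) := by rw [j.denseRange.closure_range]; trivial
    have : IsAffine g.normalization := isAffine_of_isAffineHom ν
    obtain ⟨w, hw⟩ := VarietyLib.exists_specializes_of_mem_closure_range j hzc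
    have e : ν (j w) = ν z := by
      rw [hzη]; exact hmax₁ _ (hzη ▸ hw.map ν.continuous)
    have : j w = z := SGA3cLib.eq_of_specializes_of_isIntegralHom ν hw e
    exact hz ⟨w, this⟩
  obtain ⟨N, hN, hηN, hND⟩ := exists_isAffineOpen_mem_and_subset (x := η₁)
    (U := ⟨(ν '' D)ᶜ, (ν.isClosedMap _ hD).isOpen_compl⟩) hDη
  have hsub : ν ⁻¹ᵁ N ≤ j.opensRange := fun z hz => by
    by_contra h
    exact hND hz ⟨z, h, rfl⟩
  have hint : IsIntegralHom (g ∣_ N) := by
    have hiso : IsIso (j ∣_ (ν ⁻¹ᵁ N)) := by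
      refine (isIso_iff_isOpenImmersion_and_epi_base _).2 ⟨inferInstance, (TopCat.epi_iff_surjective _).2 fun z => ?_⟩
      obtain ⟨w, hw⟩ := hsub z.2
      refine ⟨⟨w, show j w ∈ ν ⁻¹ᵁ N by rw [hw]; exact z.2⟩, Subtype.ext ?_⟩
      rw [morphismRestrict_base_coe]
      exact hw
    have : g ∣_ N = (Scheme.isoOfEq _ (congrArg (fun k => k ⁻¹ᵁ N) hjν).symm).hom ≫ (j ∣_ (ν ⁻¹ᵁ N)) ≫ (ν ∣_ N) := by
      rw [← cancel_mono N.ι]
      simp [hjν]
    rw [this]
    have h1 : IsIntegralHom (j ∣_ (ν ⁻¹ᵁ N)) :=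
      @MorphismProperty.of_isIso _ _ @IsIntegralHom _ _ _ _ (j ∣_ (ν ⁻¹ᵁ N)) hiso
    exact MorphismProperty.comp_mem _ _ _ inferInstance
      (MorphismProperty.comp_mem _ _ _ h1 (IsZariskiLocalAtTarget.restrict (P := @IsIntegralHom) inferInstance N))
  have : IsFinite (g ∣_ N) := (IsFinite.iff_isIntegralHom_and_locallyOfFiniteType _).2 ⟨hint, inferInstance⟩
  refine ⟨N₁.ι ''ᵁ N, hN.image_of_isOpenImmersion N₁.ι, ⟨η₁, hηN, rfl⟩, ?_⟩
  exact ((MorphismProperty.arrow_mk_iso_iff @IsFinite (morphismRestrictRestrict f N₁ N)).1 this)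

end Groth.Agent.AlgSpLib
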