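import Groth.Agent.AlgSpLib.MorTop
import Groth.Agent.AlgSpLib.LocP
import Groth.Agent.Et18.H0Lift.ConnectedDescent
import Groth.Agent.VarietyLib.GaloisFibre

/-!
Geometric connectedness of algebraic spaces over a field.
-/

universe u

open CategoryTheory CategoryTheory.Limits AlgebraicGeometry Topology
open AlgSp

noncomputable section

namespace Groth.Agent.AlgSpLib

set_option backward.isDefEq.respectTransparency.types false

section Gen

variable {S : Scheme.{u}} {F G X : Sp S}

/-- topological properties of a representable map on points -/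
theorem topology_map_of_repWith (hG : IsAlgSpace G) {m : F ⟶ G} (hs : RepWith @Surjective m) :
    Function.Surjective (Points.map m) ∧ (RepWith @UniversallyOpen m → IsOpenMap (Points.map m)) ∧
      (RepWith @GeometricallyConnected m → ∀ z, IsConnected (Points.map m ⁻¹' {z})) := by
  obtain ⟨U, c, hce, hcs⟩ := hG.atlas
  have sq := hs.1.isPullback c
  have hcomm : ∀ r, Points.map m (Points.ofPt (hs.1.fst c) r) = Points.ofPt c ((hs.1.snd c).left r) := fun r => by
    rw [Points.map_ofPt, sq.w, ofPt_map]
  have hlift : ∀ (v : Points F) (w : ↥U.left), Points.map m v = Points.ofPt c w →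
      ∃ r, Points.ofPt (hs.1.fst c) r = v ∧ (hs.1.snd c).left r = w := fun v w e => by
    rw [Points.ofPt_eq_map_ofScheme] at e
    obtain ⟨q, hq1, hq2⟩ := exists_point_of_isPullback sq e
    obtain ⟨r, rfl⟩ := (Points.schemeEquiv _).surjective q
    exact ⟨r, (Points.ofPt_eq_map_ofScheme _ _).trans hq1,
      (Points.schemeEquiv U).injective ((map_yon_map_ofScheme _ r).symm.trans hq2)⟩
  refine ⟨fun z => surjective_map_of_repWith hs z, fun ho O hO => ?_, fun hc z => ?_⟩
  · have : UniversallyOpen (hs.1.snd c).left := ho.2 c _ _ sq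
    have e : Points.map m '' O = Points.ofPt c '' ((hs.1.snd c).left '' (Points.ofPt (hs.1.fst c) ⁻¹' O)) := by
      ext z
      constructor
      · rintro ⟨v, hv, rfl⟩
        obtain ⟨w, hw⟩ := surjective_ofPt c hcs (Points.map m v)
        obtain ⟨r, rfl, hr⟩ := hlift v w hw.symm
        exact ⟨_, ⟨r, hv, rfl⟩, (congrArg _ hr).trans hw⟩
      · rintro ⟨_, ⟨r, hr, rfl⟩, rfl⟩
        exact ⟨_, hr, hcomm r⟩
    rw [e]
    exact isOpenMap_ofPt c hce _ ((hs.1.snd c).left.isOpenMap _ (hO.preimage (Points.continuous_ofPt _)))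
  · obtain ⟨w, rfl⟩ := surjective_ofPt c hcs z
    have : GeometricallyConnected (hs.1.snd c).left := hc.2 c _ _ sq
    have e : Points.map m ⁻¹' {Points.ofPt c w} = Points.ofPt (hs.1.fst c) '' ((hs.1.snd c).left ⁻¹' {w}) := by
      ext v
      constructor
      · intro hv
        obtain ⟨r, hr1, hr2⟩ := hlift v w hv
        exact ⟨r, hr2, hr1⟩
      · rintro ⟨r, hr, rfl⟩
        show Points.map m _ = _
        rw [hcomm, show (hs.1.snd c).left r = w from hr]
    rw [e]
    exact ((hs.1.snd c).left.isConnected_preimage_singleton w).image _ (Points.continuous_ofPt _).continuousOn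

theorem isPullback_prod_map_snd {A C : Sp S} (g : A ⟶ C) :
    IsPullback (prod.snd : X ⨯ A ⟶ A) (prod.map (𝟙 X) g) g (prod.snd : X ⨯ C ⟶ C) := by
  refine IsPullback.mk' (by simp) (fun T φ φ' h1 h2 => ?_) (fun T a b e => ?_)
  · apply Limits.prod.hom_ext
    · have := congrArg (· ≫ prod.fst) h2
      simpa using this
    · exact h1
  · exact ⟨prod.lift (b ≫ prod.fst) a, prod.lift_snd _ _, by
      apply Limits.prod.hom_ext
      · rw [Category.assoc, prod.map_fst, Category.comp_id, prod.lift_fst]
      · rw [Category.assoc, prod.map_snd, prod.lift_snd_assoc, e]⟩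

theorem repWith_prod_map_yon {P : MorphismProperty Scheme.{u}} [P.IsStableUnderBaseChange] {A C : Over S} (g : A ⟶ C)
    (hg : P g.left) : RepWith P (prod.map (𝟙 X) ((yon S).map g)) :=
  RepWith.baseChange (isPullback_prod_map_snd _) ((repWith_yon_map_iff P g).2 hg)

end Gen

variable {k : Type u} [Field k]


/-- `Spec K` over `k` -/
abbrev specF (k : Type u) [Field k] (K : Type u) [Field K] [Algebra k K] : Over (Spec (CommRingCat.of k)) :=
  Over.mk (Spec.map (CommRingCat.ofHom (algebraMap k K)))

/-- the map of spectra of a tower -/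
def specFMap (k : Type u) [Field k] (K L : Type u) [Field K] [Field L] [Algebra k K] [Algebra k L] [Algebra K L]
    [IsScalarTower k K L] : specF k L ⟶ specF k K :=
  Over.homMk (Spec.map (CommRingCat.ofHom (algebraMap K L))) (by
    show Spec.map _ ≫ Spec.map _ = Spec.map _
    rw [← Spec.map_comp, ← CommRingCat.ofHom_comp, ← IsScalarTower.algebraMap_eq])

variable {X : Sp (Spec (CommRingCat.of k))}

theorem prod_map_specF (hX : IsAlgSpace X) (K L : Type u) [Field K] [Field L] [Algebra k K] [Algebra k L]
    [Algebra K L] [IsScalarTower k K L] :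
    Function.Surjective (Points.map (prod.map (𝟙 X) ((yon (Spec (CommRingCat.of k))).map (specFMap k K L)))) ∧
      (IsSepClosed K → IsOpenMap (Points.map (prod.map (𝟙 X) ((yon (Spec (CommRingCat.of k))).map (specFMap k K L)))) ∧
        ∀ z, IsConnected (Points.map (prod.map (𝟙 X) ((yon (Spec (CommRingCat.of k))).map (specFMap k K L))) ⁻¹' {z})) := by
  have hG : IsAlgSpace (X ⨯ (yon (Spec (CommRingCat.of k))).obj (specF k K)) := isAlgSpace_prod hX (IsAlgSpace.yon_obj _)
  have hsurj : Surjective (specFMap k K L).left :=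
    ⟨fun z => ⟨(Classical.arbitrary ↥(Spec (CommRingCat.of L))), Subsingleton.elim (α := ↥(Spec (CommRingCat.of K))) _ _⟩⟩
  obtain ⟨h1, h2, h3⟩ := topology_map_of_repWith hG (repWith_prod_map_yon (X := X) (specFMap k K L) hsurj)
  refine ⟨h1, fun hK => ⟨h2 (repWith_prod_map_yon _ ?_), h3 (repWith_prod_map_yon _ ?_)⟩⟩
  · have : Subsingleton ↥(specF k K).left := inferInstanceAs (Subsingleton ↥(Spec (CommRingCat.of K)))
    have : IsIntegral (specF k K).left := inferInstanceAs (IsIntegral (Spec (CommRingCat.of K)))
    infer_instance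
  · exact Et18.H0Lift.geometricallyConnected_algSpec K L

theorem exists_field_over (k K K' : Type u) [Field k] [Field K] [Field K'] [Algebra k K] [Algebra k K'] :
    ∃ (L : Type u) (_ : Field L) (_ : Algebra k L) (_ : Algebra K L) (_ : IsScalarTower k K L) (_ : Algebra K' L),
      IsScalarTower k K' L := by
  let R := TensorProduct k K K'
  obtain ⟨m, hm⟩ := Ideal.exists_maximal R
  let := Ideal.Quotient.field m
  let i : K →+* R ⧸ m := (Ideal.Quotient.mk m).comp (Algebra.TensorProduct.includeLeftRingHom)
  let j : K' →+* R ⧸ m :=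
    (Ideal.Quotient.mk m).comp (Algebra.TensorProduct.includeRight : K' →ₐ[k] R).toRingHom
  let := i.toAlgebra
  let := j.toAlgebra
  let := (i.comp (algebraMap k K)).toAlgebra
  exact ⟨R ⧸ m, inferInstance, (i.comp (algebraMap k K)).toAlgebra, i.toAlgebra, IsScalarTower.of_algebraMap_eq fun _ => rfl,
    j.toAlgebra, IsScalarTower.of_algebraMap_eq fun c => congrArg (Ideal.Quotient.mk m)
      (((Algebra.TensorProduct.includeRight : K' →ₐ[k] R).commutes c).symm.trans rfl |>.symm.trans rfl |>.symm)⟩

/-- all field base changes connected -/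
def GConn (k : Type u) [Field k] (X : Sp (Spec (CommRingCat.of k))) : Prop :=
  ∀ (K : Type u) [Field K] [Algebra k K], ConnectedSpace (Points (X ⨯ (yon _).obj (specF k K)))

theorem connectedSpace_of_extension (hX : IsAlgSpace X) (K L : Type u) [Field K] [Field L] [Algebra k K]
    [Algebra k L] [Algebra K L] [IsScalarTower k K L] (h : ConnectedSpace (Points (X ⨯ (yon (Spec (CommRingCat.of k))).obj (specF k L)))) :
    ConnectedSpace (Points (X ⨯ (yon (Spec (CommRingCat.of k))).obj (specF k K))) :=
  (prod_map_specF hX K L).1.connectedSpace (Points.continuous_map _)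

theorem connectedSpace_extension_of_sepClosed (hX : IsAlgSpace X) (K L : Type u) [Field K] [Field L] [Algebra k K]
    [Algebra k L] [Algebra K L] [IsScalarTower k K L] [IsSepClosed K]
    (h : ConnectedSpace (Points (X ⨯ (yon (Spec (CommRingCat.of k))).obj (specF k K)))) :
    ConnectedSpace (Points (X ⨯ (yon (Spec (CommRingCat.of k))).obj (specF k L))) := by
  obtain ⟨hs, hr⟩ := prod_map_specF hX K L
  obtain ⟨ho, hc⟩ := hr inferInstance
  have hq := (ho.isQuotientMap (Points.continuous_map _) hs)
  exact connectedSpace_iff_univ.2 (by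
    have := hq.isCoinducing.isConnected_preimage_of_isClosed hc isClosed_univ
      (connectedSpace_iff_univ.1 h)
    rwa [Set.preimage_univ] at this)

theorem gConn_iff_of_fieldExtension (hX : IsAlgSpace X) (k' : Type u) [Field k'] [Algebra k k'] :
    GConn k X ↔ ∀ (K : Type u) [Field K] [Algebra k K] [Algebra k' K] [IsScalarTower k k' K],
      ConnectedSpace (Points (X ⨯ (yon (Spec (CommRingCat.of k))).obj (specF k K))) := by
  refine ⟨fun h K _ _ _ _ => h K, fun h K _ _ => ?_⟩
  obtain ⟨L, iL, i1, i2, i3, i4, i5⟩ := exists_field_over k K k'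
  exact @connectedSpace_of_extension k _ _ hX K L _ iL _ i1 i2 i3 (h L)

theorem gConn_iff_sepClosed (hX : IsAlgSpace X) (k' : Type u) [Field k'] [Algebra k k'] [IsSepClosed k'] :
    GConn k X ↔ ConnectedSpace (Points (X ⨯ (yon (Spec (CommRingCat.of k))).obj (specF k k'))) := by
  refine ⟨fun h => h k', fun h => (gConn_iff_of_fieldExtension hX k').2 fun K _ _ _ _ => ?_⟩
  exact connectedSpace_extension_of_sepClosed hX k' K h

theorem spec_algebraMap_self (k : Type u) [Field k] : Spec.map (CommRingCat.ofHom (algebraMap k k)) = 𝟙 _ := by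
  rw [show (algebraMap k k) = RingHom.id k from Algebra.algebraMap_self, CommRingCat.ofHom_id, Spec.map_id]

/-- `Spec k` is terminal over `k` -/
def isTerminalOverSpecF (k : Type u) [Field k] : IsTerminal (specF k k) :=
  IsTerminal.ofUniqueHom (fun Y => Over.homMk Y.hom (by
    show Y.hom ≫ Spec.map (CommRingCat.ofHom (algebraMap k k)) = _
    rw [spec_algebraMap_self, Category.comp_id]))
    fun Y m => Over.OverMorphism.ext (by
      have h := Over.w m
      change m.left ≫ Spec.map (CommRingCat.ofHom (algebraMap k k)) = _ at h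
      rw [spec_algebraMap_self] at h; erw [Category.comp_id] at h
      exact h)

/-- `Spec k` is terminal among sheaves over `k` -/
def isTerminalSpecF (k : Type u) [Field k] : IsTerminal ((yon (Spec (CommRingCat.of k))).obj (specF k k)) :=
  (isTerminalOverSpecF k).isTerminalObj (yon _) _

theorem isIso_prod_fst_specF (X : Sp (Spec (CommRingCat.of k))) :
    IsIso (prod.fst : X ⨯ (yon (Spec (CommRingCat.of k))).obj (specF k k) ⟶ X) :=
  ⟨prod.lift (𝟙 X) ((isTerminalSpecF k).from X), by
    apply Limits.prod.hom_ext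
    · rw [Category.assoc, prod.lift_fst, Category.comp_id, Category.id_comp]
    · exact (isTerminalSpecF k).hom_ext _ _, prod.lift_fst _ _⟩

/-- the projection from a field base change over a separably closed field -/
theorem topology_prod_fst (hX : IsAlgSpace X) [IsSepClosed k] (K : Type u) [Field K] [Algebra k K] :
    Topology.IsCoinducing (Points.map (prod.fst : X ⨯ (yon _).obj (specF k K) ⟶ X)) ∧
      ∀ z, IsConnected (Points.map (prod.fst : X ⨯ (yon _).obj (specF k K) ⟶ X) ⁻¹' {z}) := by
  obtain ⟨hs, hr⟩ := prod_map_specF hX k K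
  obtain ⟨ho, hc⟩ := hr inferInstance
  have := isIso_prod_fst_specF X
  let e := pointsHomeo (asIso (prod.fst : X ⨯ (yon (Spec (CommRingCat.of k))).obj (specF k k) ⟶ X))
  have he : Points.map (prod.fst : X ⨯ (yon _).obj (specF k K) ⟶ X) =
      e ∘ Points.map (prod.map (𝟙 X) ((yon _).map (specFMap k k K))) := funext fun z => by
    show _ = Points.map _ (Points.map _ z)
    rw [← Points.map_comp, asIso_hom, prod.map_fst, Category.comp_id]
  refine ⟨?_, fun z => ?_⟩
  · rw [he]
    exact ((e.isOpenMap.comp ho).isQuotientMap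
      (e.continuous.comp (Points.continuous_map _)) (e.surjective.comp hs)).isCoinducing
  · rw [he, Set.preimage_comp, ← e.image_symm, Set.image_singleton]
    exact hc _

theorem subsingleton_points_yon_field {S : Scheme.{u}} {K : Type u} [Field K] (str : Spec (CommRingCat.of K) ⟶ S) :
    Subsingleton (Points ((yon S).obj (Over.mk str))) := by
  have : Subsingleton ↥(Over.mk str).left := inferInstanceAs (Subsingleton ↥(Spec (CommRingCat.of K)))
  exact (Points.schemeEquiv (Over.mk str)).symm.subsingleton

/-- the projection to the other factor of a product with a geometrically connected space -/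
theorem topology_prod_snd (hX : IsAlgSpace X) (h : GConn k X) {Y : Sp (Spec (CommRingCat.of k))}
    (hY : IsAlgSpace Y) :
    Topology.IsCoinducing (Points.map (prod.snd : X ⨯ Y ⟶ Y)) ∧
      ∀ z, IsConnected (Points.map (prod.snd : X ⨯ Y ⟶ Y) ⁻¹' {z}) := by
  have hfib : ∀ z, IsConnected (Points.map (prod.snd : X ⨯ Y ⟶ Y) ⁻¹' {z}) := fun z => by
    obtain ⟨K, iK, str, a, rfl⟩ := exists_ptOfHom z
    obtain ⟨φ, rfl⟩ := Spec.map_surjective str
    let := φ.hom.toAlgebra
    have : ConnectedSpace (Points (X ⨯ (yon _).obj (Over.mk (Spec.map φ)))) := h K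
    have := subsingleton_points_yon_field (Spec.map φ)
    have hpt : ∀ q : Points ((yon _).obj (Over.mk (Spec.map φ))), Points.map a q = ptOfHom a := fun q => by
      rw [Subsingleton.elim q (ptOfHom (K := K) (str := Spec.map φ) (𝟙 _)), map_ptOfHom, Category.id_comp]
    have sq := isPullback_prod_map_snd (X := X) a
    have e : Points.map (prod.snd : X ⨯ Y ⟶ Y) ⁻¹' {ptOfHom a} = Set.range (Points.map (prod.map (𝟙 X) a)) := by
      ext v
      constructor
      · intro hv
        obtain ⟨r, _, hr⟩ := exists_point_of_isPullback sq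
          (x := ptOfHom (K := K) (str := Spec.map φ) (𝟙 _)) (y := v) ((hpt _).trans hv.symm)
        exact ⟨r, hr⟩
      · rintro ⟨r, rfl⟩
        show Points.map _ (Points.map _ r) = _
        rw [← Points.map_comp, ← sq.w, Points.map_comp, hpt]
    rw [e]
    exact isConnected_range (Points.continuous_map _)
  have hsurj : Function.Surjective (Points.map (prod.snd : X ⨯ Y ⟶ Y)) := fun z => (hfib z).nonempty
  have hopen : IsOpenMap (Points.map (prod.snd : X ⨯ Y ⟶ Y)) :=
    isUnivOpenMor_to_field hX ((isTerminalSpecF k).from X) hY ((isTerminalSpecF k).from Y) prod.fst prod.snd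
      (IsPullback.of_is_product' (prodIsProd X Y) (isTerminalSpecF k))
  exact ⟨(hopen.isQuotientMap (Points.continuous_map _) hsurj).isCoinducing, hfib⟩

end Groth.Agent.AlgSpLib
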