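import Groth.Agent.S9435
import Groth.Agent.EGA43.DimFormula.JacobsonDim
import Mathlib.FieldTheory.PurelyInseparable.Basic

/-!
Etale neighbourhoods splitting the separable part of a residue field extension.
-/

universe u

open CategoryTheory CategoryTheory.Limits AlgebraicGeometry IsLocalRing

noncomputable section

namespace Groth.Agent.AlgSpLib

set_option backward.isDefEq.respectTransparency false
set_option maxHeartbeats 1000000

/-- the morphism of a field given by a point and an embedding of its residue field -/
abbrev fieldHom {X : Scheme.{u}} (x : X) {K : Type u} [Field K] (φ : X.residueField x →+* K) :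
    Spec (CommRingCat.of K) ⟶ X := Spec.map (CommRingCat.ofHom φ) ≫ X.fromSpecResidueField x

theorem exists_fieldHom {X : Scheme.{u}} {K : Type u} [Field K] (c : Spec (CommRingCat.of K) ⟶ X) :
    ∃ (x : X) (φ : X.residueField x →+* K), fieldHom x φ = c :=
  ⟨c (closedPoint K), (X.descResidueField (Scheme.stalkClosedPointTo c)).hom,
    Scheme.descResidueField_stalkClosedPointTo_fromSpecResidueField K X c⟩

theorem fieldHom_apply {X : Scheme.{u}} (x : X) {K : Type u} [Field K] (φ : X.residueField x →+* K)
    (z : ↥(Spec (CommRingCat.of K))) : fieldHom x φ z = x := by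
  rw [Scheme.Hom.comp_apply]
  exact Scheme.fromSpecResidueField_apply x _

theorem fieldHom_inj {X : Scheme.{u}} {x : X} {K : Type u} [Field K] {φ ψ : X.residueField x →+* K}
    (h : fieldHom x φ = fieldHom x ψ) : φ = ψ := by
  have h1 := Spec.map_injective ((cancel_mono (X.fromSpecResidueField x)).1 h)
  exact congrArg CommRingCat.Hom.hom h1

theorem fieldHom_comp {X Y : Scheme.{u}} (f : X ⟶ Y) (x : X) {K : Type u} [Field K]
    (φ : X.residueField x →+* K) : fieldHom x φ ≫ f = fieldHom (f x) (φ.comp (f.residueFieldMap x).hom) := by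
  rw [fieldHom, fieldHom, Category.assoc, ← Scheme.Hom.SpecMap_residueFieldMap_fromSpecResidueField,
    ← Category.assoc, ← Spec.map_comp]
  rfl

theorem fieldHom_precomp {X : Scheme.{u}} (x : X) {K K' : Type u} [Field K] [Field K']
    (φ : X.residueField x →+* K) (k : K →+* K') :
    Spec.map (CommRingCat.ofHom k) ≫ fieldHom x φ = fieldHom x (k.comp φ) := by
  rw [fieldHom, fieldHom, ← Category.assoc, ← Spec.map_comp]
  rfl

/-- an etale neighbourhood whose residue field contains given separable elements -/
theorem exists_etale_split {V : Scheme.{u}} (v : V) {K : Type u} [Field K] (ι : V.residueField v →+* K)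
    (s : Finset K) (hs : letI := ι.toAlgebra; ∀ e ∈ s, IsSeparable (V.residueField v) e) :
    ∃ (V' : Scheme.{u}) (g : V' ⟶ V) (v' : V') (τ : V'.residueField v' →+* K),
      Etale g ∧ fieldHom v' τ ≫ g = fieldHom v ι ∧ ∀ e ∈ s, e ∈ Set.range τ := by
  classical
  obtain ⟨_, ⟨O, hO, rfl⟩, hvO, -⟩ :=
    V.isBasis_affineOpens.exists_subset_of_mem_open (Set.mem_univ v) isOpen_univ
  let c := fieldHom v ι
  have hc : Set.range c ⊆ Set.range hO.fromSpec := by
    rintro _ ⟨z, rfl⟩
    rw [fieldHom_apply, hO.range_fromSpec]
    exact hvO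
  let R := Γ(V, O)
  let c₀ := IsOpenImmersion.lift hO.fromSpec c hc
  let θ : R →+* K := (Spec.preimage c₀).hom
  have hθ : Spec.map (CommRingCat.ofHom θ) ≫ hO.fromSpec = c := by
    have : Spec.map (CommRingCat.ofHom θ) = c₀ := Spec.map_preimage c₀
    rw [this]
    exact IsOpenImmersion.lift_fac hO.fromSpec c hc
  let p : Ideal R := RingHom.ker θ
  have : p.IsPrime := RingHom.ker_isPrime θ
  have hjF : p.primeCompl ≤ Submonoid.comap θ (IsUnit.submonoid K) := fun r hr => Ne.isUnit fun h0 => hr h0
  let jF : p.ResidueField →+* K := Ideal.ResidueField.lift p θ le_rfl hjF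
  letI : Algebra R K := θ.toAlgebra
  letI : Algebra p.ResidueField K := jF.toAlgebra
  haveI : IsScalarTower R p.ResidueField K := .of_algebraMap_eq fun r =>
    (Ideal.ResidueField.lift_algebraMap p θ le_rfl hjF r).symm
  -- the image of `κ(v)` and of `κ(p)` agree
  have hsep : ∀ e ∈ s, IsSeparable p.ResidueField e := by
    obtain ⟨x, φ, hφ⟩ := exists_fieldHom (Spec.map (CommRingCat.ofHom (algebraMap R p.ResidueField)) ≫ hO.fromSpec)
    have h2 : fieldHom x (jF.comp φ) = fieldHom v ι := by
      rw [← fieldHom_precomp, hφ, ← Category.assoc, ← Spec.map_comp]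
      refine Eq.trans ?_ hθ
      congr 2
      exact CommRingCat.hom_ext (RingHom.ext fun r => Ideal.ResidueField.lift_algebraMap p θ le_rfl hjF r)
    obtain rfl : x = v := by
      have h3 := congrArg (fun m => m (closedPoint K)) h2
      simpa only [fieldHom_apply] using h3
    have h4 := fieldHom_inj h2
    intro e he
    letI := φ.toAlgebra
    letI := ι.toAlgebra
    haveI : IsScalarTower (V.residueField x) p.ResidueField K := .of_algebraMap_eq fun a => by
      show ι a = jF (φ a)
      rw [← h4]
      rfl
    exact IsSeparable.tower_top p.ResidueField (hs e he)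
  let L := IntermediateField.adjoin p.ResidueField (s : Set K)
  haveI : Algebra.IsSeparable p.ResidueField L :=
    (IntermediateField.isSeparable_adjoin_iff_isSeparable _ _).2 hsep
  haveI : Module.Finite p.ResidueField L :=
    IntermediateField.finiteDimensional_adjoin fun e he => (hsep e he).isIntegral
  obtain ⟨R', _, _, _, ψ, hψ⟩ := S9435.result R p L
  let g₀ : Spec (CommRingCat.of R') ⟶ Spec R := Spec.map (CommRingCat.ofHom (algebraMap R R'))
  have hg₀ : Etale g₀ := (HasRingHomProperty.Spec_iff (P := @Etale)).2 (RingHom.etale_algebraMap.2 ‹_›)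
  let ψK : R' →+* K := (algebraMap L K).comp ψ.toRingHom
  obtain ⟨v', τ, hτ⟩ := exists_fieldHom (Spec.map (CommRingCat.ofHom ψK))
  refine ⟨Spec (CommRingCat.of R'), g₀ ≫ hO.fromSpec, v', τ, inferInstance, ?_, fun e he => ?_⟩
  · rw [← Category.assoc, hτ]
    refine Eq.trans ?_ hθ
    rw [← Spec.map_comp]
    congr 2
    refine CommRingCat.hom_ext (RingHom.ext fun r => ?_)
    show algebraMap L K (ψ (algebraMap R R' r)) = θ r
    rw [ψ.commutes, IsScalarTower.algebraMap_apply R p.ResidueField L, ← IsScalarTower.algebraMap_apply p.ResidueField L K,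
      ← IsScalarTower.algebraMap_apply R p.ResidueField K]
    rfl
  · have hle : Subfield.closure (Set.range ψ) ≤ τ.fieldRange.comap (algebraMap L K) := by
      refine Subfield.closure_le.2 ?_
      rintro _ ⟨r, rfl⟩
      obtain ⟨m, hm⟩ : ∃ m : CommRingCat.of R' ⟶ (Spec (CommRingCat.of R')).residueField v',
          Spec.map m = (Spec (CommRingCat.of R')).fromSpecResidueField v' := ⟨_, Spec.map_preimage _⟩
      have h5 : CommRingCat.ofHom ψK = m ≫ CommRingCat.ofHom τ :=
        Spec.map_injective (by rw [Spec.map_comp, hm]; exact hτ.symm)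
      exact ⟨m.hom r, (congrArg (fun k => k.hom r) h5).symm⟩
    obtain ⟨y, hy⟩ := hle (hψ ▸ Subfield.mem_top (⟨e, IntermediateField.subset_adjoin _ _ he⟩ : L))
    exact ⟨y, hy⟩

/-- on an algebraic residue extension an embedding is determined by its values on a finite set of separable elements -/
theorem exists_determining_set {F E K : Type u} [Field F] [Field E] [Field K] [Algebra F E]
    [Algebra.EssFiniteType F E] [Algebra.IsAlgebraic F E] (φ₀ : E →+* K) :
    ∃ s : Finset K, (∀ e ∈ s, letI := (φ₀.comp (algebraMap F E)).toAlgebra; IsSeparable F e) ∧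
      ∃ s₀ : Finset E, (∀ x ∈ s₀, φ₀ x ∈ s) ∧ ∀ {M : Type u} [Field M] (α β : E →+* M),
        α.comp (algebraMap F E) = β.comp (algebraMap F E) → (∀ x ∈ s₀, α x = β x) → α = β := by
  classical
  haveI : Module.Finite F E := Algebra.finite_of_essFiniteType_of_isAlgebraic
  let E₀ := separableClosure F E
  have hfin : Module.Finite F E₀ := inferInstance
  obtain ⟨t, ht⟩ := Module.finite_def.1 hfin
  let s₀ : Finset E := t.image E₀.val
  refine ⟨s₀.image φ₀, fun e he => ?_, s₀, fun x hx => Finset.mem_image_of_mem _ hx,
    fun {M} _ α β h1 h2 => ?_⟩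
  · obtain ⟨x, hx, rfl⟩ := Finset.mem_image.1 he
    obtain ⟨y, -, rfl⟩ := Finset.mem_image.1 hx
    letI := (φ₀.comp (algebraMap F E)).toAlgebra
    exact (mem_separableClosure_iff.1 y.2).map ({ φ₀ with commutes' := fun _ => rfl } : E →ₐ[F] K) φ₀.injective
  · have h3 : ∀ y : E₀, α y = β y := fun y => by
      have hy : y ∈ Submodule.span F (t : Set E₀) := ht ▸ Submodule.mem_top
      induction hy using Submodule.span_induction with
      | mem z hz => exact h2 _ (Finset.mem_image_of_mem _ hz)
      | zero => simp
      | add a b _ _ ha hb => simp [ha, hb]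
      | smul a z _ hz =>
        show α (a • (z : E)) = β (a • (z : E))
        rw [Algebra.smul_def, map_mul, map_mul, hz,
          show α (algebraMap F E a) = β (algebraMap F E a) from RingHom.congr_fun h1 a]
    refine RingHom.ext fun x => ?_
    let q := ringExpChar F
    haveI : ExpChar E q := expChar_of_injective_algebraMap (algebraMap F E).injective q
    haveI : ExpChar M q := expChar_of_injective_ringHom α.injective q
    haveI : ExpChar E₀ q := expChar_of_injective_algebraMap (algebraMap F E₀).injective q
    obtain ⟨n, y, hy⟩ := IsPurelyInseparable.pow_mem E₀ q x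
    refine (iterateFrobenius_inj M q n) ?_
    simp only [iterateFrobenius_def, ← map_pow]
    rw [← hy]
    exact h3 y

end Groth.Agent.AlgSpLib
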