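import Groth.Agent.AlgSpLib.GeomFibreComp
import Groth.Agent.AlgSpLib.SepSplit
import Groth.Agent.AlgSpLib.PointsTop
import Groth.Agent.Stk19b.AlgClosedPts
import Groth.Agent.VarietyLib.GeomComponents

/-!
Geometric connectedness of algebraic spaces is tested on finite separable extensions.
-/

universe u

open CategoryTheory CategoryTheory.Limits AlgebraicGeometry Topology Opposite
open AlgSp
open Groth.Agent.VarietyLib (sK)

noncomputable section

namespace Groth.Agent.AlgSpLib

set_option backward.isDefEq.respectTransparency.types false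
set_option maxHeartbeats 1000000

variable {S : Scheme.{u}} {k : Type u} [Field k] (str : Spec (CommRingCat.of k) ⟶ S)

/-- the spectrum of an extension of `k`, over `S` -/
abbrev extF (L : Type u) [Field L] [Algebra k L] : Over S := Over.mk (sK k L ≫ str)

/-- its projection -/
abbrev extFMap (L : Type u) [Field L] [Algebra k L] : extF str L ⟶ Over.mk str := Over.homMk (sK k L) rfl

/-- a space with connected base changes to finite separable extensions has connected separable closure base change -/
theorem connected_of_finite_separable {Z : AlgSp.Space S} (q : Z.obj ⟶ (yon S).obj (Over.mk str)) (K : Type u)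
    [Field K] [Algebra k K] [Algebra.IsSeparable k K]
    (h : ∀ (L : Type u) [Field L] [Algebra k L] [FiniteDimensional k L] [Algebra.IsSeparable k L],
      ConnectedSpace (Points (pullback q ((yon S).map (extFMap str L))))) :
    ConnectedSpace (Points (pullback q ((yon S).map (extFMap str K)))) := by
  obtain ⟨U, a, hae, has⟩ := Z.property.atlas
  obtain ⟨g, hg⟩ := (yon S).map_surjective (a ≫ q)
  let f : U.left ⟶ Spec (CommRingCat.of k) := g.left
  have hgw : f ≫ str = U.hom := Over.w g
  -- the chart of a base change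
  have chart : ∀ (L : Type u) [Field L] [Algebra k L],
      ∃ aL : (yon S).obj (Over.mk (pullback.fst f (sK k L) ≫ U.hom)) ⟶ pullback q ((yon S).map (extFMap str L)),
        RepWith @Etale aL ∧ RepWith @Surjective aL ∧
          IsPullback ((yon S).map (Over.homMk (pullback.fst f (sK k L)) rfl :
            Over.mk (pullback.fst f (sK k L) ≫ U.hom) ⟶ U)) aL a (pullback.fst q _) ∧
          aL ≫ pullback.snd q _ = (yon S).map (Over.homMk (pullback.snd f (sK k L)) (by
            show pullback.snd f (sK k L) ≫ sK k L ≫ str = pullback.fst f (sK k L) ≫ U.hom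
            rw [← pullback.condition_assoc, hgw]) : Over.mk (pullback.fst f (sK k L) ≫ U.hom) ⟶ extF str L) := by
    intro L _ _
    let p1 : Over.mk (pullback.fst f (sK k L) ≫ U.hom) ⟶ U := Over.homMk (pullback.fst f (sK k L)) rfl
    let p2 : Over.mk (pullback.fst f (sK k L) ≫ U.hom) ⟶ extF str L := Over.homMk (pullback.snd f (sK k L)) (by
      show pullback.snd f (sK k L) ≫ sK k L ≫ str = pullback.fst f (sK k L) ≫ U.hom
      rw [← pullback.condition_assoc, hgw])
    have sqO : IsPullback p1 p2 g (extFMap str L) :=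
      IsPullback.of_map (Over.forget S) (Over.OverMorphism.ext pullback.condition)
        (IsPullback.of_hasPullback f (sK k L))
    have sqY := sqO.map (yon S)
    rw [hg] at sqY
    have sqZ := IsPullback.of_hasPullback q ((yon S).map (extFMap str L))
    let aL := pullback.lift ((yon S).map p1 ≫ a) ((yon S).map p2) ((Category.assoc _ _ _).trans sqY.w)
    have h1 : aL ≫ pullback.fst q _ = (yon S).map p1 ≫ a := pullback.lift_fst _ _ _
    have h2 : aL ≫ pullback.snd q _ = (yon S).map p2 := pullback.lift_snd _ _ _
    have sqA : IsPullback ((yon S).map p1) aL a (pullback.fst q _) :=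
      IsPullback.of_bot (v₂₁ := pullback.snd q _) (v₂₂ := q) (h₃₁ := (yon S).map (extFMap str L))
        (by rw [h2]; exact sqY) h1.symm sqZ
    exact ⟨aL, RepWith.baseChange sqA hae, RepWith.baseChange sqA has, sqA, h2⟩
  choose aA hAe hAs sqA hAsnd using chart
  have hne : Nonempty (Points (pullback q ((yon S).map (extFMap str K)))) := by
    have hk := h k
    obtain ⟨z⟩ := hk.toNonempty
    obtain ⟨w, -⟩ := surjective_ofPt (aA k) (hAs k) z
    obtain ⟨y, -⟩ := VarietyLib.surjective_fst k f (L := K) (pullback.fst f (sK k k) w)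
    exact ⟨Points.ofPt (aA K) y⟩
  refine @ConnectedSpace.mk _ _ ⟨?_⟩ hne
  refine (preconnectedSpace_iff_clopen.2 fun A hA => ?_).isPreconnected_univ
  by_contra hcon
  rw [not_or] at hcon
  obtain ⟨a₀, ha₀⟩ := Set.nonempty_iff_ne_empty.2 hcon.1
  obtain ⟨y, hy⟩ := (Set.ne_univ_iff_exists_notMem A).1 hcon.2
  obtain ⟨v, rfl⟩ := surjective_ofPt (aA K) (hAs K) y
  obtain ⟨σ, hσ⟩ := H8Lim.exists_finset_nhd f K
    (hA.compl.2.preimage (Points.continuous_ofPt (aA K))) (p := v) hy
  let L : IntermediateField k K := IntermediateField.adjoin k (σ : Set K)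
  have : FiniteDimensional k L := IntermediateField.finiteDimensional_adjoin fun x _ => Algebra.IsIntegral.isIntegral x
  have : Algebra.IsSeparable k L := Algebra.isSeparable_tower_bot_of_isSeparable k L K
  have hL := h L
  obtain ⟨O', hO'⟩ := hσ L.toSubalgebra (IntermediateField.subset_adjoin k _)
  obtain ⟨hmem, hsub⟩ := hO' (VarietyLib.tr k f L K) (VarietyLib.tr_fst k f L _) (pullback.lift_snd _ _ _)
  let e : extF str K ⟶ extF str L := Over.homMk (sK L K) (by
    show sK L K ≫ sK k L ≫ str = sK k K ≫ str
    rw [← Category.assoc, ← Spec.map_comp, ← CommRingCat.ofHom_comp, ← IsScalarTower.algebraMap_eq])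
  have he : e ≫ extFMap str L = extFMap str K := Over.OverMorphism.ext (by
    show sK L K ≫ sK k L = sK k K
    rw [← Spec.map_comp, ← CommRingCat.ofHom_comp, ← IsScalarTower.algebraMap_eq])
  let κ : pullback q ((yon S).map (extFMap str K)) ⟶ pullback q ((yon S).map (extFMap str L)) :=
    pullback.lift (pullback.fst q _) (pullback.snd q _ ≫ (yon S).map e)
      (by rw [pullback.condition, Category.assoc, ← Functor.map_comp, he])
  let t : Over.mk (pullback.fst f (sK k K) ≫ U.hom) ⟶ Over.mk (pullback.fst f (sK k L) ≫ U.hom) :=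
    Over.homMk (VarietyLib.tr k f L K) (by
      show VarietyLib.tr k f L K ≫ pullback.fst f (sK k L) ≫ U.hom = pullback.fst f (sK k K) ≫ U.hom
      rw [← Category.assoc, VarietyLib.tr_fst])
  have hw : (yon S).map t ≫ aA L = aA K ≫ κ := by
    apply pullback.hom_ext
    · rw [Category.assoc, Category.assoc, pullback.lift_fst, ← (sqA L).w, ← (sqA K).w, ← Category.assoc,
        ← Functor.map_comp]
      congr 2
      exact Over.OverMorphism.ext (VarietyLib.tr_fst k f L K)
    · rw [Category.assoc, Category.assoc, pullback.lift_snd, hAsnd L]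
      refine ((Functor.map_comp _ _ _).symm.trans (congrArg ((yon S).map) ?_)).trans ((Functor.map_comp _ _ _).trans
        (((congrArg (· ≫ (yon S).map e) (hAsnd K)).symm).trans (Category.assoc _ _ _)))
      exact Over.OverMorphism.ext (pullback.lift_snd _ _ _)
  have sqT : IsPullback ((yon S).map t) (aA K) (aA L) κ := by
    refine IsPullback.of_right ?_ hw (sqA L)
    rw [pullback.lift_fst, ← Functor.map_comp]
    exact (show t ≫ (Over.homMk (pullback.fst f (sK k L)) rfl :
      Over.mk (pullback.fst f (sK k L) ≫ U.hom) ⟶ U) = Over.homMk (pullback.fst f (sK k K)) rfl from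
      Over.OverMorphism.ext (VarietyLib.tr_fst k f L K)) ▸ sqA K
  have hlift : ∀ (z : Points (pullback q ((yon S).map (extFMap str K)))) (w : ↥(pullback f (sK k L))),
      Points.map κ z = Points.ofPt (aA L) w →
      ∃ r, Points.ofPt (aA K) r = z ∧ VarietyLib.tr k f L K r = w := fun z w e' => by
    rw [Points.ofPt_eq_map_ofScheme] at e'
    obtain ⟨p, hp1, hp2⟩ := exists_point_of_isPullback sqT e'.symm
    obtain ⟨r, rfl⟩ := (Points.schemeEquiv _).surjective p
    exact ⟨r, (Points.ofPt_eq_map_ofScheme _ _).trans hp2,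
      (Points.schemeEquiv _).injective ((map_yon_map_ofScheme t r).symm.trans hp1)⟩
  have hdown : ∀ r, Points.map κ (Points.ofPt (aA K) r) = Points.ofPt (aA L) (VarietyLib.tr k f L K r) := fun r => by
    rw [Points.map_ofPt, ← hw, ofPt_map]
    rfl
  -- the image of `A` is clopen
  let B := Points.map κ '' A
  have hB : Points.ofPt (aA L) ⁻¹' B = VarietyLib.tr k f L K '' (Points.ofPt (aA K) ⁻¹' A) := by
    ext w
    constructor
    · rintro ⟨z, hz, e'⟩
      obtain ⟨r, rfl, hr⟩ := hlift z w e'
      exact ⟨r, hz, hr⟩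
    · rintro ⟨r, hr, rfl⟩
      exact ⟨_, hr, hdown r⟩
  have : IsIntegralHom (sK L K) := (IsIntegralHom.SpecMap_iff).2 (algebraMap_isIntegral_iff.2 inferInstance)
  have : IsIntegralHom (VarietyLib.tr k f L K) :=
    MorphismProperty.of_isPullback (P := @IsIntegralHom) (VarietyLib.isPullback_tr k f L K).flip ‹_›
  have hqm : IsQuotientMap (Points.ofPt (aA L)) :=
    (isOpenMap_ofPt (aA L) (hAe L)).isQuotientMap (Points.continuous_ofPt _) (surjective_ofPt _ (hAs L))
  have hBc : IsClopen B := by
    refine ⟨hqm.isClosed_preimage.1 ?_, hqm.isOpen_preimage.1 ?_⟩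
    · rw [hB]
      exact (VarietyLib.tr k f L K).isClosedMap _ (hA.1.preimage (Points.continuous_ofPt _))
    · rw [hB]
      exact VarietyLib.isOpenMap_tr k f L K _ (hA.2.preimage (Points.continuous_ofPt _))
  have hB1 : B = Set.univ :=
    hBc.eq_univ ⟨_, Set.mem_image_of_mem _ ha₀⟩
  obtain ⟨z, hz, hzy⟩ : Points.ofPt (aA L) (VarietyLib.tr k f L K v) ∈ B := hB1 ▸ Set.mem_univ _
  obtain ⟨r, rfl, hr⟩ := hlift z _ hzy
  exact hsub (show r ∈ VarietyLib.tr k f L K ⁻¹' O' from (show VarietyLib.tr k f L K r ∈ O' from hr ▸ hmem)) hz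

theorem connectedSpace_of_surjective_map {A B : Sp S} {m : A ⟶ B} (hm : RepWith @Surjective m)
    (h : ConnectedSpace (Points A)) : ConnectedSpace (Points B) :=
  (surjective_map_of_repWith hm).connectedSpace (Points.continuous_map m)

/-- the criterion at a geometric point -/
theorem geomFibre_connected_iff {X Y : AlgSp.Space S} (f : X ⟶ Y) (yb : FieldPt Y.obj) (hyb : yb.IsGeometric)
    (Xyb : Sp S) (fst : Xyb ⟶ X.obj) (snd : Xyb ⟶ (yon S).obj yb.pt) (h : IsPullback fst snd f.hom yb.toHom) :
    ConnectedSpace (Points Xyb) ↔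
      ∀ (V : Over S) (a : (yon S).obj V ⟶ Y.obj), RepWith @Etale a →
        ∀ (v : ↥V.left) (c : yb.pt ⟶ V), (yon S).map c ≫ a = yb.toHom →
          c.left (IsLocalRing.closedPoint yb.K) = v →
          ∀ (Xv : Sp S) (fst' : Xv ⟶ X.obj)
            (snd' : Xv ⟶ (yon S).obj (Over.mk (V.left.fromSpecResidueField v ≫ V.hom))),
            IsPullback fst' snd' f.hom ((yon S).map (Over.homMk (V.left.fromSpecResidueField v) rfl :
              Over.mk (V.left.fromSpecResidueField v ≫ V.hom) ⟶ V) ≫ a) →
            ConnectedSpace (Points Xv) := by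
  have : IsAlgClosed yb.K := hyb
  constructor
  · intro hc V a _ v c hca hcv Xv fst' snd' sq
    subst hcv
    let c' : Spec (CommRingCat.of yb.K) ⟶ V.left := c.left
    let ρ := Spec.map (V.left.descResidueField (Scheme.stalkClosedPointTo c'))
    have hρ : ρ ≫ V.left.fromSpecResidueField _ = c' :=
      Scheme.descResidueField_stalkClosedPointTo_fromSpecResidueField _ _ c'
    let r : yb.pt ⟶ Over.mk (V.left.fromSpecResidueField (c' (IsLocalRing.closedPoint yb.K)) ≫ V.hom) :=
      Over.homMk ρ (by
        show ρ ≫ V.left.fromSpecResidueField _ ≫ V.hom = yb.str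
        rw [← Category.assoc, hρ]
        exact Over.w c)
    have hrj : r ≫ (Over.homMk (V.left.fromSpecResidueField _) rfl :
        Over.mk (V.left.fromSpecResidueField (c' (IsLocalRing.closedPoint yb.K)) ≫ V.hom) ⟶ V) = c :=
      Over.OverMorphism.ext hρ
    have h' : IsPullback fst snd f.hom ((yon S).map r ≫ _ ≫ a) :=
      (show yb.toHom = (yon S).map r ≫ (yon S).map (Over.homMk (V.left.fromSpecResidueField _) rfl :
        Over.mk (V.left.fromSpecResidueField (c' (IsLocalRing.closedPoint yb.K)) ≫ V.hom) ⟶ V) ≫ a by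
          rw [← Category.assoc, ← Functor.map_comp, hrj, hca]) ▸ h
    let m := sq.lift fst (snd ≫ (yon S).map r) (by rw [h'.w, Category.assoc])
    have sqm : IsPullback m snd snd' ((yon S).map r) :=
      IsPullback.of_right (by rw [sq.lift_fst]; exact h') (sq.lift_snd _ _ _) sq
    have hsr : Surjective r.left := ⟨fun z => ⟨IsLocalRing.closedPoint yb.K,
      Subsingleton.elim (α := ↥(Spec (V.left.residueField (c' (IsLocalRing.closedPoint yb.K))))) _ _⟩⟩
    exact connectedSpace_of_surjective_map
      (RepWith.baseChange sqm.flip ((repWith_yon_map_iff (P := @Surjective) r).2 hsr)) hc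
  · intro hall
    obtain ⟨V, b, hbe, hbs⟩ := Y.property.atlas
    have sqT := hbs.1.isPullback yb.toHom
    have : Surjective (hbs.1.snd yb.toHom).left := hbs.property_snd _
    have hlft : LocallyOfFiniteType (hbs.1.snd yb.toHom).left := by
      have : Etale (hbs.1.snd yb.toHom).left := hbe.2 _ _ _ sqT
      infer_instance
    obtain ⟨w, hw⟩ := Stk19b.exists_section_algClosed yb.K yb.str ⟨_, IsAlgSpace.yon_obj (hbs.1.pullback yb.toHom)⟩
      ((yon S).map (hbs.1.snd yb.toHom))
      (locP_of_repWith etLocal_lft (IsAlgSpace.yon_obj _)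
        ((repWith_yon_map_iff (P := @LocallyOfFiniteType) _).2 hlft))
      (surjective_map_of_repWith ((repWith_yon_map_iff (P := @Surjective) _).2 ‹_›))
    obtain ⟨c, hc⟩ := (yon S).map_surjective (w ≫ hbs.1.fst yb.toHom)
    have hcb : (yon S).map c ≫ b = yb.toHom := by
      rw [hc, Category.assoc, sqT.w, ← Category.assoc, hw, Category.id_comp]
    obtain ⟨v, ι, hι⟩ := exists_fieldHom (show Spec (CommRingCat.of yb.K) ⟶ V.left from c.left)
    letI := ι.toAlgebra
    let k := V.left.residueField v
    let str : Spec (CommRingCat.of k) ⟶ S := V.left.fromSpecResidueField v ≫ V.hom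
    let j : Over.mk str ⟶ V := Over.homMk (V.left.fromSpecResidueField v) rfl
    let Xk : AlgSp.Space S := ⟨pullback f.hom ((yon S).map j ≫ b),
      isAlgSpace_pullback (X := X) (Y := ⟨_, IsAlgSpace.yon_obj (Over.mk str)⟩) (Z := Y) f.hom ((yon S).map j ≫ b)⟩
    let q : Xk.obj ⟶ (yon S).obj (Over.mk str) := pullback.snd _ _
    let M := separableClosure k yb.K
    have hM : ConnectedSpace (Points (pullback q ((yon S).map (extFMap str M)))) := by
      refine connected_of_finite_separable str q M fun L _ _ _ _ => ?_
      classical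
      let φ : L →ₐ[k] yb.K := IsSepClosed.lift
      have hfd : Module.Finite k L := inferInstance
      obtain ⟨t, ht⟩ := Module.finite_def.1 hfd
      obtain ⟨V₀, g₀, v', τ, hg₀, hτ, hspl⟩ := exists_etale_split v ι (t.image φ) (fun e he => by
        obtain ⟨x, -, rfl⟩ := Finset.mem_image.1 he
        exact (Algebra.IsSeparable.isSeparable k x).map φ φ.injective)
      let V' : Over S := Over.mk (g₀ ≫ V.hom)
      let g : V' ⟶ V := Over.homMk g₀ rfl
      have hvv : g₀ v' = v := by
        have h3 := congrArg (fun m => m (IsLocalRing.closedPoint yb.K)) hτ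
        rw [fieldHom_comp] at h3
        simpa only [fieldHom_apply] using h3
      subst hvv
      have hτ' : τ.comp (g₀.residueFieldMap v').hom = ι := fieldHom_inj ((fieldHom_comp g₀ v' τ).symm.trans hτ)
      let χ : V₀.residueField v' →+* yb.K := τ
      have hsub : ∀ x : L, φ x ∈ τ.fieldRange := fun x => by
        have hx := (SetLike.ext_iff.1 ht x).2 Submodule.mem_top
        induction hx using Submodule.span_induction with
        | mem z hz => exact hspl _ (Finset.mem_image_of_mem _ hz)
        | zero => rw [map_zero]; exact zero_mem _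
        | add a b _ _ ha hb => rw [map_add]; exact add_mem ha hb
        | smul a z _ hz =>
          rw [Algebra.smul_def, map_mul, φ.commutes]
          exact mul_mem ⟨(g₀.residueFieldMap v').hom a, RingHom.congr_fun hτ' a⟩ hz
      let eτ : V₀.residueField v' ≃+* τ.fieldRange := RingEquiv.ofBijective _ τ.rangeRestrictField_bijective
      let ψ : L →+* V₀.residueField v' :=
        (eτ.symm.toRingHom).comp (φ.toRingHom.codRestrict τ.fieldRange hsub)
      have hψτ : ∀ x, τ (ψ x) = φ x := fun x =>
        congrArg Subtype.val (eτ.apply_symm_apply (φ.toRingHom.codRestrict τ.fieldRange hsub x))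
      have hψ : ψ.comp (algebraMap k L) = (g₀.residueFieldMap v').hom := RingHom.ext fun a => τ.injective (by
        rw [RingHom.comp_apply, hψτ, φ.commutes]
        exact (RingHom.congr_fun hτ' a).symm)
      let str' : Spec (CommRingCat.of (V₀.residueField v')) ⟶ S := V₀.fromSpecResidueField v' ≫ V'.hom
      let c₁ : yb.pt ⟶ V' := Over.homMk (fieldHom v' τ) (by
        show fieldHom v' τ ≫ g₀ ≫ V.hom = yb.str
        rw [← Category.assoc, hτ, hι]
        exact Over.w c)
      have hc₁ : (yon S).map c₁ ≫ (yon S).map g ≫ b = yb.toHom := by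
        rw [← Category.assoc, ← Functor.map_comp, ← hcb]
        exact congrArg (fun m => (yon S).map m ≫ b) (Over.OverMorphism.ext (hτ.trans hι))
      have hfib := hall V' ((yon S).map g ≫ b) (RepWith.comp ((repWith_yon_map_iff (P := @Etale) g).2 hg₀) hbe)
        v' c₁ hc₁ (fieldHom_apply _ _ _) _ _ _ (IsPullback.of_hasPullback _ _)
      let r : Over.mk str' ⟶ extF str L := Over.homMk (Spec.map (CommRingCat.ofHom ψ)) (by
        show Spec.map _ ≫ sK k L ≫ V.left.fromSpecResidueField _ ≫ V.hom = V₀.fromSpecResidueField v' ≫ g₀ ≫ V.hom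
        rw [← Category.assoc, ← Spec.map_comp, ← CommRingCat.ofHom_comp, hψ, CommRingCat.ofHom_hom,
          Scheme.Hom.SpecMap_residueFieldMap_fromSpecResidueField_assoc])
      have hr : r ≫ extFMap str L ≫ j = (Over.homMk (V₀.fromSpecResidueField v') rfl : Over.mk str' ⟶ V') ≫ g :=
        Over.OverMorphism.ext (by
          show Spec.map _ ≫ sK k L ≫ V.left.fromSpecResidueField _ = V₀.fromSpecResidueField v' ≫ g₀
          rw [← Category.assoc, ← Spec.map_comp, ← CommRingCat.ofHom_comp, hψ, CommRingCat.ofHom_hom,
            Scheme.Hom.SpecMap_residueFieldMap_fromSpecResidueField])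
      have sqL := (IsPullback.of_hasPullback q ((yon S).map (extFMap str L))).paste_horiz
        (IsPullback.of_hasPullback f.hom ((yon S).map j ≫ b))
      have sqV := IsPullback.of_hasPullback f.hom ((yon S).map (Over.homMk (V₀.fromSpecResidueField v') rfl :
        Over.mk str' ⟶ V') ≫ (yon S).map g ≫ b)
      have er : (yon S).map r ≫ (yon S).map (extFMap str L) ≫ (yon S).map j ≫ b =
          (yon S).map (Over.homMk (V₀.fromSpecResidueField v') rfl : Over.mk str' ⟶ V') ≫ (yon S).map g ≫ b := by
        simp only [← Category.assoc, ← Functor.map_comp]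
        rw [Category.assoc r, hr]
      let m := sqL.lift (pullback.fst _ _) (pullback.snd _ _ ≫ (yon S).map r) (by rw [sqV.w, Category.assoc, er])
      have sqm := IsPullback.of_right (h₁₁ := m) (by rw [sqL.lift_fst, er]; exact sqV) (sqL.lift_snd _ _ _) sqL
      have hsr : Surjective r.left := ⟨fun z => ⟨IsLocalRing.closedPoint (V₀.residueField v'),
        Subsingleton.elim (α := ↥(Spec (CommRingCat.of L))) _ _⟩⟩
      exact connectedSpace_of_surjective_map
        (RepWith.baseChange sqm.flip ((repWith_yon_map_iff (P := @Surjective) r).2 hsr)) hfib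
    let cM : yb.pt ⟶ extF str M := Over.homMk (Spec.map (CommRingCat.ofHom (algebraMap M yb.K))) (by
      show Spec.map _ ≫ sK k M ≫ V.left.fromSpecResidueField v ≫ V.hom = yb.str
      rw [← Category.assoc, ← Spec.map_comp, ← CommRingCat.ofHom_comp, ← IsScalarTower.algebraMap_eq,
        ← Category.assoc]
      exact (congrArg (· ≫ V.hom) hι).trans (Over.w c))
    have hcM : cM ≫ extFMap str M ≫ j = c := Over.OverMorphism.ext (by
      show Spec.map _ ≫ sK k M ≫ V.left.fromSpecResidueField v = c.left
      rw [← Category.assoc, ← Spec.map_comp, ← CommRingCat.ofHom_comp, ← IsScalarTower.algebraMap_eq]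
      exact hι)
    have sqM := (IsPullback.of_hasPullback q ((yon S).map (extFMap str M))).paste_horiz
      (IsPullback.of_hasPullback f.hom ((yon S).map j ≫ b))
    have eM : (yon S).map cM ≫ (yon S).map (extFMap str M) ≫ (yon S).map j ≫ b = yb.toHom := by
      simp only [← Category.assoc, ← Functor.map_comp]
      rw [Category.assoc cM, hcM, hcb]
    have : IsSepClosed M := (IsSepClosure.sep_closed k : IsSepClosed M)
    have hZM : IsAlgSpace (pullback q ((yon S).map (extFMap str M))) :=
      isAlgSpace_pullback (X := Xk) (Y := ⟨_, IsAlgSpace.yon_obj _⟩) (Z := ⟨_, IsAlgSpace.yon_obj _⟩) q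
        ((yon S).map (extFMap str M))
    let m := sqM.lift fst (snd ≫ (yon S).map cM) (by rw [h.w, Category.assoc, eM])
    have sqc : IsPullback m snd (pullback.snd q _) ((yon S).map cM) :=
      IsPullback.of_right (by rw [sqM.lift_fst, eM]; exact h) (sqM.lift_snd _ _ _) sqM
    have hcard := card_components_bc_field cM hZM sqc
    have hne : Nonempty (_root_.ConnectedComponents (Points (pullback q ((yon S).map (extFMap str M))))) :=
      hM.toNonempty.map ConnectedComponents.mk
    obtain ⟨hu⟩ := ENat.card_eq_one_iff_unique.1 (hcard.trans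
      (ENat.card_eq_one_iff_unique.2 ⟨@uniqueOfSubsingleton _ inferInstance hne.some⟩))
    haveI : Unique (_root_.ConnectedComponents (Points Xyb)) := hu
    have : Nonempty (Points Xyb) := ConnectedComponents.surjective_coe.nonempty
    exact { toPreconnectedSpace := preconnectedSpace_iff_connectedComponent.2 fun x =>
              Set.eq_univ_of_forall fun y => ConnectedComponents.coe_eq_coe'.1 (Subsingleton.elim _ _)
            toNonempty := this }

end Groth.Agent.AlgSpLib
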