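import Groth.Agent.AlgSpLib.GeomConn
import Groth.Prelude.Def_AlgSp4
import Groth.Prelude.Def_AlgSpDec

/-!
Connected components of geometric fibres of morphisms of algebraic spaces.
-/

universe u

open CategoryTheory CategoryTheory.Limits AlgebraicGeometry Topology Opposite
open AlgSp

noncomputable section

namespace Groth.Agent.AlgSpLib

set_option backward.isDefEq.respectTransparency.types false

variable {S : Scheme.{u}} {X Y : Sp S}

theorem toHom_comp_eq_of_val_eq {T : Over S} (p q : FieldPt Y) (a : T ⟶ p.pt) (b : T ⟶ q.pt)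
    (h : Y.obj.map a.op p.val = Y.obj.map b.op q.val) :
    (yon S).map a ≫ p.toHom = (yon S).map b ≫ q.toHom := by
  refine (J S).uliftYonedaEquiv.injective
    (show p.toHom.hom.app (op T) ⟨𝟙 T ≫ a⟩ = q.toHom.hom.app (op T) ⟨𝟙 T ≫ b⟩ from ?_)
  rw [FieldPt.toHom_app, FieldPt.toHom_app, Category.id_comp, Category.id_comp]
  exact h

/-- field extensions of a separably closed field do not change connected components -/
theorem card_components_bc_field {K L : Type u} [Field K] [IsSepClosed K] [Field L] {sK : Spec (CommRingCat.of K) ⟶ S}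
    {sL : Spec (CommRingCat.of L) ⟶ S} (c : Over.mk sL ⟶ Over.mk sK) {F F' : Sp S} (hF : IsAlgSpace F)
    {ρ : F' ⟶ F} {b' : F' ⟶ (yon S).obj (Over.mk sL)} {b : F ⟶ (yon S).obj (Over.mk sK)}
    (sq : IsPullback ρ b' b ((yon S).map c)) :
    ENat.card (_root_.ConnectedComponents (Points F')) = ENat.card (_root_.ConnectedComponents (Points F)) := by
  obtain ⟨φ, hφ⟩ := Spec.map_surjective (show Spec (CommRingCat.of L) ⟶ Spec (CommRingCat.of K) from c.left)
  letI : Algebra K L := φ.hom.toAlgebra
  have e : c.left = Spec.map (CommRingCat.ofHom (algebraMap K L)) := hφ.symm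
  have : Subsingleton ↥(Over.mk sK).left := inferInstanceAs (Subsingleton ↥(Spec (CommRingCat.of K)))
  have : IsIntegral (Over.mk sK).left := inferInstanceAs (IsIntegral (Spec (CommRingCat.of K)))
  have hs : Surjective c.left := ⟨fun z => ⟨IsLocalRing.closedPoint L, Subsingleton.elim _ _⟩⟩
  have ho : UniversallyOpen c.left := inferInstance
  have hc : GeometricallyConnected c.left := e ▸ Et18.H0Lift.geometricallyConnected_algSpec K L
  obtain ⟨h1, h2, h3⟩ := topology_map_of_repWith hF (RepWith.baseChange sq.flip ((repWith_yon_map_iff _ c).2 hs))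
  have hq : IsQuotientMap (Points.map ρ) :=
    (h2 (RepWith.baseChange sq.flip ((repWith_yon_map_iff _ c).2 ho))).isQuotientMap (Points.continuous_map _) h1
  exact ENat.card_congr (Equiv.ofBijective _ (hq.isCoinducing.connectedComponentsMap_bijective
    (h3 (RepWith.baseChange sq.flip ((repWith_yon_map_iff _ c).2 hc)))))

/-- the number of components of a geometric fibre depends only on the point -/
theorem card_components_geomFibre (hX : IsAlgSpace X) (hY : IsAlgSpace Y) (f : X ⟶ Y) (p q : FieldPt Y)
    (hp : p.IsGeometric) (hq : q.IsGeometric) (h : Points.mk p = Points.mk q)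
    {Xp : Sp S} {a : Xp ⟶ X} {b : Xp ⟶ (yon S).obj p.pt} (sqp : IsPullback a b f p.toHom)
    {Xq : Sp S} {a' : Xq ⟶ X} {b' : Xq ⟶ (yon S).obj q.pt} (sqq : IsPullback a' b' f q.toHom) :
    ENat.card (_root_.ConnectedComponents (Points Xp)) = ENat.card (_root_.ConnectedComponents (Points Xq)) := by
  obtain ⟨Ω, _, w, c, d, hcd⟩ := Points.mk_eq_mk_iff.1 h
  have e := toHom_comp_eq_of_val_eq p q c d hcd
  have := hp
  have := hq
  have h1 := IsPullback.of_hasPullback b ((yon S).map c)
  have h2 := IsPullback.of_hasPullback b' ((yon S).map d)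
  have hXp := isAlgSpace_of_isPullback hY.diag hX (IsAlgSpace.yon_obj _) sqp
  have hXq := isAlgSpace_of_isPullback hY.diag hX (IsAlgSpace.yon_obj _) sqq
  have : IsSepClosed p.K := by have : IsAlgClosed p.K := hp; infer_instance
  have : IsSepClosed q.K := by have : IsAlgClosed q.K := hq; infer_instance
  rw [← card_components_bc_field c hXp h1, ← card_components_bc_field d hXq h2]
  let i := (h1.paste_horiz sqp).isoIsPullback _ _ (e.symm ▸ h2.paste_horiz sqq)
  let H := pointsHomeo i
  refine ENat.card_congr (Equiv.ofBijective _ (H.isQuotientMap.isCoinducing.connectedComponentsMap_bijective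
    fun z => ?_))
  rw [show H ⁻¹' {z} = {H.symm z} by rw [← H.image_symm, Set.image_singleton]]
  exact isConnected_singleton

end Groth.Agent.AlgSpLib
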