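import Groth.Agent.AlgSpLib.GeomReducedPt
import Groth.Agent.AlgSpLib.FlatAt
import Groth.Agent.AlgSpLib.DecentPoints
import Groth.Agent.AlgSpLib.WhereLocus
import Groth.Agent.AlgSpLib.PointsCompact
import Groth.Agent.AlgSpLib.MorMore2
import Groth.Agent.FlatMorGeomRed.Constr
import Groth.Agent.S2549
import Groth.Prelude.Def_AlgSp4

/-!
Geometrically reduced fibres of morphisms of algebraic spaces, read on charts.
-/

universe u

open CategoryTheory CategoryTheory.Limits AlgebraicGeometry
open AlgSp

noncomputable section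

namespace Groth.Agent.AlgSpLib

set_option backward.isDefEq.respectTransparency.types false

variable {S : Scheme.{u}} {X Y : Sp S}

/-- all field extensions of the fibre over a field point are reduced -/
def GeomRedFib (f : X ⟶ Y) (k : FieldPt Y) : Prop :=
  ∀ (k' : Type u) [Field k'] (φ : k.K →+* k') (Xk' : Sp S) (a : Xk' ⟶ X)
    (b : Xk' ⟶ (yon S).obj (Over.mk (Spec.map (CommRingCat.ofHom φ) ≫ k.str))),
    IsPullback a b f ((yon S).map (Over.homMk (Spec.map (CommRingCat.ofHom φ)) rfl :
      Over.mk (Spec.map (CommRingCat.ofHom φ) ≫ k.str) ⟶ k.pt) ≫ k.toHom) →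
    EtaleLocally (fun U => IsReduced U) Xk'

/-- the fibre of an etale map between sources is etale -/
theorem geomReducedAt_fibre_of_etale {R U V : Scheme.{u}} (e : R ⟶ U) [Etale e] (g : U ⟶ V) (r : R) :
    FBase.IsGeomReducedAt ((e ≫ g).fiberToSpecResidueField ((e ≫ g) r)) ((e ≫ g).asFiber r) ↔
      FBase.IsGeomReducedAt (g.fiberToSpecResidueField (g (e r))) (g.asFiber (e r)) := by
  let y := g (e r)
  let E : (e ≫ g).fiber y ⟶ g.fiber y :=
    pullback.lift (pullback.fst _ _ ≫ e) (pullback.snd _ _) ((Category.assoc _ _ _).trans pullback.condition)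
  have sq : IsPullback E (pullback.fst (e ≫ g) _) (pullback.fst g _) e :=
    IsPullback.of_right (h₁₂ := pullback.snd g (V.fromSpecResidueField y))
      (by rw [pullback.lift_snd]; exact (IsPullback.of_hasPullback (e ≫ g) _).flip)
      (pullback.lift_fst _ _ _) (IsPullback.of_hasPullback g _).flip
  have : Etale E := MorphismProperty.of_isPullback (P := @Etale) sq.flip inferInstance
  have hE : E ≫ g.fiberToSpecResidueField y = (e ≫ g).fiberToSpecResidueField y := pullback.lift_snd _ _ _
  have hz : E ((e ≫ g).asFiber r) = g.asFiber (e r) := by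
    apply (g.fiberι y).isEmbedding.injective
    rw [← Scheme.Hom.comp_apply]
    refine Eq.trans ?_ (Scheme.Hom.fiberι_asFiber g (e r)).symm
    rw [show E ≫ g.fiberι y = (e ≫ g).fiberι y ≫ e from pullback.lift_fst _ _ _, Scheme.Hom.comp_apply]
    exact congrArg _ (Scheme.Hom.fiberι_asFiber (e ≫ g) r)
  refine Iff.trans ?_ (iff_of_eq (congrArg _ hz))
  exact (iff_of_eq (congrArg (fun h => FBase.IsGeomReducedAt h ((e ≫ g).asFiber r)) hE.symm)).trans
    (isGeomReducedAt_iff_of_etale E (g.fiberToSpecResidueField y) _)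

theorem geomReducedAt_of_equalizer {R U V : Scheme.{u}} (m : U ⟶ V) (p q : R ⟶ U) [Etale p] [Etale q]
    (e : p ≫ m = q ≫ m) (r : R) {u u' : U} (hu : p r = u) (hu' : q r = u')
    (h : FBase.IsGeomReducedAt (m.fiberToSpecResidueField (m u)) (m.asFiber u)) :
    FBase.IsGeomReducedAt (m.fiberToSpecResidueField (m u')) (m.asFiber u') := by
  subst hu; subst hu'
  have key : ∀ (g₁ g₂ : R ⟶ V), g₁ = g₂ →
      FBase.IsGeomReducedAt (g₁.fiberToSpecResidueField (g₁ r)) (g₁.asFiber r) →
        FBase.IsGeomReducedAt (g₂.fiberToSpecResidueField (g₂ r)) (g₂.asFiber r) := by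
    rintro _ _ rfl; exact id
  exact (geomReducedAt_fibre_of_etale q m r).1 (key _ _ e ((geomReducedAt_fibre_of_etale p m r).2 h))

theorem geometricallyReduced_fiber_iff {U V : Scheme.{u}} (m : U ⟶ V) (v : V) :
    GeometricallyReduced (m.fiberToSpecResidueField v) ↔
      ∀ u : U, m u = v → FBase.IsGeomReducedAt (m.fiberToSpecResidueField (m u)) (m.asFiber u) := by
  rw [FlatMorGeomRed.geometricallyReduced_iff_forall (k := V.residueField v) (m.fiberToSpecResidueField v)]
  constructor
  · rintro h u rfl
    exact h _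
  · intro h z
    exact FlatMorGeomRed.isGeomReducedAt_of_asFiber m _ v ((m.range_fiberι v).le ⟨z, rfl⟩) z rfl
      (h _ ((m.range_fiberι v).le ⟨z, rfl⟩))

theorem flat_to_field {A : Scheme.{u}} {k : Type u} [Field k] (j : A ⟶ Spec (CommRingCat.of k)) : Flat j := by
  refine Flat.of_stalkMap _ fun a => ?_
  have hk : IsField ((Spec (CommRingCat.of k)).presheaf.stalk (j a)) := by
    have : DiscreteTopology ↥(Spec (CommRingCat.of k)) :=
      inferInstanceAs (DiscreteTopology (PrimeSpectrum k))
    exact SchMor12.isField_stalk_of_discrete _ _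
  let _ := hk.toField
  let _ := (j.stalkMap a).hom.toAlgebra
  exact (inferInstance : Module.Flat ((Spec (CommRingCat.of k)).presheaf.stalk (j a)) (A.presheaf.stalk a))

/-- geometrically reduced fibres, on a chart of the base change to a chart of the target -/
theorem geomRedFib_iff (hX : IsAlgSpace X) (hY : IsAlgSpace Y) (f : X ⟶ Y) {U V : Over S}
    (b : (yon S).obj V ⟶ Y) {ψ : (yon S).obj U ⟶ pullback f b} (hψe : RepWith @Etale ψ)
    (hψs : RepWith @Surjective ψ) {m : U ⟶ V} (hm : ψ ≫ pullback.snd f b = (yon S).map m) (v : ↥V.left) :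
    (∀ k : FieldPt Y, Points.mk k = Points.ofPt b v → GeomRedFib f k) ↔
      GeometricallyReduced (m.left.fiberToSpecResidueField v) := by
  constructor
  · intro h
    refine ⟨geometrically_iff_of_isClosedUnderIsomorphisms.2 fun K _ y => ?_⟩
    obtain ⟨φ, rfl⟩ := Spec.map_surjective y
    let k : FieldPt Y := FieldPt.ofPt b v
    let Tv : Over S := Over.mk (Spec.map (CommRingCat.ofHom φ.hom) ≫ k.str)
    let ι : Tv ⟶ V := Over.homMk (Spec.map φ ≫ V.left.fromSpecResidueField v) (Category.assoc _ _ _)
    have sqT := IsPullback.of_hasPullback f ((yon S).map ι ≫ b)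
    let U' : Over S := Over.mk (pullback.fst m.left ι.left ≫ U.hom)
    let pU : U' ⟶ U := Over.homMk (pullback.fst m.left ι.left)
    let qU : U' ⟶ Tv := Over.homMk (pullback.snd m.left ι.left) (by
      show _ = pullback.fst m.left ι.left ≫ U.hom
      rw [← Over.w m, ← Over.w ι, ← Category.assoc, ← pullback.condition, Category.assoc])
    have sqU : IsPullback pU qU m ι :=
      IsPullback.of_map (Over.forget S) (Over.OverMorphism.ext pullback.condition)
        (IsPullback.of_hasPullback m.left ι.left)
    obtain ⟨a', -, -, hae⟩ := exists_baseChange_chart hm sqU sqT hψe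
    have heq : (yon S).map (Over.homMk (Spec.map (CommRingCat.ofHom φ.hom)) rfl : Tv ⟶ k.pt) ≫ k.toHom =
        (yon S).map ι ≫ b := by
      rw [FieldPt.toHom_ofPt]
      refine (Category.assoc _ _ _).symm.trans (congrArg (· ≫ b) ?_)
      exact ((yon S).map_comp _ _).symm
    have hr := h k rfl K φ.hom _ (pullback.fst _ _) (pullback.snd f ((yon S).map ι ≫ b)) (Eq.mpr (congrArg (fun h => IsPullback _ _ f h) heq) sqT)
    have hred : IsReduced (pullback m.left ι.left) := isReduced_of_etaleLocally hr a' hae
    have : IsReduced (pullback m.left (Spec.map φ ≫ V.left.fromSpecResidueField v)) := hred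
    exact isReduced_of_isOpenImmersion
      (pullbackLeftPullbackSndIso m.left (V.left.fromSpecResidueField v) (Spec.map φ)).hom
  · intro h k hk k' _ φ Xk' α β sq
    let T' : Over S := Over.mk (Spec.map (CommRingCat.ofHom φ) ≫ k.str)
    let g : (yon S).obj T' ⟶ Y :=
      (yon S).map (Over.homMk (Spec.map (CommRingCat.ofHom φ)) rfl : T' ⟶ k.pt) ≫ k.toHom
    let t : ↥T'.left := IsLocalRing.closedPoint k'
    have hg : Points.ofPt g t = Points.ofPt b v := by
      rw [ofPt_eq_ptOfHom_of_field, ptOfHom_yon_map, ← hk, ← ptOfHom_toHom k]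
      exact (ofPt_eq_ptOfHom_of_field k.toHom _)
    have hR := hY.representable_from_yon g
    have sqR := hR.isPullback' b
    obtain ⟨r, hr1, hr2⟩ := (ofPt_eq_ofPt_iff sqR t v).1 hg
    let p := hR.fst' b
    let q := hR.snd b
    let T : Over S := Over.mk ((hR.pullback b).left.fromSpecResidueField r ≫ (hR.pullback b).hom)
    let j₀ : T ⟶ hR.pullback b := Over.homMk ((hR.pullback b).left.fromSpecResidueField r)
    let ι : T ⟶ V := j₀ ≫ q
    let j : T ⟶ T' := j₀ ≫ p
    have hc : (yon S).map ι ≫ b = (yon S).map j ≫ g := by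
      rw [Functor.map_comp, Functor.map_comp, Category.assoc, Category.assoc, sqR.w]
    have sqT := IsPullback.of_hasPullback f ((yon S).map ι ≫ b)
    let U' : Over S := Over.mk (pullback.fst m.left ι.left ≫ U.hom)
    let pU : U' ⟶ U := Over.homMk (pullback.fst m.left ι.left)
    let qU : U' ⟶ T := Over.homMk (pullback.snd m.left ι.left) (by
      show _ = pullback.fst m.left ι.left ≫ U.hom
      rw [← Over.w m, ← Over.w ι, ← Category.assoc, ← pullback.condition, Category.assoc])
    have sqU : IsPullback pU qU m ι :=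
      IsPullback.of_map (Over.forget S) (Over.OverMorphism.ext pullback.condition)
        (IsPullback.of_hasPullback m.left ι.left)
    obtain ⟨a₁, -, ha12, hae⟩ := exists_baseChange_chart hm sqU sqT hψe
    obtain ⟨a₂, ha21, ha22, has⟩ := exists_baseChange_chart hm sqU sqT hψs
    obtain ⟨a₃, ha31, ha32, ha3⟩ := exists_baseChange_chart hm sqU sqT (P := @Etale ⊓ @Surjective)
      ⟨hψe.1, fun _ _ g fst snd h => ⟨hψe.2 g fst snd h, hψs.2 g fst snd h⟩⟩
    have hred' : IsReduced (pullback m.left ι.left) := by
      subst hr2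
      have h' : IsReduced (pullback (m.left.fiberToSpecResidueField (q.left r))
          (Spec.map (q.left.residueFieldMap r))) :=
        GeometricallyReduced.geometrically_isReduced _ _ _ (IsPullback.of_hasPullback _ _)
      have : IsReduced (pullback (pullback.snd m.left (V.left.fromSpecResidueField (q.left r)))
          (Spec.map (q.left.residueFieldMap r))) := h'
      have h'' : IsReduced (pullback m.left
          (Spec.map (q.left.residueFieldMap r) ≫ V.left.fromSpecResidueField (q.left r))) :=
        isReduced_of_isOpenImmersion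
          (pullbackLeftPullbackSndIso m.left (V.left.fromSpecResidueField (q.left r))
            (Spec.map (q.left.residueFieldMap r))).inv
      have hι : Spec.map (q.left.residueFieldMap r) ≫ V.left.fromSpecResidueField (q.left r) = ι.left :=
        Scheme.Hom.SpecMap_residueFieldMap_fromSpecResidueField _ _
      exact isReduced_of_isOpenImmersion (pullback.congrHom (f₁ := m.left) rfl hι).inv
    let XT := pullback f ((yon S).map ι ≫ b)
    have hXT : EtaleLocally (fun U => IsReduced U) XT :=
      ⟨U', a₃, RepWith.mono (fun _ _ _ h => h.1) ha3, RepWith.mono (fun _ _ _ h => h.2) ha3, hred'⟩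
    obtain ⟨W, w, hwe, hws⟩ := (isAlgSpace_of_isPullback hY.diag hX (IsAlgSpace.yon_obj _) sq).atlas
    refine ⟨W, w, hwe, hws, ?_⟩
    obtain ⟨c, hc'⟩ := (yon S).map_surjective (w ≫ β)
    let ρ : XT ⟶ Xk' := sq.lift (pullback.fst _ _) (pullback.snd _ _ ≫ (yon S).map j) (by
      rw [Category.assoc, ← hc]; exact sqT.w)
    have sqρ : IsPullback ρ (pullback.snd f ((yon S).map ι ≫ b)) β ((yon S).map j) :=
      IsPullback.of_right (h₁₂ := α) (by rw [sq.lift_fst]; exact hc ▸ sqT) (sq.lift_snd _ _ _) sq
    let W' : Over S := Over.mk (pullback.fst c.left j.left ≫ W.hom)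
    let pW : W' ⟶ W := Over.homMk (pullback.fst c.left j.left)
    let qW : W' ⟶ T := Over.homMk (pullback.snd c.left j.left) (by
      show _ = pullback.fst c.left j.left ≫ W.hom
      rw [← Over.w c, ← Over.w j, ← Category.assoc, ← pullback.condition, Category.assoc])
    have sqW : IsPullback pW qW c j :=
      IsPullback.of_map (Over.forget S) (Over.OverMorphism.ext pullback.condition)
        (IsPullback.of_hasPullback c.left j.left)
    have sqW' := sqW.map (yon S)
    rw [hc'] at sqW'
    let w' : (yon S).obj W' ⟶ XT := sqρ.lift ((yon S).map pW ≫ w) ((yon S).map qW)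
      (by rw [Category.assoc]; exact sqW'.w)
    have sqw : IsPullback ((yon S).map pW) w' w ρ :=
      IsPullback.of_bot (by rw [sqρ.lift_snd]; exact sqW') (sqρ.lift_fst _ _ _).symm sqρ
    have : IsReduced (pullback c.left j.left) := isReduced_of_etaleLocally hXT w' (RepWith.baseChange sqw hwe)
    have : Flat j.left := flat_to_field (k := k') j.left
    have : Surjective j.left :=
      ⟨fun z => ⟨IsLocalRing.closedPoint _, Subsingleton.elim (α := ↥(Spec (CommRingCat.of k'))) _ _⟩⟩
    have hf1 : Flat (pullback.fst c.left j.left) := MorphismProperty.pullback_fst _ _ inferInstance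
    have hf2 : Surjective (pullback.fst c.left j.left) := MorphismProperty.pullback_fst _ _ inferInstance
    exact isReduced_of_flat_surjective (pullback.fst c.left j.left)

/-- the chart of the source induced by a chart of a base change -/
theorem chart_of_baseChange (f : X ⟶ Y) {U V : Over S} (b : (yon S).obj V ⟶ Y) (hbe : RepWith @Etale b)
    {ψ : (yon S).obj U ⟶ pullback f b} (hψe : RepWith @Etale ψ) {m : U ⟶ V}
    (hm : ψ ≫ pullback.snd f b = (yon S).map m) :
    RepWith @Etale (ψ ≫ pullback.fst f b) ∧ (ψ ≫ pullback.fst f b) ≫ f = (yon S).map m ≫ b :=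
  ⟨RepWith.comp hψe (RepWith.baseChange (IsPullback.of_hasPullback f b).flip hbe), by
    rw [Category.assoc, pullback.condition, ← Category.assoc, hm]⟩

/-- the locus of geometrically reduced fibres, on a chart -/
theorem preimage_geomRedLocus (hX : IsAlgSpace X) (hY : IsAlgSpace Y) (f : X ⟶ Y) {U V : Over S}
    (b : (yon S).obj V ⟶ Y) {ψ : (yon S).obj U ⟶ pullback f b} (hψe : RepWith @Etale ψ)
    (hψs : RepWith @Surjective ψ) {m : U ⟶ V} (hm : ψ ≫ pullback.snd f b = (yon S).map m) :
    Points.ofPt b ⁻¹' {y | ∀ k : FieldPt Y, Points.mk k = y → GeomRedFib f k} =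
      {v : ↥V.left | GeometricallyReduced (m.left.fiberToSpecResidueField v)} := by
  ext v
  exact geomRedFib_iff hX hY f b hψe hψs hm v

/-- the locus of geometrically reduced fibres of a flat universally closed lfp morphism is open -/
theorem isOpen_geomRedLocus (hX : IsAlgSpace X) (hY : IsAlgSpace Y) (f : X ⟶ Y) (hf : LocP @Flat f)
    (hp : LocP @LocallyOfFinitePresentation f) (hc : IsUnivClosedMor f) :
    IsOpen {y | ∀ k : FieldPt Y, Points.mk k = y → GeomRedFib f k} := by
  obtain ⟨V, b, hbe, hbs⟩ := hY.atlas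
  have hT := IsAlgSpace.yon_obj (S := S) V
  have sqP := IsPullback.of_hasPullback f b
  have hP := isAlgSpace_of_isPullback hY.diag hX hT sqP
  obtain ⟨U, ψ, hψe, hψs⟩ := hP.atlas
  obtain ⟨m, hm'⟩ := (yon S).map_surjective (ψ ≫ pullback.snd f b)
  have hm := hm'.symm
  obtain ⟨hae, haw⟩ := chart_of_baseChange f b hbe hψe hm
  have : Flat m.left := hf _ b m hae hbe haw
  have : LocallyOfFinitePresentation m.left := hp _ b m hae hbe haw
  have hq := (isOpenMap_ofPt b hbe).isQuotientMap (Points.continuous_ofPt b) (surjective_ofPt b hbs)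
  rw [← hq.isOpen_preimage, preimage_geomRedLocus hX hY f b hψe hψs hm]
  let Bad : Set ↥U.left :=
    {u | FBase.IsGeomReducedAt (m.left.fiberToSpecResidueField (m.left u)) (m.left.asFiber u)}ᶜ
  have hBad : IsClosed Bad := (Groth.Agent.S2549.result m.left).isClosed_compl
  have hsat : Points.ofPt ψ ⁻¹' (Points.ofPt ψ '' Bad) = Bad := by
    refine Set.Subset.antisymm ?_ (Set.subset_preimage_image _ _)
    rintro u ⟨u', hu', e⟩ hgood
    apply hu'
    have sqR := hψe.1.isPullback' ψ
    obtain ⟨r, hr1, hr2⟩ := (ofPt_eq_ofPt_iff sqR u u').1 e.symm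
    have : Etale (hψe.1.snd ψ).left := hψe.property_snd ψ
    have : Etale (hψe.1.fst' ψ).left := hψe.property _ _ _ sqR.flip
    have hcomp : (hψe.1.fst' ψ) ≫ m = (hψe.1.snd ψ) ≫ m := (yon S).map_injective (by
      rw [Functor.map_comp, Functor.map_comp, ← hm, ← Category.assoc, ← Category.assoc, sqR.w])
    exact geomReducedAt_of_equalizer m.left (hψe.1.fst' ψ).left (hψe.1.snd ψ).left
      ((congrArg (fun g => g.left) hcomp : _)) r hr1 hr2 hgood
  have hqψ := (isOpenMap_ofPt ψ hψe).isQuotientMap (Points.continuous_ofPt ψ) (surjective_ofPt ψ hψs)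
  have hclosed : IsClosed (Points.ofPt ψ '' Bad) := hqψ.isClosed_preimage.1 (hsat.symm ▸ hBad)
  have hmap : IsClosed (Points.ofScheme V ⁻¹' (Points.map (pullback.snd f b) '' (Points.ofPt ψ '' Bad))) :=
    (hc hT b (pullback.fst f b) (pullback.snd f b) sqP _ hclosed).preimage (Points.continuous_ofPt _)
  have e : {v : ↥V.left | GeometricallyReduced (m.left.fiberToSpecResidueField v)} =
      (Points.ofScheme V ⁻¹' (Points.map (pullback.snd f b) '' (Points.ofPt ψ '' Bad)))ᶜ := by
    ext v
    rw [Set.mem_setOf_eq, geometricallyReduced_fiber_iff, Set.mem_compl_iff, Set.mem_preimage]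
    have hh : ∀ u, Points.map (pullback.snd f b) (Points.ofPt ψ u) = Points.ofScheme V (m.left u) := fun u => by
      rw [Points.map_ofPt, hm, ← Category.comp_id ((yon S).map m), ofPt_map]
    constructor
    · rintro h ⟨_, ⟨u, hu, rfl⟩, e⟩
      rw [hh] at e
      exact hu (h u ((Points.schemeEquiv V).injective e))
    · intro h u hu
      by_contra hn
      exact h ⟨_, ⟨u, hn, rfl⟩, by rw [hh, hu]⟩
  rw [e]
  exact hmap.isOpen_compl

/-- the locus of geometrically reduced fibres of a quasi-compact lfp morphism is constructible on affine charts -/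
theorem isConstructible_geomRedLocus (hX : IsAlgSpace X) (hY : IsAlgSpace Y) (f : X ⟶ Y)
    (hqc : IsQuasiCompactMor f) (hp : LocP @LocallyOfFinitePresentation f) {V : Over S} [IsAffine V.left]
    (b : (yon S).obj V ⟶ Y) (hbe : RepWith @Etale b) :
    Topology.IsConstructible (Points.ofPt b ⁻¹' {y | ∀ k : FieldPt Y, Points.mk k = y → GeomRedFib f k}) := by
  have hT := IsAlgSpace.yon_obj (S := S) V
  have sqP := IsPullback.of_hasPullback f b
  have hP := isAlgSpace_of_isPullback hY.diag hX hT sqP
  have : CompactSpace (Points ((yon S).obj V)) :=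
    ⟨(Points.schemeEquiv V).surjective.range_eq ▸ isCompact_range (Points.continuous_ofPt _)⟩
  have := compactSpace_points_of_isQuasiCompactSp
    (hqc hT ((isQuasiCompactSp_iff_compactSpace hT).2 this) b _ _ sqP)
  obtain ⟨U, ψ, hU, hψe, hψs⟩ := exists_affine_chart hP
  obtain ⟨m, hm'⟩ := (yon S).map_surjective (ψ ≫ pullback.snd f b)
  obtain ⟨hae, haw⟩ := chart_of_baseChange f b hbe hψe hm'.symm
  have : LocallyOfFinitePresentation m.left := hp _ b m hae hbe haw
  have : QuasiCompact m.left := inferInstance
  rw [preimage_geomRedLocus hX hY f b hψe hψs hm'.symm]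
  exact (FlatMorGeomRed.isLocallyConstructible_setOf_geometricallyReduced m.left).isConstructible

end Groth.Agent.AlgSpLib
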