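import Groth.Agent.AlgSpLib.GeomReducedPt
import Groth.Agent.S1545

/-!
Geometric reducedness at points and extension of the base field.
-/

universe u

open CategoryTheory CategoryTheory.Limits AlgebraicGeometry
open AlgSp

noncomputable section

namespace Groth.Agent.AlgSpLib

set_option backward.isDefEq.respectTransparency.types false

theorem fbase_iff_curv2 {k : Type u} [Field k] {X : Scheme.{u}} (f : X ⟶ Spec (CommRingCat.of k)) (x : X) :
    FBase.IsGeomReducedAt f x ↔ @Curv2.IsGeomReducedAt k _ X ⟨f⟩ x := Iff.rfl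

variable (k : Type u) [Field k] (K : Type u) [Field K] [Algebra k K]

local notation "B" => Spec (CommRingCat.of k)

local notation "T" => (Over.mk (Spec.map (CommRingCat.ofHom (algebraMap k K))) : Over B)

theorem isGeomReducedAt_pullback_iff {X W : Scheme.{u}} (f : X ⟶ B) (p₁ : W ⟶ X)
    (p₂ : W ⟶ Spec (CommRingCat.of K))
    (sq : IsPullback p₁ p₂ f (Spec.map (CommRingCat.ofHom (algebraMap k K)))) (w : W) :
    FBase.IsGeomReducedAt f (p₁ w) ↔ FBase.IsGeomReducedAt p₂ w := by
  letI : X.Over B := ⟨f⟩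
  let P := pullback f (Spec.map (CommRingCat.ofHom (algebraMap k K)))
  let e : W ≅ P := sq.isoPullback
  have h1 : e.hom ≫ pullback.fst _ _ = p₁ := sq.isoPullback_hom_fst
  have h2 : e.hom ≫ pullback.snd _ _ = p₂ := sq.isoPullback_hom_snd
  have key := Groth.Agent.S1545.result k X K (p₁ w) (e.hom w) (congr($(h1) w))
  rw [fbase_iff_curv2]
  refine key.trans (Iff.trans ?_ (isGeomReducedAt_iff_of_etale e.hom (pullback.snd _ _) w).symm |>.trans
    (by rw [h2]))
  exact Iff.rfl

variable {k} (X : Space (Spec (CommRingCat.of k)))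

/-- independence of the chart over the bigger field -/
theorem isGeomReducedAt_chart_over {U V : Over B} {a : (yon B).obj U ⟶ X.obj ⨯ (yon B).obj T}
    {b : (yon B).obj V ⟶ X.obj ⨯ (yon B).obj T} {q : U ⟶ T} {r : V ⟶ T} (ha : RepWith @Etale a)
    (hb : RepWith @Etale b) (hq : a ≫ Limits.prod.snd = (yon B).map q)
    (hr : b ≫ Limits.prod.snd = (yon B).map r) {u : U.left} {v : V.left}
    (he : Points.ofPt a u = Points.ofPt b v) :
    FBase.IsGeomReducedAt q.left u ↔ FBase.IsGeomReducedAt r.left v := by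
  have sq := ha.1.isPullback' b
  obtain ⟨z, hz1, hz2⟩ := (ofPt_eq_ofPt_iff sq u v).1 he
  have : Etale (ha.1.fst' b).left := hb.property _ _ _ sq.flip
  have : Etale (ha.1.snd b).left := ha.property_snd b
  have e : ha.1.fst' b ≫ q = ha.1.snd b ≫ r := (yon B).map_injective (by
    rw [Functor.map_comp, Functor.map_comp, ← hq, ← hr, reassoc_of% sq.w])
  rw [← hz1, ← hz2, ← isGeomReducedAt_iff_of_etale, ← isGeomReducedAt_iff_of_etale]
  have e' : (ha.1.fst' b).left ≫ q.left = (ha.1.snd b).left ≫ r.left := congrArg (fun m => m.left) e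
  exact iff_of_eq (congrArg (fun m => FBase.IsGeomReducedAt m z) e')

/-- the statement at points -/
theorem geomReducedAt_iff_bc (x' : Points (X.obj ⨯ (yon B).obj T)) :
    (∃ (U : Over B) (a : (yon B).obj U ⟶ X.obj) (u : ↥U.left), RepWith @Etale a ∧
      Points.ofPt a u = Points.map (Limits.prod.fst : X.obj ⨯ (yon B).obj T ⟶ X.obj) x' ∧
        FBase.IsGeomReducedAt U.hom u) ↔
    ∃ (U' : Over B) (a' : (yon B).obj U' ⟶ X.obj ⨯ (yon B).obj T) (q : U' ⟶ T) (u' : ↥U'.left),
      RepWith @Etale a' ∧ a' ≫ Limits.prod.snd = (yon B).map q ∧ Points.ofPt a' u' = x' ∧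
        FBase.IsGeomReducedAt q.left u' := by
  obtain ⟨U₀, a₀, h0, h0s⟩ := X.property.atlas
  obtain ⟨W, p₁, p₂, a', he, hs, sq, h1, h2⟩ := exists_chart_prod_scheme T a₀ h0
  obtain ⟨w, rfl⟩ := surjective_ofPt a' (hs h0s) x'
  have hw : Points.ofPt a₀ (p₁.left w) = Points.map Limits.prod.fst (Points.ofPt a' w) := by
    rw [Points.map_ofPt, h1, ofPt_map]
  have key := isGeomReducedAt_pullback_iff k K U₀.hom p₁.left p₂.left sq w
  constructor
  · rintro ⟨U, a, u, ha, hu, hg⟩
    exact ⟨W, a', p₂, w, he, h2, rfl,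
      key.1 ((isGeomReducedAt_chart a ha a₀ h0 (hu.trans hw.symm)).1 hg)⟩
  · rintro ⟨U', b, q, u', hb, hq, hu, hg⟩
    exact ⟨U₀, a₀, p₁.left w, h0, hw, key.2 ((isGeomReducedAt_chart_over K X hb he hq h2 hu).1 hg)⟩

theorem surjective_map_prod_fst :
    Function.Surjective (Points.map (Limits.prod.fst : X.obj ⨯ (yon B).obj T ⟶ X.obj)) := by
  intro x
  obtain ⟨U₀, a₀, h0, h0s⟩ := X.property.atlas
  obtain ⟨W, p₁, p₂, a', he, hs, sq, h1, h2⟩ := exists_chart_prod_scheme T a₀ h0
  obtain ⟨u, rfl⟩ := surjective_ofPt a₀ h0s x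
  have hS : Surjective (Spec.map (CommRingCat.ofHom (algebraMap k K))) :=
    ⟨fun p => ⟨IsLocalRing.closedPoint K, Subsingleton.elim (α := PrimeSpectrum k) _ _⟩⟩
  have : Surjective p₁.left := MorphismProperty.of_isPullback sq.flip hS
  obtain ⟨w, rfl⟩ := p₁.left.surjective u
  exact ⟨Points.ofPt a' w, by rw [Points.map_ofPt, h1, ofPt_map]⟩

end Groth.Agent.AlgSpLib
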