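import Groth.Agent.AlgSpLib.GlueingPairMono
import Groth.Agent.AlgSpLib.AffineDescent
import Groth.Agent.AlgSpLib.QuotSpLemmas
import Groth.Agent.AlgSpLib.SheafCoprod
import Groth.Agent.AlgSpLib.PointsTop
import Groth.Agent.AlgSpLib.Diag
import Groth.Agent.AlgSpLib.ClosedSub
import Groth.Agent.S10727
import Groth.Agent.S10724

/-!
Morphisms from the spectrum of the ring of a glueing pair into a space with affine diagonal.
-/

universe u

open CategoryTheory CategoryTheory.Limits AlgebraicGeometry Opposite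
open AlgSp
open scoped TensorProduct

noncomputable section

set_option linter.style.haveILetI false

namespace Groth.Agent.AlgSpLib.GlueingPairHom

open Groth.Agent.AlgSpLib

set_option backward.isDefEq.respectTransparency.types false
set_option backward.isDefEq.respectTransparency false

variable {S : Scheme.{u}}

section ring

variable {A A' : Type u} [CommRing A] [CommRing A'] [Algebra A A'] {g : A}

/-- ring maps into the ring of a glueing pair -/
theorem exists_ringHom (h : EtGlue.IsGlueingPair A A' g) {C : Type u} [CommRing C] (c₁ : C →+* Localization.Away g)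
    (c₂ : C →+* A') (hc : (algebraMap A' (Localization.Away (algebraMap A A' g))).comp c₂ =
      (Localization.awayMap (algebraMap A A') g).comp c₁) :
    ∃ m : C →+* A, (algebraMap A (Localization.Away g)).comp m = c₁ ∧ (algebraMap A A').comp m = c₂ := by
  choose m hm' hm using fun c => h.2.2.1 (c₂ c) (c₁ c) (RingHom.congr_fun hc c)
  refine ⟨⟨⟨⟨m, h.2.1 (Prod.ext ?_ ?_)⟩, fun x y => h.2.1 (Prod.ext ?_ ?_)⟩, h.2.1 (Prod.ext ?_ ?_),
    fun x y => h.2.1 (Prod.ext ?_ ?_)⟩, RingHom.ext hm, RingHom.ext hm'⟩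
  all_goals simp [hm, hm']

theorem ringHom_ext (h : EtGlue.IsGlueingPair A A' g) {C : Type u} [CommRing C] (m m' : C →+* A)
    (h₁ : (algebraMap A (Localization.Away g)).comp m = (algebraMap A (Localization.Away g)).comp m')
    (h₂ : (algebraMap A A').comp m = (algebraMap A A').comp m') : m = m' :=
  RingHom.ext fun c => h.2.1 (Prod.ext (RingHom.congr_fun h₂ c) (RingHom.congr_fun h₁ c))

/-- maps of schemes to an affine scheme -/
theorem exists_lift_affine (h : EtGlue.IsGlueingPair A A' g) {W : Scheme.{u}} [IsAffine W]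
    (a : Spec (CommRingCat.of (Localization.Away g)) ⟶ W) (b : Spec (CommRingCat.of A') ⟶ W)
    (hab : Spec.map (CommRingCat.ofHom (algebraMap A' (Localization.Away (algebraMap A A' g)))) ≫ b =
      Spec.map (CommRingCat.ofHom (Localization.awayMap (algebraMap A A') g)) ≫ a) :
    ∃! m : Spec (CommRingCat.of A) ⟶ W,
      Spec.map (CommRingCat.ofHom (algebraMap A (Localization.Away g))) ≫ m = a ∧
      Spec.map (CommRingCat.ofHom (algebraMap A A')) ≫ m = b := by
  have key : ∀ {R : CommRingCat.{u}} (x : Spec R ⟶ W), Spec.map (Spec.preimage (x ≫ W.isoSpec.hom)) ≫ W.isoSpec.inv = x :=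
    fun x => by rw [Spec.map_preimage, Category.assoc, Iso.hom_inv_id, Category.comp_id]
  let c₁ := Spec.preimage (a ≫ W.isoSpec.hom)
  let c₂ := Spec.preimage (b ≫ W.isoSpec.hom)
  have hc : (algebraMap A' (Localization.Away (algebraMap A A' g))).comp c₂.hom =
      (Localization.awayMap (algebraMap A A') g).comp c₁.hom := by
    have h' : c₂ ≫ CommRingCat.ofHom (algebraMap A' (Localization.Away (algebraMap A A' g))) =
        c₁ ≫ CommRingCat.ofHom (Localization.awayMap (algebraMap A A') g) := Spec.map_injective (by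
      rw [Spec.map_comp, Spec.map_comp, Spec.map_preimage, Spec.map_preimage, ← Category.assoc, hab,
        Category.assoc])
    exact congrArg CommRingCat.Hom.hom h'
  obtain ⟨m, hm₁, hm₂⟩ := exists_ringHom h c₁.hom c₂.hom hc
  refine ⟨Spec.map (CommRingCat.ofHom m) ≫ W.isoSpec.inv, ⟨?_, ?_⟩, fun m' hm' => ?_⟩
  · rw [← Category.assoc, ← Spec.map_comp, show CommRingCat.ofHom m ≫ CommRingCat.ofHom (algebraMap A (Localization.Away g)) = c₁ from
      CommRingCat.hom_ext hm₁]
    exact key a
  · rw [← Category.assoc, ← Spec.map_comp, show CommRingCat.ofHom m ≫ CommRingCat.ofHom (algebraMap A A') = c₂ from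
      CommRingCat.hom_ext hm₂]
    exact key b
  · let n := Spec.preimage (m' ≫ W.isoSpec.hom)
    have hn₁ : n ≫ CommRingCat.ofHom (algebraMap A (Localization.Away g)) = c₁ := Spec.map_injective (by
      rw [Spec.map_comp, Spec.map_preimage, Spec.map_preimage, ← Category.assoc, hm'.1])
    have hn₂ : n ≫ CommRingCat.ofHom (algebraMap A A') = c₂ := Spec.map_injective (by
      rw [Spec.map_comp, Spec.map_preimage, Spec.map_preimage, ← Category.assoc, hm'.2])
    have e : n.hom = m := ringHom_ext h _ _ ((congrArg CommRingCat.Hom.hom hn₁).trans hm₁.symm)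
      ((congrArg CommRingCat.Hom.hom hn₂).trans hm₂.symm)
    rw [← key m', ← e]
    rfl

/-- morphisms to a space with affine diagonal agreeing on both members agree -/
theorem hom_ext (h : EtGlue.IsGlueingPair A A' g) {Z : Sp S} (hd : IsAffineMor (Limits.diag Z)) {T T₁ T₂ : Over S}
    (eT : T.left ≅ Spec (CommRingCat.of A)) (q₁ : T₁ ⟶ T) (q₂ : T₂ ⟶ T)
    (ε₁ : Spec (CommRingCat.of (Localization.Away g)) ⟶ T₁.left)
    (h₁ : ε₁ ≫ q₁.left ≫ eT.hom = Spec.map (CommRingCat.ofHom (algebraMap A (Localization.Away g))))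
    (ε₂ : Spec (CommRingCat.of A') ⟶ T₂.left)
    (h₂ : ε₂ ≫ q₂.left ≫ eT.hom = Spec.map (CommRingCat.ofHom (algebraMap A A')))
    (φ φ' : (yon S).obj T ⟶ Z) (e₁ : (yon S).map q₁ ≫ φ = (yon S).map q₁ ≫ φ')
    (e₂ : (yon S).map q₂ ≫ φ = (yon S).map q₂ ≫ φ') : φ = φ' := by
  haveI : IsAffine T.left := IsAffine.of_isIso eT.hom
  obtain ⟨E, ι, fst, sq, -⟩ := hd (Z := T) inferInstance (prod.lift φ φ')
  haveI hm : Mono ((yon S).map ι) := by
    have : Mono (Limits.diag Z) := ⟨fun a b h => by simpa [prod.lift_fst] using congrArg (· ≫ prod.fst) h⟩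
    exact MorphismProperty.of_isPullback (P := MorphismProperty.monomorphisms (Sp S)) sq this
  haveI : Mono ι := (yon S).mono_of_mono_map hm
  haveI : Mono ι.left := inferInstanceAs (Mono ((Over.forget S).map ι))
  have lift : ∀ {Q : Over S} (q : Q ⟶ T), (yon S).map q ≫ φ = (yon S).map q ≫ φ' → ∃ σ : Q ⟶ E, σ ≫ ι = q := by
    intro Q q e
    obtain ⟨σ, -, hσ⟩ := sq.exists_lift ((yon S).map q ≫ φ) ((yon S).map q) (by
      apply Limits.prod.hom_ext
      · simp [prod.lift_fst]
      · simp [prod.lift_snd, e])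
    obtain ⟨σ', rfl⟩ := (yon S).map_surjective σ
    exact ⟨σ', (yon S).map_injective (by rw [Functor.map_comp]; exact hσ)⟩
  obtain ⟨σ₁, hσ₁⟩ := lift q₁ e₁
  obtain ⟨σ₂, hσ₂⟩ := lift q₂ e₂
  haveI := GlueingPairMono.isIso_of_mono h (ι.left ≫ eT.hom) (ε₁ ≫ σ₁.left)
    (by rw [Category.assoc, ← Category.assoc σ₁.left, ← Over.comp_left, hσ₁]; exact h₁)
    (ε₂ ≫ σ₂.left) (by rw [Category.assoc, ← Category.assoc σ₂.left, ← Over.comp_left, hσ₂]; exact h₂)
  haveI : IsIso ι.left := IsIso.of_isIso_comp_right ι.left eT.hom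
  haveI : IsIso ι := by
    haveI : IsIso ((Over.forget S).map ι) := ‹IsIso ι.left›
    exact isIso_of_reflects_iso ι (Over.forget S)
  rw [← cancel_epi ((yon S).map ι)]
  have hw := sq.w
  have w1 := congrArg (· ≫ prod.fst) hw
  have w2 := congrArg (· ≫ prod.snd) hw
  simp only [Category.assoc, prod.lift_fst, prod.lift_snd, Category.comp_id] at w1 w2
  exact w1.symm.trans w2

end ring

/-- fibre products of affine schemes over a space with affine diagonal are affine -/
theorem exists_affine_pullback [IsAffine S] {Z : Sp S} (hd : IsAffineMor (Limits.diag Z)) {U V : Over S}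
    [IsAffine U.left] [IsAffine V.left] (a : (yon S).obj U ⟶ Z) (b : (yon S).obj V ⟶ Z) :
    ∃ (P : Over S) (fst : P ⟶ U) (snd : P ⟶ V),
      IsAffine P.left ∧ IsPullback ((yon S).map fst) ((yon S).map snd) a b := by
  let W : Over S := Over.mk (pullback.fst U.hom V.hom ≫ U.hom)
  let p₁ : W ⟶ U := Over.homMk (pullback.fst U.hom V.hom) rfl
  let p₂ : W ⟶ V := Over.homMk (pullback.snd U.hom V.hom) pullback.condition.symm
  haveI : IsAffine W.left := inferInstanceAs (IsAffine (pullback U.hom V.hom))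
  obtain ⟨P, i, fst, sq, hP⟩ := hd (Z := W) inferInstance (prod.lift ((yon S).map p₁ ≫ a) ((yon S).map p₂ ≫ b))
  have w1 := congrArg (· ≫ prod.fst) sq.w
  have w2 := congrArg (· ≫ prod.snd) sq.w
  simp only [Category.assoc, prod.lift_fst, prod.lift_snd, Category.comp_id] at w1 w2
  refine ⟨P, i ≫ p₁, i ≫ p₂, hP, isPullback_of_yon ?_ fun T x y hxy => ?_⟩
  · rw [Functor.map_comp, Functor.map_comp, Category.assoc, Category.assoc, ← w1, w2]
  · obtain ⟨x', rfl⟩ := (yon S).map_surjective x
    obtain ⟨y', rfl⟩ := (yon S).map_surjective y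
    let k : T ⟶ W := Over.homMk (pullback.lift x'.left y'.left (by rw [Over.w x', Over.w y'])) (by
      show _ ≫ pullback.fst U.hom V.hom ≫ U.hom = T.hom
      rw [pullback.lift_fst_assoc]
      exact Over.w x')
    have hk1 : k ≫ p₁ = x' := Over.OverMorphism.ext (pullback.lift_fst _ _ _)
    have hk2 : k ≫ p₂ = y' := Over.OverMorphism.ext (pullback.lift_snd _ _ _)
    obtain ⟨m, -, hm⟩ := sq.exists_lift ((yon S).map x' ≫ a) ((yon S).map k) (by
      apply Limits.prod.hom_ext
      · simp only [Category.assoc, prod.lift_fst, ← Functor.map_comp_assoc, hk1, Category.comp_id]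
      · simp only [Category.assoc, prod.lift_snd, ← Functor.map_comp_assoc, hk2, Category.comp_id, hxy])
    refine ⟨m, ⟨?_, ?_⟩, fun m' hm' => ?_⟩
    · rw [Functor.map_comp, ← Category.assoc, hm, ← Functor.map_comp, hk1]
    · rw [Functor.map_comp, ← Category.assoc, hm, ← Functor.map_comp, hk2]
    · have hi : m' ≫ (yon S).map i = m ≫ (yon S).map i := by
        obtain ⟨m₀, rfl⟩ := (yon S).map_surjective m'
        have ex : m₀ ≫ i ≫ p₁ = x' := (yon S).map_injective (by rw [Functor.map_comp]; exact hm'.1)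
        have ey : m₀ ≫ i ≫ p₂ = y' := (yon S).map_injective (by rw [Functor.map_comp]; exact hm'.2)
        rw [hm, ← Functor.map_comp]
        refine congrArg _ (Over.OverMorphism.ext (pullback.hom_ext ?_ ?_))
        · exact (congrArg (fun r => r.left) ((Category.assoc m₀ i p₁).trans (ex.trans hk1.symm)) :)
        · exact (congrArg (fun r => r.left) ((Category.assoc m₀ i p₂).trans (ey.trans hk2.symm)) :)
      refine sq.hom_ext ?_ hi
      rw [w1, ← Category.assoc, hi, Category.assoc]

end Groth.Agent.AlgSpLib.GlueingPairHom
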