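import Groth.Prelude.Def_AlgSp
import Groth.Agent.AlgSpLib.GlueingPairHom
import Groth.Agent.HenselLib.BLRingHom
import Groth.Agent.S10727
import Mathlib.AlgebraicGeometry.Morphisms.ClosedImmersion
import Mathlib.AlgebraicGeometry.Morphisms.FinitePresentation
import Mathlib.AlgebraicGeometry.Morphisms.Flat
import Mathlib.AlgebraicGeometry.Pullbacks

/-!
# Glueing affine schemes along a glueing pair, scheme-theoretic form
-/

set_option autoImplicit false
set_option linter.style.haveILetI false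
set_option backward.isDefEq.respectTransparency false
set_option backward.isDefEq.respectTransparency.types false

universe u

open CategoryTheory CategoryTheory.Limits AlgebraicGeometry TensorProduct

noncomputable section

namespace Groth.Agent.AlgSpLib.GlueQA

variable {R : Type u} [CommRing R]

/-- the spectrum of an algebra over `Spec R` -/
abbrev spR (R A : Type u) [CommRing R] [CommRing A] [Algebra R A] : Over (Spec (CommRingCat.of R)) :=
  Over.mk (Spec.map (CommRingCat.ofHom (algebraMap R A)))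

variable {A B C : Type u} [CommRing A] [Algebra R A] [CommRing B] [Algebra R B] [CommRing C] [Algebra R C]

/-- the map of spectra of an algebra map -/
def spm (φ : A →ₐ[R] B) : spR R B ⟶ spR R A :=
  Over.homMk (Spec.map (CommRingCat.ofHom φ.toRingHom)) (by
    show Spec.map _ ≫ Spec.map _ = Spec.map _
    rw [← Spec.map_comp, ← CommRingCat.ofHom_comp, φ.toRingHom_eq_coe, φ.comp_algebraMap])

theorem spm_comp (φ : A →ₐ[R] B) (ψ : B →ₐ[R] C) : spm ψ ≫ spm φ = spm (ψ.comp φ) :=
  Over.OverMorphism.ext (Spec.map_comp (CommRingCat.ofHom φ.toRingHom) (CommRingCat.ofHom ψ.toRingHom)).symm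

theorem spm_id : spm (AlgHom.id R A) = 𝟙 _ := Over.OverMorphism.ext (Spec.map_id _)

theorem exists_spm (k : spR R B ⟶ spR R A) : ∃ φ : A →ₐ[R] B, spm φ = k := by
  have w := Over.w k
  simp only [Over.mk_hom] at w
  rw [← Spec.map_preimage k.left, ← Spec.map_comp] at w
  exact ⟨⟨(Spec.preimage k.left).hom, fun r => RingHom.congr_fun (congrArg CommRingCat.Hom.hom (Spec.map_injective w)) r⟩,
    Over.OverMorphism.ext (Spec.map_preimage k.left)⟩

theorem spm_injective {φ ψ : A →ₐ[R] B} (h : spm φ = spm ψ) : φ = ψ :=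
  AlgHom.ext fun a => RingHom.congr_fun
    (congrArg CommRingCat.Hom.hom (Spec.map_injective (congrArg (fun m => m.left) h))) a

theorem exists_spR_iso (P : Over (Spec (CommRingCat.of R))) [IsAffine P.left] :
    ∃ (A : Type u) (_ : CommRing A) (_ : Algebra R A), Nonempty (spR R A ≅ P) := by
  let φ := Spec.preimage (P.left.isoSpec.inv ≫ P.hom)
  letI : Algebra R Γ(P.left, ⊤) := φ.hom.toAlgebra
  refine ⟨Γ(P.left, ⊤), inferInstance, inferInstance, ⟨Over.isoMk P.left.isoSpec.symm ?_⟩⟩
  show P.left.isoSpec.inv ≫ P.hom = Spec.map φ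
  rw [Spec.map_preimage]

/-- the square of a base change -/
theorem isPullback_spm_tensor (L A : Type u) [CommRing L] [Algebra R L] [CommRing A] [Algebra R A]
    (t : spR R A ⟶ Over.mk (𝟙 _)) (tL : spR R L ⟶ Over.mk (𝟙 _)) :
    IsPullback (spm (Algebra.TensorProduct.includeRight : A →ₐ[R] L ⊗[R] A))
      (spm (Algebra.TensorProduct.includeLeft : L →ₐ[R] L ⊗[R] A)) t tL := by
  have h := (isPullback_SpecMap_of_isPushout _ _ _ _ (CommRingCat.isPushout_tensorProduct R L A)).flip
  have et : t.left = Spec.map (CommRingCat.ofHom (algebraMap R A)) := (Category.comp_id _).symm.trans (Over.w t)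
  have eL : tL.left = Spec.map (CommRingCat.ofHom (algebraMap R L)) := (Category.comp_id _).symm.trans (Over.w tL)
  refine IsPullback.of_map (Over.forget _) ?_ ?_
  · refine Over.OverMorphism.ext ?_
    rw [Over.comp_left, Over.comp_left, et, eL]
    exact h.w
  · rw [Over.forget_map, Over.forget_map, Over.forget_map, Over.forget_map, et, eL]
    exact h

/-- the square of a localization -/
theorem isPullback_spm_away (f : R) (A : Type u) [CommRing A] [Algebra R A]
    (t : spR R A ⟶ Over.mk (𝟙 _)) (tU : spR R (Localization.Away f) ⟶ Over.mk (𝟙 _))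
    (k : spR R (Localization.Away (algebraMap R A f)) ⟶ spR R (Localization.Away f)) :
    IsPullback (spm (IsScalarTower.toAlgHom R A (Localization.Away (algebraMap R A f)))) k t tU := by
  have hk : k.left = Spec.map (CommRingCat.ofHom (Localization.awayMap (algebraMap R A) f)) := by
    obtain ⟨φ, rfl⟩ := exists_spm k
    show Spec.map _ = Spec.map _
    congr 1
    refine CommRingCat.hom_ext (IsLocalization.ringHom_ext (Submonoid.powers f) (RingHom.ext fun r => ?_))
    show φ (algebraMap R _ r) = _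
    rw [φ.commutes]
    simp [Localization.awayMap, IsLocalization.Away.map, IsScalarTower.algebraMap_apply R A (Localization.Away _)]
  haveI : IsLocalization ((Submonoid.powers f).map (algebraMap R A)) (Localization.Away (algebraMap R A f)) := by
    rw [Submonoid.map_powers]
    infer_instance
  have h := isPullback_SpecMap_of_isPushout _ _ _ _
    (CommRingCat.isPushout_of_isLocalization (Rₘ := Localization.Away f) (Sₘ := Localization.Away (algebraMap R A f))
      (algebraMap R A) (Localization.awayMap (algebraMap R A) f)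
      (RingHom.ext fun r => by
        simp [Localization.awayMap, IsLocalization.Away.map, IsLocalization.map_eq])
      (Submonoid.powers f))
  have et : t.left = Spec.map (CommRingCat.ofHom (algebraMap R A)) := (Category.comp_id _).symm.trans (Over.w t)
  have eU : tU.left = Spec.map (CommRingCat.ofHom (algebraMap R (Localization.Away f))) :=
    (Category.comp_id _).symm.trans (Over.w tU)
  refine IsPullback.of_map (Over.forget _) ?_ ?_
  · refine Over.OverMorphism.ext ?_
    rw [Over.comp_left, Over.comp_left, et, eU, hk]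
    exact h.w
  · rw [Over.forget_map, Over.forget_map, Over.forget_map, Over.forget_map, et, eU, hk]
    exact h

theorem exists_away_map (f : R) (A : Type u) [CommRing A] [Algebra R A] :
    ∃ k : spR R (Localization.Away (algebraMap R A f)) ⟶ spR R (Localization.Away f), True := by
  let ψ := IsLocalization.Away.lift f (S := Localization.Away f)
    (g := algebraMap R (Localization.Away (algebraMap R A f)))
    (by rw [IsScalarTower.algebraMap_apply R A (Localization.Away (algebraMap R A f))]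
        exact IsLocalization.Away.algebraMap_isUnit _)
  exact ⟨spm ⟨ψ, fun r => IsLocalization.Away.lift_eq f _ r⟩, trivial⟩

/-- maps to the open part are unique -/
theorem hom_ext_away (f : R) {P : Over (Spec (CommRingCat.of R))}
    (a b : P ⟶ spR R (Localization.Away f)) : a = b := by
  haveI : IsOpenImmersion (spR R (Localization.Away f)).hom :=
    IsOpenImmersion.of_isLocalization (S := Localization.Away f) f
  exact Over.OverMorphism.ext ((cancel_mono (spR R (Localization.Away f)).hom).mp ((Over.w a).trans (Over.w b).symm))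

theorem hom_ext_pt {P : Over (Spec (CommRingCat.of R))} (a b : P ⟶ Over.mk (𝟙 _)) : a = b :=
  Over.OverMorphism.ext ((Category.comp_id _).symm.trans ((Over.w a).trans ((Over.w b).symm.trans (Category.comp_id _))))

theorem surjective_of_closed (φ : A →ₐ[R] B) (h : IsClosedImmersion (spm φ).left) : Function.Surjective φ := by
  haveI : IsClosedImmersion (Spec.map (CommRingCat.ofHom φ.toRingHom)) := h
  have h' : Function.Surjective (Spec.map (CommRingCat.ofHom φ.toRingHom)).appTop :=
    (IsClosedImmersion.isAffine_surjective_of_isAffine (Spec.map (CommRingCat.ofHom φ.toRingHom))).2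
  have e := Scheme.ΓSpecIso_naturality (CommRingCat.ofHom φ.toRingHom)
  intro b
  obtain ⟨a, ha⟩ := h' ((Scheme.ΓSpecIso (CommRingCat.of B)).inv b)
  refine ⟨(Scheme.ΓSpecIso (CommRingCat.of A)).hom a, ?_⟩
  have h2 := ConcreteCategory.congr_hom e a
  simp only [CommRingCat.hom_comp, RingHom.comp_apply, ha] at h2
  exact h2.symm.trans (ConcreteCategory.congr_hom (Scheme.ΓSpecIso (CommRingCat.of B)).inv_hom_id b)

section pair

variable {R' : Type u} [CommRing R'] [Algebra R R'] {f : R}

/-- flat algebras over glueable algebras are glueable -/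
theorem isGlueable_of_flat (h : EtGlue.IsGlueingPair R R' f) (hA : EtGlue.IsGlueable R R' f A)
    (M : Type u) [CommRing M] [Algebra R M] [Algebra A M] [IsScalarTower R A M] [Module.Flat A M] :
    EtGlue.IsGlueable R R' f M := by
  letI := (Algebra.TensorProduct.rightAlgebra : Algebra A (R' ⊗[R] A))
  refine (HenselLib.BL.isGlueable_iff h.1).mpr ⟨fun m hm h0 => ?_, HenselLib.BL.torsSurj_of_pair M h⟩
  have hp := HenselLib.BL.isGlueingPair_baseChange h A hA
  refine HenselLib.BL.injective_of_flat hp M m ?_ ?_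
  · haveI : Algebra.IsPushout R R' A (R' ⊗[R] A) := TensorProduct.isPushout
    apply (Algebra.IsPushout.cancelBaseChange R R' A (R' ⊗[R] A) M).injective
    simpa using h0
  · obtain ⟨n, hn⟩ := hm
    exact ⟨n, by rw [HenselLib.BL.smul_pow_eq]; exact hn⟩

/-- finite products of glueable algebras are glueable -/
theorem isGlueable_pi (h : EtGlue.IsGlueingPair R R' f) {ι : Type} [Finite ι] (M : ι → Type u)
    [∀ i, CommRing (M i)] [∀ i, Algebra R (M i)] (hM : ∀ i, EtGlue.IsGlueable R R' f (M i)) :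
    EtGlue.IsGlueable R R' f (∀ i, M i) := by
  refine (HenselLib.BL.isGlueable_iff h.1).mpr ⟨fun m hm h0 => funext fun i => ?_,
    HenselLib.BL.torsSurj_of_pair _ h⟩
  obtain ⟨n, hn⟩ := hm
  refine ((HenselLib.BL.isGlueable_iff h.1).mp (hM i)).1 (m i) ⟨n, congrFun hn i⟩ ?_
  simpa using congrArg ((LinearMap.proj i : (∀ i, M i) →ₗ[R] M i).lTensor R') h0

section open_part

variable (tU : spR R (Localization.Away f) ⟶ Over.mk (𝟙 _)) (tX : spR R R' ⟶ Over.mk (𝟙 _))

variable {W : Over (Spec (CommRingCat.of R))} [IsAffine W.left]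

/-- morphisms from a glueable affine scheme to an affine scheme are determined by the two pieces -/
theorem existsUnique_hom (h : EtGlue.IsGlueingPair R R' f) (hA : EtGlue.IsGlueable R R' f A)
    {t : spR R A ⟶ Over.mk (𝟙 _)} {Q₁ Q' : Over (Spec (CommRingCat.of R))}
    {j₁ : Q₁ ⟶ spR R A} {p₁ : Q₁ ⟶ spR R (Localization.Away f)} (h₁ : IsPullback j₁ p₁ t tU)
    {j' : Q' ⟶ spR R A} {p' : Q' ⟶ spR R R'} (h' : IsPullback j' p' t tX)
    (x₁ : Q₁ ⟶ W) (x' : Q' ⟶ W)
    (hx : ∀ (Z : Over (Spec (CommRingCat.of R))) (a : Z ⟶ Q₁) (b : Z ⟶ Q'), a ≫ j₁ = b ≫ j' → a ≫ x₁ = b ≫ x') :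
    ∃! m : spR R A ⟶ W, j₁ ≫ m = x₁ ∧ j' ≫ m = x' := by
  letI := (Algebra.TensorProduct.rightAlgebra : Algebra A (R' ⊗[R] A))
  have hp := HenselLib.BL.isGlueingPair_baseChange h A hA
  obtain ⟨k, -⟩ := exists_away_map f A
  have c₁ := isPullback_spm_away f A t tU k
  have c' := isPullback_spm_tensor R' A t tX
  let e₁ := c₁.isoIsPullback _ _ h₁
  let e' := c'.isoIsPullback _ _ h'
  have he₁ : e₁.hom ≫ j₁ = spm (IsScalarTower.toAlgHom R A (Localization.Away (algebraMap R A f))) :=
    c₁.isoIsPullback_hom_fst _ _ h₁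
  have he' : e'.hom ≫ j' = spm (Algebra.TensorProduct.includeRight : A →ₐ[R] R' ⊗[R] A) :=
    c'.isoIsPullback_hom_fst _ _ h'
  let g := algebraMap R A f
  let L := Localization.Away (algebraMap A (R' ⊗[R] A) g)
  let aL : R' ⊗[R] A →ₐ[R] L := IsScalarTower.toAlgHom R (R' ⊗[R] A) L
  let bL : Localization.Away g →ₐ[R] L :=
    ⟨Localization.awayMap (algebraMap A (R' ⊗[R] A)) g, fun r => by
      rw [IsScalarTower.algebraMap_apply R A (Localization.Away g),
        IsScalarTower.algebraMap_apply R (R' ⊗[R] A) L]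
      simp [Localization.awayMap, IsLocalization.Away.map, L, g]
      exact congrArg _ (Algebra.TensorProduct.includeRight.commutes r)⟩
  have hw : (spm bL ≫ e₁.hom) ≫ j₁ = (spm aL ≫ e'.hom) ≫ j' := by
    rw [Category.assoc, Category.assoc, he₁, he', spm_comp, spm_comp]
    congr 1
    refine AlgHom.ext fun a => ?_
    simp [aL, bL, Localization.awayMap, IsLocalization.Away.map, g]
    exact IsLocalization.map_eq _ a
  have hag := congrArg CommaMorphism.left (hx _ _ _ hw)
  obtain ⟨m, ⟨hm₁, hm'⟩, hu⟩ := GlueingPairHom.exists_lift_affine hp (W := W.left) (e₁.hom ≫ x₁).left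
    (e'.hom ≫ x').left (by
      simp only [Category.assoc, Over.comp_left] at hag ⊢
      exact hag.symm)
  have hover : m ≫ W.hom = (spR R A).hom := by
    obtain ⟨n, -, hn⟩ := GlueingPairHom.exists_lift_affine hp (W := Spec (CommRingCat.of R))
      ((e₁.hom ≫ x₁).left ≫ W.hom) ((e'.hom ≫ x').left ≫ W.hom) (by
        have h2 := congrArg (· ≫ W.hom) hag
        simp only [Category.assoc, Over.comp_left] at h2 ⊢
        exact h2.symm)
    refine (hn _ ⟨by rw [reassoc_of% hm₁], by rw [reassoc_of% hm']⟩).trans (hn _ ⟨?_, ?_⟩).symm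
    · exact (Over.w (spm (IsScalarTower.toAlgHom R A (Localization.Away g)))).trans (Over.w (e₁.hom ≫ x₁)).symm
    · exact (Over.w (spm (Algebra.TensorProduct.includeRight : A →ₐ[R] R' ⊗[R] A))).trans
        (Over.w (e'.hom ≫ x')).symm
  refine ⟨Over.homMk m hover, ⟨?_, ?_⟩, fun m' hm'' => ?_⟩
  · rw [← cancel_epi e₁.hom, ← Category.assoc, he₁]
    exact Over.OverMorphism.ext hm₁
  · rw [← cancel_epi e'.hom, ← Category.assoc, he']
    exact Over.OverMorphism.ext hm'
  · refine Over.OverMorphism.ext (hu m'.left ⟨?_, ?_⟩)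
    · exact congrArg CommaMorphism.left
        ((congrArg (· ≫ m') he₁.symm).trans ((Category.assoc _ _ _).trans (congrArg (e₁.hom ≫ ·) hm''.1)))
    · exact congrArg CommaMorphism.left
        ((congrArg (· ≫ m') he'.symm).trans ((Category.assoc _ _ _).trans (congrArg (e'.hom ≫ ·) hm''.2)))

theorem hom_ext_glue (h : EtGlue.IsGlueingPair R R' f) (hA : EtGlue.IsGlueable R R' f A)
    {t : spR R A ⟶ Over.mk (𝟙 _)} {Q₁ Q' : Over (Spec (CommRingCat.of R))}
    {j₁ : Q₁ ⟶ spR R A} {p₁ : Q₁ ⟶ spR R (Localization.Away f)} (h₁ : IsPullback j₁ p₁ t tU)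
    {j' : Q' ⟶ spR R A} {p' : Q' ⟶ spR R R'} (h' : IsPullback j' p' t tX)
    (m m' : spR R A ⟶ W) (e₁ : j₁ ≫ m = j₁ ≫ m') (e' : j' ≫ m = j' ≫ m') : m = m' :=
  (existsUnique_hom tU tX h hA h₁ h' (j₁ ≫ m) (j' ≫ m) (fun Z a b e => by
    rw [← Category.assoc, e, Category.assoc])).unique ⟨rfl, rfl⟩ ⟨e₁.symm, e'.symm⟩

/-- glueing two affine schemes agreeing over `U'` -/
theorem exists_glue (h : EtGlue.IsGlueingPair R R' f) {P₁ P' K : Over (Spec (CommRingCat.of R))}
    [IsAffine P₁.left] [IsAffine P'.left] (u₁ : P₁ ⟶ spR R (Localization.Away f)) (x' : P' ⟶ spR R R')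
    (k₁ : K ⟶ P₁) (k' : K ⟶ P') (kX : K ⟶ spR R R') (kU : K ⟶ spR R (Localization.Away f))
    (hK₁ : IsPullback k₁ kX (u₁ ≫ tU) tX) (hK' : IsPullback k' kU (x' ≫ tX) tU) (hkX : k' ≫ x' = kX) :
    ∃ (A : Type u) (_ : CommRing A) (_ : Algebra R A) (_ : EtGlue.IsGlueable R R' f A)
      (j₁ : P₁ ⟶ spR R A) (j' : P' ⟶ spR R A) (t : spR R A ⟶ Over.mk (𝟙 _)),
      IsPullback j₁ u₁ t tU ∧ IsPullback j' x' t tX ∧ k₁ ≫ j₁ = k' ≫ j' := by
  obtain ⟨A₁, _, _, ⟨e₁⟩⟩ := exists_spR_iso P₁
  obtain ⟨A', _, _, ⟨e'⟩⟩ := exists_spR_iso P'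
  obtain ⟨ψ, hψ⟩ := exists_spm (e₁.hom ≫ u₁)
  obtain ⟨χ, hχ⟩ := exists_spm (e'.hom ≫ x')
  letI := χ.toRingHom.toAlgebra
  haveI : IsScalarTower R R' A' := IsScalarTower.of_algebraMap_eq fun r => (χ.commutes r).symm
  have hu : IsUnit (algebraMap R A₁ f) := by
    rw [← ψ.commutes]
    exact (IsLocalization.Away.algebraMap_isUnit f).map ψ
  obtain ⟨k, -⟩ := exists_away_map f A'
  have c₁ := isPullback_spm_tensor R' A₁ (e₁.hom ≫ u₁ ≫ tU) tX
  have c' := isPullback_spm_away f A' (e'.hom ≫ x' ≫ tX) tU k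
  have d₁ : IsPullback (k₁ ≫ e₁.inv) kX (e₁.hom ≫ u₁ ≫ tU) tX :=
    hK₁.of_iso (Iso.refl _) e₁.symm (Iso.refl _) (Iso.refl _) (by simp) (by simp) (by simp) (by simp)
  have d' : IsPullback (k' ≫ e'.inv) kU (e'.hom ≫ x' ≫ tX) tU :=
    hK'.of_iso (Iso.refl _) e'.symm (Iso.refl _) (Iso.refl _) (by simp) (by simp) (by simp) (by simp)
  let g₁ := d₁.isoIsPullback _ _ c₁
  let g' := d'.isoIsPullback _ _ c'
  let e := g₁.symm ≪≫ g'
  obtain ⟨φ₀, hφ₀⟩ := exists_spm e.hom
  obtain ⟨φi, hφi⟩ := exists_spm e.inv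
  have hφl : φ₀.comp φi = AlgHom.id R _ := spm_injective (by rw [← spm_comp, hφ₀, hφi, e.hom_inv_id, spm_id])
  have hφr : φi.comp φ₀ = AlgHom.id R _ := spm_injective (by rw [← spm_comp, hφ₀, hφi, e.inv_hom_id, spm_id])
  have hfst : g'.hom ≫ spm (IsScalarTower.toAlgHom R A' (Localization.Away (algebraMap R A' f))) = k' ≫ e'.inv :=
    d'.isoIsPullback_hom_fst _ _ c'
  have hlin : φ₀.comp ((IsScalarTower.toAlgHom R A' (Localization.Away (algebraMap R A' f))).comp χ) =
      Algebra.TensorProduct.includeLeft := spm_injective (by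
    rw [← spm_comp, ← spm_comp, hφ₀, hχ]
    simp only [e, Iso.trans_hom, Iso.symm_hom, Category.assoc]
    rw [reassoc_of% hfst, e'.inv_hom_id_assoc, hkX, Iso.inv_comp_eq]
    exact (d₁.isoIsPullback_hom_snd _ _ c₁).symm)
  let φ : Localization.Away (algebraMap R A' f) ≃ₐ[R'] R' ⊗[R] A₁ :=
    AlgEquiv.ofAlgHom ⟨φ₀.toRingHom, fun r => AlgHom.congr_fun hlin r⟩
      ⟨φi.toRingHom, fun r => by
        have hr := AlgHom.congr_fun hlin r
        show φi (algebraMap R' (R' ⊗[R] A₁) r) = _
        rw [show algebraMap R' (R' ⊗[R] A₁) r = φ₀ (algebraMap R' _ r) from hr.symm]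
        exact AlgHom.congr_fun hφr _⟩
      (AlgHom.ext fun z => AlgHom.congr_fun hφl z) (AlgHom.ext fun z => AlgHom.congr_fun hφr z)
  obtain ⟨A, _, _, hA, ε₁, ε', hε⟩ := S10727.result R R' f h A₁ hu A' φ
  let t : spR R A ⟶ Over.mk (𝟙 _) := Over.homMk (spR R A).hom (Category.comp_id _)
  obtain ⟨kA, -⟩ := exists_away_map f A
  have cU := isPullback_spm_away f A t tU kA
  have cX := isPullback_spm_tensor R' A t tX
  let i₁ : spR R A₁ ≅ spR R (Localization.Away (algebraMap R A f)) :=
    ⟨spm ε₁.toAlgHom, spm ε₁.symm.toAlgHom,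
      by rw [spm_comp, ← spm_id]; exact congrArg spm (AlgHom.ext fun x => ε₁.apply_symm_apply x),
      by rw [spm_comp, ← spm_id]; exact congrArg spm (AlgHom.ext fun x => ε₁.symm_apply_apply x)⟩
  let i' : spR R A' ≅ spR R (R' ⊗[R] A) :=
    ⟨spm (ε'.toAlgHom.restrictScalars R), spm (ε'.symm.toAlgHom.restrictScalars R),
      by rw [spm_comp, ← spm_id]; exact congrArg spm (AlgHom.ext fun x => ε'.apply_symm_apply x),
      by rw [spm_comp, ← spm_id]; exact congrArg spm (AlgHom.ext fun x => ε'.symm_apply_apply x)⟩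
  let j₁ : P₁ ⟶ spR R A := e₁.inv ≫ i₁.hom ≫ spm (IsScalarTower.toAlgHom R A (Localization.Away (algebraMap R A f)))
  let j' : P' ⟶ spR R A := e'.inv ≫ i'.hom ≫ spm (Algebra.TensorProduct.includeRight : A →ₐ[R] R' ⊗[R] A)
  refine ⟨A, inferInstance, inferInstance, hA, j₁, j', t,
    cU.of_iso (i₁.symm ≪≫ e₁) (Iso.refl _) (Iso.refl _) (Iso.refl _) (by simp [j₁])
      (hom_ext_away f _ _) (by simp) (by simp),
    cX.of_iso (i'.symm ≪≫ e') (Iso.refl _) (Iso.refl _) (Iso.refl _) (by simp [j']) ?_ (by simp) (by simp), ?_⟩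
  · simp only [Iso.refl_hom, Category.comp_id, Iso.trans_hom, Iso.symm_hom, Category.assoc, ← hχ]
    show _ = spm (ε'.symm.toAlgHom.restrictScalars R) ≫ spm χ
    rw [spm_comp]
    refine congrArg spm (AlgHom.ext fun r => ?_)
    exact (ε'.symm.commutes r).symm
  · rw [← cancel_epi g₁.inv]
    have h1 : g₁.inv ≫ k₁ ≫ e₁.inv = spm (Algebra.TensorProduct.includeRight : A₁ →ₐ[R] R' ⊗[R] A₁) := by
      rw [Iso.inv_comp_eq]; exact (d₁.isoIsPullback_hom_fst _ _ c₁).symm
    have h2 : g₁.inv ≫ k' ≫ e'.inv = spm φ₀ ≫ spm (IsScalarTower.toAlgHom R A' (Localization.Away (algebraMap R A' f))) := by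
      rw [hφ₀]; simp [e, hfst]
    simp only [j₁, j', reassoc_of% h1, reassoc_of% h2, i₁, i', spm_comp]
    refine congrArg spm (AlgHom.ext fun a => ?_)
    exact (hε a).symm

/-- flatness and finite presentation can be tested on the pieces -/
theorem flat_lfp_of_pieces (h : EtGlue.IsGlueingPair R R' f) (hA : EtGlue.IsGlueable R R' f A)
    (m : spR R B ⟶ spR R A) {t : spR R A ⟶ Over.mk (𝟙 _)}
    {Q₁ Q' Q₁' Q'' : Over (Spec (CommRingCat.of R))}
    {j₁ : Q₁ ⟶ spR R A} {p₁ : Q₁ ⟶ spR R (Localization.Away f)} (h₁ : IsPullback j₁ p₁ t tU)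
    {j' : Q' ⟶ spR R A} {p' : Q' ⟶ spR R R'} (h' : IsPullback j' p' t tX)
    {i₁ : Q₁' ⟶ spR R B} {m₁ : Q₁' ⟶ Q₁} (hm₁ : IsPullback i₁ m₁ m j₁)
    {i' : Q'' ⟶ spR R B} {m' : Q'' ⟶ Q'} (hm' : IsPullback i' m' m j')
    (f₁ : Flat m₁.left) (g₁ : LocallyOfFinitePresentation m₁.left)
    (f₂ : Flat m'.left) (g₂ : LocallyOfFinitePresentation m'.left) :
    Flat m.left ∧ LocallyOfFinitePresentation m.left := by
  obtain ⟨φ, rfl⟩ := exists_spm m
  obtain ⟨kA, -⟩ := exists_away_map f A
  obtain ⟨kB, -⟩ := exists_away_map f B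
  have cA := isPullback_spm_away f A t tU kA
  have cB := isPullback_spm_away f B (spm φ ≫ t) tU kB
  have dA := isPullback_spm_tensor R' A t tX
  have dB := isPullback_spm_tensor R' B (spm φ ≫ t) tX
  let ψ : Localization.Away (algebraMap R A f) →ₐ[R] Localization.Away (algebraMap R B f) :=
    ⟨IsLocalization.Away.lift (algebraMap R A f)
        (g := (algebraMap B (Localization.Away (algebraMap R B f))).comp φ.toRingHom)
        (by rw [RingHom.comp_apply, AlgHom.toRingHom_eq_coe, RingHom.coe_coe, φ.commutes]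
            exact IsLocalization.Away.algebraMap_isUnit _),
      fun r => by
        rw [IsScalarTower.algebraMap_apply R A (Localization.Away (algebraMap R A f))]
        simp [IsScalarTower.algebraMap_apply R B (Localization.Away (algebraMap R B f))]⟩
  have s₁ : spm (IsScalarTower.toAlgHom R B (Localization.Away (algebraMap R B f))) ≫ spm φ =
      spm ψ ≫ spm (IsScalarTower.toAlgHom R A (Localization.Away (algebraMap R A f))) := by
    rw [spm_comp, spm_comp]
    exact congrArg spm (AlgHom.ext fun a => by simp [ψ])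
  have s₂ : spm (Algebra.TensorProduct.includeRight : B →ₐ[R] R' ⊗[R] B) ≫ spm φ =
      spm ((Algebra.TensorProduct.map (AlgHom.id R R') φ)) ≫
        spm (Algebra.TensorProduct.includeRight : A →ₐ[R] R' ⊗[R] A) := by
    rw [spm_comp, spm_comp]
    exact congrArg spm (AlgHom.ext fun a => by simp)
  have q₁ : IsPullback (spm (IsScalarTower.toAlgHom R B (Localization.Away (algebraMap R B f)))) (spm ψ) (spm φ)
      (spm (IsScalarTower.toAlgHom R A (Localization.Away (algebraMap R A f)))) := by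
    refine IsPullback.of_bot ?_ s₁ cA
    rw [hom_ext_away f (spm ψ ≫ kA) kB]
    exact cB
  have q₂ : IsPullback (spm (Algebra.TensorProduct.includeRight : B →ₐ[R] R' ⊗[R] B))
      (spm (Algebra.TensorProduct.map (AlgHom.id R R') φ)) (spm φ)
      (spm (Algebra.TensorProduct.includeRight : A →ₐ[R] R' ⊗[R] A)) := by
    refine IsPullback.of_bot ?_ s₂ dA
    rw [spm_comp, show (Algebra.TensorProduct.map (AlgHom.id R R') φ).comp Algebra.TensorProduct.includeLeft =
      (Algebra.TensorProduct.includeLeft : R' →ₐ[R] R' ⊗[R] B) from AlgHom.ext fun r => by simp]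
    exact dB
  have tr : ∀ (P : MorphismProperty Scheme.{u}) [P.RespectsIso] {L₁ L₂ M₁ M₂ : Over (Spec (CommRingCat.of R))}
      {a₂ : L₂ ⟶ spR R B} {b : L₂ ⟶ L₁} {a₁ : L₁ ⟶ spR R A} {c₁ : M₁ ⟶ spR R A} {a₂' : M₂ ⟶ spR R B} {b' : M₂ ⟶ M₁}
      (_ : IsPullback a₂ b (spm φ) a₁) (_ : IsPullback a₂' b' (spm φ) c₁) (e : L₁ ≅ M₁) (_ : e.hom ≫ c₁ = a₁),
      P b'.left → P b.left := by
    intro P _ L₁ L₂ M₁ M₂ a₂ b a₁ c₁ a₂' b' q q' e he hP
    have hq : IsPullback a₂ (b ≫ e.hom) (spm φ) c₁ :=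
      q.of_iso (Iso.refl _) (Iso.refl _) e (Iso.refl _) (by simp) (by simp) (by simp) (by simp [he])
    have h2 : _ = _ := congrArg (fun z : L₂ ⟶ M₁ => z.left) (hq.isoIsPullback_hom_snd _ _ q')
    simp only [Over.comp_left] at h2
    rw [← P.cancel_right_of_respectsIso _ e.hom.left, ← h2, P.cancel_left_of_respectsIso]
    exact hP
  have Fψ : Flat (spm ψ).left := tr @Flat q₁ hm₁ (cA.isoIsPullback _ _ h₁) (cA.isoIsPullback_hom_fst _ _ h₁) f₁
  have Gψ : LocallyOfFinitePresentation (spm ψ).left :=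
    tr @LocallyOfFinitePresentation q₁ hm₁ (cA.isoIsPullback _ _ h₁) (cA.isoIsPullback_hom_fst _ _ h₁) g₁
  have Ft : Flat (spm (Algebra.TensorProduct.map (AlgHom.id R R') φ)).left :=
    tr @Flat q₂ hm' (dA.isoIsPullback _ _ h') (dA.isoIsPullback_hom_fst _ _ h') f₂
  have Gt : LocallyOfFinitePresentation (spm (Algebra.TensorProduct.map (AlgHom.id R R') φ)).left :=
    tr @LocallyOfFinitePresentation q₂ hm' (dA.isoIsPullback _ _ h') (dA.isoIsPullback_hom_fst _ _ h') g₂
  have hφf : φ.toRingHom (algebraMap R A f) = algebraMap R B f := φ.commutes f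
  haveI : IsLocalization (Submonoid.powers (φ.toRingHom (algebraMap R A f)))
      (Localization.Away (algebraMap R B f)) := by rw [hφf]; infer_instance
  let ε := (IsLocalization.algEquiv (Submonoid.powers (φ.toRingHom (algebraMap R A f)))
    (Localization.Away (algebraMap R B f)) (Localization.Away (φ.toRingHom (algebraMap R A f)))).toRingEquiv
  have hψ : Localization.awayMap φ.toRingHom (algebraMap R A f) = ε.toRingHom.comp ψ.toRingHom :=
    IsLocalization.ringHom_ext (Submonoid.powers (algebraMap R A f)) (RingHom.ext fun a => by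
      simp [Localization.awayMap, IsLocalization.Away.map, ψ, ε])
  have hF : (Localization.awayMap φ.toRingHom (algebraMap R A f)).Flat ∧
      (Localization.awayMap φ.toRingHom (algebraMap R A f)).FinitePresentation := by
    rw [hψ]
    exact ⟨RingHom.Flat.respectsIso.1 _ ε ((HasRingHomProperty.Spec_iff (P := @Flat)).1 Fψ),
      RingHom.finitePresentation_respectsIso.1 _ ε ((HasRingHomProperty.Spec_iff (P := @LocallyOfFinitePresentation)).1 Gψ)⟩
  have hG : (Algebra.TensorProduct.map (AlgHom.id R R') φ).toRingHom.Flat ∧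
      (Algebra.TensorProduct.map (AlgHom.id R R') φ).toRingHom.FinitePresentation :=
    ⟨(HasRingHomProperty.Spec_iff (P := @Flat)).1 Ft,
      (HasRingHomProperty.Spec_iff (P := @LocallyOfFinitePresentation)).1 Gt⟩
  obtain ⟨k₁, k₂⟩ := (HenselLib.BL.ringHom_iffs h A B hA φ).2.2.2.2.1.2 ⟨hF, hG⟩
  exact ⟨(HasRingHomProperty.Spec_iff (P := @Flat)).2 k₁,
    (HasRingHomProperty.Spec_iff (P := @LocallyOfFinitePresentation)).2 k₂⟩

theorem span_image_eq_top (L : Type u) [CommRing L] [Algebra R L] (φ : A →ₐ[R] B)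
    (hs : Function.Surjective (Algebra.TensorProduct.map (AlgHom.id R L) φ)) :
    Submodule.span L ((fun b => (1 : L) ⊗ₜ[R] b) '' (LinearMap.range φ.toLinearMap : Set B)) = ⊤ := by
  rw [eq_top_iff]
  rintro z -
  obtain ⟨w, rfl⟩ := hs z
  induction w with
  | zero => rw [map_zero]; exact zero_mem _
  | add p q hp hq => rw [map_add]; exact add_mem hp hq
  | tmul l a =>
    rw [Algebra.TensorProduct.map_tmul, AlgHom.id_apply,
      show l ⊗ₜ[R] φ a = l • ((1 : L) ⊗ₜ[R] φ a) by rw [smul_tmul', smul_eq_mul, mul_one]]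
    exact Submodule.smul_mem _ _ (Submodule.subset_span ⟨φ a, ⟨a, rfl⟩, rfl⟩)

include tU tX in
/-- closed immersions into affine schemes can be tested on the pieces -/
theorem isClosedImmersion_of_pieces (h : EtGlue.IsGlueingPair R R' f)
    (m : spR R B ⟶ spR R A) {t : spR R A ⟶ Over.mk (𝟙 _)}
    {Q₁ Q' Q₁' Q'' : Over (Spec (CommRingCat.of R))}
    {j₁ : Q₁ ⟶ spR R A} {p₁ : Q₁ ⟶ spR R (Localization.Away f)} (h₁ : IsPullback j₁ p₁ t tU)
    {j' : Q' ⟶ spR R A} {p' : Q' ⟶ spR R R'} (h' : IsPullback j' p' t tX)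
    {i₁ : Q₁' ⟶ spR R B} {m₁ : Q₁' ⟶ Q₁} (hm₁ : IsPullback i₁ m₁ m j₁)
    {i' : Q'' ⟶ spR R B} {m' : Q'' ⟶ Q'} (hm' : IsPullback i' m' m j')
    (f₁ : IsClosedImmersion m₁.left) (f₂ : IsClosedImmersion m'.left) : IsClosedImmersion m.left := by
  obtain ⟨φ, rfl⟩ := exists_spm m
  have key : ∀ (L : Type u) [CommRing L] [Algebra R L] (tL : spR R L ⟶ Over.mk (𝟙 _))
      {N N' : Over (Spec (CommRingCat.of R))} {j : N ⟶ spR R A} {p : N ⟶ spR R L} (_ : IsPullback j p t tL)
      {i : N' ⟶ spR R B} {n : N' ⟶ N} (_ : IsPullback i n (spm φ) j), IsClosedImmersion n.left →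
      Function.Surjective (Algebra.TensorProduct.map (AlgHom.id R L) φ) := by
    intro L _ _ tL N N' j p hj i n hn hcl
    have dA := isPullback_spm_tensor L A t tL
    have dB := isPullback_spm_tensor L B (spm φ ≫ t) tL
    have q : IsPullback (spm (Algebra.TensorProduct.includeRight : B →ₐ[R] L ⊗[R] B))
        (spm (Algebra.TensorProduct.map (AlgHom.id R L) φ)) (spm φ)
        (spm (Algebra.TensorProduct.includeRight : A →ₐ[R] L ⊗[R] A)) := by
      refine IsPullback.of_bot ?_ (by
        rw [spm_comp, spm_comp]; exact congrArg spm (AlgHom.ext fun a => by simp)) dA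
      rw [spm_comp, show (Algebra.TensorProduct.map (AlgHom.id R L) φ).comp Algebra.TensorProduct.includeLeft =
        (Algebra.TensorProduct.includeLeft : L →ₐ[R] L ⊗[R] B) from AlgHom.ext fun r => by simp]
      exact dB
    have he : (dA.isoIsPullback _ _ hj).hom ≫ j = _ := dA.isoIsPullback_hom_fst _ _ hj
    have hq : IsPullback (spm (Algebra.TensorProduct.includeRight : B →ₐ[R] L ⊗[R] B))
        (spm (Algebra.TensorProduct.map (AlgHom.id R L) φ) ≫ (dA.isoIsPullback _ _ hj).hom) (spm φ) j :=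
      q.of_iso (Iso.refl _) (Iso.refl _) (dA.isoIsPullback _ _ hj) (Iso.refl _) (by simp) (by simp) (by simp)
        (by simp [he])
    have h2 : _ = _ := congrArg (fun z : _ ⟶ N => z.left) (hq.isoIsPullback_hom_snd _ _ hn)
    simp only [Over.comp_left] at h2
    have hci : IsClosedImmersion (spm (Algebra.TensorProduct.map (AlgHom.id R L) φ)).left := by
      rw [← MorphismProperty.cancel_right_of_respectsIso (P := @IsClosedImmersion) _
        (dA.isoIsPullback _ _ hj).hom.left, ← h2, MorphismProperty.cancel_left_of_respectsIso (P := @IsClosedImmersion)]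
      exact hcl
    exact surjective_of_closed _ hci
  refine IsClosedImmersion.spec_of_surjective _ ?_
  have := HenselLib.BL.eq_top_of_span h.1 (LinearMap.range φ.toLinearMap)
    (span_image_eq_top R' φ (key R' tX h' hm' f₂))
    (span_image_eq_top (Localization.Away f) φ (key (Localization.Away f) tU h₁ hm₁ f₁))
  exact LinearMap.range_eq_top.mp this

end open_part

end pair

end Groth.Agent.AlgSpLib.GlueQA
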