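import Groth.Agent.AlgSpLib.GlueQAPieceMain
import Mathlib.AlgebraicGeometry.Limits
import Mathlib.RingTheory.TensorProduct.Pi

/-!
# An affine cover of a glueing datum of quasi-affine schemes
-/

set_option autoImplicit false
set_option linter.style.haveILetI false
set_option backward.isDefEq.respectTransparency false
set_option backward.isDefEq.respectTransparency.types false

universe u

open CategoryTheory CategoryTheory.Limits AlgebraicGeometry TensorProduct

noncomputable section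

namespace Groth.Agent.AlgSpLib.GlueQA

variable {R : Type u} [CommRing R]

instance isAffine_spR_left (A : Type u) [CommRing A] [Algebra R A] : IsAffine (spR R A).left :=
  isAffine_Spec _

/-- the affine hull of a quasi-affine scheme -/
theorem exists_qa (P : Over (Spec (CommRingCat.of R))) [P.left.IsQuasiAffine] :
    ∃ (B : Type u) (_ : CommRing B) (_ : Algebra R B) (ι : P ⟶ spR R B) (_ : IsOpenImmersion ι.left) (m : ℕ)
      (b : Fin m → B), Set.range ι.left = (⋃ k, (PrimeSpectrum.basicOpen (b k) : Set (PrimeSpectrum B))) ∧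
        (∀ k, (PrimeSpectrum.basicOpen (b k) : Set (PrimeSpectrum B)) ⊆ Set.range ι.left) ∧
        ∀ (A : Type u) [CommRing A] [Algebra R A] (x : P ⟶ spR R A), ∃ g : spR R B ⟶ spR R A, ι ≫ g = x := by
  haveI : ∀ (A : Type u) [CommRing A], IsAffine (Spec (CommRingCat.of A)) := fun A _ => isAffine_Spec _
  haveI : ∀ (A : Type u) [CommRing A], IsIso (Spec (CommRingCat.of A)).toSpecΓ := fun A _ => IsAffine.affine
  let e : ∀ (A : Type u) [CommRing A] (x : P.left ⟶ Spec (CommRingCat.of A)),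
      P.left.toSpecΓ ≫ Spec.map x.appTop ≫ inv (Spec (CommRingCat.of A)).toSpecΓ = x := fun A _ x => by
    rw [← Category.assoc, ← Scheme.toSpecΓ_naturality, Category.assoc, IsIso.hom_inv_id, Category.comp_id]
  let φ := Spec.preimage (Spec.map P.hom.appTop ≫ inv (Spec (CommRingCat.of R)).toSpecΓ)
  letI : Algebra R Γ(P.left, ⊤) := φ.hom.toAlgebra
  have hφ : (spR R Γ(P.left, ⊤)).hom = Spec.map P.hom.appTop ≫ inv (Spec (CommRingCat.of R)).toSpecΓ :=
    Spec.map_preimage _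
  let ι : P ⟶ spR R Γ(P.left, ⊤) := Over.homMk P.left.toSpecΓ (by rw [hφ]; exact e R P.hom)
  haveI : IsOpenImmersion ι.left := inferInstanceAs (IsOpenImmersion P.left.toSpecΓ)
  have hc : IsCompact (Set.range ι.left) := isCompact_range ι.left.continuous
  have ho : IsOpen (Set.range ι.left) := ι.left.isOpenEmbedding.isOpen_range
  have hex : ∀ x : PrimeSpectrum Γ(P.left, ⊤), x ∈ Set.range ι.left →
      ∃ b, x ∈ PrimeSpectrum.basicOpen b ∧ (PrimeSpectrum.basicOpen b : Set (PrimeSpectrum _)) ⊆ Set.range ι.left :=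
    fun x hx => by
      obtain ⟨V, ⟨b, rfl⟩, hxV, hV⟩ := PrimeSpectrum.isTopologicalBasis_basic_opens.exists_subset_of_mem_open hx ho
      exact ⟨b, hxV, hV⟩
  choose b hb₁ hb₂ using hex
  obtain ⟨T, hT⟩ := hc.elim_finite_subcover (fun x : Set.range ι.left =>
      (PrimeSpectrum.basicOpen (b x.1 x.2) : Set (PrimeSpectrum Γ(P.left, ⊤)))) (fun x => (PrimeSpectrum.basicOpen (b x.1 x.2)).isOpen)
    (fun x hx => Set.mem_iUnion.mpr ⟨⟨x, hx⟩, hb₁ x hx⟩)
  refine ⟨Γ(P.left, ⊤), inferInstance, inferInstance, ι, inferInstance, T.card,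
    fun k => b _ (T.equivFin.symm k).1.2, subset_antisymm (fun x hx => ?_) (Set.iUnion_subset fun k => hb₂ _ _),
    fun k => hb₂ _ _, fun A _ _ x => ?_⟩
  · obtain ⟨y, hy, hxy⟩ := Set.mem_iUnion₂.mp (hT hx)
    exact Set.mem_iUnion.mpr ⟨T.equivFin ⟨y, hy⟩, by simpa using hxy⟩
  · refine ⟨Over.homMk (Spec.map x.left.appTop ≫ inv (Spec (CommRingCat.of A)).toSpecΓ) ?_, Over.OverMorphism.ext (e A x.left)⟩
    rw [hφ, Category.assoc]
    have h : x.left ≫ (spR R A).hom = P.hom := Over.w x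
    rw [← h, Scheme.Hom.comp_appTop, Spec.map_comp, Category.assoc]
    congr 1
    rw [IsIso.inv_comp_eq, ← Category.assoc, IsIso.eq_comp_inv]
    exact Scheme.toSpecΓ_naturality _

/-- morphisms out of the spectrum of a finite product -/
theorem exists_pi_desc {ι : Type u} [Finite ι] {A : ι → Type u} [∀ i, CommRing (A i)] [∀ i, Algebra R (A i)]
    {W : Over (Spec (CommRingCat.of R))} (x : ∀ i, spR R (A i) ⟶ W) :
    ∃ m : spR R (∀ i, A i) ⟶ W, (∀ i, spm (Pi.evalAlgHom R A i) ≫ m = x i) ∧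
      (∀ m', (∀ i, spm (Pi.evalAlgHom R A i) ≫ m' = x i) → m' = m) ∧
      (∀ (P : MorphismProperty Scheme.{u}) [IsZariskiLocalAtSource P] [P.RespectsIso],
        (∀ i, P (x i).left) → P m.left) ∧
      ∀ i q, (x i).left q ∈ Set.range m.left := by
  let σ := sigmaSpec fun i => CommRingCat.of (A i)
  have hσ : ∀ i, Sigma.ι (fun i => Spec (CommRingCat.of (A i))) i ≫ σ = (spm (Pi.evalAlgHom R A i)).left :=
    fun i => ι_sigmaSpec _ i
  let m₀ : Spec (CommRingCat.of (∀ i, A i)) ⟶ W.left := inv σ ≫ Sigma.desc fun i => (x i).left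
  have hm₀ : ∀ i, (spm (Pi.evalAlgHom R A i)).left ≫ m₀ = (x i).left := fun i => by
    rw [← hσ]
    simp [m₀]
  have hover : m₀ ≫ W.hom = (spR R (∀ i, A i)).hom := by
    rw [← cancel_epi σ]
    refine Sigma.hom_ext _ _ fun i => ?_
    rw [reassoc_of% hσ i, reassoc_of% hm₀ i, reassoc_of% hσ i]
    exact (Over.w (x i)).trans (Over.w (spm (Pi.evalAlgHom R A i))).symm
  refine ⟨Over.homMk m₀ hover, fun i => Over.OverMorphism.ext (hm₀ i), fun m' hm' => Over.OverMorphism.ext ?_,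
    fun P _ _ h => ?_, fun i q => ⟨(spm (Pi.evalAlgHom R A i)).left q, ?_⟩⟩
  · show m'.left = m₀
    rw [← cancel_epi σ]
    refine Sigma.hom_ext _ _ fun i => ?_
    rw [reassoc_of% hσ i, reassoc_of% hσ i, hm₀, ← Over.comp_left, hm']
  · show P (inv σ ≫ Sigma.desc fun i => (x i).left)
    rw [P.cancel_left_of_respectsIso]
    exact IsZariskiLocalAtSource.sigmaDesc h
  · exact congrArg (fun φ => φ q) (hm₀ i)

theorem pi_hom_ext {ι : Type u} [Finite ι] {A : ι → Type u} [∀ i, CommRing (A i)] [∀ i, Algebra R (A i)]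
    {W : Over (Spec (CommRingCat.of R))} (a b : spR R (∀ i, A i) ⟶ W)
    (h : ∀ i, spm (Pi.evalAlgHom R A i) ≫ a = spm (Pi.evalAlgHom R A i) ≫ b) : a = b := by
  obtain ⟨m, -, hu, -⟩ := exists_pi_desc fun i => spm (Pi.evalAlgHom R A i) ≫ b
  rw [hu a h, hu b fun _ => rfl]

/-- localization commutes with finite products -/
theorem isLocalization_pi' {ι : Type u} [Finite ι] {E D : ι → Type u} [∀ i, CommRing (E i)] [∀ i, CommRing (D i)]
    [∀ i, Algebra (E i) (D i)] (g : ∀ i, E i) [h : ∀ i, IsLocalization.Away (g i) (D i)] :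
    letI := (RingHom.pi fun i => (algebraMap (E i) (D i)).comp (Pi.evalRingHom E i)).toAlgebra
    IsLocalization.Away (g : ∀ i, E i) (∀ i, D i) := by
  letI := (RingHom.pi fun i => (algebraMap (E i) (D i)).comp (Pi.evalRingHom E i)).toAlgebra
  haveI := Fintype.ofFinite ι
  refine IsLocalization.Away.mk _ (isUnit_iff_exists_inv.mpr
    ⟨fun i => ((IsLocalization.Away.algebraMap_isUnit (g i)).unit⁻¹ : (D i)ˣ), funext fun i => IsUnit.mul_val_inv _⟩)
    (fun z => ?_) fun a b hab => ?_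
  · choose n a ha using fun i => IsLocalization.Away.surj (g i) (z i)
    refine ⟨Finset.univ.sup n, fun i => a i * g i ^ (Finset.univ.sup n - n i), funext fun i => ?_⟩
    have hle : n i ≤ Finset.univ.sup n := Finset.le_sup (Finset.mem_univ i)
    show z i * algebraMap (E i) (D i) (g i) ^ Finset.univ.sup n = algebraMap (E i) (D i) (a i * g i ^ _)
    rw [map_mul, ← ha i, map_pow, mul_assoc, ← pow_add, Nat.add_sub_cancel' hle]
  · choose n hn using fun i => IsLocalization.Away.exists_of_eq (g i) (congrFun hab i)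
    refine ⟨Finset.univ.sup n, funext fun i => ?_⟩
    have hle : n i ≤ Finset.univ.sup n := Finset.le_sup (Finset.mem_univ i)
    show g i ^ _ * a i = g i ^ _ * b i
    rw [← Nat.sub_add_cancel hle, pow_add, mul_assoc, mul_assoc]
    exact congrArg (_ * ·) (hn i)

/-- finitely many pieces combine to one -/
theorem exists_sigmaPiece {R' : Type u} [CommRing R'] [Algebra R R'] {f : R}
    {V V' Y' : Over (Spec (CommRingCat.of R))} {pV : V' ⟶ V} {pY : V' ⟶ Y'} {y' : Y' ⟶ spR R R'}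
    {ι : Type u} [Finite ι] (P : ι → Piece pV pY y' f) :
    ∃ Q : Piece pV pY y' f, ∀ i, Set.range (P i).τ₁.left ⊆ Set.range Q.τ₁.left ∧
      Set.range (P i).τ'.left ⊆ Set.range Q.τ'.left := by
  classical
  haveI := Fintype.ofFinite ι
  obtain ⟨τ₁, hτ₁, -, hP₁, hr₁⟩ := exists_pi_desc fun i => (P i).τ₁
  obtain ⟨τ', hτ', -, hP', hr'⟩ := exists_pi_desc fun i => (P i).τ'
  let eπ := Algebra.TensorProduct.piRight R R' R' (fun i => (P i).B₁)
  let Hπ : (∀ i, (P i).E) →ₐ[R'] ∀ i, R' ⊗[R] (P i).B₁ :=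
    AlgHom.pi fun i => (P i).H.comp (Pi.evalAlgHom R' (fun i => (P i).E) i)
  let H : (∀ i, (P i).E) →ₐ[R'] R' ⊗[R] (∀ i, (P i).B₁) := eπ.symm.toAlgHom.comp Hπ
  let ec : spR R (∀ i, R' ⊗[R] (P i).B₁) ≅ spR R (R' ⊗[R] (∀ i, (P i).B₁)) :=
    ⟨spm (eπ.toAlgHom.restrictScalars R), spm (eπ.symm.toAlgHom.restrictScalars R),
      by rw [spm_comp, ← spm_id]; exact congrArg spm (AlgHom.ext fun x => eπ.apply_symm_apply x),
      by rw [spm_comp, ← spm_id]; exact congrArg spm (AlgHom.ext fun x => eπ.symm_apply_apply x)⟩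
  obtain ⟨c₀, hc₀, -, -, -⟩ := exists_pi_desc fun i => (P i).c
  have hev : ∀ i, (Pi.evalAlgHom R (fun i => R' ⊗[R] (P i).B₁) i).comp (eπ.toAlgHom.restrictScalars R) =
      (Algebra.TensorProduct.map (AlgHom.id R' R') (Pi.evalAlgHom R (fun i => (P i).B₁) i)).restrictScalars R := fun i => by
    refine AlgHom.ext fun z => ?_
    show eπ z i = Algebra.TensorProduct.map (AlgHom.id R' R') (Pi.evalAlgHom R (fun i => (P i).B₁) i) z
    induction z with
    | zero => simp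
    | add p q hp hq => simp only [map_add, Pi.add_apply, hp, hq]
    | tmul r b => simp [eπ]
  refine ⟨⟨∀ i, (P i).B₁, ∀ i, (P i).E, ?_, H, ?_, τ₁, τ', ec.inv ≫ c₀, ?_, ?_, ?_, hP₁ @Flat fun i => (P i).flat₁,
    hP₁ @LocallyOfFinitePresentation fun i => (P i).lfp₁, hP' @Flat fun i => (P i).flat',
    hP' @LocallyOfFinitePresentation fun i => (P i).lfp'⟩, fun i => ⟨?_, ?_⟩⟩
  · exact isUnit_iff_exists_inv.mpr ⟨fun i => ((P i).unit.unit⁻¹ : ((P i).B₁)ˣ), funext fun i => IsUnit.mul_val_inv _⟩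
  · letI := fun i => (P i).H.toRingHom.toAlgebra
    haveI := fun i => (P i).loc
    haveI h1 := isLocalization_pi' (D := fun i => R' ⊗[R] (P i).B₁) fun i => algebraMap R (P i).E f
    letI := H.toRingHom.toAlgebra
    letI aπ : Algebra (∀ i, (P i).E) (∀ i, R' ⊗[R] (P i).B₁) := Hπ.toRingHom.toAlgebra
    haveI h2 : IsLocalization.Away (algebraMap R (∀ i, (P i).E) f) (∀ i, R' ⊗[R] (P i).B₁) := h1
    exact IsLocalization.isLocalization_of_algEquiv _
      (AlgEquiv.ofRingEquiv (f := eπ.symm.toRingEquiv) fun x => rfl)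
  · rw [Category.assoc, Iso.inv_comp_eq]
    refine pi_hom_ext _ _ fun i => ?_
    rw [reassoc_of% hc₀ i, (P i).hcV, ← hτ₁ i]
    simp only [ec, ← Category.assoc, spm_comp]
    congr 2
    all_goals
      rw [← AlgHom.comp_assoc, hev i]
      first | done | exact AlgHom.ext fun b => by simp
  · rw [Category.assoc, Iso.inv_comp_eq]
    refine pi_hom_ext _ _ fun i => ?_
    rw [reassoc_of% hc₀ i, (P i).hcY, ← hτ' i]
    simp only [ec, ← Category.assoc, spm_comp]
    congr 2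
    refine AlgHom.ext fun e => ?_
    show (P i).H (e i) = eπ (eπ.symm (Hπ e)) i
    rw [eπ.apply_symm_apply]
    rfl
  · refine pi_hom_ext _ _ fun i => ?_
    rw [reassoc_of% hτ' i, (P i).hy, spm_comp]
    exact congrArg spm (AlgHom.ext fun r => rfl)
  · rintro _ ⟨q, rfl⟩; exact hr₁ i q
  · rintro _ ⟨q, rfl⟩; exact hr' i q

/-- an affine cover of a glueing datum of quasi-affine schemes -/
theorem exists_cover {R' : Type u} [CommRing R'] [Algebra R R'] {f : R} (h : EtGlue.IsGlueingPair R R' f)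
    {V V' Y' : Over (Spec (CommRingCat.of R))} [V.left.IsQuasiAffine] [Y'.left.IsQuasiAffine]
    {pV : V' ⟶ V} {pY : V' ⟶ Y'} {v : V ⟶ spR R (Localization.Away f)} {y' : Y' ⟶ spR R R'}
    {tU : spR R (Localization.Away f) ⟶ Over.mk (𝟙 _)} {tX : spR R R' ⟶ Over.mk (𝟙 _)}
    {qX : V' ⟶ spR R R'} (hV₁ : IsPullback pV qX (v ≫ tU) tX)
    {qU : V' ⟶ spR R (Localization.Away f)} (hV₂ : IsPullback pY qU (y' ≫ tX) tU) (hqX : pY ≫ y' = qX) :
    ∃ (A : Type u) (_ : CommRing A) (_ : Algebra R A) (_ : EtGlue.IsGlueable R R' f A)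
      (Q₁ Q' : Over (Spec (CommRingCat.of R))) (_ : IsAffine Q₁.left) (_ : IsAffine Q'.left)
      (j₁ : Q₁ ⟶ spR R A) (u₁ : Q₁ ⟶ spR R (Localization.Away f)) (j' : Q' ⟶ spR R A) (x' : Q' ⟶ spR R R')
      (t : spR R A ⟶ Over.mk (𝟙 _)) (τ₁ : Q₁ ⟶ V) (τ' : Q' ⟶ Y'),
      IsPullback j₁ u₁ t tU ∧ IsPullback j' x' t tX ∧ τ' ≫ y' = x' ∧
      Flat τ₁.left ∧ LocallyOfFinitePresentation τ₁.left ∧ Surjective τ₁.left ∧
      Flat τ'.left ∧ LocallyOfFinitePresentation τ'.left ∧ Surjective τ'.left ∧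
      ∀ (Z : Over (Spec (CommRingCat.of R))) (a : Z ⟶ Q₁) (b : Z ⟶ Q'), a ≫ j₁ = b ≫ j' →
        ∃ c : Z ⟶ V', c ≫ pV = a ≫ τ₁ ∧ c ≫ pY = b ≫ τ' := by
  obtain ⟨B, _, _, ι, hι', m, b, hι, -, hfac⟩ := exists_qa V
  obtain ⟨Bo, _, _, κ, hκ', n, a, hκ, ha, hfac'⟩ := exists_qa Y'
  obtain ⟨gv, -⟩ := hfac _ v
  have hfB : IsUnit (algebraMap R B f) := by
    obtain ⟨φ, -⟩ := exists_spm gv
    rw [← φ.commutes]
    exact (IsLocalization.Away.algebraMap_isUnit f).map φ
  obtain ⟨gy, hgy⟩ := hfac' _ y'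
  obtain ⟨χ, rfl⟩ := exists_spm gy
  letI := χ.toRingHom.toAlgebra
  haveI : IsScalarTower R R' Bo := IsScalarTower.of_algebraMap_eq fun r => (χ.commutes r).symm
  have hκy : κ ≫ spm (IsScalarTower.toAlgHom R R' Bo) = y' := by
    rw [show IsScalarTower.toAlgHom R R' Bo = χ from AlgHom.ext fun _ => rfl]; exact hgy
  obtain ⟨P₀, hs₀, hr₀⟩ := exists_basePiece hV₁ hV₂ hqX hfB ι b hι
  choose P hP using fun k => exists_piece hV₁ hV₂ hqX hfB ι b hι κ hκy h (a k) (ha k)
  obtain ⟨Q, hQ⟩ := exists_sigmaPiece fun o : ULift.{u} (Option (Fin n)) => o.down.elim P₀ P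
  let u₁ : spR R Q.B₁ ⟶ spR R (Localization.Away f) := (exists_toU Q.B₁ Q.unit).choose
  let H := Q.H.restrictScalars R
  letI := Q.H.toRingHom.toAlgebra
  haveI := Q.loc
  haveI : IsScalarTower R Q.E (R' ⊗[R] Q.B₁) := IsScalarTower.of_algebraMap_eq fun r => (H.commutes r).symm
  obtain ⟨k, -⟩ := exists_away_map f Q.E
  let e := IsLocalization.algEquiv (Submonoid.powers (algebraMap R Q.E f)) (Localization.Away (algebraMap R Q.E f))
    (R' ⊗[R] Q.B₁)
  let ei : spR R (R' ⊗[R] Q.B₁) ≅ spR R (Localization.Away (algebraMap R Q.E f)) :=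
    ⟨spm (e.toAlgHom.restrictScalars R), spm (e.symm.toAlgHom.restrictScalars R),
      by rw [spm_comp, ← spm_id]; exact congrArg spm (AlgHom.ext fun x => e.apply_symm_apply x),
      by rw [spm_comp, ← spm_id]; exact congrArg spm (AlgHom.ext fun x => e.symm_apply_apply x)⟩
  have hei : spm H = ei.hom ≫ spm (IsScalarTower.toAlgHom R Q.E (Localization.Away (algebraMap R Q.E f))) := by
    simp only [ei, spm_comp]
    exact congrArg spm (AlgHom.ext fun x => (e.commutes x).symm)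
  let x' : spR R Q.E ⟶ spR R R' := spm (IsScalarTower.toAlgHom R R' Q.E)
  have hK₁ := isPullback_spm_tensor R' Q.B₁ (u₁ ≫ tU) tX
  have hK' : IsPullback (spm H) (ei.hom ≫ k) (x' ≫ tX) tU :=
    (isPullback_spm_away f Q.E (x' ≫ tX) tU k).of_iso ei.symm (Iso.refl _) (Iso.refl _) (Iso.refl _)
      (by simp [hei]) (by simp) (by simp) (by simp)
  obtain ⟨A, _, _, hA, j₁, j', t, h₁, h', hj⟩ := exists_glue tU tX h u₁ x'
    (spm (Algebra.TensorProduct.includeRight : Q.B₁ →ₐ[R] R' ⊗[R] Q.B₁)) (spm H) _ (ei.hom ≫ k) hK₁ hK'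
    (by rw [spm_comp]; exact congrArg spm (AlgHom.ext fun r => Q.H.commutes r))
  refine ⟨A, inferInstance, inferInstance, hA, spR R Q.B₁, spR R Q.E, inferInstance, inferInstance, j₁, u₁, j', x', t,
    Q.τ₁, Q.τ', h₁, h', Q.hy, Q.flat₁, Q.lfp₁, ⟨fun p => ?_⟩, Q.flat', Q.lfp', ⟨fun p => ?_⟩, fun Z az bz hab => ?_⟩
  · exact (hQ ⟨none⟩).1 (hs₀.surj p)
  · have hp : κ.left p ∈ Set.range κ.left := ⟨p, rfl⟩
    rw [hκ, Set.mem_iUnion] at hp
    obtain ⟨k', hk'⟩ := hp
    rcases hP k' p hk' with hp' | hp'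
    · exact (hQ ⟨none⟩).2 (hr₀ hp')
    · exact (hQ ⟨some k'⟩).2 hp'
  · obtain ⟨z, hz₁, hz₂⟩ := hK₁.exists_lift az (bz ≫ x') (hom_ext_pt _ _)
    have hzb : z ≫ spm H = bz := h'.hom_ext
      (by rw [Category.assoc, ← hj, reassoc_of% hz₁, hab])
      (by
        rw [Category.assoc, ← hz₂, spm_comp]
        exact congrArg (z ≫ spm ·) (AlgHom.ext fun r => Q.H.commutes r))
    exact ⟨z ≫ Q.c, by rw [Category.assoc, Q.hcV, reassoc_of% hz₁],
      by rw [Category.assoc, Q.hcY, ← Category.assoc, hzb]⟩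

end Groth.Agent.AlgSpLib.GlueQA
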