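import Groth.Agent.AlgSpLib.GlueQARing
import Groth.Agent.AlgSpLib.GlueQAAffine
import Mathlib.RingTheory.MvPolynomial.Localization
import Mathlib.RingTheory.Localization.BaseChange
import Mathlib.RingTheory.RingHom.FaithfullyFlat
import Mathlib.AlgebraicGeometry.QuasiAffine

/-!
# Local pieces of an affine cover of a glueing datum of quasi-affine schemes
-/

set_option autoImplicit false
set_option linter.style.haveILetI false
set_option backward.isDefEq.respectTransparency false
set_option backward.isDefEq.respectTransparency.types false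

universe u

open CategoryTheory CategoryTheory.Limits AlgebraicGeometry TensorProduct

noncomputable section

namespace Groth.Agent.AlgSpLib.GlueQA

variable {R : Type u} [CommRing R]

theorem range_spm_away {A : Type u} [CommRing A] [Algebra R A] (g : A) (B : Type u) [CommRing B] [Algebra R B]
    [Algebra A B] [IsScalarTower R A B] [IsLocalization.Away g B] :
    IsOpenImmersion (spm (IsScalarTower.toAlgHom R A B)).left ∧
      Set.range (spm (IsScalarTower.toAlgHom R A B)).left =
        (PrimeSpectrum.basicOpen g : Set (PrimeSpectrum A)) :=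
  ⟨IsOpenImmersion.of_isLocalization (S := B) g, PrimeSpectrum.localization_away_comap_range B g⟩

theorem range_spm_of_isLocalization {A B : Type u} [CommRing A] [Algebra R A] [CommRing B] [Algebra R B]
    (φ : A →ₐ[R] B) (g : A) (hl : letI := φ.toRingHom.toAlgebra; IsLocalization.Away g B) :
    IsOpenImmersion (spm φ).left ∧ Set.range (spm φ).left = (PrimeSpectrum.basicOpen g : Set (PrimeSpectrum A)) := by
  letI := φ.toRingHom.toAlgebra
  haveI : IsScalarTower R A B := IsScalarTower.of_algebraMap_eq fun r => (φ.commutes r).symm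
  haveI := hl
  have e : spm φ = spm (IsScalarTower.toAlgHom R A B) := congrArg spm (AlgHom.ext fun _ => rfl)
  rw [e]
  exact range_spm_away g B

/-- a morphism into an affine scheme factoring through an open subscheme -/
theorem exists_lift_open {P W Q : Over (Spec (CommRingCat.of R))} (ι : W ⟶ Q) [IsOpenImmersion ι.left]
    (x : P ⟶ Q) (h : Set.range x.left ⊆ Set.range ι.left) : ∃ y : P ⟶ W, y ≫ ι = x := by
  refine ⟨Over.homMk (IsOpenImmersion.lift ι.left x.left h) ?_, Over.OverMorphism.ext (IsOpenImmersion.lift_fac _ _ _)⟩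
  rw [← Over.w ι, ← Category.assoc, IsOpenImmersion.lift_fac, Over.w x]

theorem mono_of_left {P W : Over (Spec (CommRingCat.of R))} (ι : P ⟶ W) [IsOpenImmersion ι.left] : Mono ι :=
  ⟨fun a b e => Over.OverMorphism.ext ((cancel_mono ι.left).mp (congrArg CommaMorphism.left e))⟩

/-- localizing in two steps commutes -/
theorem isLocalization_comm {E C E₁ C₁ : Type u} [CommRing E] [CommRing C] [CommRing E₁] [CommRing C₁]
    [Algebra E C] [Algebra E E₁] [Algebra C C₁] [Algebra E₁ C₁] (φ α : E)
    [IsLocalization.Away φ C] [IsLocalization.Away α E₁] [IsLocalization.Away (algebraMap E C α) C₁]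
    (w : ∀ e, algebraMap E₁ C₁ (algebraMap E E₁ e) = algebraMap C C₁ (algebraMap E C e)) :
    IsLocalization.Away (algebraMap E E₁ φ) C₁ := by
  refine IsLocalization.Away.mk _ (by
    rw [w]; exact (IsLocalization.Away.algebraMap_isUnit φ).map _) (fun z => ?_) fun p q h => ?_
  · obtain ⟨n, c, hc⟩ := IsLocalization.Away.surj (algebraMap E C α) z
    obtain ⟨m, e, he⟩ := IsLocalization.Away.surj φ c
    obtain ⟨v, hv⟩ := ((IsLocalization.Away.algebraMap_isUnit α (S := E₁)).pow n).exists_right_inv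
    refine ⟨m, algebraMap E E₁ e * v, ?_⟩
    rw [map_mul, w, w, ← he, map_mul, ← hc, map_pow]
    have hv' := congrArg (algebraMap E₁ C₁) hv
    rw [map_mul, map_pow, w, map_one] at hv'
    linear_combination -(z * algebraMap C C₁ (algebraMap E C φ) ^ m) * hv'
  · obtain ⟨n, e, he⟩ := IsLocalization.Away.surj α (p - q)
    have h0 : algebraMap C C₁ (algebraMap E C e) = 0 := by
      rw [← w, ← he, map_mul, map_sub, h, sub_self, zero_mul]
    obtain ⟨k, hk⟩ := IsLocalization.Away.exists_of_eq (algebraMap E C α) (h0.trans (map_zero _).symm)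
    rw [mul_zero, ← map_pow, ← map_mul] at hk
    obtain ⟨m, hm⟩ := IsLocalization.Away.exists_of_eq φ (hk.trans (map_zero _).symm)
    rw [mul_zero] at hm
    refine ⟨m, sub_eq_zero.mp ?_⟩
    have h1 := congrArg (algebraMap E E₁) hm
    rw [map_mul, map_mul, map_pow, map_pow, map_zero, ← he] at h1
    have hu : IsUnit (algebraMap E E₁ α ^ k * algebraMap E E₁ α ^ n) :=
      ((IsLocalization.Away.algebraMap_isUnit α).pow k).mul ((IsLocalization.Away.algebraMap_isUnit α).pow n)
    refine hu.mul_left_eq_zero.mp ?_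
    linear_combination h1

instance jouAlgebra {B : Type u} [CommRing B] [Algebra R B] {m : ℕ} (b : Fin m → B) : Algebra R (Jou b) :=
  inferInstanceAs (Algebra R (MvPolynomial (Option (Fin m)) B ⧸ Ideal.span {jouRel b}))

instance jouTower {B : Type u} [CommRing B] [Algebra R B] {m : ℕ} (b : Fin m → B) : IsScalarTower R B (Jou b) :=
  inferInstanceAs (IsScalarTower R B (MvPolynomial (Option (Fin m)) B ⧸ Ideal.span {jouRel b}))

/-- the row becomes unimodular in an algebra whose spectrum avoids its zero locus -/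
theorem exists_unimodular {B : Type u} [CommRing B] {m : ℕ} (b : Fin m → B) (Q : Type u) [CommRing Q] [Algebra B Q]
    (h : ∀ q : PrimeSpectrum Q, ∃ k, PrimeSpectrum.comap (algebraMap B Q) q ∈ PrimeSpectrum.basicOpen (b k)) :
    ∃ c₀ : Fin m → Q, ∑ k, algebraMap B Q (b k) * c₀ k = 1 := by
  have : Ideal.span (Set.range fun k => algebraMap B Q (b k)) = ⊤ := by
    by_contra hne
    obtain ⟨M, hM, hle⟩ := Ideal.exists_le_maximal _ hne
    obtain ⟨k, hk⟩ := h ⟨M, hM.isPrime⟩
    exact hk (hle (Ideal.subset_span ⟨k, rfl⟩))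
  obtain ⟨c, hc⟩ := Ideal.mem_span_range_iff_exists_fun.mp (this ▸ Submodule.mem_top : (1 : Q) ∈ _)
  exact ⟨c, by rw [← hc]; exact Finset.sum_congr rfl fun k _ => mul_comm _ _⟩

section datum

variable {R' : Type u} [CommRing R'] [Algebra R R'] {f : R}
  {V V' Y' : Over (Spec (CommRingCat.of R))}

/-- a piece of a cover of a glueing datum -/
structure Piece (pV : V' ⟶ V) (pY : V' ⟶ Y') (y' : Y' ⟶ spR R R') (f : R) where
  B₁ : Type u
  E : Type u
  [instB : CommRing B₁]
  [algB : Algebra R B₁]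
  [instE : CommRing E]
  [algE : Algebra R E]
  [algE' : Algebra R' E]
  [tower : IsScalarTower R R' E]
  unit : IsUnit (algebraMap R B₁ f)
  H : E →ₐ[R'] R' ⊗[R] B₁
  loc : letI := H.toRingHom.toAlgebra; IsLocalization.Away (algebraMap R E f) (R' ⊗[R] B₁)
  τ₁ : spR R B₁ ⟶ V
  τ' : spR R E ⟶ Y'
  c : spR R (R' ⊗[R] B₁) ⟶ V'
  hcV : c ≫ pV = spm (Algebra.TensorProduct.includeRight : B₁ →ₐ[R] R' ⊗[R] B₁) ≫ τ₁
  hcY : c ≫ pY = spm (H.restrictScalars R) ≫ τ'
  hy : τ' ≫ y' = spm (IsScalarTower.toAlgHom R R' E)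
  flat₁ : Flat τ₁.left
  lfp₁ : LocallyOfFinitePresentation τ₁.left
  flat' : Flat τ'.left
  lfp' : LocallyOfFinitePresentation τ'.left

attribute [instance] Piece.instB Piece.algB Piece.instE Piece.algE Piece.algE' Piece.tower

variable (pV : V' ⟶ V) (pY : V' ⟶ Y') (y' : Y' ⟶ spR R R')
  {tU : spR R (Localization.Away f) ⟶ Over.mk (𝟙 _)} {tX : spR R R' ⟶ Over.mk (𝟙 _)}
  {vt : V ⟶ Over.mk (𝟙 _)} {yt : Y' ⟶ Over.mk (𝟙 _)}
  {qX : V' ⟶ spR R R'} (hV₁ : IsPullback pV qX vt tX)
  {qU : V' ⟶ spR R (Localization.Away f)} (hV₂ : IsPullback pY qU yt tU)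
  (hqX : pY ≫ y' = qX)
  {B : Type u} [CommRing B] [Algebra R B] (hfB : IsUnit (algebraMap R B f))
  (ι : V ⟶ spR R B) [IsOpenImmersion ι.left] {m : ℕ} (b : Fin m → B)
  (hι : Set.range ι.left = ⋃ k, (PrimeSpectrum.basicOpen (b k) : Set (PrimeSpectrum B)))

include hι in
theorem exists_vJ : ∃ vJ : spR R (Jou b) ⟶ V, vJ ≫ ι = spm (IsScalarTower.toAlgHom R B (Jou b)) ∧
    Flat vJ.left ∧ LocallyOfFinitePresentation vJ.left ∧ Surjective vJ.left := by
  have hrange : Set.range (spm (IsScalarTower.toAlgHom R B (Jou b))).left ⊆ Set.range ι.left := by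
    rintro _ ⟨q, rfl⟩
    rw [hι, Set.mem_iUnion]
    by_contra hne
    push Not at hne
    refine q.isPrime.ne_top ((Ideal.eq_top_iff_one _).mpr ?_)
    rw [← jc_rel b]
    exact Ideal.sum_mem _ fun k _ => Ideal.mul_mem_right _ _ (not_not.mp (hne k))
  obtain ⟨vJ, hvJ⟩ := exists_lift_open ι _ hrange
  haveI := mono_of_left ι
  have sq : IsPullback vJ.left (𝟙 _) ι.left (Spec.map (CommRingCat.ofHom (algebraMap B (Jou b)))) := by
    have w : vJ.left ≫ ι.left = Spec.map (CommRingCat.ofHom (algebraMap B (Jou b))) :=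
      congrArg CommaMorphism.left hvJ
    refine ⟨⟨w.trans (Category.id_comp _).symm⟩, ⟨PullbackCone.IsLimit.mk _ (fun s => s.snd) (fun s => ?_)
      (fun s => Category.comp_id _) (fun s x _ hx => (Category.comp_id x).symm.trans hx)⟩⟩
    rw [← cancel_mono ι.left, Category.assoc, w, s.condition]
  suffices main : ∀ (P : MorphismProperty Scheme.{u}) [IsZariskiLocalAtTarget P],
      (∀ (Q : Type u) [CommRing Q], P (Spec.map (CommRingCat.ofHom (algebraMap Q (MvPolynomial (Fin m) Q))))) → P vJ.left by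
    refine ⟨vJ, hvJ, main @Flat fun Q _ => (HasRingHomProperty.Spec_iff (P := @Flat)).2
        (RingHom.flat_algebraMap_iff.mpr inferInstance), ?_, main @Surjective fun Q _ => ⟨fun q =>
          ⟨PrimeSpectrum.comap (MvPolynomial.constantCoeff (σ := Fin m) (R := Q)) q, ?_⟩⟩⟩
    swap
    · show PrimeSpectrum.comap _ (PrimeSpectrum.comap _ q) = q
      rw [← PrimeSpectrum.comap_comp_apply, CommRingCat.hom_ofHom,
        show (MvPolynomial.constantCoeff (σ := Fin m) (R := Q)).comp (algebraMap Q (MvPolynomial (Fin m) Q)) = RingHom.id Q from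
          RingHom.ext fun x => MvPolynomial.constantCoeff_C _ x]
      rfl
    exact MorphismProperty.of_isPullback (P := @LocallyOfFinitePresentation) sq.flip
      ((HasRingHomProperty.Spec_iff (P := @LocallyOfFinitePresentation)).2
        (RingHom.finitePresentation_algebraMap.2 inferInstance))
  intro P _ hP
  case _ =>
    have hk : ∀ k, Set.range (spm (IsScalarTower.toAlgHom R B (Localization.Away (b k)))).left ⊆ Set.range ι.left :=
      fun k => by
        rw [(range_spm_away (R := R) (b k) (Localization.Away (b k))).2, hι]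
        exact Set.subset_iUnion (fun k => (PrimeSpectrum.basicOpen (b k) : Set (PrimeSpectrum B))) k
    choose g hg using fun k => exists_lift_open ι _ (hk k)
    have hgo : ∀ k, IsOpenImmersion (g k).left := fun k => by
      haveI : IsOpenImmersion ((g k).left ≫ ι.left) := by
        rw [← Over.comp_left, hg]; exact (range_spm_away (R := R) (b k) (Localization.Away (b k))).1
      exact IsOpenImmersion.of_comp (g k).left ι.left
    let 𝒰 : V.left.OpenCover := Scheme.Cover.mkOfCovers (Fin m) (fun k => (spR R (Localization.Away (b k))).left)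
      (fun k => (g k).left) (fun x => by
        have hx : ι.left x ∈ Set.range ι.left := ⟨x, rfl⟩
        rw [hι, Set.mem_iUnion] at hx
        obtain ⟨k, hk'⟩ := hx
        rw [← (range_spm_away (R := R) (b k) (Localization.Away (b k))).2] at hk'
        obtain ⟨z, hz⟩ := hk'
        refine ⟨k, z, ι.left.isOpenEmbedding.injective ?_⟩
        rw [← Scheme.Hom.comp_apply, ← Over.comp_left, hg]
        exact hz) (fun k => hgo k)
    refine IsZariskiLocalAtTarget.of_openCover (P := P) 𝒰 fun k => ?_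
    obtain ⟨c₀, hc₀⟩ : ∃ c₀ : Fin m → Localization.Away (b k),
        ∑ i, algebraMap B _ (b i) * c₀ i = 1 := exists_unimodular b _ fun q => ⟨k, fun hq =>
          q.isPrime.ne_top (Ideal.eq_top_of_isUnit_mem _ hq (IsLocalization.Away.algebraMap_isUnit (b k)))⟩
    obtain ⟨e⟩ := nonempty_jouEquiv b (Localization.Away (b k)) c₀ hc₀
    have sq₂ := (isPullback_SpecMap_of_isPushout _ _ _ _
      (CommRingCat.isPushout_tensorProduct B (Localization.Away (b k)) (Jou b))).flip
    have hgk : (g k).left ≫ ι.left = Spec.map (CommRingCat.ofHom (algebraMap B (Localization.Away (b k)))) :=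
      congrArg CommaMorphism.left (hg k)
    rw [← hgk] at sq₂
    have sq₃ : IsPullback (Spec.map (CommRingCat.ofHom (Algebra.TensorProduct.includeRight (R := B)
          (A := Localization.Away (b k)) (B := Jou b)).toRingHom))
        (Spec.map (CommRingCat.ofHom (Algebra.TensorProduct.includeLeftRingHom :
          Localization.Away (b k) →+* Localization.Away (b k) ⊗[B] Jou b))) vJ.left (g k).left := by
      refine IsPullback.of_right (h₁₂ := 𝟙 _) ?_ ?_ sq.flip
      · simpa using sq₂
      · rw [← cancel_mono ι.left, Category.assoc, Category.assoc, hgk, ← Over.comp_left, hvJ]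
        exact sq₂.w.trans (congrArg (_ ≫ ·) hgk)
    show P (pullback.snd vJ.left (g k).left)
    rw [← MorphismProperty.cancel_left_of_respectsIso P sq₃.isoPullback.hom (pullback.snd vJ.left (g k).left),
      sq₃.isoPullback_hom_snd]
    have he : (Algebra.TensorProduct.includeLeftRingHom :
        Localization.Away (b k) →+* Localization.Away (b k) ⊗[B] Jou b) =
          e.symm.toRingEquiv.toRingHom.comp (algebraMap _ (MvPolynomial (Fin m) (Localization.Away (b k)))) :=
      RingHom.ext fun q => (e.symm.commutes q).symm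
    rw [he, CommRingCat.ofHom_comp, Spec.map_comp]
    haveI : IsIso (Spec.map (CommRingCat.ofHom e.symm.toRingEquiv.toRingHom)) :=
      inferInstanceAs (IsIso (Spec.map e.symm.toRingEquiv.toCommRingCatIso.hom))
    rw [MorphismProperty.cancel_left_of_respectsIso (P := P)]
    exact hP _

end datum

section pieces

variable {R' : Type u} [CommRing R'] [Algebra R R'] {f : R}
  {V V' Y' : Over (Spec (CommRingCat.of R))} {pV : V' ⟶ V} {pY : V' ⟶ Y'} {y' : Y' ⟶ spR R R'}
  {tU : spR R (Localization.Away f) ⟶ Over.mk (𝟙 _)} {tX : spR R R' ⟶ Over.mk (𝟙 _)}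
  {vt : V ⟶ Over.mk (𝟙 _)} {yt : Y' ⟶ Over.mk (𝟙 _)}
  {qX : V' ⟶ spR R R'} (hV₁ : IsPullback pV qX vt tX)
  {qU : V' ⟶ spR R (Localization.Away f)} (hV₂ : IsPullback pY qU yt tU)
  (hqX : pY ≫ y' = qX)
  {B : Type u} [CommRing B] [Algebra R B] (hfB : IsUnit (algebraMap R B f))
  (ι : V ⟶ spR R B) [IsOpenImmersion ι.left] {m : ℕ} (b : Fin m → B)
  (hι : Set.range ι.left = ⋃ k, (PrimeSpectrum.basicOpen (b k) : Set (PrimeSpectrum B)))
  {Bo : Type u} [CommRing Bo] [Algebra R Bo] [Algebra R' Bo] [IsScalarTower R R' Bo]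
  (κ : Y' ⟶ spR R Bo) [IsOpenImmersion κ.left] (hκ : κ ≫ spm (IsScalarTower.toAlgHom R R' Bo) = y')

include hV₂ in
theorem isOpenImmersion_pY : IsOpenImmersion pY.left := by
  haveI : IsOpenImmersion (spR R (Localization.Away f)).hom :=
    IsOpenImmersion.of_isLocalization (S := Localization.Away f) f
  have et : tU.left = (spR R (Localization.Away f)).hom := (Category.comp_id _).symm.trans (Over.w tU)
  exact MorphismProperty.of_isPullback (P := @IsOpenImmersion) (hV₂.map (Over.forget _)).flip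
    (show IsOpenImmersion tU.left by rw [et]; infer_instance)

theorem exists_toU (A : Type u) [CommRing A] [Algebra R A] (h : IsUnit (algebraMap R A f)) :
    ∃ _ : spR R A ⟶ spR R (Localization.Away f), True :=
  ⟨spm ⟨IsLocalization.Away.lift f (S := Localization.Away f) h, fun r => IsLocalization.Away.lift_eq f h r⟩, trivial⟩

include hfB in
theorem isUnit_jou : IsUnit (algebraMap R (Jou b) f) := by
  rw [IsScalarTower.algebraMap_apply R B (Jou b)]
  exact hfB.map _

include hV₁ in
theorem exists_kC {A : Type u} [CommRing A] [Algebra R A] (v : spR R A ⟶ V) :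
    ∃ k : spR R (R' ⊗[R] A) ⟶ V',
      k ≫ pV = spm (Algebra.TensorProduct.includeRight : A →ₐ[R] R' ⊗[R] A) ≫ v ∧
        k ≫ qX = spm (Algebra.TensorProduct.includeLeft : R' →ₐ[R] R' ⊗[R] A) ∧
        IsPullback (spm (Algebra.TensorProduct.includeRight : A →ₐ[R] R' ⊗[R] A)) k v pV := by
  obtain ⟨k, hk₁, hk₂⟩ := hV₁.exists_lift (spm (Algebra.TensorProduct.includeRight : A →ₐ[R] R' ⊗[R] A) ≫ v)
    (spm Algebra.TensorProduct.includeLeft) (hom_ext_pt _ _)
  refine ⟨k, hk₁, hk₂, IsPullback.of_bot ?_ hk₁.symm hV₁⟩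
  rw [hk₂]
  exact isPullback_spm_tensor R' A (v ≫ vt) tX

include hV₁ hV₂ hqX hfB hι in
theorem exists_basePiece : ∃ P : Piece pV pY y' f,
    Surjective P.τ₁.left ∧ Set.range pY.left ⊆ Set.range P.τ'.left := by
  obtain ⟨vJ, -, hf₁, hl₁, hs₁⟩ := exists_vJ ι b hι
  obtain ⟨k, hk₁, hk₂, sq⟩ := exists_kC hV₁ vJ
  have hJ := isUnit_jou hfB b
  have sql : IsPullback _ k.left vJ.left pV.left := sq.map (Over.forget _)
  haveI := isOpenImmersion_pY hV₂
  haveI : Flat k.left := MorphismProperty.of_isPullback sql hf₁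
  haveI : LocallyOfFinitePresentation k.left := MorphismProperty.of_isPullback sql hl₁
  haveI : Surjective k.left := MorphismProperty.of_isPullback sql hs₁
  have hu : IsUnit (algebraMap R (R' ⊗[R] Jou b) f) := by
    rw [← (Algebra.TensorProduct.includeRight : Jou b →ₐ[R] R' ⊗[R] Jou b).commutes]
    exact hJ.map _
  refine ⟨⟨Jou b, R' ⊗[R] Jou b, hJ, AlgHom.id R' _,
    IsLocalization.away_of_isUnit_of_bijective _ hu Function.bijective_id, vJ, k ≫ pY, k, hk₁, ?_, ?_, hf₁, hl₁,
    inferInstanceAs (Flat (k.left ≫ pY.left)), inferInstanceAs (LocallyOfFinitePresentation (k.left ≫ pY.left))⟩,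
    hs₁, ?_⟩
  · rw [show (AlgHom.id R' (R' ⊗[R] Jou b)).restrictScalars R = AlgHom.id R _ from rfl, spm_id, Category.id_comp]
  · rw [Category.assoc, hqX, hk₂]
    exact congrArg spm (AlgHom.ext fun r => rfl)
  · rintro _ ⟨x, rfl⟩
    obtain ⟨z, rfl⟩ := k.left.surjective x
    exact ⟨z, rfl⟩

/-- the map to `Q ⊗ J` -/
def toPJ {B : Type u} [CommRing B] [Algebra R B] {m : ℕ} (b : Fin m → B) {R' : Type u} [CommRing R'] [Algebra R R']
    (Q : Type u) [CommRing Q] [Algebra R Q] [Algebra R' Q] [IsScalarTower R R' Q] [Algebra B Q] [IsScalarTower R B Q] :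
    R' ⊗[R] Jou b →ₐ[R] Q ⊗[B] Jou b :=
  Algebra.TensorProduct.lift
    (((Algebra.TensorProduct.includeLeft : Q →ₐ[B] Q ⊗[B] Jou b).restrictScalars R).comp (IsScalarTower.toAlgHom R R' Q))
    ((Algebra.TensorProduct.includeRight : Jou b →ₐ[B] Q ⊗[B] Jou b).restrictScalars R)
    fun x y => show _ * _ = _ * _ from mul_comm (G := Q ⊗[B] Jou b) _ _

theorem toPJ_left {B : Type u} [CommRing B] [Algebra R B] {m : ℕ} (b : Fin m → B) {R' : Type u} [CommRing R'] [Algebra R R']
    (Q : Type u) [CommRing Q] [Algebra R Q] [Algebra R' Q] [IsScalarTower R R' Q] [Algebra B Q] [IsScalarTower R B Q]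
    (r : R') : toPJ b Q (r ⊗ₜ[R] (1 : Jou b)) = algebraMap R' Q r ⊗ₜ[B] (1 : Jou b) := by
  refine (Algebra.TensorProduct.lift_tmul _ _ _ r 1).trans ?_
  show (algebraMap R' Q r ⊗ₜ[B] (1 : Jou b)) * ((1 : Q) ⊗ₜ[B] (1 : Jou b)) = _
  rw [Algebra.TensorProduct.tmul_mul_tmul, mul_one, mul_one]

theorem toPJ_right {B : Type u} [CommRing B] [Algebra R B] {m : ℕ} (b : Fin m → B) {R' : Type u} [CommRing R'] [Algebra R R']
    (Q : Type u) [CommRing Q] [Algebra R Q] [Algebra R' Q] [IsScalarTower R R' Q] [Algebra B Q] [IsScalarTower R B Q]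
    (j : Jou b) : toPJ b Q ((1 : R') ⊗ₜ[R] j) = (1 : Q) ⊗ₜ[B] j := by
  refine (Algebra.TensorProduct.lift_tmul _ _ _ 1 j).trans ?_
  show (algebraMap R' Q 1 ⊗ₜ[B] (1 : Jou b)) * ((1 : Q) ⊗ₜ[B] j) = _
  rw [map_one, Algebra.TensorProduct.tmul_mul_tmul, one_mul, one_mul]

set_option maxHeartbeats 2000000 in
/-- the polynomial algebra over the open piece, mapped to the localization of the Jouanolou algebra -/
theorem exists_g₂ {R' : Type u} [CommRing R'] [Algebra R R'] (f : R) {B : Type u} [CommRing B] [Algebra R B] {m : ℕ}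
    (b : Fin m → B) {Bo : Type u} [CommRing Bo] [Algebra R Bo] [Algebra R' Bo] [IsScalarTower R R' Bo] (a : Bo)
    (γ' : Bo →ₐ[R'] R' ⊗[R] Jou b) [Algebra B (Localization.Away (algebraMap R (Localization.Away a) f))]
    [IsScalarTower R B (Localization.Away (algebraMap R (Localization.Away a) f))]
    (π₁ : Localization.Away (algebraMap R (Localization.Away a) f) →ₐ[R'] Localization.Away (γ' a))
    (hπ : ∀ o, π₁ (algebraMap _ _ (algebraMap Bo (Localization.Away a) o)) = algebraMap _ _ (γ' o))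
    (hB : ∀ x : B, π₁ (algebraMap B _ x) = algebraMap (R' ⊗[R] Jou b) _ ((1 : R') ⊗ₜ[R] algebraMap B (Jou b) x))
    (hMo : ∀ o, toPJ b (Localization.Away (algebraMap R (Localization.Away a) f)) (γ' o) =
      algebraMap (Localization.Away a) (Localization.Away (algebraMap R (Localization.Away a) f))
        (algebraMap Bo (Localization.Away a) o) ⊗ₜ[B] (1 : Jou b))
    (c₀ : Fin m → Localization.Away (algebraMap R (Localization.Away a) f))
    (hc₀ : ∑ k, algebraMap B _ (b k) * c₀ k = 1) :
    ∃ g₂ : MvPolynomial (Fin m) (Localization.Away a) →ₐ[R'] Localization.Away (γ' a),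
      (∀ p, g₂ (MvPolynomial.C p) = π₁ (algebraMap _ _ p)) ∧
      (∀ d, ∃ (n : ℕ) (p : MvPolynomial (Fin m) (Localization.Away a)),
        g₂ p = d * algebraMap R (Localization.Away (γ' a)) f ^ n) ∧
      ∀ p, g₂ p = 0 → ∃ n : ℕ, MvPolynomial.C (algebraMap R (Localization.Away a) f) ^ n * p = 0 := by
  let P := Localization.Away a
  let Pf := Localization.Away (algebraMap R P f)
  let D₀ := Localization.Away (γ' a)
  obtain ⟨eJ⟩ := nonempty_jouEquiv b Pf c₀ hc₀
  letI : Algebra B D₀ := (π₁.toRingHom.comp (algebraMap B Pf)).toAlgebra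
  let π₁B : Pf →ₐ[B] D₀ := ⟨π₁.toRingHom, fun x => rfl⟩
  let jD : Jou b →ₐ[B] D₀ := ⟨((IsScalarTower.toAlgHom R (R' ⊗[R] Jou b) D₀).comp
    (Algebra.TensorProduct.includeRight : Jou b →ₐ[R] R' ⊗[R] Jou b)).toRingHom, fun x => (hB x).symm⟩
  let G : Pf ⊗[B] Jou b →ₐ[B] D₀ := Algebra.TensorProduct.lift π₁B jD fun _ _ => Commute.all _ _
  have hG : ∀ p j, G (p ⊗ₜ[B] j) = π₁ p * algebraMap _ D₀ ((1 : R') ⊗ₜ[R] j) := fun p j =>
    Algebra.TensorProduct.lift_tmul _ _ _ p j
  let M := toPJ (R := R) b Pf (R' := R')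
  have huM : IsUnit (M (γ' a)) := by
    rw [show M (γ' a) = _ from hMo a]
    exact ((IsLocalization.Away.algebraMap_isUnit a).map (algebraMap P Pf)).map
      (Algebra.TensorProduct.includeLeft : Pf →ₐ[B] Pf ⊗[B] Jou b)
  let F : D₀ →+* Pf ⊗[B] Jou b := IsLocalization.Away.lift (γ' a) (g := M.toRingHom) huM
  have hF : ∀ x, F (algebraMap _ D₀ x) = M x := fun x => IsLocalization.Away.lift_eq (γ' a) huM x
  have hGM : ∀ x, G (M x) = algebraMap _ D₀ x := fun x => by
    induction x with
    | zero => simp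
    | add p q hp hq => simp only [map_add, hp, hq]
    | tmul r j =>
      rw [show r ⊗ₜ[R] j = (r ⊗ₜ[R] (1 : Jou b)) * ((1 : R') ⊗ₜ[R] j) by simp, map_mul, map_mul, map_mul,
        show M (r ⊗ₜ[R] (1 : Jou b)) = _ from toPJ_left b Pf r, show M ((1 : R') ⊗ₜ[R] j) = _ from toPJ_right b Pf j,
        hG, hG, map_one π₁, one_mul, π₁.commutes, ← Algebra.TensorProduct.one_def, map_one, mul_one,
        IsScalarTower.algebraMap_apply R' (R' ⊗[R] Jou b) D₀]
      rfl
  have hFπ : F.comp π₁.toRingHom = (Algebra.TensorProduct.includeLeftRingHom : Pf →+* Pf ⊗[B] Jou b) := by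
    refine IsLocalization.ringHom_ext (R := P) (S := Pf) (P := Pf ⊗[B] Jou b) (Submonoid.powers (algebraMap R P f)) ?_
    refine IsLocalization.ringHom_ext (R := Bo) (S := P) (P := Pf ⊗[B] Jou b) (Submonoid.powers a) (RingHom.ext fun o => ?_)
    show F (π₁ (algebraMap P Pf (algebraMap Bo P o))) = _
    rw [hπ, hF]
    exact hMo o
  have hFG : ∀ x, F (G x) = x := fun x => by
    induction x with
    | zero => simp
    | add p q hp hq => simp only [map_add, hp, hq]
    | tmul p j =>
      rw [hG, map_mul, show F (π₁ p) = p ⊗ₜ[B] (1 : Jou b) from RingHom.congr_fun hFπ p, hF,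
        show M ((1 : R') ⊗ₜ[R] j) = _ from toPJ_right b Pf j, Algebra.TensorProduct.tmul_mul_tmul, mul_one, one_mul]
  have hGF : ∀ d, G (F d) = d := RingHom.congr_fun
    (IsLocalization.ringHom_ext (Submonoid.powers (γ' a)) (j := G.toRingHom.comp F) (k := RingHom.id D₀)
      (RingHom.ext fun x => by simp [hF, hGM]))
  letI : Algebra (MvPolynomial (Fin m) P) (MvPolynomial (Fin m) Pf) := MvPolynomial.algebraMvPolynomial
  let Ge : MvPolynomial (Fin m) Pf →+* D₀ := G.toRingHom.comp eJ.symm.toRingEquiv.toRingHom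
  let gPm : MvPolynomial (Fin m) P →+* D₀ := Ge.comp (algebraMap _ (MvPolynomial (Fin m) Pf))
  have hgC : ∀ p : P, gPm (MvPolynomial.C p) = π₁ (algebraMap P Pf p) := fun p => by
    show G (eJ.symm (algebraMap (MvPolynomial (Fin m) P) (MvPolynomial (Fin m) Pf) (MvPolynomial.C p))) = _
    rw [MvPolynomial.algebraMap_def, MvPolynomial.map_C,
      show MvPolynomial.C (algebraMap P Pf p) = algebraMap Pf (MvPolynomial (Fin m) Pf) (algebraMap P Pf p) from rfl,
      eJ.symm.commutes, Algebra.TensorProduct.algebraMap_apply, hG, ← Algebra.TensorProduct.one_def, map_one, mul_one]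
    rfl
  have hsC := MvPolynomial.isLocalization (σ := Fin m) (R := P) (M := Submonoid.powers (algebraMap R P f)) (S := Pf)
  rw [Submonoid.map_powers] at hsC
  haveI : IsLocalization.Away (MvPolynomial.C (σ := Fin m) (algebraMap R P f)) (MvPolynomial (Fin m) Pf) := hsC
  refine ⟨⟨gPm, fun r => ?_⟩, hgC, fun d => ?_, fun p hp => ?_⟩
  · rw [show algebraMap R' (MvPolynomial (Fin m) P) r = MvPolynomial.C (algebraMap R' P r) from rfl]
    show gPm _ = _
    rw [hgC, ← IsScalarTower.algebraMap_apply, π₁.commutes]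
  · obtain ⟨n, p, hp⟩ := IsLocalization.Away.surj (MvPolynomial.C (σ := Fin m) (algebraMap R P f))
      (eJ (F d) : MvPolynomial (Fin m) Pf)
    refine ⟨n, p, ?_⟩
    show Ge (algebraMap _ (MvPolynomial (Fin m) Pf) p) = d * _
    rw [← hp, map_mul, show Ge (eJ (F d)) = d from (congrArg G (eJ.symm_apply_apply _)).trans (hGF d), map_pow]
    congr 2
    exact (hgC _).trans (((π₁.restrictScalars R).comp (IsScalarTower.toAlgHom R P Pf)).commutes f)
  · have h0 : algebraMap _ (MvPolynomial (Fin m) Pf) p = 0 := by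
      have := congrArg F (show G (eJ.symm (algebraMap _ (MvPolynomial (Fin m) Pf) p)) = 0 from hp)
      rw [hFG, map_zero, map_eq_zero_iff _ eJ.symm.injective] at this
      exact this
    obtain ⟨n, hn⟩ := IsLocalization.Away.exists_of_eq (MvPolynomial.C (σ := Fin m) (algebraMap R P f)) (h0.trans (map_zero _).symm)
    exact ⟨n, by simpa using hn⟩

end pieces

end Groth.Agent.AlgSpLib.GlueQA
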