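import Groth.Agent.AlgSpLib.GlueQAPiece

/-!
# The piece of the cover attached to a basic open of the second member
-/

set_option autoImplicit false
set_option linter.style.haveILetI false
set_option backward.isDefEq.respectTransparency false
set_option backward.isDefEq.respectTransparency.types false

universe u

open CategoryTheory CategoryTheory.Limits AlgebraicGeometry TensorProduct

noncomputable section

namespace Groth.Agent.AlgSpLib.GlueQA

variable {R : Type u} [CommRing R]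

section pieces

variable {R' : Type u} [CommRing R'] [Algebra R R'] {f : R}
  {V V' Y' : Over (Spec (CommRingCat.of R))} {pV : V' ⟶ V} {pY : V' ⟶ Y'} {y' : Y' ⟶ spR R R'}
  {tU : spR R (Localization.Away f) ⟶ Over.mk (𝟙 _)} {tX : spR R R' ⟶ Over.mk (𝟙 _)}
  {vt : V ⟶ Over.mk (𝟙 _)} {yt : Y' ⟶ Over.mk (𝟙 _)}
  {qX : V' ⟶ spR R R'} (hV₁ : IsPullback pV qX vt tX)
  {qU : V' ⟶ spR R (Localization.Away f)} (hV₂ : IsPullback pY qU yt tU)
  (hqX : pY ≫ y' = qX)
  {B : Type u} [CommRing B] [Algebra R B] (hfB : IsUnit (algebraMap R B f))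
  (ι : V ⟶ spR R B) [IsOpenImmersion ι.left] {m : ℕ} (b : Fin m → B)
  (hι : Set.range ι.left = ⋃ k, (PrimeSpectrum.basicOpen (b k) : Set (PrimeSpectrum B)))
  {Bo : Type u} [CommRing Bo] [Algebra R Bo] [Algebra R' Bo] [IsScalarTower R R' Bo]
  (κ : Y' ⟶ spR R Bo) [IsOpenImmersion κ.left] (hκ : κ ≫ spm (IsScalarTower.toAlgHom R R' Bo) = y')

/-- the map to `Y'` of the localization of the glued algebra -/
theorem exists_rho {Bo : Type u} [CommRing Bo] [Algebra R Bo] {Y' : Over (Spec (CommRingCat.of R))}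
    (κ : Y' ⟶ spR R Bo) [IsOpenImmersion κ.left] {E C₁ C₂ : Type u} [CommRing E] [Algebra R E]
    [CommRing C₁] [Algebra R C₁] [CommRing C₂] [Algebra R C₂] (p₁ : E →ₐ[R] C₁) (p₂ : E →ₐ[R] C₂)
    (Ψ : Bo →ₐ[R] E) (φ α₀ α : E)
    (h₁ : letI := p₁.toRingHom.toAlgebra; IsLocalization.Away φ C₁)
    (h₂ : letI := p₂.toRingHom.toAlgebra; IsLocalization.Away α₀ C₂)
    (hα : ∃ x, α = α₀ - φ * x) (x₁ : spR R C₁ ⟶ Y') (x₂ : spR R C₂ ⟶ Y')
    (e₁ : x₁ ≫ κ = spm p₁ ≫ spm Ψ) (e₂ : x₂ ≫ κ = spm p₂ ≫ spm Ψ)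
    (f₁ : Flat x₁.left) (g₁ : LocallyOfFinitePresentation x₁.left)
    (f₂ : Flat x₂.left) (g₂ : LocallyOfFinitePresentation x₂.left) :
    ∃ τ' : spR R (Localization.Away α) ⟶ Y', Flat τ'.left ∧ LocallyOfFinitePresentation τ'.left ∧
      τ' ≫ κ = spm (IsScalarTower.toAlgHom R E (Localization.Away α)) ≫ spm Ψ ∧
      ∀ q : PrimeSpectrum C₂, p₂ φ ∈ q.asIdeal → x₂.left q ∈ Set.range τ'.left := by
  obtain ⟨x, hα⟩ := hα
  haveI := mono_of_left κ
  have o₁ := range_spm_of_isLocalization p₁ φ h₁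
  have o₂ := range_spm_of_isLocalization p₂ α₀ h₂
  have oE := range_spm_away (R := R) α (Localization.Away α)
  let sE := spm (IsScalarTower.toAlgHom R E (Localization.Away α))
  have hd : ∀ e : PrimeSpectrum E, e ∈ PrimeSpectrum.basicOpen α → φ ∈ e.asIdeal → e ∈ PrimeSpectrum.basicOpen α₀ :=
    fun e he hφ h0 => he (by rw [hα]; exact Ideal.sub_mem _ h0 (Ideal.mul_mem_right _ _ hφ))
  let O₀ : (spR R E).left.Opens :=
    ⟨_, ((spm p₁).left.isOpenEmbedding (H := o₁.1)).isOpen_range.union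
      ((spm p₂).left.isOpenEmbedding (H := o₂.1)).isOpen_range⟩
  let O : Over (Spec (CommRingCat.of R)) := Over.mk (O₀.ι ≫ (spR R E).hom)
  let oι : O ⟶ spR R E := Over.homMk O₀.ι rfl
  haveI : IsOpenImmersion oι.left := inferInstanceAs (IsOpenImmersion O₀.ι)
  haveI := mono_of_left oι
  have hO : Set.range oι.left = (O₀ : Set (spR R E).left) := Scheme.Opens.range_ι O₀
  obtain ⟨l₁, hl₁⟩ := exists_lift_open oι (spm p₁) (by rw [hO]; exact Set.subset_union_left)
  obtain ⟨l₂, hl₂⟩ := exists_lift_open oι (spm p₂) (by rw [hO]; exact Set.subset_union_right)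
  obtain ⟨l₃, hl₃⟩ := exists_lift_open oι sE (by
    rw [hO, oE.2]
    intro e he
    by_cases hφ : φ ∈ PrimeSpectrum.asIdeal (R := E) e
    · right; rw [o₂.2]; exact hd e he hφ
    · left; rw [o₁.2]; exact hφ)
  obtain ⟨ρ, hρ⟩ := exists_lift_open κ (oι ≫ spm Ψ) (by
    rintro _ ⟨q, rfl⟩
    have hq : oι.left q ∈ (O₀ : Set (spR R E).left) := hO ▸ ⟨q, rfl⟩
    rcases hq with ⟨u, hu⟩ | ⟨u, hu⟩
    · refine ⟨x₁.left u, ?_⟩
      show (x₁ ≫ κ).left u = (spm Ψ).left (oι.left q)
      rw [e₁, ← hu]; rfl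
    · refine ⟨x₂.left u, ?_⟩
      show (x₂ ≫ κ).left u = (spm Ψ).left (oι.left q)
      rw [e₂, ← hu]; rfl)
  have hρ₁ : l₁ ≫ ρ = x₁ := by rw [← cancel_mono κ, Category.assoc, hρ, reassoc_of% hl₁, e₁]
  have hρ₂ : l₂ ≫ ρ = x₂ := by rw [← cancel_mono κ, Category.assoc, hρ, reassoc_of% hl₂, e₂]
  have hopen : ∀ {A : Over (Spec (CommRingCat.of R))} (l : A ⟶ O) (y : A ⟶ spR R E),
      IsOpenImmersion y.left → l ≫ oι = y → IsOpenImmersion l.left := fun l y hy e => by
    haveI : IsOpenImmersion (l.left ≫ oι.left) := by rw [← Over.comp_left, e]; exact hy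
    exact IsOpenImmersion.of_comp l.left oι.left
  haveI := hopen l₃ _ oE.1 hl₃
  have main : ∀ (P' : MorphismProperty Scheme.{u}) [IsZariskiLocalAtSource P'],
      P' x₁.left → P' x₂.left → P' ρ.left := by
    intro P' _ k₁ k₂
    let 𝒰 : O.left.OpenCover := Scheme.Cover.mkOfCovers Bool
      (fun i => bif i then (spR R C₁).left else (spR R C₂).left)
      (fun i => match i with
        | true => l₁.left
        | false => l₂.left)
      (fun q => by
        have hq : oι.left q ∈ (O₀ : Set (spR R E).left) := hO ▸ ⟨q, rfl⟩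
        rcases hq with ⟨u, hu⟩ | ⟨u, hu⟩
        · refine ⟨true, u, oι.left.isOpenEmbedding.injective ?_⟩
          rw [← hu, ← Scheme.Hom.comp_apply, ← Over.comp_left, hl₁]; rfl
        · refine ⟨false, u, oι.left.isOpenEmbedding.injective ?_⟩
          rw [← hu, ← Scheme.Hom.comp_apply, ← Over.comp_left, hl₂]; rfl)
      (fun i => match i with
        | true => hopen l₁ _ o₁.1 hl₁
        | false => hopen l₂ _ o₂.1 hl₂)
    refine IsZariskiLocalAtSource.of_openCover (P := P') 𝒰 fun i => ?_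
    match i with
    | true => show P' (l₁.left ≫ ρ.left); rw [← Over.comp_left, hρ₁]; exact k₁
    | false => show P' (l₂.left ≫ ρ.left); rw [← Over.comp_left, hρ₂]; exact k₂
  haveI : Flat ρ.left := main @Flat f₁ f₂
  haveI : LocallyOfFinitePresentation ρ.left := main @LocallyOfFinitePresentation g₁ g₂
  refine ⟨l₃ ≫ ρ, inferInstanceAs (Flat (l₃.left ≫ ρ.left)),
    inferInstanceAs (LocallyOfFinitePresentation (l₃.left ≫ ρ.left)),
    by rw [Category.assoc, hρ, reassoc_of% hl₃], fun q hq => ?_⟩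
  obtain ⟨e, he⟩ : (spm p₂).left q ∈ Set.range sE.left := by
    rw [oE.2]
    intro hmem
    have hα₀ : (spm p₂).left q ∈ Set.range (spm p₂).left := ⟨q, rfl⟩
    rw [o₂.2] at hα₀
    refine hα₀ ?_
    have hfx : φ * x ∈ PrimeSpectrum.asIdeal (R := E) ((spm p₂).left q) := Ideal.mul_mem_right _ _ hq
    simpa [hα] using Ideal.add_mem _ hmem hfx
  refine ⟨e, ?_⟩
  have hl : l₃.left e = l₂.left q := oι.left.isOpenEmbedding.injective (by
    rw [← Scheme.Hom.comp_apply, ← Scheme.Hom.comp_apply, ← Over.comp_left, ← Over.comp_left, hl₃, hl₂]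
    exact he)
  rw [Over.comp_left, Scheme.Hom.comp_apply, hl, ← Scheme.Hom.comp_apply, ← Over.comp_left, hρ₂]

set_option maxHeartbeats 3000000 in
include hV₁ hV₂ hqX hfB hι hκ in
theorem exists_piece (h : EtGlue.IsGlueingPair R R' f) (a : Bo)
    (ha : (PrimeSpectrum.basicOpen a : Set (PrimeSpectrum Bo)) ⊆ Set.range κ.left) :
    ∃ P : Piece pV pY y' f, ∀ y : Y'.left, κ.left y ∈ PrimeSpectrum.basicOpen a →
      y ∈ Set.range pY.left ∨ y ∈ Set.range P.τ'.left := by
  haveI := isOpenImmersion_pY hV₂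
  haveI := mono_of_left κ
  haveI := mono_of_left ι
  obtain ⟨vJ, hvJ, hfv, hlv, hsv⟩ := exists_vJ ι b hι
  obtain ⟨k, hk₁, hk₂, sqk⟩ := exists_kC hV₁ vJ
  haveI : Flat k.left := MorphismProperty.of_isPullback (sqk.map (Over.forget _)) hfv
  haveI : LocallyOfFinitePresentation k.left := MorphismProperty.of_isPullback (sqk.map (Over.forget _)) hlv
  -- the function on `C` defined by `a`
  obtain ⟨γ, hγ⟩ := exists_spm (k ≫ pY ≫ κ)
  have hγR : ∀ r, γ (algebraMap R' Bo r) = algebraMap R' (R' ⊗[R] Jou b) r := fun r => by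
    have e : γ.comp (IsScalarTower.toAlgHom R R' Bo) = Algebra.TensorProduct.includeLeft := spm_injective (by
      rw [← spm_comp, hγ, Category.assoc, Category.assoc, hκ, hqX, hk₂])
    exact AlgHom.congr_fun e r
  let γ' : Bo →ₐ[R'] R' ⊗[R] Jou b := ⟨γ.toRingHom, hγR⟩
  let D₀ := Localization.Away (γ' a)
  -- the piece of `Y'`
  let P := Localization.Away a
  obtain ⟨w, hw⟩ := exists_lift_open κ (spm (IsScalarTower.toAlgHom R Bo P)) (by
    rw [(range_spm_away (R := R) a P).2]; exact ha)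
  haveI : IsOpenImmersion w.left := by
    haveI : IsOpenImmersion (w.left ≫ κ.left) := by
      rw [← Over.comp_left, hw]; exact (range_spm_away (R := R) a P).1
    exact IsOpenImmersion.of_comp w.left κ.left
  let Pf := Localization.Away (algebraMap R P f)
  have huPf : IsUnit (algebraMap R Pf f) := by
    rw [IsScalarTower.algebraMap_apply R P Pf]; exact IsLocalization.Away.algebraMap_isUnit _
  obtain ⟨uPf, -⟩ := exists_toU (f := f) Pf huPf
  obtain ⟨z, hz₁, hz₂⟩ := hV₂.exists_lift (spm (IsScalarTower.toAlgHom R P Pf) ≫ w) uPf (hom_ext_pt _ _)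
  -- the algebra over `B` of the open piece
  obtain ⟨β, hβ⟩ := exists_spm (z ≫ pV ≫ ι)
  letI := β.toRingHom.toAlgebra
  haveI : IsScalarTower R B Pf := IsScalarTower.of_algebraMap_eq fun r => (β.commutes r).symm
  obtain ⟨c₀, hc₀⟩ := exists_unimodular b Pf fun q => by
    have hq : (spm β).left q ∈ Set.range ι.left := ⟨(z ≫ pV).left q, by rw [hβ]; rfl⟩
    rw [hι, Set.mem_iUnion] at hq
    exact hq
  -- `Pf ⊗ J` is the localization of `C` at `a`
  have huD : IsUnit (algebraMap R D₀ f) := by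
    rw [IsScalarTower.algebraMap_apply R (R' ⊗[R] Jou b) D₀,
      ← (Algebra.TensorProduct.includeRight : Jou b →ₐ[R] R' ⊗[R] Jou b).commutes]
    exact ((isUnit_jou hfB b).map _).map _
  have haD : IsUnit (((IsScalarTower.toAlgHom R' (R' ⊗[R] Jou b) D₀).comp γ') a) :=
    IsLocalization.Away.algebraMap_isUnit (S := D₀) (γ' a)
  let π₀ : P →ₐ[R'] D₀ :=
    ⟨IsLocalization.Away.lift a (g := ((IsScalarTower.toAlgHom R' (R' ⊗[R] Jou b) D₀).comp γ').toRingHom) haD,
      fun r => by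
        rw [IsScalarTower.algebraMap_apply R' Bo P]
        exact (IsLocalization.Away.lift_eq a haD _).trans (AlgHom.commutes _ r)⟩
  have huP : IsUnit (π₀ (algebraMap R P f)) := by
    rw [IsScalarTower.algebraMap_apply R R' P, π₀.commutes, ← IsScalarTower.algebraMap_apply]
    exact huD
  let π₁ : Pf →ₐ[R'] D₀ :=
    ⟨IsLocalization.Away.lift (algebraMap R P f) (g := π₀.toRingHom) huP, fun r => by
      rw [IsScalarTower.algebraMap_apply R' P Pf]
      exact (IsLocalization.Away.lift_eq _ huP _).trans (π₀.commutes r)⟩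
  let cD : R' ⊗[R] Jou b →ₐ[R] D₀ := IsScalarTower.toAlgHom R (R' ⊗[R] Jou b) D₀
  have eD : (spm (π₁.restrictScalars R)) ≫ z = spm cD ≫ k := by
    apply hV₂.hom_ext
    · rw [← cancel_mono κ, Category.assoc, Category.assoc, Category.assoc, Category.assoc, reassoc_of% hz₁, hw, ← hγ,
        spm_comp, spm_comp, spm_comp]
      refine congrArg spm (AlgHom.ext fun o => ?_)
      show π₁ (algebraMap P Pf (algebraMap Bo P o)) = _
      exact (IsLocalization.Away.lift_eq _ huP _).trans (IsLocalization.Away.lift_eq a haD o)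
    · exact hom_ext_away f _ _
  have hB : (π₁.restrictScalars R).comp β = cD.comp (Algebra.TensorProduct.includeRight.comp
      (IsScalarTower.toAlgHom R B (Jou b))) := spm_injective (by
    rw [← spm_comp, ← spm_comp, ← spm_comp, hβ, reassoc_of% eD, reassoc_of% hk₁, hvJ]
    try simp only [Category.assoc])
  have eM : spm (B := Pf ⊗[B] Jou b) (toPJ (R := R) b Pf (R' := R')) ≫ k =
      spm (B := Pf ⊗[B] Jou b) ((Algebra.TensorProduct.includeLeft : Pf →ₐ[B] Pf ⊗[B] Jou b).restrictScalars R) ≫ z := by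
    apply hV₁.hom_ext
    · rw [← cancel_mono ι, Category.assoc, Category.assoc, Category.assoc, Category.assoc, reassoc_of% hk₁, hvJ, ← hβ,
        spm_comp, spm_comp, spm_comp]
      refine congrArg spm (AlgHom.ext fun x => ?_)
      exact (toPJ_right b Pf _).trans (((Algebra.TensorProduct.includeRight : Jou b →ₐ[B] Pf ⊗[B] Jou b).commutes x).trans
        ((Algebra.TensorProduct.includeLeft : Pf →ₐ[B] Pf ⊗[B] Jou b).commutes x).symm)
    · rw [Category.assoc, hk₂, Category.assoc, ← hqX, reassoc_of% hz₁, ← hκ, reassoc_of% hw, spm_comp, spm_comp,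
        spm_comp, spm_comp]
      refine congrArg spm (AlgHom.ext fun r => ?_)
      show toPJ b Pf (r ⊗ₜ[R] (1 : Jou b)) = algebraMap P Pf (algebraMap Bo P (algebraMap R' Bo r)) ⊗ₜ[B] (1 : Jou b)
      rw [toPJ_left, ← IsScalarTower.algebraMap_apply R' Bo P, ← IsScalarTower.algebraMap_apply R' P Pf]
  have eMo' : spm (B := Pf ⊗[B] Jou b) (toPJ (R := R) b Pf (R' := R')) ≫ spm γ = spm (B := Pf ⊗[B] Jou b)
      ((Algebra.TensorProduct.includeLeft : Pf →ₐ[B] Pf ⊗[B] Jou b).restrictScalars R) ≫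
      spm ((IsScalarTower.toAlgHom R P Pf).comp (IsScalarTower.toAlgHom R Bo P)) := by
    rw [hγ, reassoc_of% eM, reassoc_of% hz₁, hw, ← spm_comp]
  obtain ⟨g₂, hgC, hgs, hgk⟩ := exists_g₂ f b a γ' π₁
    (fun o => (IsLocalization.Away.lift_eq _ huP _).trans (IsLocalization.Away.lift_eq a haD o))
    (fun x => AlgHom.congr_fun hB x)
    (fun o => AlgHom.congr_fun (spm_injective (A := Bo) (B := Pf ⊗[B] Jou b)
      ((spm_comp γ _).symm.trans (eMo'.trans (spm_comp _ _)))) o) c₀ hc₀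
  let g₁ : R' ⊗[R] Jou b →ₐ[R'] D₀ := IsScalarTower.toAlgHom R' _ D₀
  let E := fp g₁ g₂
  have hcf : fpSnd g₁ g₂ (algebraMap R E f) = MvPolynomial.C (algebraMap R P f) :=
    ((fpSnd g₁ g₂).restrictScalars R).commutes f
  have hg₂f : g₂ (MvPolynomial.C (algebraMap R P f)) = algebraMap R D₀ f :=
    (hgC _).trans (((π₁.restrictScalars R).comp (IsScalarTower.toAlgHom R P Pf)).commutes f)
  have locF : letI := (fpFst g₁ g₂).toRingHom.toAlgebra; IsLocalization.Away (algebraMap R E f) (R' ⊗[R] Jou b) := by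
    refine isLocalization_fpFst g₁ g₂ _ ?_ (fun d => ?_) fun p hp => ?_
    · rw [show fpFst g₁ g₂ (algebraMap R E f) = algebraMap R _ f from ((fpFst g₁ g₂).restrictScalars R).commutes f,
        ← (Algebra.TensorProduct.includeRight : Jou b →ₐ[R] R' ⊗[R] Jou b).commutes]
      exact (isUnit_jou hfB b).map _
    · obtain ⟨n, p, hp⟩ := hgs d
      exact ⟨n, p, by rw [hcf, hg₂f]; exact hp⟩
    · obtain ⟨n, hn⟩ := hgk p hp
      exact ⟨n, by rw [hcf]; exact hn⟩
  have hga : g₁ (γ' a) = g₂ (MvPolynomial.C (algebraMap Bo P a)) := by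
    show algebraMap _ D₀ (γ' a) = g₂ _
    rw [hgC]
    exact ((IsLocalization.Away.lift_eq _ huP _).trans (IsLocalization.Away.lift_eq a haD a)).symm
  obtain ⟨α₀, hα₁, hα₂⟩ := exists_fp g₁ g₂ (γ' a) (MvPolynomial.C (algebraMap Bo P a)) hga
  have locA : letI := (fpSnd g₁ g₂).toRingHom.toAlgebra; IsLocalization.Away α₀ (MvPolynomial (Fin m) P) := by
    refine isLocalization_fpSnd g₁ g₂ _ ?_ (fun d => ?_) fun c hc => ?_
    · rw [hα₂]; exact (IsLocalization.Away.algebraMap_isUnit a).map _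
    · obtain ⟨n, c, hc⟩ := IsLocalization.Away.surj (γ' a) d
      exact ⟨n, c, by rw [hα₁]; exact hc.symm⟩
    · obtain ⟨n, hn⟩ := IsLocalization.Away.exists_of_eq (γ' a) (show algebraMap _ D₀ c = algebraMap _ D₀ 0 by
        rw [map_zero]; exact hc)
      exact ⟨n, by rw [hα₁]; simpa using hn⟩
  -- the glueing element
  obtain ⟨x, y, hxy⟩ := exists_approx h.1 (fpFst g₁ g₂) (fun t => by
    letI := (fpFst g₁ g₂).toRingHom.toAlgebra
    haveI := locF
    obtain ⟨n, e, he⟩ := IsLocalization.Away.surj (algebraMap R E f) t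
    refine ⟨n, e, ?_⟩
    rw [show fpFst g₁ g₂ e = algebraMap E (R' ⊗[R] Jou b) e from rfl, ← he, Algebra.smul_def, mul_comm, map_pow,
      show algebraMap E (R' ⊗[R] Jou b) (algebraMap R E f) = algebraMap R _ f from
        ((fpFst g₁ g₂).restrictScalars R).commutes f]) α₀
  let α : E := α₀ - f • x
  let E₁ := Localization.Away α
  let B₁ := Localization.Away y
  let incB : R' ⊗[R] Jou b →ₐ[R'] R' ⊗[R] B₁ :=
    Algebra.TensorProduct.map (AlgHom.id R' R') (IsScalarTower.toAlgHom R (Jou b) B₁)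
  let g₀ : E →ₐ[R'] R' ⊗[R] B₁ := incB.comp (fpFst g₁ g₂)
  have huα : IsUnit (g₀ α) := by
    show IsUnit (incB (fpFst g₁ g₂ (α₀ - f • x)))
    rw [hxy]
    simp only [incB, Algebra.TensorProduct.map_tmul, map_one]
    exact (IsLocalization.Away.algebraMap_isUnit y).map
      (Algebra.TensorProduct.includeRight : B₁ →ₐ[R] R' ⊗[R] B₁)
  let H₁ : E₁ →ₐ[R'] R' ⊗[R] B₁ := ⟨IsLocalization.Away.lift α (g := g₀.toRingHom) huα, fun r => by
    rw [IsScalarTower.algebraMap_apply R' E E₁]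
    exact (IsLocalization.Away.lift_eq α huα _).trans (g₀.commutes r)⟩
  have hH₁ : ∀ e, H₁ (algebraMap E E₁ e) = g₀ e := fun e => IsLocalization.Away.lift_eq α huα e
  have loc₁ : letI := H₁.toRingHom.toAlgebra; IsLocalization.Away (algebraMap R E₁ f) (R' ⊗[R] B₁) := by
    letI := H₁.toRingHom.toAlgebra
    letI := (fpFst g₁ g₂).toRingHom.toAlgebra
    letI : Algebra (R' ⊗[R] Jou b) (R' ⊗[R] B₁) := incB.toRingHom.toAlgebra
    haveI := locF
    haveI : IsScalarTower R' (R' ⊗[R] Jou b) (R' ⊗[R] B₁) :=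
      IsScalarTower.of_algebraMap_eq fun r => (incB.commutes r).symm
    haveI : IsLocalization.Away (algebraMap E (R' ⊗[R] Jou b) α) (R' ⊗[R] B₁) := by
      have := IsLocalization.tensorProduct_tensorProduct_right R R' (Submonoid.powers y) B₁
        (RingHom.ext fun j => by simp [RingHom.algebraMap_toAlgebra, incB])
      rw [Submonoid.map_powers] at this
      rw [show algebraMap E (R' ⊗[R] Jou b) α = (1 : R') ⊗ₜ[R] y from hxy]
      exact this
    rw [IsScalarTower.algebraMap_apply R E E₁]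
    exact isLocalization_comm (C := R' ⊗[R] Jou b) (algebraMap R E f) α hH₁
  obtain ⟨c, hc₁, hc₂, -⟩ := exists_kC hV₁ (spm (IsScalarTower.toAlgHom R (Jou b) B₁) ≫ vJ)
  have hc : c = spm (incB.restrictScalars R) ≫ k := by
    apply hV₁.hom_ext
    · rw [hc₁, Category.assoc, hk₁, ← Category.assoc, ← Category.assoc, spm_comp, spm_comp]
      exact congrArg (spm · ≫ vJ) (AlgHom.ext fun j => by simp [incB])
    · rw [hc₂, Category.assoc, hk₂, spm_comp]
      exact congrArg spm (AlgHom.ext fun r => by simp [incB])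
  -- the map to `Y'`
  have hoB : ∀ o, g₁ (γ' o) = g₂ (MvPolynomial.C (algebraMap Bo P o)) := fun o => by
    show algebraMap _ D₀ (γ' o) = g₂ _
    rw [hgC]
    exact ((IsLocalization.Away.lift_eq _ huP _).trans (IsLocalization.Away.lift_eq a haD o)).symm
  let PC : Bo →ₐ[R'] MvPolynomial (Fin m) P :=
    ⟨MvPolynomial.C.comp (algebraMap Bo P), fun r => by
      show MvPolynomial.C (algebraMap Bo P (algebraMap R' Bo r)) = _
      rw [← IsScalarTower.algebraMap_apply]; rfl⟩
  obtain ⟨Ψ, hΨf, hΨs⟩ := exists_fpLift g₁ g₂ γ' PC hoB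
  have hΨ₁ : spm ((fpFst g₁ g₂).restrictScalars R) ≫ spm (Ψ.restrictScalars R) = k ≫ pY ≫ κ := by
    rw [spm_comp, ← hγ]; exact congrArg spm (AlgHom.ext fun o => AlgHom.congr_fun hΨf o)
  let PmP : spR R (MvPolynomial (Fin m) P) ⟶ spR R P := spm (IsScalarTower.toAlgHom R P (MvPolynomial (Fin m) P))
  have hΨ₂ : spm ((fpSnd g₁ g₂).restrictScalars R) ≫ spm (Ψ.restrictScalars R) = (PmP ≫ w) ≫ κ := by
    rw [Category.assoc, hw, spm_comp, spm_comp]; exact congrArg spm (AlgHom.ext fun o => AlgHom.congr_fun hΨs o)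
  have hPm : Flat PmP.left ∧ LocallyOfFinitePresentation PmP.left :=
    ⟨(HasRingHomProperty.Spec_iff (P := @Flat)).2 (RingHom.flat_algebraMap_iff.mpr inferInstance),
      (HasRingHomProperty.Spec_iff (P := @LocallyOfFinitePresentation)).2
        (RingHom.finitePresentation_algebraMap.2 inferInstance)⟩
  haveI := hPm.1
  haveI := hPm.2
  obtain ⟨τ, hτf, hτg, hτκ, hτr⟩ := exists_rho κ ((fpFst g₁ g₂).restrictScalars R) ((fpSnd g₁ g₂).restrictScalars R)
    (Ψ.restrictScalars R) (algebraMap R E f) α₀ α locF locA ⟨x, congrArg (α₀ - ·) (Algebra.smul_def f x)⟩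
    (k ≫ pY) (PmP ≫ w) ((Category.assoc _ _ _).trans hΨ₁.symm) hΨ₂.symm
    (inferInstanceAs (Flat (k.left ≫ pY.left))) (inferInstanceAs (LocallyOfFinitePresentation (k.left ≫ pY.left)))
    (inferInstanceAs (Flat (PmP.left ≫ w.left))) (inferInstanceAs (LocallyOfFinitePresentation (PmP.left ≫ w.left)))
  haveI : IsOpenImmersion (spm (IsScalarTower.toAlgHom R (Jou b) B₁)).left := (range_spm_away (R := R) y B₁).1
  have hcov : ∀ t : Y'.left, κ.left t ∈ PrimeSpectrum.basicOpen a → t ∈ Set.range pY.left ∨ t ∈ Set.range τ.left := by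
    intro t ht
    by_cases htp : t ∈ Set.range pY.left
    · exact Or.inl htp
    right
    obtain ⟨t₀, ht₀⟩ : t ∈ Set.range w.left := by
      obtain ⟨u, hu⟩ : κ.left t ∈ Set.range (spm (IsScalarTower.toAlgHom R Bo P)).left := by
        rw [(range_spm_away (R := R) a P).2]; exact ht
      exact ⟨u, κ.left.isOpenEmbedding.injective (by rw [← Scheme.Hom.comp_apply, ← Over.comp_left, hw]; exact hu)⟩
    let q : PrimeSpectrum (MvPolynomial (Fin m) P) := PrimeSpectrum.comap MvPolynomial.constantCoeff t₀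
    have hq : PmP.left q = t₀ := PrimeSpectrum.ext (Ideal.ext fun p => by
      show MvPolynomial.constantCoeff (MvPolynomial.C p) ∈ t₀.asIdeal ↔ _
      rw [MvPolynomial.constantCoeff_C])
    have hft : algebraMap R P f ∈ PrimeSpectrum.asIdeal t₀ := by
      by_contra hne
      obtain ⟨u, hu⟩ : t₀ ∈ Set.range (spm (IsScalarTower.toAlgHom R P Pf)).left := by
        rw [(range_spm_away (R := R) (algebraMap R P f) Pf).2]; exact hne
      refine htp ⟨z.left u, ?_⟩
      rw [← Scheme.Hom.comp_apply, ← Over.comp_left, hz₁, Over.comp_left, Scheme.Hom.comp_apply, hu]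
      exact ht₀
    have hfE : fpSnd g₁ g₂ (algebraMap R E f) ∈ q.asIdeal := by
      show MvPolynomial.constantCoeff (fpSnd g₁ g₂ (algebraMap R E f)) ∈ t₀.asIdeal
      rw [hcf, MvPolynomial.constantCoeff_C]; exact hft
    have hfin : (PmP ≫ w).left q = t := by
      rw [Over.comp_left, Scheme.Hom.comp_apply, hq]; exact ht₀
    exact hfin ▸ hτr q hfE
  refine ⟨⟨B₁, E₁, ?_, H₁, loc₁, spm (IsScalarTower.toAlgHom R (Jou b) B₁) ≫ vJ, τ, c, hc₁, ?_, ?_,
    inferInstanceAs (Flat ((spm (IsScalarTower.toAlgHom R (Jou b) B₁)).left ≫ vJ.left)),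
    inferInstanceAs (LocallyOfFinitePresentation ((spm (IsScalarTower.toAlgHom R (Jou b) B₁)).left ≫ vJ.left)),
    hτf, hτg⟩, hcov⟩
  · rw [IsScalarTower.algebraMap_apply R (Jou b) B₁]
    exact (isUnit_jou hfB b).map _
  · rw [hc, ← cancel_mono κ]
    simp only [Category.assoc]
    rw [hτκ, ← hγ, spm_comp, spm_comp, spm_comp]
    refine congrArg spm (AlgHom.ext fun o => ?_)
    exact ((hH₁ (Ψ o)).trans (congrArg incB (AlgHom.congr_fun hΨf o))).symm
  · rw [← hκ, reassoc_of% hτκ, spm_comp, spm_comp]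
    refine congrArg spm (AlgHom.ext fun r => ?_)
    show algebraMap E E₁ (Ψ (algebraMap R' Bo r)) = algebraMap R' E₁ r
    exact (congrArg (algebraMap E E₁) (Ψ.commutes r)).trans (IsScalarTower.algebraMap_apply R' E E₁ r).symm

end pieces

end Groth.Agent.AlgSpLib.GlueQA
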