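import Groth.Agent.AlgSpLib.GlueQACover

/-!
# The glued equivalence relation of a glueing datum
-/

set_option autoImplicit false
set_option linter.style.haveILetI false
set_option backward.isDefEq.respectTransparency false
set_option backward.isDefEq.respectTransparency.types false

universe u

open CategoryTheory CategoryTheory.Limits AlgebraicGeometry TensorProduct

noncomputable section

namespace Groth.Agent.AlgSpLib.GlueQA

/-- a pullback square from its universal property -/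
theorem isPullback_mk {C : Type*} [Category C] {P X Y Z : C} {fst : P ⟶ X} {snd : P ⟶ Y} {f : X ⟶ Z} {g : Y ⟶ Z}
    (w : fst ≫ f = snd ≫ g)
    (hl : ∀ {W : C} (a : W ⟶ X) (b : W ⟶ Y), a ≫ f = b ≫ g → ∃ l, l ≫ fst = a ∧ l ≫ snd = b)
    (hu : ∀ {W : C} (l l' : W ⟶ P), l ≫ fst = l' ≫ fst → l ≫ snd = l' ≫ snd → l = l') :
    IsPullback fst snd f g :=
  ⟨⟨w⟩, ⟨PullbackCone.IsLimit.mk _ (fun s => (hl s.fst s.snd s.condition).choose)
    (fun s => (hl s.fst s.snd s.condition).choose_spec.1) (fun s => (hl s.fst s.snd s.condition).choose_spec.2)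
    (fun s l h₁ h₂ => hu _ _ (h₁.trans (hl s.fst s.snd s.condition).choose_spec.1.symm)
      (h₂.trans (hl s.fst s.snd s.condition).choose_spec.2.symm))⟩⟩

/-- the kernel pair of a base change -/
theorem isPullback_kernel {C : Type*} [Category C] {K Q W P G KT V V' KV R₁ : C} {k : KT ⟶ Q} {m : KT ⟶ G}
    {t : Q ⟶ P} {g : G ⟶ P} (sqQ : IsPullback k m t g) {p : V' ⟶ V} {q : V' ⟶ G} {vt : V ⟶ P}
    (sqV : IsPullback p q vt g) {τ : Q ⟶ V} (hτ : τ ≫ vt = t) {c : KT ⟶ V'} (hc₁ : c ≫ p = k ≫ τ) (hc₂ : c ≫ q = m)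
    {a b : R₁ ⟶ Q} (ker : IsPullback a b τ τ) {α β : KV ⟶ KT} (kerK : IsPullback α β c c) {k₂ : KV ⟶ R₁}
    (e₁ : k₂ ≫ a = α ≫ k) (e₂ : k₂ ≫ b = β ≫ k) : IsPullback k₂ (α ≫ m) (a ≫ t) g := by
  have hαβ : α ≫ m = β ≫ m := by rw [← hc₂, reassoc_of% kerK.w]
  refine isPullback_mk (by rw [← Category.assoc, e₁, Category.assoc, sqQ.w, Category.assoc]) (fun r x hrx => ?_) fun l l' h₁ h₂ => ?_
  · have hb : (r ≫ b) ≫ t = x ≫ g := by
      rw [Category.assoc, ← hτ, ← reassoc_of% ker.w, hτ]; exact hrx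
    obtain ⟨z₁, hz₁, hz₁'⟩ := sqQ.exists_lift (r ≫ a) x (by rw [Category.assoc]; exact hrx)
    obtain ⟨z₂, hz₂, hz₂'⟩ := sqQ.exists_lift (r ≫ b) x hb
    have hz : z₁ ≫ c = z₂ ≫ c := sqV.hom_ext
      (by rw [Category.assoc, Category.assoc, hc₁, reassoc_of% hz₁, reassoc_of% hz₂, ker.w])
      (by rw [Category.assoc, Category.assoc, hc₂, hz₁', hz₂'])
    obtain ⟨l, hl₁, hl₂⟩ := kerK.exists_lift z₁ z₂ hz
    exact ⟨l, ker.hom_ext (by rw [Category.assoc, e₁, reassoc_of% hl₁, hz₁])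
      (by rw [Category.assoc, e₂, reassoc_of% hl₂, hz₂]), by rw [reassoc_of% hl₁, hz₁']⟩
  · refine kerK.hom_ext (sqQ.hom_ext ?_ ?_) (sqQ.hom_ext ?_ ?_)
    · rw [Category.assoc, Category.assoc, ← e₁, reassoc_of% h₁]
    · simpa only [Category.assoc] using h₂
    · rw [Category.assoc, Category.assoc, ← e₂, reassoc_of% h₁]
    · rw [Category.assoc, Category.assoc, ← hαβ]; exact h₂

variable {R : Type u} [CommRing R]

/-- kernel pairs of affine schemes over separated schemes are affine -/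
theorem exists_kernel {Q V : Over (Spec (CommRingCat.of R))} (τ : Q ⟶ V) [IsAffine Q.left] [V.left.IsSeparated] :
    ∃ (P : Over (Spec (CommRingCat.of R))) (a b : P ⟶ Q), IsAffine P.left ∧ IsPullback a b τ τ ∧
      IsPullback a.left b.left τ.left τ.left := by
  let P : Over (Spec (CommRingCat.of R)) := Over.mk (pullback.fst τ.left τ.left ≫ Q.hom)
  let a : P ⟶ Q := Over.homMk (pullback.fst τ.left τ.left) rfl
  let b : P ⟶ Q := Over.homMk (pullback.snd τ.left τ.left) (by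
    show pullback.snd τ.left τ.left ≫ Q.hom = pullback.fst τ.left τ.left ≫ Q.hom
    rw [← Over.w τ, pullback.condition_assoc])
  have sq : IsPullback a.left b.left τ.left τ.left := IsPullback.of_hasPullback τ.left τ.left
  refine ⟨P, a, b, ?_, IsPullback.of_map (Over.forget _) (Over.OverMorphism.ext sq.w) sq, sq⟩
  show IsAffine (pullback τ.left τ.left)
  haveI : IsSeparated V.hom := by
    haveI : IsSeparated (V.hom ≫ terminal.from (Spec (CommRingCat.of R))) := by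
      rw [terminal.comp_from]; exact Scheme.IsSeparated.isSeparated_terminal_from
    exact IsSeparated.of_comp V.hom (terminal.from _)
  haveI : IsAffine (pullback (τ.left ≫ V.hom) (τ.left ≫ V.hom)) := inferInstance
  exact isAffine_of_isAffineHom (pullback.mapDesc τ.left τ.left V.hom)

/-- the graph of the kernel pair is closed -/
theorem isClosedImmersion_kernel {Q V L P PQ : Over (Spec (CommRingCat.of R))} {τ : Q ⟶ V} (v : V ⟶ L) [IsSeparated v.left]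
    {p : Q ⟶ L} (hv : τ ≫ v = p) {a b : P ⟶ Q} (sq : IsPullback a.left b.left τ.left τ.left) {π₁ π₂ : PQ ⟶ Q}
    (sqQ : IsPullback π₁.left π₂.left p.left p.left) {m : P ⟶ PQ} (h₁ : m ≫ π₁ = a) (h₂ : m ≫ π₂ = b) :
    IsClosedImmersion m.left := by
  let md := pullback.mapDesc τ.left τ.left v.left
  haveI : IsClosedImmersion md := inferInstance
  let ψ : pullback τ.left τ.left ≅ P.left := sq.isoPullback.symm
  have hp : τ.left ≫ v.left = p.left := congrArg CommaMorphism.left hv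
  let χ : pullback (τ.left ≫ v.left) (τ.left ≫ v.left) ≅ PQ.left :=
    pullback.congrHom hp hp ≪≫ sqQ.isoPullback.symm
  have e : ψ.hom ≫ m.left = md ≫ χ.hom := by
    apply sqQ.hom_ext
    · rw [Category.assoc, ← Over.comp_left, h₁]
      simp [ψ, χ, md, pullback.mapDesc]
    · rw [Category.assoc, ← Over.comp_left, h₂]
      simp [ψ, χ, md, pullback.mapDesc]
  rw [← MorphismProperty.cancel_left_of_respectsIso (P := @IsClosedImmersion) ψ.hom, e,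
    MorphismProperty.cancel_right_of_respectsIso (P := @IsClosedImmersion)]
  infer_instance

set_option maxHeartbeats 3000000 in
/-- the relation -/
theorem exists_relation {R' : Type u} [CommRing R'] [Algebra R R'] {f : R} (h : EtGlue.IsGlueingPair R R' f)
    {V V' Y' : Over (Spec (CommRingCat.of R))} [V.left.IsSeparated] [Y'.left.IsSeparated]
    {pV : V' ⟶ V} {pY : V' ⟶ Y'} {v : V ⟶ spR R (Localization.Away f)} {y' : Y' ⟶ spR R R'}
    {tU : spR R (Localization.Away f) ⟶ Over.mk (𝟙 _)} {tX : spR R R' ⟶ Over.mk (𝟙 _)}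
    {qX : V' ⟶ spR R R'} (hV₁ : IsPullback pV qX (v ≫ tU) tX)
    {qU : V' ⟶ spR R (Localization.Away f)} (hV₂ : IsPullback pY qU (y' ≫ tX) tU) (hqX : pY ≫ y' = qX)
    {A : Type u} [CommRing A] [Algebra R A] (hA : EtGlue.IsGlueable R R' f A)
    {Q₁ Q' : Over (Spec (CommRingCat.of R))} [IsAffine Q₁.left] [IsAffine Q'.left]
    {j₁ : Q₁ ⟶ spR R A} {u₁ : Q₁ ⟶ spR R (Localization.Away f)} {j' : Q' ⟶ spR R A} {x' : Q' ⟶ spR R R'}
    {t : spR R A ⟶ Over.mk (𝟙 _)} {τ₁ : Q₁ ⟶ V} {τ' : Q' ⟶ Y'}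
    (h₁ : IsPullback j₁ u₁ t tU) (h' : IsPullback j' x' t tX) (hy : τ' ≫ y' = x')
    (hf₁ : Flat τ₁.left) (hl₁ : LocallyOfFinitePresentation τ₁.left)
    (hf' : Flat τ'.left) (hl' : LocallyOfFinitePresentation τ'.left)
    (hc : ∀ (Z : Over (Spec (CommRingCat.of R))) (a : Z ⟶ Q₁) (b : Z ⟶ Q'), a ≫ j₁ = b ≫ j' →
        ∃ c : Z ⟶ V', c ≫ pV = a ≫ τ₁ ∧ c ≫ pY = b ≫ τ') :
    ∃ (RR R₁ RX : Over (Spec (CommRingCat.of R))) (r₁ r₂ : RR ⟶ spR R A)
      (J₁ : R₁ ⟶ RR) (a₁ b₁ : R₁ ⟶ Q₁) (J' : RX ⟶ RR) (a' b' : RX ⟶ Q'),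
      IsPullback a₁ b₁ τ₁ τ₁ ∧ IsPullback a' b' τ' τ' ∧
      IsPullback J₁ a₁ r₁ j₁ ∧ J₁ ≫ r₂ = b₁ ≫ j₁ ∧ IsPullback J' a' r₁ j' ∧ J' ≫ r₂ = b' ≫ j' ∧
      AlgSp.IsEqvRel r₁ r₂ ∧ Flat r₁.left ∧ LocallyOfFinitePresentation r₁.left ∧ LocallyOfFiniteType r₂.left ∧
      IsClosedImmersion (pullback.lift r₂.left r₁.left ((Over.w r₂).trans (Over.w r₁).symm)) := by
  obtain ⟨R₁, a₁, b₁, hR₁a, k₁, k₁l⟩ := exists_kernel τ₁
  obtain ⟨RX, a', b', hRXa, k', k'l⟩ := exists_kernel τ'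
  -- the overlap
  have sT := IsPullback.of_hasPullback j₁ j'
  let c₁ := pullback.fst j₁ j'
  let c' := pullback.snd j₁ j'
  obtain ⟨cV, hcV, hcY⟩ := hc _ c₁ c' sT.w
  have sq1 : IsPullback c₁ (c' ≫ x') (u₁ ≫ tU) tX := by
    rw [← h₁.w]; exact sT.paste_vert h'.flip.flip
  have sq' : IsPullback c' (c₁ ≫ u₁) (x' ≫ tX) tU := by
    rw [← h'.w]; exact sT.flip.paste_vert h₁
  have skV := IsPullback.of_hasPullback cV cV
  let α := pullback.fst cV cV
  let β := pullback.snd cV cV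
  obtain ⟨κ₁, hκ₁a, hκ₁b⟩ := k₁.exists_lift (α ≫ c₁) (β ≫ c₁) (by
    rw [Category.assoc, Category.assoc, ← hcV, reassoc_of% skV.w])
  obtain ⟨κ', hκ'a, hκ'b⟩ := k'.exists_lift (α ≫ c') (β ≫ c') (by
    rw [Category.assoc, Category.assoc, ← hcY, reassoc_of% skV.w])
  have K₁ : IsPullback κ₁ (α ≫ c' ≫ x') ((a₁ ≫ u₁) ≫ tU) tX := by
    rw [Category.assoc a₁]
    exact isPullback_kernel (K := R₁) (W := R₁) sq1 hV₁ (by rw [← Category.assoc, hom_ext_away f (τ₁ ≫ v) u₁]) hcV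
      (by rw [← hqX, reassoc_of% hcY, hy]) k₁ skV hκ₁a hκ₁b
  have K' : IsPullback κ' (α ≫ c₁ ≫ u₁) ((a' ≫ x') ≫ tX) tU := by
    rw [Category.assoc a']
    exact isPullback_kernel (K := R₁) (W := R₁) sq' hV₂ (by rw [← Category.assoc, hy]) hcY (hom_ext_away f _ _) k' skV
      hκ'a hκ'b
  obtain ⟨A₂, _, _, hA₂, J₁, J', t₂, H₁, H', hJ⟩ := exists_glue tU tX h (a₁ ≫ u₁) (a' ≫ x') κ₁ κ'
    (α ≫ c' ≫ x') (α ≫ c₁ ≫ u₁) K₁ K' (by rw [reassoc_of% hκ'a])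
  have factor : ∀ (Z : Over (Spec (CommRingCat.of R))) (x : Z ⟶ R₁) (y : Z ⟶ RX), x ≫ J₁ = y ≫ J' →
      ∃ z, z ≫ κ₁ = x ∧ z ≫ κ' = y := fun Z x y e => by
    obtain ⟨z, hz₁, hz₂⟩ := K₁.exists_lift x (y ≫ a' ≫ x') (hom_ext_pt _ _)
    refine ⟨z, hz₁, H'.hom_ext (by rw [Category.assoc, ← hJ, reassoc_of% hz₁, e]) ?_⟩
    rw [Category.assoc, reassoc_of% hκ'a, hz₂]
  have hjj : c₁ ≫ j₁ = c' ≫ j' := sT.w
  obtain ⟨r₁, ⟨hr₁₁, hr₁'⟩, -⟩ := existsUnique_hom tU tX (W := spR R A) h hA₂ H₁ H' (a₁ ≫ j₁) (a' ≫ j')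
    (fun Z x y e => by
      obtain ⟨z, rfl, rfl⟩ := factor Z x y e
      simp only [Category.assoc, reassoc_of% hκ₁a, reassoc_of% hκ'a, hjj])
  obtain ⟨r₂, ⟨hr₂₁, hr₂'⟩, -⟩ := existsUnique_hom tU tX (W := spR R A) h hA₂ H₁ H' (b₁ ≫ j₁) (b' ≫ j')
    (fun Z x y e => by
      obtain ⟨z, rfl, rfl⟩ := factor Z x y e
      simp only [Category.assoc, reassoc_of% hκ₁b, reassoc_of% hκ'b, hjj])
  have P₁ : IsPullback J₁ a₁ r₁ j₁ := IsPullback.of_bot (by rw [hom_ext_pt (r₁ ≫ t) t₂]; exact H₁) hr₁₁ h₁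
  have P' : IsPullback J' a' r₁ j' := IsPullback.of_bot (by rw [hom_ext_pt (r₁ ≫ t) t₂]; exact H') hr₁' h'
  haveI : Flat a₁.left := MorphismProperty.of_isPullback k₁l.flip hf₁
  haveI : LocallyOfFinitePresentation a₁.left := MorphismProperty.of_isPullback k₁l.flip hl₁
  haveI : Flat a'.left := MorphismProperty.of_isPullback k'l.flip hf'
  haveI : LocallyOfFinitePresentation a'.left := MorphismProperty.of_isPullback k'l.flip hl'
  obtain ⟨hrf, hrl⟩ := flat_lfp_of_pieces tU tX h hA r₁ h₁ h' P₁ P' inferInstance inferInstance inferInstance inferInstance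
  -- the diagonal
  let D := A ⊗[R] A
  let π₁ : spR R D ⟶ spR R A := spm (Algebra.TensorProduct.includeRight : A →ₐ[R] A ⊗[R] A)
  let π₂ : spR R D ⟶ spR R A := spm (Algebra.TensorProduct.includeLeft : A →ₐ[R] A ⊗[R] A)
  have sD : IsPullback π₁ π₂ t t := isPullback_spm_tensor A A t t
  obtain ⟨δ, hδ₁, hδ₂⟩ := sD.exists_lift r₂ r₁ (hom_ext_pt _ _)
  have mkPiece : ∀ {Q : Over (Spec (CommRingCat.of R))} {L : Type u} [CommRing L] [Algebra R L]
      {tL : spR R L ⟶ Over.mk (𝟙 _)} {j : Q ⟶ spR R A} {p : Q ⟶ spR R L} (_ : IsPullback j p t tL),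
      ∃ (PQ : Over (Spec (CommRingCat.of R))) (q₁ q₂ : PQ ⟶ Q) (jD : PQ ⟶ spR R D) (pD : PQ ⟶ spR R L),
        IsPullback q₁.left q₂.left p.left p.left ∧ IsPullback jD pD (π₁ ≫ t) tL ∧
        jD ≫ π₁ = q₁ ≫ j ∧ jD ≫ π₂ = q₂ ≫ j ∧ q₁ ≫ p = pD ∧ q₂ ≫ p = pD := by
    intro Q L _ _ tL j p sq
    let PQ : Over (Spec (CommRingCat.of R)) := Over.mk (pullback.fst p.left p.left ≫ Q.hom)
    let q₁ : PQ ⟶ Q := Over.homMk (pullback.fst p.left p.left) rfl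
    let q₂ : PQ ⟶ Q := Over.homMk (pullback.snd p.left p.left) (by
      show pullback.snd p.left p.left ≫ Q.hom = pullback.fst p.left p.left ≫ Q.hom
      rw [← Over.w p, pullback.condition_assoc])
    have hq : q₁ ≫ p = q₂ ≫ p := Over.OverMorphism.ext pullback.condition
    obtain ⟨jD, hj₁, hj₂⟩ := sD.exists_lift (q₁ ≫ j) (q₂ ≫ j) (hom_ext_pt _ _)
    refine ⟨PQ, q₁, q₂, jD, q₁ ≫ p, IsPullback.of_hasPullback _ _, isPullback_mk (hom_ext_pt _ _)
      (fun d x _ => ?_) (fun l l' e₁ e₂ => ?_), hj₁, hj₂, rfl, hq.symm⟩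
    · obtain ⟨z₁, hz₁, hz₁'⟩ := sq.exists_lift (d ≫ π₁) x (hom_ext_pt _ _)
      obtain ⟨z₂, hz₂, hz₂'⟩ := sq.exists_lift (d ≫ π₂) x (hom_ext_pt _ _)
      let l : _ ⟶ PQ := Over.homMk (pullback.lift z₁.left z₂.left
        (congrArg CommaMorphism.left (hz₁'.trans hz₂'.symm))) (by
        show pullback.lift z₁.left z₂.left _ ≫ pullback.fst p.left p.left ≫ Q.hom = _
        rw [pullback.lift_fst_assoc, Over.w z₁])
      have l₁ : l ≫ q₁ = z₁ := Over.OverMorphism.ext (pullback.lift_fst _ _ _)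
      have l₂ : l ≫ q₂ = z₂ := Over.OverMorphism.ext (pullback.lift_snd _ _ _)
      exact ⟨l, sD.hom_ext (by rw [Category.assoc, hj₁, reassoc_of% l₁, hz₁])
        (by rw [Category.assoc, hj₂, reassoc_of% l₂, hz₂]), by rw [reassoc_of% l₁, hz₁']⟩
    · refine Over.OverMorphism.ext (pullback.hom_ext ?_ ?_)
      · exact congrArg CommaMorphism.left (sq.hom_ext (show (l ≫ q₁) ≫ j = (l' ≫ q₁) ≫ j by
            rw [Category.assoc, Category.assoc, ← hj₁, reassoc_of% e₁])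
            (show (l ≫ q₁) ≫ p = (l' ≫ q₁) ≫ p by rw [Category.assoc, Category.assoc, e₂]))
      · exact congrArg CommaMorphism.left (sq.hom_ext (show (l ≫ q₂) ≫ j = (l' ≫ q₂) ≫ j by
            rw [Category.assoc, Category.assoc, ← hj₂, reassoc_of% e₁])
            (show (l ≫ q₂) ≫ p = (l' ≫ q₂) ≫ p by rw [Category.assoc, Category.assoc, ← hq, e₂]))
  have sepMor : ∀ {W L : Over (Spec (CommRingCat.of R))} (g : W ⟶ L) [W.left.IsSeparated], IsSeparated g.left :=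
    fun {W L} g _ => by
      haveI : IsSeparated (g.left ≫ terminal.from L.left) := by
        rw [terminal.comp_from]; exact Scheme.IsSeparated.isSeparated_terminal_from
      exact IsSeparated.of_comp g.left (terminal.from _)
  haveI := sepMor v
  haveI := sepMor y'
  have hδt : δ ≫ π₁ ≫ t = t₂ := hom_ext_pt _ _
  obtain ⟨PQ₁, q₁₁, q₁₂, jD₁, pD₁, sPQ₁, sD₁, hjD₁₁, hjD₁₂, hpD₁, -⟩ := mkPiece h₁
  obtain ⟨PQ', q'₁, q'₂, jD', pD', sPQ', sD', hjD'₁, hjD'₂, hpD', -⟩ := mkPiece h'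
  have hv₁ : τ₁ ≫ v = u₁ := hom_ext_away f _ _
  obtain ⟨m₁, hm₁a, hm₁b⟩ := (IsPullback.of_map (Over.forget _) (Over.OverMorphism.ext sPQ₁.w) sPQ₁ :
    IsPullback q₁₁ q₁₂ u₁ u₁).exists_lift b₁ a₁ (by rw [← hv₁, reassoc_of% k₁.w])
  obtain ⟨m', hm'a, hm'b⟩ := (IsPullback.of_map (Over.forget _) (Over.OverMorphism.ext sPQ'.w) sPQ' :
    IsPullback q'₁ q'₂ x' x').exists_lift b' a' (by rw [← hy, reassoc_of% k'.w])
  have hcl₁ : IsClosedImmersion m₁.left := isClosedImmersion_kernel v hv₁ k₁l.flip sPQ₁ hm₁a hm₁b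
  have hcl' : IsClosedImmersion m'.left := isClosedImmersion_kernel y' hy k'l.flip sPQ' hm'a hm'b
  have B₁ : IsPullback J₁ m₁ δ jD₁ := IsPullback.of_bot
    (by rw [hδt, ← hpD₁, reassoc_of% hm₁a, hom_ext_away f (b₁ ≫ u₁) (a₁ ≫ u₁)]; exact H₁)
    (sD.hom_ext (by rw [Category.assoc, Category.assoc, hδ₁, hjD₁₁, reassoc_of% hm₁a, hr₂₁])
      (by rw [Category.assoc, Category.assoc, hδ₂, hjD₁₂, reassoc_of% hm₁b, hr₁₁])) sD₁
  have hab' : b' ≫ x' = a' ≫ x' := by rw [← hy, reassoc_of% k'.w]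
  have B' : IsPullback J' m' δ jD' := IsPullback.of_bot
    (by rw [hδt, ← hpD', reassoc_of% hm'a, hab']; exact H')
    (sD.hom_ext (by rw [Category.assoc, Category.assoc, hδ₁, hjD'₁, reassoc_of% hm'a, hr₂'])
      (by rw [Category.assoc, Category.assoc, hδ₂, hjD'₂, reassoc_of% hm'b, hr₁'])) sD'
  have hδ : IsClosedImmersion δ.left := isClosedImmersion_of_pieces tU tX h δ sD₁ sD' B₁ B' hcl₁ hcl'
  haveI hδm : Mono δ := ⟨fun x y e => Over.OverMorphism.ext ((cancel_mono δ.left).mp (congrArg CommaMorphism.left e))⟩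
  have rext : ∀ {Z : Over (Spec (CommRingCat.of R))} (x y : Z ⟶ spR R A₂), x ≫ r₁ = y ≫ r₁ → x ≫ r₂ = y ≫ r₂ → x = y :=
    fun x y e₁ e₂ => (cancel_mono δ).mp (sD.hom_ext (by rw [Category.assoc, Category.assoc, hδ₁, e₂])
      (by rw [Category.assoc, Category.assoc, hδ₂, e₁]))
  -- reflexivity
  obtain ⟨d₁, hd₁a, hd₁b⟩ := k₁.exists_lift (𝟙 Q₁) (𝟙 Q₁) rfl
  obtain ⟨d', hd'a, hd'b⟩ := k'.exists_lift (𝟙 Q') (𝟙 Q') rfl
  obtain ⟨e, ⟨he₁, he'⟩, -⟩ := existsUnique_hom tU tX (W := spR R A₂) h hA h₁ h' (d₁ ≫ J₁) (d' ≫ J')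
    (fun Z x y hxy => rext _ _
      (by simp only [Category.assoc, hr₁₁, hr₁', reassoc_of% hd₁a, reassoc_of% hd'a, hxy])
      (by simp only [Category.assoc, hr₂₁, hr₂', reassoc_of% hd₁b, reassoc_of% hd'b, hxy]))
  have er₁ : e ≫ r₁ = 𝟙 _ := hom_ext_glue tU tX h hA h₁ h' _ _
    (by rw [reassoc_of% he₁, hr₁₁, reassoc_of% hd₁a, Category.comp_id])
    (by rw [reassoc_of% he', hr₁', reassoc_of% hd'a, Category.comp_id])
  have er₂ : e ≫ r₂ = 𝟙 _ := hom_ext_glue tU tX h hA h₁ h' _ _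
    (by rw [reassoc_of% he₁, hr₂₁, reassoc_of% hd₁b, Category.comp_id])
    (by rw [reassoc_of% he', hr₂', reassoc_of% hd'b, Category.comp_id])
  -- symmetry
  obtain ⟨s₁, hs₁a, hs₁b⟩ := k₁.exists_lift b₁ a₁ k₁.w.symm
  obtain ⟨s', hs'a, hs'b⟩ := k'.exists_lift b' a' k'.w.symm
  obtain ⟨σ, ⟨hσ₁, hσ'⟩, -⟩ := existsUnique_hom tU tX (W := spR R A₂) h hA₂ H₁ H' (s₁ ≫ J₁) (s' ≫ J')
    (fun Z x y hxy => rext _ _
      (by simpa only [Category.assoc, hr₁₁, hr₁', hr₂₁, hr₂', reassoc_of% hs₁a, reassoc_of% hs'a] using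
        congrArg (· ≫ r₂) hxy)
      (by simpa only [Category.assoc, hr₁₁, hr₁', hr₂₁, hr₂', reassoc_of% hs₁b, reassoc_of% hs'b] using
        congrArg (· ≫ r₁) hxy))
  have σr₁ : σ ≫ r₁ = r₂ := hom_ext_glue tU tX h hA₂ H₁ H' _ _
    (by rw [reassoc_of% hσ₁, hr₁₁, reassoc_of% hs₁a, hr₂₁]) (by rw [reassoc_of% hσ', hr₁', reassoc_of% hs'a, hr₂'])
  have σr₂ : σ ≫ r₂ = r₁ := hom_ext_glue tU tX h hA₂ H₁ H' _ _
    (by rw [reassoc_of% hσ₁, hr₂₁, reassoc_of% hs₁b, hr₁₁]) (by rw [reassoc_of% hσ', hr₂', reassoc_of% hs'b, hr₁'])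
  -- transitivity
  let W₃ : Over (Spec (CommRingCat.of R)) := Over.mk (pullback.fst r₂.left r₁.left ≫ (spR R A₂).hom)
  let p : W₃ ⟶ spR R A₂ := Over.homMk (pullback.fst r₂.left r₁.left) rfl
  let q : W₃ ⟶ spR R A₂ := Over.homMk (pullback.snd r₂.left r₁.left) (by
    show pullback.snd r₂.left r₁.left ≫ (spR R A₂).hom = pullback.fst r₂.left r₁.left ≫ (spR R A₂).hom
    exact (congrArg (pullback.snd r₂.left r₁.left ≫ ·) (Over.w r₁).symm).trans
      ((pullback.condition_assoc (f := r₂.left) (g := r₁.left) _).symm.trans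
        (congrArg (pullback.fst r₂.left r₁.left ≫ ·) (Over.w r₂))))
  have s₃l : IsPullback p.left q.left r₂.left r₁.left := IsPullback.of_hasPullback _ _
  have s₃ : IsPullback p q r₂ r₁ := IsPullback.of_map (Over.forget _) (Over.OverMorphism.ext s₃l.w) s₃l
  haveI : IsAffine W₃.left := inferInstanceAs (IsAffine (pullback r₂.left r₁.left))
  obtain ⟨A₃, _, _, ⟨e₃⟩⟩ := exists_spR_iso W₃
  obtain ⟨φ, hφ⟩ := exists_spm (e₃.hom ≫ p)
  haveI : Flat p.left := MorphismProperty.of_isPullback s₃l.flip hrf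
  haveI : IsIso e₃.hom.left := inferInstanceAs (IsIso ((Over.forget _).map e₃.hom))
  have hφf : Flat (spm φ).left := by rw [hφ]; exact inferInstanceAs (Flat (e₃.hom.left ≫ p.left))
  letI := φ.toRingHom.toAlgebra
  haveI : IsScalarTower R A₂ A₃ := IsScalarTower.of_algebraMap_eq fun r => (φ.commutes r).symm
  haveI : Module.Flat A₂ A₃ := (HasRingHomProperty.Spec_iff (P := @Flat)).1 hφf
  have hA₃ := isGlueable_of_flat h hA₂ A₃
  have T₁ := IsPullback.of_hasPullback (spm φ) J₁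
  have T' := IsPullback.of_hasPullback (spm φ) J'
  have G₁ : IsPullback (pullback.fst (spm φ) J₁) (pullback.snd (spm φ) J₁ ≫ a₁ ≫ u₁) (spm φ ≫ t₂) tU :=
    T₁.paste_vert H₁
  have G' : IsPullback (pullback.fst (spm φ) J') (pullback.snd (spm φ) J' ≫ a' ≫ x') (spm φ ≫ t₂) tX :=
    T'.paste_vert H'
  have hw₁ := pullback.condition (f := spm φ) (g := J₁)
  have hw' := pullback.condition (f := spm φ) (g := J')
  obtain ⟨y₁, hy₁J, hy₁a⟩ := P₁.exists_lift (pullback.fst (spm φ) J₁ ≫ e₃.hom ≫ q) (pullback.snd (spm φ) J₁ ≫ b₁) (by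
    rw [Category.assoc, Category.assoc, Category.assoc, ← s₃.w, ← hr₂₁, ← reassoc_of% hw₁, reassoc_of% hφ])
  obtain ⟨y₂, hy₂J, hy₂a⟩ := P'.exists_lift (pullback.fst (spm φ) J' ≫ e₃.hom ≫ q) (pullback.snd (spm φ) J' ≫ b') (by
    rw [Category.assoc, Category.assoc, Category.assoc, ← s₃.w, ← hr₂', ← reassoc_of% hw', reassoc_of% hφ])
  obtain ⟨z₁, hz₁a, hz₁b⟩ := k₁.exists_lift (pullback.snd (spm φ) J₁ ≫ a₁) (y₁ ≫ b₁) (by
    rw [Category.assoc, Category.assoc, k₁.w, ← reassoc_of% hy₁a, k₁.w])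
  obtain ⟨z₂, hz₂a, hz₂b⟩ := k'.exists_lift (pullback.snd (spm φ) J' ≫ a') (y₂ ≫ b') (by
    rw [Category.assoc, Category.assoc, k'.w, ← reassoc_of% hy₂a, k'.w])
  have c₁a : (z₁ ≫ J₁) ≫ r₁ = pullback.fst (spm φ) J₁ ≫ e₃.hom ≫ p ≫ r₁ := by
    rw [Category.assoc, hr₁₁, reassoc_of% hz₁a, ← hr₁₁, ← reassoc_of% hw₁, reassoc_of% hφ]
  have c₁b : (z₁ ≫ J₁) ≫ r₂ = pullback.fst (spm φ) J₁ ≫ e₃.hom ≫ q ≫ r₂ := by
    rw [Category.assoc, hr₂₁, reassoc_of% hz₁b, ← hr₂₁, reassoc_of% hy₁J]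
  have c'a : (z₂ ≫ J') ≫ r₁ = pullback.fst (spm φ) J' ≫ e₃.hom ≫ p ≫ r₁ := by
    rw [Category.assoc, hr₁', reassoc_of% hz₂a, ← hr₁', ← reassoc_of% hw', reassoc_of% hφ]
  have c'b : (z₂ ≫ J') ≫ r₂ = pullback.fst (spm φ) J' ≫ e₃.hom ≫ q ≫ r₂ := by
    rw [Category.assoc, hr₂', reassoc_of% hz₂b, ← hr₂', reassoc_of% hy₂J]
  obtain ⟨μ, ⟨hμ₁, hμ'⟩, -⟩ := existsUnique_hom tU tX (W := spR R A₂) h hA₃ G₁ G' (z₁ ≫ J₁) (z₂ ≫ J')
    (fun Z x y hxy => rext _ _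
      (by rw [Category.assoc, c₁a, Category.assoc, c'a, reassoc_of% hxy])
      (by rw [Category.assoc, c₁b, Category.assoc, c'b, reassoc_of% hxy]))
  have μr₁ : μ ≫ r₁ = e₃.hom ≫ p ≫ r₁ := hom_ext_glue tU tX h hA₃ G₁ G' _ _
    (by rw [reassoc_of% hμ₁]; simpa only [Category.assoc] using c₁a)
    (by rw [reassoc_of% hμ']; simpa only [Category.assoc] using c'a)
  have μr₂ : μ ≫ r₂ = e₃.hom ≫ q ≫ r₂ := hom_ext_glue tU tX h hA₃ G₁ G' _ _
    (by rw [reassoc_of% hμ₁]; simpa only [Category.assoc] using c₁b)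
    (by rw [reassoc_of% hμ']; simpa only [Category.assoc] using c'b)
  have heqv : AlgSp.IsEqvRel r₁ r₂ := ⟨fun T r r' e₂ e₁ => rext r r' e₁ e₂, fun T => ⟨fun x =>
      ⟨x ≫ e, by rw [Category.assoc, er₂, Category.comp_id], by rw [Category.assoc, er₁, Category.comp_id]⟩,
    fun {x y} ⟨r, hx, hy'⟩ => ⟨r ≫ σ, by rw [Category.assoc, σr₂, hy'], by rw [Category.assoc, σr₁, hx]⟩,
    fun {x y z} ⟨r, hx, hy'⟩ ⟨r', hy'', hz⟩ => by
      obtain ⟨l, hl₁, hl₂⟩ := s₃.exists_lift r' r (hy''.trans hy'.symm)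
      exact ⟨l ≫ e₃.inv ≫ μ, by simp only [Category.assoc, μr₂, e₃.inv_hom_id_assoc, reassoc_of% hl₂, hx],
        by simp only [Category.assoc, μr₁, e₃.inv_hom_id_assoc, reassoc_of% hl₁, hz]⟩⟩⟩
  haveI : IsIso σ.left := by
    haveI : IsIso σ := ⟨σ, rext _ _ (by rw [Category.assoc, σr₁, σr₂, Category.id_comp])
      (by rw [Category.assoc, σr₂, σr₁, Category.id_comp]), rext _ _ (by rw [Category.assoc, σr₁, σr₂, Category.id_comp])
      (by rw [Category.assoc, σr₂, σr₁, Category.id_comp])⟩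
    exact inferInstanceAs (IsIso ((Over.forget _).map σ))
  have hlt : LocallyOfFiniteType r₂.left := by
    rw [show r₂.left = σ.left ≫ r₁.left by rw [← Over.comp_left, σr₁]]
    haveI := hrl
    infer_instance
  have sDl : IsPullback π₁.left π₂.left (spR R A).hom (spR R A).hom := by
    have e : t.left = (spR R A).hom := (Category.comp_id _).symm.trans (Over.w t)
    have := sD.map (Over.forget _)
    simp only [Over.forget_map, e] at this
    exact this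
  have hcl : IsClosedImmersion (pullback.lift r₂.left r₁.left ((Over.w r₂).trans (Over.w r₁).symm)) := by
    have e : pullback.lift r₂.left r₁.left ((Over.w r₂).trans (Over.w r₁).symm) = δ.left ≫ sDl.isoPullback.hom := by
      apply pullback.hom_ext <;> simp [← Over.comp_left, hδ₁, hδ₂]
    rw [e, MorphismProperty.cancel_right_of_respectsIso (P := @IsClosedImmersion)]
    exact hδ
  exact ⟨spR R A₂, R₁, RX, r₁, r₂, J₁, a₁, b₁, J', a', b', k₁, k', P₁, hr₂₁, P', hr₂', heqv, hrf, hrl, hlt, hcl⟩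

end Groth.Agent.AlgSpLib.GlueQA
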