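import Groth.Prelude.Def_EtGlue
import Groth.Agent.HenselLib.BLModule
import Mathlib.RingTheory.TensorProduct.Pi
import Mathlib.RingTheory.MvPolynomial
import Mathlib.RingTheory.TensorProduct.MvPolynomial
import Mathlib.RingTheory.FinitePresentation
import Mathlib.RingTheory.Localization.Away.Basic

/-!
# Ring theory for glueing quasi-affine schemes along a glueing pair

* `Jou b`: the affine algebra over `B` whose base change to any algebra in which the row `b` is unimodular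
  is a polynomial algebra;
* fibre products of two localizations;
* approximation of elements modulo `f`.
-/

set_option autoImplicit false
set_option linter.style.haveILetI false
set_option backward.isDefEq.respectTransparency false
set_option backward.isDefEq.respectTransparency.types false

universe u

open TensorProduct

noncomputable section

namespace Groth.Agent.AlgSpLib.GlueQA

/-! ### the Jouanolou algebra -/

section Jou

variable {B : Type u} [CommRing B] {m : ℕ} (b : Fin m → B)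

/-- the relation -/
def jouRel : MvPolynomial (Option (Fin m)) B := ∑ k, MvPolynomial.C (b k) * MvPolynomial.X (some k) - 1

/-- the algebra `B[c, z]/(∑ b c - 1)` -/
def Jou : Type u := MvPolynomial (Option (Fin m)) B ⧸ Ideal.span {jouRel b}

instance : CommRing (Jou b) := inferInstanceAs (CommRing (MvPolynomial (Option (Fin m)) B ⧸ Ideal.span {jouRel b}))

instance : Algebra B (Jou b) := inferInstanceAs (Algebra B (MvPolynomial (Option (Fin m)) B ⧸ Ideal.span {jouRel b}))

/-- the coordinates -/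
def jc (o : Option (Fin m)) : Jou b := Ideal.Quotient.mk _ (MvPolynomial.X o)

theorem jc_rel : ∑ k, algebraMap B (Jou b) (b k) * jc b (some k) = 1 := by
  have h : Ideal.Quotient.mk (Ideal.span {jouRel b}) (jouRel b) = 0 :=
    Ideal.Quotient.eq_zero_iff_mem.mpr (Ideal.mem_span_singleton_self _)
  rw [jouRel, map_sub, sub_eq_zero, map_sum, map_one] at h
  exact (Finset.sum_congr rfl fun k _ => by rw [map_mul]; rfl).trans h

instance : Algebra.FinitePresentation B (Jou b) :=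
  Algebra.FinitePresentation.quotient (A := MvPolynomial (Option (Fin m)) B) ⟨{jouRel b}, by simp⟩

theorem jou_hom_ext {Z : Type u} [CommRing Z] [Algebra B Z] {φ ψ : Jou b →ₐ[B] Z}
    (h : ∀ o, φ (jc b o) = ψ (jc b o)) : φ = ψ :=
  Ideal.Quotient.algHom_ext _ (MvPolynomial.algHom_ext h)

theorem exists_jouLift {Z : Type u} [CommRing Z] [Algebra B Z] (c : Option (Fin m) → Z)
    (hc : ∑ k, algebraMap B Z (b k) * c (some k) = 1) : ∃ φ : Jou b →ₐ[B] Z, ∀ o, φ (jc b o) = c o := by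
  refine ⟨Ideal.Quotient.liftₐ _ (MvPolynomial.aeval c) fun p hp => ?_, fun o => ?_⟩
  · obtain ⟨q, rfl⟩ := Ideal.mem_span_singleton.mp hp
    rw [map_mul, jouRel]
    simp [hc]
  · exact (Ideal.Quotient.liftₐ_apply _ _ _ _).trans ((Ideal.Quotient.lift_mk _ _ _).trans (MvPolynomial.aeval_X c o))

/-- the base change to an algebra where the row is unimodular is a polynomial algebra -/
theorem nonempty_jouEquiv (Q : Type u) [CommRing Q] [Algebra B Q] (c₀ : Fin m → Q)
    (h₀ : ∑ k, algebraMap B Q (b k) * c₀ k = 1) :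
    Nonempty (Q ⊗[B] Jou b ≃ₐ[Q] MvPolynomial (Fin m) Q) := by
  let bQ : Fin m → MvPolynomial (Fin m) Q := fun k => MvPolynomial.C (algebraMap B Q (b k))
  let c : Fin m → MvPolynomial (Fin m) Q := fun k => MvPolynomial.C (c₀ k)
  let sd : MvPolynomial (Fin m) Q := ∑ k, bQ k * MvPolynomial.X k
  have hbc : ∑ k, bQ k * c k = 1 := by
    simp only [bQ, c, ← map_mul, ← map_sum, h₀, map_one]
  obtain ⟨φ, hφ⟩ := exists_jouLift b
    (fun o => o.elim sd fun k => MvPolynomial.X k - c k * sd + c k) (by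
      have e : ∀ k, algebraMap B (MvPolynomial (Fin m) Q) (b k) = bQ k := fun k => rfl
      simp only [Option.elim, e, mul_add, mul_sub, Finset.sum_add_distrib, Finset.sum_sub_distrib,
        ← mul_assoc, ← Finset.sum_mul, hbc, one_mul]
      simp [sd])
  let F : Q ⊗[B] Jou b →ₐ[Q] MvPolynomial (Fin m) Q :=
    Algebra.TensorProduct.lift (Algebra.ofId Q _) φ fun _ _ => Commute.all _ _
  let j : Jou b →ₐ[B] Q ⊗[B] Jou b := Algebra.TensorProduct.includeRight
  let aQ : Q →ₐ[Q] Q ⊗[B] Jou b := Algebra.TensorProduct.includeLeft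
  let cG : Fin m → Q ⊗[B] Jou b := fun k =>
    j (jc b (some k)) - aQ (c₀ k) + aQ (c₀ k) * j (jc b none)
  let G : MvPolynomial (Fin m) Q →ₐ[Q] Q ⊗[B] Jou b := MvPolynomial.aeval (R := Q) cG
  have e : ∀ k, algebraMap Q (Q ⊗[B] Jou b) (algebraMap B Q (b k)) = j (algebraMap B (Jou b) (b k)) :=
    fun k => by rw [← IsScalarTower.algebraMap_apply, j.commutes]
  have haQ : ∀ q : Q, aQ q = algebraMap Q (Q ⊗[B] Jou b) q := fun q => aQ.commutes q
  have hGsd : G sd = j (jc b none) := by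
    simp only [sd, bQ, G, cG, haQ, map_sum, map_mul, MvPolynomial.aeval_C, MvPolynomial.aeval_X, mul_add,
      mul_sub, Finset.sum_add_distrib, Finset.sum_sub_distrib, ← mul_assoc, ← Finset.sum_mul]
    rw [show (∑ k, algebraMap Q (Q ⊗[B] Jou b) (algebraMap B Q (b k)) * j (jc b (some k))) = 1 from by
        simp only [e, ← map_mul, ← map_sum, jc_rel, map_one],
      show (∑ k, algebraMap Q (Q ⊗[B] Jou b) (algebraMap B Q (b k)) * algebraMap Q (Q ⊗[B] Jou b) (c₀ k)) = 1 from by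
        simp only [← map_mul, ← map_sum, h₀, map_one]]
    ring
  refine ⟨AlgEquiv.ofAlgHom F G ?_ ?_⟩
  · refine MvPolynomial.algHom_ext fun k => ?_
    simp [F, G, cG, haQ, j, hφ, c]
  · refine Algebra.TensorProduct.ext (AlgHom.ext fun q => by simp [F, G]) (jou_hom_ext b fun o => ?_)
    rcases o with _ | k
    · simpa [F, G, hφ, j] using hGsd
    · simp [F, hφ, c, hGsd]
      simp [G, cG, haQ, j]

end Jou

/-! ### fibre products of two localizations -/

section FibreProd

variable {K : Type u} [CommRing K] {C P D : Type u} [CommRing C] [CommRing P] [CommRing D]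
  [Algebra K C] [Algebra K P] [Algebra K D] (g₁ : C →ₐ[K] D) (g₂ : P →ₐ[K] D)

/-- the fibre product -/
abbrev fpSub : Subalgebra K (C × P) := AlgHom.equalizer (g₁.comp (AlgHom.fst K C P)) (g₂.comp (AlgHom.snd K C P))

/-- the fibre product as a ring -/
def fp : Type u := ↥(fpSub g₁ g₂)

instance : CommRing (fp g₁ g₂) := inferInstanceAs (CommRing ↥(fpSub g₁ g₂))

instance : Algebra K (fp g₁ g₂) := inferInstanceAs (Algebra K ↥(fpSub g₁ g₂))

instance (priority := 100) fpAlgebra {K₀ : Type u} [CommRing K₀] [Algebra K₀ K] [Algebra K₀ C] [Algebra K₀ P]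
    [IsScalarTower K₀ K C] [IsScalarTower K₀ K P] : Algebra K₀ (fp g₁ g₂) :=
  inferInstanceAs (Algebra K₀ ↥(fpSub g₁ g₂))

instance (priority := 100) fpTower {K₀ : Type u} [CommRing K₀] [Algebra K₀ K] [Algebra K₀ C] [Algebra K₀ P]
    [IsScalarTower K₀ K C] [IsScalarTower K₀ K P] : IsScalarTower K₀ K (fp g₁ g₂) :=
  inferInstanceAs (IsScalarTower K₀ K ↥(fpSub g₁ g₂))

/-- first projection -/
def fpFst : fp g₁ g₂ →ₐ[K] C := (AlgHom.fst K C P).comp (fpSub g₁ g₂).val

/-- second projection -/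
def fpSnd : fp g₁ g₂ →ₐ[K] P := (AlgHom.snd K C P).comp (fpSub g₁ g₂).val

theorem fp_w (e : fp g₁ g₂) : g₁ (fpFst g₁ g₂ e) = g₂ (fpSnd g₁ g₂ e) := e.2

theorem exists_fpLift {X : Type u} [CommRing X] [Algebra K X] (c : X →ₐ[K] C) (p : X →ₐ[K] P)
    (h : ∀ x, g₁ (c x) = g₂ (p x)) :
    ∃ ψ : X →ₐ[K] fp g₁ g₂, (fpFst g₁ g₂).comp ψ = c ∧ (fpSnd g₁ g₂).comp ψ = p :=
  ⟨AlgHom.codRestrict (c.prod p) (fpSub g₁ g₂) h, AlgHom.ext fun _ => rfl, AlgHom.ext fun _ => rfl⟩

theorem fp_ext {e e' : fp g₁ g₂} (h₁ : fpFst g₁ g₂ e = fpFst g₁ g₂ e')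
    (h₂ : fpSnd g₁ g₂ e = fpSnd g₁ g₂ e') : e = e' := Subtype.ext (Prod.ext h₁ h₂)

theorem exists_fp (c : C) (p : P) (h : g₁ c = g₂ p) :
    ∃ e : fp g₁ g₂, fpFst g₁ g₂ e = c ∧ fpSnd g₁ g₂ e = p := ⟨⟨(c, p), h⟩, rfl, rfl⟩

/-- if `g₂` is a localization at the second component of `φ`, the first projection is one at `φ` -/
theorem isLocalization_fpFst (φ : fp g₁ g₂) (hu : IsUnit (fpFst g₁ g₂ φ))
    (hs : ∀ d : D, ∃ (n : ℕ) (p : P), g₂ p = d * g₂ (fpSnd g₁ g₂ φ) ^ n)
    (hk : ∀ p : P, g₂ p = 0 → ∃ n : ℕ, fpSnd g₁ g₂ φ ^ n * p = 0) :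
    letI := (fpFst g₁ g₂).toRingHom.toAlgebra
    IsLocalization.Away φ C := by
  letI := (fpFst g₁ g₂).toRingHom.toAlgebra
  refine IsLocalization.Away.mk _ hu (fun c => ?_) fun a a' h => ?_
  · obtain ⟨n, p, hp⟩ := hs (g₁ c)
    obtain ⟨e, he₁, -⟩ := exists_fp g₁ g₂ (c * fpFst g₁ g₂ φ ^ n) p (by
      rw [map_mul, map_pow, fp_w, hp])
    exact ⟨n, e, he₁.symm⟩
  · have h' : fpFst g₁ g₂ a = fpFst g₁ g₂ a' := h
    obtain ⟨n, hn⟩ := hk (fpSnd g₁ g₂ a - fpSnd g₁ g₂ a') (by
      rw [map_sub, ← fp_w, ← fp_w, h', sub_self])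
    refine ⟨n, fp_ext g₁ g₂ (by simp only [map_mul, map_pow, h']) ?_⟩
    rw [mul_sub, sub_eq_zero] at hn
    simpa only [map_mul, map_pow] using hn

/-- if `g₁` is a localization at the first component of `φ`, the second projection is one at `φ` -/
theorem isLocalization_fpSnd (φ : fp g₁ g₂) (hu : IsUnit (fpSnd g₁ g₂ φ))
    (hs : ∀ d : D, ∃ (n : ℕ) (c : C), g₁ c = d * g₁ (fpFst g₁ g₂ φ) ^ n)
    (hk : ∀ c : C, g₁ c = 0 → ∃ n : ℕ, fpFst g₁ g₂ φ ^ n * c = 0) :
    letI := (fpSnd g₁ g₂).toRingHom.toAlgebra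
    IsLocalization.Away φ P := by
  letI := (fpSnd g₁ g₂).toRingHom.toAlgebra
  refine IsLocalization.Away.mk _ hu (fun p => ?_) fun a a' h => ?_
  · obtain ⟨n, c, hc⟩ := hs (g₂ p)
    obtain ⟨e, -, he₂⟩ := exists_fp g₁ g₂ c (p * fpSnd g₁ g₂ φ ^ n) (by
      rw [map_mul, map_pow, hc, fp_w])
    exact ⟨n, e, he₂.symm⟩
  · have h' : fpSnd g₁ g₂ a = fpSnd g₁ g₂ a' := h
    obtain ⟨n, hn⟩ := hk (fpFst g₁ g₂ a - fpFst g₁ g₂ a') (by
      rw [map_sub, fp_w, fp_w, h', sub_self])
    refine ⟨n, fp_ext g₁ g₂ ?_ (by simp only [map_mul, map_pow, h'])⟩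
    rw [mul_sub, sub_eq_zero] at hn
    simpa only [map_mul, map_pow] using hn

end FibreProd

/-! ### approximation -/

/-- modulo `f`, an element of `E` with values in `R' ⊗ B₁` can be moved into `B₁` -/
theorem exists_approx {R R' : Type u} [CommRing R] [CommRing R'] [Algebra R R'] {f : R}
    (hq : EtGlue.QuotPowBijective R R' f) {B₁ E : Type u} [CommRing B₁] [Algebra R B₁] [CommRing E]
    [Algebra R E] [Algebra R' E] [IsScalarTower R R' E] (g : E →ₐ[R'] R' ⊗[R] B₁)
    (hs : ∀ z : R' ⊗[R] B₁, ∃ (n : ℕ) (x : E), g x = f ^ n • z) (a : E) :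
    ∃ (x : E) (y : B₁), g (a - f • x) = 1 ⊗ₜ y := by
  suffices h : ∀ z : R' ⊗[R] B₁, ∃ (x : E) (y : B₁), z = 1 ⊗ₜ y + f • g x by
    obtain ⟨x, y, hz⟩ := h (g a)
    exact ⟨x, y, by rw [map_sub, g.toLinearMap.map_smul_of_tower f x |> (show g (f • x) = f • g x from ·), hz, add_sub_cancel_right]⟩
  intro z
  induction z with
  | zero => exact ⟨0, 0, by simp⟩
  | tmul s b =>
    obtain ⟨n, x₀, hx₀⟩ := hs ((1 : R') ⊗ₜ[R] b)
    obtain ⟨r, s', hr⟩ := HenselLib.BL.exists_eq_add_pow hq (n + 1) s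
    refine ⟨s' • x₀, r • b, ?_⟩
    rw [HenselLib.BL.tmul_eq_add hr b, map_smul, hx₀, smul_comm s' (f ^ n)]
    congr 1
    rw [smul_tmul' s' (1 : R') b, smul_eq_mul, mul_one, smul_smul, ← pow_succ', smul_tmul']
  | add p q hp hq' =>
    obtain ⟨x, y, rfl⟩ := hp
    obtain ⟨x', y', rfl⟩ := hq'
    exact ⟨x + x', y + y', by rw [tmul_add, map_add, smul_add]; abel⟩

/-! ### finite products -/

/-- localization commutes with finite products -/
theorem isLocalization_pi {ι : Type} [Finite ι] {E D : ι → Type u} [∀ i, CommRing (E i)] [∀ i, CommRing (D i)]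
    [∀ i, Algebra (E i) (D i)] (g : ∀ i, E i) [h : ∀ i, IsLocalization.Away (g i) (D i)] :
    letI := (RingHom.pi fun i => (algebraMap (E i) (D i)).comp (Pi.evalRingHom E i)).toAlgebra
    IsLocalization.Away (g : ∀ i, E i) (∀ i, D i) := by
  letI := (RingHom.pi fun i => (algebraMap (E i) (D i)).comp (Pi.evalRingHom E i)).toAlgebra
  haveI := Fintype.ofFinite ι
  refine IsLocalization.Away.mk _ (isUnit_iff_exists_inv.mpr ⟨fun i => ((IsLocalization.Away.algebraMap_isUnit (g i)).unit⁻¹ : (D i)ˣ), funext fun i => IsUnit.mul_val_inv _⟩)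
    (fun z => ?_) fun a b hab => ?_
  · choose n a ha using fun i => IsLocalization.Away.surj (g i) (z i)
    refine ⟨Finset.univ.sup n, fun i => a i * g i ^ (Finset.univ.sup n - n i), funext fun i => ?_⟩
    have hle : n i ≤ Finset.univ.sup n := Finset.le_sup (Finset.mem_univ i)
    show z i * algebraMap (E i) (D i) (g i) ^ Finset.univ.sup n = algebraMap (E i) (D i) (a i * g i ^ _)
    rw [map_mul, ← ha i, map_pow, mul_assoc, ← pow_add, Nat.add_sub_cancel' hle]
  · choose n hn using fun i => IsLocalization.Away.exists_of_eq (g i) (congrFun hab i)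
    refine ⟨Finset.univ.sup n, funext fun i => ?_⟩
    have hle : n i ≤ Finset.univ.sup n := Finset.le_sup (Finset.mem_univ i)
    show g i ^ _ * a i = g i ^ _ * b i
    rw [← Nat.sub_add_cancel hle, pow_add, mul_assoc, mul_assoc]
    exact congrArg (_ * ·) (hn i)

end Groth.Agent.AlgSpLib.GlueQA
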