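import Groth.Agent.AlgSpLib.GlueingPairHom
import Groth.Agent.AlgSpLib.YonCoprod
import Groth.Agent.S10706

/-!
Existence of morphisms from the spectrum of the ring of a glueing pair into a space with affine diagonal.
-/

universe u

open CategoryTheory CategoryTheory.Limits AlgebraicGeometry Opposite
open AlgSp
open scoped TensorProduct

noncomputable section

set_option linter.style.haveILetI false

namespace Groth.Agent.AlgSpLib.GlueingPairHom

/-- etaleness of the base change of a structure map -/
theorem tensor_map_ofId_etale {A A' B : Type u} [CommRing A] [CommRing A'] [Algebra A A'] [CommRing B] [Algebra A B]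
    (he : (Algebra.TensorProduct.includeLeft : A' →ₐ[A] A' ⊗[A] B).toRingHom.Etale) :
    (Algebra.TensorProduct.map (AlgHom.id A A') (Algebra.ofId A B)).toRingHom.Etale := by
  have e5 : (Algebra.TensorProduct.map (AlgHom.id A A') (Algebra.ofId A B)).toRingHom =
      (Algebra.TensorProduct.includeLeft : A' →ₐ[A] A' ⊗[A] B).toRingHom.comp
        (Algebra.TensorProduct.rid A A A').toRingEquiv.toRingHom := by
    refine RingHom.ext fun z => ?_
    induction z with
    | zero => simp
    | add x y hx hy => simp only [map_add, hx, hy]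
    | tmul r x =>
      show r ⊗ₜ[A] (algebraMap A B x) = (x • r) ⊗ₜ[A] (1 : B)
      rw [TensorProduct.smul_tmul, Algebra.algebraMap_eq_smul_one]
  rw [e5]
  exact RingHom.Etale.respectsIso.2 _ _ he

attribute [local instance] Algebra.TensorProduct.rightAlgebra

open Groth.Agent.AlgSpLib

set_option backward.isDefEq.respectTransparency.types false
set_option backward.isDefEq.respectTransparency false

variable {S : Scheme.{u}} {A : Type u} [CommRing A] (str : Spec (CommRingCat.of A) ⟶ S)

/-- spectra of algebras over the base -/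
abbrev sp (B : Type u) [CommRing B] [Algebra A B] : Over S :=
  Over.mk (Spec.map (CommRingCat.ofHom (algebraMap A B)) ≫ str)

/-- maps of algebras give maps of spectra -/
def spMap {B C : Type u} [CommRing B] [Algebra A B] [CommRing C] [Algebra A C] (φ : B →ₐ[A] C) :
    sp str C ⟶ sp str B :=
  Over.homMk (Spec.map (CommRingCat.ofHom φ.toRingHom)) (by
    show _ ≫ Spec.map _ ≫ str = Spec.map _ ≫ str
    rw [← Category.assoc, ← Spec.map_comp, ← CommRingCat.ofHom_comp, φ.toRingHom_eq_coe, φ.comp_algebraMap])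

/-- the structure map -/
def inj (B : Type u) [CommRing B] [Algebra A B] : sp str B ⟶ Over.mk str :=
  Over.homMk (Spec.map (CommRingCat.ofHom (algebraMap A B))) rfl

section maps

variable {B C D : Type u} [CommRing B] [Algebra A B] [CommRing C] [Algebra A C] [CommRing D] [Algebra A D]

theorem spMap_comp (φ : B →ₐ[A] C) (ψ : C →ₐ[A] D) : spMap str ψ ≫ spMap str φ = spMap str (ψ.comp φ) :=
  Over.OverMorphism.ext (Spec.map_comp (CommRingCat.ofHom φ.toRingHom) (CommRingCat.ofHom ψ.toRingHom)).symm

theorem spMap_id : spMap str (AlgHom.id A B) = 𝟙 _ := Over.OverMorphism.ext (Spec.map_id _)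

theorem spMap_inj (φ : B →ₐ[A] C) : spMap str φ ≫ inj str B = inj str C :=
  Over.OverMorphism.ext ((Spec.map_comp _ _).symm.trans (congrArg Spec.map
    (CommRingCat.hom_ext φ.comp_algebraMap)))

theorem spMap_injective {φ ψ : B →ₐ[A] C} (h : spMap str φ = spMap str ψ) : φ = ψ :=
  AlgHom.ext fun b => RingHom.congr_fun
    (congrArg CommRingCat.Hom.hom (Spec.map_injective (congrArg (fun m => m.left) h))) b

theorem exists_spMap (k : sp str C ⟶ sp str B) (w : k ≫ inj str B = inj str C) :
    ∃ φ : B →ₐ[A] C, spMap str φ = k := by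
  let r := Spec.preimage k.left
  have hr : r.hom.comp (algebraMap A B) = algebraMap A C := by
    have h : CommRingCat.ofHom (algebraMap A B) ≫ r = CommRingCat.ofHom (algebraMap A C) := Spec.map_injective (by
      rw [Spec.map_comp, Spec.map_preimage]
      exact congrArg (fun m => m.left) w)
    exact congrArg CommRingCat.Hom.hom h
  exact ⟨{ r.hom with commutes' := RingHom.congr_fun hr }, Over.OverMorphism.ext (Spec.map_preimage _)⟩

theorem isPullback_sp_tensor (B C : Type u) [CommRing B] [Algebra A B] [CommRing C] [Algebra A C] :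
    IsPullback ((yon S).map (spMap str (Algebra.TensorProduct.includeRight : C →ₐ[A] B ⊗[A] C)))
      ((yon S).map (spMap str (Algebra.TensorProduct.includeLeft : B →ₐ[A] B ⊗[A] C)))
      ((yon S).map (inj str C)) ((yon S).map (inj str B)) := by
  have h := isPullback_SpecMap_of_isPushout _ _ _ _ (CommRingCat.isPushout_tensorProduct A B C)
  have w : spMap str (Algebra.TensorProduct.includeRight : C →ₐ[A] B ⊗[A] C) ≫ inj str C =
      spMap str (Algebra.TensorProduct.includeLeft : B →ₐ[A] B ⊗[A] C) ≫ inj str B :=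
    (spMap_inj str _).trans (spMap_inj str _).symm
  have h' : IsPullback ((Over.forget S).map (spMap str (Algebra.TensorProduct.includeRight : C →ₐ[A] B ⊗[A] C)))
      ((Over.forget S).map (spMap str (Algebra.TensorProduct.includeLeft : B →ₐ[A] B ⊗[A] C)))
      ((Over.forget S).map (inj str C)) ((Over.forget S).map (inj str B)) := h.flip
  exact (IsPullback.of_map (Over.forget S) w h').map (yon S)

end maps

section loc

variable {A' : Type u} [CommRing A'] [Algebra A A'] (g : A)

/-- the map to a localization -/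
def locA (B : Type u) [CommRing B] [Algebra A B] : B →ₐ[A] Localization.Away (algebraMap A B g) :=
  IsScalarTower.toAlgHom A B _

/-- the map of localizations -/
def locG (B : Type u) [CommRing B] [Algebra A B] :
    Localization.Away g →ₐ[A] Localization.Away (algebraMap A B g) :=
  { Localization.awayMap (algebraMap A B) g with
    commutes' := fun r => (IsLocalization.map_eq _ r).trans
      (IsScalarTower.algebraMap_apply A B (Localization.Away (algebraMap A B g)) r).symm }

theorem isPullback_sp_loc (B : Type u) [CommRing B] [Algebra A B] :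
    IsPullback ((yon S).map (spMap str (locA g B))) ((yon S).map (spMap str (locG g B)))
      ((yon S).map (inj str B)) ((yon S).map (inj str (Localization.Away g))) := by
  haveI : IsLocalization ((Submonoid.powers g).map (algebraMap A B)) (Localization.Away (algebraMap A B g)) := by
    rw [Submonoid.map_powers]
    infer_instance
  have h := isPullback_SpecMap_of_isPushout _ _ _ _
    (CommRingCat.isPushout_of_isLocalization (Rₘ := Localization.Away g) (Sₘ := Localization.Away (algebraMap A B g))
      (algebraMap A B) (Localization.awayMap (algebraMap A B) g)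
      (RingHom.ext fun r => by simp [Localization.awayMap, IsLocalization.Away.map, IsLocalization.map_eq]) (Submonoid.powers g))
  have w : spMap str (locA g B) ≫ inj str B = spMap str (locG g B) ≫ inj str (Localization.Away g) :=
    (spMap_inj str _).trans (spMap_inj str _).symm
  have h' : IsPullback ((Over.forget S).map (spMap str (locA g B))) ((Over.forget S).map (spMap str (locG g B)))
      ((Over.forget S).map (inj str B)) ((Over.forget S).map (inj str (Localization.Away g))) := h
  exact (IsPullback.of_map (Over.forget S) w h').map (yon S)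

end loc

/-- affine schemes over a spectrum are spectra of algebras -/
theorem exists_sp_iso {C : Type u} [CommRing C] [Algebra A C] {P : Over S} [IsAffine P.left] (p : P ⟶ sp str C) :
    ∃ (B : Type u) (_ : CommRing B) (_ : Algebra A B) (ψ : C →ₐ[A] B) (η : sp str B ≅ P),
      η.hom ≫ p = spMap str ψ := by
  let r : CommRingCat.of A ⟶ Γ(P.left, ⊤) :=
    Spec.preimage (P.left.isoSpec.inv ≫ p.left ≫ Spec.map (CommRingCat.ofHom (algebraMap A C)))
  letI : Algebra A Γ(P.left, ⊤) := r.hom.toAlgebra
  have hr : Spec.map (CommRingCat.ofHom (algebraMap A Γ(P.left, ⊤))) =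
      P.left.isoSpec.inv ≫ p.left ≫ Spec.map (CommRingCat.ofHom (algebraMap A C)) := Spec.map_preimage _
  have hw : P.left.isoSpec.inv ≫ P.hom = (sp str Γ(P.left, ⊤)).hom := by
    show _ = Spec.map (CommRingCat.ofHom (algebraMap A Γ(P.left, ⊤))) ≫ str
    rw [hr, Category.assoc, Category.assoc, ← Over.w p]
    rfl
  let η : sp str Γ(P.left, ⊤) ≅ P := Over.isoMk P.left.isoSpec.symm hw
  have w : (η.hom ≫ p) ≫ inj str C = inj str _ := Over.OverMorphism.ext (by
    show (P.left.isoSpec.inv ≫ p.left) ≫ Spec.map (CommRingCat.ofHom (algebraMap A C)) = _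
    rw [Category.assoc, ← hr]
    rfl)
  obtain ⟨ψ, hψ⟩ := exists_spMap str (η.hom ≫ p) w
  exact ⟨Γ(P.left, ⊤), inferInstance, inferInstance, ψ, η, hψ.symm⟩

/-- an affine chart of a space covering given affine schemes -/
theorem exists_chart_covering {Z : Sp S} (hZ : IsAlgSpace Z) {U V : Over S} [IsAffine U.left] [IsAffine V.left]
    (a : (yon S).obj U ⟶ Z) (b : (yon S).obj V ⟶ Z) :
    ∃ (W : Over S) (w : (yon S).obj W ⟶ Z), IsAffine W.left ∧ RepWith @Etale w ∧
      (∀ t, Points.ofPt a t ∈ Set.range (Points.ofPt w)) ∧ ∀ t, Points.ofPt b t ∈ Set.range (Points.ofPt w) := by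
  classical
  obtain ⟨X, p, hpe, hps⟩ := hZ.atlas
  have hq := isOpenQuotientMap_ofPt p hpe hps
  have hK : IsCompact (Set.range (Points.ofPt a) ∪ Set.range (Points.ofPt b)) :=
    (isCompact_range (Points.continuous_ofPt a)).union (isCompact_range (Points.continuous_ofPt b))
  obtain ⟨t, ht⟩ := hK.elim_finite_subcover (fun O : X.left.affineOpens => Points.ofPt p '' (O.1 : Set X.left))
    (fun O => hq.isOpenMap _ O.1.isOpen) (fun z _ => by
      obtain ⟨x, rfl⟩ := hq.surjective z
      obtain ⟨O, hO, hxO, -⟩ := exists_isAffineOpen_mem_and_subset (x := x) (U := ⊤) trivial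
      exact Set.mem_iUnion.2 ⟨⟨O, hO⟩, x, hxO, rfl⟩)
  let ι := {O : X.left.affineOpens // O ∈ t}
  let V' : ι → Over S := fun O => restrictOver X O.1.1
  let c : ∀ O : ι, (yon S).obj (V' O) ⟶ Z := fun O => (yon S).map (restrictOverι X O.1.1) ≫ p
  obtain ⟨w, hw, -⟩ := existsUnique_desc_sigma V' c
  haveI : ∀ O : ι, IsAffine (V' O).left := fun O => O.1.2
  have hι : ∀ i, RepWith @IsOpenImmersion ((yon S).map (sigmaOverι V' i)) := fun i =>
    (repWith_yon_map_iff _ _).2 (inferInstanceAs (IsOpenImmersion (Sigma.ι (fun i => (V' i).left) i)))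
  have hwe : RepWith @Etale w := repWith_of_open_cover @Etale _ hι (fun x => by
    obtain ⟨z, rfl⟩ := (Points.schemeHomeo (sigmaOver V')).surjective x
    obtain ⟨i, y, hy⟩ := exists_mem_range_sigmaOverι V' z
    refine ⟨i, Points.schemeHomeo _ y, ?_⟩
    show Points.map _ (Points.ofScheme _ y) = Points.ofScheme _ z
    rw [map_yon_map_ofScheme, hy]) w fun i => by
      rw [hw]
      exact RepWith.comp ((repWith_yon_map_iff _ _).2 (inferInstanceAs (Etale i.1.1.ι))) hpe
  have key : ∀ z ∈ Set.range (Points.ofPt a) ∪ Set.range (Points.ofPt b), z ∈ Set.range (Points.ofPt w) := by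
    intro z hz
    obtain ⟨O, hO, x, hx, rfl⟩ := Set.mem_iUnion₂.1 (ht hz)
    refine ⟨(sigmaOverι V' ⟨O, hO⟩).left ⟨x, hx⟩, ?_⟩
    rw [← ofPt_map (sigmaOverι V' ⟨O, hO⟩) w, hw]
    exact ofPt_map (restrictOverι X O.1) p _
  exact ⟨sigmaOver V', w, inferInstanceAs (IsAffine (∐ fun i => (V' i).left)), hwe,
    fun t => key _ (.inl ⟨t, rfl⟩), fun t => key _ (.inr ⟨t, rfl⟩)⟩

section glue

variable {A' : Type u} [CommRing A'] [Algebra A A'] {g : A}

theorem isGlueable_self (h : EtGlue.IsGlueingPair A A' g) : EtGlue.IsGlueable A A' g A := by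
  refine (S10706.isGlueable_iff_torsInj h A).2 fun a ⟨n, hn⟩ h0 => h.2.1 (Prod.ext ?_ ?_)
  · have h1 := congrArg (TensorProduct.rid A A') h0
    rw [TensorProduct.rid_tmul, map_zero, ← Algebra.algebraMap_eq_smul_one] at h1
    simpa using h1
  · show algebraMap A (Localization.Away g) a = algebraMap A (Localization.Away g) 0
    refine (IsLocalization.Away.algebraMap_isUnit g).pow n |>.mul_left_cancel ?_
    rw [← map_pow, ← map_mul, ← map_mul, mul_zero, show g ^ n * a = 0 from hn]

theorem pair_of_flat (h : EtGlue.IsGlueingPair A A' g) (D : Type u) [CommRing D] [Algebra A D] [Module.Flat A D] :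
    EtGlue.IsGlueingPair D (A' ⊗[A] D) (algebraMap A D g) :=
  HenselLib.BL.isGlueingPair_baseChange h D ((S10706.isGlueable_iff_torsInj h D).2
    (S10706.torsInj_of_flat A D ((S10706.isGlueable_iff_torsInj h A).1 (isGlueable_self h))))

theorem exists_prime_over_quot (h : EtGlue.IsGlueingPair A A' g) (p : PrimeSpectrum A) (hp : g ∈ p.asIdeal) :
    ∃ q : PrimeSpectrum A', PrimeSpectrum.comap (algebraMap A A') q = p := by
  let F := Ideal.quotientMap (Ideal.map (algebraMap A A') (Ideal.span {g ^ 1})) (algebraMap A A') Ideal.le_comap_map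
  let F' := RingEquiv.ofBijective F (h.1 1 Nat.one_pos)
  have hle : Ideal.span {g ^ 1} ≤ p.asIdeal := by
    rw [pow_one, Ideal.span_le, Set.singleton_subset_iff]
    exact hp
  let χ : A' →+* A ⧸ p.asIdeal :=
    ((Ideal.Quotient.factor hle).comp F'.symm.toRingHom).comp (Ideal.Quotient.mk _)
  refine ⟨⟨RingHom.ker χ, RingHom.ker_isPrime χ⟩, PrimeSpectrum.ext ?_⟩
  ext a
  have e : χ (algebraMap A A' a) = Ideal.Quotient.mk p.asIdeal a := by
    have e' : F' (Ideal.Quotient.mk _ a) = Ideal.Quotient.mk _ (algebraMap A A' a) := rfl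
    show Ideal.Quotient.factor hle (F'.symm (Ideal.Quotient.mk _ (algebraMap A A' a))) = _
    rw [← e', RingEquiv.symm_apply_apply, Ideal.Quotient.factor_mk]
  show χ (algebraMap A A' a) = 0 ↔ _
  rw [e, Ideal.Quotient.eq_zero_iff_mem]

variable [IsAffine S]

omit [IsAffine S] in
/-- the two descriptions of the overlap -/
theorem exists_overlap {Z : Sp S} {a : (yon S).obj (sp str (Localization.Away g)) ⟶ Z}
    {b : (yon S).obj (sp str A') ⟶ Z}
    (hab : (yon S).map (spMap str (locA g A')) ≫ b = (yon S).map (spMap str (locG g A')) ≫ a) {W : Over S}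
    {w : (yon S).obj W ⟶ Z} {B₁ B' : Type u} [CommRing B₁] [Algebra A B₁] [CommRing B'] [Algebra A B']
    {ψ₁ : Localization.Away g →ₐ[A] B₁} {ψ₂ : A' →ₐ[A] B'} {f₁ : sp str B₁ ⟶ W} {f₂ : sp str B' ⟶ W}
    (sq₁ : IsPullback ((yon S).map f₁) ((yon S).map (spMap str ψ₁)) w a)
    (sq₂ : IsPullback ((yon S).map f₂) ((yon S).map (spMap str ψ₂)) w b) :
    ∃ θ : Localization.Away (algebraMap A B' g) ≃ₐ[A] A' ⊗[A] B₁,
      (θ.toAlgHom.comp (locA g B')).comp ψ₂ = Algebra.TensorProduct.includeLeft ∧
      spMap str θ.toAlgHom ≫ spMap str (locA g B') ≫ f₂ =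
        spMap str (Algebra.TensorProduct.includeRight : B₁ →ₐ[A] A' ⊗[A] B₁) ≫ f₁ := by
  have sqT := isPullback_sp_loc str g A'
  have sqQ₂ := isPullback_sp_loc str g B'
  have sqQ₁ := isPullback_sp_tensor str A' B₁
  let ir : B₁ →ₐ[A] A' ⊗[A] B₁ := Algebra.TensorProduct.includeRight
  let il : A' →ₐ[A] A' ⊗[A] B₁ := Algebra.TensorProduct.includeLeft
  obtain ⟨k, hk1, hk2⟩ := sqT.exists_lift ((yon S).map (spMap str il)) ((yon S).map (spMap str ir ≫ spMap str ψ₁))
    (by rw [← Functor.map_comp, ← Functor.map_comp, spMap_inj, Category.assoc, spMap_inj, spMap_inj])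
  rw [Functor.map_comp] at hk2
  obtain ⟨m, hm1, hm2⟩ := sq₂.exists_lift ((yon S).map (spMap str ir ≫ f₁)) ((yon S).map (spMap str il)) (by
    rw [Functor.map_comp, Category.assoc, sq₁.w, ← hk1, Category.assoc, hab, reassoc_of% hk2])
  obtain ⟨θ, hθ1, hθ2⟩ := sqQ₂.exists_lift m ((yon S).map (spMap str ir ≫ spMap str ψ₁)) (by
    rw [show (yon S).map (inj str B') = (yon S).map (spMap str ψ₂) ≫ (yon S).map (inj str A') by
        rw [← Functor.map_comp, spMap_inj], reassoc_of% hm2, ← Functor.map_comp, ← Functor.map_comp, spMap_inj,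
      Category.assoc, spMap_inj, spMap_inj])
  obtain ⟨k', hk1', hk2'⟩ := sqT.exists_lift ((yon S).map (spMap str (locA g B') ≫ spMap str ψ₂))
    ((yon S).map (spMap str (locG g B')))
    (by rw [← Functor.map_comp, ← Functor.map_comp, spMap_inj, Category.assoc, spMap_inj, spMap_inj])
  obtain ⟨m', hm1', hm2'⟩ := sq₁.exists_lift ((yon S).map (spMap str (locA g B') ≫ f₂))
    ((yon S).map (spMap str (locG g B'))) (by
      rw [Functor.map_comp, Category.assoc, sq₂.w, ← Category.assoc, ← Functor.map_comp, ← hk1', Category.assoc,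
        hab, ← Category.assoc, hk2'])
  obtain ⟨θ', hθ1', hθ2'⟩ := sqQ₁.exists_lift m' ((yon S).map (spMap str (locA g B') ≫ spMap str ψ₂)) (by
    rw [show (yon S).map (inj str B₁) = (yon S).map (spMap str ψ₁) ≫ (yon S).map (inj str (Localization.Away g)) by
        rw [← Functor.map_comp, spMap_inj], reassoc_of% hm2', ← Functor.map_comp, ← Functor.map_comp, spMap_inj,
      Category.assoc, spMap_inj, spMap_inj])
  rw [Functor.map_comp] at hm1 hm1' hθ2 hθ2'
  have hid₁ : θ ≫ θ' = 𝟙 _ := by
    refine sqQ₁.hom_ext (sq₁.hom_ext ?_ ?_) ?_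
    · simp only [Category.assoc, Category.id_comp]
      rw [reassoc_of% hθ1', hm1', reassoc_of% hθ1, hm1]
    · simp only [Category.assoc, Category.id_comp]
      rw [reassoc_of% hθ1', hm2', hθ2]
    · simp only [Category.assoc, Category.id_comp]
      rw [hθ2', reassoc_of% hθ1, hm2]
  have hid₂ : θ' ≫ θ = 𝟙 _ := by
    refine sqQ₂.hom_ext (sq₂.hom_ext ?_ ?_) ?_
    · simp only [Category.assoc, Category.id_comp]
      rw [reassoc_of% hθ1, hm1, reassoc_of% hθ1', hm1']
    · simp only [Category.assoc, Category.id_comp]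
      rw [reassoc_of% hθ1, hm2, hθ2']
    · simp only [Category.assoc, Category.id_comp]
      rw [hθ2, reassoc_of% hθ1', hm2']
  obtain ⟨θ₀, rfl⟩ := (yon S).map_surjective θ
  obtain ⟨θ₀', rfl⟩ := (yon S).map_surjective θ'
  obtain ⟨θA, rfl⟩ := exists_spMap str θ₀ ((yon S).map_injective (by
    rw [Functor.map_comp, show inj str (Localization.Away (algebraMap A B' g)) =
      spMap str (locG g B') ≫ inj str (Localization.Away g) from (spMap_inj str _).symm, Functor.map_comp,
      reassoc_of% hθ2, ← Functor.map_comp, ← Functor.map_comp, spMap_inj, spMap_inj]))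
  obtain ⟨θB, rfl⟩ := exists_spMap str θ₀' ((yon S).map_injective (by
    rw [Functor.map_comp, show inj str (A' ⊗[A] B₁) = spMap str il ≫ inj str A' from (spMap_inj str _).symm,
      Functor.map_comp, reassoc_of% hθ2', ← Functor.map_comp, ← Functor.map_comp, spMap_inj, spMap_inj]))
  have hAB : θA.comp θB = AlgHom.id A _ := spMap_injective str ((yon S).map_injective (by
    rw [← spMap_comp, spMap_id, Functor.map_comp, hid₁, (yon S).map_id]))
  have hBA : θB.comp θA = AlgHom.id A _ := spMap_injective str ((yon S).map_injective (by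
    rw [← spMap_comp, spMap_id, Functor.map_comp, hid₂, (yon S).map_id]))
  refine ⟨AlgEquiv.ofAlgHom θA θB hAB hBA, spMap_injective str ((yon S).map_injective ?_), (yon S).map_injective ?_⟩
  · rw [← spMap_comp, ← spMap_comp, Functor.map_comp, Functor.map_comp]
    show ((yon S).map (spMap str θA) ≫ _) ≫ _ = _
    rw [Category.assoc, reassoc_of% hθ1, hm2]
  · rw [Functor.map_comp, Functor.map_comp]
    refine ((Category.assoc _ _ _).symm.trans ((congrArg (· ≫ (yon S).map f₂) hθ1).trans hm1)).trans ?_
    exact (Functor.map_comp _ _ _).symm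

omit [IsAffine S] in
/-- the maps from the glued algebra to the chart agree on the overlap -/
theorem glued_agree {B₁ B' B : Type u} [CommRing B₁] [Algebra A B₁] [CommRing B'] [Algebra A B'] [CommRing B]
    [Algebra A B] [Algebra A' B'] [IsScalarTower A A' B'] {W : Over S} {f₁ : sp str B₁ ⟶ W} {f₂ : sp str B' ⟶ W}
    (θ : Localization.Away (algebraMap A B' g) ≃ₐ[A] A' ⊗[A] B₁)
    (hlin : ∀ r : A', θ (algebraMap B' _ (algebraMap A' B' r)) = r ⊗ₜ[A] (1 : B₁))
    (hW : spMap str θ.toAlgHom ≫ spMap str (locA g B') ≫ f₂ =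
      spMap str (Algebra.TensorProduct.includeRight : B₁ →ₐ[A] A' ⊗[A] B₁) ≫ f₁)
    (e₁ : Localization.Away (algebraMap A B g) ≃ₐ[A] B₁) (e' : A' ⊗[A] B ≃ₐ[A'] B')
    (he : ∀ x : B, θ (algebraMap B' _ (e' ((1 : A') ⊗ₜ[A] x))) = (1 : A') ⊗ₜ[A] e₁ (algebraMap B _ x)) :
    Spec.map (CommRingCat.ofHom (algebraMap (A' ⊗[A] B)
        (Localization.Away (algebraMap B (A' ⊗[A] B) (algebraMap A B g))))) ≫
      (spMap str (e'.restrictScalars A).symm.toAlgHom ≫ f₂).left =
    Spec.map (CommRingCat.ofHom (Localization.awayMap (algebraMap B (A' ⊗[A] B)) (algebraMap A B g))) ≫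
      (spMap str e₁.symm.toAlgHom ≫ f₁).left := by
  let Kg : Localization.Away (algebraMap A B g) →ₐ[A]
      Localization.Away (algebraMap B (A' ⊗[A] B) (algebraMap A B g)) :=
    { Localization.awayMap (algebraMap B (A' ⊗[A] B)) (algebraMap A B g) with
      commutes' := fun r => by
        show Localization.awayMap _ _ (algebraMap A (Localization.Away (algebraMap A B g)) r) = _
        rw [IsScalarTower.algebraMap_apply A B (Localization.Away (algebraMap A B g))]
        rw [Localization.awayMap, IsLocalization.Away.map, IsLocalization.map_eq]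
        rw [IsScalarTower.algebraMap_apply A (A' ⊗[A] B) (Localization.Away (algebraMap B (A' ⊗[A] B) (algebraMap A B g)))]
        exact congrArg _ (Algebra.TensorProduct.includeRight.commutes r) }
  let Ka : A' ⊗[A] B →ₐ[A] Localization.Away (algebraMap B (A' ⊗[A] B) (algebraMap A B g)) :=
    IsScalarTower.toAlgHom A (A' ⊗[A] B) _
  let Λ : A' ⊗[A] B₁ →ₐ[A] Localization.Away (algebraMap B (A' ⊗[A] B) (algebraMap A B g)) :=
    Algebra.TensorProduct.lift (Ka.comp Algebra.TensorProduct.includeLeft) (Kg.comp e₁.symm.toAlgHom)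
      fun _ _ => Commute.all _ _
  have hΛr : Λ.comp Algebra.TensorProduct.includeRight = Kg.comp e₁.symm.toAlgHom := by
    ext x
    show Λ ((1 : A') ⊗ₜ[A] x) = _
    rw [Algebra.TensorProduct.lift_tmul, map_one, one_mul]
  have hΛl : (Λ.comp θ.toAlgHom).comp (locA g B') = Ka.comp (e'.restrictScalars A).symm.toAlgHom := by
    ext y
    obtain ⟨z, rfl⟩ := e'.surjective y
    show Λ (θ (algebraMap B' _ (e' z))) = Ka (e'.symm (e' z))
    rw [AlgEquiv.symm_apply_apply]
    induction z with
    | zero => simp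
    | add x y hx hy => simp only [map_add, hx, hy]
    | tmul r x =>
      have e3 : r ⊗ₜ[A] x = algebraMap A' (A' ⊗[A] B) r * ((1 : A') ⊗ₜ[A] x) := by
        rw [Algebra.TensorProduct.algebraMap_apply, Algebra.TensorProduct.tmul_mul_tmul, mul_one, one_mul]
        rfl
      rw [e3, map_mul, e'.commutes, map_mul, map_mul, map_mul, he, map_mul, hlin]
      congr 1
      · rw [Algebra.TensorProduct.lift_tmul, map_one, mul_one]
        rfl
      · rw [Algebra.TensorProduct.lift_tmul, map_one, one_mul]
        show Kg (e₁.symm (e₁ (algebraMap B _ x))) = _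
        rw [AlgEquiv.symm_apply_apply]
        show Localization.awayMap _ _ (algebraMap B _ x) = _
        rw [Localization.awayMap, IsLocalization.Away.map, IsLocalization.map_eq]
        rfl
  have hs : spMap str Ka ≫ spMap str (e'.restrictScalars A).symm.toAlgHom ≫ f₂ =
      spMap str Kg ≫ spMap str e₁.symm.toAlgHom ≫ f₁ := by
    rw [← Category.assoc, spMap_comp, ← hΛl, ← spMap_comp, ← spMap_comp, Category.assoc, Category.assoc, hW,
      ← Category.assoc, spMap_comp, hΛr, ← spMap_comp, Category.assoc]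
  exact congrArg (fun r => r.left) hs

theorem algHom_away_ext {C : Type u} [CommRing C] [Algebra A C] (u v : Localization.Away g →ₐ[A] C) : u = v :=
  IsLocalization.algHom_ext (Submonoid.powers g) (Subsingleton.elim _ _)

/-- the glued algebra with its map to the space -/
theorem exists_glued (h : EtGlue.IsGlueingPair A A' g) {Z : Sp S} (hZ : IsAlgSpace Z)
    (hd : IsAffineMor (Limits.diag Z)) (a : (yon S).obj (sp str (Localization.Away g)) ⟶ Z)
    (b : (yon S).obj (sp str A') ⟶ Z)
    (hab : (yon S).map (spMap str (locA g A')) ≫ b = (yon S).map (spMap str (locG g A')) ≫ a) :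
    ∃ (B : Type u) (_ : CommRing B) (_ : Algebra A B) (h₀ : (yon S).obj (sp str B) ⟶ Z),
      Algebra.Etale A B ∧ Surjective (inj str B).left ∧
      (yon S).map (spMap str (locA g B)) ≫ h₀ = (yon S).map (spMap str (locG g B)) ≫ a ∧
      (yon S).map (spMap str (Algebra.TensorProduct.includeRight : B →ₐ[A] A' ⊗[A] B)) ≫ h₀ =
        (yon S).map (spMap str (Algebra.TensorProduct.includeLeft : A' →ₐ[A] A' ⊗[A] B)) ≫ b := by
  haveI : IsAffine (sp str (Localization.Away g)).left := inferInstanceAs (IsAffine (Spec _))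
  haveI : IsAffine (sp str A').left := inferInstanceAs (IsAffine (Spec _))
  obtain ⟨W, w, hW', hwe, hwa, hwb⟩ := exists_chart_covering hZ a b
  haveI := hW'
  obtain ⟨P₁, F₁, p₁, hP₁, sqa⟩ := exists_affine_pullback hd w a
  obtain ⟨P₂, F₂, p₂, hP₂, sqb⟩ := exists_affine_pullback hd w b
  haveI := hP₁
  haveI := hP₂
  obtain ⟨B₁, _, _, ψ₁, η₁, hη₁⟩ := exists_sp_iso str p₁
  obtain ⟨B', _, _, ψ₂, η₂, hη₂⟩ := exists_sp_iso str p₂
  obtain ⟨f₁, hf₁⟩ : ∃ f, η₁.hom ≫ F₁ = f := ⟨_, rfl⟩
  obtain ⟨f₂, hf₂⟩ : ∃ f, η₂.hom ≫ F₂ = f := ⟨_, rfl⟩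
  have sq₁ : IsPullback ((yon S).map f₁) ((yon S).map (spMap str ψ₁)) w a :=
    sqa.of_iso ((yon S).mapIso η₁).symm (Iso.refl _) (Iso.refl _) (Iso.refl _)
      (by simp [← hf₁]) (by simp [← hη₁]) (by simp) (by simp)
  have sq₂ : IsPullback ((yon S).map f₂) ((yon S).map (spMap str ψ₂)) w b :=
    sqb.of_iso ((yon S).mapIso η₂).symm (Iso.refl _) (Iso.refl _) (Iso.refl _)
      (by simp [← hf₂]) (by simp [← hη₂]) (by simp) (by simp)
  obtain ⟨θ, hθl, hW⟩ := exists_overlap str hab sq₁ sq₂
  letI algA' : Algebra A' B' := ψ₂.toRingHom.toAlgebra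
  haveI : IsScalarTower A A' B' := IsScalarTower.of_algebraMap_eq fun r => (ψ₂.commutes r).symm
  have hunit : IsUnit (algebraMap A B₁ g) := by
    rw [← ψ₁.commutes]
    exact (IsLocalization.Away.algebraMap_isUnit g).map ψ₁
  have hlin : ∀ r : A', θ (algebraMap B' _ (algebraMap A' B' r)) = r ⊗ₜ[A] (1 : B₁) := AlgHom.congr_fun hθl
  let φ : Localization.Away (algebraMap A B' g) ≃ₐ[A'] A' ⊗[A] B₁ :=
    { θ.toRingEquiv with commutes' := hlin }
  obtain ⟨B, _, _, hB, e₁, e', he⟩ := S10727.result A A' g h B₁ hunit B' φ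
  have hpB := HenselLib.BL.isGlueingPair_baseChange h B hB
  let eA := e'.restrictScalars A
  obtain ⟨m₀, ⟨hm1, hm2⟩, -⟩ := exists_lift_affine hpB (spMap str e₁.symm.toAlgHom ≫ f₁).left
    (spMap str eA.symm.toAlgHom ≫ f₂).left (glued_agree str θ hlin hW e₁ e' he)
  have hm₀ : m₀ ≫ W.hom = Spec.map (CommRingCat.ofHom (algebraMap A B)) ≫ str := by
    obtain ⟨m₁, -, hu⟩ := exists_lift_affine hpB ((spMap str e₁.symm.toAlgHom ≫ f₁).left ≫ W.hom)
      ((spMap str eA.symm.toAlgHom ≫ f₂).left ≫ W.hom) (by
        rw [← Category.assoc, ← Category.assoc, glued_agree str θ hlin hW e₁ e' he])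
    refine (hu _ ⟨by rw [← Category.assoc, hm1], by rw [← Category.assoc, hm2]⟩).trans (hu _ ⟨?_, ?_⟩).symm
    · rw [Over.w (spMap str e₁.symm.toAlgHom ≫ f₁), ← Category.assoc, ← Spec.map_comp, ← CommRingCat.ofHom_comp,
        ← IsScalarTower.algebraMap_eq]
      rfl
    · rw [Over.w (spMap str eA.symm.toAlgHom ≫ f₂), ← Category.assoc, ← Spec.map_comp, ← CommRingCat.ofHom_comp]
      exact congrArg (fun r => Spec.map (CommRingCat.ofHom r) ≫ str)
        (Algebra.TensorProduct.includeRight : B →ₐ[A] A' ⊗[A] B).comp_algebraMap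
  have hz₁ : e₁.symm.toAlgHom.comp ψ₁ = locG g B := algHom_away_ext _ _
  have hz₂ : eA.symm.toAlgHom.comp ψ₂ = (Algebra.TensorProduct.includeLeft : A' →ₐ[A] A' ⊗[A] B) :=
    AlgHom.ext fun r => e'.symm.commutes r
  have hψ₁e : ψ₁.toRingHom.Etale := HasRingHomProperty.Spec_iff.1 (hwe.property _ _ _ sq₁)
  have hψ₂e : ψ₂.toRingHom.Etale := HasRingHomProperty.Spec_iff.1 (hwe.property _ _ _ sq₂)
  have hBe : (algebraMap A B).Etale := by
    refine (S10724.result A A' g h A B (isGlueable_self h) hB (Algebra.ofId A B)).2 ⟨?_, ?_⟩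
    · have e4 : Localization.awayMap (Algebra.ofId A B).toRingHom (algebraMap A A g) =
          ((e₁.symm.toAlgHom.comp ψ₁).toRingHom :
            Localization.Away g →+* Localization.Away (algebraMap A B g)) := by
        rw [hz₁]; rfl
      exact e4 ▸ RingHom.Etale.respectsIso.1 ψ₁.toRingHom e₁.symm.toRingEquiv hψ₁e
    · refine tensor_map_ofId_etale ?_
      rw [← hz₂]
      exact RingHom.Etale.respectsIso.1 ψ₂.toRingHom eA.symm.toRingEquiv hψ₂e
  refine ⟨B, inferInstance, inferInstance, (yon S).map (Over.homMk m₀ hm₀ : sp str B ⟶ W) ≫ w,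
    RingHom.etale_algebraMap.1 hBe, ⟨fun p => ?_⟩, ?_, ?_⟩
  · by_cases hp : g ∈ (p : PrimeSpectrum A).asIdeal
    · obtain ⟨q, rfl⟩ := exists_prime_over_quot h p hp
      obtain ⟨z, hz⟩ := hwb q
      obtain ⟨v, -, hv⟩ := (ofPt_eq_ofPt_iff sq₂ z q).1 hz
      refine ⟨(spMap str eA.toAlgHom ≫
        spMap str (Algebra.TensorProduct.includeRight : B →ₐ[A] A' ⊗[A] B)).left v, ?_⟩
      have e7 : (spMap str eA.toAlgHom ≫ spMap str (Algebra.TensorProduct.includeRight : B →ₐ[A] A' ⊗[A] B)) ≫
          inj str B = spMap str ψ₂ ≫ inj str A' := by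
        rw [Category.assoc, spMap_inj, spMap_inj, spMap_inj]
      exact (congrArg (fun r => r.left v) e7).trans (congrArg (inj str A').left hv)
    · obtain ⟨q, rfl⟩ : p ∈ Set.range (PrimeSpectrum.comap (algebraMap A (Localization.Away g))) := by
        rw [PrimeSpectrum.localization_away_comap_range _ g]
        exact hp
      obtain ⟨z, hz⟩ := hwa q
      obtain ⟨v, -, hv⟩ := (ofPt_eq_ofPt_iff sq₁ z q).1 hz
      refine ⟨(spMap str e₁.toAlgHom ≫ spMap str (locA g B)).left v, ?_⟩
      have e7 : (spMap str e₁.toAlgHom ≫ spMap str (locA g B)) ≫ inj str B =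
          spMap str ψ₁ ≫ inj str (Localization.Away g) := by
        rw [Category.assoc, spMap_inj, spMap_inj, spMap_inj]
      exact (congrArg (fun r => r.left v) e7).trans (congrArg (inj str (Localization.Away g)).left hv)
  · rw [← Category.assoc, ← Functor.map_comp,
      show spMap str (locA g B) ≫ (Over.homMk m₀ hm₀ : sp str B ⟶ W) = spMap str e₁.symm.toAlgHom ≫ f₁ from
        Over.OverMorphism.ext hm1, ← hz₁, ← spMap_comp, Functor.map_comp, Functor.map_comp, Category.assoc,
      Category.assoc, sq₁.w]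
  · rw [← Category.assoc, ← Functor.map_comp,
      show spMap str (Algebra.TensorProduct.includeRight : B →ₐ[A] A' ⊗[A] B) ≫ (Over.homMk m₀ hm₀ : sp str B ⟶ W) =
        spMap str eA.symm.toAlgHom ≫ f₂ from Over.OverMorphism.ext hm2, ← hz₂, ← spMap_comp, Functor.map_comp,
      Functor.map_comp, Category.assoc, Category.assoc, sq₂.w]

omit [IsAffine S] in
/-- functoriality of localizations away from the image of an element -/
theorem exists_locMap {B C : Type u} [CommRing B] [Algebra A B] [CommRing C] [Algebra A C] (v : B →ₐ[A] C)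
    (hu : IsUnit (algebraMap A C g)) :
    ∃ E : Localization.Away (algebraMap A B g) →ₐ[A] C, E.comp (locA g B) = v := by
  have hu' : IsUnit (v.toRingHom (algebraMap A B g)) := by
    rw [show v.toRingHom (algebraMap A B g) = algebraMap A C g from v.commutes g]
    exact hu
  refine ⟨{ IsLocalization.Away.lift (algebraMap A B g) hu' with commutes' := fun r => ?_ }, AlgHom.ext fun x => ?_⟩
  · show IsLocalization.Away.lift (algebraMap A B g) hu' (algebraMap A (Localization.Away (algebraMap A B g)) r) = _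
    rw [IsScalarTower.algebraMap_apply A B (Localization.Away (algebraMap A B g)), IsLocalization.Away.lift_eq]
    exact v.commutes r
  · exact IsLocalization.Away.lift_eq _ hu' x

omit [IsAffine S] in
/-- restriction to the localized member, doubled -/
theorem exists_double₁ {Z : Sp S} {a : (yon S).obj (sp str (Localization.Away g)) ⟶ Z} {B D : Type u} [CommRing B]
    [Algebra A B] [CommRing D] [Algebra A D] {h₀ : (yon S).obj (sp str B) ⟶ Z}
    (hr₁ : (yon S).map (spMap str (locA g B)) ≫ h₀ = (yon S).map (spMap str (locG g B)) ≫ a) (u : B →ₐ[A] D) :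
    (yon S).map (spMap str (locA g D)) ≫ (yon S).map (spMap str u) ≫ h₀ =
      (yon S).map (spMap str (locG g D)) ≫ a := by
  have hu : IsUnit (algebraMap A (Localization.Away (algebraMap A D g)) g) := by
    rw [IsScalarTower.algebraMap_apply A D (Localization.Away (algebraMap A D g))]
    exact IsLocalization.Away.algebraMap_isUnit (S := Localization.Away (algebraMap A D g)) (algebraMap A D g)
  obtain ⟨E, hE⟩ := exists_locMap ((locA g D).comp u) hu
  rw [← Functor.map_comp_assoc, spMap_comp, ← hE, ← spMap_comp, Functor.map_comp, Category.assoc, hr₁,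
    ← Functor.map_comp_assoc, spMap_comp, algHom_away_ext (E.comp (locG g B)) (locG g D)]

/-- morphisms into a space with affine diagonal glue along glueing pairs -/
theorem exists_hom (h : EtGlue.IsGlueingPair A A' g) {Z : Sp S} (hZ : IsAlgSpace Z)
    (hd : IsAffineMor (Limits.diag Z)) (a : (yon S).obj (sp str (Localization.Away g)) ⟶ Z)
    (b : (yon S).obj (sp str A') ⟶ Z)
    (hab : (yon S).map (spMap str (locA g A')) ≫ b = (yon S).map (spMap str (locG g A')) ≫ a) :
    ∃ φ : (yon S).obj (Over.mk str) ⟶ Z,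
      (yon S).map (inj str (Localization.Away g)) ≫ φ = a ∧ (yon S).map (inj str A') ≫ φ = b := by
  obtain ⟨B, _, _, h₀, hB, hsurj, hr₁, hr₂⟩ := exists_glued str h hZ hd a b hab
  haveI := hB
  haveI : Module.Flat A (B ⊗[A] B) := inferInstance
  have hpD := pair_of_flat h (B ⊗[A] B)
  have sqD := isPullback_sp_tensor str B B
  let rD : B ⊗[A] B →ₐ[A] A' ⊗[A] (B ⊗[A] B) := Algebra.TensorProduct.includeRight
  have side₂ : ∀ u : B →ₐ[A] B ⊗[A] B,
      (yon S).map (spMap str rD) ≫ (yon S).map (spMap str u) ≫ h₀ =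
        (yon S).map (spMap str (Algebra.TensorProduct.includeLeft : A' →ₐ[A] A' ⊗[A] (B ⊗[A] B))) ≫ b := by
    intro u
    have hE : rD.comp u = (Algebra.TensorProduct.map (AlgHom.id A A') u).comp
        (Algebra.TensorProduct.includeRight : B →ₐ[A] A' ⊗[A] B) := AlgHom.ext fun x => rfl
    rw [← Functor.map_comp_assoc, spMap_comp, hE, ← spMap_comp, Functor.map_comp, Category.assoc, hr₂,
      ← Functor.map_comp_assoc, spMap_comp, Algebra.TensorProduct.map_comp_includeLeft, AlgHom.comp_id]
  have hker : (yon S).map (spMap str (Algebra.TensorProduct.includeRight : B →ₐ[A] B ⊗[A] B)) ≫ h₀ =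
      (yon S).map (spMap str (Algebra.TensorProduct.includeLeft : B →ₐ[A] B ⊗[A] B)) ≫ h₀ := by
    refine hom_ext hpD hd (T := sp str (B ⊗[A] B)) (Iso.refl _) (spMap str (locA g (B ⊗[A] B))) (spMap str rD)
      (𝟙 _) ?_ (𝟙 _) ?_ _ _ ?_ ?_
    · simp only [Category.id_comp, Iso.refl_hom, Category.comp_id]
      rfl
    · simp only [Category.id_comp, Iso.refl_hom, Category.comp_id]
      rfl
    · exact (exists_double₁ str hr₁ _).trans (exists_double₁ str hr₁ _).symm
    · exact (side₂ _).trans (side₂ _).symm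
  have hBet : Etale (inj str B).left := HasRingHomProperty.Spec_iff.2 (RingHom.etale_algebraMap.2 hB)
  let q := (yon S).map (inj str B)
  have hqe : RepWith @Etale q := (repWith_yon_map_iff @Etale _).2 hBet
  have hqs : RepWith @Surjective q := (repWith_yon_map_iff @Surjective _).2 hsurj
  haveI : Epi q := epi_of_etale_surjective hqe hqs
  haveI : IsRegularEpiCategory (Sp S) := inferInstanceAs (IsRegularEpiCategory (Sheaf (J S) (Type (u + 1))))
  haveI : IsRegularEpi q := IsRegularEpiCategory.regularEpiOfEpi q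
  refine ⟨EffectiveEpi.desc q h₀ (fun g₁ g₂ e => ?_), ?_, ?_⟩
  · rw [← sqD.lift_fst g₁ g₂ e, Category.assoc, hker, ← Category.assoc, sqD.lift_snd]
  · have sq := isPullback_sp_loc str g B
    haveI : Epi ((yon S).map (spMap str (locG g B))) :=
      epi_of_etale_surjective (RepWith.baseChange sq hqe) (RepWith.baseChange sq hqs)
    rw [← cancel_epi ((yon S).map (spMap str (locG g B))), ← reassoc_of% sq.w, EffectiveEpi.fac, hr₁]
  · have sq := isPullback_sp_tensor str A' B
    haveI : Epi ((yon S).map (spMap str (Algebra.TensorProduct.includeLeft : A' →ₐ[A] A' ⊗[A] B))) :=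
      epi_of_etale_surjective (RepWith.baseChange sq hqe) (RepWith.baseChange sq hqs)
    rw [← cancel_epi ((yon S).map (spMap str (Algebra.TensorProduct.includeLeft : A' →ₐ[A] A' ⊗[A] B))),
      ← reassoc_of% sq.w, EffectiveEpi.fac, hr₂]

end glue

end Groth.Agent.AlgSpLib.GlueingPairHom
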