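import Groth.Agent.HenselLib.BLAlg
import Groth.Agent.HenselLib.BLFlat
import Mathlib.AlgebraicGeometry.Cover.Open
import Mathlib.AlgebraicGeometry.Gluing
import Mathlib.AlgebraicGeometry.Morphisms.UniversallyInjective
import Mathlib.AlgebraicGeometry.AffineScheme
import Mathlib.RingTheory.Spectrum.Prime.Topology
import Mathlib.RingTheory.Localization.Away.Basic
import Mathlib.RingTheory.Flat.Stability
import Groth.Agent.S7065

/-!
Glueing pairs and monomorphisms: a monomorphism to the spectrum of the ring of a glueing pair which is split over the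
localisation and over the completion-like member is an isomorphism.
-/

universe u

open CategoryTheory CategoryTheory.Limits AlgebraicGeometry TopologicalSpace
open Groth.Agent.HenselLib
open scoped TensorProduct

noncomputable section

attribute [local instance] Algebra.TensorProduct.rightAlgebra

namespace Groth.Agent.AlgSpLib.GlueingPairMono

variable {A A' : Type u} [CommRing A] [CommRing A'] [Algebra A A'] {f : A}

theorem exists_approx (hq : EtGlue.QuotPowBijective A A' f) (K : Ideal A) (M : ℕ) {x : A'}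
    (hx : x ∈ K.map (algebraMap A A')) : ∃ k ∈ K, ∃ y : A', x = algebraMap A A' k + f ^ M • y := by
  induction hx using Submodule.span_induction with
  | mem z hz =>
    obtain ⟨k, hk, rfl⟩ := hz
    exact ⟨k, hk, 0, by simp⟩
  | zero => exact ⟨0, K.zero_mem, 0, by simp⟩
  | add a b _ _ ha hb =>
    obtain ⟨k, hk, y, rfl⟩ := ha
    obtain ⟨k', hk', y', rfl⟩ := hb
    exact ⟨k + k', K.add_mem hk hk', y + y', by rw [map_add, smul_add]; abel⟩
  | smul c a _ ha =>
    obtain ⟨k, hk, y, rfl⟩ := ha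
    obtain ⟨r, c', hc⟩ := BL.exists_eq_add_pow hq M c
    refine ⟨r * k, K.mul_mem_left r hk, c' * algebraMap A A' k + c * y, ?_⟩
    simp only [smul_eq_mul, Algebra.smul_def, map_mul] at *
    linear_combination (algebraMap A A' k) * hc

theorem isOpen_of_preimages (hq : EtGlue.QuotPowBijective A A' f) {T : Set (PrimeSpectrum A)}
    (h₁ : IsOpen (PrimeSpectrum.comap (algebraMap A (Localization.Away f)) ⁻¹' T))
    (h₂ : IsOpen (PrimeSpectrum.comap (algebraMap A A') ⁻¹' T)) : IsOpen T := by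
  obtain ⟨K, hK⟩ := (PrimeSpectrum.isClosed_iff_zeroLocus_ideal _).1 h₁.isClosed_compl
  obtain ⟨J, hJ⟩ := (PrimeSpectrum.isClosed_iff_zeroLocus_ideal _).1 h₂.isClosed_compl
  refine isOpen_iff_forall_mem_open.2 fun p hp => ?_
  have hrange := PrimeSpectrum.localization_away_comap_range (Localization.Away f) f
  have hemb := PrimeSpectrum.localization_away_isOpenEmbedding (Localization.Away f) f
  by_cases hf : f ∈ p.asIdeal
  swap
  · refine ⟨PrimeSpectrum.comap (algebraMap A (Localization.Away f)) ''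
      (PrimeSpectrum.comap (algebraMap A (Localization.Away f)) ⁻¹' T), Set.image_preimage_subset _ _,
      hemb.isOpenMap _ h₁, ?_⟩
    obtain ⟨z, rfl⟩ := hrange.ge (show p ∈ (PrimeSpectrum.basicOpen f : Set (PrimeSpectrum A)) from hf)
    exact ⟨z, hp, rfl⟩
  obtain ⟨q, rfl⟩ : ∃ q, PrimeSpectrum.comap (algebraMap A A') q = p := by
    rcases S7065.result (f ^ 1) (hq 1 one_pos) p with h | ⟨z, hz⟩
    · exact h
    · have h' := (PrimeSpectrum.localization_away_comap_range (Localization.Away (f ^ 1)) (f ^ 1)).le ⟨z, hz⟩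
      exact absurd (by rw [pow_one]; exact hf) h'
  have hqJ : q ∉ PrimeSpectrum.zeroLocus (J : Set A') := fun h => (hJ.ge h) hp
  obtain ⟨j, hj, hjq⟩ := Set.not_subset.1 hqJ
  obtain ⟨r, j', hjr⟩ := BL.exists_eq_add_pow hq 1 j
  let K₀ : Ideal A := K.comap (algebraMap A (Localization.Away f))
  have hfj : algebraMap A A' f * j ∈ (K₀.map (algebraMap A A')).radical := by
    rw [Ideal.radical_eq_sInf, Submodule.mem_sInf]
    rintro P ⟨hP, hPp⟩
    by_cases hfP : algebraMap A A' f ∈ P
    · exact Ideal.mul_mem_right _ P hfP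
    · refine Ideal.mul_mem_left P _ ?_
      let P' : PrimeSpectrum A' := ⟨P, hPp⟩
      obtain ⟨z, hz⟩ := hrange.ge (show PrimeSpectrum.comap (algebraMap A A') P' ∈
        (PrimeSpectrum.basicOpen f : Set (PrimeSpectrum A)) from hfP)
      have hzT : z ∉ PrimeSpectrum.comap (algebraMap A (Localization.Away f)) ⁻¹' T := by
        refine hK.ge ?_
        intro a ha
        have hmap := IsLocalization.map_comap (Submonoid.powers f) (Localization.Away f) K
        have hle : K₀ ≤ z.asIdeal.comap (algebraMap A (Localization.Away f)) := fun b hb => by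
          have : algebraMap A A' b ∈ P := hP (Ideal.mem_map_of_mem _ hb)
          exact (congrArg PrimeSpectrum.asIdeal hz).ge this
        exact Ideal.map_le_iff_le_comap.2 hle (hmap.ge ha)
      have hP' : P' ∈ PrimeSpectrum.zeroLocus (J : Set A') := hJ.le (show P' ∈ _ᶜ from fun h => hzT (show PrimeSpectrum.comap _ z ∈ T from hz.symm ▸ h))
      exact hP' hj
  obtain ⟨N, hN0, hN⟩ : ∃ N, 0 < N ∧ (algebraMap A A' f * j) ^ N ∈ K₀.map (algebraMap A A') := by
    obtain ⟨N, hN⟩ := hfj
    exact ⟨N + 1, N.succ_pos, by rw [pow_succ]; exact Ideal.mul_mem_right _ _ hN⟩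
  obtain ⟨k, hk, y, hy⟩ := exists_approx hq K₀ (N + 1) hN
  obtain ⟨r', hr'⟩ : algebraMap A A' f ∣ j ^ N - algebraMap A A' r ^ N := by
    refine dvd_trans ⟨j', ?_⟩ (sub_dvd_pow_sub_pow _ _ _)
    rw [hjr, Algebra.smul_def, pow_one]; ring
  obtain ⟨t, ht⟩ := BL.exists_eq_pow_mul hq (N + 1) (k - f ^ N * r ^ N) (r' - y) (by
    simp only [Algebra.smul_def, map_sub, map_mul, map_pow] at hy ⊢
    linear_combination -hy + (algebraMap A A' f) ^ N * hr')
  have hmem : f ^ N * (r ^ N + f * t) ∈ K₀ := by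
    have : f ^ N * (r ^ N + f * t) = k := by linear_combination -ht
    rw [this]; exact hk
  have hmem' : r ^ N + f * t ∈ K₀ := by
    show algebraMap A (Localization.Away f) _ ∈ K
    have h' : algebraMap A (Localization.Away f) (f ^ N * (r ^ N + f * t)) ∈ K := hmem
    rw [map_mul, map_pow] at h'
    exact (Ideal.unit_mul_mem_iff_mem _ ((IsLocalization.Away.algebraMap_isUnit f).pow N)).1 h'
  have hjmod : algebraMap A A' r = j - algebraMap A A' f * j' := by
    rw [hjr, Algebra.smul_def, pow_one]; ring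
  have hrq : r ∉ (PrimeSpectrum.comap (algebraMap A A') q).asIdeal := fun h => hjq (by
    have hf' : algebraMap A A' f ∈ q.asIdeal := hf
    have : j = algebraMap A A' r + algebraMap A A' f * j' := by rw [hjmod]; ring
    rw [this]
    exact q.asIdeal.add_mem h (Ideal.mul_mem_right _ _ hf'))
  refine ⟨PrimeSpectrum.basicOpen (r ^ N + f * t), fun P hP => ?_, PrimeSpectrum.isOpen_basicOpen, fun h => ?_⟩
  · have hP0 : r ^ N + f * t ∉ P.asIdeal := hP
    by_contra hPT
    by_cases hfP : f ∈ P.asIdeal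
    · obtain ⟨z, rfl⟩ : ∃ z, PrimeSpectrum.comap (algebraMap A A') z = P := by
        rcases S7065.result (f ^ 1) (hq 1 one_pos) P with h | ⟨z, hz⟩
        · exact h
        · have h' := (PrimeSpectrum.localization_away_comap_range (Localization.Away (f ^ 1)) (f ^ 1)).le ⟨z, hz⟩
          exact absurd (by rw [pow_one]; exact hfP) h'
      have hz : z ∈ PrimeSpectrum.zeroLocus (J : Set A') := hJ.le hPT
      refine hP0 (add_mem ?_ (Ideal.mul_mem_right _ _ hfP))
      refine Ideal.pow_mem_of_mem _ ?_ _ hN0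
      show algebraMap A A' r ∈ z.asIdeal
      rw [hjmod]
      exact z.asIdeal.sub_mem (hz hj) (Ideal.mul_mem_right _ _ hfP)
    · obtain ⟨z, rfl⟩ := hrange.ge (show P ∈ (PrimeSpectrum.basicOpen f : Set (PrimeSpectrum A)) from hfP)
      exact hP0 (hK.le hPT hmem')
  · have hf' : f * t ∈ (PrimeSpectrum.comap (algebraMap A A') q).asIdeal := Ideal.mul_mem_right _ _ hf
    exact hrq ((PrimeSpectrum.comap (algebraMap A A') q).2.mem_of_pow_mem N ((Ideal.add_mem_iff_left _ hf').1 h))

theorem exists_section_near (h : EtGlue.IsGlueingPair A A' f) {E : Scheme.{u}}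
    (ι : E ⟶ Spec (CommRingCat.of A)) [Mono ι]
    (σ₁ : Spec (CommRingCat.of (Localization.Away f)) ⟶ E)
    (hσ₁ : σ₁ ≫ ι = Spec.map (CommRingCat.ofHom (algebraMap A (Localization.Away f))))
    (σ₂ : Spec (CommRingCat.of A') ⟶ E) (hσ₂ : σ₂ ≫ ι = Spec.map (CommRingCat.ofHom (algebraMap A A')))
    (p : PrimeSpectrum A) :
    ∃ (r : A) (s : Spec (CommRingCat.of (Localization.Away r)) ⟶ E),
      r ∉ p.asIdeal ∧ s ≫ ι = Spec.map (CommRingCat.ofHom (algebraMap A (Localization.Away r))) := by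
  have hc₁ : ∀ z, ι (σ₁ z) = PrimeSpectrum.comap (algebraMap A (Localization.Away f)) z := fun z => by
    rw [← Scheme.Hom.comp_apply, hσ₁]; rfl
  have hc₂ : ∀ z, ι (σ₂ z) = PrimeSpectrum.comap (algebraMap A A') z := fun z => by
    rw [← Scheme.Hom.comp_apply, hσ₂]; rfl
  obtain ⟨e₀, he₀⟩ : ∃ e, ι e = p := by
    rcases S7065.result (f ^ 1) (h.1 1 one_pos) p with ⟨z, hz⟩ | ⟨z, hz⟩
    · exact ⟨σ₂ z, (hc₂ z).trans hz⟩
    · have h' : f ^ 1 ∉ p.asIdeal :=
        (PrimeSpectrum.localization_away_comap_range (Localization.Away (f ^ 1)) (f ^ 1)).le ⟨z, hz⟩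
      obtain ⟨z, hz⟩ := (PrimeSpectrum.localization_away_comap_range (Localization.Away f) f).ge
        (show p ∈ (PrimeSpectrum.basicOpen f : Set (PrimeSpectrum A)) from fun hf => h' (by rwa [pow_one]))
      exact ⟨σ₁ z, (hc₁ z).trans hz⟩
  obtain ⟨O, hO, heO, -⟩ := exists_isAffineOpen_mem_and_subset (x := e₀) (U := ⊤) trivial
  let T : Set (PrimeSpectrum A) := ι '' O
  have hmemT : ∀ e : E, ι e ∈ T → e ∈ O := fun e he => by
    obtain ⟨e', he', hh⟩ := he
    exact ι.injective hh ▸ he'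
  have hT : IsOpen T := by
    refine isOpen_of_preimages h.1 ?_ ?_
    · have e : PrimeSpectrum.comap (algebraMap A (Localization.Away f)) ⁻¹' T = σ₁ ⁻¹' (O : Set E) := by
        refine Set.ext fun z => ⟨fun hz => hmemT _ ?_, fun hz => ⟨_, hz, hc₁ z⟩⟩
        rw [hc₁]; exact hz
      exact e ▸ O.2.preimage σ₁.continuous
    · have e : PrimeSpectrum.comap (algebraMap A A') ⁻¹' T = σ₂ ⁻¹' (O : Set E) := by
        refine Set.ext fun z => ⟨fun hz => hmemT _ ?_, fun hz => ⟨_, hz, hc₂ z⟩⟩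
        rw [hc₂]; exact hz
      exact e ▸ O.2.preimage σ₂.continuous
  obtain ⟨_, ⟨r, rfl⟩, hpr, hrT⟩ := PrimeSpectrum.isTopologicalBasis_basic_opens.exists_subset_of_mem_open
    (show p ∈ T from ⟨e₀, heO, he₀⟩) hT
  let L := Localization.Away r
  have hL : EtGlue.IsGlueable A A' f L := BL.isGlueable_of_flat h L
  have hp' := BL.isGlueingPair_baseChange h L hL
  let fL := algebraMap A L f
  let P := A' ⊗[A] L
  let Q := Localization.Away fL
  let α₁ : Localization.Away f →+* Q := Localization.awayMap (algebraMap A L) f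
  have hα₁ : α₁.comp (algebraMap A (Localization.Away f)) = (algebraMap L Q).comp (algebraMap A L) :=
    IsLocalization.map_comp _
  let α₂ : A' →+* P := Algebra.TensorProduct.includeLeftRingHom
  have hα₂ : α₂.comp (algebraMap A A') = (algebraMap L P).comp (algebraMap A L) := RingHom.ext fun a => by
    show algebraMap A A' a ⊗ₜ[A] (1 : L) = (1 : A') ⊗ₜ[A] algebraMap A L a
    rw [Algebra.algebraMap_eq_smul_one, TensorProduct.smul_tmul, Algebra.algebraMap_eq_smul_one]
  have lift : ∀ {C : Type u} [CommRing C] {D : Type u} [CommRing D] (δ : A →+* D)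
      (σ : Spec (CommRingCat.of D) ⟶ E), σ ≫ ι = Spec.map (CommRingCat.ofHom δ) →
      ∀ (α : D →+* C) (γ : L →+* C), α.comp δ = γ.comp (algebraMap A L) →
      ∃ b : Γ(E, O) ⟶ CommRingCat.of C, Spec.map b ≫ hO.fromSpec = Spec.map (CommRingCat.ofHom α) ≫ σ := by
    intro C _ D _ δ σ hσ α γ hαγ
    let g := Spec.map (CommRingCat.ofHom α) ≫ σ
    have hg : Set.range g ⊆ Set.range hO.fromSpec := by
      rintro _ ⟨z, rfl⟩
      rw [hO.range_fromSpec]
      refine hmemT _ (hrT ?_)
      rw [← Scheme.Hom.comp_apply, Category.assoc, hσ, ← Spec.map_comp, ← CommRingCat.ofHom_comp, hαγ]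
      exact (PrimeSpectrum.localization_away_comap_range L r).le ⟨PrimeSpectrum.comap γ z, rfl⟩
    exact ⟨Spec.preimage (IsOpenImmersion.lift hO.fromSpec g hg), by
      rw [Spec.map_preimage, IsOpenImmersion.lift_fac]⟩
  obtain ⟨b₁, hb₁⟩ := lift _ σ₁ hσ₁ α₁ (algebraMap L Q) hα₁
  obtain ⟨b₂, hb₂⟩ := lift _ σ₂ hσ₂ α₂ (algebraMap L P) hα₂
  let ψ : CommRingCat.of A ⟶ Γ(E, O) := Spec.preimage (hO.fromSpec ≫ ι)
  have hψ : Spec.map ψ = hO.fromSpec ≫ ι := Spec.map_preimage _
  have hψ₁ : b₁.hom.comp ψ.hom = (algebraMap L Q).comp (algebraMap A L) := by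
    have : ψ ≫ b₁ = CommRingCat.ofHom ((algebraMap L Q).comp (algebraMap A L)) := Spec.map_injective (by
      rw [Spec.map_comp, hψ, reassoc_of% hb₁, hσ₁, ← Spec.map_comp, ← CommRingCat.ofHom_comp, hα₁])
    exact congrArg (fun t => t.hom) this
  have hψ₂ : b₂.hom.comp ψ.hom = (algebraMap L P).comp (algebraMap A L) := by
    have : ψ ≫ b₂ = CommRingCat.ofHom ((algebraMap L P).comp (algebraMap A L)) := Spec.map_injective (by
      rw [Spec.map_comp, hψ, reassoc_of% hb₂, hσ₂, ← Spec.map_comp, ← CommRingCat.ofHom_comp, hα₂])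
    exact congrArg (fun t => t.hom) this
  let μ := Localization.awayMap (algebraMap L P) fL
  let ν := algebraMap P (Localization.Away (algebraMap L P fL))
  have hagree : b₂ ≫ CommRingCat.ofHom ν = b₁ ≫ CommRingCat.ofHom μ := by
    refine Spec.map_injective ((cancel_mono (hO.fromSpec ≫ ι)).1 ?_)
    rw [← hψ, ← Spec.map_comp, ← Spec.map_comp]
    refine congrArg Spec.map (CommRingCat.hom_ext ?_)
    show ν.comp (b₂.hom.comp ψ.hom) = μ.comp (b₁.hom.comp ψ.hom)
    rw [hψ₁, hψ₂, ← RingHom.comp_assoc, ← RingHom.comp_assoc]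
    exact congrArg (fun t => RingHom.comp t (algebraMap A L)) (IsLocalization.map_comp _).symm
  choose g hg₂ hg₁ using fun b : Γ(E, O) => hp'.2.2.1 (b₂.hom b) (b₁.hom b)
    (congrArg (fun t => t.hom b) hagree)
  have hext : ∀ x y : L, algebraMap L P x = algebraMap L P y → algebraMap L Q x = algebraMap L Q y → x = y :=
    fun x y h1 h2 => hp'.2.1 (Prod.ext h1 h2)
  let G : Γ(E, O) →+* L :=
    { toFun := g
      map_one' := hext _ _ (by rw [hg₂, map_one, map_one]) (by rw [hg₁, map_one, map_one])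
      map_mul' := fun x y => hext _ _ (by rw [hg₂, map_mul, map_mul, hg₂, hg₂])
        (by rw [hg₁, map_mul, map_mul, hg₁, hg₁])
      map_zero' := hext _ _ (by rw [hg₂, map_zero, map_zero]) (by rw [hg₁, map_zero, map_zero])
      map_add' := fun x y => hext _ _ (by rw [hg₂, map_add, map_add, hg₂, hg₂])
        (by rw [hg₁, map_add, map_add, hg₁, hg₁]) }
  refine ⟨r, Spec.map (CommRingCat.ofHom G) ≫ hO.fromSpec, hpr, ?_⟩
  rw [Category.assoc, ← hψ, ← Spec.map_comp]
  refine congrArg Spec.map (CommRingCat.hom_ext (RingHom.ext fun a => ?_))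
  exact hext _ _ ((hg₂ _).trans (congrArg (fun t => t a) hψ₂)) ((hg₁ _).trans (congrArg (fun t => t a) hψ₁))

theorem isIso_of_mono (h : EtGlue.IsGlueingPair A A' f) {E : Scheme.{u}}
    (ι : E ⟶ Spec (CommRingCat.of A)) [Mono ι]
    (σ₁ : Spec (CommRingCat.of (Localization.Away f)) ⟶ E)
    (hσ₁ : σ₁ ≫ ι = Spec.map (CommRingCat.ofHom (algebraMap A (Localization.Away f))))
    (σ₂ : Spec (CommRingCat.of A') ⟶ E) (hσ₂ : σ₂ ≫ ι = Spec.map (CommRingCat.ofHom (algebraMap A A'))) :
    IsIso ι := by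
  choose r s hr hs using exists_section_near h ι σ₁ hσ₁ σ₂ hσ₂
  have hspan : Ideal.span (Set.range r) = ⊤ := by
    by_contra hne
    obtain ⟨M, hM, hle⟩ := Ideal.exists_le_maximal _ hne
    exact hr ⟨M, hM.isPrime⟩ (hle (Ideal.subset_span ⟨_, rfl⟩))
  let 𝒰 := (Scheme.affineOpenCoverOfSpanRangeEqTop (R := CommRingCat.of A) r hspan).openCover
  let t := 𝒰.glueMorphisms s fun x y => by
    refine (cancel_mono ι).1 ((Category.assoc _ _ _).trans ?_)
    refine Eq.trans ?_ (Category.assoc _ _ _).symm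
    exact (congrArg (pullback.fst (𝒰.f x) (𝒰.f y) ≫ ·) (hs x)).trans
      (pullback.condition.trans (congrArg (pullback.snd (𝒰.f x) (𝒰.f y) ≫ ·) (hs y)).symm)
  have ht : t ≫ ι = 𝟙 _ := 𝒰.hom_ext _ _ fun x => by
    refine (𝒰.ι_glueMorphisms_assoc _ _ _ _).trans ?_
    exact (hs x).trans (Category.comp_id _).symm
  exact ⟨⟨t, (cancel_mono ι).1 (by rw [Category.assoc, ht, Category.comp_id, Category.id_comp]), ht⟩⟩

end Groth.Agent.AlgSpLib.GlueingPairMono
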