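import Groth.Agent.AlgSpLib.GorHom
import Groth.Agent.AlgSpLib.FlatAt
import Groth.Agent.CAlgH.CIScheme
import Mathlib.RingTheory.Unramified.LocalRing
import Groth.Prelude.Def_Dual3
import Groth.Prelude.Def_AlgSpDec
import Groth.Agent.AlgSpLib.UnivBdd

/-!
Gorenstein morphisms of algebraic spaces at a point: independence of the chart.
-/

set_option linter.style.haveILetI false

universe u

open CategoryTheory CategoryTheory.Limits AlgebraicGeometry
open AlgSp

noncomputable section

namespace Groth.Agent.AlgSpLib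

set_option backward.isDefEq.respectTransparency.types false

open IsLocalRing

theorem gorAt_iff_gorHom {U V : Scheme.{u}} (h : U ⟶ V) (u : U) :
    Dual3.IsGorensteinAt h u ↔ GorHom (h.stalkMap u).hom := by
  obtain ⟨e⟩ := CAlgH.CIScheme.fiberStalk_equiv h u
  exact and_congr_right fun _ => (DualLib.GorFlat.gor_congr e).symm

theorem isNoetherianRing_fibre_quot_iff {U V : Scheme.{u}} (h : U ⟶ V) (u : U) :
    IsNoetherianRing ((h.fiber (h u)).presheaf.stalk (h.asFiber u)) ↔
      IsNoetherianRing (↥(U.presheaf.stalk u) ⧸ (maximalIdeal ↥(V.presheaf.stalk (h u))).map (h.stalkMap u).hom) := by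
  obtain ⟨e⟩ := CAlgH.CIScheme.fiberStalk_equiv h u
  exact ⟨fun _ => isNoetherianRing_of_ringEquiv _ e.symm, fun _ => isNoetherianRing_of_ringEquiv _ e⟩

theorem map_maximalIdeal_etale {U V : Scheme.{u}} (e : U ⟶ V) [Etale e] (u : U) :
    (maximalIdeal ↥(V.presheaf.stalk (e u))).map (e.stalkMap u).hom = maximalIdeal ↥(U.presheaf.stalk u) := by
  algebraize [(e.stalkMap u).hom]
  have : IsLocalHom (algebraMap (V.presheaf.stalk (e u)) (U.presheaf.stalk u)) := e.toLRSHom.prop u
  have : Algebra.EssFiniteType (V.presheaf.stalk (e u)) (U.presheaf.stalk u) :=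
    RingHom.essFiniteType_algebraMap.1 (LocallyOfFiniteType.stalkMap e u)
  have : Algebra.FormallyUnramified (V.presheaf.stalk (e u)) (U.presheaf.stalk u) :=
    RingHom.formallyUnramified_algebraMap.1 (FormallyUnramified.stalkMap e u)
  exact Algebra.FormallyUnramified.map_maximalIdeal

theorem isNoetherianRing_quot_of_etale {B B' : Type u} [CommRing B] [CommRing B'] (β : B →+* B')
    (hβ : β.EssFiniteType) (J : Ideal B) [IsNoetherianRing (B ⧸ J)] : IsNoetherianRing (B' ⧸ J.map β) := by
  letI : Algebra B B' := β.toAlgebra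
  haveI : Algebra.EssFiniteType B B' := hβ
  letI : Algebra (B ⧸ J) (B' ⧸ J.map β) := inferInstanceAs (Algebra (B ⧸ J) (B' ⧸ J.map (algebraMap B B')))
  haveI : IsScalarTower B (B ⧸ J) (B' ⧸ J.map β) := IsScalarTower.of_algebraMap_eq fun b => rfl
  haveI : Algebra.EssFiniteType B' (B' ⧸ J.map β) := inferInstance
  haveI : Algebra.EssFiniteType B (B' ⧸ J.map β) := Algebra.EssFiniteType.comp B B' _
  haveI : Algebra.EssFiniteType (B ⧸ J) (B' ⧸ J.map β) := Algebra.EssFiniteType.of_comp B _ _
  exact Algebra.EssFiniteType.isNoetherianRing (B ⧸ J) _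

theorem gorAt_iff_of_etale_square {U V U' V' : Scheme.{u}} {h : U ⟶ V} {h' : U' ⟶ V'} (e₁ : U' ⟶ U)
    (e₂ : V' ⟶ V) [Etale e₁] [Etale e₂] (w : e₁ ≫ h = h' ≫ e₂) (u' : U') :
    Dual3.IsGorensteinAt h (e₁ u') ↔ Dual3.IsGorensteinAt h' u' := by
  rw [gorAt_iff_gorHom, gorAt_iff_gorHom]
  have hy : e₂ (h' u') = h (e₁ u') := by
    rw [← Scheme.Hom.comp_apply, ← w, Scheme.Hom.comp_apply]
  let c := V.presheaf.stalkCongr (.of_eq hy.symm)
  have hsq : c.hom ≫ e₂.stalkMap (h' u') ≫ h'.stalkMap u' = h.stalkMap (e₁ u') ≫ e₁.stalkMap u' := by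
    rw [← Scheme.Hom.stalkMap_comp, ← Scheme.Hom.stalkMap_comp]
    exact (Scheme.Hom.stalkMap_congr_hom _ _ w u').symm
  have : IsLocalHom c.hom.hom := inferInstance
  have hsq' : (h'.stalkMap u').hom.comp ((e₂.stalkMap (h' u')).hom.comp c.hom.hom) =
      (e₁.stalkMap u').hom.comp (h.stalkMap (e₁ u')).hom := by
    have := congrArg CommRingCat.Hom.hom hsq
    simp only [CommRingCat.hom_comp] at this
    exact this
  have hcb : Function.Bijective c.hom.hom := ConcreteCategory.bijective_of_isIso c.hom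
  have hcm : (maximalIdeal _).map c.hom.hom = maximalIdeal _ :=
    IsLocalRing.map_maximalIdeal_of_surjective _ hcb.2
  refine (gorHom_iff_square (h.stalkMap (e₁ u')).hom (h'.stalkMap u').hom
    ((e₂.stalkMap (h' u')).hom.comp c.hom.hom) (e₁.stalkMap u').hom hsq'
    (RingHom.Flat.comp (RingHom.Flat.of_bijective hcb) (Flat.stalkMap e₂ _)) ?_ ?_
    (Flat.stalkMap e₁ _) (map_maximalIdeal_etale e₁ u') ?_).symm
  · rw [← Ideal.map_map, hcm, map_maximalIdeal_etale]
  · intro hf
    refine (flat_stalkMap_comp_etale_iff h' e₂ u').1 ?_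
    rw [Scheme.Hom.stalkMap_comp]
    have hcs : ((h'.stalkMap u').hom.comp (e₂.stalkMap (h' u')).hom) =
        ((h'.stalkMap u').hom.comp ((e₂.stalkMap (h' u')).hom.comp c.hom.hom)).comp c.inv.hom := by
      refine RingHom.ext fun x => ?_
      simp only [RingHom.comp_apply]
      congr 2
      exact (RingHom.congr_fun (congrArg CommRingCat.Hom.hom c.inv_hom_id) x).symm
    show ((h'.stalkMap u').hom.comp (e₂.stalkMap (h' u')).hom).Flat
    rw [hcs]
    exact RingHom.Flat.comp (RingHom.Flat.of_bijective (ConcreteCategory.bijective_of_isIso c.inv)) hf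
  · intro _
    exact isNoetherianRing_quot_of_etale _ (LocallyOfFiniteType.stalkMap e₁ u') _

variable {S : Scheme.{u}} {X Y Z : Sp S}

theorem locPAt_gor_iff (hX : IsAlgSpace X) (hY : IsAlgSpace Y) (f : X ⟶ Y) {U V : Over S}
    (a : (yon S).obj U ⟶ X) (b : (yon S).obj V ⟶ Y) (h : U ⟶ V) (ha : RepWith @Etale a)
    (hb : RepWith @Etale b) (w : a ≫ f = (yon S).map h ≫ b) (u : ↥U.left) :
    LocPAt (fun h u => Dual3.IsGorensteinAt h u) f (Points.ofPt a u) ↔ Dual3.IsGorensteinAt h.left u := by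
  refine ⟨fun H => H a b h u ha hb w rfl, fun H U' V' a' b' h' u' ha' hb' w' e => ?_⟩
  have hra := hX.representable_from_yon a
  have hrb := hY.representable_from_yon b
  have sqP := hra.isPullback' a'
  have sqQ := hrb.isPullback' b'
  obtain ⟨p, hp1, hp2⟩ := (ofPt_eq_ofPt_iff sqP u u').1 e.symm
  let k : hra.pullback a' ⟶ hrb.pullback b' := hrb.lift' (hra.fst' a' ≫ h) (hra.snd a' ≫ h') (by
    rw [Functor.map_comp, Functor.map_comp, Category.assoc, Category.assoc, ← w, ← w', ← Category.assoc,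
      sqP.w, Category.assoc])
  have k1 : k ≫ hrb.fst' b' = hra.fst' a' ≫ h := Functor.relativelyRepresentable.lift'_fst _ _ _ _
  have k2 : k ≫ hrb.snd b' = hra.snd a' ≫ h' := Functor.relativelyRepresentable.lift'_snd _ _ _ _
  have : Etale (hra.fst' a').left := ha'.property _ _ _ sqP.flip
  have : Etale (hra.snd a').left := ha.property_snd a'
  have : Etale (hrb.fst' b').left := hb'.property _ _ _ sqQ.flip
  have : Etale (hrb.snd b').left := hb.property_snd b'
  have s1 := gorAt_iff_of_etale_square (hra.fst' a').left (hrb.fst' b').left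
    (show (hra.fst' a').left ≫ h.left = k.left ≫ (hrb.fst' b').left from congrArg (fun t => t.left) k1.symm) p
  have s2 := gorAt_iff_of_etale_square (hra.snd a').left (hrb.snd b').left
    (show (hra.snd a').left ≫ h'.left = k.left ≫ (hrb.snd b').left from congrArg (fun t => t.left) k2.symm) p
  rw [hp1] at s1
  rw [hp2] at s2
  exact s2.2 (s1.1 H)

/-- the fibres of a chart of a morphism with locally Noetherian fibres are locally Noetherian -/
theorem isLocallyNoetherian_fiber_of_chart (hX : IsAlgSpace X) (hY : IsAlgSpace Y) (f : X ⟶ Y)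
    (hf : ∀ (k : FieldPt Y) (Xk : Sp S) (a : Xk ⟶ X) (b : Xk ⟶ (yon S).obj k.pt),
      IsPullback a b f k.toHom → IsLocNoethSp Xk)
    {U V : Over S} (a : (yon S).obj U ⟶ X) (b : (yon S).obj V ⟶ Y) (h : U ⟶ V) (ha : RepWith @Etale a)
    (hb : RepWith @Etale b) (w : a ≫ f = (yon S).map h ≫ b) (v : ↥V.left) :
    IsLocallyNoetherian (h.left.fiber v) := by
  have sqW := IsPullback.of_hasPullback f b
  have hXV : IsAlgSpace (pullback f b) := isAlgSpace_of_isPullback hY.diag hX (IsAlgSpace.yon_obj V) sqW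
  let ψ : (yon S).obj U ⟶ pullback f b := sqW.lift a ((yon S).map h) w
  have hψL : LocP @Etale ψ :=
    locP_of_comp' etLocal_etale (IsAlgSpace.yon_obj U) hXV hX (fun A B C a b h1 h2 => by
      have : Etale (a ≫ b) := h1
      have : Etale b := h2
      exact Etale.of_comp a b) (g := pullback.fst f b)
      (by rw [sqW.lift_fst]; exact locP_of_repWith etLocal_etale (IsAlgSpace.yon_obj U) ha)
      (locP_of_isPullback etLocal_etale (IsAlgSpace.yon_obj V) hY hXV sqW.flip
        (locP_of_repWith etLocal_etale (IsAlgSpace.yon_obj V) hb))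
  have hψ : RepWith @Etale ψ :=
    (repWith_iff_locP etLocal_etale (IsAlgSpace.yon_obj U) hXV (hXV.representable_from_yon ψ)).2 hψL
  let T : Over S := Over.mk (V.left.fromSpecResidueField v ≫ V.hom)
  let ι : T ⟶ V := Over.homMk (V.left.fromSpecResidueField v) rfl
  let k : FieldPt Y := ⟨V.left.residueField v, V.left.fromSpecResidueField v ≫ V.hom,
    (J S).uliftYonedaEquiv.{u + 1} ((yon S).map ι ≫ b)⟩
  have hk : k.toHom = (yon S).map ι ≫ b := toHom_of_yonedaEquiv _
  have sqT := IsPullback.of_hasPullback f ((yon S).map ι ≫ b)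
  have hXT : IsAlgSpace (pullback f ((yon S).map ι ≫ b)) :=
    isAlgSpace_of_isPullback hY.diag hX (IsAlgSpace.yon_obj T) sqT
  have hN : IsLocNoethSp (pullback f ((yon S).map ι ≫ b)) := hf k _ _ _ (by rw [hk]; exact sqT)
  have sqU := IsPullback.of_hasPullback h ι
  obtain ⟨a', -, -, ha'⟩ := exists_baseChange_chart (sqW.lift_snd a ((yon S).map h) w) sqU sqT hψ
  have := isLocallyNoetherian_of_chart hXT hN a' ha'
  exact isLocallyNoetherian_of_isOpenImmersion
    ((IsPullback.of_hasPullback h.left (V.left.fromSpecResidueField v)).isoIsPullback _ _ (isPullback_left sqU)).hom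

theorem isNoetherianRing_quot_of_chart (hX : IsAlgSpace X) (hY : IsAlgSpace Y) (f : X ⟶ Y)
    (hf : ∀ (k : FieldPt Y) (Xk : Sp S) (a : Xk ⟶ X) (b : Xk ⟶ (yon S).obj k.pt),
      IsPullback a b f k.toHom → IsLocNoethSp Xk)
    {U V : Over S} (a : (yon S).obj U ⟶ X) (b : (yon S).obj V ⟶ Y) (h : U ⟶ V) (ha : RepWith @Etale a)
    (hb : RepWith @Etale b) (w : a ≫ f = (yon S).map h ≫ b) (u : ↥U.left) :
    IsNoetherianRing (↥(U.left.presheaf.stalk u) ⧸
      (maximalIdeal ↥(V.left.presheaf.stalk (h.left u))).map (h.left.stalkMap u).hom) := by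
  have := isLocallyNoetherian_fiber_of_chart hX hY f hf a b h ha hb w (h.left u)
  exact (isNoetherianRing_fibre_quot_iff h.left u).1 inferInstance

end Groth.Agent.AlgSpLib
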