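import Groth.Agent.AlgSpLib.GorThms
import Groth.Agent.DualLib.GorFieldExt
import Groth.Agent.FlatLocal.FlatBaseChangeAt
import Groth.Agent.CAlgH.CIBaseChange
import Groth.Agent.EGA43.DvrCrit.GeomFibre

/-!
Base change of Gorenstein morphisms along morphisms locally of finite type.
-/

set_option linter.style.haveILetI false

universe u

open CategoryTheory CategoryTheory.Limits AlgebraicGeometry
open AlgSp

noncomputable section

namespace Groth.Agent.AlgSpLib

set_option backward.isDefEq.respectTransparency.types false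

open IsLocalRing
open scoped TensorProduct

local notation "Gor" => _root_.LocCoh.IsGorensteinLocalRing

theorem gor_stalk_of_iso {Z W : Scheme.{u}} (e : Z ≅ W) (z : Z) :
    Gor (Z.presheaf.stalk z) ↔ Gor (W.presheaf.stalk (e.hom z)) :=
  (DualLib.GorFlat.gor_congr (asIso (e.hom.stalkMap z)).commRingCatIsoToRingEquiv).symm

theorem isLocallyNoetherian_baseChange_field {k k' : Type u} [Field k] [Field k'] [Algebra k k']
    [Algebra.EssFiniteType k k'] {X : Scheme.{u}} [IsLocallyNoetherian X] (f : X ⟶ Spec (CommRingCat.of k)) :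
    IsLocallyNoetherian (pullback f (Spec.map (CommRingCat.ofHom (algebraMap k k')))) := by
  let h := Spec.map (CommRingCat.ofHom (algebraMap k k'))
  let 𝒰 := X.affineCover
  refine (isLocallyNoetherian_iff_openCover (Scheme.Pullback.openCoverOfLeft.{u} 𝒰 f h)).2 fun i => ?_
  show IsLocallyNoetherian (pullback (𝒰.f i ≫ f) h)
  have : IsLocallyNoetherian (𝒰.X i) := isLocallyNoetherian_of_isOpenImmersion (𝒰.f i)
  have : IsAffine (𝒰.X i) := inferInstance
  let φ : CommRingCat.of k ⟶ Γ(𝒰.X i, ⊤) := Spec.preimage ((𝒰.X i).isoSpec.inv ≫ 𝒰.f i ≫ f)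
  letI : Algebra k Γ(𝒰.X i, ⊤) := φ.hom.toAlgebra
  have : IsNoetherianRing Γ(𝒰.X i, ⊤) := IsLocallyNoetherian.component_noetherian ⟨⊤, isAffineOpen_top _⟩
  have : IsNoetherianRing (Γ(𝒰.X i, ⊤) ⊗[k] k') :=
    Algebra.EssFiniteType.isNoetherianRing Γ(𝒰.X i, ⊤) _
  let e : pullback (𝒰.f i ≫ f) h ≅ Spec (CommRingCat.of (Γ(𝒰.X i, ⊤) ⊗[k] k')) :=
    asIso (pullback.map _ _ (Spec.map (CommRingCat.ofHom (algebraMap k Γ(𝒰.X i, ⊤)))) h
      (𝒰.X i).isoSpec.hom (𝟙 _) (𝟙 _)
      (by
        rw [show Spec.map (CommRingCat.ofHom (algebraMap k Γ(𝒰.X i, ⊤))) = (𝒰.X i).isoSpec.inv ≫ 𝒰.f i ≫ f from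
          Spec.map_preimage _, Iso.hom_inv_id_assoc, Category.comp_id])
      (by rw [Category.comp_id, Category.id_comp])) ≪≫ pullbackSpecIso k _ k'
  exact isLocallyNoetherian_of_isOpenImmersion e.hom

/-- Gorenstein local rings and finitely generated extensions of the base field -/
theorem gor_stalk_baseChange_field_iff {k k' : Type u} [Field k] [Field k'] [Algebra k k']
    [Algebra.EssFiniteType k k'] {X : Scheme.{u}} [IsLocallyNoetherian X] (f : X ⟶ Spec (CommRingCat.of k))
    (x' : ↥(pullback f (Spec.map (CommRingCat.ofHom (algebraMap k k'))))) :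
    Gor ((pullback f (Spec.map (CommRingCat.ofHom (algebraMap k k')))).presheaf.stalk x') ↔
      Gor (X.presheaf.stalk ((pullback.fst f (Spec.map (CommRingCat.ofHom (algebraMap k k')))) x')) := by
  let h := Spec.map (CommRingCat.ofHom (algebraMap k k'))
  let p := pullback.fst f h
  have := isLocallyNoetherian_baseChange_field (k' := k') f
  have : Flat h := by
    rw [Flat.SpecMap_iff]
    exact RingHom.flat_algebraMap_iff.2 inferInstance
  have : Flat p := MorphismProperty.pullback_fst _ _ this
  letI := (p.stalkMap x').hom.toAlgebra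
  have : Module.Flat (X.presheaf.stalk (p x')) ((pullback f h).presheaf.stalk x') := Flat.stalkMap p x'
  have : IsLocalHom (algebraMap (X.presheaf.stalk (p x')) ((pullback f h).presheaf.stalk x')) :=
    p.toLRSHom.prop x'
  rw [DualLib.GorFlat.gor_flat_iff (A := X.presheaf.stalk (p x')) (B := (pullback f h).presheaf.stalk x')]
  refine and_iff_left ?_
  obtain ⟨e⟩ := CAlgH.CIScheme.fiberStalk_equiv p x'
  refine (DualLib.GorFlat.gor_congr e).2 ?_
  let x := p x'
  let φ : CommRingCat.of k ⟶ X.residueField x := Spec.preimage (X.fromSpecResidueField x ≫ f)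
  letI : Algebra k (X.residueField x) := φ.hom.toAlgebra
  have hφ : Spec.map (CommRingCat.ofHom (algebraMap k (X.residueField x))) = X.fromSpecResidueField x ≫ f :=
    Spec.map_preimage _
  let e' : p.fiber x ≅ Spec (CommRingCat.of ((X.residueField x) ⊗[k] k')) :=
    pullbackSymmetry _ _ ≪≫ pullbackRightPullbackFstIso f _ (X.fromSpecResidueField x) ≪≫
      pullback.congrHom hφ.symm rfl ≪≫ pullbackSpecIso k (X.residueField x) k'
  refine (gor_stalk_of_iso e' (p.asFiber x')).2 ?_
  let q := PrimeSpectrum.asIdeal (R := (X.residueField x) ⊗[k] k') (e'.hom (p.asFiber x'))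
  refine (DualLib.GorFlat.gor_congr (IsLocalization.algEquiv q.primeCompl
    ((Spec.structureSheaf ((X.residueField x) ⊗[k] k')).presheaf.stalk (e'.hom (p.asFiber x'))) _).toRingEquiv).2
    ((DualLib.GorRing.gorensteinRing_field_tensor_fg (X.residueField x)).isGorensteinLocalRing_localization q)

theorem flat_stalkMap_snd {X Y Y' : Scheme.{u}} (f : X ⟶ Y) (g : Y' ⟶ Y) (w : ↑(pullback f g))
    (hf : (f.stalkMap (pullback.fst f g w)).hom.Flat) : ((pullback.snd f g).stalkMap w).hom.Flat := by
  let s := (pullbackSymmetry f g).hom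
  have h1 : pullback.snd g f (s w) = pullback.fst f g w := by
    rw [← Scheme.Hom.comp_apply, pullbackSymmetry_hom_comp_snd]
  have h2 := FlatLocal.flat_stalkMap_fst g f (s w) (by rw [h1]; exact hf)
  have h3 : ((s ≫ pullback.fst g f).stalkMap w).hom.Flat := by
    rw [Scheme.Hom.stalkMap_comp]
    exact RingHom.Flat.comp h2 (Flat.stalkMap s w)
  have : ∀ (a b : pullback f g ⟶ Y'), a = b → (a.stalkMap w).hom.Flat → (b.stalkMap w).hom.Flat := by
    rintro a b rfl hh; exact hh
  exact this _ _ (pullbackSymmetry_hom_comp_fst f g) h3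

/-- the fibre condition is invariant under base change by a morphism locally of finite type -/
theorem gor_fibre_baseChange_iff {X Y Y' : Scheme.{u}} (f : X ⟶ Y) (g : Y' ⟶ Y) [LocallyOfFiniteType g]
    (w : ↑(pullback f g)) (hN : IsLocallyNoetherian (f.fiber (f (pullback.fst f g w)))) :
    Gor (((pullback.snd f g).fiber (pullback.snd f g w)).presheaf.stalk ((pullback.snd f g).asFiber w)) ↔
      Gor ((f.fiber (f (pullback.fst f g w))).presheaf.stalk (f.asFiber (pullback.fst f g w))) := by
  have h : g (pullback.snd f g w) = f (pullback.fst f g w) := by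
    rw [← Scheme.Hom.comp_apply, ← Scheme.Hom.comp_apply, pullback.condition]
  let y := f (pullback.fst f g w)
  let s := pullback.snd f g w
  letI : Algebra (IsLocalRing.ResidueField (Y.presheaf.stalk y)) (Y'.residueField s) :=
    (EGA43.DvrCrit.resExt g s h).hom.toAlgebra
  obtain ⟨e, he⟩ := EGA43.DvrCrit.exists_fiber_iso f g s h
  have : Algebra.EssFiniteType (IsLocalRing.ResidueField (Y.presheaf.stalk y)) (Y'.residueField s) := by
    show (EGA43.DvrCrit.resExt g s h).hom.EssFiniteType
    rw [EGA43.DvrCrit.resExt, CommRingCat.hom_comp]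
    refine RingHom.EssFiniteType.stableUnderComposition _ _
      (RingHom.FiniteType.of_surjective _ (ConcreteCategory.bijective_of_isIso _).2).essFiniteType ?_
    have h1 : ((g.residueFieldMap s).hom.comp (Y.residue (g s)).hom).EssFiniteType := by
      have : Y.residue (g s) ≫ g.residueFieldMap s = g.stalkMap s ≫ Y'.residue s :=
        (Scheme.residue_residueFieldMap g s)
      rw [← CommRingCat.hom_comp, this, CommRingCat.hom_comp]
      exact RingHom.EssFiniteType.stableUnderComposition _ _ (LocallyOfFiniteType.stalkMap g s)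
        (RingHom.FiniteType.of_surjective _ (Scheme.residue_surjective Y' s)).essFiniteType
    algebraize [(Y.residue (g s)).hom, (g.residueFieldMap s).hom,
      (g.residueFieldMap s).hom.comp (Y.residue (g s)).hom]
    exact Algebra.EssFiniteType.of_comp (Y.presheaf.stalk (g s)) _ _
  refine (gor_stalk_of_iso e _).trans ((gor_stalk_baseChange_field_iff (f.fiberToSpecResidueField y)
    (e.hom ((pullback.snd f g).asFiber w))).trans ?_)
  have hx : pullback.fst (f.fiberToSpecResidueField y) _ (e.hom ((pullback.snd f g).asFiber w)) =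
      f.asFiber (pullback.fst f g w) := by
    apply (f.fiberι y).isEmbedding.injective
    rw [f.fiberι_asFiber]
    show (FBase.bcπ (f.fiberToSpecResidueField y) (Y'.residueField s) ≫ f.fiberι y)
      (e.hom ((pullback.snd f g).asFiber w)) = pullback.fst f g w
    rw [← Scheme.Hom.comp_apply, he, Scheme.Hom.comp_apply, Scheme.Hom.fiberι_asFiber]
  exact iff_of_eq (congrArg (fun z : ↥(f.fiber y) => Gor ((f.fiber y).presheaf.stalk z)) hx)

variable {S : Scheme.{u}}

theorem gorensteinAt_baseChange {X Y X' Y' : Sp S} (hX : IsAlgSpace X) (hY : IsAlgSpace Y) (hX' : IsAlgSpace X')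
    (hY' : IsAlgSpace Y') (f : X ⟶ Y) (g : Y' ⟶ Y) (g' : X' ⟶ X) (f' : X' ⟶ Y')
    (hsq : IsPullback g' f' f g)
    (hf : ∀ (k : FieldPt Y) (Xk : Sp S) (a : Xk ⟶ X) (b : Xk ⟶ (yon S).obj k.pt),
      IsPullback a b f k.toHom → IsLocNoethSp Xk)
    (hg : LocP @LocallyOfFiniteType g) (x' : Points X') :
    (LocPAt (fun h u => Dual3.IsGorensteinAt h u) f (Points.map g' x') →
      LocPAt (fun h u => Dual3.IsGorensteinAt h u) f' x') ∧
    (IsFlatAtMor f (Points.map g' x') → LocPAt (fun h u => Dual3.IsGorensteinAt h u) f' x' →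
      LocPAt (fun h u => Dual3.IsGorensteinAt h u) f (Points.map g' x')) ∧
    (IsFlatAtMor g (Points.map f' x') → LocPAt (fun h u => Dual3.IsGorensteinAt h u) f' x' →
      LocPAt (fun h u => Dual3.IsGorensteinAt h u) f (Points.map g' x')) := by
  obtain ⟨V, b, hbe, hbs⟩ := hY.atlas
  obtain ⟨v, hv⟩ := surjective_ofPt b hbs (Points.map g (Points.map f' x'))
  have sqY' := IsPullback.of_hasPullback g b
  have hYV : IsAlgSpace (pullback g b) := isAlgSpace_of_isPullback hY.diag hY' (IsAlgSpace.yon_obj V) sqY'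
  obtain ⟨yv, hyv, -⟩ := exists_point_of_isPullback sqY'
    (show Points.map g (Points.map f' x') = Points.map b (Points.ofScheme V v) by
      rw [← hv, Points.ofPt_eq_map_ofScheme])
  obtain ⟨V', β, hβe, hβs⟩ := hYV.atlas
  obtain ⟨v', hv'⟩ := surjective_ofPt β hβs yv
  obtain ⟨k, hk⟩ := (yon S).map_surjective (β ≫ pullback.snd g b)
  let b' := β ≫ pullback.fst g b
  have hb'e : RepWith @Etale b' := RepWith.comp hβe (RepWith.baseChange sqY'.flip hbe)
  have hbk : b' ≫ g = (yon S).map k ≫ b := by rw [hk, Category.assoc, Category.assoc, sqY'.w]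
  have hb'v : Points.map f' x' = Points.map b' (Points.ofScheme V' v') := by
    rw [Points.map_comp, ← Points.ofPt_eq_map_ofScheme, hv', hyv]
  have sq := IsPullback.of_hasPullback f b
  have hXV : IsAlgSpace (pullback f b) := isAlgSpace_of_isPullback hY.diag hX (IsAlgSpace.yon_obj V) sq
  obtain ⟨U, ψ, hψe, hψs⟩ := hXV.atlas
  obtain ⟨h, hh⟩ := (yon S).map_surjective (ψ ≫ pullback.snd f b)
  let a := ψ ≫ pullback.fst f b
  have hae : RepWith @Etale a := RepWith.comp hψe (RepWith.baseChange sq.flip hbe)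
  have hwa : a ≫ f = (yon S).map h ≫ b := by rw [hh, Category.assoc, Category.assoc, sq.w]
  have sqX' := IsPullback.of_hasPullback f' b'
  have sqT : IsPullback (pullback.fst f' b' ≫ g') (pullback.snd f' b') f ((yon S).map k ≫ b) := by
    rw [← hbk]; exact sqX'.paste_horiz hsq
  have sqU := IsPullback.of_hasPullback h k
  obtain ⟨a'', ha1, ha2, ha''⟩ := exists_baseChange_chart hh.symm sqU sqT (P := @Etale ⊓ @Surjective)
    (RepWith.and hψe hψs)
  let a' := a'' ≫ pullback.fst f' b'
  have ha'e : RepWith @Etale a' :=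
    RepWith.comp (RepWith.mono inf_le_left ha'') (RepWith.baseChange sqX'.flip hb'e)
  have hwa' : a' ≫ f' = (yon S).map (pullback.snd h k) ≫ b' := by
    rw [Category.assoc, sqX'.w, ← Category.assoc, ha2]
  obtain ⟨z, hz, -⟩ := exists_point_of_isPullback sqX' hb'v
  obtain ⟨u', hu'⟩ := surjective_ofPt a'' (RepWith.mono inf_le_right ha'') z
  have hx' : Points.ofPt a' u' = x' := by
    rw [Points.ofPt_eq_map_ofScheme, Points.map_comp, ← Points.ofPt_eq_map_ofScheme, hu', hz]
  have hx : Points.map g' x' = Points.ofPt a ((pullback.fst h k).left u') := by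
    rw [← hx', ← ofPt_map, Points.ofPt_eq_map_ofScheme, Points.ofPt_eq_map_ofScheme, ← Points.map_comp,
      Category.assoc, ha1]
  have hy : Points.map f' x' = Points.ofPt b' ((pullback.snd h k).left u') := by
    rw [← hx', ← ofPt_map, ← hwa', Points.ofPt_eq_map_ofScheme, Points.ofPt_eq_map_ofScheme, ← Points.map_comp]
  rw [hx, hy, ← hx', locPAt_gor_iff hX hY f a b h hae hbe hwa,
    locPAt_gor_iff hX' hY' f' a' b' (pullback.snd h k) ha'e hb'e hwa',
    isFlatAtMor_iff hX hY f a b h hae hbe hwa, isFlatAtMor_iff hY' hY g b' b k hb'e hbe hbk]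
  have : LocallyOfFiniteType k.left := hg b' b k hb'e hbe hbk
  let j := (isPullback_left sqU).isoPullback
  have j1 : j.hom ≫ pullback.fst h.left k.left = (pullback.fst h k).left := IsPullback.isoPullback_hom_fst _
  have j2 : j.hom ≫ pullback.snd h.left k.left = (pullback.snd h k).left := IsPullback.isoPullback_hom_snd _
  let w := j.hom u'
  have e1 : (pullback.fst h k).left u' = pullback.fst h.left k.left w := by
    rw [← j1]; rfl
  have e2 : (pullback.snd h k).left u' = pullback.snd h.left k.left w := by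
    rw [← j2]; rfl
  have hq : Dual3.IsGorensteinAt (pullback.snd h k).left u' ↔ Dual3.IsGorensteinAt (pullback.snd h.left k.left) w :=
    (gorAt_iff_of_etale_square j.hom (𝟙 _)
      (show j.hom ≫ pullback.snd h.left k.left = (pullback.snd h k).left ≫ 𝟙 _ by rw [Category.comp_id, j2]) u').symm
  rw [hq, e1, e2]
  have hN := isLocallyNoetherian_fiber_of_chart hX hY f hf a b h hae hbe hwa (h.left (pullback.fst h.left k.left w))
  have key := gor_fibre_baseChange_iff h.left k.left w hN
  refine ⟨fun H => ⟨flat_stalkMap_snd _ _ w H.1, key.2 H.2⟩, fun H1 H => ⟨H1, key.1 H.2⟩, fun H1 H => ?_⟩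
  exact ⟨FlatLocal.flat_stalkMap_of_baseChange h.left k.left w H1 H.1, key.1 H.2⟩

end Groth.Agent.AlgSpLib
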