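import Groth.Agent.DualLib.GorFlat
import Groth.Agent.DualLib.GorRing
import Groth.Agent.AlgSpLib.SourceRing
import Groth.Agent.HenselLib.Perm
import Groth.Agent.HenselLib.HullProps
import Groth.Agent.HenselLib.HullWEt
import Groth.Agent.HenselLib.WEtNoeth
import Groth.Agent.S0538
import Groth.Agent.S0539
import Groth.Agent.S0540
import Mathlib.RingTheory.RingHom.FaithfullyFlat
import Mathlib.RingTheory.Flat.Stability

/-!
"Flat with Gorenstein closed fibre" for local homomorphisms of local rings: invariance under etale and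
strictly henselian enlargements, composition.
-/

set_option autoImplicit false
set_option backward.isDefEq.respectTransparency false
set_option linter.style.haveILetI false

universe u

open IsLocalRing TensorProduct

namespace Groth.Agent.AlgSpLib

local notation "Gor" => _root_.LocCoh.IsGorensteinLocalRing

/-- flat with Gorenstein closed fibre -/
def GorHom {A B : Type u} [CommRing A] [IsLocalRing A] [CommRing B] (g : A →+* B) : Prop :=
  g.Flat ∧ Gor (B ⧸ (maximalIdeal A).map g)

theorem gor_field (K : Type u) [Field K] : Gor K :=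
  DualLib.GorRing.gor_of_isRegularLocalRing K

section quotient

variable {B B' : Type u} [CommRing B] [IsLocalRing B] [CommRing B'] [IsLocalRing B'] (β : B →+* B')
  [IsLocalHom β]

/-- a quotient of a flat local homomorphism: the data needed for `gor_flat_iff` -/
theorem exists_quot_data (hβ : β.Flat) (J : Ideal B) (hJ : J ≤ maximalIdeal B) :
    ∃ (_ : Algebra (B ⧸ J) (B' ⧸ J.map β)) (_ : IsLocalRing (B ⧸ J)) (_ : IsLocalRing (B' ⧸ J.map β)),
      Module.Flat (B ⧸ J) (B' ⧸ J.map β) ∧ IsLocalHom (algebraMap (B ⧸ J) (B' ⧸ J.map β)) ∧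
      (∀ b : B, algebraMap (B ⧸ J) (B' ⧸ J.map β) (Ideal.Quotient.mk J b) = Ideal.Quotient.mk _ (β b)) := by
  have hJ' : J.map β ≤ maximalIdeal B' :=
    (Ideal.map_mono hJ).trans (((IsLocalRing.local_hom_TFAE β).out 0 2).mp ‹_›)
  have hL := DualLib.GorFlat.isLocalRing_quot hJ
  have hL' := DualLib.GorFlat.isLocalRing_quot hJ'
  letI : Algebra B B' := β.toAlgebra
  letI qa : Algebra (B ⧸ J) (B' ⧸ J.map β) := inferInstanceAs (Algebra (B ⧸ J) (B' ⧸ J.map (algebraMap B B')))
  haveI : IsScalarTower B (B ⧸ J) (B' ⧸ J.map β) :=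
    IsScalarTower.of_algebraMap_eq fun b => rfl
  haveI : Module.Flat B B' := hβ
  refine ⟨qa, hL, hL', ?_, ⟨fun b hb => ?_⟩, fun b => rfl⟩
  · exact Module.Flat.of_linearEquiv (R := B ⧸ J)
      (Algebra.TensorProduct.quotIdealMapEquivQuotTensor B' J).toLinearEquiv
  · obtain ⟨b, rfl⟩ := Ideal.Quotient.mk_surjective b
    refine IsUnit.map _ (isUnit_of_map_unit β b ?_)
    exact DualLib.GorFlat.isUnit_of_mk hJ' hb

theorem isNoetherianRing_quot_descend (hβ : β.Flat) (J : Ideal B) (hJ : J ≤ maximalIdeal B)
    [IsNoetherianRing (B' ⧸ J.map β)] : IsNoetherianRing (B ⧸ J) := by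
  obtain ⟨_, _, _, hflat, hloc, -⟩ := exists_quot_data β hβ J hJ
  haveI : Module.FaithfullyFlat (B ⧸ J) (B' ⧸ J.map β) := Module.FaithfullyFlat.of_flat_of_isLocalHom
  exact HenselLib.isNoetherianRing_of_faithfullyFlat (B ⧸ J) (B' ⧸ J.map β)

/-- the fibre of `B/J → B'/JB'` -/
theorem exists_quot_fibre_equiv (J : Ideal B) (hJ : J ≤ maximalIdeal B) (M : Ideal B) (hM : J ≤ M) :
    Nonempty (((B' ⧸ J.map β) ⧸ (M.map β).map (Ideal.Quotient.mk (J.map β))) ≃+* (B' ⧸ M.map β)) :=
  ⟨DoubleQuot.quotQuotEquivQuotOfLE (Ideal.map_mono hM)⟩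

/-- Gorenstein along a quotient of a flat local homomorphism with trivial closed fibre -/
theorem gor_quot_iff_of_flat (hβ : β.Flat) (hm : (maximalIdeal B).map β = maximalIdeal B') (J : Ideal B)
    (hJ : J ≤ maximalIdeal B) (hN : IsNoetherianRing (B ⧸ J) → IsNoetherianRing (B' ⧸ J.map β)) :
    Gor (B' ⧸ J.map β) ↔ Gor (B ⧸ J) := by
  suffices key : IsNoetherianRing (B' ⧸ J.map β) → IsNoetherianRing (B ⧸ J) →
      (Gor (B' ⧸ J.map β) ↔ Gor (B ⧸ J)) by
    constructor
    · intro h
      haveI := h
      haveI : IsNoetherianRing (B' ⧸ J.map β) := inferInstance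
      exact (key ‹_› (isNoetherianRing_quot_descend β hβ J hJ)).1 h
    · intro h
      haveI := h
      exact (key (hN inferInstance) inferInstance).2 h
  intro h1 h2
  obtain ⟨_, _, _, hflat, hloc, hmk⟩ := exists_quot_data β hβ J hJ
  rw [DualLib.GorFlat.gor_flat_iff (A := B ⧸ J) (B := B' ⧸ J.map β)]
  refine and_iff_left ?_
  have hmax : (maximalIdeal (B ⧸ J)).map (algebraMap (B ⧸ J) (B' ⧸ J.map β)) =
      ((maximalIdeal B).map β).map (Ideal.Quotient.mk (J.map β)) := by
    rw [← IsLocalRing.map_maximalIdeal_of_surjective _ (Ideal.Quotient.mk_surjective (I := J)), Ideal.map_map,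
      Ideal.map_map]
    congr 1
    exact RingHom.ext hmk
  obtain ⟨e⟩ := exists_quot_fibre_equiv β J hJ (maximalIdeal B) hJ
  rw [hmax, DualLib.GorFlat.gor_congr e, DualLib.GorFlat.gor_congr (Ideal.quotEquivOfEq hm)]
  letI := Ideal.Quotient.field (maximalIdeal B')
  exact gor_field _

end quotient

/-- `GorHom` is invariant in a square of flat local enlargements with trivial closed fibres -/
theorem gorHom_iff_square {A A' B B' : Type u} [CommRing A] [IsLocalRing A] [CommRing A'] [IsLocalRing A']
    [CommRing B] [IsLocalRing B] [CommRing B'] [IsLocalRing B']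
    (g : A →+* B) (g' : A' →+* B') (α : A →+* A') (β : B →+* B') [IsLocalHom g] [IsLocalHom β]
    (w : g'.comp α = β.comp g) (hα : α.Flat) (hαm : (maximalIdeal A).map α = maximalIdeal A')
    (hcancel : (g'.comp α).Flat → g'.Flat) (hβ : β.Flat) (hβm : (maximalIdeal B).map β = maximalIdeal B')
    (hN : IsNoetherianRing (B ⧸ (maximalIdeal A).map g) →
      IsNoetherianRing (B' ⧸ ((maximalIdeal A).map g).map β)) :
    GorHom g' ↔ GorHom g := by
  have hJ : (maximalIdeal A).map g ≤ maximalIdeal B := ((IsLocalRing.local_hom_TFAE g).out 0 2).mp ‹_›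
  have hJ' : (maximalIdeal A').map g' = ((maximalIdeal A).map g).map β := by
    rw [← hαm, Ideal.map_map, Ideal.map_map, w]
  have hflat : g'.Flat ↔ g.Flat := by
    refine ⟨fun h => ?_, fun h => hcancel (by rw [w]; exact RingHom.Flat.comp h hβ)⟩
    have hcomp : (β.comp g).Flat := by rw [← w]; exact RingHom.Flat.comp hα h
    refine flat_of_comp g β ?_ hcomp
    algebraize [β]
    exact RingHom.faithfullyFlat_algebraMap_iff.2 Module.FaithfullyFlat.of_flat_of_isLocalHom
  unfold GorHom
  rw [hflat, DualLib.GorFlat.gor_congr (Ideal.quotEquivOfEq hJ'), gor_quot_iff_of_flat β hβ hβm _ hJ hN]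

/-- composition and cancellation -/
theorem gorHom_comp_iff {A B C : Type u} [CommRing A] [IsLocalRing A] [CommRing B] [IsLocalRing B]
    [CommRing C] [IsLocalRing C] (g : A →+* B) (h : B →+* C) [IsLocalHom g] [IsLocalHom h]
    (hN : IsNoetherianRing (C ⧸ ((maximalIdeal A).map g).map h)) (hh : h.Flat) :
    GorHom (h.comp g) ↔ GorHom g ∧ GorHom h := by
  have hJ : (maximalIdeal A).map g ≤ maximalIdeal B := ((IsLocalRing.local_hom_TFAE g).out 0 2).mp ‹_›
  haveI := hN
  have hNB := isNoetherianRing_quot_descend h hh _ hJ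
  obtain ⟨_, _, _, hflat, hloc, hmk⟩ := exists_quot_data h hh _ hJ
  have hmax : (maximalIdeal (B ⧸ (maximalIdeal A).map g)).map
      (algebraMap (B ⧸ (maximalIdeal A).map g) (C ⧸ ((maximalIdeal A).map g).map h)) =
      ((maximalIdeal B).map h).map (Ideal.Quotient.mk (((maximalIdeal A).map g).map h)) := by
    rw [← IsLocalRing.map_maximalIdeal_of_surjective _
      (Ideal.Quotient.mk_surjective (I := (maximalIdeal A).map g))]
    refine (Ideal.map_map _ _).trans (Eq.trans ?_ (Ideal.map_map _ _).symm)
    exact congrArg (Ideal.map · (maximalIdeal B)) (RingHom.ext hmk)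
  obtain ⟨e⟩ := exists_quot_fibre_equiv h _ hJ (maximalIdeal B) hJ
  have key : Gor (C ⧸ ((maximalIdeal A).map g).map h) ↔
      Gor (B ⧸ (maximalIdeal A).map g) ∧ Gor (C ⧸ (maximalIdeal B).map h) := by
    rw [DualLib.GorFlat.gor_flat_iff (A := B ⧸ (maximalIdeal A).map g)
      (B := C ⧸ ((maximalIdeal A).map g).map h), hmax, DualLib.GorFlat.gor_congr e]
  have hflat' : (h.comp g).Flat ↔ g.Flat := by
    refine ⟨fun hc => ?_, fun hg => RingHom.Flat.comp hg hh⟩
    refine flat_of_comp g h ?_ hc
    algebraize [h]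
    exact RingHom.faithfullyFlat_algebraMap_iff.2 Module.FaithfullyFlat.of_flat_of_isLocalHom
  unfold GorHom
  rw [hflat', DualLib.GorFlat.gor_congr (Ideal.quotEquivOfEq (Ideal.map_map g h).symm), key]
  tauto

section Strict

variable (R S : Type u) [CommRing R] [IsLocalRing R] [CommRing S] [IsLocalRing S] [Algebra R S]
  [IsLocalHom (algebraMap R S)] [Hensel.IsStrictHenselization R S]

theorem weaklyEtale_strict : Algebra.WeaklyEtale R S := by
  obtain ⟨e⟩ := HenselLib.exists_equiv_localSH (R := R) S
  haveI : Algebra.WeaklyEtale R (HenselLib.LocalSH R) := HenselLib.weaklyEtale_hull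
  exact HenselLib.weaklyEtale_of_equiv e

theorem flat_of_flat_strict {C : Type u} [CommRing C] (g : S →+* C)
    (hg : (g.comp (algebraMap R S)).Flat) : g.Flat := by
  algebraize [g, g.comp (algebraMap R S)]
  haveI := weaklyEtale_strict R S
  exact HenselLib.WEt.flat_of_flat_lmul (Algebra.WeaklyEtale.flat_lmul' R S) C

theorem henselianLocalRing_quot_map (I : Ideal R) (hI : I ≤ maximalIdeal R) :
    HenselianLocalRing (S ⧸ I.map (algebraMap R S)) := by
  haveI := (‹Hensel.IsStrictHenselization R S›).henselian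
  have hI' : I.map (algebraMap R S) ≤ maximalIdeal S :=
    (Ideal.map_mono hI).trans (IsLocalRing.map_maximalIdeal_le (algebraMap R S))
  haveI := DualLib.GorFlat.isLocalRing_quot hI'
  have h := HenselLib.henselianRing_quotient (maximalIdeal S) (I.map (algebraMap R S))
  rw [IsLocalRing.map_maximalIdeal_of_surjective _ Ideal.Quotient.mk_surjective] at h
  exact { is_henselian := fun f hf a₀ h₁ h₂ => h.is_henselian f hf a₀ h₁ (h₂.map _) }

/-- a quotient of a strict henselization is a strict henselization of the quotient -/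
theorem isNoetherianRing_strict_quot (I : Ideal R) (hI : I ≤ maximalIdeal R) [IsNoetherianRing (R ⧸ I)] :
    IsNoetherianRing (S ⧸ I.map (algebraMap R S)) := by
  have hR := DualLib.GorFlat.isLocalRing_quot hI
  have hI' : I.map (algebraMap R S) ≤ maximalIdeal S :=
    (Ideal.map_mono hI).trans (IsLocalRing.map_maximalIdeal_le (algebraMap R S))
  have hS := DualLib.GorFlat.isLocalRing_quot hI'
  let q : R ⧸ I →+* S ⧸ I.map (algebraMap R S) := Ideal.quotientMap _ (algebraMap R S) Ideal.le_comap_map
  letI : Algebra (R ⧸ I) (S ⧸ I.map (algebraMap R S)) := q.toAlgebra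
  haveI hlocq : IsLocalHom (algebraMap (R ⧸ I) (S ⧸ I.map (algebraMap R S))) := ⟨fun b hb => by
    obtain ⟨b, rfl⟩ := Ideal.Quotient.mk_surjective b
    exact IsUnit.map _ (isUnit_of_map_unit (algebraMap R S) b (DualLib.GorFlat.isUnit_of_mk hI' hb))⟩
  haveI hmkR : IsLocalHom (Ideal.Quotient.mk I) := ⟨fun b hb => DualLib.GorFlat.isUnit_of_mk hI hb⟩
  haveI hmkS : IsLocalHom (Ideal.Quotient.mk (I.map (algebraMap R S))) :=
    ⟨fun b hb => DualLib.GorFlat.isUnit_of_mk hI' hb⟩
  let eR := RingEquiv.ofBijective (ResidueField.map (Ideal.Quotient.mk I))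
    ⟨(ResidueField.map _).injective, fun x => by
      obtain ⟨y, rfl⟩ := residue_surjective x
      obtain ⟨z, rfl⟩ := Ideal.Quotient.mk_surjective y
      exact ⟨residue R z, ResidueField.map_residue _ _⟩⟩
  let eS := RingEquiv.ofBijective (ResidueField.map (Ideal.Quotient.mk (I.map (algebraMap R S))))
    ⟨(ResidueField.map _).injective, fun x => by
      obtain ⟨y, rfl⟩ := residue_surjective x
      obtain ⟨z, rfl⟩ := Ideal.Quotient.mk_surjective y
      exact ⟨residue S z, ResidueField.map_residue _ _⟩⟩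
  have hSH : Hensel.IsStrictHenselization (R ⧸ I) (S ⧸ I.map (algebraMap R S)) :=
    { henselian := henselianLocalRing_quot_map R S I hI
      isSepClosure := by
        have h0 := (‹Hensel.IsStrictHenselization R S›).isSepClosure
        haveI := h0.1
        refine ⟨IsSepClosed.of_exists_root _ fun p hp h1 h2 => ?_, ?_⟩
        · obtain ⟨x, hx⟩ := IsSepClosed.exists_root (p.map eS.symm.toRingHom)
            (by rw [Polynomial.degree_map]; exact (Polynomial.degree_pos_of_irreducible h1).ne')
            (h2.map)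
          refine ⟨eS x, ?_⟩
          rw [Polynomial.IsRoot.def, Polynomial.eval_map] at hx
          have := congrArg eS.toRingHom hx
          rw [Polynomial.hom_eval₂, map_zero] at this
          rwa [show eS.toRingHom.comp eS.symm.toRingHom = RingHom.id _ from RingHom.ext eS.apply_symm_apply,
            Polynomial.eval₂_id] at this
        · haveI := h0.2
          refine Algebra.IsSeparable.of_equiv_equiv eR eS (RingHom.ext fun x => ?_)
          obtain ⟨z, rfl⟩ := residue_surjective x
          rfl
      universal := fun T _ _ f _ τ hτ => by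
        haveI : IsLocalHom (f.comp (Ideal.Quotient.mk I)) := RingHom.isLocalHom_comp _ _
        have hτ' : (τ.comp eS.toRingHom).comp (ResidueField.map (algebraMap R S)) =
            ResidueField.map (f.comp (Ideal.Quotient.mk I)) := by
          refine RingHom.ext fun x => ?_
          obtain ⟨z, rfl⟩ := residue_surjective x
          exact congr($hτ (residue _ (Ideal.Quotient.mk I z)))
        obtain ⟨G, ⟨hG, hGr⟩, hGu⟩ := (‹Hensel.IsStrictHenselization R S›).universal T _ _ hτ'
        have hker : ∀ s ∈ I.map (algebraMap R S), G s = 0 := by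
          intro s hs
          have : I.map (algebraMap R S) ≤ RingHom.ker G := Ideal.map_le_iff_le_comap.2 fun r hr => by
            show G (algebraMap R S r) = 0
            rw [← RingHom.comp_apply, hG, RingHom.comp_apply, Ideal.Quotient.eq_zero_iff_mem.2 hr, map_zero]
          exact this hs
        refine ⟨Ideal.Quotient.lift _ G hker, ⟨?_, ?_⟩, fun g hg => ?_⟩
        · refine Ideal.Quotient.ringHom_ext (RingHom.ext fun r => ?_)
          exact congr($hG r)
        · intro x
          obtain ⟨s, rfl⟩ := Ideal.Quotient.mk_surjective x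
          exact hGr s
        · have := hGu (g.comp (Ideal.Quotient.mk _)) ⟨RingHom.ext fun r => congr($(hg.1) (Ideal.Quotient.mk I r)),
            fun s => hg.2 (Ideal.Quotient.mk _ s)⟩
          exact Ideal.Quotient.ringHom_ext (by rw [this]; rfl) }
  exact (Groth.Agent.S0540.result (R ⧸ I) (S ⧸ I.map (algebraMap R S))).1 inferInstance

end Strict

end Groth.Agent.AlgSpLib
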