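import Groth.Agent.AlgSpLib.GorAt

/-!
Gorenstein morphisms of algebraic spaces: strict henselizations, composition, flat morphisms from Gorenstein
spaces, fibres.
-/

set_option linter.style.haveILetI false

universe u

open CategoryTheory CategoryTheory.Limits AlgebraicGeometry
open AlgSp

noncomputable section

namespace Groth.Agent.AlgSpLib

set_option backward.isDefEq.respectTransparency.types false

open IsLocalRing

local notation "Gor" => _root_.LocCoh.IsGorensteinLocalRing

theorem gor_iff_of_flat_max {A B : Type u} [CommRing A] [IsLocalRing A] [IsNoetherianRing A] [CommRing B]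
    [IsLocalRing B] [IsNoetherianRing B] (g : A →+* B) [IsLocalHom g] (hg : g.Flat)
    (hm : (maximalIdeal A).map g = maximalIdeal B) : Gor B ↔ Gor A := by
  letI : Algebra A B := g.toAlgebra
  haveI : Module.Flat A B := hg
  haveI : IsLocalHom (algebraMap A B) := ‹IsLocalHom g›
  rw [DualLib.GorFlat.gor_flat_iff (A := A) (B := B)]
  refine and_iff_left ?_
  rw [DualLib.GorFlat.gor_congr (Ideal.quotEquivOfEq (show (maximalIdeal A).map (algebraMap A B) = _ from hm))]
  letI := Ideal.Quotient.field (maximalIdeal B)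
  exact gor_field _

theorem gor_strict {A R : Type u} [CommRing A] [IsLocalRing A] [IsNoetherianRing A] [CommRing R]
    [IsLocalRing R] [Algebra A R] [IsLocalHom (algebraMap A R)] [Hensel.IsStrictHenselization A R]
    (hA : Gor A) : Gor R := by
  haveI := Groth.Agent.S0539.result A R
  haveI : IsNoetherianRing R := (Groth.Agent.S0540.result A R).1 ‹_›
  exact (gor_iff_of_flat_max (algebraMap A R) (RingHom.flat_algebraMap_iff.2 inferInstance)
    (Groth.Agent.S0538.result A R)).2 hA

theorem gorHom_strict {A B R' R : Type u} [CommRing A] [IsLocalRing A] [CommRing B] [IsLocalRing B]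
    [CommRing R'] [IsLocalRing R'] [CommRing R] [IsLocalRing R] [Algebra A R'] [IsLocalHom (algebraMap A R')]
    [Hensel.IsStrictHenselization A R'] [Algebra B R] [IsLocalHom (algebraMap B R)]
    [Hensel.IsStrictHenselization B R] (g : A →+* B) [IsLocalHom g] (φ : R' →+* R)
    (w : φ.comp (algebraMap A R') = (algebraMap B R).comp g) : GorHom φ ↔ GorHom g := by
  haveI := Groth.Agent.S0539.result A R'
  haveI := Groth.Agent.S0539.result B R
  refine gorHom_iff_square g φ (algebraMap A R') (algebraMap B R) w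
    (RingHom.flat_algebraMap_iff.2 inferInstance) (Groth.Agent.S0538.result A R')
    (flat_of_flat_strict A R' φ) (RingHom.flat_algebraMap_iff.2 inferInstance) (Groth.Agent.S0538.result B R) ?_
  intro h
  exact isNoetherianRing_strict_quot B R _ (((IsLocalRing.local_hom_TFAE g).out 0 2).mp ‹_›)

theorem gor_stalk_iff_of_etale {U V : Scheme.{u}} (e : U ⟶ V) [Etale e] (u : U)
    [IsLocallyNoetherian V] : Gor (U.presheaf.stalk u) ↔ Gor (V.presheaf.stalk (e u)) := by
  have := LocallyOfFiniteType.isLocallyNoetherian e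
  have : IsLocalHom (e.stalkMap u).hom := e.toLRSHom.prop u
  exact gor_iff_of_flat_max (e.stalkMap u).hom (Flat.stalkMap e u) (map_maximalIdeal_etale e u)

variable {S : Scheme.{u}} {X Y Z : Sp S}

theorem isGorenstein_of_chart (hX : IsAlgSpace X) (h : EtaleLocally Dual3.IsGorenstein X) {U : Over S}
    (a : (yon S).obj U ⟶ X) (ha : RepWith @Etale a) : Dual3.IsGorenstein U.left := by
  obtain ⟨U₀, p, hpe, hps, hN, hG⟩ := h
  have hr := hX.representable_from_yon p
  have sq := hr.isPullback' a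
  have : Etale (hr.fst' a).left := ha.property _ _ _ sq.flip
  have : Etale (hr.snd a).left := hpe.property_snd a
  have : Surjective (hr.snd a).left := hps.property _ _ _ (hr.isPullback a)
  have hP : IsLocallyNoetherian (hr.pullback a).left := LocallyOfFiniteType.isLocallyNoetherian (hr.fst' a).left
  have hU : IsLocallyNoetherian U.left := isLocallyNoetherian_of_surjective (hr.snd a).left
  refine ⟨hU, fun u => ?_⟩
  obtain ⟨r, rfl⟩ := (hr.snd a).left.surjective u
  rw [← gor_stalk_iff_of_etale (hr.snd a).left r, gor_stalk_iff_of_etale (hr.fst' a).left r]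
  exact hG _

theorem gorensteinAt_strict (hX : IsAlgSpace X) (hY : IsAlgSpace Y) (f : X ⟶ Y) {U V : Over S}
    (a : (yon S).obj U ⟶ X) (b : (yon S).obj V ⟶ Y) (h : U ⟶ V) (ha : RepWith @Etale a)
    (hb : RepWith @Etale b) (w : a ≫ f = (yon S).map h ≫ b) (u : ↥U.left)
    (R : Type u) [CommRing R] [IsLocalRing R] [Algebra ↥(U.left.presheaf.stalk u) R]
    [IsLocalHom (algebraMap ↥(U.left.presheaf.stalk u) R)]
    [Hensel.IsStrictHenselization ↥(U.left.presheaf.stalk u) R]
    (R' : Type u) [CommRing R'] [IsLocalRing R'] [Algebra ↥(V.left.presheaf.stalk (h.left u)) R']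
    [IsLocalHom (algebraMap ↥(V.left.presheaf.stalk (h.left u)) R')]
    [Hensel.IsStrictHenselization ↥(V.left.presheaf.stalk (h.left u)) R']
    (φ : R' →+* R)
    (hφ : φ.comp (algebraMap ↥(V.left.presheaf.stalk (h.left u)) R') =
      (algebraMap ↥(U.left.presheaf.stalk u) R).comp (h.left.stalkMap u).hom) :
    LocPAt (fun h u => Dual3.IsGorensteinAt h u) f (Points.ofPt a u) ↔
      φ.Flat ∧ Gor (R ⧸ (maximalIdeal R').map φ) := by
  have : IsLocalHom (h.left.stalkMap u).hom := h.left.toLRSHom.prop u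
  rw [locPAt_gor_iff hX hY f a b h ha hb w, gorAt_iff_gorHom, ← gorHom_strict (h.left.stalkMap u).hom φ hφ]
  exact Iff.rfl

theorem gorensteinAt_comp (hX : IsAlgSpace X) (hY : IsAlgSpace Y) (hZ : IsAlgSpace Z) (f : X ⟶ Y) (g : Y ⟶ Z)
    (hfg : ∀ (k : FieldPt Z) (Xk : Sp S) (a : Xk ⟶ X) (b : Xk ⟶ (yon S).obj k.pt),
      IsPullback a b (f ≫ g) k.toHom → IsLocNoethSp Xk) (x : Points X) :
    (LocPAt (fun h u => Dual3.IsGorensteinAt h u) f x →
      LocPAt (fun h u => Dual3.IsGorensteinAt h u) g (Points.map f x) →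
        LocPAt (fun h u => Dual3.IsGorensteinAt h u) (f ≫ g) x) ∧
    (LocPAt (fun h u => Dual3.IsGorensteinAt h u) (f ≫ g) x → IsFlatAtMor f x →
      LocPAt (fun h u => Dual3.IsGorensteinAt h u) f x ∧
        LocPAt (fun h u => Dual3.IsGorensteinAt h u) g (Points.map f x)) := by
  obtain ⟨C⟩ := nonempty_charts hX hY hZ f g
  obtain ⟨u, rfl⟩ := surjective_ofPt C.a C.a_surj x
  have hw : C.a ≫ f ≫ g = (yon S).map (C.h ≫ C.k) ≫ C.c := by
    rw [← Category.assoc, C.wf, Category.assoc, C.wg, Functor.map_comp, Category.assoc]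
  have hy : Points.map f (Points.ofPt C.a u) = Points.ofPt C.b (C.h.left u) := by
    rw [← ofPt_map, ← C.wf, Points.ofPt_eq_map_ofScheme, Points.ofPt_eq_map_ofScheme, Points.map_comp]
  rw [hy, locPAt_gor_iff hX hY f C.a C.b C.h C.a_etale C.b_etale C.wf,
    locPAt_gor_iff hY hZ g C.b C.c C.k C.b_etale C.c_etale C.wg,
    locPAt_gor_iff hX hZ (f ≫ g) C.a C.c (C.h ≫ C.k) C.a_etale C.c_etale hw,
    isFlatAtMor_iff hX hY f C.a C.b C.h C.a_etale C.b_etale C.wf,
    gorAt_iff_gorHom, gorAt_iff_gorHom, gorAt_iff_gorHom]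
  have : IsLocalHom (C.h.left.stalkMap u).hom := C.h.left.toLRSHom.prop u
  have : IsLocalHom (C.k.left.stalkMap (C.h.left u)).hom := C.k.left.toLRSHom.prop _
  have hcomp : ((C.h ≫ C.k).left.stalkMap u).hom =
      (C.h.left.stalkMap u).hom.comp (C.k.left.stalkMap (C.h.left u)).hom := by
    show ((C.h.left ≫ C.k.left).stalkMap u).hom = _
    rw [Scheme.Hom.stalkMap_comp]
    rfl
  have hN := isNoetherianRing_quot_of_chart hX hZ (f ≫ g) hfg C.a C.c (C.h ≫ C.k) C.a_etale C.c_etale hw u
  rw [show (maximalIdeal ↥(C.W.left.presheaf.stalk ((C.h ≫ C.k).left u))).map ((C.h ≫ C.k).left.stalkMap u).hom =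
      ((maximalIdeal ↥(C.W.left.presheaf.stalk (C.k.left (C.h.left u)))).map
        (C.k.left.stalkMap (C.h.left u)).hom).map (C.h.left.stalkMap u).hom from by
    rw [hcomp]; exact (Ideal.map_map _ _).symm] at hN
  have key := fun hh => gorHom_comp_iff (C.k.left.stalkMap (C.h.left u)).hom (C.h.left.stalkMap u).hom hN hh
  have e : GorHom ((C.h ≫ C.k).left.stalkMap u).hom ↔
      GorHom ((C.h.left.stalkMap u).hom.comp (C.k.left.stalkMap (C.h.left u)).hom) := by
    rw [hcomp]
    exact Iff.rfl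
  rw [e]
  exact ⟨fun hf hg => (key hf.1).2 ⟨hg, hf⟩, fun hc hff => ((key hff).1 hc).symm⟩

theorem gorenstein_of_flat (hX : IsAlgSpace X) (hY : IsAlgSpace Y) (f : X ⟶ Y) (hf : LocP @Flat f)
    (hY1 : IsLocNoethSp Y) (hX2 : EtaleLocally Dual3.IsGorenstein X) {U V : Over S}
    (a : (yon S).obj U ⟶ X) (b : (yon S).obj V ⟶ Y) (h : U ⟶ V) (ha : RepWith @Etale a)
    (hb : RepWith @Etale b) (w : a ≫ f = (yon S).map h ≫ b) (u : ↥U.left) :
    Dual3.IsGorensteinAt h.left u ∧ Gor (V.left.presheaf.stalk (h.left u)) ∧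
      IsNoetherianRing (V.left.presheaf.stalk (h.left u)) := by
  have : Flat h.left := hf a b h ha hb w
  obtain ⟨hUN, hUG⟩ := isGorenstein_of_chart hX hX2 a ha
  have := isLocallyNoetherian_of_chart hY hY1 b hb
  have : IsLocalHom (h.left.stalkMap u).hom := h.left.toLRSHom.prop u
  algebraize [(h.left.stalkMap u).hom]
  have : Module.Flat ↥(V.left.presheaf.stalk (h.left u)) ↥(U.left.presheaf.stalk u) := Flat.stalkMap h.left u
  have : IsLocalHom (algebraMap ↥(V.left.presheaf.stalk (h.left u)) ↥(U.left.presheaf.stalk u)) :=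
    h.left.toLRSHom.prop u
  obtain ⟨h1, h2⟩ := (DualLib.GorFlat.gor_flat_iff (A := ↥(V.left.presheaf.stalk (h.left u)))
    (B := ↥(U.left.presheaf.stalk u))).1 (hUG u)
  exact ⟨(gorAt_iff_gorHom h.left u).2 ⟨Flat.stalkMap h.left u, h2⟩, h1, inferInstance⟩

theorem gorenstein_strict_of_flat (hX : IsAlgSpace X) (hY : IsAlgSpace Y) (f : X ⟶ Y) (hf : LocP @Flat f)
    (hY1 : IsLocNoethSp Y) (hX2 : EtaleLocally Dual3.IsGorenstein X) (x : Points X) {V : Over S}
    (b : (yon S).obj V ⟶ Y) (hb : RepWith @Etale b) (v : ↥V.left) (hv : Points.ofPt b v = Points.map f x)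
    (R : Type u) [CommRing R] [IsLocalRing R] [Algebra ↥(V.left.presheaf.stalk v) R]
    [IsLocalHom (algebraMap ↥(V.left.presheaf.stalk v) R)]
    [Hensel.IsStrictHenselization ↥(V.left.presheaf.stalk v) R] : Gor R := by
  have sq := IsPullback.of_hasPullback f b
  have hXV : IsAlgSpace (pullback f b) := isAlgSpace_of_isPullback hY.diag hX (IsAlgSpace.yon_obj V) sq
  obtain ⟨z, hz, hz'⟩ := exists_point_of_isPullback sq
    (show Points.map f x = Points.map b (Points.ofScheme V v) by rw [← hv, Points.ofPt_eq_map_ofScheme])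
  obtain ⟨U, α, hαe, hαs⟩ := hXV.atlas
  obtain ⟨u, hu⟩ := surjective_ofPt α hαs z
  obtain ⟨h, hh⟩ := (yon S).map_surjective (α ≫ pullback.snd f b)
  have hhu : h.left u = v := by
    apply (Points.schemeEquiv V).injective
    show Points.ofScheme V (h.left u) = Points.ofScheme V v
    rw [← map_yon_map_ofScheme, hh, Points.map_comp, ← Points.ofPt_eq_map_ofScheme, hu, hz']
  subst hhu
  obtain ⟨-, hA, hN⟩ := gorenstein_of_flat hX hY f hf hY1 hX2 (α ≫ pullback.fst f b) b h
    (RepWith.comp hαe (RepWith.baseChange sq.flip hb)) hb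
    (by rw [hh, Category.assoc, Category.assoc, sq.w]) u
  exact gor_strict hA

/-- a chart of a fibre from a chart over a chart of the base -/
theorem exists_fibre_chart {f : X ⟶ Y} {U V : Over S} {b : (yon S).obj V ⟶ Y}
    {ψ : (yon S).obj U ⟶ pullback f b} {h : U ⟶ V} (hh : ψ ≫ pullback.snd f b = (yon S).map h) (v : ↥V.left)
    {Xv : Sp S} {a : Xv ⟶ X} {c : Xv ⟶ (yon S).obj (Over.mk (V.left.fromSpecResidueField v ≫ V.hom))}
    (sq : IsPullback a c f ((yon S).map (Over.homMk (V.left.fromSpecResidueField v) rfl :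
      Over.mk (V.left.fromSpecResidueField v ≫ V.hom) ⟶ V) ≫ b))
    {P : MorphismProperty Scheme.{u}} [P.IsStableUnderBaseChange] (hψ : RepWith P ψ) :
    ∃ a' : (yon S).obj (Over.mk (h.left.fiberι v ≫ U.hom)) ⟶ Xv, RepWith P a' := by
  let pU : Over.mk (h.left.fiberι v ≫ U.hom) ⟶ U := Over.homMk (h.left.fiberι v) rfl
  let qU : Over.mk (h.left.fiberι v ≫ U.hom) ⟶ Over.mk (V.left.fromSpecResidueField v ≫ V.hom) :=
    Over.homMk (h.left.fiberToSpecResidueField v) (by
      show pullback.snd h.left (V.left.fromSpecResidueField v) ≫ V.left.fromSpecResidueField v ≫ V.hom =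
        pullback.fst h.left (V.left.fromSpecResidueField v) ≫ U.hom
      rw [← Category.assoc, ← (IsPullback.of_hasPullback h.left (V.left.fromSpecResidueField v)).w,
        Category.assoc, Over.w h])
  have sqU : IsPullback pU qU h (Over.homMk (V.left.fromSpecResidueField v) rfl) :=
    IsPullback.of_map (Over.forget S) (Over.OverMorphism.ext
      (IsPullback.of_hasPullback h.left (V.left.fromSpecResidueField v)).w)
      (IsPullback.of_hasPullback h.left (V.left.fromSpecResidueField v))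
  obtain ⟨a', -, -, ha'⟩ := exists_baseChange_chart hh sqU sq hψ
  exact ⟨a', ha'⟩

theorem gorenstein_tfae (hX : IsAlgSpace X) (hY : IsAlgSpace Y) (f : X ⟶ Y)
    (hf : ∀ (k : FieldPt Y) (Xk : Sp S) (a : Xk ⟶ X) (b : Xk ⟶ (yon S).obj k.pt),
      IsPullback a b f k.toHom → IsLocNoethSp Xk) :
    [∀ x : Points X, LocPAt (fun h u => Dual3.IsGorensteinAt h u) f x,
      LocP @Flat f ∧ ∃ (V : Over S) (b : (yon S).obj V ⟶ Y),
        RepWith @Etale b ∧ RepWith @Surjective b ∧
          ∀ (v : ↥V.left) (Xv : Sp S) (a : Xv ⟶ X)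
            (c : Xv ⟶ (yon S).obj (Over.mk (V.left.fromSpecResidueField v ≫ V.hom))),
            IsPullback a c f ((yon S).map (Over.homMk (V.left.fromSpecResidueField v) rfl :
              Over.mk (V.left.fromSpecResidueField v ≫ V.hom) ⟶ V) ≫ b) →
            EtaleLocally Dual3.IsGorenstein Xv,
      LocP @Flat f ∧ ∀ (V : Over S) (b : (yon S).obj V ⟶ Y), RepWith @Etale b →
          ∀ (v : ↥V.left) (Xv : Sp S) (a : Xv ⟶ X)
            (c : Xv ⟶ (yon S).obj (Over.mk (V.left.fromSpecResidueField v ≫ V.hom))),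
            IsPullback a c f ((yon S).map (Over.homMk (V.left.fromSpecResidueField v) rfl :
              Over.mk (V.left.fromSpecResidueField v ≫ V.hom) ⟶ V) ≫ b) →
            EtaleLocally Dual3.IsGorenstein Xv].TFAE := by
  tfae_have 1 → 3 := by
    intro H
    refine ⟨(locP_flat_iff_forall_isFlatAtMor f).2 fun x U V a b h u ha hb w e => (H x a b h u ha hb w e).1,
      fun V b hb v Xv a c sqv => ?_⟩
    have sq := IsPullback.of_hasPullback f b
    have hXV : IsAlgSpace (pullback f b) := isAlgSpace_of_isPullback hY.diag hX (IsAlgSpace.yon_obj V) sq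
    obtain ⟨U, α, hαe, hαs⟩ := hXV.atlas
    obtain ⟨h, hh⟩ := (yon S).map_surjective (α ≫ pullback.snd f b)
    have hwe : (α ≫ pullback.fst f b) ≫ f = (yon S).map h ≫ b := by
      rw [hh, Category.assoc, Category.assoc, sq.w]
    have hae : RepWith @Etale (α ≫ pullback.fst f b) := RepWith.comp hαe (RepWith.baseChange sq.flip hb)
    obtain ⟨a', ha'⟩ := exists_fibre_chart hh.symm v sqv (P := @Etale ⊓ @Surjective) (RepWith.and hαe hαs)
    refine ⟨_, a', RepWith.mono inf_le_left ha', RepWith.mono inf_le_right ha',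
      isLocallyNoetherian_fiber_of_chart hX hY f hf _ b h hae hb hwe v, fun z => ?_⟩
    obtain ⟨e⟩ := CAlgH.CIScheme.fiberι_stalk_equiv h.left v z
    have hz := ((gorAt_iff_gorHom h.left (h.left.fiberι v z)).1
      ((H (Points.ofPt (α ≫ pullback.fst f b) (h.left.fiberι v z))) _ b h _ hae hb hwe rfl)).2
    exact (DualLib.GorFlat.gor_congr e).1 hz
  tfae_have 3 → 2 := by
    rintro ⟨hfl, H⟩
    obtain ⟨V, b, hbe, hbs⟩ := hY.atlas
    exact ⟨hfl, V, b, hbe, hbs, H V b hbe⟩
  tfae_have 2 → 1 := by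
    rintro ⟨hfl, V, b, hbe, hbs, H⟩ x
    have sq := IsPullback.of_hasPullback f b
    have hXV : IsAlgSpace (pullback f b) := isAlgSpace_of_isPullback hY.diag hX (IsAlgSpace.yon_obj V) sq
    obtain ⟨v, hv⟩ := surjective_ofPt b hbs (Points.map f x)
    obtain ⟨z, hz, hz'⟩ := exists_point_of_isPullback sq
      (show Points.map f x = Points.map b (Points.ofScheme V v) by rw [← hv, Points.ofPt_eq_map_ofScheme])
    obtain ⟨U, α, hαe, hαs⟩ := hXV.atlas
    obtain ⟨u, hu⟩ := surjective_ofPt α hαs z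
    obtain ⟨h, hh⟩ := (yon S).map_surjective (α ≫ pullback.snd f b)
    have hwe : (α ≫ pullback.fst f b) ≫ f = (yon S).map h ≫ b := by
      rw [hh, Category.assoc, Category.assoc, sq.w]
    have hae : RepWith @Etale (α ≫ pullback.fst f b) := RepWith.comp hαe (RepWith.baseChange sq.flip hbe)
    have hx : Points.ofPt (α ≫ pullback.fst f b) u = x := by
      rw [Points.ofPt_eq_map_ofScheme, Points.map_comp, ← Points.ofPt_eq_map_ofScheme, hu, hz]
    rw [← hx, locPAt_gor_iff hX hY f _ b h hae hbe hwe]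
    have : Flat h.left := hfl _ b h hae hbe hwe
    refine ⟨Flat.stalkMap h.left u, ?_⟩
    have sqv := IsPullback.of_hasPullback f ((yon S).map (Over.homMk (V.left.fromSpecResidueField (h.left u)) rfl :
      Over.mk (V.left.fromSpecResidueField (h.left u) ≫ V.hom) ⟶ V) ≫ b)
    obtain ⟨a', ha'⟩ := exists_fibre_chart hh.symm (h.left u) sqv (P := @Etale) hαe
    exact (isGorenstein_of_chart (isAlgSpace_of_isPullback hY.diag hX (IsAlgSpace.yon_obj _) sqv)
      (H _ _ _ _ sqv) a' ha').2 _
  tfae_finish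

end Groth.Agent.AlgSpLib
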