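import Mathlib.RingTheory.AlgebraicIndependent.TranscendenceBasis
import Mathlib.RingTheory.AlgebraicIndependent.Adjoin
import Mathlib.RingTheory.Algebraic.Cardinality
import Mathlib.Algebra.FreeAlgebra.Cardinality
import Mathlib.Algebra.MvPolynomial.Cardinal
import Mathlib.FieldTheory.IsAlgClosed.AlgebraicClosure
import Mathlib.RingTheory.TensorProduct.Finite
import Mathlib.LinearAlgebra.TensorProduct.Finiteness
import Mathlib.RingTheory.LocalRing.ResidueField.Ideal
import Mathlib.LinearAlgebra.Basis.VectorSpace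

/-!
Algebraically closed extensions of large cardinality have enough points.
-/

set_option autoImplicit false

universe u

open TensorProduct Cardinal

noncomputable section

namespace Groth.Agent.AlgSpLib.GroupRich

/-- a field extension of small cardinality embeds into an algebraically closed one of large cardinality -/
theorem nonempty_algHom_of_card (K₀ F K : Type u) [Field K₀] [Field F] [Field K] [Algebra K₀ F] [Algebra K₀ K]
    [IsAlgClosed K] (h : max (max #K₀ #F) ℵ₀ < #K) : Nonempty (F →ₐ[K₀] K) := by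
  obtain ⟨T, hT⟩ := exists_isTranscendenceBasis K₀ F
  obtain ⟨B, hB⟩ := exists_isTranscendenceBasis K₀ K
  have hTB : #T ≤ #B := by
    by_contra hlt
    push Not at hlt
    haveI : Algebra.IsAlgebraic (Algebra.adjoin K₀ (Set.range ((↑) : B → K))) K := hB.isAlgebraic
    have h1 : #K ≤ max #(Algebra.adjoin K₀ (Set.range ((↑) : B → K))) ℵ₀ :=
      Algebra.IsAlgebraic.cardinalMk_le_max _ K
    have h2 : #(Algebra.adjoin K₀ (Set.range ((↑) : B → K))) ≤ #K₀ ⊔ #(Set.range ((↑) : B → K)) ⊔ ℵ₀ :=
      Algebra.cardinalMk_adjoin_le K₀ _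
    have h3 : #(Set.range ((↑) : B → K)) ≤ #F := mk_range_le.trans (hlt.le.trans (mk_set_le T))
    refine not_le.2 h (h1.trans (max_le (h2.trans ?_) (le_max_right _ _)))
    exact max_le (max_le ((le_max_left _ _).trans (le_max_left _ _))
      (h3.trans ((le_max_right _ _).trans (le_max_left _ _)))) (le_max_right _ _)
  obtain ⟨e⟩ := (Cardinal.le_def _ _).1 hTB
  have hi : AlgebraicIndependent K₀ (fun t : T => ((e t : B) : K)) := hB.1.comp e e.injective
  let ψ : IntermediateField.adjoin K₀ (Set.range ((↑) : T → F)) →ₐ[K₀] K :=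
    (IntermediateField.val _).comp ((hi.aevalEquivField).toAlgHom.comp (hT.1.aevalEquivField).symm.toAlgHom)
  letI := ψ.toRingHom.toAlgebra
  haveI : IsScalarTower K₀ (IntermediateField.adjoin K₀ (Set.range ((↑) : T → F))) K :=
    IsScalarTower.of_algebraMap_eq fun x => (ψ.commutes x).symm
  haveI := hT.isAlgebraic_field
  exact ⟨(IsAlgClosed.lift : F →ₐ[IntermediateField.adjoin K₀ (Set.range ((↑) : T → F))] K).restrictScalars K₀⟩

variable (k : Type u) [Field k]

/-- an algebraically closed extension with more elements than a given type -/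
def bigField (D : Type u) : Type u := AlgebraicClosure (FractionRing (MvPolynomial (Set D) k))

instance (D : Type u) : Field (bigField k D) := by unfold bigField; infer_instance

instance (D : Type u) : Algebra k (bigField k D) := by unfold bigField; infer_instance

instance (D : Type u) : IsAlgClosed (bigField k D) := by unfold bigField; infer_instance

theorem lt_bigField (D : Type u) : #D < #(bigField k D) := by
  refine lt_of_lt_of_le (cantor #D) ?_
  rw [← mk_set]
  refine le_trans ?_ (mk_le_of_injective (f := fun x : MvPolynomial (Set D) k =>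
    (algebraMap (FractionRing (MvPolynomial (Set D) k)) (AlgebraicClosure (FractionRing (MvPolynomial (Set D) k)))
      (algebraMap _ (FractionRing (MvPolynomial (Set D) k)) x) : bigField k D)) ?_)
  · exact mk_le_of_injective (f := MvPolynomial.X) fun _ _ h => (MvPolynomial.X_injective h)
  · exact (RingHom.injective _).comp (IsFractionRing.injective _ _)

variable {k}

theorem exists_field_hom {R : Type u} [CommRing R] (f : R) (hf : ¬ IsNilpotent f) :
    ∃ (F : Type u) (_ : Field F) (χ : R →+* F), χ f ≠ 0 ∧ #F ≤ max #R ℵ₀ := by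
  obtain ⟨P, hP, hfP⟩ : ∃ P : Ideal R, P.IsPrime ∧ f ∉ P := by
    by_contra h
    push Not at h
    exact hf (mem_nilradical.1 (by rw [nilradical_eq_sInf R]; exact Submodule.mem_sInf.2 fun P hP => h P hP))
  haveI := hP
  refine ⟨P.ResidueField, inferInstance, algebraMap R P.ResidueField,
    fun h => hfP (Ideal.algebraMap_residueField_eq_zero.1 h), ?_⟩
  have : Function.Surjective (fun p : R × R => algebraMap R P.ResidueField p.1 / algebraMap R P.ResidueField p.2) :=
    fun x => by
      obtain ⟨a, b, hb, rfl⟩ := IsFractionRing.div_surjective (A := R ⧸ P) x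
      obtain ⟨a, rfl⟩ := Ideal.Quotient.mk_surjective a
      obtain ⟨b, rfl⟩ := Ideal.Quotient.mk_surjective b
      exact ⟨(a, b), rfl⟩
  refine (mk_le_of_surjective this).trans ?_
  rw [mk_prod, lift_id]
  exact (mul_le_max _ _).trans (max_le (max_le (le_max_left _ _) (le_max_left _ _)) (le_max_right _ _))

/-- a nonnilpotent element of the base change has a non-zero value at some rational point -/
theorem exists_point (K A : Type u) [Field K] [Algebra k K] [IsAlgClosed K] [CommRing A] [Algebra k A]
    (hK : max (max #k #A) ℵ₀ < #K) (f : A ⊗[k] K) (hf : ¬ IsNilpotent f) :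
    ∃ α : A →ₐ[k] K, Algebra.TensorProduct.productMap α (AlgHom.id k K) f ≠ 0 := by
  classical
  obtain ⟨S, hS⟩ := TensorProduct.exists_finset (R := k) f
  let s : Set K := Prod.snd '' (S : Set (A × K))
  let K₀ := IntermediateField.adjoin k s
  have hs : ∀ p ∈ S, p.2 ∈ K₀ := fun p hp => IntermediateField.subset_adjoin k s ⟨p, hp, rfl⟩
  let f₀ : A ⊗[k] K₀ := ∑ p ∈ S.attach, p.1.1 ⊗ₜ ⟨p.1.2, hs _ p.2⟩
  let Θ : A ⊗[k] K₀ →ₐ[k] A ⊗[k] K := Algebra.TensorProduct.map (AlgHom.id k A) K₀.val
  have hΘ : Θ f₀ = f := by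
    rw [hS, map_sum, ← Finset.sum_attach S (fun p => p.1 ⊗ₜ[k] p.2)]
    rfl
  have hf₀ : ¬ IsNilpotent f₀ := fun h => hf (hΘ ▸ h.map Θ.toRingHom)
  obtain ⟨F, _, χ, hχf, hcF⟩ := exists_field_hom f₀ hf₀
  letI : Algebra K₀ F := (χ.comp Algebra.TensorProduct.includeRight.toRingHom).toAlgebra
  haveI : Finite s := inferInstance
  have hK₀ : #K₀ ≤ max #k ℵ₀ := by
    exact (IntermediateField.cardinalMk_adjoin_le k s).trans (max_le (max_le (le_max_left _ _)
      ((lt_aleph0_of_finite s).le.trans (le_max_right _ _))) (le_max_right _ _))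
  have hT : #(A ⊗[k] K₀) ≤ max (max #k #A) ℵ₀ := by
    have : Function.Surjective (fun l : List (A × K₀) => (l.map fun p => p.1 ⊗ₜ[k] p.2).sum) := fun x => by
      induction x using TensorProduct.induction_on with
      | zero => exact ⟨[], rfl⟩
      | tmul a b => exact ⟨[(a, b)], by simp⟩
      | add x y hx hy =>
        obtain ⟨l, rfl⟩ := hx
        obtain ⟨l', rfl⟩ := hy
        exact ⟨l ++ l', by simp⟩
    refine (mk_le_of_surjective this).trans ((mk_list_le_max _).trans (max_le (le_max_right _ _) ?_))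
    rw [mk_prod, lift_id, lift_id]
    refine (mul_le_max _ _).trans (max_le (max_le ((le_max_right _ _).trans (le_max_left _ _)) (hK₀.trans ?_))
      (le_max_right _ _))
    exact max_le ((le_max_left _ _).trans (le_max_left _ _)) (le_max_right _ _)
  have hF : #F ≤ max (max #k #A) ℵ₀ := hcF.trans (max_le hT (le_max_right _ _))
  obtain ⟨ν⟩ := nonempty_algHom_of_card K₀ F K (lt_of_le_of_lt
    (max_le (max_le (hK₀.trans (max_le ((le_max_left _ _).trans (le_max_left _ _)) (le_max_right _ _))) hF)
      (le_max_right _ _)) hK)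
  let ν' : A ⊗[k] K₀ →+* K := ν.toRingHom.comp χ
  have hν : ∀ c : K₀, ν' (1 ⊗ₜ c) = (c : K) := fun c => ν.commutes c
  let α : A →ₐ[k] K :=
    { (ν'.comp Algebra.TensorProduct.includeLeftRingHom) with
      commutes' := fun c => by
        show ν' (algebraMap k A c ⊗ₜ 1) = _
        rw [Algebra.TensorProduct.tmul_one_eq_one_tmul]
        exact hν _ }
  refine ⟨α, ?_⟩
  have key : Algebra.TensorProduct.productMap α (AlgHom.id k K) f = ν' f₀ := by
    rw [hS, map_sum, map_sum, ← Finset.sum_attach S (fun p => Algebra.TensorProduct.productMap α (AlgHom.id k K) (p.1 ⊗ₜ[k] p.2))]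
    refine Finset.sum_congr rfl fun p _ => ?_
    rw [Algebra.TensorProduct.productMap_apply_tmul]
    show ν' (p.1.1 ⊗ₜ 1) * p.1.2 = _
    refine (congrArg _ (hν ⟨p.1.2, hs _ p.2⟩).symm).trans ?_
    rw [← map_mul, Algebra.TensorProduct.tmul_mul_tmul, mul_one, one_mul]
  rw [key]
  intro h
  refine hχf ?_
  exact ν.toRingHom.injective (h.trans (map_zero _).symm)

/-- a nonnilpotent element over a larger field has a non-zero value at a point rational over a smaller one -/
theorem exists_point' (K A Ω : Type u) [Field K] [Algebra k K] [IsAlgClosed K] [CommRing A] [Algebra k A]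
    [Field Ω] [Algebra k Ω] (ι : K →ₐ[k] Ω)
    (hK : max (max #k #A) ℵ₀ < #K) (g : A ⊗[k] Ω) (hg : ¬ IsNilpotent g) :
    ∃ α : A →ₐ[k] K, Algebra.TensorProduct.productMap (ι.comp α) (AlgHom.id k Ω) g ≠ 0 := by
  classical
  letI := ι.toRingHom.toAlgebra
  let b := Module.Basis.ofVectorSpace K Ω
  obtain ⟨S, hS⟩ := TensorProduct.exists_finset (R := k) g
  let I := S.biUnion fun p => (b.repr p.2).support
  let gi : Module.Basis.ofVectorSpaceIndex K Ω → A ⊗[k] K := fun i => ∑ p ∈ S, p.1 ⊗ₜ[k] (b.repr p.2 i)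
  let Θ : A ⊗[k] K →ₐ[k] A ⊗[k] Ω := Algebra.TensorProduct.map (AlgHom.id k A) ι
  have hrep : ∀ p ∈ S, p.2 = ∑ i ∈ I, ι (b.repr p.2 i) * b i := fun p hp => by
    conv_lhs => rw [← b.linearCombination_repr p.2, Finsupp.linearCombination_apply, Finsupp.sum]
    refine (Finset.sum_subset (f := fun i => b.repr p.2 i • b i) (Finset.subset_biUnion_of_mem (fun p : A × Ω => (b.repr p.2).support) hp) fun i _ hi => ?_).trans
      (Finset.sum_congr rfl fun i _ => Algebra.smul_def _ _)
    rw [Finsupp.notMem_support_iff.1 hi, zero_smul]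
  have hg' : g = ∑ i ∈ I, Θ (gi i) * (1 ⊗ₜ b i) := by
    simp only [gi, map_sum, Finset.sum_mul, Θ, Algebra.TensorProduct.map_tmul, Algebra.TensorProduct.tmul_mul_tmul,
      mul_one, AlgHom.id_apply]
    rw [Finset.sum_comm, hS]
    refine Finset.sum_congr rfl fun p hp => ?_
    conv_lhs => rw [hrep p hp]
    rw [TensorProduct.tmul_sum]
  obtain ⟨i, hi, hni⟩ : ∃ i ∈ I, ¬ IsNilpotent (gi i) := by
    by_contra h
    push Not at h
    refine hg (hg' ▸ mem_nilradical.1 (Submodule.sum_mem _ fun i hi => ?_))
    exact Ideal.mul_mem_right _ _ (mem_nilradical.2 ((h i hi).map Θ.toRingHom))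
  obtain ⟨α, hα⟩ := exists_point K A hK (gi i) hni
  refine ⟨α, fun h => hα ?_⟩
  let ev := Algebra.TensorProduct.productMap α (AlgHom.id k K)
  have hev : ∀ x, Algebra.TensorProduct.productMap (ι.comp α) (AlgHom.id k Ω) (Θ x) = ι (ev x) := fun x => by
    induction x using TensorProduct.induction_on with
    | zero => simp
    | tmul a c => simp [Θ, ev]
    | add x y hx hy => simp only [map_add, hx, hy]
  have h0 : ∑ j ∈ I, ev (gi j) • b j = 0 := by
    rw [← h, hg', map_sum]
    refine Finset.sum_congr rfl fun j _ => ?_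
    rw [map_mul, hev, Algebra.TensorProduct.productMap_apply_tmul, map_one, one_mul, AlgHom.id_apply,
      Algebra.smul_def]
    rfl
  exact linearIndependent_iff'.1 b.linearIndependent I (fun j => ev (gi j)) h0 i hi

end Groth.Agent.AlgSpLib.GroupRich
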