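import Groth.Agent.AlgSpLib.QCohEtPSubInduct

/-!
Morphisms given on affine objects; finite type submodules.
-/

set_option autoImplicit false

universe u

open CategoryTheory CategoryTheory.Limits AlgebraicGeometry Opposite TensorProduct
open AlgSp

noncomputable section

set_option linter.style.haveILetI false

namespace Groth.Agent.AlgSpLib.QCohEt

set_option backward.isDefEq.respectTransparency.types false
set_option backward.isDefEq.respectTransparency false

variable {S : Scheme.{u}} {X : Sp S}

theorem secMap_comp {A B C : ModEt X} (f : A ⟶ B) (g : B ⟶ C) (E : EtOver X) (m : Sec A E) :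
    secMap (f ≫ g) E m = secMap g E (secMap f E m) := rfl

/-- morphisms given on affine objects -/
theorem exists_hom_of_affine {A B : ModEt X} (φ : ∀ E, IsAff E → (Sec A E →ₗ[ΓE E] Sec B E))
    (hnat : ∀ {E W : EtOver X} (hE : IsAff E) (hW : IsAff W) (g : W ⟶ E) (m : Sec A E),
      mapSec B g (φ E hE m) = φ W hW (mapSec A g m)) :
    ∃ f : A ⟶ B, ∀ E (hE : IsAff E) m, secMap f E m = φ E hE m := by
  have key : ∀ (U : EtOver X) (a : Sec A U), ∃ b : Sec B U, ∀ (W : EtOver X) (hW : IsAff W) (g : W ⟶ U),
      mapSec B g b = φ W hW (mapSec A g a) := by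
    intro U a
    obtain ⟨κ, Z, g, hZ, hc⟩ := exists_affine_cover U
    obtain ⟨b, hb⟩ := exists_mapSec_eq' B g hc (fun j => φ (Z j) (hZ j) (mapSec A (g j) a)) fun j k => by
      refine sec_eq_of_affine B _ _ fun W t hW => ?_
      rw [← mapSec_comp, ← mapSec_comp, hnat (hZ j) hW, hnat (hZ k) hW, ← mapSec_comp, ← mapSec_comp,
        Category.assoc, Category.assoc, EtOver.pullback_condition]
    refine ⟨b, fun W hW h => sec_eq_of_affine B _ _ fun T t hT => ?_⟩
    haveI := hT
    obtain ⟨κ', Z', g', hZ', hc'⟩ := exists_affine_cover T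
    rw [hnat hW hT, ← mapSec_comp, ← mapSec_comp]
    have hcv := fun x => hc ((t ≫ h).hom.left.left x)
    refine mapSec_ext B (fun j => EtOver.pullbackFst (t ≫ h) (g j)) (fun x => ?_) _ _ fun j => ?_
    · obtain ⟨j, hj⟩ := hcv x
      exact ⟨j, exists_mem_range_pullbackFst _ _ x hj⟩
    · refine sec_eq_of_affine B _ _ fun T' t' hT' => ?_
      rw [← mapSec_comp, ← mapSec_comp, ← mapSec_comp, hnat hT hT', Category.assoc, EtOver.pullback_condition,
        ← Category.assoc, mapSec_comp, hb, hnat (hZ j) hT', ← mapSec_comp, ← mapSec_comp,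
        Category.assoc, ← EtOver.pullback_condition, Category.assoc]
  have uniq : ∀ (U : EtOver X) (a : Sec A U) (b b' : Sec B U),
      (∀ (W : EtOver X) (hW : IsAff W) (g : W ⟶ U), mapSec B g b = φ W hW (mapSec A g a)) →
      (∀ (W : EtOver X) (hW : IsAff W) (g : W ⟶ U), mapSec B g b' = φ W hW (mapSec A g a)) → b = b' :=
    fun U a b b' h h' => sec_eq_of_affine B b b' fun W g hW => (h W hW g).trans (h' W hW g).symm
  choose l hl using key
  let L : A.val ⟶ B.val := PresheafOfModules.homMk
    { app := fun U => AddCommGrpCat.ofHom (AddMonoidHom.mk' (l U.unop) fun a b =>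
        uniq U.unop (a + b) _ _ (hl _ _) fun W hW g => by
          rw [map_add (mapSec B g), hl _ a, hl _ b, map_add (mapSec A g), map_add (φ W hW)])
      naturality := fun U V g => AddCommGrpCat.hom_ext (AddMonoidHom.ext fun a =>
        uniq V.unop (mapSec A g.unop a) _ _ (hl _ _) fun W hW t => by
          show mapSec B t (mapSec B g.unop (l U.unop a)) = _
          rw [← mapSec_comp, hl, mapSec_comp]) }
    (fun U r a => uniq U.unop ((show ΓE U.unop from r) • (show Sec A U.unop from a)) _ _ (hl _ _) fun W hW g => by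
      show mapSec B g ((show ΓE U.unop from r) • l U.unop a) = _
      rw [mapSec_smul, hl, mapSec_smul, map_smul])
  refine ⟨⟨L⟩, fun E hE m => ?_⟩
  have := hl E m E hE (𝟙 E)
  rw [QCohEt.mapSec_id, QCohEt.mapSec_id] at this
  exact this

variable {F : ModEt X} [F.IsQuasicoherent]

theorem QSub.finite_obj (Q : QSub F) (E : EtOver X) [IsAff E] (h : (Q.P E inferInstance).FG) :
    Module.Finite (ΓE E) (Sec Q.obj E) := by
  refine ⟨Submodule.fg_of_fg_map_injective (secMap Q.incl E) (Q.injective_incl E) ?_⟩
  have e : Submodule.map (secMap Q.incl E) ⊤ = Q.P E inferInstance := by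
    refine SetLike.coe_injective ?_
    rw [Submodule.map_coe, Submodule.top_coe, Set.image_univ]
    exact Q.range_incl _
  rw [e]
  exact h

theorem QSub.isFiniteType_obj (Q : QSub F) (h : ∀ E hE, (Q.P E hE).FG) : Q.obj.IsFiniteType :=
  isFiniteType_of_forall _ (fun E hE => by haveI := hE; exact Q.isBC_obj E)
    fun E hE => by haveI := hE; exact Q.finite_obj E (h E hE)

theorem QSub.fg_image {H : ModEt X} [H.IsQuasicoherent] [H.IsFiniteType] (φ : H ⟶ F) (E : EtOver X) (hE : IsAff E) :
    ((QSub.image φ).P E hE).FG := by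
  haveI := hE
  haveI := finite_sec H E
  show (LinearMap.range (secMap φ E)).FG
  rw [LinearMap.range_eq_map]
  exact Module.Finite.fg_top.map _

theorem isFiniteType_of_iso {A B : ModEt X} [A.IsQuasicoherent] [A.IsFiniteType] (e : A ≅ B) :
    B.IsQuasicoherent ∧ B.IsFiniteType := by
  have hB : B.IsQuasicoherent :=
    ObjectProperty.prop_of_iso (SheafOfModules.isQuasicoherent (OEtRing X)) e (show SheafOfModules.isQuasicoherent (OEtRing X) A from ‹A.IsQuasicoherent›)
  refine ⟨hB, isFiniteType_of_forall _ (fun E hE => by haveI := hE; exact isBC B E) fun E hE => ?_⟩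
  haveI := hE
  haveI := finite_sec A E
  exact Module.Finite.of_surjective (secMap e.hom E) fun b => ⟨secMap e.inv E b, by
    rw [← secMap_comp, e.inv_hom_id]; rfl⟩

/-- the subobject of a finitely generated quasi-coherent submodule -/
theorem QSub.mk_mem (Q : QSub F) (h : ∀ E hE, (Q.P E hE).FG) :
    (Subobject.underlying.obj (Subobject.mk Q.incl)).IsQuasicoherent ∧
      (Subobject.underlying.obj (Subobject.mk Q.incl)).IsFiniteType :=
  haveI := Q.isQuasicoherent_obj
  haveI := Q.isFiniteType_obj h
  isFiniteType_of_iso (Subobject.underlyingIso Q.incl).symm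

theorem le_mk_of_subset {N : Subobject F} (Q : QSub F)
    (h : ∀ E (hE : IsAff E) (a : Sec (Subobject.underlying.obj N) E), secMap N.arrow E a ∈ Q.P E hE) :
    N ≤ Subobject.mk Q.incl := by
  obtain ⟨l, hl⟩ := exists_lift N.arrow Q.incl fun E hE => by
    rintro _ ⟨a, rfl⟩
    rw [Q.range_incl hE]
    exact h E hE a
  exact Subobject.le_mk_of_comm l hl

theorem secMap_eq {A B : ModEt X} {f g : A ⟶ B} (h : f = g) (E : EtOver X) (a : Sec A E) :
    secMap f E a = secMap g E a := h ▸ rfl

section colimit

variable {J : Type*} [Category J] [IsFiltered J] {D : J ⥤ ModEt X} {M Y : ModEt X}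
  (p : ∀ j, D.obj j ⟶ M) (hp : ∀ {i j} (u : i ⟶ j), D.map u ≫ p j = p i) (hm : ∀ j, Mono (p j))
  (q : ∀ j, D.obj j ⟶ Y) (hq : ∀ {i j} (u : i ⟶ j), D.map u ≫ q j = q i)
  (hs : ∀ E, IsAff E → ∀ m : Sec M E, ∃ (j : J) (a : Sec (D.obj j) E), secMap (p j) E a = m)

omit [IsFiltered J] in
include hp in
theorem w_apply {i j : J} (u : i ⟶ j) (E : EtOver X) (a : Sec (D.obj i) E) :
    secMap (p j) E (secMap (D.map u) E a) = secMap (p i) E a :=
  secMap_eq (hp u) E a

include hp hm hq in
theorem value_eq {E : EtOver X} {i j : J} (a : Sec (D.obj i) E) (b : Sec (D.obj j) E)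
    (h : secMap (p i) E a = secMap (p j) E b) : secMap (q i) E a = secMap (q j) E b := by
  haveI := hm (IsFiltered.max i j)
  have hu : secMap (D.map (IsFiltered.leftToMax i j)) E a = secMap (D.map (IsFiltered.rightToMax i j)) E b := by
    refine injective_of_mono (p (IsFiltered.max i j)) E ?_
    show secMap (p (IsFiltered.max i j)) E _ = secMap (p (IsFiltered.max i j)) E _
    rw [w_apply p hp, w_apply p hp]
    exact h
  rw [← w_apply q hq (IsFiltered.leftToMax i j), hu, w_apply q hq]

include hp hm hq hs in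
theorem exists_desc : ∃ f : M ⟶ Y, ∀ j, p j ≫ f = q j := by
  choose N am ham using hs
  let φ : ∀ E, IsAff E → (Sec M E →ₗ[ΓE E] Sec Y E) := fun E hE =>
    { toFun := fun m => secMap (q (N E hE m)) E (am E hE m)
      map_add' := fun m m' => by
        have hx : secMap (p (IsFiltered.max (N E hE m) (N E hE m'))) E
            (secMap (D.map (IsFiltered.leftToMax _ _)) E (am E hE m) +
              secMap (D.map (IsFiltered.rightToMax _ _)) E (am E hE m')) = m + m' := by
          rw [map_add, w_apply p hp, w_apply p hp, ham, ham]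
        refine (value_eq p hp hm q hq _ _ ((ham E hE (m + m')).trans hx.symm)).trans ?_
        rw [map_add, w_apply q hq, w_apply q hq]
      map_smul' := fun r m => by
        refine (value_eq p hp hm q hq _ (r • am E hE m) ((ham E hE (r • m)).trans ?_)).trans (map_smul _ r _)
        rw [map_smul, ham] }
  obtain ⟨f, hf⟩ := exists_hom_of_affine φ fun {E W} hE hW g m => by
    show mapSec Y g (secMap (q (N E hE m)) E (am E hE m)) =
      secMap (q (N W hW (mapSec M g m))) W (am W hW (mapSec M g m))
    rw [mapSec_secMap]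
    refine (value_eq p hp hm q hq _ _ ?_).symm
    rw [ham, ← mapSec_secMap, ham]
  refine ⟨f, fun j => SheafOfModules.hom_ext (PresheafOfModules.hom_ext fun U => ModuleCat.hom_ext
    (LinearMap.ext fun a => sec_eq_of_affine Y (E := U.unop) _ _ fun Z t hZ => ?_))⟩
  show mapSec Y t (secMap (p j ≫ f) U.unop a) = mapSec Y t (secMap (q j) U.unop a)
  rw [mapSec_secMap, mapSec_secMap, secMap_comp, hf Z hZ]
  exact value_eq p hp hm q hq _ _ (ham Z hZ _)

include hs in
omit [IsFiltered J] in
theorem hom_ext_exhaust (f g : M ⟶ Y) (h : ∀ j, p j ≫ f = p j ≫ g) : f = g := by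
  refine SheafOfModules.hom_ext (PresheafOfModules.hom_ext fun U => ModuleCat.hom_ext
    (LinearMap.ext fun a => sec_eq_of_affine Y (E := U.unop) _ _ fun Z t hZ => ?_))
  show mapSec Y t (secMap f U.unop a) = mapSec Y t (secMap g U.unop a)
  rw [mapSec_secMap, mapSec_secMap]
  obtain ⟨j, b, hb⟩ := hs Z hZ (mapSec M t a)
  rw [← hb]
  exact secMap_eq (h j) Z b

end colimit

/-- filtered systems of submodules exhausting the sections on affine objects have the module as colimit -/
theorem nonempty_isColimit_of_exhaust {J : Type*} [Category J] [IsFiltered J] {D : J ⥤ ModEt X} (c : Cocone D)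
    (hm : ∀ j, Mono (c.ι.app j))
    (hs : ∀ E, IsAff E → ∀ m : Sec c.pt E, ∃ (j : J) (a : Sec (D.obj j) E), secMap (c.ι.app j) E a = m) :
    Nonempty (IsColimit c) := by
  have key : ∀ s : Cocone D, ∃ f : c.pt ⟶ s.pt, ∀ j, c.ι.app j ≫ f = s.ι.app j := fun s =>
    exists_desc (M := c.pt) (Y := s.pt) (fun j => c.ι.app j) (fun u => c.w u) hm (fun j => s.ι.app j)
      (fun u => s.w u) hs
  choose f hf using key
  exact ⟨{ desc := f, fac := hf, uniq := fun s m hmf =>
    hom_ext_exhaust (M := c.pt) (fun j => c.ι.app j) hs m (f s) fun j => (hmf j).trans (hf s j).symm }⟩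

end Groth.Agent.AlgSpLib.QCohEt
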