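import Groth.Agent.AlgSpLib.QCohEtStalk
import Groth.Agent.AlgSpLib.QCohEtAnn
import Groth.Agent.AlgSpLib.WeakAssEtGlobal
import Groth.Agent.AlgSpLib.CutOut

/-!
Supports of sections of quasi-coherent modules on the small etale site.
-/

universe u

open CategoryTheory CategoryTheory.Limits AlgebraicGeometry Opposite TensorProduct
open AlgSp

noncomputable section

set_option linter.style.haveILetI false

namespace Groth.Agent.AlgSpLib.QCohEt

set_option backward.isDefEq.respectTransparency.types false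
set_option backward.isDefEq.respectTransparency false

open Groth.Agent.Stk19b

theorem mem_zeroLocus_iff_le_primeAtPt {U : Scheme.{u}} (J : Ideal Γ(U, ⊤)) (x : U) :
    x ∈ U.zeroLocus (U := ⊤) (J : Set Γ(U, ⊤)) ↔ J ≤ primeAtPt U x := by
  simp only [Scheme.mem_zeroLocus_iff, SetLike.le_def, SetLike.mem_coe, primeAtPt, Ideal.mem_comap,
    IsLocalRing.mem_maximalIdeal, mem_nonunits_iff, Scheme.mem_basicOpen_top]

variable {S : Scheme.{u}} {X : Sp S}

theorem upΓ_mem_primeE (E : EtOver X) (a : Γ(E.obj.left.left, ⊤)) (e : E.obj.left.left) :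
    (upΓ E a : ΓE E) ∈ primeE E e ↔ a ∈ primeAtPt E.obj.left.left e := Iff.rfl

theorem le_primeAtPt_of_le_primeE {E : EtOver X} {J : Ideal Γ(E.obj.left.left, ⊤)} {e : E.obj.left.left} :
    upIdeal E J ≤ primeE E e ↔ J ≤ primeAtPt E.obj.left.left e := by
  rw [upIdeal, Ideal.map_le_iff_le_comap]
  exact Iff.rfl

/-- an affine neighbourhood inside an open -/
theorem exists_open_nbhd {p : FieldPt X} (hp : p.IsGeometric) (E : EtOver X) (x : (FieldPt.liftsTo p).obj E)
    (O : E.obj.left.left.Opens) (hx : x.1.left (IsLocalRing.closedPoint p.K) ∈ O) :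
    ∃ (Z : EtOver X) (g : Z ⟶ E) (z : (FieldPt.liftsTo p).obj Z),
      IsAff Z ∧ (FieldPt.liftsTo p).map g z = x ∧ Set.range g.hom.left.left ⊆ O := by
  haveI : IsAlgClosed p.K := hp
  obtain ⟨U, hU, hxU, hle⟩ := exists_isAffineOpen_mem_and_subset (x := x.1.left (IsLocalRing.closedPoint p.K)) hx
  let T : Over S := Over.mk (U.ι ≫ E.obj.left.hom)
  let j : T ⟶ E.obj.left := Over.homMk U.ι
  let Z : EtOver X := EtOver.mk ((yon S).map j ≫ E.obj.hom)
    (RepWith.comp ((repWith_yon_map_iff _ j).2 (inferInstanceAs (Etale U.ι))) E.property)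
  let g : Z ⟶ E := EtOver.homMk j rfl
  obtain ⟨v, hv, -⟩ := EtNbhd.exists_lift_over (K := p.K) g.hom.left (EtOver.etale_left g) x.1 ⟨_, hxU⟩ rfl
  refine ⟨Z, g, ⟨v, ?_⟩, hU, Subtype.ext hv, ?_⟩
  · show (yon S).map v ≫ (yon S).map j ≫ E.obj.hom = p.toHom
    rw [← Category.assoc, ← Functor.map_comp]
    exact (congrArg (fun t => (yon S).map t ≫ E.obj.hom) hv).trans x.2
  · rintro _ ⟨w, rfl⟩
    exact hle w.2

theorem isUnit_of_forall_notMem {E : EtOver X} [IsAff E] (a : ΓE E) (h : ∀ e, a ∉ primeE E e) : IsUnit a := by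
  by_contra ha
  obtain ⟨m, hm, ham⟩ := Ideal.exists_le_maximal (Ideal.span {a}) (by rwa [Ne, Ideal.span_singleton_eq_top])
  obtain ⟨e, rfl⟩ := exists_primeE_eq m hm.isPrime
  exact h e (ham (Ideal.mem_span_singleton_self a))

variable (hX : IsAlgSpace X) {p : FieldPt X} (hp : p.IsGeometric)

/-- germs vanish exactly outside the support -/
theorem germ_eq_zero_iff (M : ModEt X) [M.IsQuasicoherent] {E : EtOver X} [IsAff E] (x : (FieldPt.liftsTo p).obj E)
    (s : Sec M E) :
    germ hX hp M x s = 0 ↔ x.1.left (IsLocalRing.closedPoint p.K) ∉ E.obj.left.left.zeroLocus (U := ⊤)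
      ((annSect (M := M) (E := E) s : Ideal Γ(E.obj.left.left, ⊤)) : Set Γ(E.obj.left.left, ⊤)) := by
  rw [mem_zeroLocus_iff_le_primeAtPt]
  constructor
  · intro h hle
    obtain ⟨Z, g, z, hZ, hz, he⟩ := exists_nbhd_eq hX hp M x s 0 (h.trans (map_zero _).symm)
    haveI := hZ
    have htop := annEl_map_eq_top M g (he.trans (map_zero _))
    refine (inferInstance : (primeE Z (z.1.left (IsLocalRing.closedPoint p.K))).IsPrime).ne_top
      (top_le_iff.1 (htop.ge.trans ?_))
    rw [Ideal.map_le_iff_le_comap, primeE_comap,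
      show g.hom.left.left (z.1.left (IsLocalRing.closedPoint p.K)) = x.1.left (IsLocalRing.closedPoint p.K) by
        rw [← hz]; rfl]
    intro a ha
    have h2 : a • s = 0 := CAlgH3.mem_annEl.1 ha
    have ha' : ULift.ringEquiv a ∈ annSect (M := M) (E := E) s := h2
    exact hle ha'
  · intro h
    obtain ⟨a, ha, hap⟩ := SetLike.not_le_iff_exists.1 h
    let O : E.obj.left.left.Opens := E.obj.left.left.basicOpen a
    have hxO : x.1.left (IsLocalRing.closedPoint p.K) ∈ O := by
      by_contra hne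
      exact hap ((mem_zeroLocus_iff_le_primeAtPt (Ideal.span {a}) _).1 (by
        rw [Scheme.zeroLocus_span, Scheme.mem_zeroLocus_iff]
        rintro f rfl
        exact hne) (Ideal.mem_span_singleton_self a))
    obtain ⟨Z, g, z, hZ, hz, hg⟩ := exists_open_nbhd hp E x O hxO
    haveI := hZ
    have hu : IsUnit ((ΓMap g).hom (show ΓE E from upΓ E a)) := isUnit_of_forall_notMem _ fun w hw => by
      have h1 : (upΓ E a : ΓE E) ∈ primeE E (g.hom.left.left w) := primeE_comap g w ▸ hw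
      have h2 : g.hom.left.left w ∈ O := hg ⟨w, rfl⟩
      refine (Scheme.mem_zeroLocus_iff _ _ _).1
        ((mem_zeroLocus_iff_le_primeAtPt (Ideal.span {a}) (g.hom.left.left w)).2 ?_) a
        (Ideal.mem_span_singleton_self a) h2
      rw [Ideal.span_singleton_le_iff_mem]
      exact h1
    have h0 : mapSec M g s = 0 := by
      refine hu.smul_eq_zero.1 ?_
      rw [← mapSec_smul]
      exact (congrArg (mapSec M g) (show (upΓ E a : ΓE E) • s = 0 from ha)).trans (map_zero _)
    rw [← hz, ← germ_mapSec, h0, map_zero]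

/-- stalks vanish when all sections do -/
theorem isZero_stalkEt_iff (M : ModEt X) [M.IsQuasicoherent] :
    IsZero (stalkEt p ((toAbEt X).obj M)) ↔ ∀ (E : EtOver X) (_ : IsAff E) (x : (FieldPt.liftsTo p).obj E)
      (s : Sec M E), germ hX hp M x s = 0 := by
  refine ⟨fun h E _ x s => @Subsingleton.elim _ (AddCommGrpCat.subsingleton_of_isZero h) _ _, fun h => ?_⟩
  have h0 : ∀ w : ↥((stalkEtFunctor AddCommGrpCat.{u + 1} p).obj ((toAbEt X).obj M)), w = 0 := fun w => by
    obtain ⟨Y, y, s, rfl⟩ := (EtNbhd.point hX p hp).toPresheafFiber_jointly_surjective (P := ((toAbEt X).obj M).obj) w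
    obtain ⟨Z, g, z, hZ, hz⟩ := exists_affine_refine hp y
    change germ hX hp M y s = 0
    rw [← hz, ← germ_mapSec]
    exact h Z hZ z _
  haveI : Subsingleton ↥((stalkEtFunctor AddCommGrpCat.{u + 1} p).obj ((toAbEt X).obj M)) := ⟨fun a b => (h0 a).trans (h0 b).symm⟩
  exact AddCommGrpCat.isZero_of_subsingleton ((stalkEtFunctor AddCommGrpCat.{u + 1} p).obj ((toAbEt X).obj M))

omit hX hp in
theorem zeroLocus_preimage {E W : EtOver X} (g : W ⟶ E) (I : Ideal Γ(E.obj.left.left, ⊤)) :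
    W.obj.left.left.zeroLocus (U := ⊤) ((I.map g.hom.left.left.appTop.hom : Ideal Γ(W.obj.left.left, ⊤)) : Set _) =
      g.hom.left.left ⁻¹' E.obj.left.left.zeroLocus (U := ⊤) (I : Set _) :=
  (W.obj.left.left.zeroLocus_span _).trans (Scheme.preimage_zeroLocus g.hom.left.left _).symm

omit hX hp in
theorem ofPt_hom {E W : EtOver X} (g : W ⟶ E) (w : W.obj.left.left) :
    Points.ofPt E.obj.hom (g.hom.left.left w) = Points.ofPt W.obj.hom w :=
  (ofPt_map g.hom.left E.obj.hom w).symm.trans (congrArg (fun t => Points.ofPt t w) (CostructuredArrow.w g.hom))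

omit hX hp in
/-- the zero locus of the ideal of a closed subspace -/
theorem zeroLocus_isCutOutBy {Z : Sp S} {i : Z ⟶ X} {I : IdealEt X} (hZ : IsCutOutBy I i) (E : EtOver X)
    (hE : IsAffine E.obj.left.left) :
    E.obj.left.left.zeroLocus (U := ⊤) (I.ideal E hE : Set Γ(E.obj.left.left, ⊤)) =
      {e | Points.ofPt E.obj.hom e ∈ Set.range (Points.map i)} := by
  obtain ⟨hi, rfl⟩ := hZ
  have sq := hi.1.isPullback E.obj.hom
  let π := (hi.1.snd E.obj.hom).left
  haveI : IsClosedImmersion π := hi.property_snd E.obj.hom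
  have h1 : (π.ker.support : Set E.obj.left.left) = Set.range π := by
    rw [Scheme.Hom.support_ker]
    exact π.isClosedEmbedding.isClosed_range.closure_eq
  have h2 := π.ker.coe_support_inter ⟨⊤, isAffineOpen_top _⟩
  rw [h1, Scheme.Hom.ker_apply, TopologicalSpace.Opens.coe_top, Set.inter_univ, Set.inter_univ] at h2
  refine h2.symm.trans ?_
  ext e
  constructor
  · rintro ⟨r, rfl⟩
    exact ⟨Points.ofPt (hi.1.fst E.obj.hom) r, by rw [Points.map_ofPt, sq.w, ofPt_map]⟩
  · rintro ⟨z, hz⟩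
    rw [Points.ofPt_eq_map_ofScheme] at hz
    obtain ⟨v, -, hv⟩ := exists_point_of_isPullback sq hz
    obtain ⟨r, rfl⟩ := (Points.schemeEquiv _).surjective v
    exact ⟨r, (Points.schemeEquiv E.obj.left).injective ((map_yon_map_ofScheme _ r).symm.trans hv)⟩

section supported

variable (F : ModEt X) (T : Set (Points X))

omit hX hp in
theorem mem_iSup_annSub_iff (E : EtOver X) [IsAff E] (I : Ideal Γ(E.obj.left.left, ⊤)) (hI : I.FG) (s : Sec F E) :
    (s ∈ (⨆ n : ℕ, annSub F E (upIdeal E (I ^ n))) ↔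
      E.obj.left.left.zeroLocus (U := ⊤)
          ((annSect (M := F) (E := E) s : Ideal Γ(E.obj.left.left, ⊤)) : Set Γ(E.obj.left.left, ⊤)) ⊆
        E.obj.left.left.zeroLocus (U := ⊤) (I : Set Γ(E.obj.left.left, ⊤))) ∧
      (s ∈ (⨆ n : ℕ, annSub F E (upIdeal E (I ^ n))) ↔
        ∃ n : ℕ, ∀ a ∈ I ^ n, (upΓ E a) • (show sectModEt F E from s) = 0) := by
  have hdir : Directed (· ≤ ·) (fun n : ℕ => annSub F E (upIdeal E (I ^ n))) := fun m n =>
    ⟨m + n, fun x hx a ha => hx a (Ideal.map_mono (Ideal.pow_le_pow_right (Nat.le_add_right m n)) ha),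
      fun x hx a ha => hx a (Ideal.map_mono (Ideal.pow_le_pow_right (Nat.le_add_left n m)) ha)⟩
  have h2 : s ∈ (⨆ n : ℕ, annSub F E (upIdeal E (I ^ n))) ↔
      ∃ n : ℕ, ∀ a ∈ I ^ n, (upΓ E a) • (show sectModEt F E from s) = 0 := by
    rw [Submodule.mem_iSup_of_directed _ hdir]
    exact exists_congr fun n => (upΓ_map F E s).symm
  refine ⟨h2.trans ?_, h2⟩
  haveI : IsAffine E.obj.left.left := (inferInstance : IsAff E)
  let e := E.obj.left.left.toSpecΓ.homeomorph
  have hz : ∀ J : Ideal Γ(E.obj.left.left, ⊤), E.obj.left.left.zeroLocus (U := ⊤) (J : Set Γ(E.obj.left.left, ⊤)) =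
      e ⁻¹' PrimeSpectrum.zeroLocus (J : Set Γ(E.obj.left.left, ⊤)) := fun J =>
    (E.obj.left.left.toSpecΓ_preimage_zeroLocus _).symm
  rw [hz, hz, e.surjective.preimage_subset_preimage_iff]
  refine Iff.trans ?_ (PrimeSpectrum.zeroLocus_subset_zeroLocus_iff
    (annSect (M := F) (E := E) s : Ideal Γ(E.obj.left.left, ⊤)) I).symm
  exact ⟨fun ⟨n, hn⟩ a ha => ⟨n, hn _ (Ideal.pow_mem_pow ha n)⟩,
    fun h => (Ideal.exists_pow_le_of_le_radical_of_fg h hI).imp fun n hn a ha => hn ha⟩

omit hX hp in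
/-- the sections supported on a set cut out by finitely generated ideals -/
theorem exists_supported [F.IsQuasicoherent]
    (hT : ∀ (W : EtOver X), IsAff W → ∃ I : Ideal Γ(W.obj.left.left, ⊤), I.FG ∧
      W.obj.left.left.zeroLocus (U := ⊤) (I : Set Γ(W.obj.left.left, ⊤)) = {w | Points.ofPt W.obj.hom w ∈ T}) :
    ∃ Q : QSub F, ∀ (E : EtOver X) (hE : IsAff E) (s : Sec F E), s ∈ Q.P E hE ↔
      E.obj.left.left.zeroLocus (U := ⊤)
          ((annSect (M := F) (E := E) s : Ideal Γ(E.obj.left.left, ⊤)) : Set Γ(E.obj.left.left, ⊤)) ⊆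
        {w | Points.ofPt E.obj.hom w ∈ T} := by
  choose J hJ hJT using hT
  refine ⟨{ P := fun E hE => ⨆ n : ℕ, annSub F E (upIdeal E (J E hE ^ n))
            span_eq := fun {E W} hE hW g => ?_ }, fun E hE s => by
      haveI := hE
      rw [(mem_iSup_annSub_iff F E (J E hE) (hJ E hE) s).1, hJT]⟩
  haveI := hE
  haveI := hW
  let K : Ideal Γ(W.obj.left.left, ⊤) := (J E hE).map g.hom.left.left.appTop.hom
  have hmem : ∀ z : Sec F W, z ∈ (⨆ n : ℕ, annSub F W (upIdeal W (K ^ n))) ↔
      z ∈ (⨆ n : ℕ, annSub F W (upIdeal W (J W hW ^ n))) := fun z => by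
    rw [(mem_iSup_annSub_iff F W K ((hJ E hE).map _) z).1, (mem_iSup_annSub_iff F W (J W hW) (hJ W hW) z).1,
      hJT, zeroLocus_preimage, hJT]
    refine iff_of_eq (congrArg (W.obj.left.left.zeroLocus (U := ⊤) _ ⊆ ·) ?_)
    ext w
    exact iff_of_eq (congrArg (· ∈ T) (ofPt_hom g w))
  have hn : ∀ n : ℕ, Submodule.span (ΓE W)
      (mapSec F g '' (annSub F E (upIdeal E (J E hE ^ n)) : Set (Sec F E))) = annSub F W (upIdeal W (K ^ n)) :=
    fun n => by rw [span_annSub F g _ (upIdeal_fg E ((hJ E hE).pow)), upIdeal_map, Ideal.map_pow]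
  refine le_antisymm (Submodule.span_le.2 ?_) fun z hz => ?_
  · rintro _ ⟨s, hs, rfl⟩
    refine (hmem _).1 ?_
    induction hs using Submodule.iSup_induction' with
    | mem n x hx => exact Submodule.mem_iSup_of_mem n (hn n ▸ Submodule.subset_span ⟨x, hx, rfl⟩)
    | zero => rw [map_zero]; exact zero_mem _
    | add x y _ _ hx hy => rw [map_add]; exact add_mem hx hy
  · refine (iSup_le fun n => ?_ : (⨆ n : ℕ, annSub F W (upIdeal W (K ^ n))) ≤ _) ((hmem z).2 hz)
    rw [← hn n]
    exact Submodule.span_mono (Set.image_mono fun x hx => Submodule.mem_iSup_of_mem n hx)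

omit hX hp in
/-- closed subsets are cut out by finitely generated ideals on locally Noetherian spaces -/
theorem exists_fg_of_isClosed (hN : IsLocNoethSp X) (hT : IsClosed T) (W : EtOver X) (hW : IsAff W) :
    ∃ I : Ideal Γ(W.obj.left.left, ⊤), I.FG ∧
      W.obj.left.left.zeroLocus (U := ⊤) (I : Set Γ(W.obj.left.left, ⊤)) = {w | Points.ofPt W.obj.hom w ∈ T} := by
  haveI := hW
  haveI : IsAffine W.obj.left.left := hW
  haveI := isNoetherianRing_ΓE hN W
  haveI : IsNoetherianRing Γ(W.obj.left.left, ⊤) :=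
    isNoetherianRing_of_ringEquiv (ΓE W) (ULift.ringEquiv (R := Γ(W.obj.left.left, ⊤)))
  let e := W.obj.left.left.toSpecΓ.homeomorph
  obtain ⟨I, hI⟩ := (PrimeSpectrum.isClosed_iff_zeroLocus_ideal
    (e '' {w | Points.ofPt W.obj.hom w ∈ T})).1 (e.isClosedMap _ (hT.preimage (Points.continuous_ofPt W.obj.hom)))
  refine ⟨I, IsNoetherian.noetherian I, (W.obj.left.left.toSpecΓ_preimage_zeroLocus _).symm.trans ?_⟩
  ext w
  exact (iff_of_eq (congrArg (e w ∈ ·) hI)).symm.trans e.injective.mem_set_image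

end supported

end Groth.Agent.AlgSpLib.QCohEt
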