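import Groth.Agent.AlgSpLib.QCohEtExt
import Groth.Agent.AlgSpLib.QCohEtSubColim
import Groth.Agent.AlgSpLib.QCohEtPushQcqs
import Groth.Agent.AlgSpLib.QCohEtSupport

/-!
Kernels, cokernels and supports of quasi-coherent modules on the small etale site, on affine objects.
-/

universe u

open CategoryTheory CategoryTheory.Limits AlgebraicGeometry Opposite TensorProduct
open AlgSp

noncomputable section

set_option linter.style.haveILetI false

namespace Groth.Agent.AlgSpLib.QCohEt

set_option backward.isDefEq.respectTransparency.types false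
set_option backward.isDefEq.respectTransparency false

variable {S : Scheme.{u}} {X : Sp S}

theorem isQuasicoherent_kernel {A B : ModEt X} (f : A ⟶ B) [A.IsQuasicoherent] [B.IsQuasicoherent] :
    (kernel f).IsQuasicoherent :=
  isQuasicoherent_of_forall _ fun E hE =>
    haveI := hE
    isBC_kernel (kernel.condition f) (kernelIsKernel f) E (isBC A E) (isBC B E)

theorem isQuasicoherent_cokernel {A B : ModEt X} (f : A ⟶ B) [A.IsQuasicoherent] [B.IsQuasicoherent] :
    (cokernel f).IsQuasicoherent :=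
  isQuasicoherent_of_forall _ fun E hE =>
    haveI := hE
    (cokernel_sec f E (isBC A E) (isBC B E)).1

theorem surjective_cokernel_π {A B : ModEt X} (f : A ⟶ B) [A.IsQuasicoherent] [B.IsQuasicoherent] (E : EtOver X)
    [IsAff E] : Function.Surjective (secMap (cokernel.π f) E) :=
  (cokernel_sec f E (isBC A E) (isBC B E)).2

/-- epimorphisms of quasi-coherent modules are surjective on affine objects -/
theorem surjective_secMap_of_epi {A B : ModEt X} (g : A ⟶ B) [A.IsQuasicoherent] [B.IsQuasicoherent] [Epi g]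
    (E : EtOver X) [IsAff E] : Function.Surjective (secMap g E) := by
  intro m
  obtain ⟨R, hR, hR'⟩ := imageSieve_secMap g m
  obtain ⟨ι, hι, Z, k, hZ, hk, hc⟩ := exists_finite_affine_refinement hR
  haveI := hι
  haveI := hZ
  exact (QSub.image g).mem_of_cover k hc m fun j => hR' _ _ (hk j)

/-- a point lies in the support of a module -/
def InSupp (M : ModEt X) (E : EtOver X) (e : E.obj.left.left) : Prop :=
  ∃ s : Sec M E, CAlgH3.annEl (ΓE E) s ≤ primeE E e

theorem primeE_mono {E : EtOver X} [IsAff E] {a b : E.obj.left.left} (h : a ⤳ b) : primeE E a ≤ primeE E b := by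
  refine Ideal.comap_mono ?_
  have h1 := h.map E.obj.left.left.toSpecΓ.continuous
  rw [Scheme.toSpecΓ_apply, Scheme.toSpecΓ_apply] at h1
  exact (PrimeSpectrum.le_iff_specializes _ _).2 h1

theorem InSupp.of_specializes {M : ModEt X} {E : EtOver X} [IsAff E] {a b : E.obj.left.left} (h : a ⤳ b)
    (ha : InSupp M E a) : InSupp M E b :=
  ha.imp fun _ hs => hs.trans (primeE_mono h)

theorem exists_inSupp (M : ModEt X) {E : EtOver X} [IsAff E] {s : Sec M E} (hs : s ≠ 0) :
    ∃ e, InSupp M E e := by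
  obtain ⟨m, hm, hle⟩ := Ideal.exists_le_maximal (CAlgH3.annEl (ΓE E) s) fun h => hs (CAlgH3.annEl_eq_top.1 h)
  obtain ⟨e, he⟩ := exists_primeE_eq m hm.isPrime
  exact ⟨e, s, he ▸ hle⟩

variable (M : ModEt X) [M.IsQuasicoherent]

theorem annEl_mapSec_over {E : EtOver X} [IsAff E] (W : Over E) [IsAff W.left] (d : Sec M E) :
    CAlgH3.annEl (ΓE W.left) (mapSec M W.hom d) = (CAlgH3.annEl (ΓE E) d).map (ΓMap W.hom).hom := by
  haveI : Module.Flat (ΓE E) (ΓE W.left) := flat_ΓMap W.hom
  refine Eq.trans ?_ (SDiv28.annEl_one_tmul (A := ΓE E) (B := ΓE W.left) d)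
  have h1 : bcEquiv M E W ((1 : ΓE W.left) ⊗ₜ[ΓE E] d) = mapSec M W.hom d :=
    (bcMap_tmul M E W 1 d).trans (one_smul _ _)
  ext r
  rw [CAlgH3.mem_annEl, CAlgH3.mem_annEl, ← h1, ← map_smul, LinearEquiv.map_eq_zero_iff]

theorem annEl_mapSec {E E' : EtOver X} [IsAff E] [IsAff E'] (g : E' ⟶ E) (d : Sec M E) :
    CAlgH3.annEl (ΓE E') (mapSec M g d) = (CAlgH3.annEl (ΓE E) d).map (ΓMap g).hom :=
  haveI : IsAff (Over.mk g).left := (inferInstance : IsAff E')
  annEl_mapSec_over M (Over.mk g) d

theorem inSupp_pullback {E E' : EtOver X} [IsAff E] [IsAff E'] (g : E' ⟶ E) {e' : E'.obj.left.left}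
    (h : InSupp M E (g.hom.left.left e')) : InSupp M E' e' := by
  obtain ⟨d, hd⟩ := h
  refine ⟨mapSec M g d, ?_⟩
  rw [annEl_mapSec, Ideal.map_le_iff_le_comap, primeE_comap]
  exact hd

theorem inSupp_pushforward {E E' : EtOver X} [IsAff E] [IsAff E'] (g : E' ⟶ E) {e' : E'.obj.left.left}
    (h : InSupp M E' e') : InSupp M E (g.hom.left.left e') := by
  by_contra hne
  obtain ⟨n, hn⟩ := h
  let W : Over E := Over.mk g
  haveI : IsAff W.left := (inferInstance : IsAff E')
  obtain ⟨z, rfl⟩ := (isBC M E W inferInstance).surjective n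
  suffices hz : ∃ r ∈ CAlgH3.annEl (ΓE E') (bcMap M E W z : Sec M E'), r ∉ primeE E' e' from
    SetLike.not_le_iff_exists.2 hz hn
  clear hn
  induction z using TensorProduct.induction_on with
  | zero =>
    exact ⟨1, CAlgH3.mem_annEl.2 (by rw [map_zero, smul_zero]),
      (inferInstance : (primeE E' e').IsPrime).ne_top ∘ (Ideal.eq_top_iff_one _).2⟩
  | tmul a d =>
    obtain ⟨r, hr, hrp⟩ := SetLike.not_le_iff_exists.1 fun h' => hne ⟨d, h'⟩
    refine ⟨(ΓMap g).hom r, CAlgH3.mem_annEl.2 ?_, fun h' => hrp (primeE_comap g e' ▸ h')⟩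
    rw [bcMap_tmul]
    refine (smul_comm _ _ _).trans ?_
    refine (congrArg (a • ·) ((mapSec_smul M g r d).symm.trans ?_)).trans (smul_zero a)
    rw [CAlgH3.mem_annEl.1 hr, map_zero]
  | add x y hx hy =>
    obtain ⟨r, hr, hrp⟩ := hx
    obtain ⟨t, ht, htp⟩ := hy
    refine ⟨r * t, CAlgH3.mem_annEl.2 ?_,
      fun h' => ((inferInstance : (primeE E' e').IsPrime).mem_or_mem h').elim hrp htp⟩
    rw [map_add, smul_add, mul_smul, mul_smul, CAlgH3.mem_annEl.1 ht, smul_zero, add_zero, smul_comm,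
      CAlgH3.mem_annEl.1 hr, smul_zero]

/-- the support does not depend on the chart -/
theorem InSupp.transfer (hX : IsAlgSpace X) {E E' : EtOver X} [IsAff E] [IsAff E'] {e : E.obj.left.left}
    {e' : E'.obj.left.left} (he : Points.ofPt E.obj.hom e = Points.ofPt E'.obj.hom e') (h : InSupp M E e) :
    InSupp M E' e' := by
  obtain ⟨Z, hZ, a, b, z, rfl, rfl⟩ := exists_common_refinement hX he
  haveI := hZ
  exact inSupp_pushforward M b (inSupp_pullback M a h)

end Groth.Agent.AlgSpLib.QCohEt
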