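import Groth.Agent.AlgSpLib.SepChartAffine
import Groth.Agent.AlgSpLib.QCohEtExtend
import Groth.Agent.AlgSpLib.QCohEtSupport
import Groth.Agent.AlgSpLib.QCohEtSubColim
import Groth.Agent.AlgSpLib.SerreChevVanish
import Groth.Agent.AlgSpLib.SerreAffineSec
import Groth.Agent.Stk19b.QPullEtale
import Groth.Agent.S9991
import Groth.Agent.S10084
import Groth.Agent.S10751
import Groth.Agent.S10736

/-!
Vanishing of the cohomology of quasi-coherent modules on separated spaces with an affine chart in the range given by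
the number of points of the geometric fibres.
-/

universe u v v₁ v₂ u₁ u₂

open CategoryTheory CategoryTheory.Limits AlgebraicGeometry Opposite CategoryTheory.Abelian
open AlgSp

noncomputable section

set_option linter.style.haveILetI false

namespace Groth.Agent.AlgSpLib.SepChart

open Groth.Agent.AlgSpLib Groth.Agent.AlgSpLib.QCohEt Groth.Agent.AlgSpLib.SerreChev Groth.Agent.AlgSpLib.SerreAff

set_option backward.isDefEq.respectTransparency.types false
set_option backward.isDefEq.respectTransparency false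

/-- criterion for the unit of the adjunction of pushforwards of modules to be bijective on sections -/
theorem bijective_unit_pushforward {C : Type u₁} [Category.{v₁} C] {D : Type u₂} [Category.{v₂} D]
    {J : GrothendieckTopology C} {K : GrothendieckTopology D} {F : C ⥤ D} {G : D ⥤ C}
    {S : Sheaf J RingCat.{u}} {R : Sheaf K RingCat.{u}} [F.IsContinuous J K] [G.IsContinuous K J]
    (adj : F ⊣ G) (φ : S ⟶ (F.sheafPushforwardContinuous RingCat.{u} J K).obj R)
    (ψ : R ⟶ (G.sheafPushforwardContinuous RingCat.{u} K J).obj S)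
    (H₁ : Functor.whiskerRight (NatTrans.op adj.counit) R.obj = ψ.hom ≫ G.op.whiskerLeft φ.hom)
    (H₂ : φ.hom ≫ F.op.whiskerLeft ψ.hom ≫ Functor.whiskerRight (NatTrans.op adj.unit) S.obj = 𝟙 S.obj)
    (M : SheafOfModules.{v} R) (U : Dᵒᵖ) (h : Function.Bijective (M.val.map (adj.counit.app U.unop).op)) :
    Function.Bijective (((SheafOfModules.pushforwardPushforwardAdj adj φ ψ H₁ H₂).unit.app M).val.app U) :=
  h

variable {S : Scheme.{u}}

/-- cohomology in degree `q` vanishes -/
def Vq {X : Sp S} (M : ModEt X) (q : ℕ) : Prop := Subsingleton (HModEt X M q)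

section general

variable {X : Sp S}

theorem vq_iso {A B : ModEt X} (e : A ≅ B) {q : ℕ} (h : Vq A q) : Vq B q := by
  haveI : Subsingleton (((toAbEt X ⋙ HEtF X q).obj A : AddCommGrpCat.{u + 1}) : Type (u + 1)) := h
  exact ((toAbEt X ⋙ HEtF X q).mapIso e).symm.addCommGroupIsoToAddEquiv.toEquiv.subsingleton

theorem shortExact_toAb {T : ShortComplex (ModEt X)} (hT : T.ShortExact) : (T.map (toAbEt X)).ShortExact := by
  haveI : Mono T.f := hT.mono_f
  haveI : Epi T.g := hT.epi_g
  haveI : Mono (T.map (toAbEt X)).f := inferInstanceAs (Mono ((toAbEt X).map T.f))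
  haveI : Epi (T.map (toAbEt X)).g := inferInstanceAs (Epi ((toAbEt X).map T.g))
  exact ShortComplex.ShortExact.mk
    (hT.exact.map_of_mono_of_preservesKernel (toAbEt X) inferInstance inferInstance)

theorem vq_mid {T : ShortComplex (ModEt X)} (hT : T.ShortExact) {q : ℕ} (h₁ : Vq T.X₁ q) (h₃ : Vq T.X₃ q) :
    Vq T.X₂ q := by
  refine ⟨fun a b => sub_eq_zero.1 ?_⟩
  obtain ⟨x, hx⟩ := Ext.covariant_sequence_exact₂ _ (shortExact_toAb hT) (a - b) (@Subsingleton.elim _ h₃ _ _)
  rw [← hx]
  exact (congrArg (fun z => Ext.comp z _ (add_zero q)) (@Subsingleton.elim _ h₁ x 0)).trans (Ext.zero_comp ..)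

theorem vq_left {T : ShortComplex (ModEt X)} (hT : T.ShortExact) {q : ℕ} (h₂ : Vq T.X₂ (q + 1)) (h₃ : Vq T.X₃ q) :
    Vq T.X₁ (q + 1) := by
  refine ⟨fun a b => sub_eq_zero.1 ?_⟩
  obtain ⟨x, hx⟩ := Ext.covariant_sequence_exact₁ _ (shortExact_toAb hT) (a - b) (@Subsingleton.elim _ h₂ _ _) rfl
  rw [← hx]
  exact (congrArg (fun z => Ext.comp z _ rfl) (@Subsingleton.elim _ h₃ x 0)).trans (Ext.zero_comp ..)

theorem vq_of_isZero {A : ModEt X} (h : IsZero A) (q : ℕ) : Vq A q :=
  ⟨fun a b => by
    have h2 : ∀ z : HModEt X A q, Ext.comp z (Ext.mk₀ ((toAbEt X).map (𝟙 A))) (add_zero q) = z := fun z => by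
      rw [(toAbEt X).map_id, Ext.comp_mk₀_id]
    rw [← h2 a, ← h2 b, (IsZero.iff_id_eq_zero A).1 h]
    haveI : (toAbEt X).PreservesZeroMorphisms := inferInstance
    simp only [Functor.map_zero, Ext.mk₀_zero, Ext.comp_zero]⟩

theorem isSeparatedSp_of_mono {Y : Sp S} (i : Y ⟶ X) [Mono i] (h : IsSeparatedSp X) : IsSeparatedSp Y := by
  have sq : IsPullback i (Limits.diag Y) (Limits.diag X) (prod.map i i) := by
    refine ⟨⟨by apply Limits.prod.hom_ext <;> simp [prod.lift_fst, prod.lift_snd]⟩,
      ⟨PullbackCone.IsLimit.mk _ (fun c => c.snd ≫ prod.fst) (fun c => ?_) (fun c => ?_)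
        (fun c m h1 h2 => ?_)⟩⟩
    · have := congrArg (· ≫ prod.fst) c.condition
      simp [prod.lift_fst] at this
      simpa using this.symm
    · have h1 := congrArg (· ≫ prod.fst) c.condition
      have h2 := congrArg (· ≫ prod.snd) c.condition
      simp [prod.lift_fst, prod.lift_snd] at h1 h2
      have e : c.snd ≫ prod.fst = c.snd ≫ prod.snd := by
        rw [← cancel_mono i, Category.assoc, Category.assoc, ← h1, ← h2]
      apply Limits.prod.hom_ext
      · simp [prod.lift_fst]
      · simpa [prod.lift_snd] using e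
    · rw [← h2]
      simp [prod.lift_fst]
  exact RepWith.baseChange sq h

/-- morphisms from affine schemes to separated spaces are affine -/
theorem isAffineMor_from_affine [S.IsSeparated] (hX : IsAlgSpace X) (hsep : IsSeparatedSp X) {T : Over S}
    [IsAffine T.left] (f : (yon S).obj T ⟶ X) : IsAffineMor f := fun Z hZ g => by
  haveI := hZ
  exact ⟨_, _, _, (hX.representable_from_yon f).isPullback' g, (ChevGen.isAffine_pullback hX f hsep g).2⟩

/-- a power of a quasi-coherent ideal sheaf is quasi-coherent -/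
theorem isQCoh_pow (I : IdealEt X) (hI : I.IsQCoh) (n : ℕ) : (I ^ n).IsQCoh := fun E E' g hE hE' => by
  rw [IdealEt.pow_ideal, IdealEt.pow_ideal, Ideal.map_pow]
  exact Ideal.pow_right_mono (hI g hE hE') n

theorem map_ideal_eq (I : IdealEt X) (hI : I.IsQCoh) {E W : EtOver X} (hE : IsAff E) (hW : IsAff W) (g : W ⟶ E) :
    (I.ideal E hE).map g.hom.left.left.appTop.hom = I.ideal W hW :=
  le_antisymm (I.map_le g hE hW) (hI g hE hW)

/-- the submodule killed by an ideal sheaf of finite type -/
def killSub (F : ModEt X) [F.IsQuasicoherent] (I : IdealEt X) (hI : I.IsQCoh)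
    (hfg : ∀ (E : EtOver X) (hE : IsAffine E.obj.left.left), (I.ideal E hE).FG) : QSub F where
  P E hE := annSub F E (upIdeal E (I.ideal E hE))
  span_eq {E W} hE hW g := by
    haveI := hE
    haveI := hW
    rw [span_annSub F g _ (upIdeal_fg E (hfg E hE)), upIdeal_map, map_ideal_eq I hI hE hW g]

theorem kills_killSub (F : ModEt X) [F.IsQuasicoherent] (I : IdealEt X) (hI : I.IsQCoh)
    (hfg : ∀ (E : EtOver X) (hE : IsAffine E.obj.left.left), (I.ideal E hE).FG) (E : EtOver X)
    (hE : IsAffine E.obj.left.left) (s : sectModEt (killSub F I hI hfg).obj E) : I.ideal E hE ≤ annSect s := by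
  intro a ha
  rw [mem_annSect_iff]
  let Q := killSub F I hI hfg
  have hs : secMap Q.incl E s ∈ annSub F E (upIdeal E (I.ideal E hE)) :=
    (Q.range_incl (E := E) hE).subset ⟨s, rfl⟩
  refine Q.injective_incl E ?_
  refine ((map_smul (secMap Q.incl E) (upΓ E a) (show Sec Q.obj E from s)).trans ?_).trans (map_zero _).symm
  exact (upΓ_map F E (secMap Q.incl E s)).2 hs a ha

end general

/-- the restriction to an open subspace of a quasi-coherent module is quasi-coherent -/
theorem isQuasicoherent_resPost {X : Sp S} (hX : IsAlgSpace X) {U : Sp S} {j : U ⟶ X} (hr : Representable j)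
    (hje : IsEtaleMor j) (M : ModEt X) [M.IsQuasicoherent] : ((resPost hje).obj M).IsQuasicoherent := by
  haveI := isRightAdjoint_pushModEt hr
  let η := (Stk19b.QPullEtale.restrictPushAdj hr hje).leftAdjointUniq (AlgSp.pullPushAdjModEt hr)
  exact ObjectProperty.prop_of_iso (SheafOfModules.isQuasicoherent (OEtRing U)) (η.app M).symm
    (Stk19b.QPullEt.isQuasicoherent_pullModEt hr hX M inferInstance)

section unit

variable {X : Sp S} {U : Sp S} {j : U ⟶ X} (hj : RepWith @IsOpenImmersion j) (hje : IsEtaleMor j)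

/-- the comparison with the fibre product with the open subspace -/
def cpb (E : EtOver X) : (EtOver.postcomp j hje).obj ((EtOver.bc hj.1).obj E) ⟶ E :=
  (Stk19b.QPullEtale.postcompBcAdj hj.1 hje).counit.app E

theorem mono_cpb (E : EtOver X) : Mono (cpb hj hje E) := by
  haveI : Mono j := Induct.mono_openImm hj
  haveI : Mono ((yon S).map (hj.1.snd E.obj.hom)) :=
    MorphismProperty.IsStableUnderBaseChange.of_isPullback (P := MorphismProperty.monomorphisms (Sp S))
      (hj.1.isPullback E.obj.hom) (MorphismProperty.monomorphisms.infer_property j)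
  haveI : Mono (hj.1.snd E.obj.hom) := (yon S).mono_of_mono_map inferInstance
  refine ⟨fun {Z} g g' h => EtOver.hom_ext _ _ ((cancel_mono (hj.1.snd E.obj.hom)).1 ?_)⟩
  have h' := congrArg (fun k : Z ⟶ E => k.hom.left) h
  have hc : (cpb hj hje E).hom.left = hj.1.snd E.obj.hom := Category.id_comp _
  simp only [ObjectProperty.FullSubcategory.comp_hom, CostructuredArrow.comp_left, hc] at h'
  exact h'

theorem exists_inv_cpb (E : EtOver X) (hE : Over' (Set.range (Points.map j)) E) :
    ∃ s : E ⟶ (EtOver.postcomp j hje).obj ((EtOver.bc hj.1).obj E),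
      s ≫ cpb hj hje E = 𝟙 E ∧ cpb hj hje E ≫ s = 𝟙 _ := by
  let d := downIso hje hj hE
  let adj := Stk19b.QPullEtale.postcompBcAdj hj.1 hje
  let s : E ⟶ (EtOver.postcomp j hje).obj ((EtOver.bc hj.1).obj E) :=
    d.inv ≫ (EtOver.postcomp j hje).map (adj.homEquiv _ _ d.hom)
  have hsc : s ≫ cpb hj hje E = 𝟙 E := by
    show (d.inv ≫ _) ≫ adj.counit.app E = _
    rw [Category.assoc]
    exact (congrArg (d.inv ≫ ·) ((adj.homEquiv_counit (down hje hj hE) E _).symm.trans
      (Equiv.symm_apply_apply (adj.homEquiv _ _) d.hom))).trans d.inv_hom_id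
  haveI := mono_cpb hj hje E
  exact ⟨s, hsc, by rw [← cancel_mono (cpb hj hje E), Category.assoc, hsc, Category.comp_id, Category.id_comp]⟩

theorem bijective_unit_val (M : ModEt X) (E : EtOver X)
    (h : Function.Bijective (M.val.map ((Stk19b.QPullEtale.postcompBcAdj hj.1 hje).counit.app E).op)) :
    Function.Bijective (((Stk19b.QPullEtale.restrictPushAdj hj.1 hje).unit.app M).val.app (op E)) := by
  unfold Stk19b.QPullEtale.restrictPushAdj
  exact bijective_unit_pushforward _ _ _ _ _ M (op E) h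

theorem bijective_secMap_of_val {A B : ModEt X} (f : A ⟶ B) (E : EtOver X)
    (h : Function.Bijective (f.val.app (op E))) : Function.Bijective (secMap f E) := h

theorem bijective_map_of_mapSec (M : ModEt X) {E E' : EtOver X} (g : E' ⟶ E)
    (h : Function.Bijective (mapSec M g)) : Function.Bijective (M.val.map g.op) := h

/-- the unit of restriction is bijective over the open subspace -/
theorem bijective_unit (M : ModEt X) (E : EtOver X) (hE : Over' (Set.range (Points.map j)) E) :
    Function.Bijective (secMap ((Stk19b.QPullEtale.restrictPushAdj hj.1 hje).unit.app M) E) := by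
  obtain ⟨s, hsc, hcs⟩ := exists_inv_cpb hj hje E hE
  have hb : Function.Bijective (mapSec M (cpb hj hje E)) := by
    refine ⟨fun a b h => ?_, fun y => ⟨mapSec M s y, ?_⟩⟩
    · have h' := congrArg (mapSec M s) h
      rwa [← mapSec_comp, ← mapSec_comp, hsc, mapSec_id, mapSec_id] at h'
    · rw [← mapSec_comp, hcs]
      exact mapSec_id M _ y
  exact bijective_secMap_of_val _ E (bijective_unit_val hj hje M E (bijective_map_of_mapSec M _ hb))

end unit

/-- sections of modules vanishing over an open are supported on its complement -/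
theorem mem_iSup_of_vanish {X : Sp S} (hX : IsAlgSpace X) {O : Set (Points X)} (hO : IsOpen O) {K : ModEt X}
    [K.IsQuasicoherent] (hK : ∀ E, IsAff E → Over' O E → ∀ a : Sec K E, a = 0) {Z : Sp S} {i : Z ⟶ X}
    {I : IdealEt X} (hfg : ∀ (E : EtOver X) (hE : IsAffine E.obj.left.left), (I.ideal E hE).FG)
    (hcut : IsCutOutBy I i) (hr : Set.range (Points.map i) = Oᶜ) (E : EtOver X) (hE : IsAff E) (s : Sec K E) :
    ∃ n : ℕ, ∀ a ∈ I.ideal E hE ^ n, (upΓ E a) • (show sectModEt K E from s) = 0 := by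
  haveI := hE
  obtain ⟨h1, h2⟩ := mem_iSup_annSub_iff K E (I.ideal E hE) (hfg E hE) s
  refine h2.1 (h1.2 fun e he => ?_)
  rw [zeroLocus_isCutOutBy hcut E hE, Set.mem_setOf_eq, hr]
  intro heO
  obtain ⟨h, hh⟩ := FlatMorWeight.exists_geomPt e
  let p : FieldPt X := fieldPtOf ((yon S).map (geomHom h) ≫ E.obj.hom)
  have hp : p.IsGeometric := AlgebraicClosure.isAlgClosed _
  let x : (FieldPt.liftsTo p).obj E := ⟨geomHom h, (toHom_fieldPtOf _).symm⟩
  have hx : x.1.left (IsLocalRing.closedPoint p.K) = e := hh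
  let N : E.obj.left.left.Opens := ⟨Points.ofPt E.obj.hom ⁻¹' O, hO.preimage (Points.continuous_ofPt _)⟩
  obtain ⟨V, g, z, hV, hz, hg⟩ := exists_open_nbhd hp E x N (by rw [hx]; exact heO)
  have hVO : Over' O V := by
    rintro _ ⟨v, rfl⟩
    rw [← ofPt_hom g v]
    exact hg ⟨v, rfl⟩
  have hg0 : germ hX hp K x s = 0 := by
    rw [← hz, ← germ_mapSec, hK V hV hVO (mapSec K g s), map_zero]
  exact (germ_eq_zero_iff hX hp K x s).1 hg0 (by rw [hx]; exact he)

/-- the induction hypothesis -/
def Bound (S : Scheme.{u}) (d : ℕ) : Prop :=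
  ∀ (X : AlgSp.Space S), IsSeparatedSp X.obj → ∀ (U : Over S), IsAffine U.left →
    ∀ (a : (yon S).obj U ⟶ X.obj) (ha : RepWith @Etale a), RepWith @Surjective a →
      (∀ x : FieldPt X.obj, x.IsGeometric → ENat.card ((FieldPt.liftsTo x).obj (EtOver.mk a ha)) ≤ (d : ℕ)) →
      ∀ (M : ModEt X.obj), M.IsQuasicoherent → ∀ q, d ≤ q → Vq M q

theorem bound_zero : Bound S 0 := by
  intro X _ U hU a ha has hd M hM q _
  haveI hUe : IsEmpty ↥U.left := ⟨fun u => by
    obtain ⟨h, hh⟩ := FlatMorWeight.exists_geomPt u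
    let x : FieldPt X.obj := fieldPtOf ((yon S).map (geomHom h) ≫ a)
    have h0 := hd x (AlgebraicClosure.isAlgClosed _)
    haveI : Nonempty ((FieldPt.liftsTo x).obj (EtOver.mk a ha)) :=
      ⟨⟨geomHom h, (toHom_fieldPtOf _).symm⟩⟩
    exact absurd h0 (not_le.2 (by simpa using ENat.card_pos.2 inferInstance))⟩
  refine vq_of_isZero (isZero_of_forall M fun E hE s => ?_) q
  have hEe : IsEmpty ↥E.obj.left.left := ⟨fun e => by
    obtain ⟨u, -⟩ := surjective_ofPt a has (Points.ofPt E.obj.hom e)
    exact hUe.false u⟩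
  exact mapSec_ext M (fun i : PEmpty.{1} => (i.elim : E ⟶ E)) (fun e => (hEe.false e).elim) s 0 fun i => i.elim

/-- modules killed by an ideal sheaf whose zero set misses the open stratum -/
theorem vq_killed [S.IsSeparated] {d : ℕ} (IH : Bound S d) (X : AlgSp.Space S) (hsep : IsSeparatedSp X.obj)
    {U : Over S} [IsAffine U.left] (a : (yon S).obj U ⟶ X.obj) (ha : RepWith @Etale a)
    (has : RepWith @Surjective a) {O : Set (Points X.obj)}
    (hd : ∀ x : FieldPt X.obj, x.IsGeometric → Points.mk x ∈ O ∨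
      ENat.card ((FieldPt.liftsTo x).obj (EtOver.mk a ha)) ≤ (d : ℕ))
    {Z₀ : Sp S} {i₀ : Z₀ ⟶ X.obj} {I : IdealEt X.obj} (hI : I.IsQCoh) (hcut : IsCutOutBy I i₀)
    (hr : Set.range (Points.map i₀) = Oᶜ) (n : ℕ) (G₀ : ModEt X.obj) [G₀.IsQuasicoherent]
    (hk : ∀ (E : EtOver X.obj) (hE : IsAffine E.obj.left.left) (s : sectModEt G₀ E),
      (I ^ n).ideal E hE ≤ annSect s) (q : ℕ) (hq : d ≤ q) : Vq G₀ q := by
  obtain ⟨Z, i, hZ, hcutn⟩ := exists_isCutOutBy X.property (I ^ n) (isQCoh_pow I hI n)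
  obtain ⟨hi, hieq⟩ := id hcutn
  let Zs : AlgSp.Space S := ⟨Z, hZ⟩
  obtain ⟨G, hG, ⟨e⟩⟩ := (Groth.Agent.S9991.result (Z := Zs) (X := X) (ObjectProperty.homMk i) hi (I ^ n) hcutn).2
    G₀ inferInstance hk
  haveI := hG
  haveI : Mono i := mono_of_repWith (fun _ _ g (_ : IsClosedImmersion g) => (inferInstance : Mono g)) hi
  have hiO : ∀ z, Points.map i z ∉ O := fun z hz => by
    obtain ⟨w, hw⟩ := surjective_ofPt a has (Points.map i z)
    let E₀ : EtOver X.obj := EtOver.mk a ha
    have hmem : w ∈ E₀.obj.left.left.zeroLocus (U := ⊤)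
        (((I ^ n).ideal E₀ ‹IsAffine U.left› : Ideal Γ(E₀.obj.left.left, ⊤)) : Set Γ(E₀.obj.left.left, ⊤)) := by
      rw [zeroLocus_isCutOutBy hcutn E₀ ‹IsAffine U.left›]
      exact ⟨z, hw.symm⟩
    have hmem' : w ∈ E₀.obj.left.left.zeroLocus (U := ⊤)
        ((I.ideal E₀ ‹IsAffine U.left› : Ideal Γ(E₀.obj.left.left, ⊤)) : Set Γ(E₀.obj.left.left, ⊤)) := by
      rw [Scheme.mem_zeroLocus_iff] at hmem ⊢
      intro f hf hwf
      rcases Nat.eq_zero_or_pos n with h0 | h0
      · refine hmem 1 ?_ ?_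
        · rw [IdealEt.pow_ideal, h0, pow_zero, Ideal.one_eq_top]; trivial
        · rw [Scheme.basicOpen_of_isUnit _ isUnit_one]; trivial
      · refine hmem (f ^ n) (Ideal.pow_mem_pow hf n) ?_
        exact (Scheme.basicOpen_pow _ (f := f) h0).symm ▸ hwf
    have h3 : Points.ofPt a w ∈ Set.range (Points.map i₀) :=
      (zeroLocus_isCutOutBy hcut E₀ ‹IsAffine U.left›).subset hmem'
    rw [hr, hw] at h3
    exact h3 hz
  -- the chart of the closed subspace
  let hf := hi.1
  let U' : Over S := hf.pullback a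
  let a' : (yon S).obj U' ⟶ Z := hf.fst a
  have sq : IsPullback a' ((yon S).map (hf.snd a)) i a := hf.isPullback a
  haveI : IsClosedImmersion (hf.snd a).left := hi.property_snd a
  have hU' : IsAffine U'.left := isAffine_of_isAffineHom (hf.snd a).left
  have ha' : RepWith @Etale a' := RepWith.baseChange sq.flip ha
  have has' : RepWith @Surjective a' := RepWith.baseChange sq.flip has
  have hd' : ∀ y : FieldPt Z, y.IsGeometric →
      ENat.card ((FieldPt.liftsTo y).obj (EtOver.mk a' ha')) ≤ (d : ℕ) := fun y hy => by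
    refine le_trans ?_ ((hd (y.map i) hy).resolve_left fun h => hiO (Points.mk y) h)
    refine ENat.card_le_card_of_injective
      (f := fun v => (⟨v.1 ≫ hf.snd a, ?_⟩ : (FieldPt.liftsTo (y.map i)).obj (EtOver.mk a ha))) ?_
    · show (yon S).map (v.1 ≫ hf.snd a) ≫ a = (y.map i).toHom
      refine Eq.trans ?_ (((congrArg (· ≫ i) v.2)).trans (FieldPt.toHom_map i y).symm)
      show _ = ((yon S).map v.1 ≫ a') ≫ i
      rw [Functor.map_comp, Category.assoc, Category.assoc, sq.w]
    · intro v v' hvv'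
      refine Subtype.ext ((yon S).map_injective (sq.hom_ext (v.2.trans v'.2.symm) ?_))
      rw [← Functor.map_comp, ← Functor.map_comp]
      exact congrArg (yon S).map (congrArg Subtype.val hvv')
  haveI : Subsingleton (HModEt Z G q) := IH Zs (isSeparatedSp_of_mono i hsep) U' hU' a' ha' has' hd' G hG q hq
  obtain ⟨eH⟩ := Groth.Agent.S10751.result (X := Zs) (Y := X) (ObjectProperty.homMk i) hi.1
    (isAffineMor_of_repWith (RepWith.mono (fun _ _ k (_ : IsClosedImmersion k) =>
      (inferInstance : IsAffineHom k)) hi)) G q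
  exact vq_iso e eH.symm.toEquiv.subsingleton

/-- modules vanishing over the open stratum -/
theorem vq_supported [S.IsSeparated] {d : ℕ} (IH : Bound S d) (X : AlgSp.Space S) (hsep : IsSeparatedSp X.obj)
    {U : Over S} [IsAffine U.left] (a : (yon S).obj U ⟶ X.obj) (ha : RepWith @Etale a)
    (has : RepWith @Surjective a) {T : Over S} [IsAffine T.left] (j : (yon S).obj T ⟶ X.obj)
    (hj : RepWith @IsOpenImmersion j)
    (hd : ∀ x : FieldPt X.obj, x.IsGeometric → Points.mk x ∈ Set.range (Points.map j) ∨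
      ENat.card ((FieldPt.liftsTo x).obj (EtOver.mk a ha)) ≤ (d : ℕ))
    (K : ModEt X.obj) [K.IsQuasicoherent]
    (hK : ∀ E, IsAff E → Over' (Set.range (Points.map j)) E → ∀ x : Sec K E, x = 0) (q : ℕ) (hq : d ≤ q) :
    Vq K q := by
  have hqc : IsQuasiCompactSp X.obj := ChevGen.compactSpace_of_cover a (ChevGen.isSurjectiveMor_of_repWith has)
  have hqs : IsQuasiSeparatedSp X.obj :=
    RepWith.mono (fun _ _ g (_ : IsClosedImmersion g) => (inferInstance : QuasiCompact g)) hsep
  let Ts : AlgSp.Space S := ⟨(yon S).obj T, IsAlgSpace.yon_obj T⟩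
  have hTqc : IsQuasiCompactSp Ts.obj := ChevGen.compactSpace_of_cover (X := Ts) (𝟙 _)
    fun x => ⟨x, Points.map_id x⟩
  obtain ⟨I, hI, hfg, Z, i, hcut, hr⟩ :=
    (Groth.Agent.S10084.result X hqc hqs Ts (ObjectProperty.homMk j) hj).1 hTqc
  have hfgn : ∀ (n : ℕ) (E : EtOver X.obj) (hE : IsAffine E.obj.left.left), ((I ^ n).ideal E hE).FG :=
    fun n E hE => (hfg E hE).pow
  let Q : ULift.{u + 1} ℕ → QSub K := fun n => killSub K (I ^ n.down) (isQCoh_pow I hI _) (hfgn _)
  haveI hQq : ∀ n, (Q n).obj.IsQuasicoherent := fun n => (Q n).isQuasicoherent_obj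
  have hle : ∀ {m n : ULift.{u + 1} ℕ}, m ≤ n → ∃ l : (Q m).obj ⟶ (Q n).obj, l ≫ (Q n).incl = (Q m).incl :=
    fun {m n} hmn => exists_lift _ _ fun E hE => by
      rw [(Q m).range_incl hE, (Q n).range_incl hE]
      intro x hx b hb
      refine hx b (Ideal.map_mono ?_ hb)
      rw [IdealEt.pow_ideal, IdealEt.pow_ideal]
      exact Ideal.pow_le_pow_right (ULift.down_le.2 hmn)
  choose l hl using @hle
  let D : ULift.{u + 1} ℕ ⥤ ModEt X.obj :=
    { obj := fun n => (Q n).obj
      map := fun h => l (leOfHom h)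
      map_id := fun n => (cancel_mono (Q n).incl).1 ((hl _).trans (Category.id_comp _).symm)
      map_comp := fun {m n k} h h' => (cancel_mono (Q k).incl).1 (by rw [Category.assoc, hl, hl, hl]) }
  let c : Cocone D :=
    { pt := K
      ι := { app := fun n => (Q n).incl
             naturality := fun m n h => (hl (leOfHom h)).trans (Category.comp_id _).symm } }
  obtain ⟨hc⟩ := nonempty_isColimit_of_exhaust c (fun n => QSub.mono_incl (Q n)) fun E hE s => by
    obtain ⟨n, hn⟩ := mem_iSup_of_vanish X.property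
      (Induct.isOpen_range_map (IsAlgSpace.yon_obj T) hj) hK hfg hcut hr E hE s
    obtain ⟨z, hz⟩ : s ∈ Set.range (secMap (Q ⟨n⟩).incl E) := by
      rw [(Q ⟨n⟩).range_incl hE]
      exact (upΓ_map K E s).1 hn
    exact ⟨⟨n⟩, z, hz⟩
  haveI := SerreAff.preservesColimitsOfShape_toAbEt X.obj (ULift.{u + 1} ℕ)
  haveI := Groth.Agent.S10736.result X hqc hqs (ULift.{u + 1} ℕ) q
  let F := toAbEt X.obj ⋙ HEtF X.obj q
  haveI : PreservesColimitsOfShape (ULift.{u + 1} ℕ) F := inferInstanceAs (PreservesColimitsOfShape _ (_ ⋙ _))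
  have hF := isColimitOfPreserves F hc
  haveI hsub : ∀ n, Subsingleton ((D ⋙ F).obj n : Type (u + 1)) := fun n =>
    vq_killed IH X hsep a ha has hd hI hcut hr n.down (Q n).obj (kills_killSub K _ _ _) q hq
  have h0 : IsZero (F.mapCocone c).pt := by
    refine (IsZero.iff_id_eq_zero _).2 (hF.hom_ext fun n => ?_)
    refine AddCommGrpCat.hom_ext (AddMonoidHom.ext fun z => ?_)
    rw [@Subsingleton.elim _ (hsub n) z 0, map_zero, map_zero]
  exact AddCommGrpCat.subsingleton_of_isZero h0

theorem exists_factor {C : Type u₁} [Category.{v₁} C] [Abelian C] {M N : C} (η : M ⟶ N) :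
    ∃ i : cokernel (kernel.ι η) ⟶ N, Mono i ∧ η ≫ cokernel.π i = 0 := by
  refine ⟨Abelian.factorThruCoimage η, inferInstanceAs (Mono (Abelian.factorThruCoimage η)), ?_⟩
  calc η ≫ cokernel.π (Abelian.factorThruCoimage η)
      = (Abelian.coimage.π η ≫ Abelian.factorThruCoimage η) ≫ cokernel.π (Abelian.factorThruCoimage η) := by
        rw [Abelian.coimage.fac]
    _ = 0 := by rw [Category.assoc, cokernel.condition, comp_zero]

section comparison

variable {X : Sp S} {M N : ModEt X} (η : M ⟶ N)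

theorem kernel_sec_zero (E : EtOver X) (h : Function.Injective (secMap η E)) (x : Sec (kernel η) E) : x = 0 := by
  refine injective_secMap_of_mono (kernel.ι η) E ((h ?_).trans (map_zero (secMap (kernel.ι η) E)).symm)
  exact (secMap_comp_zero (kernel.condition η) E x).trans (map_zero (secMap η E)).symm

theorem cokernel_sec_zero {I : ModEt X} (i : I ⟶ N) (hi : η ≫ cokernel.π i = 0) [I.IsQuasicoherent]
    [N.IsQuasicoherent] (E : EtOver X) [IsAff E] (h : Function.Surjective (secMap η E))
    (x : Sec (cokernel i) E) : x = 0 := by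
  obtain ⟨b, rfl⟩ := surjective_cokernel_π i E x
  obtain ⟨m, rfl⟩ := h b
  exact secMap_comp_zero hi E m

theorem vq_of_parts (i : cokernel (kernel.ι η) ⟶ N) [Mono i] {r : ℕ} (hK : Vq (kernel η) (r + 1))
    (hC : Vq (cokernel i) r) (hN : Vq N (r + 1)) : Vq M (r + 1) := by
  have hI : Vq (cokernel (kernel.ι η)) (r + 1) := vq_left
    (T := ShortComplex.mk i (cokernel.π i) (cokernel.condition i))
    (ShortComplex.ShortExact.mk (ShortComplex.exact_of_g_is_cokernel _ (cokernelIsCokernel i))) hN hC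
  exact vq_mid (T := ShortComplex.mk (kernel.ι η) (cokernel.π (kernel.ι η)) (cokernel.condition _))
    (ShortComplex.ShortExact.mk (ShortComplex.exact_of_g_is_cokernel _ (cokernelIsCokernel (kernel.ι η)))) hK hI

end comparison

/-- a comparison bijective over the open stratum -/
theorem vq_of_hom [S.IsSeparated] {d : ℕ} (IH : Bound S d) (X : AlgSp.Space S) (hsep : IsSeparatedSp X.obj)
    {U : Over S} [IsAffine U.left] (a : (yon S).obj U ⟶ X.obj) (ha : RepWith @Etale a)
    (has : RepWith @Surjective a) {T : Over S} [IsAffine T.left] (j : (yon S).obj T ⟶ X.obj)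
    (hj : RepWith @IsOpenImmersion j)
    (hd : ∀ x : FieldPt X.obj, x.IsGeometric → Points.mk x ∈ Set.range (Points.map j) ∨
      ENat.card ((FieldPt.liftsTo x).obj (EtOver.mk a ha)) ≤ (d : ℕ))
    {M N : ModEt X.obj} [M.IsQuasicoherent] [N.IsQuasicoherent] (η : M ⟶ N)
    (hη : ∀ E, Over' (Set.range (Points.map j)) E → Function.Bijective (secMap η E))
    (r : ℕ) (hr : d ≤ r) (hNq : Vq N (r + 1)) : Vq M (r + 1) := by
  haveI : (kernel η).IsQuasicoherent := isQuasicoherent_kernel η
  obtain ⟨i, hi, hi0⟩ := exists_factor η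
  haveI := hi
  haveI : (cokernel (kernel.ι η)).IsQuasicoherent := isQuasicoherent_cokernel (kernel.ι η)
  haveI : (cokernel i).IsQuasicoherent := isQuasicoherent_cokernel i
  exact vq_of_parts η i
    (vq_supported IH X hsep a ha has j hj hd _ (fun E _ hO => kernel_sec_zero η E (hη E hO).1) _ (by omega))
    (vq_supported IH X hsep a ha has j hj hd _
      (fun E hE hO => @cokernel_sec_zero _ _ _ _ η _ i hi0 _ _ E hE (hη E hO).2) _ hr) hNq

/-- pushforwards from an affine open subspace have no higher cohomology -/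
theorem vq_push_affine (X : AlgSp.Space S) {T : Over S} [IsAffine T.left] (j : (yon S).obj T ⟶ X.obj)
    (hr : Representable j) (haff : IsAffineMor j) (M₁ : ModEt ((yon S).obj T)) [M₁.IsQuasicoherent] (r : ℕ) :
    Vq ((pushModEt hr).obj M₁) (r + 1) := by
  let Ts : AlgSp.Space S := ⟨(yon S).obj T, IsAlgSpace.yon_obj T⟩
  haveI : Subsingleton (HModEt Ts.obj M₁ (r + 1)) :=
    Groth.Agent.S10754.result Ts T inferInstance (Iso.refl _) M₁ (r + 1) r.succ_pos
  obtain ⟨eH⟩ := Groth.Agent.S10751.result (X := Ts) (Y := X) (ObjectProperty.homMk j) hr haff M₁ (r + 1)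
  exact eH.symm.toEquiv.subsingleton

theorem bound_succ [S.IsSeparated] {d : ℕ} (IH : Bound S d) : Bound S (d + 1) := by
  intro X hsep U hU a ha has hd M hM q hq
  haveI := hU
  haveI := hM
  obtain ⟨T, j, hT, hj, hstrat⟩ := exists_affine_maximal X hsep a ha d hd
  haveI := hT
  have hje : IsEtaleMor j := Induct.isEtaleMor_of_openImm (IsAlgSpace.yon_obj T) X.property hj
  have haff : IsAffineMor j := isAffineMor_from_affine X.property hsep j
  haveI hM₁ : ((resPost hje).obj M).IsQuasicoherent := isQuasicoherent_resPost X.property hj.1 hje M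
  haveI : ((pushModEt hj.1).obj ((resPost hje).obj M)).IsQuasicoherent :=
    SerreChev.isQuasicoherent_push hj.1 haff _
  obtain ⟨r, rfl⟩ : ∃ r, q = r + 1 := ⟨q - 1, by omega⟩
  exact vq_of_hom (M := M) (N := (pushModEt hj.1).obj ((resPost hje).obj M)) IH X hsep a ha has j hj hstrat ((Stk19b.QPullEtale.restrictPushAdj hj.1 hje).unit.app M)
    (fun E hE => bijective_unit hj hje M E hE) r (by omega) (vq_push_affine X j hj.1 haff _ r)

theorem bound [S.IsSeparated] : ∀ d, Bound S d
  | 0 => bound_zero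
  | d + 1 => bound_succ (bound d)

end Groth.Agent.AlgSpLib.SepChart
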