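import Groth.Agent.AlgSpLib.NormSchemeCrit
import Groth.Agent.AlgSpLib.SchemeStage
import Groth.Agent.AlgSpLib.SepFibreVanish
import Groth.Agent.S10033
import Groth.Agent.S10007

/-!
An algebraic space with an integral surjection from a scheme with fibres in affine opens is a scheme.
-/

universe u

open CategoryTheory CategoryTheory.Limits AlgebraicGeometry Opposite Topology
open AlgSp

noncomputable section

set_option linter.style.haveILetI false

namespace Groth.Agent.AlgSpLib.IntSchemeCrit

open Groth.Agent.AlgSpLib SchStage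

set_option backward.isDefEq.respectTransparency.types false
set_option backward.isDefEq.respectTransparency false

attribute [local instance] CategoryTheory.isConnected_of_hasTerminal

variable {S : Scheme.{u}}

/-- quasi-affine schemes have affine opens around finite sets -/
theorem exists_affine_of_finite {Y : Scheme.{u}} [Y.IsQuasiAffine] {A : Set ↥Y} (hA : A.Finite) :
    ∃ W : Y.Opens, IsAffineOpen W ∧ A ⊆ W := by
  obtain ⟨f, hf1, hf2⟩ := GrpdLib.exists_basicOpen_of_finite (Y.toSpecΓ '' A) (hA.image _) Y.toSpecΓ.opensRange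
    (by rintro _ ⟨a, -, rfl⟩; exact ⟨a, rfl⟩)
  exact ⟨Y.toSpecΓ ⁻¹ᵁ (Spec Γ(Y, ⊤)).basicOpen f,
    ((isAffineOpen_top _).basicOpen f).preimage_of_isOpenImmersion Y.toSpecΓ hf2,
    fun a ha => hf1 ⟨a, ha, rfl⟩⟩

theorem isClosed_image {X : AlgSp.Space S} {Y : Over S} (π : (yon S).obj Y ⟶ X.obj)
    (hint : RepWith @IsIntegralHom π) {C : Set ↥Y.left} (hC : IsClosed C) : IsClosed (Points.ofPt π '' C) := by
  have h2 := isClosedMap_of_univClosed X.property (ChevGen.isUnivClosedMor_of_integral
    ((isIntegralMor_iff_repWith π).2 hint)) _ ((Points.schemeHomeo Y).isClosedMap _ hC)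
  rw [Set.image_image] at h2
  convert h2 using 2
  exact Points.ofPt_eq_map_ofScheme π _

/-- an integral surjection from a quasi-affine scheme is refined by a finite one -/
theorem exists_finite_qa [QuasiSeparatedSpace ↥S] (X : AlgSp.Space S) (hXqc : IsQuasiCompactSp X.obj)
    (hXqs : IsQuasiSeparatedSp X.obj) {Y₀ : Over S} [Y₀.left.IsQuasiAffine] (g : (yon S).obj Y₀ ⟶ X.obj)
    (hint : RepWith @IsIntegralHom g) (hsurj : Function.Surjective (Points.ofPt g)) :
    ∃ (Y : Over S) (π : (yon S).obj Y ⟶ X.obj), RepWith @IsFinite π ∧ Function.Surjective (Points.ofPt π) ∧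
      Y.left.IsQuasiAffine := by
  classical
  let f : (⟨(yon S).obj Y₀, IsAlgSpace.yon_obj Y₀⟩ : AlgSp.Space S) ⟶ X := ObjectProperty.homMk g
  obtain ⟨I, _, _, _, D, t, c, hc, e, hD, hDa, ht, hg⟩ :=
    Groth.Agent.S10033.result S f ((isIntegralMor_iff_repWith _).2 hint) hXqc hXqs
  change c.pt ≅ (yon S).obj Y₀ at e
  haveI : IsCofiltered Iᵒᵖ := inferInstance
  have hta : ∀ i, IsAffineMor (t.app i) := fun i => (isAffineMor_iff_repWith _).2
    (RepWith.mono (fun _ _ g (_ : IsFinite g) => (inferInstance : IsAffineHom g))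
      ((isFiniteMor_iff_repWith _).1 (ht i).1))
  have hqc : ∀ i, IsQuasiCompactSp (D.obj i) := fun i =>
    OpenFac.isQuasiCompactSp_of_affine X.property (hta i) hXqc
  have hqs : ∀ i, IsQuasiSeparatedSp (D.obj i) := fun i => VCart.isQuasiSeparatedSp_of_affineMor (hta i) hXqs
  obtain ⟨o, ho⟩ := Groth.Agent.S10007.result S D hD hDa hqc hqs c hc (isRepresentable_of_iso_yon e.symm)
  obtain ⟨To, ⟨eo⟩⟩ := exists_iso_yon_of_isRepresentable ho
  have hT : ∀ l : Over o, ∃ W : Over S, Nonempty ((yon S).obj W ≅ D.obj l.left) := fun l =>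
    exists_iso_yon_of_representable ((isAffineMor_iff_repWith _).1 (hDa _ _ l.hom)).1 eo
  choose T hεn using hT
  let ε : ∀ l, (yon S).obj (T l) ≅ D.obj l.left := fun l => (hεn l).some
  choose mp hmp using fun (l l' : Over o) (φ : l ⟶ l') =>
    (yon S).map_surjective ((ε l).hom ≫ D.map φ.left ≫ (ε l').inv)
  let E : Over o ⥤ Over S :=
    { obj := T
      map := fun {l l'} φ => mp l l' φ
      map_id := fun l => (yon S).map_injective (by
        rw [hmp, (yon S).map_id, show (𝟙 l : l ⟶ l).left = 𝟙 l.left from rfl, D.map_id, Category.id_comp, Iso.hom_inv_id])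
      map_comp := fun {a b d} φ ψ => (yon S).map_injective (by
        rw [(yon S).map_comp, hmp, hmp, hmp, show (φ ≫ ψ).left = φ.left ≫ ψ.left from rfl, D.map_comp]
        simp only [Category.assoc, Iso.inv_hom_id_assoc]) }
  choose cp hcp using fun l : Over o => (yon S).map_surjective (e.inv ≫ c.π.app l.left ≫ (ε l).inv)
  have hE : ∀ {l l'} (φ : l ⟶ l'), (yon S).map (E.map φ) = (ε l).hom ≫ D.map φ.left ≫ (ε l').inv := fun φ => hmp _ _ φ
  let cE : Cone E :=
    { pt := Y₀
      π :=
        { app := cp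
          naturality := fun a b φ => (yon S).map_injective (by
            show (yon S).map (𝟙 _ ≫ cp b) = (yon S).map (cp a ≫ E.map φ)
            rw [Category.id_comp, (yon S).map_comp, hcp, hcp, hE, ← c.w φ.left]
            simp only [Category.assoc, Iso.inv_hom_id_assoc]) } }
  let iso : Over.forget o ⋙ D ≅ E ⋙ yon S :=
    NatIso.ofComponents (fun l => (ε l).symm) fun {a b} φ => by
      show D.map φ.left ≫ (ε b).inv = (ε a).inv ≫ (yon S).map (E.map φ)
      rw [hE, Iso.inv_hom_id_assoc]
  have hy : IsLimit ((yon S).mapCone cE) := by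
    refine IsLimit.ofIsoLimit ((IsLimit.postcomposeHomEquiv iso _).symm
      ((Functor.Initial.isLimitWhiskerEquiv (Over.forget o) c).symm hc)) (Cone.ext e fun l => ?_)
    show c.π.app l.left ≫ (ε l).inv = e.hom ≫ (yon S).map (cp l)
    rw [hcp, Iso.hom_inv_id_assoc]
  have hcE : IsLimit cE := isLimitOfReflects (yon S) hy
  let E' := E ⋙ Over.forget S
  let C : Cone E' := (Over.forget S).mapCone cE
  have hC : IsLimit C := isLimitOfPreserves (Over.forget S) hcE
  haveI : ∀ {a b : Over o} (φ : a ⟶ b), IsAffineHom (E'.map φ) := fun {a b} φ => by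
    refine (repWith_yon_map_iff @IsAffineHom (E.map φ)).1 ?_
    rw [hE]
    exact RepWith.comp (repWith_of_isIso @IsAffineHom _) (RepWith.comp ((isAffineMor_iff_repWith _).1 (hDa _ _ φ.left))
      (repWith_of_isIso @IsAffineHom _))
  haveI : ∀ l, CompactSpace ↥(E'.obj l) := fun l => compactSpace_of_sp (T l)
    (OpenFac.isQuasiCompactSp_of_affine X.property (f := (ε l).hom ≫ t.app l.left)
      ((isAffineMor_iff_repWith _).2 (RepWith.comp (repWith_of_isIso @IsAffineHom _)
        ((isAffineMor_iff_repWith _).1 (hta l.left)))) hXqc)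
  haveI : ∀ l, QuasiSeparatedSpace ↥(E'.obj l) := fun l => quasiSeparatedSpace_of_sp (T l)
    (VCart.isQuasiSeparatedSp_of_affineMor (μ := (ε l).hom ≫ t.app l.left)
      ((isAffineMor_iff_repWith _).2 (RepWith.comp (repWith_of_isIso @IsAffineHom _)
        ((isAffineMor_iff_repWith _).1 (hta l.left)))) hXqs)
  haveI : Scheme.IsQuasiAffine C.pt := ‹Y₀.left.IsQuasiAffine›
  obtain ⟨l, hl⟩ := Scheme.exists_isQuasiAffine_of_isLimit E' C hC
  refine ⟨T l, (ε l).hom ≫ t.app l.left, RepWith.comp (repWith_of_isIso (P := @IsFinite) _)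
    ((isFiniteMor_iff_repWith _).1 (ht l.left).1), fun z => ?_, hl⟩
  obtain ⟨y, hy⟩ := hsurj z
  refine ⟨(cp l).left y, ?_⟩
  rw [← hy, ← ofPt_map, hcp, show Points.ofPt g y = Points.ofPt f.hom y from rfl, ← hg l.left]
  simp only [Category.assoc, Iso.inv_hom_id_assoc]

/-- **integral descent of schemes**, quasi-separated form -/
theorem isRepresentable_of_integral_qs [QuasiSeparatedSpace ↥S] (X : AlgSp.Space S) (hqs : IsQuasiSeparatedSp X.obj)
    {Y : Over S} (π : (yon S).obj Y ⟶ X.obj) (hint : RepWith @IsIntegralHom π)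
    (hsurj : Function.Surjective (Points.ofPt π)) (hfib : NormNhd.FibAff π) :
    X.obj.obj.IsRepresentable := by
  classical
  have hloc : ∀ x : Points X.obj, ∃ (T : Over S) (j : (yon S).obj T ⟶ X.obj),
      RepWith @IsOpenImmersion j ∧ x ∈ Set.range (Points.map j) := fun x => by
    obtain ⟨W, hW, hWx⟩ := hfib x
    obtain ⟨V₁, hV₁o, hV₁c, hxV₁, hV₁sub⟩ := OpenFac.exists_compact_open X.property (isCompact_singleton (x := x))
      (isClosed_image π hint W.isOpen.isClosed_compl).isOpen_compl
      (by rintro _ rfl ⟨y, hy, hyx⟩; exact hy (hWx y hyx))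
    let X₁ : AlgSp.Space S := ⟨openSubspace X.obj V₁, isAlgSpace_openSubspace X.property hV₁o⟩
    let j₁ : X₁.obj ⟶ X.obj := openSubspaceι X.obj V₁
    haveI : Mono j₁ := inferInstanceAs (Mono (openSubspaceι X.obj V₁))
    have hj₁ : RepWith @IsOpenImmersion j₁ := repWith_openSubspaceι X.obj hV₁o
    have hX₁c : IsQuasiCompactSp X₁.obj := by
      refine (isQuasiCompactSp_iff_compactSpace X₁.property).2 ⟨?_⟩
      rw [(isEmbedding_map_of_immersion X.property (RepWith.mono (fun _ _ g (_ : IsOpenImmersion g) =>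
        (inferInstance : IsImmersion g)) hj₁)).1.isCompact_iff, Set.image_univ, range_openSubspaceι]
      exact hV₁c
    have hX₁s : IsQuasiSeparatedSp X₁.obj := by
      have hT : IsTerminal ((yon S).obj (Over.mk (𝟙 S))) := IsTerminal.isTerminalObj (yon S) _ Over.mkIdTerminal
      exact (isQuasiSeparatedMor_iff_sp _).1
        (isQuasiSeparatedMor_comp (isQuasiSeparatedMor_of_mono j₁) ((isQuasiSeparatedMor_iff_sp (hT.from X.obj)).2 hqs))
    obtain ⟨Q, w, fst, sq, hw⟩ := exists_yon_of_repWith hj₁ π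
    haveI : IsOpenImmersion w.left := hw
    have hintQ : RepWith @IsIntegralHom fst := RepWith.baseChange sq.flip hint
    have hsurjQ : Function.Surjective (Points.ofPt fst) := fun z => by
      obtain ⟨y, hy⟩ := hsurj (Points.map j₁ z)
      obtain ⟨c, hc, -⟩ := exists_point_of_isPullback sq (x := z) (y := Points.ofScheme Y y)
        (by rw [← hy, Points.ofPt_eq_map_ofScheme])
      obtain ⟨q, rfl⟩ := (Points.schemeEquiv Q).surjective c
      exact ⟨q, by rw [Points.ofPt_eq_map_ofScheme]; exact hc⟩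
    have hwW : Set.range w.left ⊆ Set.range W.ι := by
      rintro _ ⟨q, rfl⟩
      rw [Scheme.Opens.range_ι]
      by_contra hn
      have h1 : Points.map j₁ (Points.ofPt fst q) ∈ V₁ := (range_openSubspaceι X.obj V₁).subset ⟨_, rfl⟩
      rw [Points.map_ofPt, sq.w, ofPt_map] at h1
      exact hV₁sub h1 ⟨_, hn, rfl⟩
    haveI : CompactSpace ↥Q.left := compactSpace_of_sp Q (OpenFac.isQuasiCompactSp_of_affine X₁.property
      ((isAffineMor_iff_repWith fst).2
      (RepWith.mono (fun _ _ g (_ : IsIntegralHom g) => (inferInstance : IsAffineHom g)) hintQ)) hX₁c)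
    haveI : IsAffine W.toScheme := hW
    let v : Q.left ⟶ W.toScheme := IsOpenImmersion.lift W.ι w.left hwW
    haveI : IsOpenImmersion v := by
      haveI : IsOpenImmersion (v ≫ W.ι) := (IsOpenImmersion.lift_fac W.ι w.left hwW).symm ▸ hw
      exact IsOpenImmersion.of_comp v W.ι
    haveI : Q.left.IsQuasiAffine := Scheme.IsQuasiAffine.of_isImmersion v
    obtain ⟨Y', π', hfin', hsurj', hqa⟩ := exists_finite_qa X₁ hX₁c hX₁s fst hintQ hsurjQ
    have hrep : X₁.obj.obj.IsRepresentable := by
      refine NormNhd.isRepresentable_of_fibres X₁ hX₁c hX₁s π' hfin' hsurj' fun z => ?_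
      haveI := hqa
      have hfinz : ({q | Points.ofPt π' q = z} : Set ↥Y'.left).Finite := by
        obtain ⟨P, u', fst', sq', hu⟩ := exists_yon_of_repWith hfin' π'
        obtain ⟨u, rfl⟩ := (yon S).map_surjective fst'
        haveI : IsFinite u'.left := hu
        obtain ⟨y₀, hy₀⟩ := hsurj' z
        refine ((u'.left.finite_preimage_singleton y₀).image u.left).subset fun y hy => ?_
        obtain ⟨r, h1, h2⟩ := (ofPt_eq_ofPt_iff sq' y y₀).1 (hy.trans hy₀.symm)
        exact ⟨r, h2, h1⟩
      obtain ⟨B, hB, hBz⟩ := exists_affine_of_finite hfinz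
      exact ⟨B, hB, fun q hq => hBz hq⟩
    obtain ⟨T, ⟨eT⟩⟩ := exists_iso_yon_of_isRepresentable hrep
    refine ⟨T, eT.hom ≫ j₁, RepWith.comp (repWith_of_isIso (P := @IsOpenImmersion) _) hj₁, ?_⟩
    obtain ⟨z, hz⟩ := (range_openSubspaceι X.obj V₁).symm.subset (hxV₁ rfl)
    exact ⟨Points.map eT.inv z, by rw [← hz, ← Points.map_comp, eT.inv_hom_id_assoc]⟩
  choose T j hj hjx using hloc
  obtain ⟨U₀, a, -, has⟩ := X.property.atlas
  obtain ⟨G, ⟨eG⟩⟩ := exists_iso_yon_of_openCover (f := fun v : ↥U₀.left => j (Points.ofPt a v))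
    (fun v => hj _) fun x => by
      obtain ⟨v, rfl⟩ := surjective_ofPt a has x
      exact ⟨v, hjx _⟩
  exact isRepresentable_of_iso_yon (F := X.obj) eG

/-- **integral descent of schemes** -/
theorem isRepresentable_of_integral [QuasiSeparatedSpace ↥S] (X : AlgSp.Space S) (hsep : IsSeparatedSp X.obj)
    {Y : Over S} (π : (yon S).obj Y ⟶ X.obj) (hint : RepWith @IsIntegralHom π)
    (hsurj : Function.Surjective (Points.ofPt π)) (hfib : NormNhd.FibAff π) :
    X.obj.obj.IsRepresentable :=
  isRepresentable_of_integral_qs X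
    (RepWith.mono (fun _ _ g (_ : IsClosedImmersion g) => (inferInstance : QuasiCompact g)) hsep) π hint hsurj hfib

end Groth.Agent.AlgSpLib.IntSchemeCrit
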