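import Groth.Agent.AlgSpLib.FieldDescent

/-!
A space which is a scheme over a purely transcendental extension is a scheme.
-/

universe u

open CategoryTheory CategoryTheory.Limits AlgebraicGeometry Opposite Topology
open AlgSp

noncomputable section

set_option linter.style.haveILetI false

namespace Groth.Agent.AlgSpLib.PurelyTransc

open Groth.Agent.AlgSpLib FieldDescent

set_option backward.isDefEq.respectTransparency.types false
set_option backward.isDefEq.respectTransparency false

variable {k : Type u} [Field k]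

local notation "Bk" => Spec (CommRingCat.of k)

theorem exists_algHom {A B : Type u} [CommRing A] [Algebra k A] [CommRing B] [Algebra k B]
    (q : FieldDescent.oA k B ⟶ FieldDescent.oA k A) : ∃ φ : A →ₐ[k] B, FieldDescent.oMap φ = q := by
  refine ⟨{ (Spec.preimage q.left).hom with commutes' := fun c => ?_ }, ?_⟩
  · have h : CommRingCat.ofHom (algebraMap k A) ≫ Spec.preimage q.left = CommRingCat.ofHom (algebraMap k B) := by
      refine Spec.map_injective ?_
      rw [Spec.map_comp, Spec.map_preimage]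
      exact Over.w q
    exact congrArg (fun ψ : CommRingCat.of k ⟶ CommRingCat.of B => ψ c) h
  · exact Over.OverMorphism.ext (Spec.map_preimage q.left)

theorem isAffineHom_oMap {A B : Type u} [CommRing A] [Algebra k A] [CommRing B] [Algebra k B] (φ : A →ₐ[k] B) :
    IsAffineHom (FieldDescent.oMap φ).left :=
  inferInstanceAs (IsAffineHom (Spec.map (CommRingCat.ofHom φ.toRingHom)))

/-- a point of affine space avoiding a hypersurface over an extension, with all its conjugates -/
theorem exists_avoid {ι : Type u} (kbar : Type u) [Field kbar] [Algebra k kbar] [IsAlgClosure k kbar] (L : Type u)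
    [Field L] [Algebra k L] [IsAlgClosed L] (g : MvPolynomial ι L) (hg : g ≠ 0) (f : MvPolynomial ι k) (hf : f ≠ 0) :
    ∃ a : ι → kbar, MvPolynomial.aeval a f ≠ 0 ∧ ∀ (Ω : Type u) [Field Ω] [Algebra k Ω] (jL : L →ₐ[k] Ω)
      (σ : kbar →ₐ[k] Ω), MvPolynomial.eval₂ jL.toRingHom (fun i => σ (a i)) g ≠ 0 := by
  classical
  haveI : Algebra.IsAlgebraic k kbar := IsAlgClosure.isAlgebraic
  haveI : IsAlgClosed kbar := IsAlgClosure.isAlgClosed k
  let i₀ : kbar →ₐ[k] L := IsAlgClosed.lift
  letI : Algebra kbar L := i₀.toRingHom.toAlgebra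
  obtain ⟨d, hd⟩ := MvPolynomial.exists_coeff_ne_zero hg
  obtain ⟨π, hπ⟩ : ∃ π : L →ₗ[kbar] kbar, π (g.coeff d) ≠ 0 := by
    obtain ⟨π, hπ⟩ := LinearMap.exists_extend
      (LinearEquiv.toSpanNonzeroSingleton kbar L _ hd).symm.toLinearMap
    refine ⟨π, ?_⟩
    have h := LinearMap.congr_fun hπ ⟨g.coeff d, Submodule.mem_span_singleton_self _⟩
    rw [show π (g.coeff d) = (LinearEquiv.toSpanNonzeroSingleton kbar L _ hd).symm
      ⟨g.coeff d, Submodule.mem_span_singleton_self _⟩ from h, LinearEquiv.map_ne_zero_iff]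
    exact fun h0 => hd (congrArg Subtype.val h0)
  let g₀ : MvPolynomial ι kbar := ∑ e ∈ g.support, MvPolynomial.monomial e (π (g.coeff e))
  have hev : ∀ b : ι → kbar, MvPolynomial.eval₂ (RingHom.id L) (fun i => i₀ (b i)) g = 0 →
      MvPolynomial.eval b g₀ = 0 := fun b h => by
    have h1 := congrArg π h
    rw [map_zero, MvPolynomial.eval₂_eq, map_sum] at h1
    rw [← h1, map_sum]
    refine Finset.sum_congr rfl fun e _ => ?_
    rw [MvPolynomial.eval_monomial, mul_comm, ← smul_eq_mul, ← map_smul]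
    congr 1
    rw [Algebra.smul_def, mul_comm, RingHom.id_apply]
    congr 1
    rw [Finsupp.prod, map_prod]
    exact Finset.prod_congr rfl fun i _ => map_pow i₀.toRingHom (b i) (e i)
  have hg₀ : g₀ ≠ 0 := fun h => hπ (by
    have h1 := congrArg (MvPolynomial.coeff d) h
    simp only [g₀, MvPolynomial.coeff_sum, MvPolynomial.coeff_monomial, MvPolynomial.coeff_zero] at h1
    rwa [Finset.sum_ite_eq', if_pos (MvPolynomial.mem_support_iff.2 hd)] at h1)
  -- finitely many conjugates
  have hfin : (Set.range fun τ : kbar →ₐ[k] kbar => MvPolynomial.map τ.toRingHom g₀).Finite := by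
    let C : Finset kbar := g₀.support.image g₀.coeff
    let R : Set kbar := ⋃ c ∈ C, ((minpoly k c).aroots kbar).toFinset
    have hR : R.Finite := Set.Finite.biUnion C.finite_toSet fun c _ => Finset.finite_toSet _
    haveI := hR.to_subtype
    refine Set.Finite.subset (Set.finite_range fun F : g₀.support → R =>
      ∑ e : g₀.support, MvPolynomial.monomial e.1 (F e).1) ?_
    rintro _ ⟨τ, rfl⟩
    refine ⟨fun e => ⟨τ (g₀.coeff e.1), Set.mem_biUnion (Finset.mem_image_of_mem _ e.2)
      (Multiset.mem_toFinset.2 (Polynomial.mem_aroots.2 ⟨minpoly.ne_zero (Algebra.IsIntegral.isIntegral _),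
        by rw [Polynomial.aeval_algHom_apply, minpoly.aeval, map_zero]⟩))⟩, ?_⟩
    show _ = MvPolynomial.map τ.toRingHom g₀
    conv_rhs => rw [MvPolynomial.as_sum g₀, map_sum]
    rw [← Finset.sum_coe_sort g₀.support]
    exact Finset.sum_congr rfl fun e _ => (MvPolynomial.map_monomial τ.toRingHom e.1 (g₀.coeff e.1)).symm
  let P : MvPolynomial ι kbar := MvPolynomial.map (algebraMap k kbar) f * ∏ q ∈ hfin.toFinset, q
  have hP : P ≠ 0 := mul_ne_zero
    ((map_ne_zero_iff _ (MvPolynomial.map_injective _ (algebraMap k kbar).injective)).2 hf)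
    (Finset.prod_ne_zero_iff.2 fun q hq => by
      obtain ⟨τ, rfl⟩ := hfin.mem_toFinset.1 hq
      exact (map_ne_zero_iff _ (MvPolynomial.map_injective _ τ.toRingHom.injective)).2 hg₀)
  obtain ⟨a, ha⟩ : ∃ a, MvPolynomial.eval a P ≠ 0 := by
    by_contra h
    rw [not_exists] at h
    exact hP (MvPolynomial.funext fun a => by rw [map_zero]; exact not_not.1 (h a))
  rw [map_mul, mul_ne_zero_iff, map_prod, Finset.prod_ne_zero_iff, MvPolynomial.eval_map] at ha
  refine ⟨a, ha.1, fun Ω _ _ jL σ hzero => ?_⟩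
  -- the embedding factors through the fixed one
  let θ : kbar →ₐ[k] Ω := jL.comp i₀
  have hσ : ∀ c : kbar, σ c ∈ θ.range := fun c => by
    have hc : IsIntegral k c := Algebra.IsIntegral.isIntegral c
    have hs : ((minpoly k c).map (algebraMap k kbar)).Splits := IsAlgClosed.splits _
    have hmem : σ c ∈ ((minpoly k c).map (algebraMap k Ω)).roots := by
      rw [Polynomial.mem_roots (Polynomial.map_ne_zero (minpoly.ne_zero hc)), Polynomial.IsRoot, Polynomial.eval_map,
        ← Polynomial.aeval_def, Polynomial.aeval_algHom_apply, minpoly.aeval, map_zero]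
    rw [← θ.comp_algebraMap, ← Polynomial.map_map, hs.roots_map] at hmem
    obtain ⟨b, -, hb⟩ := Multiset.mem_map.1 hmem
    exact ⟨b, hb⟩
  let τ : kbar →ₐ[k] kbar :=
    (AlgEquiv.ofInjectiveField θ).symm.toAlgHom.comp (σ.codRestrict θ.range hσ)
  have hτ : ∀ c, θ (τ c) = σ c := fun c =>
    congrArg Subtype.val ((AlgEquiv.ofInjectiveField θ).apply_symm_apply ⟨σ c, hσ c⟩)
  obtain ⟨τ', hτ'⟩ : ∃ τ' : kbar →ₐ[k] kbar, ∀ c, τ (τ' c) = c := by
    let Φ := AlgEquiv.ofBijective τ (Algebra.IsAlgebraic.algHom_bijective τ)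
    exact ⟨Φ.symm.toAlgHom, fun c => Φ.apply_symm_apply c⟩
  refine ha.2 _ (hfin.mem_toFinset.2 ⟨τ', rfl⟩) ?_
  have h0 : MvPolynomial.eval (fun i => τ (a i)) g₀ = 0 := hev _ <| jL.toRingHom.injective (by
    rw [map_zero, MvPolynomial.eval₂_comp_left, RingHom.comp_id, ← hzero]
    congr 1
    funext i
    exact hτ (a i))
  refine τ.toRingHom.injective ?_
  rw [map_zero, MvPolynomial.eval_map, MvPolynomial.eval₂_comp_left, ← h0]
  have e : τ.toRingHom.comp τ'.toRingHom = RingHom.id kbar := RingHom.ext hτ'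
  rw [e]
  rfl

/-- finitely generated pieces of the function field sit in a localization of the polynomial ring -/
theorem exists_away {ι : Type u} (s : Finset (FractionRing (MvPolynomial ι k))) :
    ∃ f : MvPolynomial ι k, f ≠ 0 ∧
      Nonempty (↥(Algebra.adjoin k (s : Set (FractionRing (MvPolynomial ι k)))) →ₐ[k] Localization.Away f) := by
  classical
  let R := MvPolynomial ι k
  let K := FractionRing R
  choose num den hden using fun z : K => IsLocalization.exists_mk'_eq (nonZeroDivisors R) z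
  let f : R := ∏ z ∈ s, (den z : R)
  have hf : f ≠ 0 := Finset.prod_ne_zero_iff.2 fun z _ => nonZeroDivisors.ne_zero (den z).2
  have hfK : algebraMap R K f ≠ 0 := fun h => hf (IsFractionRing.injective R K (h.trans (map_zero _).symm))
  have hunit : ∀ y : Submonoid.powers f, IsUnit ((IsScalarTower.toAlgHom k R K) (y : R)) := by
    rintro ⟨_, n, rfl⟩
    show IsUnit ((IsScalarTower.toAlgHom k R K) (f ^ n))
    rw [map_pow]
    exact (IsUnit.mk0 _ hfK).pow n
  let ψ : Localization.Away f →ₐ[k] K := IsLocalization.liftAlgHom (f := IsScalarTower.toAlgHom k R K) hunit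
  have hψ : ∀ r : R, ψ (algebraMap R _ r) = algebraMap R K r := fun r => IsLocalization.lift_eq _ r
  have hψinj : Function.Injective ψ := by
    refine (injective_iff_map_eq_zero ψ).2 fun z hz => ?_
    obtain ⟨⟨r, w⟩, hw⟩ := IsLocalization.surj (Submonoid.powers f) z
    have h1 : algebraMap R K r = 0 := by
      rw [← hψ, ← hw, map_mul, hz, zero_mul]
    rw [IsFractionRing.injective R K (h1.trans (map_zero _).symm), map_zero] at hw
    exact (IsLocalization.map_units (Localization.Away f) w).mul_left_eq_zero.1 hw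
  have hle : Algebra.adjoin k (s : Set K) ≤ ψ.range := by
    refine Algebra.adjoin_le fun z hz => ?_
    obtain ⟨c, hc⟩ : (den z : R) ∣ f := Finset.dvd_prod_of_mem (fun z => (den z : R)) hz
    refine ⟨IsLocalization.mk' (Localization.Away f) (num z * c) ⟨f, Submonoid.mem_powers f⟩, ?_⟩
    have hd : algebraMap R K (den z : R) ≠ 0 := fun h =>
      nonZeroDivisors.ne_zero (den z).2 (IsFractionRing.injective R K (h.trans (map_zero _).symm))
    have h1 := congrArg ψ (IsLocalization.mk'_spec (Localization.Away f) (num z * c) ⟨f, Submonoid.mem_powers f⟩)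
    rw [map_mul, hψ, hψ, map_mul] at h1
    have hfc : algebraMap R K f = algebraMap R K (den z : R) * algebraMap R K c :=
      (congrArg (algebraMap R K) hc).trans (map_mul _ _ _)
    change _ * algebraMap R K f = _ at h1
    rw [hfc, ← mul_assoc] at h1
    have hc0 : algebraMap R K c ≠ 0 := fun h => hfK (by rw [hfc, h, mul_zero])
    have h2 := mul_right_cancel₀ hc0 h1
    have h3 : z * algebraMap R K (den z : R) = algebraMap R K (num z) := by
      rw [← IsLocalization.mk'_spec K (num z) (den z), hden z]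
    exact mul_right_cancel₀ hd (h2.trans h3.symm)
  exact ⟨f, hf, ⟨(AlgEquiv.ofInjective ψ hψinj).symm.toAlgHom.comp (Subalgebra.inclusion hle)⟩⟩

set_option maxHeartbeats 4000000 in
/-- the quasi-compact case -/
theorem isRepresentable_qc (U : AlgSp.Space Bk) (hUc : IsQuasiCompactSp U.obj) (hUs : IsQuasiSeparatedSp U.obj)
    (ι : Type u) (h : (U.obj ⨯ (yon Bk).obj (FieldDescent.oA k (FractionRing (MvPolynomial ι k)))).obj.IsRepresentable) :
    U.obj.obj.IsRepresentable := by
  classical
  let kbar := AlgebraicClosure k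
  obtain ⟨s, hs⟩ := exists_fg_rep (FractionRing (MvPolynomial ι k)) U hUc hUs h
  obtain ⟨f, hf, ⟨φ⟩⟩ := exists_away s
  let B := Localization.Away f
  obtain ⟨T, ⟨e⟩⟩ := exists_iso_yon_of_isRepresentable (isRepresentable_bc U.obj φ hs)
  obtain ⟨T', ⟨e'⟩⟩ := exists_iso_yon_of_isRepresentable (isRepresentable_algClosed U hUc hUs _ h kbar)
  let str : FieldDescent.oA k kbar ⟶ Over.mk (𝟙 _) := Over.homMk (FieldDescent.oA k kbar).hom
  haveI : Algebra.IsIntegral k kbar := Algebra.IsAlgebraic.isIntegral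
  haveI : IsIntegralHom str.left := IsIntegralHom.SpecMap_iff.2 (algebraMap_isIntegral_iff.2 inferInstance)
  haveI : Surjective str.left := ⟨fun z => ⟨IsLocalRing.closedPoint kbar,
    Subsingleton.elim (α := ↥(Spec (CommRingCat.of k))) _ z⟩⟩
  have hT : IsTerminal ((yon Bk).obj (Over.mk (𝟙 _))) := IsTerminal.isTerminalObj (yon Bk) _ Over.mkIdTerminal
  have sq : IsPullback (prod.fst : U.obj ⨯ (yon Bk).obj (FieldDescent.oA k kbar) ⟶ U.obj) prod.snd (hT.from U.obj)
      ((yon Bk).map str) := by
    rw [show (yon Bk).map str = hT.from _ from hT.hom_ext _ _]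
    exact IsPullback.of_is_product (Limits.prodIsProd U.obj ((yon Bk).obj (FieldDescent.oA k kbar))) hT
  let π : (yon Bk).obj T' ⟶ U.obj := e'.hom ≫ prod.fst
  have hint : RepWith @IsIntegralHom π := RepWith.comp (repWith_of_isIso (P := @IsIntegralHom) _)
    (RepWith.baseChange sq.flip ((repWith_yon_map_iff (P := @IsIntegralHom) str).2 inferInstance))
  have hsurj : Function.Surjective (Points.ofPt π) := surjective_ofPt π (RepWith.comp (repWith_of_isIso (P := @Surjective) _)
    (RepWith.baseChange sq.flip ((repWith_yon_map_iff (P := @Surjective) str).2 inferInstance)))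
  refine IntSchemeCrit.isRepresentable_of_integral_qs U hUs π hint hsurj fun x => ?_
  -- a geometric point over the given one
  obtain ⟨K₀, _, strK, a₀, ha₀⟩ := exists_ptOfHom x
  obtain ⟨α, rfl⟩ := Spec.map_surjective strK
  letI : Algebra k K₀ := α.hom.toAlgebra
  let L := AlgebraicClosure K₀
  let pt : (yon Bk).obj (FieldDescent.oA k L) ⟶ U.obj := (yon Bk).map (FieldDescent.oMap (IsScalarTower.toAlgHom k K₀ L)) ≫ a₀
  have hpt : ptOfHom pt = x := by
    rw [← ha₀]
    refine (ptOfHom_eq_iff pt a₀).2 ⟨L, inferInstance, _, 𝟙 _, FieldDescent.oMap (IsScalarTower.toAlgHom k K₀ L), ?_⟩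
    rw [(yon Bk).map_id, Category.id_comp]
  -- the fibre over the affine space
  let fL : MvPolynomial ι L := MvPolynomial.map (algebraMap k L) f
  have hfL : fL ≠ 0 := (map_ne_zero_iff _ (MvPolynomial.map_injective _ (algebraMap k L).injective)).2 hf
  let BL := Localization.Away fL
  haveI : IsDomain BL := IsLocalization.isDomain_of_le_nonZeroDivisors _
    (powers_le_nonZeroDivisors_of_noZeroDivisors hfL)
  let inL : L →ₐ[k] BL := IsScalarTower.toAlgHom k L BL
  let polyMap : MvPolynomial ι k →ₐ[k] BL :=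
    (IsScalarTower.toAlgHom k (MvPolynomial ι L) BL).comp (MvPolynomial.mapAlgHom (Algebra.ofId k L))
  have hunitB : ∀ y : Submonoid.powers f, IsUnit (polyMap (y : MvPolynomial ι k)) := by
    rintro ⟨_, n, rfl⟩
    show IsUnit (polyMap (f ^ n))
    rw [map_pow]
    exact (IsLocalization.Away.algebraMap_isUnit (S := BL) fL).pow n
  let jB : B →ₐ[k] BL := IsLocalization.liftAlgHom (f := polyMap) hunitB
  obtain ⟨g, hg⟩ := (yon Bk).map_surjective (prod.lift ((yon Bk).map (FieldDescent.oMap inL) ≫ pt) ((yon Bk).map (FieldDescent.oMap jB)) ≫ e.inv)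
  obtain ⟨p₀⟩ : Nonempty (PrimeSpectrum BL) := inferInstance
  obtain ⟨_, ⟨W, hW, rfl⟩, hpW, -⟩ :=
    T.left.isBasis_affineOpens.exists_subset_of_mem_open (Set.mem_univ (g.left p₀)) isOpen_univ
  obtain ⟨_, ⟨_, ⟨G, rfl⟩, rfl⟩, hpG, hGW⟩ := PrimeSpectrum.isBasis_basic_opens.exists_subset_of_mem_open
    (show p₀ ∈ (g.left ⁻¹' (W : Set ↥T.left)) from hpW) (W.isOpen.preimage g.left.continuous)
  obtain ⟨⟨num, w⟩, hw⟩ := IsLocalization.surj (Submonoid.powers fL) G
  have hnum : num ≠ 0 := fun h0 => by
    rw [h0, map_zero] at hw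
    have hG0 : G = 0 := (IsLocalization.map_units BL w).mul_left_eq_zero.1 hw
    exact hpG (hG0 ▸ p₀.asIdeal.zero_mem)
  obtain ⟨a, haf, hav⟩ := exists_avoid kbar L num hnum f hf
  have hunitev : ∀ y : Submonoid.powers f, IsUnit ((MvPolynomial.aeval a : MvPolynomial ι k →ₐ[k] kbar) y) := by
    rintro ⟨_, n, rfl⟩
    show IsUnit ((MvPolynomial.aeval a) (f ^ n))
    rw [map_pow]
    exact (IsUnit.mk0 _ haf).pow n
  let ev : B →ₐ[k] kbar := IsLocalization.liftAlgHom (f := MvPolynomial.aeval a) hunitev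
  obtain ⟨m, hm⟩ := (yon Bk).map_surjective (e'.hom ≫ prod.map (𝟙 _) ((yon Bk).map (FieldDescent.oMap ev)) ≫ e.inv)
  have hmaff : IsAffineHom m.left := by
    refine (repWith_yon_map_iff (P := @IsAffineHom) m).1 ?_
    rw [hm]
    exact RepWith.comp (repWith_of_isIso (P := @IsAffineHom) _) (RepWith.comp
      (RepWith.baseChange (isPullback_prod_id_map _) ((repWith_yon_map_iff (P := @IsAffineHom) (FieldDescent.oMap ev)).2
        (isAffineHom_oMap ev)))
      (repWith_of_isIso (P := @IsAffineHom) _))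
  refine ⟨m.left ⁻¹ᵁ W, hW.preimage m.left, fun y hy => ?_⟩
  -- points over the given one land in the affine
  let iy : Over.mk (T'.left.fromSpecResidueField y ≫ T'.hom) ⟶ T' := Over.homMk (T'.left.fromSpecResidueField y)
  have hiy : ptOfHom ((yon Bk).map iy ≫ π) = ptOfHom pt := by
    rw [ptOfHom_yon_map, hpt]
    exact (congrArg (Points.ofPt π) (T'.left.fromSpecResidueField_apply y _)).trans hy
  obtain ⟨Ω, _, wΩ, i, j, hij⟩ := (ptOfHom_eq_iff _ _).1 hiy
  obtain ⟨ω, rfl⟩ := Spec.map_surjective wΩ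
  letI : Algebra k Ω := ω.hom.toAlgebra
  change (FieldDescent.oA k Ω ⟶ _) at i
  change (FieldDescent.oA k Ω ⟶ FieldDescent.oA k L) at j
  obtain ⟨jL, rfl⟩ := exists_algHom j
  let z : FieldDescent.oA k Ω ⟶ T' := i ≫ iy
  obtain ⟨ρ, hρ⟩ := (yon Bk).map_surjective ((yon Bk).map z ≫ e'.hom ≫ prod.snd)
  obtain ⟨σ, rfl⟩ := exists_algHom ρ
  let evΩ : MvPolynomial ι L →ₐ[k] Ω :=
    { MvPolynomial.eval₂Hom jL.toRingHom (fun c => σ (a c)) with
      commutes' := fun c => by
        show MvPolynomial.eval₂ jL.toRingHom (fun d => σ (a d)) (MvPolynomial.C (algebraMap k L c)) = _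
        rw [MvPolynomial.eval₂_C]
        exact jL.commutes c }
  have hevf : ∀ r : MvPolynomial ι k, evΩ (MvPolynomial.map (algebraMap k L) r) = σ (MvPolynomial.aeval a r) := by
    intro r
    have h2 : evΩ.comp (MvPolynomial.mapAlgHom (Algebra.ofId k L)) = σ.comp (MvPolynomial.aeval a) :=
      MvPolynomial.algHom_ext fun c => by simp [evΩ]
    exact congrArg (fun ψ : MvPolynomial ι k →ₐ[k] Ω => ψ r) h2
  have hunitΩ : ∀ y : Submonoid.powers fL, IsUnit (evΩ (y : MvPolynomial ι L)) := by
    rintro ⟨_, n, rfl⟩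
    show IsUnit (evΩ (fL ^ n))
    rw [map_pow, hevf]
    exact ((IsUnit.mk0 _ haf).map σ).pow n
  let η : BL →ₐ[k] Ω := IsLocalization.liftAlgHom (f := evΩ) hunitΩ
  have hηalg : ∀ r, η (algebraMap _ BL r) = evΩ r := fun r => IsLocalization.lift_eq _ r
  have hηL : η.comp inL = jL := AlgHom.ext fun c => by
    show η (algebraMap L BL c) = jL c
    rw [IsScalarTower.algebraMap_apply L (MvPolynomial ι L) BL, hηalg]
    exact MvPolynomial.eval₂_C _ _ _
  have hηB : η.comp jB = σ.comp ev := by
    refine IsLocalization.algHom_ext (Submonoid.powers f) (AlgHom.ext fun r => ?_)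
    show η (jB (algebraMap _ B r)) = σ (ev (algebraMap _ B r))
    rw [show jB (algebraMap _ B r) = polyMap r from IsLocalization.lift_eq _ r,
      show ev (algebraMap _ B r) = MvPolynomial.aeval a r from IsLocalization.lift_eq _ r, ← hevf]
    exact hηalg _
  have key : FieldDescent.oMap η ≫ g = z ≫ m := by
    apply (yon Bk).map_injective
    rw [Functor.map_comp, Functor.map_comp, hg, hm, ← Category.assoc, ← Category.assoc ((yon Bk).map z),
      ← Category.assoc ((yon Bk).map z ≫ e'.hom)]
    congr 1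
    apply Limits.prod.hom_ext
    · rw [Category.assoc, prod.lift_fst, Category.assoc, prod.map_fst, Category.comp_id, ← Category.assoc,
        ← Functor.map_comp, FieldDescent.oMap_comp, hηL, Category.assoc, ← hij, Functor.map_comp, Category.assoc]
    · rw [Category.assoc, prod.lift_snd, Category.assoc, prod.map_snd, ← Functor.map_comp, FieldDescent.oMap_comp, hηB,
        ← FieldDescent.oMap_comp, Functor.map_comp, hρ]
      simp only [Category.assoc]
  have hηG : η G ≠ 0 := fun h0 => by
    have h1 := congrArg η hw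
    rw [map_mul, h0, zero_mul, hηalg] at h1
    exact hav Ω jL σ h1.symm
  have hpt' : (FieldDescent.oMap η).left (IsLocalRing.closedPoint Ω) ∈ PrimeSpectrum.basicOpen G := by
    show η G ∉ IsLocalRing.maximalIdeal Ω
    rw [IsLocalRing.maximalIdeal_eq_bot, Ideal.mem_bot]
    exact hηG
  have h2 := hGW hpt'
  show m.left y ∈ W
  have hy' : z.left (IsLocalRing.closedPoint Ω) = y :=
    T'.left.fromSpecResidueField_apply y (i.left (IsLocalRing.closedPoint Ω))
  rw [← hy']
  show (z ≫ m).left (IsLocalRing.closedPoint Ω) ∈ W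
  rw [← key]
  exact h2

/-- **purely transcendental extensions** -/
theorem isRepresentable (X : AlgSp.Space Bk) (hqs : IsQuasiSeparatedSp X.obj) (ι : Type u)
    (h : (X.obj ⨯ (yon Bk).obj (FieldDescent.oA k (FractionRing (MvPolynomial ι k)))).obj.IsRepresentable) :
    X.obj.obj.IsRepresentable := by
  choose U j hj hUc hUs hxj using exists_qc_pieces X hqs
  choose T e using fun x => exists_iso_yon_of_isRepresentable
    (isRepresentable_qc (U x) (hUc x) (hUs x) ι (isRepresentable_open (j x).hom (hj x) _ h))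
  obtain ⟨U₀, a, -, has⟩ := X.property.atlas
  obtain ⟨G, ⟨eG⟩⟩ := exists_iso_yon_of_openCover
    (f := fun v : ↥U₀.left => (e (Points.ofPt a v)).some.hom ≫ (j (Points.ofPt a v)).hom)
    (fun v => RepWith.comp (repWith_of_isIso (P := @IsOpenImmersion) _) (hj _)) fun z => by
      obtain ⟨v, rfl⟩ := surjective_ofPt a has z
      obtain ⟨u, hu⟩ := hxj (Points.ofPt a v)
      refine ⟨v, Points.map (e _).some.inv u, ?_⟩
      rw [← Points.map_comp, Iso.inv_hom_id_assoc]
      exact hu
  exact isRepresentable_of_iso_yon (F := X.obj) eG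

end Groth.Agent.AlgSpLib.PurelyTransc
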