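import Groth.Agent.AlgSpLib.GroupTranslate
import Groth.Agent.AlgSpLib.IntSchemeCrit
import Groth.Agent.AlgSpLib.FiniteComps
import Groth.Agent.AlgSpLib.PointsTop
import Groth.Agent.AlgSpLib.PurelyTransc
import Groth.Agent.AlgSpLib.LimitSeparated
import Groth.Agent.VarietyLib.GeomField
import Mathlib.LinearAlgebra.TensorProduct.Basis
import Mathlib.FieldTheory.IsAlgClosed.Basic
import Mathlib.FieldTheory.Normal.Defs

/-!
Separated group spaces over a field are schemes: maximal points above the unit, translation of fibres into affine opens.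
-/

universe u

open CategoryTheory CategoryTheory.Limits AlgebraicGeometry Opposite Topology MonoidalCategory MonObj Cardinal
open AlgSp TensorProduct

noncomputable section

set_option linter.style.haveILetI false
set_option linter.unusedSectionVars false

namespace Groth.Agent.AlgSpLib.GroupScheme

open Groth.Agent.AlgSpLib GroupTranslate

set_option backward.isDefEq.respectTransparency.types false
set_option backward.isDefEq.respectTransparency false

variable {k : Type u} [Field k]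

local notation "Bk" => Spec (CommRingCat.of k)

variable {G : Over (Tk k)} [GrpObj G]

theorem gmul_gone {Z : Sp Bk} (f : Z ⟶ G.left) : gmul f (gone G Z) = f := by
  rw [gmul, gone, liftG_left, _root_.mul_one]
  rfl

variable (G) in
/-- the base change to an algebra -/
abbrev bcG (A : Type u) [CommRing A] [Algebra k A] : Sp Bk := G.left ⨯ (yon Bk).obj (FieldDescent.oA k A)

/-- a rational point as a point of the base change -/
abbrev sec {A : Type u} [CommRing A] [Algebra k A] (a : (yon Bk).obj (FieldDescent.oA k A) ⟶ G.left) :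
    (yon Bk).obj (FieldDescent.oA k A) ⟶ bcG G A := prod.lift a (𝟙 _)

variable (G) in
/-- maps of base changes -/
abbrev tw {A B : Type u} [CommRing A] [Algebra k A] [CommRing B] [Algebra k B] (φ : A →ₐ[k] B) : bcG G B ⟶ bcG G A :=
  prod.map (𝟙 G.left) ((yon Bk).map (FieldDescent.oMap φ))

theorem sec_tw {A B : Type u} [CommRing A] [Algebra k A] [CommRing B] [Algebra k B] (φ : A →ₐ[k] B)
    (a : (yon Bk).obj (FieldDescent.oA k A) ⟶ G.left) :
    sec ((yon Bk).map (FieldDescent.oMap φ) ≫ a) ≫ tw G φ = (yon Bk).map (FieldDescent.oMap φ) ≫ sec a := by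
  refine prod.hom_ext ?_ ?_ <;> simp

theorem tw_tw {A B C : Type u} [CommRing A] [Algebra k A] [CommRing B] [Algebra k B] [CommRing C] [Algebra k C]
    (φ : A →ₐ[k] B) (ψ : B →ₐ[k] C) : tw G ψ ≫ tw G φ = tw G (ψ.comp φ) := by
  rw [prod.map_map, Category.id_comp, ← Functor.map_comp, FieldDescent.oMap_comp]

theorem tw_id (A : Type u) [CommRing A] [Algebra k A] : tw G (AlgHom.id k A) = 𝟙 _ := by
  refine prod.hom_ext ?_ ?_
  · simp
  · rw [prod.map_snd, FieldDescent.oMap_id, CategoryTheory.Functor.map_id, Category.comp_id, Category.id_comp]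

variable (G) in
/-- the unit point -/
def unitPt (K : Type u) [Field K] [Algebra k K] : Points (bcG G K) :=
  ptOfHom (sec (gone G ((yon Bk).obj (FieldDescent.oA k K))))

theorem map_tw_unitPt {K L : Type u} [Field K] [Algebra k K] [Field L] [Algebra k L] (φ : K →ₐ[k] L) :
    Points.map (tw G φ) (unitPt G L) = unitPt G K := by
  rw [unitPt, unitPt, map_ptOfHom, ← comp_gone ((yon Bk).map (FieldDescent.oMap φ)), sec_tw, ptOfHom_map]

/-- an open set of a base change contains a rational point over a large field -/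
theorem exists_rational {U₀ : Over Bk} (a₀ : (yon Bk).obj U₀ ⟶ G.left)
    (has : Function.Surjective (Points.map a₀))
    (K : Type u) [Field K] [Algebra k K] [IsAlgClosed K]
    (hK : ∀ V : U₀.left.affineOpens, max (max #k #Γ(U₀.left, V.1)) ℵ₀ < #K)
    (O : Set (Points (bcG G K))) (hO : IsOpen O) (hne : O.Nonempty) :
    ∃ a : (yon Bk).obj (FieldDescent.oA k K) ⟶ G.left, ptOfHom (sec a) ∈ O := by
  obtain ⟨p, hp⟩ := hne
  obtain ⟨y, hy⟩ := has (Points.map prod.fst p)
  obtain ⟨s, rfl⟩ := (Points.schemeHomeo U₀).surjective y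
  obtain ⟨V, hV, hsV, -⟩ := U₀.left.isBasis_affineOpens.exists_subset_of_mem_open (Set.mem_univ s) isOpen_univ
  obtain ⟨V, hVaff, rfl⟩ := hV
  let A : Type u := Γ(U₀.left, V)
  obtain ⟨φ, hφ⟩ := Spec.map_surjective (hVaff.fromSpec ≫ U₀.hom)
  letI : Algebra k A := φ.hom.toAlgebra
  let b₁ : FieldDescent.oA k A ⟶ U₀ := Over.homMk hVaff.fromSpec hφ.symm
  let b : (yon Bk).obj (FieldDescent.oA k A) ⟶ G.left := (yon Bk).map b₁ ≫ a₀
  obtain ⟨t, ht⟩ : s ∈ Set.range hVaff.fromSpec := by
    rw [hVaff.range_fromSpec]; exact hsV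
  obtain ⟨L', _, w', v', c', he, -, hc'⟩ := exists_of_map_eq (f := b) (g := (prod.fst : bcG G K ⟶ G.left))
    (x := Points.schemeHomeo (FieldDescent.oA k A) t) (y := p) (by
      rw [Points.map_comp, Points.map_yon_map_apply, ← hy]
      show Points.map a₀ (Points.schemeHomeo U₀ (hVaff.fromSpec t)) = _
      rw [ht])
  obtain ⟨φ', rfl⟩ := Spec.map_surjective w'
  letI : Algebra k L' := φ'.hom.toAlgebra
  obtain ⟨α₀, hα₀⟩ := GroupTranslate.exists_algHom (A := A) (B := L') v'
  obtain ⟨β, hβ⟩ := GroupTranslate.exists_algHom (A := K) (B := L') (c' ≫ prod.snd)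
  let m₀ : (yon Bk).obj (FieldDescent.oA k (A ⊗[k] K)) ⟶ bcG G K :=
    prod.lift ((yon Bk).map (FieldDescent.oMap Algebra.TensorProduct.includeLeft) ≫ b)
      ((yon Bk).map (FieldDescent.oMap Algebra.TensorProduct.includeRight))
  have hc : c' = (yon Bk).map (FieldDescent.oMap (Algebra.TensorProduct.productMap α₀ β)) ≫ m₀ := by
    refine prod.hom_ext ?_ ?_
    · rw [← he, Category.assoc, prod.lift_fst, ← Functor.map_comp_assoc, FieldDescent.oMap_comp,
        Algebra.TensorProduct.productMap_left, hα₀]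
    · rw [hβ, Category.assoc, prod.lift_snd, ← Functor.map_comp, FieldDescent.oMap_comp,
        Algebra.TensorProduct.productMap_right]
  let O' : (FieldDescent.oA k (A ⊗[k] K)).left.Opens :=
    ⟨Points.ofPt m₀ ⁻¹' O, hO.preimage (Points.continuous_ofPt m₀)⟩
  have hq : (FieldDescent.oMap (Algebra.TensorProduct.productMap α₀ β)).left (IsLocalRing.closedPoint L') ∈ O' := by
    show Points.ofPt m₀ _ ∈ O
    rw [← ptOfHom_yon_map, ← hc]
    exact hc' ▸ hp
  obtain ⟨_, ⟨g, rfl⟩, hqg, hgO⟩ :=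
    PrimeSpectrum.isTopologicalBasis_basic_opens.exists_subset_of_mem_open hq O'.2
  have hg : ¬ IsNilpotent g := fun ⟨n, hn⟩ => by
    refine hqg (Ideal.IsPrime.mem_of_pow_mem inferInstance n ?_)
    rw [hn]
    exact zero_mem _
  obtain ⟨α, hα⟩ := GroupRich.exists_point K A (hK ⟨V, hVaff⟩) g hg
  let m : A ⊗[k] K →ₐ[k] K := Algebra.TensorProduct.productMap α (AlgHom.id k K)
  have hm : (FieldDescent.oMap m).left (IsLocalRing.closedPoint K) ∈ O' := by
    refine hgO ?_
    show g ∉ Ideal.comap m.toRingHom (IsLocalRing.maximalIdeal K)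
    rw [Ideal.mem_comap, IsLocalRing.maximalIdeal_eq_bot]
    exact hα
  refine ⟨(yon Bk).map (FieldDescent.oMap α) ≫ b, ?_⟩
  have h1 : (yon Bk).map (FieldDescent.oMap m) ≫ m₀ = sec ((yon Bk).map (FieldDescent.oMap α) ≫ b) := by
    refine prod.hom_ext ?_ ?_
    · rw [Category.assoc, prod.lift_fst, prod.lift_fst, ← Functor.map_comp_assoc, FieldDescent.oMap_comp,
        Algebra.TensorProduct.productMap_left]
    · rw [Category.assoc, prod.lift_snd, prod.lift_snd, ← Functor.map_comp, FieldDescent.oMap_comp,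
        Algebra.TensorProduct.productMap_right, FieldDescent.oMap_id, CategoryTheory.Functor.map_id]
  rw [← h1, ptOfHom_yon_map]
  exact hm

theorem ptOfHom_eq_closedPoint {L : Type u} [Field L] [Algebra k L] {F : Sp Bk}
    (f : (yon Bk).obj (FieldDescent.oA k L) ⟶ F) :
    ptOfHom f = Points.map f (Points.schemeHomeo (FieldDescent.oA k L) (IsLocalRing.closedPoint L)) := by
  have h := ptOfHom_yon_map (𝟙 (FieldDescent.oA k L)) f
  rw [CategoryTheory.Functor.map_id, Category.id_comp] at h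
  exact h.trans (Points.ofPt_eq_map_ofScheme _ _)

theorem mono_of_open {F F' : Sp Bk} {v : F ⟶ F'} (hv : RepWith @IsOpenImmersion v) : Mono v :=
  mono_of_repWith (P := @IsOpenImmersion) (fun _ _ f (_ : IsOpenImmersion f) => (inferInstance : Mono f)) hv

/-- a field point landing in an open chart factors through it -/
theorem exists_lift_chart {L : Type u} [Field L] [Algebra k L] {B : Type u} [CommRing B] [Algebra k B] {F : Sp Bk}
    {v : (yon Bk).obj (FieldDescent.oA k B) ⟶ F} (hv : RepWith @IsOpenImmersion v)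
    (f : (yon Bk).obj (FieldDescent.oA k L) ⟶ F) (t : ↥(FieldDescent.oA k B).left) (ht : Points.ofPt v t = ptOfHom f) :
    ∃ ε₀ : B →ₐ[k] L, (yon Bk).map (FieldDescent.oMap ε₀) ≫ v = f ∧
      t = (FieldDescent.oMap ε₀).left (IsLocalRing.closedPoint L) := by
  obtain ⟨l, hl⟩ := (exists_lift_iff_range_subset hv f).2 (by
    rintro _ ⟨x, rfl⟩
    obtain ⟨w, rfl⟩ := (Points.schemeHomeo _).surjective x
    haveI : Subsingleton ↥(FieldDescent.oA k L).left := inferInstanceAs (Subsingleton (PrimeSpectrum L))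
    refine ⟨Points.schemeHomeo _ t, ?_⟩
    rw [Subsingleton.elim w (IsLocalRing.closedPoint L), ← ptOfHom_eq_closedPoint, ← ht,
      Points.ofPt_eq_map_ofScheme]
    rfl)
  obtain ⟨ε₀, rfl⟩ := GroupTranslate.exists_algHom l
  refine ⟨ε₀, hl, ?_⟩
  haveI := mono_of_open hv
  apply (injective_map_of_mono v).comp (Points.schemeHomeo _).injective
  show Points.map v (Points.ofScheme _ t) = Points.map v (Points.ofScheme _ _)
  rw [← Points.ofPt_eq_map_ofScheme, ← Points.ofPt_eq_map_ofScheme, ht, ← hl, ptOfHom_yon_map]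

section Max

variable {K : Type u} [Field K] [Algebra k K]

/-- maximal points -/
def IsMaxPt {F : Sp Bk} (h : Points F) : Prop := ∀ y, y ⤳ h → y = h

theorem map_specializes {F F' : Sp Bk} (f : F ⟶ F') {x y : Points F} (h : x ⤳ y) :
    Points.map f x ⤳ Points.map f y := h.map (Points.continuous_map f)

theorem map_inv_hom {F F' : Sp Bk} (e : F ≅ F') (x : Points F') : Points.map e.hom (Points.map e.inv x) = x := by
  rw [← Points.map_comp, e.inv_hom_id, Points.map_id]

theorem map_hom_inv {F F' : Sp Bk} (e : F ≅ F') (x : Points F) : Points.map e.inv (Points.map e.hom x) = x := by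
  rw [← Points.map_comp, e.hom_inv_id, Points.map_id]

theorem isMaxPt_map_iso {F F' : Sp Bk} (e : F ≅ F') {x : Points F} (h : IsMaxPt x) :
    IsMaxPt (Points.map e.hom x) := fun y hy => by
  have := h _ ((map_specializes e.inv hy).trans (specializes_of_eq (map_hom_inv e x)))
  rw [← this, map_inv_hom]

theorem exists_max {Y : Over Bk} {F : Sp Bk} (e : (yon Bk).obj Y ≅ F) (x : Points F) :
    ∃ h, IsMaxPt h ∧ h ⤳ x := by
  obtain ⟨y, hy⟩ := (Points.schemeHomeo Y).surjective (Points.map e.inv x)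
  obtain ⟨κ, hκ, hκy⟩ := exists_maxPts_specializes y
  refine ⟨Points.map e.hom (Points.schemeHomeo Y κ), isMaxPt_map_iso e fun z hz => ?_, ?_⟩
  · obtain ⟨w, rfl⟩ := (Points.schemeHomeo Y).surjective z
    rw [hκ w ((Points.schemeHomeo Y).isEmbedding.isInducing.specializes_iff.1 hz)]
  · refine (map_specializes e.hom (hκy.map (Points.schemeHomeo Y).continuous)).trans (specializes_of_eq ?_)
    rw [hy, map_inv_hom]

/-- an affine neighbourhood in coordinates -/
theorem exists_coord {Y : Over Bk} (e : (yon Bk).obj Y ≅ bcG G K) (z : Points (bcG G K)) :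
    ∃ (B : Type u) (_ : CommRing B) (_ : Algebra k B) (v : (yon Bk).obj (FieldDescent.oA k B) ⟶ bcG G K),
      RepWith @IsOpenImmersion v ∧ IsOpen (Set.range (Points.ofPt v)) ∧ z ∈ Set.range (Points.ofPt v) := by
  obtain ⟨y, hy⟩ := (Points.schemeHomeo Y).surjective (Points.map e.inv z)
  obtain ⟨V, hVaff, hyV, -⟩ := exists_isAffineOpen_mem_and_subset (x := y) (U := ⊤) trivial
  let B : Type u := Γ(Y.left, V)
  obtain ⟨φ, hφ⟩ := Spec.map_surjective (hVaff.fromSpec ≫ Y.hom)
  letI : Algebra k B := φ.hom.toAlgebra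
  let b₁ : FieldDescent.oA k B ⟶ Y := Over.homMk hVaff.fromSpec hφ.symm
  let v : (yon Bk).obj (FieldDescent.oA k B) ⟶ bcG G K := (yon Bk).map b₁ ≫ e.hom
  have hv : RepWith @IsOpenImmersion v :=
    RepWith.comp ((repWith_yon_map_iff (P := @IsOpenImmersion) b₁).2
      (inferInstanceAs (IsOpenImmersion hVaff.fromSpec))) (repWith_of_isIso (P := @IsOpenImmersion) _)
  refine ⟨B, inferInstance, inferInstance, v, hv, ?_, ?_⟩
  · rw [← Set.image_univ]
    exact isOpenMap_ofPt v (RepWith.mono (fun _ _ f (_ : IsOpenImmersion f) => (inferInstance : Etale f)) hv)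
      _ isOpen_univ
  · obtain ⟨t, ht⟩ : y ∈ Set.range hVaff.fromSpec := by
      rw [hVaff.range_fromSpec]; exact hyV
    refine ⟨t, ?_⟩
    rw [show Points.ofPt v t = Points.map e.hom (Points.ofPt ((yon Bk).map b₁) t) by rw [Points.map_ofPt],
      ← map_inv_hom e z, ← hy]
    refine congrArg _ ?_
    rw [Points.ofPt_eq_map_ofScheme]
    exact (Points.map_yon_map_apply b₁ t).trans (congrArg _ ht)

theorem ofPt_le {B R : Type u} [CommRing B] [Algebra k B] {F : Sp Bk}
    (v : (yon Bk).obj (FieldDescent.oA k B) ⟶ F) (p q : ↥(FieldDescent.oA k B).left) (h : p ⤳ q) :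
    Points.ofPt v p ⤳ Points.ofPt v q := h.map (Points.continuous_ofPt v)

variable [IsAlgClosed K]

/-- there is only one maximal point above the unit -/
theorem max_unique (hG : IsAlgSpace G.left) {Y : Over Bk} (e : (yon Bk).obj Y ≅ bcG G K) {h h' : Points (bcG G K)} (hm : IsMaxPt h)
    (hm' : IsMaxPt h') (hh : h ⤳ unitPt G K) (hh' : h' ⤳ unitPt G K) : h = h' := by
  obtain ⟨B, _, _, v, hv, hvo, hvu⟩ := exists_coord e (unitPt G K)
  obtain ⟨P, hP⟩ := hh.mem_open hvo hvu
  obtain ⟨P', hP'⟩ := hh'.mem_open hvo hvu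
  obtain ⟨t, ht⟩ := hvu
  obtain ⟨ε, hε₁, ht'⟩ := exists_lift_chart hv (sec (gone G ((yon Bk).obj (FieldDescent.oA k K)))) t ht
  obtain ⟨jB, hjB⟩ := GroupTranslate.exists_algHom (A := K) (B := B) (v ≫ prod.snd)
  letI : Algebra K B := jB.toRingHom.toAlgebra
  haveI : IsScalarTower k K B := IsScalarTower.of_algebraMap_eq fun c => (jB.commutes c).symm
  have hεj : ε.comp jB = AlgHom.id k K := by
    have h1 := congrArg (· ≫ prod.snd) hε₁
    simp only [Category.assoc, hjB, prod.lift_snd, ← Functor.map_comp, FieldDescent.oMap_comp] at h1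
    rw [← CategoryTheory.Functor.map_id, ← FieldDescent.oMap_id] at h1
    exact AlgHom.ext fun c => congr($(Spec.map_injective (congrArg CommaMorphism.left
      ((yon Bk).map_injective h1))).hom c)
  let εK : B →ₐ[K] K := { ε with commutes' := fun c => congr($hεj c) }
  let bG : (yon Bk).obj (FieldDescent.oA k B) ⟶ G.left := v ≫ prod.fst
  let iL : B →ₐ[k] B ⊗[K] B := (Algebra.TensorProduct.includeLeft : B →ₐ[K] B ⊗[K] B).restrictScalars k
  let iR : B →ₐ[k] B ⊗[K] B := (Algebra.TensorProduct.includeRight : B →ₐ[K] B ⊗[K] B).restrictScalars k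
  let m : (yon Bk).obj (FieldDescent.oA k (B ⊗[K] B)) ⟶ bcG G K :=
    prod.lift (gmul ((yon Bk).map (FieldDescent.oMap iL) ≫ bG) ((yon Bk).map (FieldDescent.oMap iR) ≫ bG))
      ((yon Bk).map (FieldDescent.oMap iL) ≫ v ≫ prod.snd)
  let P₁ := (P : PrimeSpectrum B).asIdeal
  let P₂ := (P' : PrimeSpectrum B).asIdeal
  haveI : P₁.IsPrime := (P : PrimeSpectrum B).isPrime
  haveI : P₂.IsPrime := (P' : PrimeSpectrum B).isPrime
  haveI : IsDomain ((B ⧸ P₁) ⊗[K] (B ⧸ P₂)) := VarietyLib.isDomain_tensor_of_isAlgClosed K _ _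
  let q : B ⊗[K] B →ₐ[K] (B ⧸ P₁) ⊗[K] (B ⧸ P₂) :=
    Algebra.TensorProduct.map (Ideal.Quotient.mkₐ K P₁) (Ideal.Quotient.mkₐ K P₂)
  let z : PrimeSpectrum (B ⊗[K] B) :=
    ⟨RingHom.ker q.toRingHom, RingHom.ker_isPrime _⟩
  have hle : ∀ (X : PrimeSpectrum B), X ⤳ t → X.asIdeal ≤ RingHom.ker ε.toRingHom := fun X hX => by
    intro b hb
    have h2 := ((PrimeSpectrum.le_iff_specializes X t).2 hX) hb
    rw [ht'] at h2
    have h3 : ε b ∈ IsLocalRing.maximalIdeal K := h2
    rw [IsLocalRing.maximalIdeal_eq_bot] at h3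
    exact h3
  have hvt : ∀ X : ↥(FieldDescent.oA k B).left, Points.ofPt v X ⤳ unitPt G K → (X : PrimeSpectrum B) ⤳ t := by
    intro X hX
    rw [← ht, Points.ofPt_eq_map_ofScheme, Points.ofPt_eq_map_ofScheme] at hX
    exact (Points.schemeHomeo _).isEmbedding.isInducing.specializes_iff.1
      ((isEmbedding_map_of_immersion (isAlgSpace_prod hG (IsAlgSpace.yon_obj _)) (RepWith.mono (fun _ _ g (_ : IsOpenImmersion g) =>
        (inferInstance : IsImmersion g)) hv)).1.isInducing.specializes_iff.1 hX)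
  have hε₂ : ∀ X : PrimeSpectrum B, X ⤳ t → ∀ b ∈ X.asIdeal, εK b = 0 := fun X hX b hb => hle X hX hb
  let ε₁' : B ⧸ P₁ →ₐ[K] K := Ideal.Quotient.liftₐ P₁ εK (hε₂ P (hvt P (hP ▸ hh)))
  let ε₂' : B ⧸ P₂ →ₐ[K] K := Ideal.Quotient.liftₐ P₂ εK (hε₂ P' (hvt P' (hP' ▸ hh')))
  let ρ₁ : B ⊗[K] B →ₐ[K] B ⧸ P₁ :=
    Algebra.TensorProduct.productMap (Ideal.Quotient.mkₐ K P₁) ((Algebra.ofId K _).comp εK)
  let ρ₂ : B ⊗[K] B →ₐ[K] B ⧸ P₂ :=
    Algebra.TensorProduct.productMap ((Algebra.ofId K _).comp εK) (Ideal.Quotient.mkₐ K P₂)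
  have hρ₁ : ρ₁ = (Algebra.TensorProduct.productMap (AlgHom.id K _) ((Algebra.ofId K _).comp ε₂')).comp q :=
    Algebra.TensorProduct.ext' fun a b => by simp [ρ₁, q, ε₂']
  have hρ₂ : ρ₂ = (Algebra.TensorProduct.productMap ((Algebra.ofId K _).comp ε₁') (AlgHom.id K _)).comp q :=
    Algebra.TensorProduct.ext' fun a b => by simp [ρ₂, q, ε₁']
  let z₁ : PrimeSpectrum (B ⊗[K] B) := PrimeSpectrum.comap ρ₁.toRingHom ⊥
  let z₂ : PrimeSpectrum (B ⊗[K] B) := PrimeSpectrum.comap ρ₂.toRingHom ⊥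
  have hz₁ : z ⤳ z₁ := (PrimeSpectrum.le_iff_specializes z z₁).1 fun x hx => by
    show ρ₁ x = 0
    rw [hρ₁, AlgHom.comp_apply, show q x = 0 from hx, map_zero]
  have hz₂ : z ⤳ z₂ := (PrimeSpectrum.le_iff_specializes z z₂).1 fun x hx => by
    show ρ₂ x = 0
    rw [hρ₂, AlgHom.comp_apply, show q x = 0 from hx, map_zero]
  have hεG : (yon Bk).map (FieldDescent.oMap ε) ≫ bG = gone G _ := by
    rw [← Category.assoc, hε₁, prod.lift_fst]
  let oK₁ : K →ₐ[k] B ⧸ P₁ := (Algebra.ofId K _).restrictScalars k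
  let oK₂ : K →ₐ[k] B ⧸ P₂ := (Algebra.ofId K _).restrictScalars k
  have hm₁ : (yon Bk).map (FieldDescent.oMap (ρ₁.restrictScalars k)) ≫ m =
      (yon Bk).map (FieldDescent.oMap ((Ideal.Quotient.mkₐ K P₁).restrictScalars k)) ≫ v := by
    refine prod.hom_ext ?_ ?_
    · rw [Category.assoc, prod.lift_fst, comp_gmul, ← Functor.map_comp_assoc, ← Functor.map_comp_assoc,
        FieldDescent.oMap_comp, FieldDescent.oMap_comp,
        show (ρ₁.restrictScalars k).comp iR = oK₁.comp ε from AlgHom.ext fun b => by simp [ρ₁, iR, oK₁]; rfl,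
        show (ρ₁.restrictScalars k).comp iL = (Ideal.Quotient.mkₐ K P₁).restrictScalars k from
          AlgHom.ext fun b => by simp [ρ₁, iL],
        ← FieldDescent.oMap_comp ε oK₁, Functor.map_comp_assoc, hεG, comp_gone, gmul_gone, Category.assoc]
    · rw [Category.assoc, prod.lift_snd, ← Functor.map_comp_assoc, FieldDescent.oMap_comp,
        show (ρ₁.restrictScalars k).comp iL = (Ideal.Quotient.mkₐ K P₁).restrictScalars k from
          AlgHom.ext fun b => by simp [ρ₁, iL], Category.assoc]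
  have hm₂ : (yon Bk).map (FieldDescent.oMap (ρ₂.restrictScalars k)) ≫ m =
      (yon Bk).map (FieldDescent.oMap ((Ideal.Quotient.mkₐ K P₂).restrictScalars k)) ≫ v := by
    refine prod.hom_ext ?_ ?_
    · rw [Category.assoc, prod.lift_fst, comp_gmul, ← Functor.map_comp_assoc, ← Functor.map_comp_assoc,
        FieldDescent.oMap_comp, FieldDescent.oMap_comp,
        show (ρ₂.restrictScalars k).comp iL = oK₂.comp ε from AlgHom.ext fun b => by simp [ρ₂, iL, oK₂]; rfl,
        show (ρ₂.restrictScalars k).comp iR = (Ideal.Quotient.mkₐ K P₂).restrictScalars k from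
          AlgHom.ext fun b => by simp [ρ₂, iR],
        ← FieldDescent.oMap_comp ε oK₂, Functor.map_comp_assoc, hεG, comp_gone, gone_gmul, Category.assoc]
    · simp only [m, Category.assoc, prod.lift_snd, hjB, ← Functor.map_comp, FieldDescent.oMap_comp]
      congr 2
      ext c
      show ρ₂ (iL (algebraMap K B c)) = Ideal.Quotient.mk P₂ (algebraMap K B c)
      simp [ρ₂, iL]
  have hq₁ : Points.ofPt m z₁ = h := by
    rw [← hP, show z₁ = (FieldDescent.oMap (ρ₁.restrictScalars k)).left (⊥ : PrimeSpectrum (B ⧸ P₁)) from rfl,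
      ← ofPt_map, hm₁, ofPt_map]
    congr 1
    exact PrimeSpectrum.ext (Ideal.mk_ker (I := P₁))
  have hq₂ : Points.ofPt m z₂ = h' := by
    rw [← hP', show z₂ = (FieldDescent.oMap (ρ₂.restrictScalars k)).left (⊥ : PrimeSpectrum (B ⧸ P₂)) from rfl,
      ← ofPt_map, hm₂, ofPt_map]
    congr 1
    exact PrimeSpectrum.ext (Ideal.mk_ker (I := P₂))
  exact (hm _ (hq₁ ▸ hz₁.map (Points.continuous_ofPt m))).symm.trans
    (hm' _ (hq₂ ▸ hz₂.map (Points.continuous_ofPt m)))

end Max

section Galois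

variable {k₁ K : Type u} [Field k₁] [Algebra k k₁] [Field K] [Algebra k K] [Algebra k₁ K] [IsScalarTower k k₁ K]
  [Algebra.IsAlgebraic k₁ K] [IsAlgClosed K]

variable (G k₁ K) in
/-- the projection to the smaller field -/
abbrev bproj : bcG G K ⟶ bcG G k₁ := tw G (IsScalarTower.toAlgHom k k₁ K)

/-- field points of the same point below differ by a conjugation -/
theorem exists_conj_hom {L : Type u} [Field L] [Algebra k L] (c d : (yon Bk).obj (FieldDescent.oA k L) ⟶ bcG G K)
    (h : c ≫ bproj G k₁ K = d ≫ bproj G k₁ K) :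
    ∃ δ : K →ₐ[k₁] K, d = c ≫ tw G (δ.restrictScalars k) := by
  obtain ⟨ι₀, hι⟩ := GroupTranslate.exists_algHom (A := K) (B := L) (c ≫ prod.snd)
  obtain ⟨ι', hι'⟩ := GroupTranslate.exists_algHom (A := K) (B := L) (d ≫ prod.snd)
  have h1 := congrArg (· ≫ prod.fst) h
  simp only [Category.assoc, prod.map_fst, Category.comp_id] at h1
  have h2 := congrArg (· ≫ prod.snd) h
  simp only [Category.assoc, prod.map_snd] at h2
  rw [← Category.assoc, hι, ← Category.assoc, hι', ← Functor.map_comp, ← Functor.map_comp, FieldDescent.oMap_comp,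
    FieldDescent.oMap_comp] at h2
  have h3 : ι₀.comp (IsScalarTower.toAlgHom k k₁ K) = ι'.comp (IsScalarTower.toAlgHom k k₁ K) :=
    AlgHom.ext fun c => congr($(Spec.map_injective (congrArg CommaMorphism.left ((yon Bk).map_injective h2))).hom c)
  letI : Algebra K L := ι₀.toRingHom.toAlgebra
  letI : Algebra k₁ L := (ι₀.toRingHom.comp (algebraMap k₁ K)).toAlgebra
  haveI : IsScalarTower k₁ K L := IsScalarTower.of_algebraMap_eq fun c => rfl
  haveI : IsAlgClosure k₁ K := ⟨inferInstance, inferInstance⟩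
  haveI : Normal k₁ K := IsAlgClosure.normal k₁ K
  let φ : K →ₐ[k₁] L := { ι'.toRingHom with commutes' := fun c => (congr($h3 c)).symm }
  refine ⟨φ.restrictNormal K, prod.hom_ext ?_ ?_⟩
  · rw [Category.assoc, prod.map_fst, Category.comp_id, h1]
  · rw [Category.assoc, prod.map_snd, ← Category.assoc, hι, hι', ← Functor.map_comp, FieldDescent.oMap_comp]
    congr 2
    ext x
    exact (AlgHom.restrictNormal_commutes φ K x).symm

/-- conjugation as an isomorphism -/
def twIso (δ : K →ₐ[k₁] K) : bcG G K ≅ bcG G K :=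
  let σ := AlgEquiv.ofBijective (δ.restrictScalars k) (Algebra.IsAlgebraic.algHom_bijective δ)
  { hom := tw G σ.toAlgHom
    inv := tw G σ.symm.toAlgHom
    hom_inv_id := by
      rw [tw_tw, ← tw_id]
      congr 1
      exact AlgHom.ext σ.apply_symm_apply
    inv_hom_id := by
      rw [tw_tw, ← tw_id]
      congr 1
      exact AlgHom.ext σ.symm_apply_apply }

theorem map_bproj_tw (δ : K →ₐ[k₁] K) (z : Points (bcG G K)) :
    Points.map (bproj G k₁ K) (Points.map (tw G (δ.restrictScalars k)) z) = Points.map (bproj G k₁ K) z := by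
  rw [← Points.map_comp, tw_tw]
  congr 2
  exact AlgHom.ext fun c => δ.commutes c

theorem isIntegral_bproj : RepWith @IsIntegralHom (bproj G k₁ K) :=
  RepWith.baseChange (isPullback_prod_id_map ((yon Bk).map (FieldDescent.oMap (IsScalarTower.toAlgHom k k₁ K))))
    ((repWith_yon_map_iff (P := @IsIntegralHom) _).2
      ((IsIntegralHom.SpecMap_iff (φ := CommRingCat.ofHom (IsScalarTower.toAlgHom k k₁ K).toRingHom)).2
        fun x => (Algebra.IsAlgebraic.isAlgebraic (R := k₁) x).isIntegral))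

theorem surjective_bproj : Function.Surjective (Points.map (bproj G k₁ K)) := by
  refine surjective_map_of_isPullback (fst := (prod.snd : bcG G K ⟶ _))
    (isPullback_prod_id_map ((yon Bk).map (FieldDescent.oMap (IsScalarTower.toAlgHom k k₁ K)))) ?_
  refine (surjective_map_yon_map_iff _).2 ⟨fun x => ⟨IsLocalRing.closedPoint K, ?_⟩⟩
  haveI : Subsingleton ↥(FieldDescent.oA k k₁).left := inferInstanceAs (Subsingleton (PrimeSpectrum k₁))
  exact Subsingleton.elim _ _

theorem exists_invariant_open (hG : IsAlgSpace G.left) {Y : Over Bk} (e : (yon Bk).obj Y ≅ bcG G K)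
    (N : Set (Points (bcG G K))) (hN : IsOpen N)
    (hκ : ∀ h, IsMaxPt h → h ⤳ unitPt G K → h ∈ N) :
    ∃ N' : Set (Points (bcG G K)), IsOpen N' ∧ N'.Nonempty ∧
      ∀ z ∈ N', ∀ δ : K →ₐ[k₁] K, Points.map (tw G (δ.restrictScalars k)) z ∈ N := by
  obtain ⟨κ, hmax, hκu⟩ := exists_max e (unitPt G K)
  let π : (yon Bk).obj Y ⟶ bcG G k₁ := e.hom ≫ bproj G k₁ K
  have hπ : RepWith @IsIntegralHom π :=
    RepWith.comp (repWith_of_isIso (P := @IsIntegralHom) _) isIntegral_bproj
  let C : Set ↥Y.left := (fun y => Points.map e.hom (Points.schemeHomeo Y y)) ⁻¹' Nᶜ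
  have hC : IsClosed C :=
    hN.isClosed_compl.preimage ((Points.continuous_map e.hom).comp (Points.schemeHomeo Y).continuous)
  have hcl := IntSchemeCrit.isClosed_image (X := ⟨bcG G k₁, isAlgSpace_prod hG (IsAlgSpace.yon_obj _)⟩) π hπ hC
  have hmem : ∀ z ∉ N, Points.map (bproj G k₁ K) z ∈ Points.ofPt π '' C := fun z hz => by
    obtain ⟨y, hy⟩ := (Points.schemeHomeo Y).surjective (Points.map e.inv z)
    refine ⟨y, by show Points.map e.hom _ ∈ Nᶜ; rw [hy, map_inv_hom]; exact hz, ?_⟩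
    rw [Points.ofPt_eq_map_ofScheme, Points.map_comp]
    exact congrArg _ ((congrArg (Points.map e.hom) hy).trans (map_inv_hom e z))
  refine ⟨Points.map (bproj G k₁ K) ⁻¹' (Points.ofPt π '' C)ᶜ, hcl.isOpen_compl.preimage (Points.continuous_map _),
    ⟨κ, ?_⟩, fun z hz δ => by
      by_contra hn
      exact hz (map_bproj_tw δ z ▸ hmem _ hn)⟩
  rintro ⟨y, hy, hyη⟩
  have h' : Points.map (bproj G k₁ K) (Points.map e.hom (Points.schemeHomeo Y y)) = Points.map (bproj G k₁ K) κ := by
    rw [← hyη, Points.ofPt_eq_map_ofScheme, Points.map_comp]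
    rfl
  obtain ⟨L, _, w, c, d, hcd, hc, hd⟩ := exists_of_map_eq h'.symm
  obtain ⟨φ, rfl⟩ := Spec.map_surjective w
  letI : Algebra k L := φ.hom.toAlgebra
  obtain ⟨δ, hδ⟩ := exists_conj_hom c d hcd
  have h1 : Points.map e.hom (Points.schemeHomeo Y y) = Points.map (twIso δ).hom κ := by
    rw [← hd, hδ, ← map_ptOfHom, hc]
    rfl
  refine hy (show Points.map e.hom (Points.schemeHomeo Y y) ∈ N from h1 ▸ hκ _ (isMaxPt_map_iso (twIso δ) hmax) ?_)
  exact (map_specializes (twIso δ).hom hκu).trans (specializes_of_eq (map_tw_unitPt _))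

end Galois

section Main

variable {k₁ K : Type u} [Field k₁] [Algebra k k₁] [Field K] [Algebra k K] [Algebra k₁ K] [IsScalarTower k k₁ K]
  [Algebra.IsAlgebraic k₁ K] [IsAlgClosed K]

/-- a conjugacy class can be translated into the preimage of an open set -/
theorem exists_translation (hG : IsAlgSpace G.left) {Y : Over Bk} (e : (yon Bk).obj Y ≅ bcG G K)
    {U₀ : Over Bk} (a₀ : (yon Bk).obj U₀ ⟶ G.left) (has : Function.Surjective (Points.map a₀))
    (hK : ∀ V : U₀.left.affineOpens, max (max #k #Γ(U₀.left, V.1)) ℵ₀ < #K)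
    {L : Type u} [Field L] [Algebra k L] (ι₀ : K →ₐ[k] L) (ξ : (yon Bk).obj (FieldDescent.oA k L) ⟶ G.left)
    (W : Set (Points G.left)) (hW : IsOpen W) (u u' : ↥U₀.left) (hu : u' ⤳ u)
    (hux : Points.ofPt a₀ u = ptOfHom ξ) (huW : Points.ofPt a₀ u' ∈ W) :
    ∃ a : (yon Bk).obj (FieldDescent.oA k K) ⟶ G.left, ∀ δ : K →ₐ[k₁] K,
      ptOfHom (gmul (ginv ((yon Bk).map (FieldDescent.oMap (ι₀.comp (δ.restrictScalars k))) ≫ a)) ξ) ∈ W := by
  let T : Sp Bk := (yon Bk).obj (FieldDescent.oA k L)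
  let S : Over Bk := U₀ ⨯ FieldDescent.oA k L
  let pr : S ⟶ U₀ := prod.fst
  let cS : (yon Bk).obj S ⟶ bcG G L := prodComparison (yon Bk) U₀ (FieldDescent.oA k L) ≫ prod.map a₀ (𝟙 T)
  haveI : Flat (FieldDescent.oA k L).hom := by
    show Flat (Spec.map (CommRingCat.ofHom (algebraMap k L)))
    rw [Flat.SpecMap_iff, CommRingCat.hom_ofHom]
    exact RingHom.flat_algebraMap_iff.2 inferInstance
  haveI : Flat pr.left := by
    rw [show pr.left = (Over.prodLeftIsoPullback U₀ (FieldDescent.oA k L)).hom ≫ pullback.fst _ _ from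
      (Over.prodLeftIsoPullback_hom_fst _ _).symm]
    infer_instance
  obtain ⟨w, hw1, hw2⟩ := exists_point_of_isPullback (isPullback_prod_map_id (Z := T) a₀)
    (x := Points.schemeHomeo U₀ u) (y := ptOfHom (sec ξ)) (by
      rw [map_ptOfHom, prod.lift_fst, ← hux, Points.ofPt_eq_map_ofScheme]
      rfl)
  obtain ⟨s, hs⟩ := (Points.schemeHomeo S).surjective (Points.map (inv (prodComparison (yon Bk) U₀ (FieldDescent.oA k L))) w)
  have hprs : pr.left s = u := by
    apply (Points.schemeHomeo U₀).injective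
    rw [← Points.map_yon_map_apply, hs, ← hw1, ← Points.map_comp]
    congr 1
    rw [IsIso.inv_comp_eq, prodComparison_fst]
  have hcs : Points.map cS (Points.schemeHomeo S s) = ptOfHom (sec ξ) := by
    rw [hs, ← Points.map_comp, IsIso.inv_hom_id_assoc, hw2]
  obtain ⟨s', hs', hs'u⟩ := Flat.generalizingMap pr.left (show u' ⤳ pr.left s from hprs.symm ▸ hu)
  let κ' := Points.map cS (Points.schemeHomeo S s')
  have hκ' : κ' ⤳ ptOfHom (sec ξ) :=
    (map_specializes cS (hs'.map (Points.schemeHomeo S).continuous)).trans (specializes_of_eq hcs)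
  have hκ'W : Points.map prod.fst κ' ∈ W := by
    have : Points.map prod.fst κ' = Points.ofPt a₀ u' := by
      rw [← Points.map_comp, Category.assoc, prod.map_fst, ← Category.assoc, prodComparison_fst, Points.map_comp,
        Points.map_yon_map_apply, hs'u, Points.ofPt_eq_map_ofScheme]
      rfl
    rw [this]; exact huW
  let τ : bcG G L ⟶ bcG G L := prod.lift (gmul (prod.snd ≫ ξ) (ginv prod.fst)) prod.snd
  let ψ : bcG G L ⟶ G.left := gmul (ginv prod.fst) (prod.snd ≫ ξ)
  have hτψ : τ ≫ ψ = prod.fst := by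
    simp only [ψ, τ, comp_gmul, comp_ginv, prod.lift_fst, prod.lift_snd_assoc]
    exact cancel_id _ _
  have hτu : sec ξ ≫ τ = sec (gone G _) := by
    refine prod.hom_ext ?_ ?_
    · simp only [τ, Category.assoc, prod.lift_fst, comp_gmul, comp_ginv, prod.lift_snd_assoc, Category.id_comp]
      exact gmul_ginv _
    · simp [τ]
  let g' := Points.map τ κ'
  have hg'O : Points.map ψ g' ∈ W := by
    rw [← Points.map_comp, hτψ]; exact hκ'W
  let h₀ := Points.map (tw G ι₀) g'
  have hh₀ : h₀ ⤳ unitPt G K := by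
    refine (map_specializes _ ((map_specializes τ hκ').trans (specializes_of_eq ?_))).trans
      (specializes_of_eq (map_tw_unitPt ι₀))
    rw [map_ptOfHom, hτu, unitPt]
  obtain ⟨B, _, _, v, hv, hvo, hvu⟩ := exists_coord e (unitPt G K)
  obtain ⟨P, hP⟩ := hh₀.mem_open hvo hvu
  obtain ⟨jB, hjB⟩ := GroupTranslate.exists_algHom (A := K) (B := B) (v ≫ prod.snd)
  obtain ⟨L', _, w', v', c', he, hv', hc'⟩ := exists_of_map_eq (f := v) (g := tw G ι₀)
    (x := Points.schemeHomeo _ P) (y := g') (by exact (Points.ofPt_eq_map_ofScheme v P).symm.trans hP)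
  obtain ⟨φ', rfl⟩ := Spec.map_surjective w'
  letI : Algebra k L' := φ'.hom.toAlgebra
  obtain ⟨α₀, rfl⟩ := GroupTranslate.exists_algHom (A := B) (B := L') v'
  obtain ⟨β, hβ⟩ := GroupTranslate.exists_algHom (A := L) (B := L') (c' ≫ prod.snd)
  letI : Algebra K B := jB.toRingHom.toAlgebra
  haveI : IsScalarTower k K B := IsScalarTower.of_algebraMap_eq fun c => (jB.commutes c).symm
  letI : Algebra K L := ι₀.toRingHom.toAlgebra
  haveI : IsScalarTower k K L := IsScalarTower.of_algebraMap_eq fun c => (ι₀.commutes c).symm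
  letI : Algebra K L' := (β.comp ι₀).toRingHom.toAlgebra
  haveI : IsScalarTower k K L' := IsScalarTower.of_algebraMap_eq fun c => ((β.comp ι₀).commutes c).symm
  have hαβ : α₀.comp jB = β.comp ι₀ := by
    have h1 := congrArg (· ≫ prod.snd) he
    simp only [Category.assoc, prod.map_snd] at h1
    rw [← Category.assoc c', hβ, hjB, ← Functor.map_comp, ← Functor.map_comp, FieldDescent.oMap_comp,
      FieldDescent.oMap_comp] at h1
    exact AlgHom.ext fun c => congr($(Spec.map_injective (congrArg CommaMorphism.left ((yon Bk).map_injective h1))).hom c)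
  let αK : B →ₐ[K] L' := { α₀ with commutes' := fun c => congr($hαβ c) }
  let βK : L →ₐ[K] L' := { β with commutes' := fun c => rfl }
  let iL : B →ₐ[k] B ⊗[K] L := (Algebra.TensorProduct.includeLeft : B →ₐ[K] B ⊗[K] L).restrictScalars k
  let iR : L →ₐ[k] B ⊗[K] L := (Algebra.TensorProduct.includeRight : L →ₐ[K] B ⊗[K] L).restrictScalars k
  let m₀ : (yon Bk).obj (FieldDescent.oA k (B ⊗[K] L)) ⟶ bcG G L :=
    prod.lift ((yon Bk).map (FieldDescent.oMap iL) ≫ v ≫ prod.fst) ((yon Bk).map (FieldDescent.oMap iR))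
  let pm : B ⊗[K] L →ₐ[k] L' := (Algebra.TensorProduct.productMap αK βK).restrictScalars k
  have hpL : pm.comp iL = α₀ := AlgHom.ext fun b => by simp [pm, iL]; rfl
  have hpR : pm.comp iR = β := AlgHom.ext fun b => by simp [pm, iR]; rfl
  have hc : c' = (yon Bk).map (FieldDescent.oMap pm) ≫ m₀ := by
    refine prod.hom_ext ?_ ?_
    · rw [Category.assoc, prod.lift_fst, ← Functor.map_comp_assoc, FieldDescent.oMap_comp, hpL, ← Category.assoc,
        he, Category.assoc, prod.map_fst, Category.comp_id]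
    · rw [hβ, Category.assoc, prod.lift_snd, ← Functor.map_comp, FieldDescent.oMap_comp, hpR]
  let O' : (FieldDescent.oA k (B ⊗[K] L)).left.Opens :=
    ⟨Points.ofPt m₀ ⁻¹' (Points.map ψ ⁻¹' W),
      (hW.preimage (Points.continuous_map ψ)).preimage (Points.continuous_ofPt m₀)⟩
  let q : PrimeSpectrum (B ⊗[K] L) := (FieldDescent.oMap pm).left (IsLocalRing.closedPoint L')
  have hq : q ∈ O' := by
    show Points.ofPt m₀ _ ∈ Points.map ψ ⁻¹' W
    rw [← ptOfHom_yon_map, ← hc, hc']
    exact hg'O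
  obtain ⟨_, ⟨f, rfl⟩, hqf, hfO⟩ :=
    PrimeSpectrum.isTopologicalBasis_basic_opens.exists_subset_of_mem_open hq O'.2
  classical
  let bs := Module.Basis.ofVectorSpace K L
  obtain ⟨cf, hcf⟩ := TensorProduct.eq_repr_basis_right bs f
  obtain ⟨i, -, hi⟩ : ∃ i ∈ cf.support, α₀ (cf i) ≠ 0 := by
    by_contra h
    push Not at h
    refine hqf ?_
    show pm f ∈ IsLocalRing.maximalIdeal L'
    have : pm f = 0 := by
      rw [← hcf, Finsupp.sum, map_sum]
      refine Finset.sum_eq_zero fun j hj => ?_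
      show αK (cf j) * βK (bs j) = 0
      rw [show αK (cf j) = α₀ (cf j) from rfl, h j hj, zero_mul]
    rw [this]
    exact zero_mem _
  let D : Set (PrimeSpectrum B) := PrimeSpectrum.basicOpen (cf i)
  have hvP : (P : PrimeSpectrum B) = (FieldDescent.oMap α₀).left (IsLocalRing.closedPoint L') :=
    (Points.schemeHomeo (FieldDescent.oA k B)).injective (by rw [← hv', ptOfHom_eq_closedPoint, Points.map_yon_map_apply])
  have hPD : P ∈ D := by
    rw [hvP]
    show cf i ∉ Ideal.comap α₀.toRingHom (IsLocalRing.maximalIdeal L')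
    rw [Ideal.mem_comap, IsLocalRing.maximalIdeal_eq_bot]
    exact hi
  let N := Points.ofPt v '' D
  have hN : IsOpen N :=
    isOpenMap_ofPt v (RepWith.mono (fun _ _ f (_ : IsOpenImmersion f) => (inferInstance : Etale f)) hv)
      _ (PrimeSpectrum.basicOpen (cf i)).isOpen
  have hκN : ∀ h, IsMaxPt h → h ⤳ unitPt G K → h ∈ N := fun h hm hh => by
    obtain ⟨κ, hκm, hκ₀⟩ := exists_max e h₀
    rw [max_unique hG e hm hκm hh (hκ₀.trans hh₀)]
    exact hκ₀.mem_open hN ⟨P, hPD, hP⟩
  obtain ⟨N', hN'o, hN'ne, hN'⟩ := exists_invariant_open hG e (k₁ := k₁) N hN hκN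
  obtain ⟨a, ha⟩ := exists_rational a₀ has K hK N' hN'o hN'ne
  refine ⟨a, fun δ => ?_⟩
  obtain ⟨δ', hδ'⟩ : ∃ δ' : K →ₐ[k₁] K, δ.comp δ' = AlgHom.id k₁ K :=
    ⟨(AlgEquiv.ofBijective δ (Algebra.IsAlgebraic.algHom_bijective δ)).symm.toAlgHom,
      AlgHom.ext (AlgEquiv.ofBijective δ (Algebra.IsAlgebraic.algHom_bijective δ)).apply_symm_apply⟩
  let a' : (yon Bk).obj (FieldDescent.oA k K) ⟶ G.left :=
    (yon Bk).map (FieldDescent.oMap (δ.restrictScalars k)) ≫ a
  obtain ⟨t, ht, hta⟩ : ptOfHom (sec a') ∈ N := by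
    have h1 := hN' _ ha δ'
    rw [map_ptOfHom] at h1
    have h2 : sec a ≫ tw G (δ'.restrictScalars k) = (yon Bk).map (FieldDescent.oMap (δ'.restrictScalars k)) ≫ sec a' := by
      rw [← sec_tw, ← Functor.map_comp_assoc, FieldDescent.oMap_comp]
      rw [show (δ'.restrictScalars k).comp (δ.restrictScalars k) = AlgHom.id k K from ?_, FieldDescent.oMap_id,
        CategoryTheory.Functor.map_id, Category.id_comp]
      obtain ⟨σ, hσ⟩ : ∃ σ : K ≃ₐ[k₁] K, σ.toAlgHom = δ :=
        ⟨AlgEquiv.ofBijective δ (Algebra.IsAlgebraic.algHom_bijective δ), rfl⟩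
      ext x
      have := congr($hδ' (δ x))
      exact (Algebra.IsAlgebraic.algHom_bijective δ).1 this
    rw [h2, ptOfHom_map] at h1
    exact h1
  obtain ⟨β₂, hβ₁, ht'⟩ := exists_lift_chart hv (sec a') t hta
  have hβj : β₂.comp jB = AlgHom.id k K := by
    have h1 := congrArg (· ≫ prod.snd) hβ₁
    simp only [Category.assoc, hjB, prod.lift_snd, ← Functor.map_comp, FieldDescent.oMap_comp] at h1
    rw [← CategoryTheory.Functor.map_id, ← FieldDescent.oMap_id] at h1
    exact AlgHom.ext fun c => congr($(Spec.map_injective (congrArg CommaMorphism.left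
      ((yon Bk).map_injective h1))).hom c)
  let β₂K : B →ₐ[K] L := { ι₀.comp β₂ with commutes' := fun c => congrArg ι₀ congr($hβj c) }
  let mK : B ⊗[K] L →ₐ[K] L := Algebra.TensorProduct.productMap β₂K (AlgHom.id K L)
  have hval : β₂ (cf i) ≠ 0 := by
    intro h0
    rw [ht'] at ht
    refine ht ?_
    show β₂ (cf i) ∈ IsLocalRing.maximalIdeal K
    rw [h0]
    exact zero_mem _
  have hmf : mK f ≠ 0 := by
    intro h0
    apply hval
    refine linearIndependent_iff'.1 bs.linearIndependent (insert i cf.support) (fun j => β₂ (cf j)) ?_ i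
      (Finset.mem_insert_self _ _)
    rw [← h0, ← hcf, Finsupp.sum, map_sum]
    rw [Finset.sum_subset (Finset.subset_insert i cf.support) (f := fun j => mK (cf j ⊗ₜ bs j)) fun j _ hj => by
      rw [Finsupp.notMem_support_iff.1 hj, TensorProduct.zero_tmul, map_zero]]
    refine Finset.sum_congr rfl fun j _ => ?_
    rw [Algebra.TensorProduct.productMap_apply_tmul, Algebra.smul_def]
    rfl
  let m : B ⊗[K] L →ₐ[k] L := mK.restrictScalars k
  have hm : (FieldDescent.oMap m).left (IsLocalRing.closedPoint L) ∈ O' := by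
    refine hfO ?_
    show f ∉ Ideal.comap m.toRingHom (IsLocalRing.maximalIdeal L)
    rw [Ideal.mem_comap, IsLocalRing.maximalIdeal_eq_bot]
    exact hmf
  have hmL : m.comp iL = ι₀.comp β₂ := AlgHom.ext fun b => by simp [m, mK, iL]; rfl
  have hmR : m.comp iR = AlgHom.id k L := AlgHom.ext fun b => by simp [m, mK, iR]
  have h1 : (yon Bk).map (FieldDescent.oMap m) ≫ m₀ ≫ ψ =
      gmul (ginv ((yon Bk).map (FieldDescent.oMap (ι₀.comp (δ.restrictScalars k))) ≫ a)) ξ := by
    simp only [ψ, comp_gmul, comp_ginv]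
    congr 2
    · rw [prod.lift_fst, ← Functor.map_comp_assoc, FieldDescent.oMap_comp, hmL, ← FieldDescent.oMap_comp β₂ ι₀,
        Functor.map_comp_assoc, ← Category.assoc ((yon Bk).map (FieldDescent.oMap β₂)), hβ₁, prod.lift_fst,
        ← Functor.map_comp_assoc, FieldDescent.oMap_comp]
    · rw [prod.lift_snd_assoc, ← Functor.map_comp_assoc, FieldDescent.oMap_comp, hmR, FieldDescent.oMap_id,
        CategoryTheory.Functor.map_id, Category.id_comp]
  rw [← h1, ← Category.assoc, ← map_ptOfHom, ptOfHom_yon_map]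
  exact hm

theorem fibAff (hG : IsAlgSpace G.left) (hqs : IsQuasiSeparatedSp G.left) {Y : Over Bk}
    (e : (yon Bk).obj Y ≅ bcG G K) {U₀ : Over Bk} (a₀ : (yon Bk).obj U₀ ⟶ G.left) (he₀ : RepWith @Etale a₀)
    (has : Function.Surjective (Points.map a₀))
    (hK : ∀ V : U₀.left.affineOpens, max (max #k #Γ(U₀.left, V.1)) ℵ₀ < #K) :
    NormNhd.FibAff (e.hom ≫ bproj G k₁ K) := fun x => by
  obtain ⟨z₀, hz₀⟩ := surjective_bproj (G := G) (k₁ := k₁) (K := K) x
  obtain ⟨L, _, _, c, rfl⟩ := exists_oA_point z₀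
  obtain ⟨ι₀, hι⟩ := GroupTranslate.exists_algHom (A := K) (B := L) (c ≫ prod.snd)
  obtain ⟨u, hu⟩ : ∃ u, Points.ofPt a₀ u = ptOfHom (c ≫ prod.fst) := by
    obtain ⟨y, hy⟩ := has (ptOfHom (c ≫ prod.fst))
    obtain ⟨u, rfl⟩ := (Points.schemeHomeo U₀).surjective y
    exact ⟨u, (Points.ofPt_eq_map_ofScheme _ _).trans hy⟩
  obtain ⟨u', hu'max, hu'⟩ := exists_maxPts_specializes u
  have hd := isDecent_of_qsep hG hqs
  obtain ⟨C, l, hC, hl, hlx⟩ := exists_affine_nbhd_of_maximal hG hqs (Points.ofPt a₀ u') fun y hy => by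
    obtain ⟨u'', hu'', rfl⟩ := exists_specializes_chart (FiniteFibres.of_mk (hd y)).1 a₀ he₀ u' hy
    rw [hu'max u'' hu'']
  have hWo : IsOpen (Set.range (Points.map l)) := by
    rw [show Set.range (Points.map l) = Points.ofPt l '' Set.univ by
      rw [Set.image_univ]; ext x; constructor
      · rintro ⟨z, rfl⟩
        obtain ⟨w, rfl⟩ := (Points.schemeEquiv _).surjective z
        exact ⟨w, Points.ofPt_eq_map_ofScheme _ _⟩
      · rintro ⟨w, rfl⟩; exact ⟨_, (Points.ofPt_eq_map_ofScheme _ _).symm⟩]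
    exact isOpenMap_ofPt l (RepWith.mono (fun _ _ f (_ : IsOpenImmersion f) => (inferInstance : Etale f)) hl)
      _ isOpen_univ
  obtain ⟨a, ha⟩ := exists_translation (k₁ := k₁) hG e a₀ has hK ι₀ (c ≫ prod.fst) _ hWo u u' hu' hu hlx
  let A : Over Bk := C ⨯ FieldDescent.oA k K
  haveI : IsAffine C.left := hC
  haveI : IsAffine (C.left) := hC
  haveI : IsAffine (Functor.obj (𝟭 Scheme) C.left) := hC
  haveI : IsAffine (FieldDescent.oA k K).left := inferInstanceAs (IsAffine (Spec (CommRingCat.of K)))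
  haveI : IsAffine (Functor.obj (Functor.fromPUnit.{0} Bk) ⟨⟨⟩⟩) := inferInstanceAs (IsAffine Bk)
  haveI : IsAffine A.left :=
    IsAffine.of_isIso (Over.prodLeftIsoPullback C (FieldDescent.oA k K)).hom
  let jA : (yon Bk).obj A ⟶ (yon Bk).obj Y :=
    prodComparison (yon Bk) C (FieldDescent.oA k K) ≫ prod.map l (𝟙 _) ≫ (transIso a).hom ≫ e.inv
  have hjA : RepWith @IsOpenImmersion jA :=
    RepWith.comp (repWith_of_isIso (P := @IsOpenImmersion) _)
      (RepWith.comp (RepWith.baseChange (isPullback_prod_map_id (Z := (yon Bk).obj (FieldDescent.oA k K)) l) hl)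
        (RepWith.comp (repWith_of_isIso (P := @IsOpenImmersion) _) (repWith_of_isIso (P := @IsOpenImmersion) _)))
  obtain ⟨jY, hjY⟩ := (yon Bk).map_surjective jA
  haveI : IsOpenImmersion jY.left := (repWith_yon_map_iff (P := @IsOpenImmersion) jY).1 (hjY.symm ▸ hjA)
  refine ⟨jY.left.opensRange, isAffineOpen_opensRange jY.left, fun y hy => ?_⟩
  have h' : Points.map (bproj G k₁ K) (ptOfHom c) =
      Points.map (bproj G k₁ K) (Points.map e.hom (Points.schemeHomeo Y y)) := by
    rw [hz₀, ← hy, Points.ofPt_eq_map_ofScheme, Points.map_comp]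
    rfl
  obtain ⟨L', _, w, c₁, d, hcd, hc₁, hd'⟩ := exists_of_map_eq h'
  obtain ⟨φ, rfl⟩ := Spec.map_surjective w
  letI : Algebra k L' := φ.hom.toAlgebra
  obtain ⟨δ, hδ⟩ := exists_conj_hom c₁ d hcd
  have hy' : Points.map e.hom (Points.schemeHomeo Y y) = ptOfHom (c ≫ tw G (δ.restrictScalars k)) := by
    rw [← hd', hδ, ← map_ptOfHom, hc₁, map_ptOfHom]
  have hfst : ptOfHom ((c ≫ tw G (δ.restrictScalars k) ≫ (transIso a).inv) ≫ prod.fst) ∈ Set.range (Points.map l) := by
    convert ha δ using 2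
    show (c ≫ tw G (δ.restrictScalars k) ≫ transHom (ginv a)) ≫ prod.fst = _
    rw [Category.assoc, Category.assoc, transHom, prod.lift_fst, comp_gmul, comp_gmul, comp_ginv, comp_ginv,
      comp_ginv, prod.map_fst, Category.comp_id, prod.map_snd_assoc, ← Category.assoc c, hι,
      ← Functor.map_comp_assoc, FieldDescent.oMap_comp]
  obtain ⟨p, hp⟩ := hfst
  obtain ⟨q, -, hq⟩ := exists_point_of_isPullback (isPullback_prod_map_id (Z := (yon Bk).obj (FieldDescent.oA k K)) l)
    (x := p) (y := ptOfHom (c ≫ tw G (δ.restrictScalars k) ≫ (transIso a).inv)) (by rw [map_ptOfHom]; exact hp)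
  obtain ⟨r, hr⟩ := (Points.schemeHomeo A).surjective (Points.map (inv (prodComparison (yon Bk) C (FieldDescent.oA k K))) q)
  refine ⟨r, (Points.schemeHomeo Y).injective ?_⟩
  rw [← Points.map_yon_map_apply, hjY, hr, ← Points.map_comp, IsIso.inv_hom_id_assoc, Points.map_comp, hq,
    map_ptOfHom]
  simp only [Category.assoc, Iso.inv_hom_id_assoc]
  rw [← Category.assoc, ← map_ptOfHom, ← hy', map_hom_inv]

end Main

/-- **separated group spaces over fields are schemes** -/
theorem isRepresentable (hG : IsAlgSpace G.left) (hqs : IsQuasiSeparatedSp G.left) :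
    G.left.obj.IsRepresentable := by
  obtain ⟨U₀, a₀, he₀, has₀⟩ := hG.atlas
  have has : Function.Surjective (Points.map a₀) := surjective_map_of_repWith has₀
  let k₁ := FractionRing (MvPolynomial (Set (sizeType k U₀)) k)
  let K := AlgebraicClosure k₁
  obtain ⟨K', _, _, h'⟩ := exists_extension_rep hG hqs
  obtain ⟨Y, ⟨e⟩⟩ := exists_iso_yon_of_isRepresentable
    (FieldDescent.isRepresentable_algClosed_of_cover ⟨G.left, hG⟩ hqs K' h' K)
  refine PurelyTransc.isRepresentable ⟨G.left, hG⟩ hqs (Set (sizeType k U₀)) ?_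
  let X : AlgSp.Space Bk := ⟨bcG G k₁, isAlgSpace_prod hG (IsAlgSpace.yon_obj _)⟩
  have hXqs : IsQuasiSeparatedSp X.obj := by
    have hT' : IsTerminal (Tk k) := hT
    exact (isQuasiSeparatedMor_iff_sp _).1
      (isQuasiSeparatedMor_comp (isQuasiSeparatedMor_of_isSeparatedMor
        (LimitSep.diag_separated (FieldDescent.isAffineMor_fst G.left k₁)))
        ((isQuasiSeparatedMor_iff_sp (hT'.from G.left)).2 hqs))
  refine IntSchemeCrit.isRepresentable_of_integral_qs X hXqs (e.hom ≫ bproj G k₁ K)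
    (RepWith.comp (repWith_of_isIso (P := @IsIntegralHom) _) isIntegral_bproj) (fun x => ?_)
    (fibAff hG hqs e a₀ he₀ has fun V => card_lt U₀ V)
  obtain ⟨z, hz⟩ := surjective_bproj (G := G) (k₁ := k₁) (K := K) x
  obtain ⟨y, hy⟩ := (Points.schemeHomeo Y).surjective (Points.map e.inv z)
  refine ⟨y, ?_⟩
  rw [Points.ofPt_eq_map_ofScheme, Points.map_comp]
  show Points.map (bproj G k₁ K) (Points.map e.hom (Points.schemeHomeo Y y)) = x
  rw [hy, map_inv_hom, hz]

end Groth.Agent.AlgSpLib.GroupScheme
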