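import Groth.Agent.AlgSpLib.GroupRich
import Groth.Agent.AlgSpLib.FieldDescent
import Groth.Agent.AlgSpLib.DenseScheme
import Groth.Agent.AlgSpLib.OpenCoverScheme
import Groth.Agent.AlgSpLib.DecentPoints

/-!
Translations in group spaces over a field.
-/

universe u

open CategoryTheory CategoryTheory.Limits AlgebraicGeometry Opposite Topology MonoidalCategory MonObj Cardinal
open AlgSp TensorProduct

noncomputable section

set_option linter.style.haveILetI false

namespace Groth.Agent.AlgSpLib.GroupTranslate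

open Groth.Agent.AlgSpLib FieldDescent

set_option backward.isDefEq.respectTransparency.types false
set_option backward.isDefEq.respectTransparency false

variable {k : Type u} [Field k]

local notation "Bk" => Spec (CommRingCat.of k)
variable (k) in
/-- the terminal space -/
abbrev Tk : Sp Bk := (yon Bk).obj (Over.mk (𝟙 _))

theorem isTerminal_Tk : Nonempty (IsTerminal (Tk k)) :=
  ⟨IsTerminal.isTerminalObj (yon Bk) _ Over.mkIdTerminal⟩

def hT : IsTerminal (Tk k) := isTerminal_Tk.some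

variable (G : Over (Tk k)) [GrpObj G]

def toOver (Z : Sp Bk) : Over (Tk k) := Over.mk (hT.from Z)

def liftG {Z : Sp Bk} (f : Z ⟶ G.left) : toOver Z ⟶ G := Over.homMk f (hT.hom_ext _ _)

def toOverMap {Z Z' : Sp Bk} (h : Z' ⟶ Z) : toOver Z' ⟶ toOver Z := Over.homMk h (hT.hom_ext _ _)

variable {G}

def gmul {Z : Sp Bk} (f g : Z ⟶ G.left) : Z ⟶ G.left := (liftG G f * liftG G g).left

def ginv {Z : Sp Bk} (f : Z ⟶ G.left) : Z ⟶ G.left := ((liftG G f)⁻¹).left

variable (G) in
def gone (Z : Sp Bk) : Z ⟶ G.left := (1 : toOver Z ⟶ G).left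

theorem liftG_left {Z : Sp Bk} (x : toOver Z ⟶ G) : liftG G x.left = x := Over.OverMorphism.ext rfl

theorem liftG_gmul {Z : Sp Bk} (f g : Z ⟶ G.left) : liftG G (gmul f g) = liftG G f * liftG G g := liftG_left _

theorem liftG_ginv {Z : Sp Bk} (f : Z ⟶ G.left) : liftG G (ginv f) = (liftG G f)⁻¹ := liftG_left _

theorem gmul_assoc {Z : Sp Bk} (f g h : Z ⟶ G.left) : gmul (gmul f g) h = gmul f (gmul g h) := by
  rw [gmul, liftG_gmul]
  conv_rhs => rw [gmul, liftG_gmul, ← _root_.mul_assoc]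

theorem gone_gmul {Z : Sp Bk} (f : Z ⟶ G.left) : gmul (gone G Z) f = f := by
  rw [gmul, gone, liftG_left, _root_.one_mul]
  rfl

theorem ginv_gmul {Z : Sp Bk} (f : Z ⟶ G.left) : gmul (ginv f) f = gone G Z := by
  rw [gmul, liftG_ginv, inv_mul_cancel]
  rfl

theorem gmul_ginv {Z : Sp Bk} (f : Z ⟶ G.left) : gmul f (ginv f) = gone G Z := by
  rw [gmul, liftG_ginv, mul_inv_cancel]
  rfl

/-- `(x y⁻¹)⁻¹ x = y` -/
theorem cancel_id {Z : Sp Bk} (x y : Z ⟶ G.left) : gmul (ginv (gmul x (ginv y))) x = y := by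
  rw [gmul, liftG_ginv, liftG_gmul, liftG_ginv, mul_inv_rev, inv_inv, _root_.mul_assoc, inv_mul_cancel, _root_.mul_one]
  rfl

theorem comp_liftG {Z Z' : Sp Bk} (h : Z' ⟶ Z) (f : Z ⟶ G.left) :
    toOverMap h ≫ liftG G f = liftG G (h ≫ f) := Over.OverMorphism.ext rfl

theorem comp_gmul {Z Z' : Sp Bk} (h : Z' ⟶ Z) (f g : Z ⟶ G.left) :
    h ≫ gmul f g = gmul (h ≫ f) (h ≫ g) := by
  rw [gmul, gmul, ← comp_liftG, ← comp_liftG, ← MonObj.comp_mul]
  rfl

theorem comp_gone {Z Z' : Sp Bk} (h : Z' ⟶ Z) : h ≫ gone G Z = gone G Z' := by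
  rw [gone, gone, ← MonObj.comp_one (toOverMap h)]
  rfl

theorem comp_ginv {Z Z' : Sp Bk} (h : Z' ⟶ Z) (f : Z ⟶ G.left) : h ≫ ginv f = ginv (h ≫ f) := by
  rw [ginv, ginv, ← comp_liftG, ← GrpObj.comp_inv]
  rfl

variable {Z₀ : Sp (Spec (CommRingCat.of k))}

/-- left translation by a point with values in the base -/
def transHom (a : Z₀ ⟶ G.left) : G.left ⨯ Z₀ ⟶ G.left ⨯ Z₀ :=
  prod.lift (gmul (prod.snd ≫ a) prod.fst) prod.snd

theorem transHom_comp (a b : Z₀ ⟶ G.left) : transHom b ≫ transHom a = transHom (gmul a b) := by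
  refine prod.hom_ext ?_ (by simp [transHom])
  simp only [transHom, Category.assoc, prod.lift_fst]
  rw [comp_gmul, prod.lift_snd_assoc, prod.lift_fst, comp_gmul, gmul_assoc]

theorem transHom_one : transHom (gone G Z₀) = 𝟙 _ := by
  refine prod.hom_ext ?_ (by simp [transHom])
  simp only [transHom, prod.lift_fst, Category.id_comp]
  rw [comp_gone, gone_gmul]

/-- left translation as an isomorphism -/
def transIso (a : Z₀ ⟶ G.left) : G.left ⨯ Z₀ ≅ G.left ⨯ Z₀ where
  hom := transHom a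
  inv := transHom (ginv a)
  hom_inv_id := by rw [transHom_comp, ginv_gmul, transHom_one]
  inv_hom_id := by rw [transHom_comp, gmul_ginv, transHom_one]

/-- points have representatives over algebras -/
theorem exists_oA_point {F : Sp Bk} (x : Points F) :
    ∃ (L : Type u) (_ : Field L) (_ : Algebra k L) (c : (yon Bk).obj (FieldDescent.oA k L) ⟶ F), ptOfHom c = x := by
  obtain ⟨L, _, str, c, rfl⟩ := exists_ptOfHom x
  obtain ⟨φ, rfl⟩ := Spec.map_surjective str
  exact ⟨L, inferInstance, φ.hom.toAlgebra, c, rfl⟩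

/-- maps of spectra over the field come from algebra maps -/
theorem exists_algHom {A B : Type u} [CommRing A] [Algebra k A] [CommRing B] [Algebra k B]
    (i : (yon Bk).obj (FieldDescent.oA k B) ⟶ (yon Bk).obj (FieldDescent.oA k A)) : ∃ φ : A →ₐ[k] B, i = (yon Bk).map (FieldDescent.oMap φ) := by
  obtain ⟨j, rfl⟩ := (yon Bk).map_surjective i
  obtain ⟨φ, hφ⟩ := Spec.map_surjective j.left
  have w := Over.w j
  change j.left ≫ Spec.map (CommRingCat.ofHom (algebraMap k A)) = Spec.map (CommRingCat.ofHom (algebraMap k B)) at w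
  rw [← hφ, ← Spec.map_comp] at w
  refine ⟨{ φ.hom with commutes' := fun c => congr($(Spec.map_injective w).hom c) }, ?_⟩
  congr 1
  exact Over.OverMorphism.ext hφ.symm

theorem subsingleton_points_Tk : Subsingleton (Points (Tk k)) := by
  haveI : Subsingleton ↥(Over.mk (𝟙 (Spec (CommRingCat.of k)))).left :=
    inferInstanceAs (Subsingleton (PrimeSpectrum k))
  exact (Points.schemeHomeo (Over.mk (𝟙 (Spec (CommRingCat.of k))))).symm.injective.subsingleton

/-- two points of spaces over a field have a common field of definition -/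
theorem exists_common {F H : Sp Bk} (x : Points F) (y : Points H) :
    ∃ (L : Type u) (_ : Field L) (_ : Algebra k L) (c : (yon Bk).obj (FieldDescent.oA k L) ⟶ F)
      (d : (yon Bk).obj (FieldDescent.oA k L) ⟶ H), ptOfHom c = x ∧ ptOfHom d = y := by
  haveI := subsingleton_points_Tk (k := k)
  obtain ⟨L, _, w, c, d, -, hc, hd⟩ := exists_of_map_eq (f := hT.from F) (g := hT.from H) (x := x) (y := y)
    (Subsingleton.elim _ _)
  obtain ⟨φ, rfl⟩ := Spec.map_surjective w
  exact ⟨L, inferInstance, φ.hom.toAlgebra, c, d, hc, hd⟩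

/-- a set dominating the coordinate rings of the affine opens of an atlas -/
abbrev sizeType (k : Type u) [Field k] (U₀ : Over (Spec (CommRingCat.of k))) : Type u :=
  k ⊕ ((Σ V : U₀.left.affineOpens, Γ(U₀.left, V.1)) ⊕ ULift.{u} ℕ)

/-- a field large enough for an atlas -/
abbrev largeField (U₀ : Over (Spec (CommRingCat.of k))) : Type u := GroupRich.bigField k (sizeType k U₀)

theorem card_lt (U₀ : Over (Spec (CommRingCat.of k))) (V : U₀.left.affineOpens) :
    max (max #k #Γ(U₀.left, V.1)) ℵ₀ < #(largeField U₀) := by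
  refine lt_of_le_of_lt ?_ (GroupRich.lt_bigField k (sizeType k U₀))
  refine max_le (max_le ?_ ?_) ?_
  · exact mk_le_of_injective (f := Sum.inl) Sum.inl_injective
  · exact mk_le_of_injective (f := fun x => Sum.inr (Sum.inl ⟨V, x⟩)) fun x y h => by simpa using h
  · refine le_trans (le_of_eq (by simp : ℵ₀ = #(ULift.{u} ℕ))) ?_
    exact mk_le_of_injective (f := fun n => Sum.inr (Sum.inr n)) fun x y h => by simpa using h

open Algebra.TensorProduct in
/-- some rational translate of a field-valued point lies in a given open set -/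
theorem exists_translate (hG : IsAlgSpace G.left) {U₀ : Over Bk} (a₀ : (yon Bk).obj U₀ ⟶ G.left)
    (has : Function.Surjective (Points.map a₀)) (W : Set (Points G.left)) (hW : IsOpen W) (hne : W.Nonempty)
    (K : Type u) [Field K] [Algebra k K] [IsAlgClosed K]
    (hK : ∀ V : U₀.left.affineOpens, max (max #k #Γ(U₀.left, V.1)) ℵ₀ < #K)
    (Ω : Type u) [Field Ω] [Algebra k Ω] (ι₀ : K →ₐ[k] Ω) (ζ : (yon Bk).obj (FieldDescent.oA k Ω) ⟶ G.left) :
    ∃ a : (yon Bk).obj (FieldDescent.oA k K) ⟶ G.left,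
      ptOfHom (gmul (ginv ((yon Bk).map (FieldDescent.oMap ι₀) ≫ a)) ζ) ∈ W := by
  let T : Sp Bk := (yon Bk).obj (FieldDescent.oA k Ω)
  let P : Sp Bk := G.left ⨯ T
  let ψ : P ⟶ G.left := gmul (ginv prod.fst) (prod.snd ≫ ζ)
  have hO : IsOpen (Points.map ψ ⁻¹' W) := hW.preimage (Points.continuous_map ψ)
  obtain ⟨w, hw⟩ := hne
  obtain ⟨L, _, _, u, v, rfl, -⟩ := exists_common w (ptOfHom (𝟙 T))
  let p : (yon Bk).obj (FieldDescent.oA k L) ⟶ P := prod.lift (gmul (v ≫ ζ) (ginv u)) v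
  have hp : p ≫ ψ = u := by
    simp only [ψ, comp_gmul, comp_ginv, p, prod.lift_fst, prod.lift_snd_assoc]
    exact cancel_id _ _
  have hpO : ptOfHom p ∈ Points.map ψ ⁻¹' W := by
    show Points.map ψ (ptOfHom p) ∈ W
    rw [map_ptOfHom, hp]
    exact hw
  obtain ⟨y, hy⟩ := has (Points.map prod.fst (ptOfHom p))
  obtain ⟨s, rfl⟩ := (Points.schemeHomeo U₀).surjective y
  obtain ⟨V, hV, hsV, -⟩ := U₀.left.isBasis_affineOpens.exists_subset_of_mem_open (Set.mem_univ s) isOpen_univ
  obtain ⟨V, hVaff, rfl⟩ := hV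
  let A : Type u := Γ(U₀.left, V)
  obtain ⟨φ, hφ⟩ := Spec.map_surjective (hVaff.fromSpec ≫ U₀.hom)
  letI : Algebra k A := φ.hom.toAlgebra
  let b₁ : FieldDescent.oA k A ⟶ U₀ := Over.homMk hVaff.fromSpec hφ.symm
  let b : (yon Bk).obj (FieldDescent.oA k A) ⟶ G.left := (yon Bk).map b₁ ≫ a₀
  obtain ⟨t, ht⟩ : s ∈ Set.range hVaff.fromSpec := by
    rw [hVaff.range_fromSpec]; exact hsV
  obtain ⟨L', _, w', v', c', he, -, hc'⟩ := exists_of_map_eq (f := b) (g := (prod.fst : P ⟶ G.left))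
    (x := Points.schemeHomeo (FieldDescent.oA k A) t) (y := ptOfHom p) (by
      rw [Points.map_comp, Points.map_yon_map_apply, ← hy]
      show Points.map a₀ (Points.schemeHomeo U₀ (hVaff.fromSpec t)) = _
      rw [ht])
  obtain ⟨φ', rfl⟩ := Spec.map_surjective w'
  letI : Algebra k L' := φ'.hom.toAlgebra
  obtain ⟨α₀, hα₀⟩ := exists_algHom (A := A) (B := L') v'
  obtain ⟨β, hβ⟩ := exists_algHom (A := Ω) (B := L') (c' ≫ prod.snd)
  let γ' : (yon Bk).obj (FieldDescent.oA k (A ⊗[k] Ω)) ⟶ P :=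
    prod.lift ((yon Bk).map (FieldDescent.oMap includeLeft) ≫ b) ((yon Bk).map (FieldDescent.oMap includeRight))
  have hc : c' = (yon Bk).map (FieldDescent.oMap (productMap α₀ β)) ≫ γ' := by
    refine prod.hom_ext ?_ ?_
    · rw [← he, Category.assoc, prod.lift_fst, ← Functor.map_comp_assoc, FieldDescent.oMap_comp,
        productMap_left, hα₀]
    · rw [hβ, Category.assoc, prod.lift_snd, ← Functor.map_comp, FieldDescent.oMap_comp, productMap_right]
  let O : (FieldDescent.oA k (A ⊗[k] Ω)).left.Opens :=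
    ⟨Points.ofPt γ' ⁻¹' (Points.map ψ ⁻¹' W), hO.preimage (Points.continuous_ofPt γ')⟩
  have hq : (FieldDescent.oMap (productMap α₀ β)).left (IsLocalRing.closedPoint L') ∈ O := by
    show Points.ofPt γ' _ ∈ Points.map ψ ⁻¹' W
    rw [← ptOfHom_yon_map, ← hc]
    exact hc' ▸ hpO
  obtain ⟨_, ⟨g, rfl⟩, hqg, hgO⟩ :=
    PrimeSpectrum.isTopologicalBasis_basic_opens.exists_subset_of_mem_open hq O.2
  have hg : ¬ IsNilpotent g := fun ⟨n, hn⟩ => by
    refine hqg (Ideal.IsPrime.mem_of_pow_mem inferInstance n ?_)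
    rw [hn]
    exact zero_mem _
  obtain ⟨α, hα⟩ := GroupRich.exists_point' K A Ω ι₀ (hK ⟨V, hVaff⟩) g hg
  let m : A ⊗[k] Ω →ₐ[k] Ω := productMap (ι₀.comp α) (AlgHom.id k Ω)
  have hm : (FieldDescent.oMap m).left (IsLocalRing.closedPoint Ω) ∈ O := by
    refine hgO ?_
    show g ∉ Ideal.comap m.toRingHom (IsLocalRing.maximalIdeal Ω)
    rw [Ideal.mem_comap, IsLocalRing.maximalIdeal_eq_bot]
    exact hα
  refine ⟨(yon Bk).map (FieldDescent.oMap α) ≫ b, ?_⟩
  have h1 : (yon Bk).map (FieldDescent.oMap m) ≫ γ' ≫ ψ = gmul (ginv ((yon Bk).map (FieldDescent.oMap ι₀) ≫ (yon Bk).map (FieldDescent.oMap α) ≫ b)) ζ := by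
    simp only [ψ, comp_gmul, comp_ginv]
    congr 2
    · rw [prod.lift_fst, ← Functor.map_comp_assoc, FieldDescent.oMap_comp, productMap_left, ← FieldDescent.oMap_comp,
        Functor.map_comp_assoc]
    · rw [prod.lift_snd_assoc, ← Category.assoc, ← Functor.map_comp, FieldDescent.oMap_comp, productMap_right, FieldDescent.oMap_id,
        CategoryTheory.Functor.map_id, Category.id_comp]
  rw [← h1, ← Category.assoc, ← map_ptOfHom, ptOfHom_yon_map]
  exact hm

/-- a separated group space becomes a scheme over some field extension -/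
theorem exists_extension_rep (hG : IsAlgSpace G.left) (hqs : IsQuasiSeparatedSp G.left) :
    ∃ (K : Type u) (_ : Field K) (_ : Algebra k K),
      (G.left ⨯ (yon Bk).obj (FieldDescent.oA k K)).obj.IsRepresentable := by
  obtain ⟨U₀, a₀, -, has₀⟩ := hG.atlas
  have has : Function.Surjective (Points.map a₀) := surjective_map_of_repWith has₀
  obtain ⟨G₀, j, hj, hdense, -⟩ := exists_dense_scheme hG (isDecent_of_qsep hG hqs)
  let K := largeField U₀
  let Z₀ : Sp Bk := (yon Bk).obj (FieldDescent.oA k K)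
  have hW : IsOpen (Set.range (Points.map j)) := by
    rw [show Set.range (Points.map j) = Points.ofPt j '' Set.univ by
      rw [Set.image_univ]; ext x; constructor
      · rintro ⟨z, rfl⟩
        obtain ⟨w, rfl⟩ := (Points.schemeEquiv _).surjective z
        exact ⟨w, Points.ofPt_eq_map_ofScheme _ _⟩
      · rintro ⟨w, rfl⟩; exact ⟨_, (Points.ofPt_eq_map_ofScheme _ _).symm⟩]
    exact isOpenMap_ofPt j (RepWith.mono (fun _ _ f (_ : IsOpenImmersion f) => (inferInstance : Etale f)) hj)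
      _ isOpen_univ
  haveI : Nonempty (Points G.left) :=
    ⟨ptOfHom (gone G ((yon Bk).obj (FieldDescent.oA k k)))⟩
  have hne : (Set.range (Points.map j)).Nonempty := hdense.nonempty
  let Y : Over Bk := U₀ ⨯ FieldDescent.oA k K
  let cY : (yon Bk).obj Y ⟶ G.left ⨯ Z₀ :=
    prodComparison (yon Bk) U₀ (FieldDescent.oA k K) ≫ prod.map a₀ (𝟙 Z₀)
  have hcY : Function.Surjective (Points.map cY) := fun z => by
    obtain ⟨y, hy⟩ := surjective_map_of_isPullback (isPullback_prod_map_id (Z := Z₀) a₀) has z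
    refine ⟨Points.map (inv (prodComparison (yon Bk) U₀ (FieldDescent.oA k K))) y, ?_⟩
    rw [← Points.map_comp]
    simp only [cY, IsIso.inv_hom_id_assoc]
    exact hy
  have hkey : ∀ y : ↥Y.left, ∃ a : Z₀ ⟶ G.left, Points.map cY (Points.schemeHomeo Y y) ∈
      Set.range (Points.map (prod.map j (𝟙 Z₀) ≫ (transIso a).hom)) := fun y => by
    obtain ⟨Ω, _, _, c, hc⟩ := exists_oA_point (Points.map cY (Points.schemeHomeo Y y))
    obtain ⟨ι₀, hι⟩ := exists_algHom (A := K) (B := Ω) (c ≫ prod.snd)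
    obtain ⟨a, x, hx⟩ := exists_translate hG a₀ has _ hW hne K (card_lt U₀) Ω ι₀ (c ≫ prod.fst)
    refine ⟨a, ?_⟩
    have hfst : (c ≫ (transIso a).inv) ≫ prod.fst = gmul (ginv ((yon Bk).map (FieldDescent.oMap ι₀) ≫ a)) (c ≫ prod.fst) := by
      show (c ≫ transHom (ginv a)) ≫ prod.fst = _
      rw [Category.assoc, transHom, prod.lift_fst, comp_gmul, comp_ginv, comp_ginv, ← Category.assoc, hι]
    obtain ⟨z, -, hz⟩ := exists_point_of_isPullback (isPullback_prod_map_id (Z := Z₀) j)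
      (x := x) (y := ptOfHom (c ≫ (transIso a).inv)) (by rw [map_ptOfHom, hfst]; exact hx)
    refine ⟨z, ?_⟩
    rw [Points.map_comp, hz, map_ptOfHom, Category.assoc, Iso.inv_hom_id, Category.comp_id, hc]
  choose a ha using hkey
  obtain ⟨H, ⟨eH⟩⟩ := exists_iso_yon_of_openCover
    (f := fun y : ↥Y.left => prodComparison (yon Bk) G₀ (FieldDescent.oA k K) ≫ prod.map j (𝟙 Z₀) ≫ (transIso (a y)).hom)
    (fun y => RepWith.comp (repWith_of_isIso (P := @IsOpenImmersion) _)
      (RepWith.comp (RepWith.baseChange (isPullback_prod_map_id (Z := Z₀) j) hj)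
        (repWith_of_isIso (P := @IsOpenImmersion) _))) fun z => by
      obtain ⟨y, rfl⟩ := hcY z
      obtain ⟨y, rfl⟩ := (Points.schemeHomeo Y).surjective y
      obtain ⟨w, hw⟩ := ha y
      refine ⟨y, Points.map (inv (prodComparison (yon Bk) G₀ (FieldDescent.oA k K))) w, ?_⟩
      rw [← Points.map_comp, IsIso.inv_hom_id_assoc]
      exact hw
  exact ⟨K, inferInstance, inferInstance, isRepresentable_of_iso_yon (F := G.left ⨯ Z₀) eH⟩

end Groth.Agent.AlgSpLib.GroupTranslate
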