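import Groth.Agent.AlgSpLib.PointsCompact
import Groth.Agent.AlgSpLib.QuotSpLemmas
import Groth.Agent.AlgSpLib.MorQC
import Groth.Agent.AlgSpLib.MorMore
import Mathlib.CategoryTheory.Monoidal.Cartesian.Grp

/-!
Formal lemmas on groupoids and group objects in algebraic spaces: translations, restrictions, invariant opens, unit sections.
-/

universe u

open CategoryTheory CategoryTheory.Limits AlgebraicGeometry Opposite MonoidalCategory CartesianMonoidalCategory MonObj
open AlgSp

noncomputable section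

namespace Groth.Agent.AlgSpLib

set_option backward.isDefEq.respectTransparency.types false

variable {S : Scheme.{u}} {B : Sp S} (G : GroupoidSp B)

/-- composition of composable `T`-points -/
def cmp {T : Sp S} (α β : T ⟶ G.R) (h : α ≫ G.s = β ≫ G.t) : T ⟶ G.R :=
  pullback.lift α β h ≫ G.c

theorem cmp_congr {T : Sp S} {α α' β β' : T ⟶ G.R} {h : α ≫ G.s = β ≫ G.t} (h' : α' ≫ G.s = β' ≫ G.t)
    (e₁ : α = α') (e₂ : β = β') : cmp G α β h = cmp G α' β' h' := by
  subst e₁ e₂; rfl

theorem comp_cmp {T T' : Sp S} (k : T' ⟶ T) (α β : T ⟶ G.R) (h : α ≫ G.s = β ≫ G.t) :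
    k ≫ cmp G α β h = cmp G (k ≫ α) (k ≫ β) (by rw [Category.assoc, Category.assoc, h]) := by
  rw [cmp, cmp, ← Category.assoc]
  congr 1
  apply pullback.hom_ext
  · rw [Category.assoc, pullback.lift_fst, pullback.lift_fst]
  · rw [Category.assoc, pullback.lift_snd, pullback.lift_snd]

theorem cmp_s {T : Sp S} (α β : T ⟶ G.R) (h : α ≫ G.s = β ≫ G.t) : cmp G α β h ≫ G.s = β ≫ G.s :=
  G.comp_s α β h

theorem cmp_t {T : Sp S} (α β : T ⟶ G.R) (h : α ≫ G.s = β ≫ G.t) : cmp G α β h ≫ G.t = α ≫ G.t :=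
  G.comp_t α β h

theorem cmp_assoc {T : Sp S} (α β γ : T ⟶ G.R) (h₁ : α ≫ G.s = β ≫ G.t) (h₂ : β ≫ G.s = γ ≫ G.t) :
    cmp G (cmp G α β h₁) γ ((cmp_s G α β h₁).trans h₂) =
      cmp G α (cmp G β γ h₂) (h₁.trans (cmp_t G β γ h₂).symm) :=
  G.assoc α β γ h₁ h₂

theorem e_comp' {T : Sp S} {x : T ⟶ G.R} (α : T ⟶ G.R) (hx : x = α ≫ G.t ≫ G.e)
    (h : x ≫ G.s = α ≫ G.t) : cmp G x α h = α := by
  subst hx; exact G.e_comp α

theorem comp_e' {T : Sp S} {x : T ⟶ G.R} (α : T ⟶ G.R) (hx : x = α ≫ G.s ≫ G.e)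
    (h : α ≫ G.s = x ≫ G.t) : cmp G α x h = α := by
  subst hx; exact G.comp_e α

theorem inv_s {T : Sp S} (α : T ⟶ G.R) : (α ≫ G.i) ≫ G.s = α ≫ G.t := by rw [Category.assoc, G.i_s]

theorem inv_t {T : Sp S} (α : T ⟶ G.R) : (α ≫ G.i) ≫ G.t = α ≫ G.s := by rw [Category.assoc, G.i_t]

theorem cmp_inv_cancel_right {T : Sp S} (g γ : T ⟶ G.R) (h : g ≫ G.s = γ ≫ G.t) :
    cmp G (cmp G g γ h) (γ ≫ G.i) ((cmp_s G g γ h).trans (inv_t G γ).symm) = g := by
  rw [cmp_assoc G g γ (γ ≫ G.i) h (inv_t G γ).symm]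
  refine comp_e' G g ?_ _
  rw [reassoc_of% h]
  exact G.comp_i γ

theorem cmp_inv_cancel_right' {T : Sp S} (g γ : T ⟶ G.R) (h : g ≫ G.s = γ ≫ G.s) :
    cmp G (cmp G g (γ ≫ G.i) (h.trans (inv_t G γ).symm)) γ ((cmp_s G _ _ _).trans (inv_s G γ)) = g := by
  rw [cmp_assoc G g (γ ≫ G.i) γ _ (inv_s G γ)]
  refine comp_e' G g ?_ _
  rw [reassoc_of% h]
  exact G.i_comp γ

/-- composition with an arrow identifies the fibres of `s` over its ends -/
def fibreIso {T : Sp S} (γ : T ⟶ G.R) :
    Over.mk (pullback.fst (γ ≫ G.t) G.s) ≅ Over.mk (pullback.fst (γ ≫ G.s) G.s) where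
  hom := Over.homMk (pullback.lift (pullback.fst _ _)
    (cmp G (pullback.snd (γ ≫ G.t) G.s) (pullback.fst (γ ≫ G.t) G.s ≫ γ)
      (by rw [Category.assoc, ← pullback.condition]))
    (by rw [cmp_s, Category.assoc])) (pullback.lift_fst _ _ _)
  inv := Over.homMk (pullback.lift (pullback.fst _ _)
    (cmp G (pullback.snd (γ ≫ G.s) G.s) ((pullback.fst (γ ≫ G.s) G.s ≫ γ) ≫ G.i)
      (by rw [inv_t, Category.assoc, ← pullback.condition]))
    (by rw [cmp_s, inv_s, Category.assoc])) (pullback.lift_fst _ _ _)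
  hom_inv_id := by
    ext1
    simp only [Over.comp_left, Over.homMk_left, Over.id_left, Over.mk_left]
    apply pullback.hom_ext
    · rw [Category.assoc, pullback.lift_fst, pullback.lift_fst, Category.id_comp]
    · rw [Category.assoc, pullback.lift_snd, comp_cmp, Category.id_comp]
      refine (cmp_congr G ?_ (pullback.lift_snd _ _ _) (by rw [← Category.assoc, ← Category.assoc, pullback.lift_fst])).trans
        (cmp_inv_cancel_right G (pullback.snd (γ ≫ G.t) G.s) (pullback.fst (γ ≫ G.t) G.s ≫ γ)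
          (by rw [Category.assoc, ← pullback.condition]))
      rw [cmp_s, inv_t]
  inv_hom_id := by
    ext1
    simp only [Over.comp_left, Over.homMk_left, Over.id_left, Over.mk_left]
    apply pullback.hom_ext
    · rw [Category.assoc, pullback.lift_fst, pullback.lift_fst, Category.id_comp]
    · rw [Category.assoc, pullback.lift_snd, comp_cmp, Category.id_comp]
      refine (cmp_congr G ?_ (pullback.lift_snd _ _ _) (by rw [← Category.assoc, pullback.lift_fst])).trans
        (cmp_inv_cancel_right' G (pullback.snd (γ ≫ G.s) G.s) (pullback.fst (γ ≫ G.s) G.s ≫ γ)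
          (by rw [Category.assoc, ← pullback.condition]))
      rw [cmp_s, inv_s]

theorem nonempty_fibre_iso {T : Sp S} (r r' : T ⟶ G.R) (h : r ≫ G.t = r' ≫ G.t) :
    Nonempty (Over.mk (pullback.fst (r ≫ G.s) G.s) ≅ Over.mk (pullback.fst (r' ≫ G.s) G.s)) := by
  let γ := cmp G (r ≫ G.i) r' ((inv_s G r).trans h)
  have ht : γ ≫ G.t = r ≫ G.s := (cmp_t G _ _ _).trans (inv_t G r)
  have hs : γ ≫ G.s = r' ≫ G.s := cmp_s G _ _ _
  have key : ∀ p q : T ⟶ G.U, γ ≫ G.t = p → γ ≫ G.s = q →
      Nonempty (Over.mk (pullback.fst p G.s) ≅ Over.mk (pullback.fst q G.s)) := by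
    rintro _ _ rfl rfl; exact ⟨fibreIso G γ⟩
  exact key _ _ ht hs

/-- translation by a section of `s` whose target is invertible -/
theorem isIso_translation (a : G.U ⟶ G.R) (ha : a ≫ G.s = 𝟙 G.U) [IsIso (a ≫ G.t)]
    (h : (G.t ≫ a) ≫ G.s = 𝟙 G.R ≫ G.t) :
    IsIso (cmp G (G.t ≫ a) (𝟙 G.R) h) ∧ G.e ≫ cmp G (G.t ≫ a) (𝟙 G.R) h = a := by
  constructor
  · let b : G.U ⟶ G.R := (inv (a ≫ G.t) ≫ a) ≫ G.i
    have hbs : b ≫ G.s = 𝟙 _ := by rw [inv_s, Category.assoc, IsIso.inv_hom_id]
    have hbt : b ≫ G.t = inv (a ≫ G.t) := by rw [inv_t, Category.assoc, ha, Category.comp_id]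
    have hb' : (G.t ≫ b) ≫ G.s = 𝟙 G.R ≫ G.t := by rw [Category.assoc, hbs, Category.comp_id, Category.id_comp]
    refine ⟨cmp G (G.t ≫ b) (𝟙 G.R) hb', ?_, ?_⟩
    · have ct : cmp G (G.t ≫ a) (𝟙 G.R) h ≫ G.t ≫ b = G.t ≫ a ≫ G.i := by
        rw [← Category.assoc, cmp_t, Category.assoc, Category.assoc]
        congr 1
        simp only [b, ← Category.assoc, IsIso.hom_inv_id, Category.id_comp]
      rw [comp_cmp]
      have h2 : (G.t ≫ a ≫ G.i) ≫ G.s = (G.t ≫ a) ≫ G.t := by simp only [Category.assoc, G.i_s]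
      refine (cmp_congr G (h2.trans (cmp_t G _ _ h).symm) ct (Category.comp_id _)).trans ?_
      rw [← cmp_assoc G (G.t ≫ a ≫ G.i) (G.t ≫ a) (𝟙 G.R) h2 h]
      refine e_comp' G _ ?_ _
      rw [Category.id_comp]
      refine (cmp_congr G (inv_s G (G.t ≫ a)) (Category.assoc _ _ _).symm rfl).trans ?_
      refine (G.i_comp (G.t ≫ a)).trans ?_
      rw [Category.assoc, ← Category.assoc a, ha, Category.id_comp]
    · have ct : cmp G (G.t ≫ b) (𝟙 G.R) hb' ≫ G.t ≫ a = G.t ≫ inv (a ≫ G.t) ≫ a := by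
        rw [← Category.assoc, cmp_t, Category.assoc, Category.assoc, ← Category.assoc b, hbt]
      rw [comp_cmp]
      have h2 : (G.t ≫ inv (a ≫ G.t) ≫ a) ≫ G.s = (G.t ≫ b) ≫ G.t := by
        simp only [Category.assoc, ha, hbt, Category.comp_id]
      refine (cmp_congr G (h2.trans (cmp_t G _ _ hb').symm) ct (Category.comp_id _)).trans ?_
      rw [← cmp_assoc G (G.t ≫ inv (a ≫ G.t) ≫ a) (G.t ≫ b) (𝟙 G.R) h2 hb']
      refine e_comp' G _ ?_ _
      rw [Category.id_comp]
      refine (cmp_congr G (inv_t G (G.t ≫ inv (a ≫ G.t) ≫ a)).symm rfl ?_).trans ?_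
      · simp only [b, Category.assoc]
      refine (G.comp_i _).trans ?_
      simp only [Category.assoc]
      rw [← Category.assoc a, IsIso.inv_hom_id_assoc]
  · rw [comp_cmp]
    have he : a ≫ G.s = G.e ≫ G.t := ha.trans G.e_t.symm
    refine (cmp_congr G he (by rw [← Category.assoc, G.e_t, Category.id_comp]) (Category.comp_id _)).trans ?_
    exact comp_e' G a (by rw [← Category.assoc, ha, Category.id_comp]) _

section restriction

variable {G} {G' : GroupoidSp B} {φ : GroupoidSp.Hom G' G}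

theorem restriction_hom_ext (hφ : φ.IsRestriction) {T : Sp S} {x y : T ⟶ G'.R}
    (h1 : x ≫ φ.fR = y ≫ φ.fR) (h2 : x ≫ G'.t = y ≫ G'.t) (h3 : x ≫ G'.s = y ≫ G'.s) : x = y := by
  refine hφ.hom_ext h1 ?_
  apply pullback.hom_ext
  · rw [Category.assoc, Category.assoc, G'.j_fst, h2]
  · rw [Category.assoc, Category.assoc, G'.j_snd, h3]

theorem exists_restriction_lift (hφ : φ.IsRestriction) {T : Sp S} (a b : T ⟶ G'.U) (r : T ⟶ G.R)
    (h1 : r ≫ G.t = a ≫ φ.fU) (h2 : r ≫ G.s = b ≫ φ.fU) :
    ∃ r' : T ⟶ G'.R, r' ≫ φ.fR = r ∧ r' ≫ G'.t = a ∧ r' ≫ G'.s = b := by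
  have e1 : φ.prodMap ≫ pullback.fst G.pU G.pU = pullback.fst G'.pU G'.pU ≫ φ.fU :=
    pullback.lift_fst _ _ _
  have e2 : φ.prodMap ≫ pullback.snd G.pU G.pU = pullback.snd G'.pU G'.pU ≫ φ.fU :=
    pullback.lift_snd _ _ _
  have hab : a ≫ G'.pU = b ≫ G'.pU := by
    rw [← φ.fU_over, ← Category.assoc, ← h1, ← Category.assoc, ← h2, Category.assoc, Category.assoc,
      G.t_over, G.s_over]
  have hr : r ≫ G.j = pullback.lift a b hab ≫ φ.prodMap := by
    apply pullback.hom_ext
    · rw [Category.assoc, G.j_fst, Category.assoc, e1, pullback.lift_fst_assoc, h1]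
    · rw [Category.assoc, G.j_snd, Category.assoc, e2, pullback.lift_snd_assoc, h2]
  let r' := hφ.lift r (pullback.lift a b hab) hr
  have hr' : r' ≫ G'.j = pullback.lift a b hab := hφ.lift_snd _ _ _
  exact ⟨r', hφ.lift_fst _ _ _, by rw [← G'.j_fst, ← Category.assoc, hr', pullback.lift_fst],
    by rw [← G'.j_snd, ← Category.assoc, hr', pullback.lift_snd]⟩

theorem locP_restriction {P : MorphismProperty Scheme.{u}} (hP : EtLocal P) (hU : IsAlgSpace G.U)
    (hR : IsAlgSpace G.R) (hU' : IsAlgSpace G'.U) (hR' : IsAlgSpace G'.R) (hφ : φ.IsRestriction)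
    (hs : LocP P G.s) (ht : LocP P G.t) (hg : LocP P φ.fU) : LocP P G'.s ∧ LocP P G'.t := by
  constructor
  · have sq := IsPullback.of_hasPullback G.s φ.fU
    have hP1 := isAlgSpace_of_isPullback hU.diag hR hU' sq
    let ρ : G'.R ⟶ pullback G.s φ.fU := pullback.lift φ.fR G'.s φ.comm_s
    have hρ1 : ρ ≫ pullback.fst G.s φ.fU = φ.fR := pullback.lift_fst _ _ _
    have hρ2 : ρ ≫ pullback.snd G.s φ.fU = G'.s := pullback.lift_snd _ _ _
    have w : G'.t ≫ φ.fU = ρ ≫ pullback.fst G.s φ.fU ≫ G.t := by rw [reassoc_of% hρ1, φ.comm_t]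
    have key : ∀ z : PullbackCone φ.fU (pullback.fst G.s φ.fU ≫ G.t),
        ∃ m : z.pt ⟶ G'.R, m ≫ G'.t = z.fst ∧ m ≫ ρ = z.snd := fun z => by
      obtain ⟨m, m1, m2, m3⟩ := exists_restriction_lift hφ z.fst (z.snd ≫ pullback.snd G.s φ.fU)
        (z.snd ≫ pullback.fst G.s φ.fU) (by rw [Category.assoc]; exact z.condition.symm)
        (by rw [Category.assoc, Category.assoc, pullback.condition])
      refine ⟨m, m2, ?_⟩
      apply pullback.hom_ext
      · rw [Category.assoc, hρ1, m1]
      · rw [Category.assoc, hρ2, m3]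
    have sq2 : IsPullback G'.t ρ φ.fU (pullback.fst G.s φ.fU ≫ G.t) :=
      ⟨⟨w⟩, ⟨PullbackCone.IsLimit.mk _ (fun z => (key z).choose) (fun z => (key z).choose_spec.1)
        (fun z => (key z).choose_spec.2) (fun z m h1 h2 => restriction_hom_ext hφ
          (by rw [← hρ1, ← Category.assoc, h2, ← Category.assoc, (key z).choose_spec.2])
          (h1.trans (key z).choose_spec.1.symm)
          (by rw [← hρ2, ← Category.assoc, h2, ← Category.assoc, (key z).choose_spec.2]))⟩⟩
    rw [← hρ2]
    exact locP_comp hP hR' hP1 hU' (locP_of_isPullback hP hU' hU hR' sq2 hg)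
      (locP_of_isPullback hP hR hU hP1 sq hs)
  · have sq := IsPullback.of_hasPullback G.t φ.fU
    have hP1 := isAlgSpace_of_isPullback hU.diag hR hU' sq
    let ρ : G'.R ⟶ pullback G.t φ.fU := pullback.lift φ.fR G'.t φ.comm_t
    have hρ1 : ρ ≫ pullback.fst G.t φ.fU = φ.fR := pullback.lift_fst _ _ _
    have hρ2 : ρ ≫ pullback.snd G.t φ.fU = G'.t := pullback.lift_snd _ _ _
    have w : G'.s ≫ φ.fU = ρ ≫ pullback.fst G.t φ.fU ≫ G.s := by rw [reassoc_of% hρ1, φ.comm_s]
    have key : ∀ z : PullbackCone φ.fU (pullback.fst G.t φ.fU ≫ G.s),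
        ∃ m : z.pt ⟶ G'.R, m ≫ G'.s = z.fst ∧ m ≫ ρ = z.snd := fun z => by
      obtain ⟨m, m1, m2, m3⟩ := exists_restriction_lift hφ (z.snd ≫ pullback.snd G.t φ.fU) z.fst
        (z.snd ≫ pullback.fst G.t φ.fU) (by rw [Category.assoc, Category.assoc, pullback.condition])
        (by rw [Category.assoc]; exact z.condition.symm)
      refine ⟨m, m3, ?_⟩
      apply pullback.hom_ext
      · rw [Category.assoc, hρ1, m1]
      · rw [Category.assoc, hρ2, m2]
    have sq2 : IsPullback G'.s ρ φ.fU (pullback.fst G.t φ.fU ≫ G.s) :=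
      ⟨⟨w⟩, ⟨PullbackCone.IsLimit.mk _ (fun z => (key z).choose) (fun z => (key z).choose_spec.1)
        (fun z => (key z).choose_spec.2) (fun z m h1 h2 => restriction_hom_ext hφ
          (by rw [← hρ1, ← Category.assoc, h2, ← Category.assoc, (key z).choose_spec.2])
          (by rw [← hρ2, ← Category.assoc, h2, ← Category.assoc, (key z).choose_spec.2])
          (h1.trans (key z).choose_spec.1.symm))⟩⟩
    rw [← hρ2]
    exact locP_comp hP hR' hP1 hU' (locP_of_isPullback hP hU' hU hR' sq2 hg)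
      (locP_of_isPullback hP hR hU hP1 sq ht)

end restriction

theorem map_c_s (z : Points (pullback G.s G.t)) :
    Points.map G.s (Points.map G.c z) = Points.map G.s (Points.map (pullback.snd G.s G.t) z) := by
  have := G.comp_s (pullback.fst G.s G.t) (pullback.snd G.s G.t) pullback.condition
  rw [show pullback.lift (pullback.fst G.s G.t) (pullback.snd G.s G.t) pullback.condition = 𝟙 _ by
    apply pullback.hom_ext <;> simp, Category.id_comp] at this
  rw [← Points.map_comp, ← Points.map_comp, this]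

theorem map_c_t (z : Points (pullback G.s G.t)) :
    Points.map G.t (Points.map G.c z) = Points.map G.t (Points.map (pullback.fst G.s G.t) z) := by
  have := G.comp_t (pullback.fst G.s G.t) (pullback.snd G.s G.t) pullback.condition
  rw [show pullback.lift (pullback.fst G.s G.t) (pullback.snd G.s G.t) pullback.condition = 𝟙 _ by
    apply pullback.hom_ext <;> simp, Category.id_comp] at this
  rw [← Points.map_comp, ← Points.map_comp, this]

theorem isInvariant_of_points {W : Sp S} {w : W ⟶ G.U} (hw : RepWith @IsOpenImmersion w)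
    (h : ∀ z, Points.map G.t z ∈ Set.range (Points.map w) ↔ Points.map G.s z ∈ Set.range (Points.map w)) :
    G.IsInvariant w := fun T r => by
  rw [exists_lift_iff_range_subset hw, exists_lift_iff_range_subset hw]
  constructor <;> rintro H _ ⟨x, rfl⟩ <;> have := H ⟨x, rfl⟩ <;> rw [Points.map_comp] at this ⊢
  · exact (h _).1 this
  · exact (h _).2 this

/-- `s(t⁻¹(A))` is stable under the groupoid -/
theorem saturation_invariant (A : Set (Points G.U)) (z : Points G.R) :
    Points.map G.t z ∈ Points.map G.s '' (Points.map G.t ⁻¹' A) ↔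
      Points.map G.s z ∈ Points.map G.s '' (Points.map G.t ⁻¹' A) := by
  have key : ∀ z : Points G.R, Points.map G.t z ∈ Points.map G.s '' (Points.map G.t ⁻¹' A) →
      Points.map G.s z ∈ Points.map G.s '' (Points.map G.t ⁻¹' A) := by
    rintro z ⟨q, hq, e⟩
    obtain ⟨p, rfl, rfl⟩ := exists_point_of_isPullback (IsPullback.of_hasPullback G.s G.t) e
    refine ⟨Points.map G.c p, ?_, map_c_s G p⟩
    show Points.map G.t (Points.map G.c p) ∈ A
    rw [map_c_t]
    exact hq
  refine ⟨key z, fun h => ?_⟩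
  have := key (Points.map G.i z) (by rwa [← Points.map_comp, G.i_t])
  rwa [← Points.map_comp, G.i_s] at this

theorem exists_invariant_qc_nhd (hU : IsAlgSpace G.U) (hso : IsOpenMor G.s)
    (htq : IsQuasiCompactMor G.t) (x : Points G.U) :
    ∃ (W : Sp S) (w : W ⟶ G.U), RepWith @IsOpenImmersion w ∧ G.IsInvariant w ∧
      IsQuasiCompactSp W ∧ x ∈ Set.range (Points.map w) := by
  obtain ⟨V, hVo, hVc, hxV, -⟩ := exists_isOpen_isCompact_nhd hU isOpen_univ (Set.mem_univ x)
  let A : Set (Points G.U) := Points.map G.s '' (Points.map G.t ⁻¹' V)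
  have hAo : IsOpen A := hso _ (hVo.preimage (Points.continuous_map _))
  have hw := repWith_openSubspaceι G.U hAo
  have hrange := range_openSubspaceι G.U A
  -- compactness of the inverse image of `V`
  have hVsp := isAlgSpace_openSubspace hU hVo
  have hVemb := isEmbedding_map_of_immersion hU (RepWith.mono (fun _ _ g (_ : IsOpenImmersion g) =>
    (inferInstance : IsImmersion g)) (repWith_openSubspaceι G.U hVo))
  have : CompactSpace (Points (openSubspace G.U V)) := by
    rw [← isCompact_univ_iff, hVemb.1.isCompact_iff, Set.image_univ, range_openSubspaceι]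
    exact hVc
  have sq := IsPullback.of_hasPullback G.t (openSubspaceι G.U V)
  have : CompactSpace (Points (pullback G.t (openSubspaceι G.U V))) :=
    compactSpace_points_of_isQuasiCompactSp
      (htq hVsp ((isQuasiCompactSp_iff_compactSpace hVsp).2 this) _ _ _ sq)
  have hAc : IsCompact A := by
    have e : A = Set.range (Points.map (pullback.fst G.t (openSubspaceι G.U V) ≫ G.s)) := by
      ext y
      constructor
      · rintro ⟨q, hq, rfl⟩
        obtain ⟨v, hv⟩ : Points.map G.t q ∈ Set.range (Points.map (openSubspaceι G.U V)) := by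
          rw [range_openSubspaceι]; exact hq
        obtain ⟨p, rfl, -⟩ := exists_point_of_isPullback sq hv.symm
        exact ⟨p, Points.map_comp _ _ _⟩
      · rintro ⟨p, rfl⟩
        refine ⟨Points.map (pullback.fst G.t (openSubspaceι G.U V)) p, ?_, (Points.map_comp _ _ _).symm⟩
        show Points.map G.t _ ∈ V
        rw [← Points.map_comp, pullback.condition, Points.map_comp]
        exact (range_openSubspaceι G.U V).subset ⟨_, rfl⟩
    rw [e]
    exact isCompact_range (Points.continuous_map _)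
  have hAemb := isEmbedding_map_of_immersion hU (RepWith.mono (fun _ _ g (_ : IsOpenImmersion g) =>
    (inferInstance : IsImmersion g)) hw)
  refine ⟨openSubspace G.U A, openSubspaceι G.U A, hw, isInvariant_of_points G hw fun z => ?_, ?_, ?_⟩
  · rw [hrange]; exact saturation_invariant G V z
  · refine (isQuasiCompactSp_iff_compactSpace (isAlgSpace_openSubspace hU hAo)).2 ?_
    rw [← isCompact_univ_iff, hAemb.1.isCompact_iff, Set.image_univ, hrange]
    exact hAc
  · rw [hrange]
    refine ⟨Points.map G.e x, ?_, ?_⟩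
    · show Points.map G.t _ ∈ V
      rw [← Points.map_comp, G.e_t, Points.map_id]
      exact hxV
    · rw [← Points.map_comp, G.e_s, Points.map_id]

section grp

variable (H : Over B) [GrpObj H]

theorem unit_left_comp : (η[H] : 𝟙_ (Over B) ⟶ H).left ≫ H.hom = 𝟙 B := Over.w η[H]

/-- the unit section as a base change of the diagonal -/
theorem isPullback_unit_diagonal :
    IsPullback (η[H] : 𝟙_ (Over B) ⟶ H).left (η[H] : 𝟙_ (Over B) ⟶ H).left
      (pullback.diagonal H.hom)
      (pullback.lift (𝟙 H.left) (H.hom ≫ (η[H] : 𝟙_ (Over B) ⟶ H).left)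
        (by erw [Category.assoc, unit_left_comp, Category.comp_id, Category.id_comp])) := by
  have he : ∀ {T : Sp S} (x : T ⟶ B),
      (x ≫ (η[H] : 𝟙_ (Over B) ⟶ H).left) ≫ H.hom = x := fun x => by
    erw [Category.assoc, unit_left_comp, Category.comp_id]
  have key : ∀ z : PullbackCone (pullback.diagonal H.hom)
      (pullback.lift (𝟙 H.left) (H.hom ≫ (η[H] : 𝟙_ (Over B) ⟶ H).left)
        (by erw [Category.assoc, unit_left_comp, Category.comp_id, Category.id_comp])),
      z.fst = z.snd ∧ z.fst = (z.snd ≫ H.hom) ≫ (η[H] : 𝟙_ (Over B) ⟶ H).left := fun z => by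
    have h0 := congrArg (· ≫ pullback.fst H.hom H.hom) z.condition
    have h0' := congrArg (· ≫ pullback.snd H.hom H.hom) z.condition
    have h : z.fst = z.snd := (((Category.assoc _ _ _).trans ((congrArg _ (pullback.diagonal_fst _)).trans
      (Category.comp_id _))).symm.trans h0).trans ((Category.assoc _ _ _).trans
        ((congrArg _ (pullback.lift_fst _ _ _)).trans (Category.comp_id _)))
    have h' : z.fst = (z.snd ≫ H.hom) ≫ (η[H] : 𝟙_ (Over B) ⟶ H).left :=
      (((Category.assoc _ _ _).trans ((congrArg _ (pullback.diagonal_snd _)).trans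
      (Category.comp_id _))).symm.trans h0').trans ((Category.assoc _ _ _).trans
        ((congrArg _ (pullback.lift_snd _ _ _)).trans (Category.assoc _ _ _).symm))
    exact ⟨h, h'⟩
  refine ⟨⟨?_⟩, ⟨PullbackCone.IsLimit.mk _ (fun z => z.snd ≫ H.hom) (fun z => (key z).2.symm)
    (fun z => (key z).2.symm.trans (key z).1) (fun z m _ h2 => ?_)⟩⟩
  · apply pullback.hom_ext
    · rw [Category.assoc, Category.assoc, pullback.diagonal_fst, pullback.lift_fst]
    · rw [Category.assoc, Category.assoc, pullback.diagonal_snd, pullback.lift_snd]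
      erw [← Category.assoc, unit_left_comp, Category.id_comp, Category.comp_id]
  · rw [← h2]
    exact (he m).symm

/-- `(a, b) ↦ a⁻¹ b` -/
def divMap : H ⊗ H ⟶ H := (fst H H)⁻¹ * snd H H

theorem comp_divMap {T : Over B} (a b : T ⟶ H) : lift a b ≫ divMap H = a⁻¹ * b := by
  rw [divMap, MonObj.comp_mul, GrpObj.comp_inv, lift_fst, lift_snd]

/-- the diagonal as a base change of the unit section -/
theorem isPullback_diagonal_unit :
    IsPullback H.hom (pullback.diagonal H.hom) (η[H] : 𝟙_ (Over B) ⟶ H).left (divMap H).left := by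
  have cond : ∀ {T : Sp S} (x : T ⟶ B) (p : T ⟶ pullback H.hom H.hom),
      x ≫ (η[H] : 𝟙_ (Over B) ⟶ H).left = p ≫ (divMap H).left →
      p ≫ pullback.fst H.hom H.hom = p ≫ pullback.snd H.hom H.hom ∧
        x = (p ≫ pullback.fst H.hom H.hom) ≫ H.hom := by
    intro T x p h
    have hx : x = (p ≫ pullback.fst H.hom H.hom) ≫ H.hom := by
      have := congrArg (· ≫ H.hom) h
      erw [Category.assoc, unit_left_comp, Category.comp_id, Category.assoc, Over.w] at this
      rw [this, Category.assoc]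
      rfl
    refine ⟨?_, hx⟩
    let a' : Over.mk x ⟶ H := Over.homMk (p ≫ pullback.fst H.hom H.hom) hx.symm
    let b' : Over.mk x ⟶ H := Over.homMk (p ≫ pullback.snd H.hom H.hom)
      (by
        show (p ≫ pullback.snd H.hom H.hom) ≫ H.hom = x
        rw [Category.assoc, ← pullback.condition, ← Category.assoc, ← hx])
    have hl : (lift a' b').left = p := by
      apply pullback.hom_ext
      · exact congrArg CommaMorphism.left (lift_fst a' b')
      · exact congrArg CommaMorphism.left (lift_snd a' b')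
    have h1 : toUnit (Over.mk x) ≫ η[H] = lift a' b' ≫ divMap H := by
      apply Over.OverMorphism.ext
      rw [Over.comp_left, Over.comp_left, hl, ← h]
      congr 1
    rw [comp_divMap, ← Hom.one_def] at h1
    have e : a' = b' := inv_mul_eq_one.1 h1.symm
    exact congrArg CommaMorphism.left e
  refine ⟨⟨?_⟩, ⟨PullbackCone.IsLimit.mk _ (fun z => z.snd ≫ pullback.fst H.hom H.hom)
    (fun z => (cond _ _ z.condition).2.symm) (fun z => ?_) (fun z m _ h2 => ?_)⟩⟩
  · let d : H ⟶ H ⊗ H := lift (𝟙 H) (𝟙 H)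
    have hd : d.left = pullback.diagonal H.hom := by
      apply pullback.hom_ext
      · rw [pullback.diagonal_fst]; exact congrArg CommaMorphism.left (lift_fst (𝟙 H) (𝟙 H))
      · rw [pullback.diagonal_snd]; exact congrArg CommaMorphism.left (lift_snd (𝟙 H) (𝟙 H))
    have h1 : toUnit H ≫ η[H] = d ≫ divMap H := by
      rw [comp_divMap, inv_mul_cancel, Hom.one_def]
    rw [← hd]
    exact congrArg CommaMorphism.left h1
  · apply pullback.hom_ext
    · rw [Category.assoc, pullback.diagonal_fst, Category.comp_id]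
    · rw [Category.assoc, pullback.diagonal_snd, Category.comp_id]
      exact (cond _ _ z.condition).1
  · rw [← h2, Category.assoc, pullback.diagonal_fst, Category.comp_id]

end grp

end Groth.Agent.AlgSpLib
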