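import Groth.Agent.S10736
import Groth.Agent.AlgSpLib.QCohEtSubColim
import Groth.Agent.AlgSpLib.SerreAffineNoeth
import Mathlib.CategoryTheory.Limits.Types.Filtered

/-!
Morphisms out of finitely presented modules commute with directed colimits on quasi-compact quasi-separated spaces.
-/

set_option autoImplicit false

universe u

open CategoryTheory CategoryTheory.Limits AlgebraicGeometry Opposite TensorProduct
open AlgSp

noncomputable section

set_option linter.style.haveILetI false

namespace Groth.Agent.AlgSpLib.HomFP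

open Groth.Agent.AlgSpLib Groth.Agent.AlgSpLib.QCohEt

set_option backward.isDefEq.respectTransparency.types false
set_option backward.isDefEq.respectTransparency false

variable {S : Scheme.{u}} {X : Sp S}

/-- linear maps on sections over an affine object extend to the affine objects over it -/
theorem exists_ext {A B : ModEt X} [A.IsQuasicoherent] {E W : EtOver X} [IsAff E] [IsAff W] (g : W ⟶ E)
    (φ : Sec A E →ₗ[ΓE E] Sec B E) :
    ∃ ψ : Sec A W →ₗ[ΓE W] Sec B W, ∀ y, ψ (mapSec A g y) = mapSec B g (φ y) := by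
  let V : Over E := Over.mk g
  haveI : IsAff V.left := (inferInstance : IsAff W)
  let T : ΓE V.left ⊗[ΓE E] Sec A E →+ Sec B V.left :=
    (bcMap B E V).comp (LinearMap.lTensor (ΓE V.left) φ).toAddMonoidHom
  have hT : ∀ (a : ΓE V.left) (m : Sec A E), T (a ⊗ₜ m) = a • mapSec B g (φ m) := fun a m => rfl
  have hTs : ∀ (r : ΓE V.left) x, T (r • x) = r • T x := fun r x => by
    induction x using TensorProduct.induction_on with
    | zero => rw [smul_zero, map_zero, smul_zero]
    | tmul a m => rw [TensorProduct.smul_tmul', hT, hT, smul_eq_mul, mul_smul]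
    | add x y hx hy => rw [smul_add, map_add, hx, hy, map_add, smul_add]
  have hBs : ∀ (r : ΓE V.left) x, bcMap A E V (r • x) = r • bcMap A E V x := fun r x => by
    induction x using TensorProduct.induction_on with
    | zero => rw [smul_zero, map_zero, smul_zero]
    | tmul a m => rw [TensorProduct.smul_tmul', bcMap_tmul, bcMap_tmul, smul_eq_mul, mul_smul]
    | add x y hx hy => rw [smul_add, map_add, hx, hy, map_add, smul_add]
  let e := AddEquiv.ofBijective (bcMap A E V) (isBC A E V inferInstance)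
  refine ⟨{ toFun := fun z => T (e.symm z), map_add' := fun x y => by rw [map_add, map_add],
            map_smul' := fun r z => ?_ }, fun y => ?_⟩
  · show T (e.symm (r • z)) = r • T (e.symm z)
    rw [← hTs]
    congr 1
    refine e.injective ?_
    rw [e.apply_symm_apply]
    exact ((hBs r (e.symm z)).trans (congrArg (r • ·) (e.apply_symm_apply z))).symm
  · show T (e.symm (mapSec A g y)) = mapSec B g (φ y)
    have h : e.symm (mapSec A g y) = (1 : ΓE V.left) ⊗ₜ y := e.injective (by
      rw [e.apply_symm_apply]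
      exact ((bcMap_tmul A E V 1 y).trans (one_smul _ _)).symm)
    rw [h, hT, one_smul]

/-- linear maps on a base change are determined by the restricted sections -/
theorem ext_of_mapSec {A B : ModEt X} [A.IsQuasicoherent] {E W : EtOver X} [IsAff E] [IsAff W] (g : W ⟶ E)
    (ψ ψ' : Sec A W →ₗ[ΓE W] Sec B W) (h : ∀ y, ψ (mapSec A g y) = ψ' (mapSec A g y)) : ψ = ψ' := by
  let V : Over E := Over.mk g
  haveI : IsAff V.left := (inferInstance : IsAff W)
  refine LinearMap.ext fun z => ?_
  obtain ⟨x, rfl⟩ := (isBC A E V inferInstance).surjective z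
  induction x using TensorProduct.induction_on with
  | zero => rw [map_zero, map_zero, map_zero]
  | tmul a m =>
    rw [bcMap_tmul]
    refine (map_smul ψ (show ΓE W from a) (mapSec A g m)).trans
      (Eq.trans ?_ (map_smul ψ' (show ΓE W from a) (mapSec A g m)).symm)
    exact congrArg _ (h m)
  | add x y hx hy => rw [map_add, map_add, map_add, hx, hy]

section glue

variable {A B : ModEt X} [A.IsQuasicoherent] (E₀ : EtOver X) [IsAff E₀] (hE₀ : RepWith @Surjective E₀.obj.hom)
  (φ : Sec A E₀ →ₗ[ΓE E₀] Sec B E₀)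

/-- the extension of a map along a morphism to the chart -/
def extLin {W : EtOver X} [IsAff W] (g : W ⟶ E₀) : Sec A W →ₗ[ΓE W] Sec B W := (exists_ext g φ).choose

theorem extLin_spec {W : EtOver X} [IsAff W] (g : W ⟶ E₀) (y : Sec A E₀) :
    extLin E₀ φ g (mapSec A g y) = mapSec B g (φ y) := (exists_ext g φ).choose_spec y

theorem extLin_nat {W W' : EtOver X} [IsAff W] [IsAff W'] (g : W ⟶ E₀) (s : W' ⟶ W) (z : Sec A W) :
    mapSec B s (extLin E₀ φ g z) = extLin E₀ φ (s ≫ g) (mapSec A s z) := by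
  let V : Over E₀ := Over.mk g
  haveI : IsAff V.left := (inferInstance : IsAff W)
  obtain ⟨x, rfl⟩ := (isBC A E₀ V inferInstance).surjective z
  induction x using TensorProduct.induction_on with
  | zero => simp only [map_zero]
  | tmul a m =>
    rw [bcMap_tmul]
    refine (congrArg (mapSec B s) (map_smul (extLin E₀ φ g) (show ΓE W from a) (mapSec A g m))).trans ?_
    rw [extLin_spec]
    refine (mapSec_smul B s (show ΓE W from a) _).trans (Eq.trans ?_
      (congrArg (extLin E₀ φ (s ≫ g)) (mapSec_smul A s (show ΓE W from a) (mapSec A g m))).symm)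
    rw [map_smul, ← mapSec_comp, ← mapSec_comp, extLin_spec]
  | add x y hx hy => rw [map_add, map_add, map_add, map_add, map_add, hx, hy]

include hE₀ in
theorem exists_cover_to (E : EtOver X) :
    ∃ (ι : Type u) (Z : ι → EtOver X) (t : ∀ n, Z n ⟶ E) (_ : ∀ n, Z n ⟶ E₀),
      (∀ n, IsAff (Z n)) ∧ ∀ x, ∃ n, x ∈ Set.range (t n).hom.left.left := by
  obtain ⟨ι, Z, g, hZ, hc⟩ := exists_affine_cover (EtOver.prodObj E E₀)
  refine ⟨ι, Z, fun n => g n ≫ EtOver.prodFst E E₀, fun n => g n ≫ EtOver.prodSnd E E₀, hZ, fun x => ?_⟩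
  haveI : Surjective (E₀.property.1.snd E.obj.hom).left :=
    hE₀.property _ _ _ (E₀.property.1.isPullback E.obj.hom)
  obtain ⟨p, hp⟩ := (E₀.property.1.snd E.obj.hom).left.surjective x
  obtain ⟨n, w, hw⟩ := hc p
  exact ⟨n, w, (congrArg (E₀.property.1.snd E.obj.hom).left hw).trans hp⟩

include hE₀ in
/-- descent of a map of sections over a chart -/
theorem exists_hom_of_chart
    (hc : ∀ {W : EtOver X} [IsAff W] (g g' : W ⟶ E₀), extLin E₀ φ g = extLin E₀ φ g') :
    ∃ f : A ⟶ B, ∀ m, secMap f E₀ m = φ m := by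
  have key : ∀ (E : EtOver X) (_ : IsAff E) (a : Sec A E), ∃ b : Sec B E, ∀ (W : EtOver X) [IsAff W] (t : W ⟶ E)
      (g : W ⟶ E₀), mapSec B t b = extLin E₀ φ g (mapSec A t a) := by
    intro E hE a
    obtain ⟨ι, Z, t, g, hZ, hcov⟩ := exists_cover_to E₀ hE₀ E
    haveI := hZ
    obtain ⟨b, hb⟩ := exists_mapSec_eq' B t hcov (fun n => extLin E₀ φ (g n) (mapSec A (t n) a)) fun n k => by
      refine sec_eq_of_affine B _ _ fun W s hW => ?_
      haveI := hW
      rw [← mapSec_comp, ← mapSec_comp, extLin_nat, extLin_nat, ← mapSec_comp, ← mapSec_comp,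
        Category.assoc s _ (t n), Category.assoc s _ (t k), EtOver.pullback_condition, hc]
    refine ⟨b, fun W hW u v => sec_eq_of_affine B _ _ fun T s hT => ?_⟩
    haveI := hT
    refine mapSec_ext B (fun n => EtOver.pullbackFst (s ≫ u) (t n)) (fun x => ?_) _ _ fun n => ?_
    · obtain ⟨n, hn⟩ := hcov ((s ≫ u).hom.left.left x)
      exact ⟨n, exists_mem_range_pullbackFst _ _ x hn⟩
    · refine sec_eq_of_affine B _ _ fun T' s' hT' => ?_
      haveI := hT'
      rw [← mapSec_comp, ← mapSec_comp, ← mapSec_comp, ← mapSec_comp, Category.assoc, Category.assoc,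
        extLin_nat, ← mapSec_comp]
      rw [show s' ≫ EtOver.pullbackFst (s ≫ u) (t n) ≫ s ≫ u =
        (s' ≫ EtOver.pullbackSnd (s ≫ u) (t n)) ≫ t n by
          rw [Category.assoc, ← EtOver.pullback_condition]]
      rw [mapSec_comp B _ (t n), hb n, extLin_nat, ← mapSec_comp]
      rw [extLin_nat, ← mapSec_comp,
        hc _ ((s' ≫ EtOver.pullbackFst (s ≫ u) (t n)) ≫ s ≫ v)]
      congr 2
      simp only [Category.assoc, EtOver.pullback_condition]
  have uniq : ∀ (E : EtOver X) (a : Sec A E) (b b' : Sec B E),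
      (∀ (W : EtOver X) [IsAff W] (t : W ⟶ E) (g : W ⟶ E₀), mapSec B t b = extLin E₀ φ g (mapSec A t a)) →
      (∀ (W : EtOver X) [IsAff W] (t : W ⟶ E) (g : W ⟶ E₀), mapSec B t b' = extLin E₀ φ g (mapSec A t a)) →
      b = b' := by
    intro E a b b' h h'
    obtain ⟨ι, Z, t, g, hZ, hcov⟩ := exists_cover_to E₀ hE₀ E
    haveI := hZ
    exact mapSec_ext B t hcov b b' fun n => (h _ (t n) (g n)).trans (h' _ (t n) (g n)).symm
  choose l hl using key
  obtain ⟨f, hf⟩ := exists_hom_of_affine (A := A) (B := B) (fun E hE =>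
    { toFun := l E hE
      map_add' := fun a a' => uniq E (a + a') _ _ (fun W _ => hl E hE _ W) fun W _ t g => by
        rw [map_add, hl E hE a W t g, hl E hE a' W t g, map_add (mapSec A t), map_add]
      map_smul' := fun r a => uniq E (r • a) _ _ (fun W _ => hl E hE _ W) fun W _ t g => by
        rw [RingHom.id_apply, mapSec_smul, hl E hE a W t g, mapSec_smul, map_smul] })
    fun {E E'} hE hE' t a => uniq E' (mapSec A t a) _ _ (fun W _ s g => by
      show mapSec B s (mapSec B t (l E hE a)) = _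
      rw [← mapSec_comp, ← mapSec_comp, hl E hE a W (s ≫ t) g]) (fun W _ => hl E' hE' _ W)
  refine ⟨f, fun m => ?_⟩
  rw [hf E₀ inferInstance m]
  have := hl E₀ inferInstance m E₀ (𝟙 E₀) (𝟙 E₀)
  rw [QCohEt.mapSec_id] at this
  exact this.trans ((extLin_spec E₀ φ (𝟙 E₀) m).trans (QCohEt.mapSec_id B _ _))

end glue

section colim

variable [QuasiSeparatedSpace ↥S] {I : Type (u + 1)} [Preorder I] [IsDirected I (· ≤ ·)] [Nonempty I]
  {D : I ⥤ ModEt X} {c : Cocone D}

/-- a leg of a cocone -/
def leg (c : Cocone D) (j : I) : D.obj j ⟶ c.pt := c.ι.app j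

omit [QuasiSeparatedSpace ↥S] [IsDirected I (· ≤ ·)] [Nonempty I] in
theorem leg_w (c : Cocone D) {i j : I} (u : i ⟶ j) : D.map u ≫ leg c j = leg c i := c.w u

/-- sections over quasi-compact quasi-separated objects of a colimit come from a stage -/
theorem exists_sec_stage (hc : IsColimit c) {E : EtOver X} (hE : Groth.Agent.S10736.IsQcqs E) (s : Sec c.pt E) :
    ∃ (j : I) (t : Sec (D.obj j) E), secMap (leg c j) E t = s := by
  haveI := SerreAff.preservesColimitsOfShape_toAbEt X I
  exact (Groth.Agent.S10736.qcqsBasis X).exists_stage (Λ := I) (fun U ι Y h => h.2.1) _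
    (isColimitOfPreserves (toAbEt X) hc) (U := E) hE s

/-- sections vanishing in the colimit vanish at a stage -/
theorem exists_sec_eq_zero (hc : IsColimit c) {E : EtOver X} (hE : Groth.Agent.S10736.IsQcqs E) {j : I}
    (t : Sec (D.obj j) E) (ht : secMap (leg c j) E t = 0) :
    ∃ (k : I) (h : j ⟶ k), secMap (D.map h) E t = 0 := by
  haveI := SerreAff.preservesColimitsOfShape_toAbEt X I
  exact (Groth.Agent.S10736.qcqsBasis X).exists_eq_stage (Λ := I) (fun U ι Y h => h.2.1) _
    (isColimitOfPreserves (toAbEt X) hc) (U := E) hE t ht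

theorem isQcqs_aff (E : EtOver X) [IsAff E] : Groth.Agent.S10736.IsQcqs E :=
  haveI : IsAffine E.obj.left.left := (inferInstance : IsAff E)
  ⟨inferInstanceAs (CompactSpace E.obj.left.left), inferInstanceAs (QuasiSeparatedSpace E.obj.left.left)⟩

/-- finitely many sections with equal images become equal at a stage -/
theorem exists_stage_eq (hc : IsColimit c) {κ : Type*} [Finite κ] (E : κ → EtOver X)
    (hE : ∀ k, Groth.Agent.S10736.IsQcqs (E k)) {j : I} (a b : ∀ k, Sec (D.obj j) (E k))
    (h : ∀ k, secMap (leg c j) (E k) (a k) = secMap (leg c j) (E k) (b k)) :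
    ∃ (i : I) (u : j ⟶ i), ∀ k, secMap (D.map u) (E k) (a k) = secMap (D.map u) (E k) (b k) := by
  obtain ⟨i, u, hu⟩ := EtCechLib.exists_common_stage
    (fun k i (u : j ⟶ i) => secMap (D.map u) (E k) (a k - b k) = 0)
    (fun k i u l v h => (secMap_eq (D.map_comp u v) _ _).trans
      ((secMap_comp _ _ _ _).trans ((congrArg (secMap (D.map v) (E k)) h).trans (map_zero _))))
    fun k => exists_sec_eq_zero hc (hE k) (a k - b k) (by rw [map_sub, h k, sub_self])
  exact ⟨i, u, fun k => sub_eq_zero.1 (by rw [← map_sub]; exact hu k)⟩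

/-- linear maps out of a finitely presented module of sections factor through a stage -/
theorem exists_lin_stage (hc : IsColimit c) (E : EtOver X) [IsAff E] (N : ModuleCat.{u + 1} (ΓE E))
    [Module.FinitePresentation (ΓE E) N] (f : N →ₗ[ΓE E] Sec c.pt E) :
    ∃ (j : I) (φ : N →ₗ[ΓE E] Sec (D.obj j) E), ∀ m, secMap (leg c j) E (φ m) = f m := by
  obtain ⟨n, π, hπ⟩ := Module.Finite.exists_fin' (ΓE E) N
  obtain ⟨t, ht⟩ := Module.FinitePresentation.fg_ker π hπ
  choose j₁ s₁ hs₁ using fun l : Fin n => exists_sec_stage hc (isQcqs_aff E) (f (π (Pi.single l 1)))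
  obtain ⟨j, ⟨v⟩⟩ := EtCechLib.exists_common_obj j₁
  let σ : (Fin n → ΓE E) →ₗ[ΓE E] Sec (D.obj j) E :=
    Fintype.linearCombination (ΓE E) fun l => secMap (D.map (v l)) E (s₁ l)
  have hσ : (secMap (leg c j) E).comp σ = f.comp π := by
    refine LinearMap.pi_ext' fun l => LinearMap.ext_ring ?_
    show secMap (leg c j) E (Fintype.linearCombination (ΓE E) _ (Pi.single l 1)) = f (π (Pi.single l 1))
    rw [Fintype.linearCombination_apply_single, one_smul, ← secMap_comp, secMap_eq (leg_w c (v l)), hs₁]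
  obtain ⟨i, u, hu⟩ := exists_stage_eq hc (fun _ : ↥t => E) (fun _ => isQcqs_aff E) (fun r => σ r.1)
    (fun _ => 0) fun r => by
      have hr : π r.1 = 0 := by
        have : r.1 ∈ Submodule.span (ΓE E) (t : Set (Fin n → ΓE E)) := Submodule.subset_span r.2
        rw [ht] at this
        exact this
      rw [map_zero]
      exact (LinearMap.congr_fun hσ r.1).trans (show f (π r.1) = 0 by rw [hr, map_zero])
  let τ : (Fin n → ΓE E) →ₗ[ΓE E] Sec (D.obj i) E := (secMap (D.map u) E).comp σ
  have hτ : LinearMap.ker π ≤ LinearMap.ker τ := by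
    rw [← ht, Submodule.span_le]
    intro r hr
    exact (hu ⟨r, hr⟩).trans (map_zero _)
  let φ : N →ₗ[ΓE E] Sec (D.obj i) E :=
    ((LinearMap.ker π).liftQ τ hτ).comp (π.quotKerEquivOfSurjective hπ).symm.toLinearMap
  refine ⟨i, φ, fun m => ?_⟩
  obtain ⟨x, rfl⟩ := hπ m
  show secMap (leg c i) E ((LinearMap.ker π).liftQ τ hτ ((π.quotKerEquivOfSurjective hπ).symm (π x))) = f (π x)
  rw [LinearMap.quotKerEquivOfSurjective_symm_apply]
  show secMap (leg c i) E (secMap (D.map u) E (σ x)) = f (π x)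
  rw [← secMap_comp, secMap_eq (leg_w c u)]
  exact LinearMap.congr_fun hσ x

variable (hqc : IsQuasiCompactSp X) (hqs : IsQuasiSeparatedSp X) (hX : IsAlgSpace X)

include hqs in
/-- a chart map compatible in the colimit is compatible at a stage -/
theorem exists_compatible_stage (hc : IsColimit c) (G : ModEt X) [G.IsFinitePresentation] (E₀ : EtOver X) [IsAff E₀]
    {j : I} (φ : Sec G E₀ →ₗ[ΓE E₀] Sec (D.obj j) E₀) (f : G ⟶ c.pt)
    (hf : ∀ m, secMap (leg c j) E₀ (φ m) = secMap f E₀ m) :
    ∃ (i : I) (u : j ⟶ i), ∀ {W : EtOver X} [IsAff W] (g g' : W ⟶ E₀),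
      extLin E₀ ((secMap (D.map u) E₀).comp φ) g = extLin E₀ ((secMap (D.map u) E₀).comp φ) g' := by
  haveI : G.IsQuasicoherent := inferInstance
  have hP : Groth.Agent.S10736.IsQcqs (E₀ ⨯ E₀) := Groth.Agent.S10736.isQcqs_prod hqs (isQcqs_aff E₀) (isQcqs_aff E₀)
  haveI := hP.1
  obtain ⟨κ, hκ, W, w, hW, hcov⟩ := exists_finite_affine_cover (E₀ ⨯ E₀)
  haveI := hW
  obtain ⟨n, gen, hgen⟩ : ∃ (n : ℕ) (gen : Fin n → Sec G E₀), Submodule.span (ΓE E₀) (Set.range gen) = ⊤ := by
    haveI := finitePresentation_sec G E₀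
    obtain ⟨n, π, hπ⟩ := Module.Finite.exists_fin' (ΓE E₀) (Sec G E₀)
    refine ⟨n, fun l => π (Pi.single l 1), top_le_iff.1 fun m _ => ?_⟩
    obtain ⟨x, rfl⟩ := hπ m
    rw [← (Pi.basisFun (ΓE E₀) (Fin n)).sum_repr x, map_sum]
    refine Submodule.sum_mem _ fun l _ => ?_
    rw [map_smul, Pi.basisFun_apply]
    exact Submodule.smul_mem _ _ (Submodule.subset_span ⟨l, rfl⟩)
  let p : ∀ k, W k ⟶ E₀ := fun k => w k ≫ prod.fst
  let q : ∀ k, W k ⟶ E₀ := fun k => w k ≫ prod.snd
  have hψ : ∀ {V : EtOver X} [IsAff V] (g : V ⟶ E₀) (z : Sec G V),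
      secMap (leg c j) V (extLin E₀ φ g z) = secMap f V z := fun {V} _ g z => by
    refine LinearMap.congr_fun (ext_of_mapSec g ((secMap (leg c j) V).comp (extLin E₀ φ g)) (secMap f V)
      fun y => ?_) z
    show secMap (leg c j) V (extLin E₀ φ g (mapSec G g y)) = secMap f V (mapSec G g y)
    rw [extLin_spec, ← mapSec_secMap, hf, mapSec_secMap]
  obtain ⟨i, u, hu⟩ := exists_stage_eq hc (κ := κ × Fin n) (fun r => W r.1) (fun r => isQcqs_aff _)
    (fun r => extLin E₀ φ (p r.1) (mapSec G (p r.1) (gen r.2)))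
    (fun r => extLin E₀ φ (q r.1) (mapSec G (p r.1) (gen r.2))) fun r => (hψ _ _).trans (hψ _ _).symm
  let φ' := (secMap (D.map u) E₀).comp φ
  have hpush : ∀ {V : EtOver X} [IsAff V] (g : V ⟶ E₀) (z : Sec G V),
      extLin E₀ φ' g z = secMap (D.map u) V (extLin E₀ φ g z) := fun {V} _ g z => by
    refine LinearMap.congr_fun (ext_of_mapSec g (extLin E₀ φ' g) ((secMap (D.map u) V).comp (extLin E₀ φ g))
      fun y => ?_) z
    show extLin E₀ φ' g (mapSec G g y) = secMap (D.map u) V (extLin E₀ φ g (mapSec G g y))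
    rw [extLin_spec, extLin_spec, ← mapSec_secMap]
    rfl
  have hpq : ∀ k, extLin E₀ φ' (p k) = extLin E₀ φ' (q k) := fun k => by
    refine ext_of_mapSec (p k) _ _ fun y => ?_
    have hy : y ∈ Submodule.span (ΓE E₀) (Set.range gen) := by rw [hgen]; trivial
    induction hy using Submodule.span_induction with
    | mem y hy =>
      obtain ⟨l, rfl⟩ := hy
      rw [hpush, hpush]
      exact hu (k, l)
    | zero => simp only [map_zero]
    | add x y _ _ hx hy => simp only [map_add, hx, hy]
    | smul r y _ hy => simp only [mapSec_smul, map_smul, hy]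
  refine ⟨i, u, fun {V} _ g g' => LinearMap.ext fun z => ?_⟩
  let h : V ⟶ E₀ ⨯ E₀ := prod.lift g g'
  refine mapSec_ext (D.obj i) (fun k => EtOver.pullbackFst h (w k)) (fun x => ?_) _ _ fun k => ?_
  · obtain ⟨k, hk⟩ := hcov (h.hom.left.left x)
    exact ⟨k, exists_mem_range_pullbackFst _ _ x hk⟩
  · refine sec_eq_of_affine (D.obj i) _ _ fun T s hT => ?_
    haveI := hT
    rw [← mapSec_comp, ← mapSec_comp, extLin_nat, extLin_nat]
    let r : T ⟶ W k := s ≫ EtOver.pullbackSnd h (w k)
    have e1 : (s ≫ EtOver.pullbackFst h (w k)) ≫ g = r ≫ p k := by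
      rw [show g = h ≫ prod.fst from (prod.lift_fst _ _).symm]
      simp only [r, p, Category.assoc]
      rw [← Category.assoc (EtOver.pullbackFst h (w k)), EtOver.pullback_condition, Category.assoc]
    have e2 : (s ≫ EtOver.pullbackFst h (w k)) ≫ g' = r ≫ q k := by
      rw [show g' = h ≫ prod.snd from (prod.lift_snd _ _).symm]
      simp only [r, q, Category.assoc]
      rw [← Category.assoc (EtOver.pullbackFst h (w k)), EtOver.pullback_condition, Category.assoc]
    have e3 : extLin E₀ φ' (r ≫ p k) = extLin E₀ φ' (r ≫ q k) := by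
      refine ext_of_mapSec (r ≫ p k) _ _ fun y => ?_
      rw [mapSec_comp G r (p k), ← extLin_nat, ← extLin_nat, hpq]
    rw [e1, e2]
    exact LinearMap.congr_fun e3 _

include hqc hqs hX in
/-- morphisms out of finitely presented modules commute with directed colimits -/
theorem preservesColimit (G : ModEt X) [G.IsFinitePresentation] (D : I ⥤ ModEt X) :
    PreservesColimit D (coyoneda.obj (op G)) := by
  refine ⟨fun {c} hc => ⟨Types.FilteredColimit.isColimitOf _ _ (fun f => ?_) fun i j a b hab => ?_⟩⟩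
  · change G ⟶ c.pt at f
    haveI := compactSpace_points_of_isQuasiCompactSp hqc
    obtain ⟨U, a, hU, hae, has⟩ := exists_affine_chart hX
    let E₀ : EtOver X := EtOver.mk a hae
    haveI : IsAff E₀ := hU
    haveI := finitePresentation_sec G E₀
    obtain ⟨j, φ, hφ⟩ := exists_lin_stage hc E₀ (Sec G E₀) (secMap f E₀)
    obtain ⟨i, u, hu⟩ := exists_compatible_stage hqs hc G E₀ φ f hφ
    obtain ⟨h, hh⟩ := exists_hom_of_chart E₀ has _ hu
    refine ⟨i, h, ?_⟩
    show f = h ≫ leg c i
    symm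
    refine SheafOfModules.hom_ext (PresheafOfModules.hom_ext fun V => ModuleCat.hom_ext
      (LinearMap.ext fun m => ?_))
    obtain ⟨κ, Z, t, g, hZ, hcov⟩ := exists_cover_to E₀ has V.unop
    haveI := hZ
    refine mapSec_ext c.pt t hcov _ _ fun n => ?_
    show mapSec c.pt (t n) (secMap (h ≫ leg c i) V.unop m) = mapSec c.pt (t n) (secMap f V.unop m)
    rw [mapSec_secMap, mapSec_secMap]
    refine LinearMap.congr_fun (ext_of_mapSec (g n) (secMap (h ≫ leg c i) (Z n)) (secMap f (Z n))
      fun y => ?_) _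
    rw [← mapSec_secMap, ← mapSec_secMap, secMap_comp, hh]
    congr 1
    show secMap (leg c i) E₀ (secMap (D.map u) E₀ (φ y)) = secMap f E₀ y
    rw [← secMap_comp, secMap_eq (leg_w c u), hφ]
  · change G ⟶ D.obj i at a
    change G ⟶ D.obj j at b
    change a ≫ leg c i = b ≫ leg c j at hab
    haveI := compactSpace_points_of_isQuasiCompactSp hqc
    obtain ⟨U, p, hU, hae, has⟩ := exists_affine_chart hX
    let E₀ : EtOver X := EtOver.mk p hae
    haveI : IsAff E₀ := hU
    haveI := finitePresentation_sec G E₀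
    obtain ⟨n, π, hπ⟩ := Module.Finite.exists_fin' (ΓE E₀) (Sec G E₀)
    let k := IsFiltered.max i j
    obtain ⟨l, u, hu⟩ := exists_stage_eq hc (κ := Fin n) (fun _ => E₀) (fun _ => isQcqs_aff E₀)
      (fun r => secMap (a ≫ D.map (IsFiltered.leftToMax i j)) E₀ (π (Pi.single r 1)))
      (fun r => secMap (b ≫ D.map (IsFiltered.rightToMax i j)) E₀ (π (Pi.single r 1))) fun r => by
        rw [← secMap_comp, ← secMap_comp, Category.assoc, Category.assoc, leg_w, leg_w, secMap_eq hab]
    refine ⟨l, IsFiltered.leftToMax i j ≫ u, IsFiltered.rightToMax i j ≫ u, ?_⟩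
    show a ≫ D.map (IsFiltered.leftToMax i j ≫ u) = b ≫ D.map (IsFiltered.rightToMax i j ≫ u)
    rw [D.map_comp, D.map_comp, ← Category.assoc, ← Category.assoc]
    refine SheafOfModules.hom_ext (PresheafOfModules.hom_ext fun V => ModuleCat.hom_ext
      (LinearMap.ext fun m => ?_))
    obtain ⟨κ, Z, t, g, hZ, hcov⟩ := exists_cover_to E₀ has V.unop
    haveI := hZ
    refine mapSec_ext (D.obj l) t hcov _ _ fun q => ?_
    show mapSec (D.obj l) (t q) (secMap ((a ≫ D.map (IsFiltered.leftToMax i j)) ≫ D.map u) V.unop m) =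
      mapSec (D.obj l) (t q) (secMap ((b ≫ D.map (IsFiltered.rightToMax i j)) ≫ D.map u) V.unop m)
    rw [mapSec_secMap, mapSec_secMap]
    refine LinearMap.congr_fun (ext_of_mapSec (g q) (secMap _ (Z q)) (secMap _ (Z q)) fun y => ?_) _
    rw [← mapSec_secMap, ← mapSec_secMap]
    congr 1
    obtain ⟨x, rfl⟩ := hπ y
    rw [← (Pi.basisFun (ΓE E₀) (Fin n)).sum_repr x]
    simp only [map_sum, map_smul, Pi.basisFun_apply]
    exact Finset.sum_congr rfl fun r _ => congrArg _ (hu r)

end colim

end Groth.Agent.AlgSpLib.HomFP
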