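import Groth.Agent.HenselLib.LocalHens
import Groth.Agent.HenselLib.HullFlat
import Groth.Agent.AlgSpLib.PointsTop
import Mathlib.AlgebraicGeometry.Morphisms.Etale

/-!
The strict henselization at a geometric point of an affine scheme, as a limit of affine etale
neighbourhoods.
-/

universe u

open CategoryTheory CategoryTheory.Limits AlgebraicGeometry Opposite
open AlgSp

noncomputable section

namespace Groth.Agent.AlgSpLib.HullLim

open Groth.Agent.HenselLib IsLocalRing Polynomial

set_option backward.isDefEq.respectTransparency.types false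
set_option backward.isDefEq.respectTransparency false

variable {R : Type u} [CommRing R] {K : Type u} [Field K] [Algebra R K]

/-- The residue field of the hull at a separably closed point is separably closed. -/
theorem isSepClosed_residueField [IsAlgClosed K] [IsLocalRing (Hull R K)] :
    IsSepClosed (ResidueField (Hull R K)) := by
  let ρ : ResidueField (Hull R K) →+* K := Ideal.Quotient.lift _ (hullPt R K).toRingHom fun x hx => by
    rw [maximalIdeal_hull] at hx
    exact hx
  have hρ : ∀ x, ρ (residue _ x) = hullPt R K x := fun x => rfl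
  refine IsSepClosed.of_exists_root _ fun p hp hirr hsep => ?_
  obtain ⟨f, hfp, -, hf⟩ := Polynomial.lifts_and_natDegree_eq_and_monic
    (f := residue (Hull R K)) (p := p) (Polynomial.mem_lifts_of_surjective residue_surjective _) hp
  obtain ⟨P, g, hg, hgf⟩ := exists_monic_rep f hf
  obtain ⟨z, hz⟩ := IsAlgClosed.exists_root (p.map ρ) (by
    rw [Polynomial.degree_map]
    intro h0
    exact hirr.not_isUnit ((hp.degree_le_zero_iff_eq_one.mp h0.le) ▸ isUnit_one))
  have hd : (derivative (p.map ρ)).eval z ≠ 0 := by
    have hz' : (p.map ρ).aeval z = 0 := by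
      rw [Polynomial.coe_aeval_eq_eval]; exact hz
    have := (Polynomial.Separable.map (f := ρ) hsep).aeval_derivative_ne_zero hz'
    rwa [Polynomial.coe_aeval_eq_eval] at this
  let : Algebra P.Ring K := P.pt.toRingHom.toAlgebra
  have : IsScalarTower R P.Ring K :=
    IsScalarTower.of_algebraMap_eq (R := R) (S := P.Ring) (A := K) fun a => (P.pt.commutes a).symm
  have hcomp : (ρ.comp (residue (Hull R K))).comp (ι P).toRingHom = algebraMap P.Ring K :=
    RingHom.ext fun x => (hρ _).trans (hullPt_ι P x)
  have hgp : g.map (algebraMap P.Ring K) = p.map ρ := by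
    rw [← hcomp, ← Polynomial.map_map, hgf, ← Polynomial.map_map, hfp]
  let E : StandardEtalePair P.Ring :=
    { f := g, monic_f := hg, g := derivative g, cond := ⟨1, 0, 1, by ring⟩ }
  have hE : E.HasMap z := by
    constructor
    · show aeval z g = 0
      rw [← Polynomial.eval_map_algebraMap, hgp]
      exact hz
    · show IsUnit (aeval z (derivative g))
      rw [← Polynomial.eval_map_algebraMap, ← Polynomial.derivative_map, hgp]
      exact Ne.isUnit hd
  let : Algebra R E.Ring := ((algebraMap P.Ring E.Ring).comp (algebraMap R P.Ring)).toAlgebra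
  have : IsScalarTower R P.Ring E.Ring :=
    IsScalarTower.of_algebraMap_eq (R := R) (S := P.Ring) (A := E.Ring) fun _ => rfl
  have : Algebra.Etale R E.Ring := Algebra.Etale.comp R P.Ring E.Ring
  obtain ⟨φ, hφ⟩ := exists_map_of_etale ((E.lift z hE).restrictScalars R)
  have hw : hullPt R K (φ E.X) = z := (congr($hφ E.X)).trans (E.lift_X z hE)
  refine ⟨residue _ (φ E.X), ρ.injective ?_⟩
  rw [map_zero, ← Polynomial.eval₂_at_apply, ← Polynomial.eval_map, hρ, hw]
  exact hz

variable {S : Scheme.{u}}

/-- the affine etale neighbourhoods -/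
def nbhds (str : Spec (CommRingCat.of R) ⟶ S) : (Pt R K)ᵒᵖ ⥤ Over S where
  obj P := Over.mk (Spec.map (CommRingCat.ofHom (algebraMap R P.unop.Ring)) ≫ str)
  map {P Q} f := Over.homMk (Spec.map (CommRingCat.ofHom f.unop.map.toRingHom)) (by
    show Spec.map _ ≫ Spec.map _ ≫ str = Spec.map _ ≫ str
    rw [← Category.assoc, ← Spec.map_comp, ← CommRingCat.ofHom_comp]
    exact congrArg (fun k => Spec.map (CommRingCat.ofHom k) ≫ str) f.unop.map.comp_algebraMap)
  map_id P := by ext; exact Spec.map_id _
  map_comp f g := by
    ext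
    show Spec.map (CommRingCat.ofHom (f.unop.map.toRingHom.comp g.unop.map.toRingHom)) = Spec.map _ ≫ Spec.map _
    rw [← Spec.map_comp]
    rfl

/-- the strictly local scheme -/
abbrev shPt (str : Spec (CommRingCat.of R) ⟶ S) : Over S :=
  Over.mk (Spec.map (CommRingCat.ofHom (algebraMap R (Hull R K))) ≫ str)

/-- the cone -/
def nbhdsCone (str : Spec (CommRingCat.of R) ⟶ S) : Cone (nbhds (K := K) str) where
  pt := shPt (K := K) str
  π :=
  { app := fun P => Over.homMk (Spec.map (CommRingCat.ofHom (ι P.unop).toRingHom)) (by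
      show Spec.map _ ≫ Spec.map _ ≫ str = Spec.map _ ≫ str
      rw [← Category.assoc, ← Spec.map_comp, ← CommRingCat.ofHom_comp]
      exact congrArg (fun k => Spec.map (CommRingCat.ofHom k) ≫ str) (ι P.unop).comp_algebraMap)
    naturality := fun P Q f => by
      ext
      show 𝟙 _ ≫ Spec.map _ = Spec.map _ ≫ Spec.map _
      rw [Category.id_comp, ← Spec.map_comp]
      exact congrArg Spec.map (colimit.w (hullDiagram R K) f.unop).symm }

/-- the strictly local scheme is the limit -/
theorem isLimit_nbhdsCone (str : Spec (CommRingCat.of R) ⟶ S) : Nonempty (IsLimit (nbhdsCone (K := K) str)) := by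
  have h := isLimitOfPreserves Scheme.Spec (colimit.isColimit (hullDiagram R K)).op
  let F : Cone (nbhds (K := K) str) → Cone ((hullDiagram R K).op ⋙ Scheme.Spec) := fun s =>
    { pt := s.pt.left
      π :=
      { app := fun P => (s.π.app P).left
        naturality := fun P Q f => congrArg (fun k => k.left) (s.π.naturality f) } }
  refine ⟨{ lift := fun s => Over.homMk (h.lift (F s)) ?_, fac := fun s j => ?_, uniq := fun s m hm => ?_ }⟩
  · obtain ⟨P⟩ := IsFiltered.nonempty (C := Pt R K)
    refine Eq.trans ?_ (Over.w (s.π.app (op P)))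
    refine Eq.trans ?_ (congrArg (· ≫ Spec.map (CommRingCat.ofHom (algebraMap R P.Ring)) ≫ str) (h.fac (F s) (op P)))
    show h.lift (F s) ≫ Spec.map _ ≫ str = (h.lift (F s) ≫ Spec.map (CommRingCat.ofHom (ι P).toRingHom)) ≫ _
    refine Eq.trans ?_ (Category.assoc _ _ _).symm
    refine congrArg (fun k => h.lift (F s) ≫ k) ?_
    rw [← Category.assoc, ← Spec.map_comp, ← CommRingCat.ofHom_comp]
    exact congrArg (fun k => Spec.map (CommRingCat.ofHom k) ≫ str) (ι P).comp_algebraMap.symm
  · ext
    exact h.fac (F s) j
  · ext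
    exact h.uniq (F s) m.left fun j => congrArg (fun k => k.left) (hm j)

theorem etale_nbhds (str : Spec (CommRingCat.of R) ⟶ S) (P : (Pt R K)ᵒᵖ) :
    Etale (Spec.map (CommRingCat.ofHom (algebraMap R P.unop.Ring))) := by
  rw [HasRingHomProperty.Spec_iff (P := @Etale)]
  exact RingHom.etale_algebraMap.2 inferInstance

end Groth.Agent.AlgSpLib.HullLim
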