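import Groth.Agent.H8Lim.ImmersionStage
import Groth.Agent.FlatMor12.MatchSystem
import Mathlib.AlgebraicGeometry.AffineSpace

/-!
An immersion into an affine space with arbitrarily many coordinates over an affine scheme, of finite type over
the base, is an immersion already on finitely many coordinates.
-/

set_option autoImplicit false
set_option backward.isDefEq.respectTransparency.types false
set_option backward.isDefEq.respectTransparency false

universe u

open CategoryTheory CategoryTheory.Limits AlgebraicGeometry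

noncomputable section

namespace Groth.Agent.AlgSpLib.ImmAff

open Groth.Agent.FlatMor12

/-- finitely many generators suffice -/
theorem exists_adjoin_immersion {B H : Type u} [CommRing B] [CommRing H] [Algebra B H] {W : Scheme.{u}}
    [CompactSpace W] (g : W ⟶ Spec (CommRingCat.of H)) [IsImmersion g]
    [LocallyOfFiniteType (g ≫ Spec.map (CommRingCat.ofHom (algebraMap B H)))] :
    ∃ s : Finset H, IsImmersion (g ≫ Spec.map (CommRingCat.ofHom (Algebra.adjoin B (s : Set H)).val.toRingHom)) := by
  classical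
  have : ∀ {i j : (Finset H)ᵒᵖ} (f : i ⟶ j), IsAffineHom ((MatchSystem.diag B (∅ : Finset H)).map f) :=
    fun f => inferInstance
  let t : MatchSystem.diag B (∅ : Finset H) ⟶ (Functor.const (Finset H)ᵒᵖ).obj (Spec (CommRingCat.of B)) :=
    { app := fun s => Spec.map (CommRingCat.ofHom (algebraMap B (MatchSystem.sub B (∅ : Finset H) s.unop)))
      naturality := fun i j f => by
        refine (Spec.map_comp _ _).symm.trans ((congrArg Spec.map ?_).trans (Category.comp_id _).symm)
        exact CommRingCat.hom_ext (RingHom.ext fun _ => rfl) }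
  have hs : ∀ i, (MatchSystem.cone B (∅ : Finset H)).π.app i ≫ t.app i =
      Spec.map (CommRingCat.ofHom (algebraMap B H)) := fun i => by
    refine (Spec.map_comp _ _).symm.trans (congrArg Spec.map ?_)
    exact CommRingCat.hom_ext (RingHom.ext fun _ => rfl)
  have : IsImmersion (X := W) (Y := (MatchSystem.cone B (∅ : Finset H)).pt) g := ‹IsImmersion g›
  obtain ⟨i, hi⟩ := @H8Lim.exists_isImmersion_comp_π _ _ _ _ _ (MatchSystem.isLimit B (∅ : Finset H)) _
    (Spec (CommRingCat.of B)) W t (Spec.map (CommRingCat.ofHom (algebraMap B H))) hs g this _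
    ‹LocallyOfFiniteType (g ≫ Spec.map (CommRingCat.ofHom (algebraMap B H)))›
  refine ⟨i.unop, ?_⟩
  have e : Algebra.adjoin B ((i.unop : Finset H) : Set H) = MatchSystem.sub B (∅ : Finset H) i.unop := by
    simp [MatchSystem.sub]
  rw [e]
  exact hi

/-- a family of generators of a polynomial algebra in finitely many variables -/
theorem exists_vars {B σ : Type u} [CommRing B] (s : Finset (MvPolynomial σ B)) :
    ∃ F : Finset σ, ∀ p ∈ s, p ∈ (MvPolynomial.rename (R := B) ((↑) : F → σ)).range := by
  classical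
  refine ⟨s.biUnion fun p => p.vars, fun p hp => ?_⟩
  obtain ⟨q, hq⟩ := MvPolynomial.exists_rename_eq_of_vars_subset_range p
    ((↑) : ↥(s.biUnion fun p => p.vars) → σ) Subtype.val_injective (fun x hx => ⟨⟨x, Finset.mem_biUnion.2 ⟨p, hp, hx⟩⟩, rfl⟩)
  exact ⟨q, hq⟩

/-- finitely many coordinates suffice -/
theorem exists_coords {B σ : Type u} [CommRing B] {W : Scheme.{u}} [CompactSpace W]
    (g : W ⟶ Spec (CommRingCat.of (MvPolynomial σ B))) [IsImmersion g]
    [LocallyOfFiniteType (g ≫ Spec.map (CommRingCat.ofHom (MvPolynomial.C (σ := σ) (R := B))))] :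
    ∃ F : Finset σ, IsImmersion (g ≫ Spec.map (CommRingCat.ofHom
      (MvPolynomial.rename (R := B) ((↑) : F → σ)).toRingHom)) := by
  classical
  have : LocallyOfFiniteType (g ≫ Spec.map (CommRingCat.ofHom (algebraMap B (MvPolynomial σ B)))) :=
    ‹LocallyOfFiniteType (g ≫ Spec.map (CommRingCat.ofHom (MvPolynomial.C (σ := σ) (R := B))))›
  obtain ⟨s, hs⟩ := exists_adjoin_immersion g (B := B)
  obtain ⟨F, hF⟩ := exists_vars s
  refine ⟨F, ?_⟩
  let r : MvPolynomial F B →ₐ[B] MvPolynomial σ B := MvPolynomial.rename ((↑) : F → σ)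
  have hle : Algebra.adjoin B (s : Set (MvPolynomial σ B)) ≤ r.range := Algebra.adjoin_le fun p hp => hF p hp
  let a : Spec (CommRingCat.of r.range) ⟶ Spec (CommRingCat.of (Algebra.adjoin B (s : Set (MvPolynomial σ B)))) :=
    Spec.map (CommRingCat.ofHom (Subalgebra.inclusion hle).toRingHom)
  let b : Spec (CommRingCat.of (MvPolynomial σ B)) ⟶ Spec (CommRingCat.of r.range) :=
    Spec.map (CommRingCat.ofHom r.range.val.toRingHom)
  let c : Spec (CommRingCat.of r.range) ⟶ Spec (CommRingCat.of (MvPolynomial F B)) :=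
    Spec.map (CommRingCat.ofHom r.rangeRestrict.toRingHom)
  have : IsClosedImmersion c := IsClosedImmersion.spec_of_surjective _ r.rangeRestrict_surjective
  have hgb : IsImmersion (g ≫ b) := by
    have : IsImmersion ((g ≫ b) ≫ a) := by
      rw [Category.assoc, ← Spec.map_comp]
      exact hs
    exact IsImmersion.of_comp (g ≫ b) a
  have : IsImmersion ((g ≫ b) ≫ c) := inferInstance
  rw [Category.assoc, ← Spec.map_comp] at this
  exact this

/-- immersions into affine spaces over an affine scheme -/
theorem exists_coords_affineSpace {σ : Type u} {V W : Scheme.{u}} [IsAffine V] [CompactSpace W]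
    (g : W ⟶ 𝔸(σ; V)) [IsImmersion g] [LocallyOfFiniteType (g ≫ 𝔸(σ; V) ↘ V)] :
    ∃ F : Finset σ, IsImmersion (g ≫ AffineSpace.reindex ((↑) : F → σ) V) := by
  let e := AffineSpace.isoOfIsAffine σ V
  have h1 : (g ≫ e.hom) ≫ Spec.map (CommRingCat.ofHom (MvPolynomial.C (σ := σ) (R := Γ(V, ⊤)))) =
      (g ≫ 𝔸(σ; V) ↘ V) ≫ V.isoSpec.hom := by
    have h2 := AffineSpace.isoOfIsAffine_inv_over (S := V) (n := σ)
    rw [← cancel_mono V.isoSpec.inv, Category.assoc, Category.assoc, ← h2, Category.assoc, Iso.hom_inv_id_assoc,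
      Category.assoc, Iso.hom_inv_id, Category.comp_id]
  have : LocallyOfFiniteType ((g ≫ e.hom) ≫ Spec.map (CommRingCat.ofHom (MvPolynomial.C (σ := σ) (R := Γ(V, ⊤))))) := by
    rw [h1]; infer_instance
  have : IsImmersion (g ≫ e.hom) := inferInstance
  obtain ⟨F, hF⟩ := exists_coords (g ≫ e.hom)
  refine ⟨F, ?_⟩
  let eF := AffineSpace.isoOfIsAffine (↥F) V
  have h3 : e.inv ≫ AffineSpace.reindex ((↑) : F → σ) V =
      Spec.map (CommRingCat.ofHom (MvPolynomial.rename (R := Γ(V, ⊤)) ((↑) : F → σ)).toRingHom) ≫ eF.inv := by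
    ext1
    · rw [Category.assoc, AffineSpace.reindex_over, Category.assoc, AffineSpace.isoOfIsAffine_inv_over,
        AffineSpace.isoOfIsAffine_inv_over, ← Spec.map_comp_assoc]
      congr 2
      refine CommRingCat.hom_ext (RingHom.ext fun x => ?_)
      exact (MvPolynomial.rename_C (R := Γ(V, ⊤)) ((↑) : F → σ) x).symm
    · simp only [Scheme.Hom.comp_appTop, CommRingCat.comp_apply, AffineSpace.reindex_appTop_coord]
      rw [AffineSpace.isoOfIsAffine_inv_appTop_coord, AffineSpace.isoOfIsAffine_inv_appTop_coord,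
        ← CommRingCat.comp_apply, ← Scheme.ΓSpecIso_inv_naturality, CommRingCat.comp_apply]
      congr 1
      exact (MvPolynomial.rename_X (R := Γ(V, ⊤)) ((↑) : F → σ) _).symm
  have h4 : g ≫ AffineSpace.reindex ((↑) : F → σ) V = ((g ≫ e.hom) ≫ Spec.map (CommRingCat.ofHom
      (MvPolynomial.rename (R := Γ(V, ⊤)) ((↑) : F → σ)).toRingHom)) ≫ eF.inv := by
    rw [Category.assoc, ← h3, Category.assoc, Iso.hom_inv_id_assoc]
  rw [h4]
  infer_instance

end Groth.Agent.AlgSpLib.ImmAff
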