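import Groth.Agent.AlgSpLib.DimBasic
import Groth.Agent.AlgSpLib.IntegralGeneric
import Groth.Agent.AlgSpLib.FlatAt
import Groth.Agent.AlgSpLib.RelDimLocus

/-!
Locally quasi-finite morphisms: dimension inequalities and residual transcendence degrees.
-/

universe u

open CategoryTheory CategoryTheory.Limits AlgebraicGeometry
open AlgSp

noncomputable section

namespace Groth.Agent.AlgSpLib

set_option backward.isDefEq.respectTransparency.types false

theorem strictMono_of_lqf {A B : Scheme.{u}} (g : A ⟶ B) [LocallyQuasiFinite g] : StrictMono g := by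
  intro a b hab
  have hs : b ⤳ a := hab.le
  refine lt_of_le_not_ge (show g b ⤳ g a from hs.map g.continuous) fun h => hab.not_ge ?_
  have e : g a = g b := ((show g b ⤳ g a from hs.map g.continuous).antisymm h).eq.symm
  have hd := g.isDiscrete_preimage_singleton (g a)
  have := hd.to_subtype
  have h1 : (⟨b, e.symm⟩ : ↥(g ⁻¹' {g a})) ⤳ ⟨a, rfl⟩ := subtype_specializes_iff _ _ |>.2 hs
  rw [show b = a from congrArg Subtype.val h1.eq]

theorem resTrdeg_comp {A B C : Scheme.{u}} (g : A ⟶ B) (h : B ⟶ C) (x : A) :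
    Dual3.resTrdeg (g ≫ h) x = Dual3.resTrdeg h (g x) + Dual3.resTrdeg g x := by
  let φ : C.residueField (h (g x)) →+* B.residueField (g x) := (h.residueFieldMap (g x)).hom
  let ψ : B.residueField (g x) →+* A.residueField x := (g.residueFieldMap x).hom
  letI := φ.toAlgebra
  letI := ψ.toAlgebra
  letI := (ψ.comp φ).toAlgebra
  have : IsScalarTower (C.residueField (h (g x))) (B.residueField (g x)) (A.residueField x) :=
    IsScalarTower.of_algebraMap_eq fun _ => rfl
  have e := trdeg_add_eq (C.residueField (h (g x))) (B.residueField (g x)) (A := A.residueField x)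
  refine Eq.trans ?_ e.symm
  show @Algebra.trdeg _ _ _ _ ((g ≫ h).residueFieldMap x).hom.toAlgebra = _
  rw [Scheme.residueFieldMap_comp]
  rfl

theorem resTrdeg_eq_zero_of_lqf {A B : Scheme.{u}} (g : A ⟶ B) [LocallyQuasiFinite g] (x : A) :
    Dual3.resTrdeg g x = 0 := by
  letI := (g.residueFieldMap x).hom.toAlgebra
  have : Module.Finite (B.residueField (g x)) (A.residueField x) := FlatMorWeight.residueFieldMap_finite g x
  exact trdeg_eq_zero

theorem resTrdeg_eq_of_etale_square {A B A' B' : Scheme.{u}} {h : A ⟶ B} {k : A' ⟶ B'} (p : A' ⟶ A)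
    (q : B' ⟶ B) [LocallyQuasiFinite p] [LocallyQuasiFinite q] (w : p ≫ h = k ≫ q) (r : A') :
    Dual3.resTrdeg h (p r) = Dual3.resTrdeg k r := by
  have e1 := resTrdeg_comp p h r
  have e2 := resTrdeg_comp k q r
  rw [w, e2, resTrdeg_eq_zero_of_lqf p, resTrdeg_eq_zero_of_lqf q, add_zero, zero_add] at e1
  exact e1.symm

variable {S : Scheme.{u}} {X Y Z : Sp S}

/-- a predicate invariant under etale squares is read on any chart -/
theorem hasAtMor_iff_of_square (R : ∀ (U V : Scheme.{u}), (U ⟶ V) → ↥U → Prop)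
    (hR : ∀ ⦃A B A' B' : Scheme.{u}⦄ (h : A ⟶ B) (k : A' ⟶ B') (p : A' ⟶ A) (q : B' ⟶ B)
      [Etale p] [Etale q], p ≫ h = k ≫ q → ∀ r, (R A B h (p r) ↔ R A' B' k r))
    (hX : IsAlgSpace X) (hY : IsAlgSpace Y) (f : X ⟶ Y) {U V : Over S}
    (a : (yon S).obj U ⟶ X) (b : (yon S).obj V ⟶ Y) (h : U ⟶ V) (ha : RepWith @Etale a)
    (hb : RepWith @Etale b) (w : a ≫ f = (yon S).map h ≫ b) (u : ↥U.left) :
    HasAtMor R f (Points.ofPt a u) ↔ R U.left V.left h.left u := by
  refine ⟨fun H => ?_, fun H => ⟨U, V, a, b, h, u, ha, hb, w, rfl, H⟩⟩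
  obtain ⟨U', V', a', b', h', u', ha', hb', w', e, H⟩ := H
  have hra := hX.representable_from_yon a
  have hrb := hY.representable_from_yon b
  have sqP := hra.isPullback' a'
  have sqQ := hrb.isPullback' b'
  obtain ⟨p, hp1, hp2⟩ := (ofPt_eq_ofPt_iff sqP u u').1 e.symm
  let k : hra.pullback a' ⟶ hrb.pullback b' := hrb.lift' (hra.fst' a' ≫ h) (hra.snd a' ≫ h') (by
    rw [Functor.map_comp, Functor.map_comp, Category.assoc, Category.assoc, ← w, ← w', ← Category.assoc,
      sqP.w, Category.assoc])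
  have k1 : k ≫ hrb.fst' b' = hra.fst' a' ≫ h := Functor.relativelyRepresentable.lift'_fst _ _ _ _
  have k2 : k ≫ hrb.snd b' = hra.snd a' ≫ h' := Functor.relativelyRepresentable.lift'_snd _ _ _ _
  have : Etale (hra.fst' a').left := ha'.property _ _ _ sqP.flip
  have : Etale (hra.snd a').left := ha.property_snd a'
  have : Etale (hrb.fst' b').left := hb'.property _ _ _ sqQ.flip
  have : Etale (hrb.snd b').left := hb.property_snd b'
  have s1 := hR h.left k.left (hra.fst' a').left (hrb.fst' b').left (congrArg (fun t => t.left) k1.symm) p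
  have s2 := hR h'.left k.left (hra.snd a').left (hrb.snd b').left (congrArg (fun t => t.left) k2.symm) p
  rw [hp1] at s1
  rw [hp2] at s2
  exact s1.2 (s2.1 H)

theorem hasAtMor_resTrdeg_iff (hX : IsAlgSpace X) (hY : IsAlgSpace Y) (f : X ⟶ Y) {U V : Over S}
    (a : (yon S).obj U ⟶ X) (b : (yon S).obj V ⟶ Y) (h : U ⟶ V) (ha : RepWith @Etale a)
    (hb : RepWith @Etale b) (w : a ≫ f = (yon S).map h ≫ b) (u : ↥U.left) (r : Cardinal.{u}) :
    HasAtMor (fun _ _ h u => Dual3.resTrdeg h u = r) f (Points.ofPt a u) ↔ Dual3.resTrdeg h.left u = r :=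
  hasAtMor_iff_of_square (fun _ _ h u => Dual3.resTrdeg h u = r)
    (fun A B A' B' h k p q _ _ e x => by
      have := lqf_of_unramified p
      have := lqf_of_unramified q
      rw [resTrdeg_eq_of_etale_square p q e x]) hX hY f a b h ha hb w u

theorem resTrdeg_comp_of_lqf (hX : IsAlgSpace X) (hY : IsAlgSpace Y) (hZ : IsAlgSpace Z) {f : X ⟶ Y}
    (g : Y ⟶ Z) (hf : LocP (@LocallyQuasiFinite ⊓ @LocallyOfFiniteType) f) (x : Points X) (r : Cardinal.{u}) :
    HasAtMor (fun _ _ h u => Dual3.resTrdeg h u = r) (f ≫ g) x ↔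
      HasAtMor (fun _ _ h u => Dual3.resTrdeg h u = r) g (Points.map f x) := by
  obtain ⟨C⟩ := nonempty_charts hX hY hZ f g
  obtain ⟨u, rfl⟩ := surjective_ofPt C.a C.a_surj x
  have hh : LocallyQuasiFinite C.h.left := (hf C.a C.b C.h C.a_etale C.b_etale C.wf).1
  rw [Points.map_ofPt, C.wf, ofPt_map C.h C.b u,
    hasAtMor_resTrdeg_iff hX hZ (f ≫ g) C.a C.c (C.h ≫ C.k) C.a_etale C.c_etale
      (by rw [Functor.map_comp, ← Category.assoc, C.wf, Category.assoc, C.wg, Category.assoc]) u r,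
    hasAtMor_resTrdeg_iff hY hZ g C.b C.c C.k C.b_etale C.c_etale C.wg (C.h.left u) r]
  show Dual3.resTrdeg (C.h.left ≫ C.k.left) u = r ↔ _
  rw [resTrdeg_comp, resTrdeg_eq_zero_of_lqf C.h.left, add_zero]

theorem dim_le_of_lqf (hX : IsAlgSpace X) (hY : IsAlgSpace Y) {f : X ⟶ Y}
    (hf : LocP (@LocallyQuasiFinite ⊓ @LocallyOfFiniteType) f) : AlgSp.dim X ≤ AlgSp.dim Y := by
  obtain ⟨V, b, hbe, hbs⟩ := hY.atlas
  obtain ⟨U, a, h, hae, has, w⟩ := exists_chart_over hX hY f b hbe hbs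
  have : LocallyQuasiFinite h.left := (hf a b h hae hbe w).1
  rw [dim_eq_atlas hX a hae has, dim_eq_atlas hY b hbe hbs, DimLib.topologicalKrullDim_eq_krullDim,
    DimLib.topologicalKrullDim_eq_krullDim]
  exact Order.krullDim_le_of_strictMono _ (strictMono_of_lqf h.left)

theorem stalk_dim_le_of_lqf (hX : IsAlgSpace X) (hY : IsAlgSpace Y) {f : X ⟶ Y}
    (hf : LocP (@LocallyQuasiFinite ⊓ @LocallyOfFiniteType) f) (x : Points X) (d e : WithBot ℕ∞)
    (hx : HasAt (fun U u => ringKrullDim ↥(U.presheaf.stalk u) = d) X x)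
    (hy : HasAt (fun V v => ringKrullDim ↥(V.presheaf.stalk v) = e) Y (Points.map f x)) : d ≤ e := by
  obtain ⟨U, V, a, b, h, u, ha, hb, w, rfl⟩ := exists_chart_at hX hY f x
  obtain ⟨U', a', u', ha', e', rfl⟩ := hx
  obtain ⟨V', b', v', hb', e'', rfl⟩ := hy
  rw [Points.map_ofPt, w, ofPt_map h b u] at e''
  have : LocallyQuasiFinite h.left := (hf a b h ha hb w).1
  rw [Stk19b.EtaleDim.ringKrullDim_stalk_eq_of_ofPt hX ha' ha e',
    Stk19b.EtaleDim.ringKrullDim_stalk_eq_of_ofPt hY hb' hb e'', ringKrullDim_stalk_eq_coheight,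
    ringKrullDim_stalk_eq_coheight]
  exact WithBot.coe_le_coe.2 (Order.coheight_le_coheight_apply_of_strictMono _ (strictMono_of_lqf h.left) u)

end Groth.Agent.AlgSpLib
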