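import Groth.Agent.AlgSpLib.SepSplit
import Groth.Agent.AlgSpLib.MonoLft
import Groth.Agent.AlgSpLib.LqfDim
import Groth.Agent.AlgSpLib.DecentPoints
import Groth.Agent.EGA43.DimFormula.Dedekind
import Groth.Agent.AlgSpLib.DimProper

/-!
Injectivity after all etale base changes implies universal injectivity.
-/

universe u

open CategoryTheory CategoryTheory.Limits AlgebraicGeometry IsLocalRing Opposite
open AlgSp

noncomputable section

namespace Groth.Agent.AlgSpLib

set_option backward.isDefEq.respectTransparency.types false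
set_option maxHeartbeats 1000000

/-- the splitting set of a field point with algebraic residue extension -/
theorem exists_split_set {U V : Scheme.{u}} (h : U ⟶ V) [LocallyOfFiniteType h] {K : Type u} [Field K]
    (w : Spec (CommRingCat.of K) ⟶ U) (ht : EGA43.DimFormula.trdAt h (w (closedPoint K)) = 0) :
    ∃ s : Finset K,
      (∀ (v : V) (ι : V.residueField v →+* K), fieldHom v ι = w ≫ h →
        letI := ι.toAlgebra; ∀ e ∈ s, IsSeparable (V.residueField v) e) ∧
      ∀ ⦃U' V' : Scheme.{u}⦄ (pr : U' ⟶ U) (h' : U' ⟶ V') (g : V' ⟶ V), pr ≫ h = h' ≫ g →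
        ∀ (W : Spec (CommRingCat.of K) ⟶ U'), W ≫ pr = w →
        ∀ (v' : V') (τ : V'.residueField v' →+* K), fieldHom v' τ = W ≫ h' → (∀ e ∈ s, e ∈ Set.range τ) →
        ∀ ⦃M : Type u⦄ [Field M] (k : K →+* M) (z : Spec (CommRingCat.of M) ⟶ U'),
          z (closedPoint M) = W (closedPoint K) → z ≫ h' = Spec.map (CommRingCat.ofHom k) ≫ W ≫ h' →
          z ≫ pr = Spec.map (CommRingCat.ofHom k) ≫ w := by
  obtain ⟨u, φ, rfl⟩ := exists_fieldHom w
  rw [fieldHom_apply] at ht
  letI := (h.residueFieldMap u).hom.toAlgebra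
  letI := EGA43.DimFormula.stalkAlgebra h u
  have hlt := EGA43.DimFormula.trdeg_residueFieldMap_lt h u
  haveI : Algebra.IsAlgebraic (V.residueField (h u)) (U.residueField u) := by
    obtain ⟨n, hn⟩ := Cardinal.lt_aleph0.1 hlt
    have h1 : n = 0 := by
      have h2 : (@Algebra.trdeg (V.residueField (h u)) (U.residueField u) _ _
        (h.residueFieldMap u).hom.toAlgebra).toNat = 0 := ht
      rwa [hn, Cardinal.toNat_natCast] at h2
    have h3 : Algebra.trdeg (V.residueField (h u)) (U.residueField u) = 0 := by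
      rw [show Algebra.trdeg (V.residueField (h u)) (U.residueField u) = (n : Cardinal) from hn, h1, Nat.cast_zero]
    exact (trdeg_eq_zero_iff.1 h3)
  haveI : Algebra.EssFiniteType (V.residueField (h u)) (U.residueField u) := by
    obtain ⟨hs, -⟩ := EGA43.DimFormula.stalk_instances h u
    haveI := hs
    let _ : Algebra (V.presheaf.stalk (h u)) (V.residueField (h u)) := (V.residue (h u)).hom.toAlgebra
    let _ : Algebra (U.presheaf.stalk u) (U.residueField u) := (U.residue u).hom.toAlgebra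
    let _ : Algebra (V.presheaf.stalk (h u)) (U.residueField u) :=
      ((U.residue u).hom.comp (h.stalkMap u).hom).toAlgebra
    haveI : IsScalarTower (V.presheaf.stalk (h u)) (U.presheaf.stalk u) (U.residueField u) :=
      .of_algebraMap_eq' rfl
    haveI : IsScalarTower (V.presheaf.stalk (h u)) (V.residueField (h u)) (U.residueField u) :=
      .of_algebraMap_eq fun a => (ConcreteCategory.congr_hom (Scheme.residue_residueFieldMap h u) a).symm
    haveI : Algebra.FiniteType (U.presheaf.stalk u) (U.residueField u) :=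
      RingHom.finiteType_algebraMap.1 (RingHom.FiniteType.of_surjective _ IsLocalRing.residue_surjective)
    haveI : Algebra.EssFiniteType (V.presheaf.stalk (h u)) (U.residueField u) :=
      Algebra.EssFiniteType.comp _ (U.presheaf.stalk u) _
    exact Algebra.EssFiniteType.of_comp (V.presheaf.stalk (h u)) _ _
  obtain ⟨s, hsep, s₀, hs₀, hdet⟩ := exists_determining_set (F := V.residueField (h u)) φ
  refine ⟨s, fun v ι hι => ?_, fun U' V' pr h' g hw W hW v' τ hτ hsτ M _ k z hzp hz => ?_⟩
  · rw [fieldHom_comp] at hι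
    obtain rfl : v = h u := by
      have h3 := congrArg (fun m => m (closedPoint K)) hι
      simpa only [fieldHom_apply] using h3
    obtain rfl := fieldHom_inj hι
    exact hsep
  · obtain ⟨t, α₀, rfl⟩ := exists_fieldHom W
    obtain ⟨t', β, rfl⟩ := exists_fieldHom z
    simp only [fieldHom_apply] at hzp
    subst hzp
    rw [fieldHom_comp] at hW
    obtain rfl : pr t' = u := by
      have h3 := congrArg (fun m => m (closedPoint K)) hW
      simpa only [fieldHom_apply] using h3
    have hφ := fieldHom_inj hW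
    rw [fieldHom_comp] at hτ
    obtain rfl : v' = h' t' := by
      have h3 := congrArg (fun m => m (closedPoint K)) hτ
      simpa only [fieldHom_apply] using h3
    have hτ' := fieldHom_inj hτ
    have hzm := hz
    rw [fieldHom_comp, fieldHom_comp, fieldHom_precomp] at hz
    have hz' := fieldHom_inj hz
    rw [fieldHom_comp, fieldHom_precomp, ← hφ]
    refine congrArg (fieldHom (pr t')) (hdet _ _ ?_ fun x hx => ?_)
    · refine fieldHom_inj (X := V) ?_
      have A := fieldHom_comp h (pr t') (β.comp (pr.residueFieldMap t').hom)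
      have B := fieldHom_comp h (pr t') (k.comp (α₀.comp (pr.residueFieldMap t').hom))
      refine A.symm.trans (Eq.trans ?_ B)
      rw [← fieldHom_comp pr t' β, Category.assoc, hw, ← Category.assoc, hzm, ← fieldHom_precomp,
        ← fieldHom_comp pr t' α₀]
      simp only [Category.assoc, hw]
    · obtain ⟨l, hl⟩ := hsτ _ (hs₀ x hx)
      have e : (pr.residueFieldMap t').hom x = (h'.residueFieldMap t').hom l := by
        refine α₀.injective ?_
        rw [← hφ] at hl
        exact hl.symm.trans (RingHom.congr_fun hτ' l)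
      show β ((pr.residueFieldMap t').hom x) = k (α₀ ((pr.residueFieldMap t').hom x))
      rw [e]
      exact RingHom.congr_fun hz' l

variable {S : Scheme.{u}}

theorem exists_lift_field {A B : Sp S} {a : A ⟶ B} (ha : RepWith @Surjective a) {K : Type u} [Field K]
    {str : Spec (CommRingCat.of K) ⟶ S} (p : (yon S).obj (Over.mk str) ⟶ B) :
    ∃ (K' : Type u) (_ : Field K') (str' : Spec (CommRingCat.of K') ⟶ S) (j : Over.mk str' ⟶ Over.mk str)
      (w : (yon S).obj (Over.mk str') ⟶ A), w ≫ a = (yon S).map j ≫ p := by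
  have sq := ha.1.isPullback p
  have : Surjective (ha.1.snd p).left := ha.property_snd p
  obtain ⟨t, -⟩ := (ha.1.snd p).left.surjective (closedPoint K)
  let T := ha.1.pullback p
  let i : Over.mk (T.left.fromSpecResidueField t ≫ T.hom) ⟶ T := Over.homMk (T.left.fromSpecResidueField t) rfl
  exact ⟨T.left.residueField t, inferInstance, _, i ≫ ha.1.snd p, (yon S).map i ≫ ha.1.fst p,
    by rw [Category.assoc, sq.w, Functor.map_comp, Category.assoc]⟩

/-- two field points over the same point of `V` agree after an extension -/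
theorem exists_eq_after_extension {U V : Over S} {P : AlgSp.Space S} (π : P.obj ⟶ (yon S).obj V)
    (a : (yon S).obj U ⟶ P.obj) (ha : RepWith @Etale a) (has : RepWith @Surjective a) (h : U ⟶ V)
    (hah : a ≫ π = (yon S).map h) [LocallyOfFiniteType h.left]
    (hinj : ∀ (V' : Over S) (g : V' ⟶ V), Etale g.left →
      Function.Injective (Points.map (pullback.snd π ((yon S).map g))))
    (hinj₀ : Function.Injective (Points.map π)) {K : Type u} [Field K] {str : Spec (CommRingCat.of K) ⟶ S}
    (w₁ w₂ : Over.mk str ⟶ U) (hw : w₁ ≫ h = w₂ ≫ h) :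
    ∃ (K' : Type u) (_ : Field K') (str' : Spec (CommRingCat.of K') ⟶ S) (j : Over.mk str' ⟶ Over.mk str),
      (yon S).map (j ≫ w₁) ≫ a = (yon S).map (j ≫ w₂) ≫ a := by
  classical
  have hzero : ∀ u : ↥U.left, EGA43.DimFormula.trdAt h.left u = 0 := fun u => by
    obtain ⟨c, hc1, hc2, hc3⟩ := EGA43.DimFormula.exists_closed_in_fibre h.left u
    have hpt : ∀ x : ↥U.left, Points.map π (Points.ofPt a x) = Points.ofScheme V (h.left x) := fun x => by
      rw [Points.map_ofPt, hah, ← Category.comp_id ((yon S).map h)]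
      erw [ofPt_map]
    have he : Points.ofPt a c = Points.ofPt a u := hinj₀ (by rw [hpt, hpt, hc2])
    have hb : RepWith @Etale (𝟙 ((yon S).obj V)) := repWith_of_isIso _ _
    have w' : a ≫ π = (yon S).map h ≫ 𝟙 _ := by rw [Category.comp_id, hah]
    have h1 := (hasAtMor_resTrdeg_iff P.property (IsAlgSpace.yon_obj V) π a (𝟙 _) h ha hb w' c _).2 rfl
    rw [he] at h1
    have h2 := (hasAtMor_resTrdeg_iff P.property (IsAlgSpace.yon_obj V) π a (𝟙 _) h ha hb w' u _).1 h1
    exact (congrArg Cardinal.toNat h2).trans (trdAt_eq_zero_of_closed_in_fibre h.left c hc3)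
  let W₁ : Spec (CommRingCat.of K) ⟶ U.left := w₁.left
  let W₂ : Spec (CommRingCat.of K) ⟶ U.left := w₂.left
  obtain ⟨s₁, hs₁, hd₁⟩ := exists_split_set h.left W₁ (hzero _)
  obtain ⟨s₂, hs₂, hd₂⟩ := exists_split_set h.left W₂ (hzero _)
  have hW : W₁ ≫ h.left = W₂ ≫ h.left := congrArg (fun m => m.left) hw
  obtain ⟨v, ι, hι⟩ := exists_fieldHom (W₁ ≫ h.left)
  obtain ⟨V₀, g₀, v', τ, hg₀, hτ, hsplit⟩ := exists_etale_split v ι (s₁ ∪ s₂) (fun e he =>
    (Finset.mem_union.1 he).elim (hs₁ v ι hι e) (hs₂ v ι (hι.trans hW) e))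
  let V' : Over S := Over.mk (g₀ ≫ V.hom)
  let g : V' ⟶ V := Over.homMk g₀ rfl
  let U' : Over S := Over.mk (pullback.fst h.left g₀ ≫ U.hom)
  let pr : U' ⟶ U := Over.homMk (pullback.fst h.left g₀) rfl
  let h' : U' ⟶ V' := Over.homMk (pullback.snd h.left g₀) (by
    show pullback.snd h.left g₀ ≫ g₀ ≫ V.hom = pullback.fst h.left g₀ ≫ U.hom
    rw [← pullback.condition_assoc, Over.w h])
  have hcomm : pr ≫ h = h' ≫ g := Over.OverMorphism.ext pullback.condition
  let L₁ : Spec (CommRingCat.of K) ⟶ U'.left := pullback.lift W₁ (fieldHom v' τ) (hι.symm.trans hτ.symm)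
  let L₂ : Spec (CommRingCat.of K) ⟶ U'.left :=
    pullback.lift W₂ (fieldHom v' τ) (hW.symm.trans (hι.symm.trans hτ.symm))
  have hL₁ : L₁ ≫ h'.left = fieldHom v' τ := pullback.lift_snd _ _ _
  have hL₂ : L₂ ≫ h'.left = fieldHom v' τ := pullback.lift_snd _ _ _
  let P' : AlgSp.Space S := ⟨pullback π ((yon S).map g),
    isAlgSpace_pullback (X := P) (Y := ⟨_, IsAlgSpace.yon_obj V'⟩) (Z := ⟨_, IsAlgSpace.yon_obj V⟩) π ((yon S).map g)⟩
  let a' : (yon S).obj U' ⟶ P'.obj := pullback.lift ((yon S).map pr ≫ a) ((yon S).map h')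
    (by rw [Category.assoc, hah, ← Functor.map_comp, ← Functor.map_comp, hcomm])
  have hat : ∀ x : ↥U'.left, Points.map (pullback.snd π ((yon S).map g)) (Points.ofPt a' x) =
      Points.ofPt ((yon S).map h') x := fun x => by
    rw [Points.map_ofPt, pullback.lift_snd]
  have hv : ∀ x : ↥U'.left, h'.left x = v' → Points.ofPt ((yon S).map h') x = Points.ofScheme V' v' := fun x hx => by
    rw [← Category.comp_id ((yon S).map h')]
    erw [ofPt_map]
    rw [Points.ofPt_eq_map_ofScheme, Points.map_id, hx]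
  have e1 : h'.left (L₁ (closedPoint K)) = v' := by
    rw [← Scheme.Hom.comp_apply, hL₁]; exact fieldHom_apply _ _ _
  have e2 : h'.left (L₂ (closedPoint K)) = v' := by
    rw [← Scheme.Hom.comp_apply, hL₂]; exact fieldHom_apply _ _ _
  have heq : Points.ofPt a' (L₁ (closedPoint K)) = Points.ofPt a' (L₂ (closedPoint K)) :=
    hinj V' g hg₀ (by rw [hat, hat, hv _ e1, hv _ e2])
  have hr' := P'.property.representable_from_yon a'
  have sqR := hr'.isPullback' a'
  obtain ⟨r, hr1, hr2⟩ := (ofPt_eq_ofPt_iff sqR _ _).1 heq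
  obtain ⟨ζ, -, hζ⟩ := Scheme.Pullback.exists_preimage_pullback (f := L₁) (g := (hr'.fst' a').left)
    (closedPoint K) r hr1.symm
  let Z := pullback L₁ (hr'.fst' a').left
  let k : (CommRingCat.of K) ⟶ Z.residueField ζ := Spec.preimage (Z.fromSpecResidueField ζ ≫ pullback.fst _ _)
  have hk : Spec.map k = Z.fromSpecResidueField ζ ≫ pullback.fst _ _ := Spec.map_preimage _
  let str' : Spec (CommRingCat.of (Z.residueField ζ)) ⟶ S := Spec.map k ≫ str
  let j : Over.mk str' ⟶ Over.mk str := Over.homMk (Spec.map k) rfl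
  let ρ : Spec (CommRingCat.of (Z.residueField ζ)) ⟶ (hr'.pullback a').left :=
    Z.fromSpecResidueField ζ ≫ pullback.snd _ _
  have hρ1 : ρ ≫ (hr'.fst' a').left = Spec.map k ≫ L₁ := by
    rw [hk, Category.assoc, Category.assoc, pullback.condition]
  have hρw : ρ ≫ (hr'.pullback a').hom = str' := by
    rw [← Over.w (hr'.fst' a'), ← Category.assoc, hρ1]
    show (Spec.map k ≫ L₁) ≫ pullback.fst h.left g₀ ≫ U.hom = Spec.map k ≫ str
    rw [Category.assoc, ← Category.assoc L₁, pullback.lift_fst]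
    exact congrArg (Spec.map k ≫ ·) (Over.w w₁)
  let ρ' : Over.mk str' ⟶ hr'.pullback a' := Over.homMk ρ hρw
  have hsame : hr'.fst' a' ≫ h' = hr'.snd a' ≫ h' := (yon S).map_injective (by
    have h1 := congrArg (· ≫ pullback.snd π ((yon S).map g)) sqR.w
    simp only [Category.assoc] at h1
    erw [pullback.lift_snd] at h1
    rw [Functor.map_comp, Functor.map_comp]
    exact h1)
  let z : Spec (CommRingCat.of (Z.residueField ζ)) ⟶ U'.left := ρ ≫ (hr'.snd a').left
  have hzp : z (closedPoint (Z.residueField ζ)) = L₂ (closedPoint K) := by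
    rw [Scheme.Hom.comp_apply, ← hr2]
    congr 1
    rw [Scheme.Hom.comp_apply, Scheme.fromSpecResidueField_apply, hζ]
  have hzh : z ≫ h'.left = Spec.map k ≫ L₂ ≫ h'.left := by
    rw [hL₂, ← hL₁, Category.assoc, ← Category.assoc (Spec.map k), ← hρ1, Category.assoc]
    exact congrArg (ρ ≫ ·) (congrArg (fun m => m.left) hsame).symm
  have hz := hd₂ pr.left h'.left g₀ pullback.condition L₂ (pullback.lift_fst _ _ _) v' τ hL₂.symm
    (fun e he => hsplit e (Finset.mem_union_right _ he)) k.hom z hzp hzh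
  refine ⟨Z.residueField ζ, inferInstance, str', j, ?_⟩
  have f1 : j ≫ w₁ = (ρ' ≫ hr'.fst' a') ≫ pr := Over.OverMorphism.ext (by
    show Spec.map k ≫ W₁ = (ρ ≫ (hr'.fst' a').left) ≫ pullback.fst h.left g₀
    rw [hρ1, Category.assoc, pullback.lift_fst])
  have f2 : j ≫ w₂ = (ρ' ≫ hr'.snd a') ≫ pr := Over.OverMorphism.ext hz.symm
  have ha' : ∀ {T : Over S} (m : T ⟶ U'), (yon S).map (m ≫ pr) ≫ a = ((yon S).map m ≫ a') ≫ pullback.fst _ _ :=
    fun m => by
      rw [Category.assoc, pullback.lift_fst, Functor.map_comp, Category.assoc]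
  rw [f1, f2, ha', ha', Functor.map_comp, Functor.map_comp, Category.assoc ((yon S).map ρ'), Category.assoc ((yon S).map ρ'), sqR.w]
  simp only [Category.assoc]

theorem isUnivInjective_of_injective_etale {X Y : AlgSp.Space S} (f : X ⟶ Y)
    (hft : LocP @LocallyOfFiniteType f.hom)
    (hinj : ∀ (V : AlgSp.Space S) (g : V ⟶ Y), IsEtaleMor g.hom →
      ∀ (P : Sp S) (fst : P ⟶ X.obj) (snd : P ⟶ V.obj), IsPullback fst snd f.hom g.hom →
        Function.Injective (Points.map snd)) : IsUnivInjectiveMor f.hom := by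
  refine univInjective_of_surjective_diagonal X.property fun pt => ?_
  obtain ⟨K, _, str, m, rfl⟩ := exists_ptOfHom pt
  obtain ⟨V, b, hbe, hbs⟩ := Y.property.atlas
  obtain ⟨K₁, _, str₁, j₁, c, hc⟩ := exists_lift_field hbs (m ≫ pullback.fst f.hom f.hom ≫ f.hom)
  let P : AlgSp.Space S := ⟨pullback f.hom b,
    isAlgSpace_pullback (X := X) (Y := ⟨_, IsAlgSpace.yon_obj V⟩) (Z := Y) f.hom b⟩
  let π : P.obj ⟶ (yon S).obj V := pullback.snd f.hom b
  let p₁ : (yon S).obj (Over.mk str₁) ⟶ P.obj := pullback.lift ((yon S).map j₁ ≫ m ≫ pullback.fst f.hom f.hom) c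
    (by rw [hc, Category.assoc, Category.assoc])
  let p₂ : (yon S).obj (Over.mk str₁) ⟶ P.obj := pullback.lift ((yon S).map j₁ ≫ m ≫ pullback.snd f.hom f.hom) c
    (by rw [hc, Category.assoc, Category.assoc, pullback.condition])
  obtain ⟨U, a, hae, has⟩ := P.property.atlas
  obtain ⟨h, hh⟩ := (yon S).map_surjective (a ≫ π)
  have : LocallyOfFiniteType h.left := by
    have hPX : RepWith @Etale (pullback.fst f.hom b) := RepWith.baseChange (IsPullback.of_hasPullback f.hom b).flip hbe
    exact hft (a ≫ pullback.fst f.hom b) b h (RepWith.comp hae hPX) hbe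
      (by rw [Category.assoc, pullback.condition, ← Category.assoc, hh])
  have hbE : IsEtaleMor b := fun T φ hφ => RepWith.comp hφ hbe
  have hinj₀ : Function.Injective (Points.map π) :=
    hinj ⟨_, IsAlgSpace.yon_obj V⟩ (ObjectProperty.homMk b) hbE _ _ _ (IsPullback.of_hasPullback f.hom b)
  have hinj₁ : ∀ (V' : Over S) (g : V' ⟶ V), Etale g.left →
      Function.Injective (Points.map (pullback.snd π ((yon S).map g))) := fun V' g hg => by
    have hgE : IsEtaleMor ((yon S).map g ≫ b) := fun T φ hφ =>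
      RepWith.comp hφ (RepWith.comp ((repWith_yon_map_iff (P := @Etale) g).2 hg) hbe)
    exact hinj ⟨_, IsAlgSpace.yon_obj V'⟩ (ObjectProperty.homMk ((yon S).map g ≫ b)) hgE _ _ _
      ((IsPullback.of_hasPullback π ((yon S).map g)).paste_horiz (IsPullback.of_hasPullback f.hom b))
  obtain ⟨K₂, _, str₂, j₂, w₁, hw₁⟩ := exists_lift_field has p₁
  obtain ⟨K₃, _, str₃, j₃, w₂, hw₂⟩ := exists_lift_field has ((yon S).map j₂ ≫ p₂)
  obtain ⟨W₁, hW₁⟩ := (yon S).map_surjective ((yon S).map j₃ ≫ w₁)
  obtain ⟨W₂, hW₂⟩ := (yon S).map_surjective w₂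
  have hW : W₁ ≫ h = W₂ ≫ h := (yon S).map_injective (by
    rw [Functor.map_comp, Functor.map_comp, hW₁, hW₂, hh, Category.assoc, reassoc_of% hw₁, reassoc_of% hw₂]
    simp only [π, p₁, p₂, pullback.lift_snd])
  obtain ⟨K₄, _, str₄, j₄, he⟩ := exists_eq_after_extension π a hae has h hh.symm hinj₁ hinj₀ W₁ W₂ hW
  rw [Functor.map_comp, Functor.map_comp, hW₁, hW₂] at he
  have he' := congrArg (· ≫ pullback.fst f.hom b) he
  simp only [Category.assoc, reassoc_of% hw₁, reassoc_of% hw₂] at he'
  simp only [p₁, p₂, pullback.lift_fst] at he'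
  let J := (j₄ ≫ j₃ ≫ j₂) ≫ j₁
  refine ⟨ptOfHom ((yon S).map J ≫ m ≫ pullback.fst f.hom f.hom), ?_⟩
  rw [map_ptOfHom]
  refine Eq.trans (congrArg ptOfHom ?_) (ptOfHom_map m J)
  apply pullback.hom_ext
  · simp
  · simp only [Category.assoc, pullback.diagonal_snd, Category.comp_id]
    simpa [J] using he'

end Groth.Agent.AlgSpLib
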