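import Mathlib
import Groth.Agent.Misc15.GenericPoints
import Groth.Agent.HenselLib.SepClosedGeneric

/-! Integral birational morphisms onto normal schemes with finitely many components. -/

set_option autoImplicit false
set_option backward.isDefEq.respectTransparency.types false
universe u
open CategoryTheory AlgebraicGeometry

namespace Groth.Agent.AlgSpLib.IntegralBirat

/-- the integral case -/
theorem isIso_of_integral {Y' Y : Scheme.{u}} [IsIntegral Y'] [IsIntegral Y]
    (hN : ∀ y : Y, IsIntegrallyClosed (Y.presheaf.stalk y)) (u : Y' ⟶ Y) [IsIntegralHom u]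
    (hgen : u (genericPoint Y') = genericPoint Y)
    (hbir : IsIso (u.stalkMap (genericPoint Y'))) : IsIso u := by
  have hy₀ : u (genericPoint Y') = genericPoint Y := hgen
  have hsurj : ∀ U : Y.Opens, IsAffineOpen U → Function.Surjective (u.app U).hom := by
    intro U hU
    by_cases hne : (U : Set Y).Nonempty
    swap
    · have : u ⁻¹ᵁ U = ⊥ := by
        ext x; simp only [TopologicalSpace.Opens.coe_bot, Set.mem_empty_iff_false, iff_false]
        exact fun h ↦ hne ⟨u x, h⟩
      intro b
      refine ⟨0, ?_⟩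
      have : Subsingleton Γ(Y', u ⁻¹ᵁ U) := by
        rw [this]; exact (inferInstance : Subsingleton Γ(Y', ⊥))
      exact Subsingleton.elim _ _
    obtain ⟨x₀, hx₀⟩ := hne
    have : Nonempty U := ⟨⟨x₀, hx₀⟩⟩
    have hηU : genericPoint Y ∈ U := (genericPoint_specializes x₀).mem_open U.isOpen hx₀
    let y := u (genericPoint Y')
    have hyU : y ∈ U := by show u _ ∈ U; rw [hy₀]; exact hηU
    let : Algebra Γ(Y, U) (Y.presheaf.stalk y) := (Y.presheaf.germ U y hyU).hom.toAlgebra
    have hfr : IsFractionRing Γ(Y, U) (Y.presheaf.stalk y) := by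
      have key : ∀ (z : Y) (hz : z ∈ U), z = genericPoint Y →
          letI : Algebra Γ(Y, U) (Y.presheaf.stalk z) := (Y.presheaf.germ U z hz).hom.toAlgebra
          IsFractionRing Γ(Y, U) (Y.presheaf.stalk z) := by
        rintro z hz rfl
        exact functionField_isFractionRing_of_isAffineOpen Y U hU
      exact key y hyU hy₀
    have : IsDomain Γ(Y, U) := inferInstance
    have : IsIntegrallyClosed Γ(Y, U) := IsIntegrallyClosed.of_localization_maximal fun p _ hp ↦ by
      let P : PrimeSpectrum Γ(Y, U) := ⟨p, hp.isPrime⟩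
      obtain ⟨z, hz, hzP⟩ : ∃ (z : Y) (hz : z ∈ U), hU.primeIdealOf ⟨z, hz⟩ = P := by
        refine ⟨hU.fromSpec P, hU.range_fromSpec.le (Set.mem_range_self _), ?_⟩
        exact hU.fromSpec.isOpenEmbedding.injective (hU.fromSpec_primeIdealOf _)
      let : Algebra Γ(Y, U) (Y.presheaf.stalk z) := (Y.presheaf.germ U z hz).hom.toAlgebra
      have hloc := hU.isLocalization_stalk ⟨z, hz⟩
      rw [hzP] at hloc
      have := hN z
      exact IsIntegrallyClosed.of_equiv
        (@IsLocalization.algEquiv Γ(Y, U) _ p.primeCompl (Y.presheaf.stalk z) _ _ hloc (Localization p.primeCompl) _ _ _).toRingEquiv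
    intro b
    have hmem : genericPoint Y' ∈ u ⁻¹ᵁ U := hyU
    obtain ⟨x, hx⟩ := ((ConcreteCategory.isIso_iff_bijective (u.stalkMap (genericPoint Y'))).mp hbir).2
      (Y'.presheaf.germ (u ⁻¹ᵁ U) _ hmem b)
    have hint : IsIntegral Γ(Y, U) x := by
      obtain ⟨q, hq, hqb⟩ := (u.isIntegral_app U hU) b
      refine ⟨q, hq, ?_⟩
      apply ((ConcreteCategory.isIso_iff_bijective (u.stalkMap (genericPoint Y'))).mp hbir).1
      rw [map_zero]
      refine (Polynomial.hom_eval₂ q _ (u.stalkMap (genericPoint Y')).hom x).trans ?_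
      have : (u.stalkMap (genericPoint Y')).hom.comp (algebraMap Γ(Y, U) (Y.presheaf.stalk y)) =
          (Y'.presheaf.germ (u ⁻¹ᵁ U) _ hmem).hom.comp (u.app U).hom := by
        ext a; exact Scheme.Hom.germ_stalkMap_apply u U (genericPoint Y') hmem a
      rw [this, hx]
      refine (Polynomial.hom_eval₂ q (u.app U).hom (Y'.presheaf.germ (u ⁻¹ᵁ U) _ hmem).hom b).symm.trans ?_
      rw [hqb, map_zero]
    obtain ⟨a, ha⟩ := IsIntegrallyClosed.isIntegral_iff.mp hint
    refine ⟨a, germ_injective_of_isIntegral Y' (genericPoint Y') hmem ?_⟩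
    rw [← hx, ← ha]
    exact (Scheme.Hom.germ_stalkMap_apply u U (genericPoint Y') hmem a).symm
  have : IsClosedImmersion u := by
    rw [HasAffineProperty.eq_targetAffineLocally (P := @IsClosedImmersion)]
    intro U
    have : IsAffine (u ⁻¹ᵁ U.1 : Scheme.{u}) := U.2.preimage u
    refine ⟨inferInstance, ?_⟩
    rw [Scheme.Hom.appTop, morphismRestrict_app]
    refine (RingHom.surjective_respectsIso.cancel_right_isIso _ _).mpr (hsurj _ ?_)
    rw [U.1.ι_image_top]; exact U.2
  have : Surjective u := by
    refine ⟨fun y ↦ ?_⟩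
    have hc : IsClosed (Set.range u) := u.isClosedEmbedding.isClosed_range
    have : genericPoint Y ∈ Set.range u := ⟨_, hy₀⟩
    exact (genericPoint_specializes y).mem_closed hc this
  exact isIso_of_isClosedImmersion_of_surjective u

/-- the case of finitely many components -/
theorem isIso_of_finite_components {U V : Scheme.{u}} [IsReduced U] (f : U ⟶ V) [IsIntegralHom f]
    (hVf : (irreducibleComponents (V : Type u)).Finite)
    (hN : ∀ v : V, IsDomain (V.presheaf.stalk v) ∧ IsIntegrallyClosed (V.presheaf.stalk v))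
    (hbij : Set.BijOn (fun x : U => f.base x) {u | closure {u} ∈ irreducibleComponents (U : Type u)}
      {v | closure {v} ∈ irreducibleComponents (V : Type u)})
    (hiso : ∀ x : U, closure {x} ∈ irreducibleComponents (U : Type u) → IsIso (f.stalkMap x)) : IsIso f := by
  classical
  let G := {v : V | closure {v} ∈ irreducibleComponents (V : Type u)}
  have huniq : ∀ η ∈ G, ∀ η' ∈ G, ∀ v : V, η ⤳ v → η' ⤳ v → η = η' := fun η hη η' hη' v h h' =>
    haveI := (hN v).1
    HenselLib.eq_of_specializes_of_isDomain_stalk v ((Misc15.closure_mem_components_iff η).1 hη)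
      ((Misc15.closure_mem_components_iff η').1 hη') h h'
  have hG : G.Finite := Misc15.finite_generic_points hVf
  let W : G → V.Opens := fun η => ⟨closure {η.1}, by
    have e : closure {η.1} = (⋃ η' ∈ G \ {η.1}, closure ({η'} : Set V))ᶜ := by
      ext v
      simp only [Set.mem_compl_iff, Set.mem_iUnion, not_exists]
      constructor
      · intro hv η' hη' hv'
        exact hη'.2 (huniq η' hη'.1 η.1 η.2 v (specializes_iff_mem_closure.2 hv') (specializes_iff_mem_closure.2 hv))
      · intro h
        obtain ⟨w, hw, hwv⟩ := Misc15.exists_generic_specializes v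
        by_cases he : w = η.1
        · exact he ▸ specializes_iff_mem_closure.1 hwv
        · exact absurd (specializes_iff_mem_closure.1 hwv) (h w ⟨hw, he⟩)
    rw [e]
    exact ((hG.subset Set.sdiff_subset).isClosed_biUnion fun _ _ => isClosed_closure).isOpen_compl⟩
  have hsup : iSup W = ⊤ := top_le_iff.1 fun v _ => by
    obtain ⟨w, hw, hwv⟩ := Misc15.exists_generic_specializes v
    exact TopologicalSpace.Opens.mem_iSup.2 ⟨⟨w, hw⟩, specializes_iff_mem_closure.1 hwv⟩
  refine (IsZariskiLocalAtTarget.iff_of_iSup_eq_top (P := MorphismProperty.isomorphisms Scheme.{u}) W hsup).2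
    fun η => ?_
  show IsIso (f ∣_ W η)
  obtain ⟨x, hx, hxη'⟩ := hbij.surjOn η.2
  have hxη : f x = η.1 := hxη'
  haveI : ∀ v : (W η).toScheme, _root_.IsReduced ((W η).toScheme.presheaf.stalk v) := fun v =>
    haveI := (hN v.1).1
    isReduced_of_injective ((W η).stalkIso v).hom.hom (ConcreteCategory.bijective_of_isIso ((W η).stalkIso v).hom).1
  haveI : IsReduced (W η).toScheme := isReduced_of_isReduced_stalk _
  have hηW : η.1 ∈ W η := subset_closure rfl
  haveI : IrreducibleSpace (W η).toScheme :=
    haveI := (isIrreducible_singleton (x := η.1)).closure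
    { toPreirreducibleSpace := Subtype.preirreducibleSpace this.2
      toNonempty := ⟨⟨η.1, hηW⟩⟩ }
  haveI : IsIntegral (W η).toScheme := isIntegral_of_irreducibleSpace_of_isReduced _
  have hxW : x ∈ f ⁻¹ᵁ W η := by show f x ∈ W η; exact by rw [hxη]; exact hηW
  have hgen : ∀ y : U, f y ∈ W η → x ⤳ y := by
    intro y hy
    obtain ⟨w, hw, hwy⟩ := Misc15.exists_generic_specializes y
    have h1 : f w = η.1 := huniq _ (hbij.mapsTo hw) η.1 η.2 (f y) (hwy.map f.continuous)
      (specializes_iff_mem_closure.2 hy)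
    have : w = x := hbij.injOn hw hx (h1.trans hxη.symm)
    exact this ▸ hwy
  let x' : (f ⁻¹ᵁ W η).toScheme := ⟨x, hxW⟩
  have hgp : IsGenericPoint x' (Set.univ : Set (f ⁻¹ᵁ W η).toScheme) := by
    refine Set.eq_univ_of_forall fun y => ?_
    exact specializes_iff_mem_closure.1
      ((f ⁻¹ᵁ W η).ι.isOpenEmbedding.isInducing.specializes_iff.1 (hgen y.1 y.2))
  haveI : IrreducibleSpace (f ⁻¹ᵁ W η).toScheme :=
    { toPreirreducibleSpace := ⟨hgp.isIrreducible.2⟩
      toNonempty := ⟨x'⟩ }
  haveI : IsReduced (f ⁻¹ᵁ W η).toScheme := isReduced_of_isOpenImmersion (f ⁻¹ᵁ W η).ι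
  haveI : IsIntegral (f ⁻¹ᵁ W η).toScheme := isIntegral_of_irreducibleSpace_of_isReduced _
  have egp : genericPoint (f ⁻¹ᵁ W η).toScheme = x' := (genericPoint_spec _).eq hgp
  have hgpη : IsGenericPoint (⟨η.1, hηW⟩ : (W η).toScheme) Set.univ := by
    refine Set.eq_univ_of_forall fun y => ?_
    exact specializes_iff_mem_closure.1
      ((W η).ι.isOpenEmbedding.isInducing.specializes_iff.1 (specializes_iff_mem_closure.2 y.2))
  haveI : IsIntegralHom (f ∣_ W η) := IsZariskiLocalAtTarget.restrict (P := @IsIntegralHom) inferInstance _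
  refine isIso_of_integral (fun v => ?_) (f ∣_ W η) ?_ ?_
  · haveI := (hN v.1).2
    exact IsIntegrallyClosed.of_equiv ((W η).stalkIso v).symm.commRingCatIsoToRingEquiv
  · rw [egp]
    refine IsGenericPoint.eq ?_ (genericPoint_spec _)
    have e : (f ∣_ W η) x' = ⟨η.1, hηW⟩ := Subtype.ext ((morphismRestrict_base_coe f (W η) x').trans hxη)
    rw [e]; exact hgpη
  · rw [egp]
    haveI := hiso x hx
    exact (MorphismProperty.arrow_mk_iso_iff (MorphismProperty.isomorphisms CommRingCat.{u})
      (morphismRestrictStalkMap f (W η) x')).2 this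

end Groth.Agent.AlgSpLib.IntegralBirat
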