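import Groth.Agent.AlgSpLib.DecentTop
import Groth.Agent.AlgSpLib.EtLocalInst

/-!
Jacobson algebraic spaces and morphisms locally of finite type.
-/

universe u

open CategoryTheory CategoryTheory.Limits AlgebraicGeometry Opposite
open AlgSp

noncomputable section

namespace Groth.Agent.AlgSpLib

set_option backward.isDefEq.respectTransparency.types false

variable {S : Scheme.{u}} {X Y : Sp S}

theorem jacobson_of_lft (hX : IsAlgSpace X) (hY : IsAlgSpace Y) (hJ : EtaleLocally (fun U => JacobsonSpace ↥U) X)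
    {f : Y ⟶ X} (hf : LocP @LocallyOfFiniteType f) : EtaleLocally (fun U => JacobsonSpace ↥U) Y := by
  obtain ⟨V, b, hbe, hbs, hV⟩ := hJ
  obtain ⟨U, a, h, hae, has, w⟩ := exists_chart_over hY hX f b hbe hbs
  have : LocallyOfFiniteType h.left := hf a b h hae hbe w
  have : JacobsonSpace ↥V.left := hV
  exact ⟨U, a, hae, has, LocallyOfFiniteType.jacobsonSpace h.left⟩

/-- chart points over a finite type point are closed in a Jacobson chart -/
theorem isClosed_chart_point {U V : Over S} (a : (yon S).obj U ⟶ X) (b : (yon S).obj V ⟶ X)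
    (ha : RepWith @Etale a) (hbe : RepWith @Etale b) [JacobsonSpace ↥V.left] {u : ↥U.left}
    (hu : IsClosed ({u} : Set ↥U.left)) {v : ↥V.left} (hv : Points.ofPt b v = Points.ofPt a u) :
    IsClosed ({v} : Set ↥V.left) := by
  have sq := ha.1.isPullback' b
  have het1 : Etale (ha.1.fst' b).left := hbe.property _ _ _ sq.flip
  have het2 : Etale (ha.1.snd b).left := ha.property_snd b
  obtain ⟨r, hr1, hr2⟩ := (ofPt_eq_ofPt_iff sq u v).1 hv.symm
  have := locallyQuasiFinite_of_etale (ha.1.fst' b).left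
  have hd' := (ha.1.fst' b).left.isDiscrete_preimage_singleton u
  have hr : IsClosed ({r} : Set ↥(ha.1.pullback b).left) := by
    have hF : IsClosed ((ha.1.fst' b).left ⁻¹' {u}) := hu.preimage (ha.1.fst' b).left.continuous
    have := isDiscrete_iff_discreteTopology.1 hd'
    have h : IsClosed ({⟨r, hr1⟩} : Set ((ha.1.fst' b).left ⁻¹' {u})) := isClosed_discrete _
    have h' := hF.isClosedEmbedding_subtypeVal.isClosedMap _ h
    rwa [Set.image_singleton] at h'
  rw [← hr2]
  exact (ha.1.snd b).left.closePoints_subset_preimage_closedPoints hr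

theorem exists_closedPoint_over_ftPt (hX : IsAlgSpace X) (hJ : EtaleLocally (fun U => JacobsonSpace ↥U) X)
    {x : Points X} (hx : HasAt (fun U u => IsClosed ({u} : Set ↥U)) X x) {W : Over S}
    (g : (yon S).obj W ⟶ X) (hg : LocP @LocallyOfFiniteType g) (hxW : x ∈ Set.range (Points.ofPt g)) :
    ∃ w : ↥W.left, IsClosed ({w} : Set ↥W.left) ∧ Points.ofPt g w = x := by
  obtain ⟨U₁, a₁, u₁, ha₁, rfl, hu₁⟩ := hx
  obtain ⟨V, b, hbe, hbs, hV⟩ := id hJ
  have : JacobsonSpace ↥V.left := hV
  have : JacobsonSpace ↥W.left := by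
    have hW := (jacobson_iff (IsAlgSpace.yon_obj W) (isDecent_yon W)).1
      (jacobson_of_lft hX (IsAlgSpace.yon_obj W) hJ hg)
    exact JacobsonSpace.of_isClosedEmbedding (Points.schemeHomeo W).isClosedEmbedding
  obtain ⟨w, hw⟩ := hxW
  have sq := hbe.1.isPullback' g
  let h := hbe.1.fst' g
  let t := hbe.1.snd g
  have : Etale t.left := hbe.property_snd g
  have : LocallyOfFiniteType h.left := hg ((yon S).map t) b h
    ((repWith_yon_map_iff (P := @Etale) t).2 inferInstance) hbe sq.w.symm
  have : JacobsonSpace ↥(hbe.1.pullback g).left := LocallyOfFiniteType.jacobsonSpace h.left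
  obtain ⟨v, hv⟩ := surjective_ofPt b hbs (Points.ofPt g w)
  obtain ⟨r, hr1, -⟩ := (ofPt_eq_ofPt_iff sq v w).1 hv
  have hvc := isClosed_chart_point a₁ b ha₁ hbe hu₁ (hv.trans hw)
  obtain ⟨r', hr', hrc⟩ := nonempty_inter_closedPoints (Z := h.left ⁻¹' {v}) ⟨r, hr1⟩
    (hvc.preimage h.left.continuous).isLocallyClosed
  refine ⟨t.left r', t.left.closePoints_subset_preimage_closedPoints hrc, ?_⟩
  rw [← (ofPt_eq_ofPt_iff sq v (t.left r')).2 ⟨r', hr', rfl⟩, hv, hw]

end Groth.Agent.AlgSpLib
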