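import Groth.Agent.AlgSpLib.LCIDescent
import Groth.Agent.AlgSpLib.FpqcBaseLocP
import Groth.Agent.AlgSpLib.FlatAt
import Groth.Agent.AlgSpLib.MorProper
import Groth.Agent.FlatMor12.KoszulSource
import Groth.Agent.S8658
import Groth.Agent.S8662
import Groth.Agent.S9699

/-!
Local complete intersection morphisms of algebraic spaces: flat base change and fpqc descent.
-/

universe u

open CategoryTheory CategoryTheory.Limits AlgebraicGeometry
open AlgSp
open Groth.Agent.Synt15 Groth.Agent.FlatMorKoszul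

noncomputable section

namespace Groth.Agent.AlgSpLib

set_option backward.isDefEq.respectTransparency.types false

theorem lci_of_etale_cover {T U R V : Scheme.{u}} (π : T ⟶ U) [Etale π] [Surjective π] (ρ : T ⟶ R)
    [Etale ρ] (k : R ⟶ V) (h : U ⟶ V) (e : π ≫ h = ρ ≫ k) (hk : lci k) : lci h := by
  refine fun u => FlatMor12.KoszulSource.isKoszulAt_of_syntomic_precomp π (Groth.Agent.S9699.result π) h (fun t => ?_) u
  rw [e]
  exact isKoszulAt_of_isKoszulPt _
    (isKoszulPt_comp ρ k (isKoszulPt_of_smooth _ _) (isKoszulPt_of_isKoszulAt _ (hk _)))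

theorem lci_of_etale_baseChange {U U' V V' : Scheme.{u}} {fst : U' ⟶ U} {snd : U' ⟶ V'} {h : U ⟶ V}
    {π : V' ⟶ V} [Etale π] [Surjective π] (sq : IsPullback fst snd h π) (hs : lci snd) : lci h := by
  have : Etale fst := MorphismProperty.of_isPullback (P := @Etale) sq.flip ‹_›
  have : Surjective fst := MorphismProperty.of_isPullback (P := @Surjective) sq.flip ‹_›
  have : LocallyOfFiniteType h := by
    have : LocallyOfFiniteType snd :=
      locallyOfFiniteType_of_isKoszulPt _ fun z => isKoszulPt_of_isKoszulAt _ (hs z)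
    have : LocallyOfFiniteType (fst ≫ h) := by rw [sq.w]; infer_instance
    exact lft_of_comp_fppf fst h ‹_›
  refine fun x => isKoszulAt_of_baseChange h π (fun z => ?_) x
  rw [← sq.isoPullback_inv_snd]
  exact isKoszulAt_of_isKoszulPt _
    (isKoszulPt_comp _ _ (isKoszulPt_of_smooth _ _) (isKoszulPt_of_isKoszulAt _ (hs _)))

variable {S : Scheme.{u}} {X Y : Sp S}

/-- lci on an etale cover of the pullback along a chart gives lci on every chart over it -/
theorem lci_of_chart_cover (hX : IsAlgSpace X) (hY : IsAlgSpace Y) (f : X ⟶ Y) {V : Over S}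
    (b : (yon S).obj V ⟶ Y) (hb : RepWith @Etale b) {R : Over S} (e : (yon S).obj R ⟶ pullback f b)
    (he : RepWith @Etale e) (hes : RepWith @Surjective e) (k : R ⟶ V)
    (hk : e ≫ pullback.snd f b = (yon S).map k) (hlci : lci k.left) {U : Over S}
    (a : (yon S).obj U ⟶ X) (h : U ⟶ V) (ha : RepWith @Etale a)
    (w : a ≫ f = (yon S).map h ≫ b) : lci h.left := by
  have sqQ := IsPullback.of_hasPullback f b
  have hQ : IsAlgSpace (pullback f b) :=
    isAlgSpace_of_isPullback hY.diag hX (IsAlgSpace.yon_obj V) sqQ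
  let q₁ : (yon S).obj U ⟶ pullback f b := sqQ.lift a ((yon S).map h) w
  have hq₁ : RepWith @Etale q₁ := by
    refine repWith_etale_of_comp_etale (IsAlgSpace.yon_obj U) hQ hX (hQ.representable_from_yon q₁)
      (g := pullback.fst f b) ?_ (locP_of_repWith etLocal_etale hQ (RepWith.baseChange sqQ.flip hb))
    rw [sqQ.lift_fst]
    exact locP_of_repWith etLocal_etale (IsAlgSpace.yon_obj U) ha
  have hr := hQ.representable_from_yon e
  have sq := hr.isPullback' q₁
  have : Etale (hr.snd q₁).left := he.property_snd _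
  have : Surjective (hr.snd q₁).left := hes.property _ _ _ (hr.isPullback q₁)
  have : Etale (hr.fst' q₁).left := hq₁.property _ _ _ sq.flip
  refine lci_of_etale_cover (hr.snd q₁).left (hr.fst' q₁).left k.left h.left ?_ hlci
  rw [← Over.comp_left, ← Over.comp_left]
  refine congrArg CommaMorphism.left ((yon S).map_injective ?_)
  rw [Functor.map_comp, Functor.map_comp, ← hk, ← Category.assoc ((yon S).map (hr.fst' q₁)), sq.w,
    Category.assoc, sqQ.lift_snd]

theorem isLCIMor_of_flat_baseChange (hX : IsAlgSpace X) (hY : IsAlgSpace Y) {X' Y' : Sp S}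
    (hX' : IsAlgSpace X') (hY' : IsAlgSpace Y') {f : X ⟶ Y} {g : Y' ⟶ Y} {g' : X' ⟶ X} {p : X' ⟶ Y'}
    (sq : IsPullback g' p f g) (hg : LocP @Flat g) (hf : LocP lci f) : LocP lci p := by
  intro U V a b l ha hb w
  obtain ⟨W, c, hce, hcs⟩ := hY.atlas
  have hr := hY.representable_from_yon c
  have sqV := hr.isPullback' (b ≫ g)
  let ρ := hr.fst' (b ≫ g)
  let π := hr.snd (b ≫ g)
  have : Etale π.left := hce.property_snd _
  have : Surjective π.left := hcs.property _ _ _ (hr.isPullback (b ≫ g))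
  let b'' := (yon S).map π ≫ b
  have hb'' : RepWith @Etale b'' := RepWith.comp ((repWith_yon_map_iff _ π).2 ‹Etale π.left›) hb
  have ew : b'' ≫ g = (yon S).map ρ ≫ c := by rw [Category.assoc]; exact sqV.w.symm
  have : Flat ρ.left := hg b'' c ρ hb'' hce ew
  -- a chart of f over W
  have sqW := IsPullback.of_hasPullback f c
  obtain ⟨UW, ψ, hψe, hψs⟩ := (isAlgSpace_of_isPullback hY.diag hX (IsAlgSpace.yon_obj W) sqW).atlas
  obtain ⟨hW, hhW⟩ := (yon S).map_surjective (ψ ≫ pullback.snd f c)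
  have hlW : lci hW.left := hf (ψ ≫ pullback.fst f c) c hW
    (RepWith.comp hψe (RepWith.baseChange sqW.flip hce)) hce
    (by rw [hhW, Category.assoc, Category.assoc, sqW.w])
  -- its base change
  have sqR := IsPullback.of_hasPullback hW ρ
  have sqT : IsPullback (pullback.fst p b'' ≫ g') (pullback.snd p b'') f ((yon S).map ρ ≫ c) := by
    rw [← ew]; exact (IsPullback.of_hasPullback p b'').paste_horiz sq
  obtain ⟨e, -, he2, he⟩ := exists_baseChange_chart hhW.symm sqR sqT (P := @Etale ⊓ @Surjective)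
    (RepWith.and hψe hψs)
  have sqR' : IsPullback (pullback.fst hW ρ).left (pullback.snd hW ρ).left hW.left ρ.left :=
    sqR.map (Over.forget S)
  have hlR : lci (pullback.snd hW ρ).left := S8658.result hW.left ρ.left _ _ sqR' hlW
  -- the chart over V, pulled back
  have sU := IsPullback.of_hasPullback l π
  have sU' : IsPullback (pullback.fst l π).left (pullback.snd l π).left l.left π.left :=
    sU.map (Over.forget S)
  have hE : Etale (pullback.fst l π).left :=
    MorphismProperty.of_isPullback (P := @Etale) sU'.flip ‹Etale π.left›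
  refine lci_of_etale_baseChange sU' (lci_of_chart_cover hX' hY' p b'' hb'' e
    (RepWith.mono inf_le_left he) (RepWith.mono inf_le_right he) _ he2 hlR
    ((yon S).map (pullback.fst l π) ≫ a) (pullback.snd l π)
    (RepWith.comp ((repWith_yon_map_iff _ _).2 hE) ha) ?_)
  rw [Category.assoc, w, ← Functor.map_comp_assoc, pullback.condition, Functor.map_comp, Category.assoc]

/-- finitely many affine opens of etale covers through which a quasi-compact image factors -/
theorem exists_finite_pieces {T W A : Scheme.{u}} [CompactSpace W] (π : T ⟶ W) [Etale π] [Surjective π]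
    (ρ : T ⟶ A) :
    ∃ (n : ℕ) (O : Fin n → A.affineOpens), ∀ w : W, ∃ (i : Fin n) (t : T), π t = w ∧ ρ t ∈ (O i).1 := by
  let G : A.affineOpens → Set W := fun O => π '' (ρ ⁻¹' (O.1 : Set A))
  have hG : ∀ O, IsOpen (G O) := fun O => π.isOpenMap _ (O.1.2.preimage ρ.continuous)
  have hc : (Set.univ : Set W) ⊆ ⋃ O, G O := fun w _ => by
    obtain ⟨t, rfl⟩ := π.surjective w
    obtain ⟨O, hO, htO, -⟩ := exists_isAffineOpen_mem_and_subset (x := ρ t) (U := ⊤) trivial
    exact Set.mem_iUnion.2 ⟨⟨O, hO⟩, t, htO, rfl⟩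
  obtain ⟨s, hs⟩ := isCompact_univ.elim_finite_subcover G hG hc
  refine ⟨s.card, fun i => (s.equivFin.symm i).1, fun w => ?_⟩
  obtain ⟨O, hO, t, ht, e⟩ : ∃ O ∈ s, w ∈ G O := by simpa using hs (Set.mem_univ w)
  exact ⟨s.equivFin ⟨O, hO⟩, t, e, by simpa using ht⟩

theorem isLCIMor_of_fpqc_cover (hX : IsAlgSpace X) (hY : IsAlgSpace Y) {ι : Type u} {Yi : ι → Sp S}
    (hYi : ∀ i, IsAlgSpace (Yi i)) {g : ∀ i, Yi i ⟶ Y} (hc : IsFpqcCover Yi g) {f : X ⟶ Y}
    {Xi : ι → Sp S} {p : ∀ i, Xi i ⟶ Yi i} {q : ∀ i, Xi i ⟶ X}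
    (sq : ∀ i, IsPullback (q i) (p i) f (g i)) (hp : ∀ i, LocP lci (p i)) : LocP lci f := by
  intro U V a b h ha hb w x
  obtain ⟨V₀, hV₀, hxV, -⟩ := exists_isAffineOpen_mem_and_subset (x := h.left x) (U := ⊤) trivial
  -- restrict to an affine open of V
  let Z : Over S := Over.mk (V₀.ι ≫ V.hom)
  let jV : Z ⟶ V := Over.homMk V₀.ι rfl
  let U₀ : Over S := Over.mk ((h.left ⁻¹ᵁ V₀).ι ≫ U.hom)
  let jU : U₀ ⟶ U := Over.homMk (h.left ⁻¹ᵁ V₀).ι rfl
  let h₀ : U₀ ⟶ Z := Over.homMk (h.left ∣_ V₀) (by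
    show (h.left ∣_ V₀) ≫ V₀.ι ≫ V.hom = (h.left ⁻¹ᵁ V₀).ι ≫ U.hom
    rw [← Category.assoc, morphismRestrict_ι, Category.assoc, Over.w h])
  have hjh : jU ≫ h = h₀ ≫ jV := Over.OverMorphism.ext (morphismRestrict_ι _ _).symm
  have : IsAffine Z.left := hV₀
  let a₀ := (yon S).map jU ≫ a
  let k := (yon S).map jV ≫ b
  have hjU : Etale jU.left := inferInstanceAs (Etale (h.left ⁻¹ᵁ V₀).ι)
  have hjV : Etale jV.left := inferInstanceAs (Etale V₀.ι)
  have ha₀ : RepWith @Etale a₀ := RepWith.comp ((repWith_yon_map_iff _ jU).2 hjU) ha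
  have hk : RepWith @Etale k := RepWith.comp ((repWith_yon_map_iff _ jV).2 hjV) hb
  have w₀ : a₀ ≫ f = (yon S).map h₀ ≫ k := by
    rw [Category.assoc, w, ← Functor.map_comp_assoc, hjh, Functor.map_comp, Category.assoc]
  suffices hl : lci h₀.left by
    have h1 : IsKoszulPt ((h.left ⁻¹ᵁ V₀).ι ≫ h.left) ⟨x, hxV⟩ := by
      rw [← morphismRestrict_ι]
      exact isKoszulPt_comp (h.left ∣_ V₀) V₀.ι (isKoszulPt_of_isKoszulAt _ (hl _)) (isKoszulPt_of_smooth _ _)
    exact isKoszulAt_of_isKoszulPt _ (isKoszulPt_of_openImmersion_comp _ _ h1)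
  -- the chart U₀ → X ×_Y Z
  have sqQ := IsPullback.of_hasPullback f k
  let q₁ : (yon S).obj U₀ ⟶ pullback f k := sqQ.lift a₀ ((yon S).map h₀) w₀
  have hQ : IsAlgSpace (pullback f k) :=
    isAlgSpace_of_isPullback hY.diag hX (IsAlgSpace.yon_obj Z) sqQ
  have hq₁ : RepWith @Etale q₁ := by
    refine repWith_etale_of_comp_etale (IsAlgSpace.yon_obj U₀) hQ hX (hQ.representable_from_yon q₁)
      (g := pullback.fst f k) ?_ (locP_of_repWith etLocal_etale hQ (RepWith.baseChange sqQ.flip hk))
    rw [sqQ.lift_fst]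
    exact locP_of_repWith etLocal_etale (IsAlgSpace.yon_obj U₀) ha₀
  -- affine pieces of the covering over Z
  obtain ⟨m, W, c, hW, -, hcs, hl⟩ := hc.2 Z hV₀ k
  choose i l hl using hl
  choose A ψ hψe hψs using fun j => (isAlgSpace_of_isPullback hY.diag (hYi (i j)) (IsAlgSpace.yon_obj Z)
    (IsPullback.of_hasPullback (g (i j)) k)).atlas
  choose r hr' using fun j => (yon S).map_surjective (ψ j ≫ pullback.snd (g (i j)) k)
  have key : ∀ j, ∃ (n : ℕ) (O : Fin n → (A j).left.affineOpens),
      ∀ v : (W j).left, ∃ (i' : Fin n) (a' : (A j).left), a' ∈ (O i').1 ∧ (r j).left a' = (c j).left v := by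
    intro j
    have hQj : IsAlgSpace (pullback (g (i j)) k) :=
      isAlgSpace_of_isPullback hY.diag (hYi (i j)) (IsAlgSpace.yon_obj Z) (IsPullback.of_hasPullback _ _)
    let τ : (yon S).obj (W j) ⟶ pullback (g (i j)) k := pullback.lift (l j) ((yon S).map (c j)) (hl j)
    have hrep := hQj.representable_from_yon (ψ j)
    have sqτ := hrep.isPullback' τ
    have : Etale (hrep.snd τ).left := (hψe j).property_snd _
    have : Surjective (hrep.snd τ).left := (hψs j).property _ _ _ (hrep.isPullback τ)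
    have := hW j
    obtain ⟨n, O, hO⟩ := exists_finite_pieces (hrep.snd τ).left (hrep.fst' τ).left
    refine ⟨n, O, fun v => ?_⟩
    obtain ⟨i', t, rfl, htO⟩ := hO v
    refine ⟨i', _, htO, ?_⟩
    have e : hrep.fst' τ ≫ r j = hrep.snd τ ≫ c j := (yon S).map_injective (by
      rw [Functor.map_comp, Functor.map_comp, hr', ← Category.assoc, sqτ.w, Category.assoc]
      exact congrArg _ (pullback.lift_snd _ _ _))
    rw [← Scheme.Hom.comp_apply, ← Scheme.Hom.comp_apply, ← Over.comp_left, ← Over.comp_left, e]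
  choose n O hO using key
  let K := ULift.{u} (Σ j : Fin m, Fin (n j))
  let P : K → Over S := fun z => Over.mk ((O z.down.1 z.down.2).1.ι ≫ (A z.down.1).hom)
  let ι' : ∀ z : K, P z ⟶ A z.down.1 := fun z => Over.homMk (O z.down.1 z.down.2).1.ι rfl
  let c' : sigmaOver P ⟶ Z :=
    Over.homMk (Sigma.desc fun z : K => (ι' z ≫ r z.down.1).left)
      (Sigma.hom_ext _ _ fun z => by simp [sigmaOver, P])
  have hc' : ∀ z, sigmaOverι P z ≫ c' = ι' z ≫ r z.down.1 := fun z =>
    Over.OverMorphism.ext (Sigma.ι_desc _ _)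
  let bz : ∀ z : K, (yon S).obj (P z) ⟶ Yi (i z.down.1) := fun z =>
    (yon S).map (ι' z) ≫ ψ z.down.1 ≫ pullback.fst _ _
  have hbz : ∀ z, RepWith @Etale (bz z) := fun z =>
    RepWith.comp ((repWith_yon_map_iff _ _).2 (inferInstanceAs (Etale (O z.down.1 z.down.2).1.ι)))
      (RepWith.comp (hψe _) (RepWith.baseChange (IsPullback.of_hasPullback _ _).flip hk))
  have ebz : ∀ z, bz z ≫ g (i z.down.1) = (yon S).map (sigmaOverι P z ≫ c') ≫ k := fun z => by
    rw [hc', Functor.map_comp, hr']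
    simp only [bz, Category.assoc, pullback.condition]
  have hflat : ∀ z, Flat (sigmaOverι P z ≫ c').left := fun z => hc.1 _ (bz z) k _ (hbz z) hk (ebz z)
  have : ∀ z : K, IsAffine (P z).left := fun z => (O z.down.1 z.down.2).2
  have hsA : IsAffine (sigmaOver P).left := inferInstanceAs (IsAffine (∐ fun z => (P z).left))
  have : Flat c'.left := IsZariskiLocalAtSource.sigmaDesc fun z => by rw [← hc']; exact hflat z
  have : Surjective c'.left := ⟨fun z => by
    obtain ⟨j, v, rfl⟩ := hcs z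
    obtain ⟨i', a', ha', e'⟩ := hO j v
    refine ⟨(sigmaOverι P ⟨⟨j, i'⟩⟩).left (⟨a', ha'⟩ : (O j i').1), ?_⟩
    rw [← Scheme.Hom.comp_apply, ← Over.comp_left, hc']
    exact e'⟩
  have : QuasiCompact c'.left := inferInstance
  have sP := IsPullback.of_hasPullback h₀ c'
  have sP' : IsPullback (pullback.fst h₀ c').left (pullback.snd h₀ c').left h₀.left c'.left :=
    sP.map (Over.forget S)
  refine S8662.result h₀.left c'.left _ _ sP' fun x' => ?_
  obtain ⟨z, o, ho⟩ := exists_mem_range_sigmaOverι P ((pullback.snd h₀ c').left x')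
  have sz := IsPullback.of_hasPullback (pullback.snd h₀ c') (sigmaOverι P z)
  have sU := sz.paste_horiz sP
  have sT : IsPullback (pullback.fst (p (i z.down.1)) (bz z) ≫ q (i z.down.1))
      (pullback.snd (p (i z.down.1)) (bz z)) f ((yon S).map (sigmaOverι P z ≫ c') ≫ k) := by
    rw [← ebz z]; exact (IsPullback.of_hasPullback _ _).paste_horiz (sq _)
  obtain ⟨e, -, he2, he⟩ := exists_baseChange_chart (show q₁ ≫ pullback.snd f k = (yon S).map h₀ from
    sqQ.lift_snd _ _ _) sU sT (P := @Etale) hq₁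
  have hkz := hp (i z.down.1) (e ≫ pullback.fst _ _) (bz z) _
    (RepWith.comp he (RepWith.baseChange (IsPullback.of_hasPullback _ _).flip (hbz z))) (hbz z)
    (by rw [Category.assoc, pullback.condition, ← Category.assoc, he2])
  have sz' : IsPullback (pullback.fst (pullback.snd h₀ c') (sigmaOverι P z)).left
      (pullback.snd (pullback.snd h₀ c') (sigmaOverι P z)).left (pullback.snd h₀ c').left
      (sigmaOverι P z).left := sz.map (Over.forget S)
  obtain ⟨y, hy, -⟩ := Scheme.exists_preimage_of_isPullback sz' x' o ho.symm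
  have : IsOpenImmersion (pullback.fst (pullback.snd h₀ c') (sigmaOverι P z)).left :=
    MorphismProperty.of_isPullback (P := @IsOpenImmersion) sz'.flip inferInstance
  rw [← hy]
  refine isKoszulAt_of_isKoszulPt _ (isKoszulPt_of_openImmersion_comp _ _ ?_)
  rw [sz'.w]
  exact isKoszulPt_comp _ _ (isKoszulPt_of_isKoszulAt _ (hkz _)) (isKoszulPt_of_smooth _ _)

end Groth.Agent.AlgSpLib
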