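import Groth.Agent.AlgSpLib.RegImmDescent
import Groth.Agent.Synt15.LCIPermanence
import Groth.Agent.AlgSpLib.FppfSource

/-!
Local complete intersection morphisms descend along fppf coverings of the base.
-/

universe u

set_option autoImplicit false
set_option backward.isDefEq.respectTransparency false

open CategoryTheory CategoryTheory.Limits AlgebraicGeometry
open Groth.Agent.FlatMorKoszul Groth.Agent.Synt15

noncomputable section

namespace Groth.Agent.AlgSpLib

theorem isKoszulAt_of_baseChange {X Y Y' : Scheme.{u}} (f : X ⟶ Y) [LocallyOfFiniteType f] (g : Y' ⟶ Y) [Flat g]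
    [LocallyOfFinitePresentation g] [Surjective g] (h : ∀ x', Synt.IsKoszulAt (pullback.snd f g) x') (x : X) :
    Synt.IsKoszulAt f x := by
  obtain ⟨_, ⟨V, hV, rfl⟩, hxV, -⟩ :=
    Y.isBasis_affineOpens.exists_subset_of_mem_open (Set.mem_univ (f x)) isOpen_univ
  obtain ⟨_, ⟨U, hU, rfl⟩, hxU, e⟩ :=
    X.isBasis_affineOpens.exists_subset_of_mem_open (show x ∈ f ⁻¹ᵁ V from hxV) (f ⁻¹ᵁ V).2
  let _ := (f.appLE V U e).hom.toAlgebra
  have hft : Algebra.FiniteType Γ(Y, V) Γ(X, U) := LocallyOfFiniteType.finiteType_appLE (f := f) hV hU e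
  obtain ⟨n, α, hα⟩ := Algebra.FiniteType.iff_quotient_mvPolynomial''.1 hft
  let P : CommRingCat.{u} := CommRingCat.of (MvPolynomial (Fin n) Γ(Y, V))
  let i : (Scheme.Opens.toScheme U) ⟶ Spec P := hU.isoSpec.hom ≫ Spec.map (CommRingCat.ofHom α.toRingHom)
  let π : Spec P ⟶ Y := Spec.map (CommRingCat.ofHom (algebraMap Γ(Y, V) (MvPolynomial (Fin n) Γ(Y, V)))) ≫ hV.fromSpec
  haveI : IsClosedImmersion (Spec.map (CommRingCat.ofHom α.toRingHom)) := IsClosedImmersion.spec_of_surjective _ hα
  haveI : Smooth (Spec.map (CommRingCat.ofHom (algebraMap Γ(Y, V) (MvPolynomial (Fin n) Γ(Y, V))))) :=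
    (HasRingHomProperty.Spec_iff (P := @Smooth)).2
      ((RingHom.smooth_algebraMap (R := Γ(Y, V)) (S := MvPolynomial (Fin n) Γ(Y, V))).2 ⟨inferInstance, inferInstance⟩)
  have hfac : i ≫ π = (Scheme.Opens.ι U) ≫ f := by
    have h1 : CommRingCat.ofHom (algebraMap Γ(Y, V) (MvPolynomial (Fin n) Γ(Y, V))) ≫ CommRingCat.ofHom α.toRingHom =
        f.appLE V U e := CommRingCat.hom_ext α.comp_algebraMap
    show (hU.isoSpec.hom ≫ Spec.map _) ≫ Spec.map _ ≫ hV.fromSpec = (Scheme.Opens.ι U) ≫ f
    rw [Category.assoc, ← Spec.map_comp_assoc, h1, IsAffineOpen.SpecMap_appLE_fromSpec f hV hU, IsAffineOpen.isoSpec_hom,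
      IsAffineOpen.toSpecΓ_fromSpec_assoc]
  refine ⟨U, Spec P, i, π, hxU, hfac ▸ inferInstance, ?_, inferInstance, hfac⟩
  refine of_baseChange_family (by simp) i fun y => ?_
  let gP := pullback.fst π g
  refine ⟨_, gP, inferInstance, inferInstance, gP.surjective y, ?_⟩
  refine isRegularImmersion_of_isKoszulPt _ fun w => ?_
  refine isKoszulPt_of_comp_smooth _ (pullback.snd π g) ?_
  have s1 : IsPullback (pullback.fst i gP) (pullback.snd i gP ≫ pullback.snd π g) (i ≫ π) g :=
    (IsPullback.of_hasPullback i gP).paste_vert (IsPullback.of_hasPullback π g)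
  rw [hfac] at s1
  let j : pullback i gP ⟶ pullback f g := pullback.lift (pullback.fst i gP ≫ (Scheme.Opens.ι U))
    (pullback.snd i gP ≫ pullback.snd π g) (by rw [Category.assoc]; exact s1.w)
  have s2 : IsPullback (pullback.fst i gP) j (Scheme.Opens.ι U) (pullback.fst f g) := by
    refine IsPullback.of_bot ?_ (pullback.lift_fst _ _ _).symm (IsPullback.of_hasPullback f g)
    rw [pullback.lift_snd]
    exact s1
  haveI : IsOpenImmersion j := MorphismProperty.of_isPullback (P := @IsOpenImmersion) s2 inferInstance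
  rw [← show j ≫ pullback.snd f g = pullback.snd i gP ≫ pullback.snd π g from pullback.lift_snd _ _ _]
  exact isKoszulPt_comp j _ (isKoszulPt_of_smooth j w) (isKoszulPt_of_isKoszulAt _ (h _))

open AlgSp in
theorem isLCIMor_of_comp_smooth {S : Scheme.{u}} {X Y Z : AlgSp.Space S} (f : X ⟶ Y) (p : X ⟶ Z) (q : Y ⟶ Z)
    (hc : f ≫ q = p) (hq : LocP @Smooth q.hom) (hp : IsLCIMor p.hom) : IsLCIMor f.hom := by
  intro U V a b h ha hb w
  obtain ⟨W, c, hc1, hc2⟩ := Z.property.atlas
  have hr := Z.property.representable_from_yon c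
  have sqV := hr.isPullback' (b ≫ q.hom)
  let qV := hr.fst' (b ≫ q.hom)
  let pV := hr.snd (b ≫ q.hom)
  have : Etale pV.left := hc1.property_snd _
  have : Surjective pV.left := hc2.property_snd _
  have hbV : RepWith @Etale ((yon S).map pV ≫ b) :=
    RepWith.comp ((repWith_yon_map_iff _ pV).2 ‹Etale pV.left›) hb
  have : Smooth qV.left := hq _ c qV hbV hc1 (by rw [Category.assoc]; exact sqV.w.symm)
  have sU := (IsPullback.of_hasPullback h pV)
  have hEU : Etale (pullback.fst h pV).left :=
    MorphismProperty.of_isPullback (P := @Etale) (sU.map (Over.forget S)).flip ‹Etale pV.left›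
  have haU : RepWith @Etale ((yon S).map (pullback.fst h pV) ≫ a) :=
    RepWith.comp ((repWith_yon_map_iff _ _).2 hEU) ha
  have hlci := hp ((yon S).map (pullback.fst h pV) ≫ a) c (pullback.snd h pV ≫ qV) haU hc1 (by
    rw [← hc, ObjectProperty.FullSubcategory.comp_hom, Category.assoc, reassoc_of% w, ← Functor.map_comp_assoc,
      pullback.condition, Functor.map_comp, Functor.map_comp, Category.assoc, Category.assoc, sqV.w])
  have : LocallyOfFiniteType h.left := by
    have hp' : LocallyOfFiniteType ((pullback.snd h pV).left ≫ qV.left) :=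
      locallyOfFiniteType_of_isKoszulPt _ fun z => isKoszulPt_of_isKoszulAt _ (hlci z)
    have : LocallyOfFiniteType (pullback.snd h pV).left := locallyOfFiniteType_of_comp _ qV.left
    have : LocallyOfFiniteType ((pullback.fst h pV).left ≫ h.left) := by
      rw [← Over.comp_left, pullback.condition, Over.comp_left]; infer_instance
    have : Surjective (pullback.fst h pV).left :=
      MorphismProperty.of_isPullback (P := @Surjective) (sU.map (Over.forget S)).flip ‹Surjective pV.left›
    exact lft_of_comp_fppf (pullback.fst h pV).left h.left ‹_›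
  intro x
  refine isKoszulAt_of_baseChange h.left pV.left (fun x' => ?_) x
  have s : IsPullback (pullback.fst h pV).left (pullback.snd h pV).left h.left pV.left := sU.map (Over.forget S)
  have e := s.isoPullback_inv_snd
  rw [← e]
  have h1 : IsKoszulPt (pullback.snd h pV).left (s.isoPullback.inv x') :=
    isKoszulPt_of_comp_smooth _ qV.left (isKoszulPt_of_isKoszulAt _ (hlci _))
  exact isKoszulAt_of_isKoszulPt _ (isKoszulPt_comp _ _ (isKoszulPt_of_smooth _ _) h1)

end Groth.Agent.AlgSpLib
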