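import Groth.Agent.AlgSpLib.LCIBase
import Groth.Agent.AlgSpLib.HasAtNbhd
import Groth.Agent.AlgSpLib.PointsTop
import Groth.Agent.S1494

/-!
The Koszul locus of a morphism of algebraic spaces on etale charts, and its base change.
-/

universe u

open CategoryTheory CategoryTheory.Limits AlgebraicGeometry
open AlgSp
open Groth.Agent.Synt15 Groth.Agent.FlatMorKoszul

noncomputable section

namespace Groth.Agent.AlgSpLib

set_option backward.isDefEq.respectTransparency.types false

theorem isOpen_isKoszulAt {X Y : Scheme.{u}} (f : X ⟶ Y) : IsOpen {x | Synt.IsKoszulAt f x} :=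
  isOpen_iff_forall_mem_open.2 fun _ ⟨U, P, i, π, hxU, hr⟩ =>
    ⟨U, fun _ hy => ⟨U, P, i, π, hy, hr⟩, U.2, hxU⟩

/-- Koszul at a point descends along an etale morphism of the source -/
theorem isKoszulAt_of_etale_precomp {T U V : Scheme.{u}} (π : T ⟶ U) [Etale π] (h : U ⟶ V) (t : T)
    (H : Synt.IsKoszulAt (π ≫ h) t) : Synt.IsKoszulAt h (π t) := by
  let O : T.Opens := ⟨_, isOpen_isKoszulAt (π ≫ h)⟩
  let R : U.Opens := ⟨π '' O, π.isOpenMap _ O.2⟩
  let π' : O.toScheme ⟶ R.toScheme := IsOpenImmersion.lift R.ι (O.ι ≫ π) (by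
    rintro _ ⟨o, rfl⟩
    exact R.range_ι.ge ⟨_, o.2, rfl⟩)
  have eπ : π' ≫ R.ι = O.ι ≫ π := IsOpenImmersion.lift_fac _ _ _
  have : Etale π' := by
    have : Etale (π' ≫ R.ι) := by rw [eπ]; infer_instance
    exact Etale.of_comp π' R.ι
  have : Surjective π' := ⟨fun r => by
    obtain ⟨o, ho, e⟩ := r.2
    refine ⟨⟨o, ho⟩, R.ι.isOpenEmbedding.injective ?_⟩
    rw [← Scheme.Hom.comp_apply, eπ]
    exact e⟩
  have hl : lci (R.ι ≫ h) := by
    refine lci_of_etale_cover π' (𝟙 _) (O.ι ≫ π ≫ h) (R.ι ≫ h)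
      (by rw [Category.id_comp, ← Category.assoc, eπ, Category.assoc]) fun o => ?_
    exact isKoszulAt_of_isKoszulPt _
      (isKoszulPt_comp _ _ (isKoszulPt_of_smooth _ _) (isKoszulPt_of_isKoszulAt _ o.2))
  exact isKoszulAt_of_isKoszulPt _
    (isKoszulPt_of_openImmersion_comp R.ι h (isKoszulPt_of_isKoszulAt _ (hl ⟨π t, ⟨t, H, rfl⟩⟩)))

theorem isKoszulAt_iff_of_etale_square {U V U' V' : Scheme.{u}} {h : U ⟶ V} {h' : U' ⟶ V'} (e₁ : U' ⟶ U)
    (e₂ : V' ⟶ V) [Etale e₁] [Etale e₂] (w : e₁ ≫ h = h' ≫ e₂) (u' : U') :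
    Synt.IsKoszulAt h (e₁ u') ↔ Synt.IsKoszulAt h' u' := by
  refine ⟨fun H => isKoszulAt_of_isKoszulPt _ (isKoszulPt_of_comp_smooth h' e₂ ?_),
    fun H => isKoszulAt_of_etale_precomp e₁ h u' (isKoszulAt_of_isKoszulPt _ ?_)⟩
  · rw [← w]
    exact isKoszulPt_comp _ _ (isKoszulPt_of_smooth _ _) (isKoszulPt_of_isKoszulAt _ H)
  · rw [w]
    exact isKoszulPt_comp _ _ (isKoszulPt_of_isKoszulAt _ H) (isKoszulPt_of_smooth _ _)

variable {S : Scheme.{u}} {X Y Z : Sp S}

theorem isKoszulAt_chart_congr (hX : IsAlgSpace X) (hY : IsAlgSpace Y) (f : X ⟶ Y) {U V U' V' : Over S}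
    {a : (yon S).obj U ⟶ X} {b : (yon S).obj V ⟶ Y} {h : U ⟶ V} {a' : (yon S).obj U' ⟶ X}
    {b' : (yon S).obj V' ⟶ Y} {h' : U' ⟶ V'} (ha : RepWith @Etale a)
    (hb : RepWith @Etale b) (w : a ≫ f = (yon S).map h ≫ b) (ha' : RepWith @Etale a')
    (hb' : RepWith @Etale b') (w' : a' ≫ f = (yon S).map h' ≫ b') (u : ↥U.left) (u' : ↥U'.left)
    (e : Points.ofPt a u = Points.ofPt a' u') :
    Synt.IsKoszulAt h.left u ↔ Synt.IsKoszulAt h'.left u' := by
  have hra := hX.representable_from_yon a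
  have hrb := hY.representable_from_yon b
  have sqP := hra.isPullback' a'
  have sqQ := hrb.isPullback' b'
  obtain ⟨p, hp1, hp2⟩ := (ofPt_eq_ofPt_iff sqP u u').1 e
  let k : hra.pullback a' ⟶ hrb.pullback b' := hrb.lift' (hra.fst' a' ≫ h) (hra.snd a' ≫ h') (by
    rw [Functor.map_comp, Functor.map_comp, Category.assoc, Category.assoc, ← w, ← w', ← Category.assoc,
      sqP.w, Category.assoc])
  have k1 : k ≫ hrb.fst' b' = hra.fst' a' ≫ h := Functor.relativelyRepresentable.lift'_fst _ _ _ _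
  have k2 : k ≫ hrb.snd b' = hra.snd a' ≫ h' := Functor.relativelyRepresentable.lift'_snd _ _ _ _
  have : Etale (hra.fst' a').left := ha'.property _ _ _ sqP.flip
  have : Etale (hra.snd a').left := ha.property_snd a'
  have : Etale (hrb.fst' b').left := hb'.property _ _ _ sqQ.flip
  have : Etale (hrb.snd b').left := hb.property_snd b'
  have s1 := isKoszulAt_iff_of_etale_square (hra.fst' a').left (hrb.fst' b').left
    (show (hra.fst' a').left ≫ h.left = k.left ≫ (hrb.fst' b').left from congrArg (fun t => t.left) k1.symm) p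
  have s2 := isKoszulAt_iff_of_etale_square (hra.snd a').left (hrb.snd b').left
    (show (hra.snd a').left ≫ h'.left = k.left ≫ (hrb.snd b').left from congrArg (fun t => t.left) k2.symm) p
  rw [hp1] at s1
  rw [hp2] at s2
  exact s1.trans s2.symm

theorem locPNear_lci_iff (hX : IsAlgSpace X) (hY : IsAlgSpace Y) (f : X ⟶ Y) {U V : Over S}
    (a : (yon S).obj U ⟶ X) (b : (yon S).obj V ⟶ Y) (h : U ⟶ V) (ha : RepWith @Etale a)
    (hb : RepWith @Etale b) (w : a ≫ f = (yon S).map h ≫ b) (u : ↥U.left) :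
    LocPNear lci f (Points.ofPt a u) ↔ Synt.IsKoszulAt h.left u := by
  refine ⟨?_, fun H => ?_⟩
  · rintro ⟨W, j, hj, ⟨y, hy⟩, hl⟩
    have sq := hj.1.isPullback a
    obtain ⟨r, -, hr⟩ := exists_point_of_isPullback sq
      (show Points.map j y = Points.map a (Points.ofScheme U u) by rw [hy, Points.ofPt_eq_map_ofScheme])
    obtain ⟨t, rfl⟩ := (Points.schemeEquiv _).surjective r
    have : IsOpenImmersion (hj.1.snd a).left := hj.property_snd a
    have hlci : lci (hj.1.snd a ≫ h).left := hl (hj.1.fst a) b (hj.1.snd a ≫ h)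
      (RepWith.baseChange sq.flip ha) hb
      (by rw [← Category.assoc, sq.w, Category.assoc, w, Functor.map_comp, Category.assoc])
    have et : (hj.1.snd a).left t = u := by
      apply (Points.schemeEquiv U).injective
      exact (Points.map_yon_map_apply _ t).symm.trans hr
    rw [← et]
    exact isKoszulAt_of_isKoszulPt _
      (isKoszulPt_of_openImmersion_comp _ _ (isKoszulPt_of_isKoszulAt _ (hlci t)))
  · let O : Set ↥U.left := {v | Synt.IsKoszulAt h.left v}
    have hW : IsOpen (Points.ofPt a '' O) := isOpenMap_ofPt a ha _ (isOpen_isKoszulAt _)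
    refine ⟨openSubspace X (Points.ofPt a '' O), openSubspaceι X _, repWith_openSubspaceι X hW,
      (range_openSubspaceι X _).ge ⟨u, H, rfl⟩, fun U' V' a' b' h' ha' hb' w' u' => ?_⟩
    obtain ⟨v, hv, e⟩ : Points.ofPt (a' ≫ openSubspaceι X _) u' ∈ Points.ofPt a '' O := by
      rw [← Points.map_ofPt]
      exact (range_openSubspaceι X _).le (Set.mem_range_self _)
    have ha'' : RepWith @Etale (a' ≫ openSubspaceι X _) := RepWith.comp ha'
      (RepWith.mono (fun _ _ g (_ : IsOpenImmersion g) => (inferInstance : Etale g)) (repWith_openSubspaceι X hW))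
    exact (isKoszulAt_chart_congr hX hY f ha hb w ha'' hb' (by rw [Category.assoc, w']) v u' e).1 hv

theorem koszulLocus_baseChange (hX : IsAlgSpace X) (hY : IsAlgSpace Y) (hZ : IsAlgSpace Z)
    {X' Y' Z' : Sp S} (hX' : IsAlgSpace X') (hY' : IsAlgSpace Y') (hZ' : IsAlgSpace Z')
    (f : X ⟶ Y) (p : X ⟶ Z) (q : Y ⟶ Z) (hc : f ≫ q = p)
    (hp1 : LocP @Flat p) (hp2 : LocP @LocallyOfFinitePresentation p)
    (hq1 : LocP @Flat q) (hq2 : LocP @LocallyOfFinitePresentation q)
    {g : Z' ⟶ Z} {gY : Y' ⟶ Y} {q' : Y' ⟶ Z'} (sY : IsPullback gY q' q g)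
    {gX : X' ⟶ X} {f' : X' ⟶ Y'} (sX : IsPullback gX f' f gY) (x' : Points X') :
    LocPNear lci f' x' ↔ LocPNear lci f (Points.map gX x') := by
  -- charts of Z and Z'
  obtain ⟨W, c, hce, hcs⟩ := hZ.atlas
  have sqZ := IsPullback.of_hasPullback g c
  obtain ⟨W', β, hβe, hβs⟩ := (isAlgSpace_of_isPullback hZ.diag hZ' (IsAlgSpace.yon_obj W) sqZ).atlas
  obtain ⟨k, hk⟩ := (yon S).map_surjective (β ≫ pullback.snd g c)
  let cZ := β ≫ pullback.fst g c
  have hcZe : RepWith @Etale cZ := RepWith.comp hβe (RepWith.baseChange sqZ.flip hce)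
  have hcZs : RepWith @Surjective cZ := RepWith.comp hβs (RepWith.baseChange sqZ.flip hcs)
  have ekZ : cZ ≫ g = (yon S).map k ≫ c := by rw [hk, Category.assoc, Category.assoc, sqZ.w]
  -- charts of Y and Y'
  have sqY := IsPullback.of_hasPullback q c
  obtain ⟨V, ψY, hψYe, hψYs⟩ := (isAlgSpace_of_isPullback hZ.diag hY (IsAlgSpace.yon_obj W) sqY).atlas
  obtain ⟨qV, hqV⟩ := (yon S).map_surjective (ψY ≫ pullback.snd q c)
  let bY := ψY ≫ pullback.fst q c
  have hbYe : RepWith @Etale bY := RepWith.comp hψYe (RepWith.baseChange sqY.flip hce)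
  have wY : bY ≫ q = (yon S).map qV ≫ c := by rw [hqV, Category.assoc, Category.assoc, sqY.w]
  have sqV := IsPullback.of_hasPullback qV k
  have sTY : IsPullback (pullback.fst q' cZ ≫ gY) (pullback.snd q' cZ) q ((yon S).map k ≫ c) := by
    rw [← ekZ]; exact (IsPullback.of_hasPullback q' cZ).paste_horiz sY
  obtain ⟨eY, heY1, -, heY⟩ := exists_baseChange_chart hqV.symm sqV sTY (P := @Etale ⊓ @Surjective)
    (RepWith.and hψYe hψYs)
  let bY' := eY ≫ pullback.fst q' cZ
  have hbY'e : RepWith @Etale bY' := RepWith.comp (RepWith.mono inf_le_left heY)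
    (RepWith.baseChange (IsPullback.of_hasPullback q' cZ).flip hcZe)
  have hbY's : RepWith @Surjective bY' := RepWith.comp (RepWith.mono inf_le_right heY)
    (RepWith.baseChange (IsPullback.of_hasPullback q' cZ).flip hcZs)
  have ekY : bY' ≫ gY = (yon S).map (pullback.fst qV k) ≫ bY := by rw [Category.assoc]; exact heY1
  -- charts of X and X'
  have sqX := IsPullback.of_hasPullback f bY
  obtain ⟨U, ψ, hψe, hψs⟩ := (isAlgSpace_of_isPullback hY.diag hX (IsAlgSpace.yon_obj V) sqX).atlas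
  obtain ⟨h, hh⟩ := (yon S).map_surjective (ψ ≫ pullback.snd f bY)
  let a := ψ ≫ pullback.fst f bY
  have hae : RepWith @Etale a := RepWith.comp hψe (RepWith.baseChange sqX.flip hbYe)
  have wa : a ≫ f = (yon S).map h ≫ bY := by rw [hh, Category.assoc, Category.assoc, sqX.w]
  have sqU := IsPullback.of_hasPullback h (pullback.fst qV k)
  have sTX : IsPullback (pullback.fst f' bY' ≫ gX) (pullback.snd f' bY') f
      ((yon S).map (pullback.fst qV k) ≫ bY) := by
    rw [← ekY]; exact (IsPullback.of_hasPullback f' bY').paste_horiz sX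
  obtain ⟨eX, heX1, heX2, heX⟩ := exists_baseChange_chart hh.symm sqU sTX (P := @Etale ⊓ @Surjective)
    (RepWith.and hψe hψs)
  let a' := eX ≫ pullback.fst f' bY'
  have ha'e : RepWith @Etale a' := RepWith.comp (RepWith.mono inf_le_left heX)
    (RepWith.baseChange (IsPullback.of_hasPullback f' bY').flip hbY'e)
  have ha's : RepWith @Surjective a' := RepWith.comp (RepWith.mono inf_le_right heX)
    (RepWith.baseChange (IsPullback.of_hasPullback f' bY').flip hbY's)
  have wa' : a' ≫ f' = (yon S).map (pullback.snd h (pullback.fst qV k)) ≫ bY' := by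
    rw [Category.assoc, pullback.condition, ← Category.assoc, heX2]
  obtain ⟨u', rfl⟩ := surjective_ofPt a' ha's x'
  have ex : Points.map gX (Points.ofPt a' u') = Points.ofPt a ((pullback.fst h (pullback.fst qV k)).left u') := by
    rw [← ofPt_map, Points.map_ofPt]
    exact congrArg (fun t => Points.ofPt t u') (by rw [Category.assoc]; exact heX1)
  rw [ex, locPNear_lci_iff hX hY f a bY h hae hbYe wa,
    locPNear_lci_iff hX' hY' f' a' bY' _ ha'e hbY'e wa', isKoszulAt_iff_isKoszulPt, isKoszulAt_iff_isKoszulPt]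
  have : Flat qV.left := hq1 bY c qV hbYe hce wY
  have : LocallyOfFinitePresentation qV.left := hq2 bY c qV hbYe hce wY
  have wp : a ≫ p = (yon S).map (h ≫ qV) ≫ c := by
    rw [← hc, ← Category.assoc, wa, Category.assoc, wY, Functor.map_comp, Category.assoc]
  have : Flat (h.left ≫ qV.left) := hp1 a c (h ≫ qV) hae hce wp
  have : LocallyOfFinitePresentation (h.left ≫ qV.left) := hp2 a c (h ≫ qV) hae hce wp
  have sV : IsPullback (pullback.fst qV k).left (pullback.snd qV k).left qV.left k.left :=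
    sqV.map (Over.forget S)
  have sU : IsPullback (pullback.fst h (pullback.fst qV k)).left (pullback.snd h (pullback.fst qV k)).left
      h.left (pullback.fst qV k).left := sqU.map (Over.forget S)
  have key := (S1494.result h.left qV.left).2 k.left (pullback.fst qV k).left (pullback.snd qV k).left sV
    (pullback.fst h (pullback.fst qV k)).left (pullback.snd h (pullback.fst qV k)).left
    (sU.paste_vert sV) sU.w
  exact Set.ext_iff.1 key u'

end Groth.Agent.AlgSpLib
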