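import Groth.Agent.AlgSpLib.MorMore2
import Groth.Agent.AlgSpLib.Diag
import Groth.Agent.AlgSpLib.DecentPoints

/-!
Points with values in a large algebraically closed field.
-/

universe u

open CategoryTheory CategoryTheory.Limits AlgebraicGeometry TensorProduct Cardinal
open AlgSp

noncomputable section

namespace Groth.Agent.AlgSpLib

set_option backward.isDefEq.respectTransparency.types false
set_option backward.isDefEq.respectTransparency false

/-- an extension of vector space rank less than the cardinality of an algebraically closed field is trivial -/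
theorem bijective_of_rank_lt {K L : Type u} [Field K] [IsAlgClosed K] [Field L] [Algebra K L]
    (h : Module.rank K L < #K) : Function.Bijective (algebraMap K L) := by
  have : Algebra.IsAlgebraic K L := by
    refine ⟨fun t => by_contra fun ht => h.not_ge ?_⟩
    have ht' : Transcendental K t := ht
    have hne : ∀ c : K, t - algebraMap K L c ≠ 0 := fun c e =>
      ht ((sub_eq_zero.1 e).symm ▸ isAlgebraic_algebraMap c)
    have li : LinearIndependent K fun c : K => (t - algebraMap K L c)⁻¹ := by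
      classical
      rw [linearIndependent_iff']
      intro s g hg i hi
      let P : Polynomial K := ∑ j ∈ s, Polynomial.C (g j) * ∏ k ∈ s.erase j, (Polynomial.X - Polynomial.C k)
      have hP : Polynomial.aeval t P = 0 := by
        have e : ∀ j ∈ s, Polynomial.aeval t (Polynomial.C (g j) *
            ∏ k ∈ s.erase j, (Polynomial.X - Polynomial.C k)) =
              (∏ k ∈ s, (t - algebraMap K L k)) * (g j • (t - algebraMap K L j)⁻¹) := by
          intro j hj
          rw [map_mul, map_prod, Polynomial.aeval_C, ← Finset.mul_prod_erase s _ hj, Algebra.smul_def]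
          simp only [map_sub, Polynomial.aeval_X, Polynomial.aeval_C]
          field_simp [hne j]
        show Polynomial.aeval t (∑ j ∈ s, _) = 0
        rw [map_sum, Finset.sum_congr rfl e, ← Finset.mul_sum, hg, mul_zero]
      have hP0 : P = 0 := (transcendental_iff_injective.1 ht') (hP.trans (map_zero _).symm)
      have := congrArg (Polynomial.eval i) hP0
      simp only [P, Polynomial.eval_finsetSum, Polynomial.eval_mul, Polynomial.eval_C,
        Polynomial.eval_prod, Polynomial.eval_sub, Polynomial.eval_X, Polynomial.eval_zero] at this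
      rw [Finset.sum_eq_single i (fun j _ hji => by
        rw [Finset.prod_eq_zero (Finset.mem_erase.2 ⟨hji.symm, hi⟩) (sub_self i), mul_zero])
        (fun hn => absurd hi hn)] at this
      exact (mul_eq_zero.1 this).resolve_right (Finset.prod_ne_zero_iff.2 fun k hk =>
        sub_ne_zero.2 (Finset.ne_of_mem_erase hk).symm)
    exact li.cardinal_le_rank
  exact IsAlgClosed.algebraMap_bijective_of_isIntegral

/-- nullstellensatz by cardinality -/
theorem exists_algHom_adjoin {K F : Type u} [Field K] [IsAlgClosed K] [CommRing F] [Nontrivial F]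
    [Algebra K F] (G : Set F) (hG : #G < #K) : Nonempty (Algebra.adjoin K G →ₐ[K] K) := by
  obtain ⟨m, hm⟩ := Ideal.exists_maximal (Algebra.adjoin K G)
  let _ := Ideal.Quotient.field m
  suffices h : Function.Bijective (algebraMap K (Algebra.adjoin K G ⧸ m)) from
    ⟨(AlgEquiv.ofBijective (Algebra.ofId K _) h).symm.toAlgHom.comp (Ideal.Quotient.mkₐ K m)⟩
  rcases G.finite_or_infinite with hf | hi
  · have : Algebra.FiniteType K (Algebra.adjoin K G) :=
      (Subalgebra.fg_iff_finiteType _).1 ⟨hf.toFinset, by rw [Set.Finite.coe_toFinset]⟩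
    have : Algebra.FiniteType K (Algebra.adjoin K G ⧸ m) :=
      Algebra.FiniteType.of_surjective (Ideal.Quotient.mkₐ K m) Ideal.Quotient.mk_surjective
    have : Module.Finite K (Algebra.adjoin K G ⧸ m) := finite_of_finite_type_of_isJacobsonRing _ _
    exact IsAlgClosed.algebraMap_bijective_of_isIntegral
  · have : Infinite G := hi.to_subtype
    refine bijective_of_rank_lt (lt_of_le_of_lt ?_ hG)
    let π : MvPolynomial G K →ₐ[K] Algebra.adjoin K G :=
      MvPolynomial.aeval fun g => ⟨(g : F), Algebra.subset_adjoin g.2⟩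
    have hπ : Function.Surjective π := by
      rw [← AlgHom.range_eq_top, eq_top_iff]
      rintro ⟨x, hx⟩ -
      have : x ∈ Subalgebra.map (Algebra.adjoin K G).val π.range :=
        Algebra.adjoin_le (S := Subalgebra.map (Algebra.adjoin K G).val π.range) (fun g hg =>
          ⟨⟨g, Algebra.subset_adjoin hg⟩, ⟨MvPolynomial.X ⟨g, hg⟩, MvPolynomial.aeval_X _ _⟩, rfl⟩) hx
      obtain ⟨y, hy, e⟩ := this
      exact (Subtype.ext e : y = ⟨x, hx⟩) ▸ hy
    refine (LinearMap.rank_le_of_surjective ((Ideal.Quotient.mkₐ K m).comp π).toLinearMap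
      (Ideal.Quotient.mk_surjective.comp hπ)).trans ?_
    rw [(MvPolynomial.basisMonomials G K).mk_eq_rank''.symm]
    simp

/-- a point of a scheme over an algebraically closed field with small residue field of the projection has a
rational point over it -/
theorem exists_rational_point {S U W : Scheme.{u}} {K : Type u} [Field K] [IsAlgClosed K]
    (str : Spec (CommRingCat.of K) ⟶ S) (g : U ⟶ S) (q : W ⟶ U) (π : W ⟶ Spec (CommRingCat.of K))
    (w : q ≫ g = π ≫ str) (h : LocallyOfFiniteType (pullback.lift q π w)) (p : W)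
    (hK : #(U.residueField (q p)) < #K) :
    ∃ s : Spec (CommRingCat.of K) ⟶ W, s ≫ π = 𝟙 _ ∧ q (s (IsLocalRing.closedPoint K)) = q p := by
  obtain ⟨_, ⟨S0, hS0, rfl⟩, hpS, -⟩ :=
    S.isBasis_affineOpens.exists_subset_of_mem_open (Set.mem_univ (g (q p))) isOpen_univ
  obtain ⟨_, ⟨U0, hU0, rfl⟩, hpU, hU0S⟩ :=
    U.isBasis_affineOpens.exists_subset_of_mem_open (show q p ∈ (g ⁻¹ᵁ S0 : U.Opens) from hpS) (g ⁻¹ᵁ S0).2
  obtain ⟨_, ⟨W0, hW0, rfl⟩, hpW, hW0U⟩ :=
    W.isBasis_affineOpens.exists_subset_of_mem_open (show p ∈ (q ⁻¹ᵁ U0 : W.Opens) from hpU) (q ⁻¹ᵁ U0).2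
  replace hS0 : IsAffineOpen S0 := hS0
  replace hU0 : IsAffineOpen U0 := hU0
  replace hW0 : IsAffineOpen W0 := hW0
  have hstr : Set.range str ⊆ Set.range hS0.fromSpec := by
    rintro _ ⟨z, rfl⟩
    rw [hS0.range_fromSpec, Subsingleton.elim (α := ↥(Spec (CommRingCat.of K))) z (π p)]
    have := congrArg (fun t : W ⟶ S => t p) w
    exact (show g (q p) = str (π p) from this) ▸ hpS
  let β : Γ(S, S0) ⟶ CommRingCat.of K := Spec.preimage (IsOpenImmersion.lift hS0.fromSpec str hstr)
  have hβ : Spec.map β ≫ hS0.fromSpec = str := by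
    rw [Spec.map_preimage, IsOpenImmersion.lift_fac]
  let α : Γ(S, S0) ⟶ Γ(U, U0) := g.appLE S0 U0 hU0S
  have hα : Spec.map α ≫ hS0.fromSpec = hU0.fromSpec ≫ g :=
    IsAffineOpen.SpecMap_appLE_fromSpec g hS0 hU0 hU0S
  let φA : Γ(U, U0) ⟶ Γ(W, W0) := q.appLE U0 W0 hW0U
  have hφA : Spec.map φA ≫ hU0.fromSpec = hW0.fromSpec ≫ q :=
    IsAffineOpen.SpecMap_appLE_fromSpec q hU0 hW0 hW0U
  let φK : CommRingCat.of K ⟶ Γ(W, W0) := Spec.preimage (hW0.fromSpec ≫ π)
  have hφK : Spec.map φK = hW0.fromSpec ≫ π := Spec.map_preimage _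
  have hcomm : α ≫ φA = β ≫ φK := by
    refine Spec.map_injective ((cancel_mono hS0.fromSpec).1 ?_)
    rw [Spec.map_comp, Spec.map_comp, Category.assoc, Category.assoc, hα, hβ, reassoc_of% hφA, hφK,
      Category.assoc, w]
  let _ : Algebra Γ(S, S0) Γ(U, U0) := α.hom.toAlgebra
  let _ : Algebra Γ(S, S0) K := β.hom.toAlgebra
  let _ : Algebra Γ(S, S0) Γ(W, W0) := (α ≫ φA).hom.toAlgebra
  let fA : Γ(U, U0) →ₐ[Γ(S, S0)] Γ(W, W0) := { φA.hom with commutes' := fun _ => rfl }
  let fK : K →ₐ[Γ(S, S0)] Γ(W, W0) :=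
    { φK.hom with commutes' := fun r => (congrArg (fun t => t.hom r) hcomm).symm }
  let ψ : Γ(U, U0) ⊗[Γ(S, S0)] K →ₐ[Γ(S, S0)] Γ(W, W0) := Algebra.TensorProduct.productMap fA fK
  have hψ : ψ.toRingHom.FiniteType := by
    let m0 := Spec.map (CommRingCat.ofHom ψ.toRingHom) ≫ (pullbackSpecIso Γ(S, S0) Γ(U, U0) K).inv
    let M : pullback (Spec.map (CommRingCat.ofHom (algebraMap Γ(S, S0) Γ(U, U0))))
        (Spec.map (CommRingCat.ofHom (algebraMap Γ(S, S0) K))) ⟶ pullback g str :=
      pullback.map _ _ _ _ hU0.fromSpec (𝟙 _) hS0.fromSpec hα (hβ.trans (Category.id_comp _).symm)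
    have e1 : m0 ≫ pullback.fst _ _ = Spec.map φA := by
      simp only [m0, Category.assoc]
      erw [pullbackSpecIso_inv_fst, ← Spec.map_comp]
      congr 1
      ext a
      simp [ψ, fA]
    have e2 : m0 ≫ pullback.snd _ _ = Spec.map φK := by
      simp only [m0, Category.assoc]
      erw [pullbackSpecIso_inv_snd, ← Spec.map_comp]
      congr 1
      ext a
      simp [ψ, fK]
    have e : m0 ≫ M = hW0.fromSpec ≫ pullback.lift q π w := by
      apply pullback.hom_ext
      · calc (m0 ≫ M) ≫ pullback.fst g str = (m0 ≫ pullback.fst _ _) ≫ hU0.fromSpec := by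
              rw [Category.assoc, Category.assoc, show M ≫ pullback.fst g str = _ from pullback.lift_fst _ _ _]; rfl
          _ = (hW0.fromSpec ≫ pullback.lift q π w) ≫ pullback.fst g str := by
              rw [e1, hφA, Category.assoc, pullback.lift_fst]
      · calc (m0 ≫ M) ≫ pullback.snd g str = (m0 ≫ pullback.snd _ _) ≫ 𝟙 _ := by
              rw [Category.assoc, Category.assoc, show M ≫ pullback.snd g str = _ from pullback.lift_snd _ _ _]; rfl
          _ = (hW0.fromSpec ≫ pullback.lift q π w) ≫ pullback.snd g str := by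
              rw [e2, hφK, Category.comp_id, Category.assoc, pullback.lift_snd]
    have : LocallyOfFiniteType (m0 ≫ M) := e ▸ inferInstance
    have : LocallyOfFiniteType m0 := locallyOfFiniteType_of_comp m0 M
    have : LocallyOfFiniteType (Spec.map (CommRingCat.ofHom ψ.toRingHom)) :=
      (MorphismProperty.cancel_right_of_respectsIso @LocallyOfFiniteType _
        (pullbackSpecIso Γ(S, S0) Γ(U, U0) K).inv).1 this
    exact (HasRingHomProperty.Spec_iff (P := @LocallyOfFiniteType)).1 this
  let _ : Algebra (Γ(U, U0) ⊗[Γ(S, S0)] K) Γ(W, W0) := ψ.toRingHom.toAlgebra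
  obtain ⟨s, hs⟩ := (hψ : Algebra.FiniteType (Γ(U, U0) ⊗[Γ(S, S0)] K) Γ(W, W0)).out
  let evA := U.evaluation U0 (q p) hpU
  let evB := W.evaluation W0 p hpW
  let r := q.residueFieldMap p
  have hev : φA ≫ evB = evA ≫ r := by
    have := Scheme.evaluation_naturality q p hpU
    simp only [φA, evA, evB, r, Scheme.Hom.appLE, Scheme.evaluation, Category.assoc,
      TopCat.Presheaf.germ_res_assoc] at this ⊢
    exact this.symm
  let _ : Algebra K (W.residueField p) := (φK ≫ evB).hom.toAlgebra
  let G : Set (W.residueField p) := Set.range r ∪ evB '' (s : Set Γ(W, W0))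
  have hG : #G < #K := by
    have hinf : ℵ₀ ≤ #K := aleph0_le_mk _
    refine (mk_union_le _ _).trans_lt (add_lt_of_lt hinf ((mk_range_le).trans_lt hK) ?_)
    exact (s.finite_toSet.image _).lt_aleph0.trans_le hinf
  obtain ⟨θ⟩ := exists_algHom_adjoin G hG
  have hmem : ∀ b : Γ(W, W0), evB b ∈ Algebra.adjoin K G := by
    intro b
    have hb : b ∈ Algebra.adjoin (Γ(U, U0) ⊗[Γ(S, S0)] K) (s : Set Γ(W, W0)) := hs ▸ Algebra.mem_top
    induction hb using Algebra.adjoin_induction with
    | mem x hx => exact Algebra.subset_adjoin (Or.inr ⟨x, hx, rfl⟩)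
    | algebraMap t =>
      induction t with
      | zero => simp
      | tmul a c =>
        change evB (ψ (a ⊗ₜ c)) ∈ _
        rw [Algebra.TensorProduct.productMap_apply_tmul, map_mul]
        refine Subalgebra.mul_mem _ (Algebra.subset_adjoin (Or.inl ⟨evA a, ?_⟩))
          (Subalgebra.algebraMap_mem _ c)
        exact (congrArg (fun t => t.hom a) hev).symm
      | add x y hx hy => rw [map_add, map_add]; exact Subalgebra.add_mem _ hx hy
    | add x y _ _ hx hy => rw [map_add]; exact Subalgebra.add_mem _ hx hy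
    | mul x y _ _ hx hy => rw [map_mul]; exact Subalgebra.mul_mem _ hx hy
  let χ : Γ(W, W0) ⟶ CommRingCat.of K :=
    CommRingCat.ofHom (θ.toRingHom.comp (evB.hom.codRestrict (Algebra.adjoin K G) hmem))
  let γ : U.residueField (q p) ⟶ CommRingCat.of K :=
    CommRingCat.ofHom (θ.toRingHom.comp (r.hom.codRestrict (Algebra.adjoin K G)
      fun c => Algebra.subset_adjoin (Or.inl ⟨c, rfl⟩)))
  have hχK : φK ≫ χ = 𝟙 _ := by
    ext c
    change θ ⟨evB (φK c), _⟩ = c
    exact θ.commutes c
  have hχA : φA ≫ χ = evA ≫ γ := by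
    ext a
    change θ ⟨evB (φA a), _⟩ = θ ⟨r (evA a), _⟩
    exact congrArg θ (Subtype.ext (congrArg (fun t => t.hom a) hev))
  refine ⟨Spec.map χ ≫ hW0.fromSpec, ?_, ?_⟩
  · rw [Category.assoc, ← hφK, ← Spec.map_comp, hχK, Spec.map_id]
  · have e : (Spec.map χ ≫ hW0.fromSpec) ≫ q =
        Spec.map γ ≫ Spec.map (U.residue (q p)) ≫ Spec.map (U.presheaf.germ U0 (q p) hpU) ≫ hU0.fromSpec := by
      rw [Category.assoc, ← hφA, ← Spec.map_comp_assoc, hχA]
      simp only [evA, Scheme.evaluation, Spec.map_comp, Category.assoc]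
    have e' := congrArg (fun t : Spec (CommRingCat.of K) ⟶ U => t (IsLocalRing.closedPoint K)) e
    refine e'.trans ?_
    change hU0.fromSpec (Spec.map _ (Spec.map (U.residue (q p)) _)) = _
    erw [Scheme.SpecMap_residue_apply, ← hU0.primeIdealOf_eq_map_closedPoint ⟨q p, hpU⟩,
      hU0.fromSpec_primeIdealOf]

variable {S : Scheme.{u}}

theorem exists_geometric_lift {X Y : Sp S} (hY : IsAlgSpace Y) (f : X ⟶ Y) {U : Over S}
    (a : (yon S).obj U ⟶ X) (has : RepWith @Surjective a) (ybar : FieldPt Y) (hy : ybar.IsGeometric)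
    (hk : ∀ u : ↥U.left, #(U.left.residueField u) < #ybar.K)
    (x : Points X) (hx : Points.map f x = Points.mk ybar) :
    ∃ xbar : (yon S).obj ybar.pt ⟶ X, xbar ≫ f = ybar.toHom ∧
      Points.ofPt xbar (IsLocalRing.closedPoint ybar.K) = x := by
  have : IsAlgClosed ybar.K := hy
  obtain ⟨u, rfl⟩ := surjective_ofPt a has x
  rw [Points.map_ofPt, ← ptOfHom_toHom ybar, ← ofPt_eq_ptOfHom_of_field ybar.toHom (IsLocalRing.closedPoint ybar.K)] at hx
  have hb := hY.representable_from_yon ybar.toHom
  have sq := hb.isPullback' (a ≫ f)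
  obtain ⟨p, hp1, -⟩ := (ofPt_eq_ofPt_iff sq.flip u (IsLocalRing.closedPoint ybar.K)).1 hx
  have sqd := isPullback_diag_prod_map sq.flip
  let W := hb.pullback (a ≫ f)
  let j : W ⟶ U ⨯ ybar.pt := prod.lift (hb.snd (a ≫ f)) (hb.fst' (a ≫ f))
  have e : prod.lift ((yon S).map (hb.snd (a ≫ f))) ((yon S).map (hb.fst' (a ≫ f))) =
      (yon S).map j ≫ prodComparison (yon S) U ybar.pt := by
    apply Limits.prod.hom_ext <;> simp [j, ← Functor.map_comp]
  have hj : LocallyOfFiniteType j.left := by
    have := RepWith.baseChange sqd (repWith_diag_lft hY)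
    rw [e] at this
    exact (repWith_yon_map_iff @LocallyOfFiniteType j).1
      ((MorphismProperty.cancel_right_of_respectsIso (RepWith @LocallyOfFiniteType) _ _).1 this)
  have w : (hb.snd (a ≫ f)).left ≫ U.hom = (hb.fst' (a ≫ f)).left ≫ ybar.str :=
    (Over.w _).trans (Over.w (hb.fst' (a ≫ f))).symm
  have hl : pullback.lift (hb.snd (a ≫ f)).left (hb.fst' (a ≫ f)).left w =
      j.left ≫ (Over.prodLeftIsoPullback U ybar.pt).hom := by
    apply pullback.hom_ext
    · rw [pullback.lift_fst, Category.assoc]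
      erw [Over.prodLeftIsoPullback_hom_fst]
      rw [← Over.comp_left, prod.lift_fst]
    · rw [pullback.lift_snd, Category.assoc]
      erw [Over.prodLeftIsoPullback_hom_snd]
      rw [← Over.comp_left, prod.lift_snd]
  obtain ⟨s, hs1, hs2⟩ := exists_rational_point ybar.str U.hom (hb.snd (a ≫ f)).left (hb.fst' (a ≫ f)).left w
    (hl ▸ inferInstance) p (hk _)
  have hsW : s ≫ W.hom = ybar.pt.hom := by
    rw [← Over.w (hb.fst' (a ≫ f)), ← Category.assoc, hs1, Category.id_comp]
  let t : ybar.pt ⟶ W := Over.homMk s hsW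
  have ht : t ≫ hb.fst' (a ≫ f) = 𝟙 _ := Over.OverMorphism.ext hs1
  refine ⟨(yon S).map (t ≫ hb.snd (a ≫ f)) ≫ a, ?_, ?_⟩
  · rw [Category.assoc, Functor.map_comp, Category.assoc, ← sq.w, ← Category.assoc, ← Functor.map_comp, ht,
      CategoryTheory.Functor.map_id, Category.id_comp]
  · rw [ofPt_map (t ≫ hb.snd (a ≫ f)) a]
    exact congrArg (Points.ofPt a) (hs2.trans hp1)

end Groth.Agent.AlgSpLib
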