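import Groth.Agent.AlgSpLib.LargestOpen
import Groth.Agent.AlgSpLib.GroupoidLemmas

/-!
Invariance of the largest open over which an equivariant family has a property local on the base.
-/

universe u

open CategoryTheory CategoryTheory.Limits AlgebraicGeometry Opposite
open AlgSp

noncomputable section

namespace Groth.Agent.AlgSpLib

set_option backward.isDefEq.respectTransparency.types false

variable {S : Scheme.{u}} {B : Sp S} (G : GroupoidSp B)
  {Q : MorphismProperty (Sp S)} {P : MorphismProperty (Sp S)}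

theorem isInvariant_largest (hQ : CovClass Q)
    (hP : IsLocalOnBase (S := S) (fun _ _ Yi g => IsCover Q Yi g) P)
    (hU : IsAlgSpace G.U) (hR : IsAlgSpace G.R) (hs : Q G.s) (ht : Q G.t)
    {Z : Sp S} (hZ : IsAlgSpace Z) (f : Z ⟶ G.U)
    (e : Over.mk (pullback.snd f G.t) ≅ Over.mk (pullback.snd f G.s))
    {W : Sp S} (hWsp : IsAlgSpace W) (w : W ⟶ G.U) (hw : RepWith @IsOpenImmersion w)
    (hmax : ∀ (W' : Sp S) (w' : W' ⟶ G.U), IsAlgSpace W' → RepWith @IsOpenImmersion w' →
      (P (pullback.snd f w') ↔ ∃ k : W' ⟶ W, k ≫ w = w')) :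
    G.IsInvariant w := by
  have hwo : IsOpen (Set.range (Points.map w)) :=
    (hQ.isOpenMap hWsp hU (hQ.openImm hWsp hU hw)).isOpen_range
  have hPW : P (pullback.snd f w) := (hmax W w hWsp hw).2 ⟨𝟙 W, Category.id_comp w⟩
  have hrange : Set.range (Points.map w) = (LargestOpen.largest P f : Set (Points G.U)) := by
    refine subset_antisymm (LargestOpen.le_largest hwo (LargestOpen.overOpen_of_one hQ hP hWsp
      (isAlgSpace_of_isPullback hU.diag hZ hWsp (IsPullback.of_hasPullback f w)) hw rfl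
      (IsPullback.of_hasPullback f w) hPW)) ?_
    have hO : IsOpen (LargestOpen.largest P f : Set (Points G.U)) := (LargestOpen.largest P f).2
    have hj := repWith_openSubspaceι G.U hO
    have hW' := isAlgSpace_openSubspace hU hO
    obtain ⟨k, hk⟩ := (hmax _ _ hW' hj).1 (LargestOpen.overOpen_largest hQ hP hZ hU f _ _ _ _ _ hW'
      (isAlgSpace_of_isPullback hU.diag hZ hW' (IsPullback.of_hasPullback f _)) hj
      (range_openSubspaceι G.U _) (IsPullback.of_hasPullback f _))
    rintro x hx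
    obtain ⟨z, rfl⟩ := (range_openSubspaceι G.U _).ge hx
    exact ⟨Points.map k z, by rw [← Points.map_comp, hk]⟩
  have hAt := isAlgSpace_of_isPullback hU.diag hZ hR (IsPullback.of_hasPullback f G.t)
  have hAs := isAlgSpace_of_isPullback hU.diag hZ hR (IsPullback.of_hasPullback f G.s)
  have hew : e.hom.left ≫ pullback.snd f G.s = pullback.snd f G.t := Over.w e.hom
  have sqt : IsPullback (e.inv.left ≫ pullback.fst f G.t) (pullback.snd f G.s) f G.t := by
    refine IsPullback.of_iso (IsPullback.of_hasPullback f G.t) ((Over.forget _).mapIso e)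
      (Iso.refl _) (Iso.refl _) (Iso.refl _) ?_ ?_ ?_ ?_
    · simp only [Iso.refl_hom, Category.comp_id, Functor.mapIso_hom, Over.forget_map]
      rw [← Category.assoc, ← Over.comp_left, e.hom_inv_id, Over.id_left]
      exact (Category.id_comp _).symm
    · simp only [Iso.refl_hom, Category.comp_id, Functor.mapIso_hom, Over.forget_map]
      exact hew.symm
    · simp
    · simp
  have key := (LargestOpen.largest_preimage hQ hP hZ hU hR hAs ht sqt).symm.trans
    (LargestOpen.largest_preimage hQ hP hZ hU hR hAs hs (IsPullback.of_hasPullback f G.s))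
  refine isInvariant_of_points G hw fun z => ?_
  rw [hrange]
  exact Set.ext_iff.1 key z

/-- the two base changes of `s` to the arrows -/
def sourceFibreIso : Over.mk (pullback.snd G.s G.t) ≅ Over.mk (pullback.snd G.s G.s) := by
  refine (Over.isoMk (pullbackSymmetry G.s G.t ≪≫
      pullback.congrHom (Category.id_comp G.t).symm rfl) ?_) ≪≫
    fibreIso G (𝟙 G.R) ≪≫
    (Over.isoMk (pullback.congrHom (Category.id_comp G.s) rfl ≪≫ pullbackSymmetry G.s G.s) ?_)
  · simp only [Over.mk_hom, Iso.trans_hom, pullback.congrHom_hom, Category.assoc]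
    rw [pullback.lift_fst, Category.comp_id, pullbackSymmetry_hom_comp_fst]
  · simp only [Over.mk_hom, Iso.trans_hom, pullback.congrHom_hom, Category.assoc]
    rw [pullbackSymmetry_hom_comp_snd, pullback.lift_fst, Category.comp_id]

theorem diag_fst : G.diag ≫ pullback.fst G.pU G.pU = 𝟙 G.U := pullback.lift_fst _ _ _

theorem diag_snd : G.diag ≫ pullback.snd G.pU G.pU = 𝟙 G.U := pullback.lift_snd _ _ _

theorem stabilizer_ι_t : G.stabilizerι ≫ G.t = G.stabilizerToU := by
  have := congr($(pullback.condition (f := G.j) (g := G.diag)) ≫ pullback.fst G.pU G.pU)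
  rw [Category.assoc, Category.assoc, G.j_fst, diag_fst, Category.comp_id] at this
  exact this

theorem stabilizer_ι_s : G.stabilizerι ≫ G.s = G.stabilizerToU := by
  have := congr($(pullback.condition (f := G.j) (g := G.diag)) ≫ pullback.snd G.pU G.pU)
  rw [Category.assoc, Category.assoc, G.j_snd, diag_snd, Category.comp_id] at this
  exact this

/-- a loop as a point of the stabilizer -/
def stabLift {T : Sp S} (α : T ⟶ G.R) (h : α ≫ G.t = α ≫ G.s) : T ⟶ G.stabilizer :=
  pullback.lift α (α ≫ G.s) (by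
    apply pullback.hom_ext
    · rw [Category.assoc, Category.assoc, G.j_fst, Category.assoc, diag_fst, Category.comp_id, h]
    · rw [Category.assoc, Category.assoc, G.j_snd, Category.assoc, diag_snd, Category.comp_id])

theorem stabLift_ι {T : Sp S} (α : T ⟶ G.R) (h : α ≫ G.t = α ≫ G.s) :
    stabLift G α h ≫ G.stabilizerι = α := pullback.lift_fst _ _ _

theorem stabLift_toU {T : Sp S} (α : T ⟶ G.R) (h : α ≫ G.t = α ≫ G.s) :
    stabLift G α h ≫ G.stabilizerToU = α ≫ G.s := pullback.lift_snd _ _ _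

theorem stab_hom_ext {T : Sp S} {a b : T ⟶ G.stabilizer}
    (h : a ≫ G.stabilizerι = b ≫ G.stabilizerι) : a = b := by
  refine pullback.hom_ext h ?_
  show a ≫ G.stabilizerToU = b ≫ G.stabilizerToU
  rw [← stabilizer_ι_s, reassoc_of% h]

/-- `γ⁻¹ α γ` -/
def conjR {T : Sp S} (α γ : T ⟶ G.R) (hs : α ≫ G.s = γ ≫ G.t) (ht : α ≫ G.t = γ ≫ G.t) : T ⟶ G.R :=
  cmp G (γ ≫ G.i) (cmp G α γ hs) ((inv_s G γ).trans (ht.symm.trans (cmp_t G α γ hs).symm))

theorem comp_conjR {T T' : Sp S} (k : T' ⟶ T) (α γ : T ⟶ G.R) (hs : α ≫ G.s = γ ≫ G.t)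
    (ht : α ≫ G.t = γ ≫ G.t) : k ≫ conjR G α γ hs ht = conjR G (k ≫ α) (k ≫ γ)
      (by rw [Category.assoc, hs, Category.assoc]) (by rw [Category.assoc, ht, Category.assoc]) := by
  rw [conjR, conjR, comp_cmp]
  exact cmp_congr G _ (Category.assoc _ _ _).symm (comp_cmp G k α γ hs)

theorem conjR_s {T : Sp S} (α γ : T ⟶ G.R) (hs : α ≫ G.s = γ ≫ G.t) (ht : α ≫ G.t = γ ≫ G.t) :
    conjR G α γ hs ht ≫ G.s = γ ≫ G.s := by rw [conjR, cmp_s, cmp_s]

theorem conjR_t {T : Sp S} (α γ : T ⟶ G.R) (hs : α ≫ G.s = γ ≫ G.t) (ht : α ≫ G.t = γ ≫ G.t) :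
    conjR G α γ hs ht ≫ G.t = γ ≫ G.s := by rw [conjR, cmp_t, inv_t]

theorem inv_inv {T : Sp S} (γ : T ⟶ G.R) : (γ ≫ G.i) ≫ G.i = γ := by
  have e1 := cmp_inv_cancel_right G γ (γ ≫ G.i) (inv_t G γ).symm
  rw [cmp_congr G (h := (cmp_s G γ (γ ≫ G.i) (inv_t G γ).symm).trans (inv_t G (γ ≫ G.i)).symm)
    (α' := γ ≫ G.t ≫ G.e) (by rw [Category.assoc, Category.assoc, G.e_s, Category.comp_id, inv_t, inv_s])
    (G.comp_i γ) rfl] at e1
  exact (e_comp' G _ (by rw [← Category.assoc _ G.t G.e, ← Category.assoc _ G.t G.e, inv_t, inv_s]) _).symm.trans e1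

theorem conjR_conjR {T : Sp S} (α γ : T ⟶ G.R) (hs : α ≫ G.s = γ ≫ G.t) (ht : α ≫ G.t = γ ≫ G.t) :
    conjR G (conjR G α γ hs ht) (γ ≫ G.i) ((conjR_s G α γ hs ht).trans (inv_t G γ).symm)
      ((conjR_t G α γ hs ht).trans (inv_t G γ).symm) = α := by
  have h1 : (γ ≫ G.i) ≫ G.s = cmp G α γ hs ≫ G.t :=
    (inv_s G γ).trans (ht.symm.trans (cmp_t G α γ hs).symm)
  have h2 : cmp G α γ hs ≫ G.s = (γ ≫ G.i) ≫ G.t := (cmp_s G α γ hs).trans (inv_t G γ).symm
  unfold conjR
  refine (cmp_congr G ?_ (inv_inv G γ) ((cmp_assoc G (γ ≫ G.i) (cmp G α γ hs) (γ ≫ G.i) h1 h2).trans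
    (cmp_congr G ((inv_s G γ).trans ht.symm) rfl (cmp_inv_cancel_right G α γ hs)))).trans ?_
  · rw [cmp_t, inv_t]
  rw [← cmp_assoc G γ (γ ≫ G.i) α (inv_t G γ).symm ((inv_s G γ).trans ht.symm)]
  exact e_comp' G α (by
    show cmp G γ (γ ≫ G.i) _ = α ≫ G.t ≫ G.e
    rw [reassoc_of% ht]
    exact G.comp_i γ) _

/-- the two base changes of the stabilizer to the arrows -/
def stabilizerFibreIso :
    Over.mk (pullback.snd G.stabilizerToU G.t) ≅ Over.mk (pullback.snd G.stabilizerToU G.s) := by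
  let α := pullback.fst G.stabilizerToU G.t ≫ G.stabilizerι
  let γ := pullback.snd G.stabilizerToU G.t
  have hs : α ≫ G.s = γ ≫ G.t := by
    rw [Category.assoc, stabilizer_ι_s, pullback.condition]
  have ht : α ≫ G.t = γ ≫ G.t := by
    rw [Category.assoc, stabilizer_ι_t, pullback.condition]
  let β := pullback.fst G.stabilizerToU G.s ≫ G.stabilizerι
  let δ := pullback.snd G.stabilizerToU G.s ≫ G.i
  have hs' : β ≫ G.s = δ ≫ G.t := by
    rw [Category.assoc, stabilizer_ι_s, pullback.condition, inv_t]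
  have ht' : β ≫ G.t = δ ≫ G.t := by
    rw [Category.assoc, stabilizer_ι_t, pullback.condition, inv_t]
  let f : pullback G.stabilizerToU G.t ⟶ pullback G.stabilizerToU G.s :=
    pullback.lift (stabLift G (conjR G α γ hs ht)
      ((conjR_t G α γ hs ht).trans (conjR_s G α γ hs ht).symm)) γ
      ((stabLift_toU G _ _).trans (conjR_s G α γ hs ht))
  let g : pullback G.stabilizerToU G.s ⟶ pullback G.stabilizerToU G.t :=
    pullback.lift (stabLift G (conjR G β δ hs' ht')
      ((conjR_t G β δ hs' ht').trans (conjR_s G β δ hs' ht').symm))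
      (pullback.snd G.stabilizerToU G.s)
      ((stabLift_toU G _ _).trans ((conjR_s G β δ hs' ht').trans (inv_s G _)))
  refine Over.isoMk ⟨f, g, ?_, ?_⟩ (pullback.lift_snd _ _ _)
  · apply pullback.hom_ext
    · refine stab_hom_ext G ?_
      show ((f ≫ g) ≫ pullback.fst G.stabilizerToU G.t) ≫ G.stabilizerι =
        (𝟙 (pullback G.stabilizerToU G.t) ≫ pullback.fst G.stabilizerToU G.t) ≫ G.stabilizerι
      rw [Category.id_comp, Category.assoc f g, pullback.lift_fst, Category.assoc f, stabLift_ι,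
        comp_conjR]
      refine Eq.trans ?_ (conjR_conjR G α γ hs ht)
      simp only [β, δ]
      congr 1
      · rw [← Category.assoc, pullback.lift_fst, stabLift_ι]
      · rw [← Category.assoc, pullback.lift_snd]
    · rw [Category.assoc, pullback.lift_snd, pullback.lift_snd, Category.id_comp]
  · apply pullback.hom_ext
    · refine stab_hom_ext G ?_
      show ((g ≫ f) ≫ pullback.fst G.stabilizerToU G.s) ≫ G.stabilizerι =
        (𝟙 (pullback G.stabilizerToU G.s) ≫ pullback.fst G.stabilizerToU G.s) ≫ G.stabilizerι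
      rw [Category.id_comp, Category.assoc g f, pullback.lift_fst, Category.assoc g, stabLift_ι,
        comp_conjR]
      refine Eq.trans ?_ (conjR_conjR G β δ hs' ht')
      simp only [α, γ]
      congr 1
      · rw [← Category.assoc, pullback.lift_fst, stabLift_ι]
      · rw [pullback.lift_snd]
        exact (inv_inv G _).symm
    · rw [Category.assoc, pullback.lift_snd, pullback.lift_snd, Category.id_comp]

end Groth.Agent.AlgSpLib
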