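import Groth.Agent.AlgSpLib.LocP
import Groth.Agent.AlgSpLib.EtLocalInst
import Groth.Agent.S9183
import Mathlib.AlgebraicGeometry.AffineTransitionLimit

/-!
Criterion for being locally of finite presentation in terms of points over limits.
-/

universe u

open CategoryTheory CategoryTheory.Limits AlgebraicGeometry Opposite
open AlgSp

noncomputable section

namespace Groth.Agent.AlgSpLib.LfpCrit

set_option backward.isDefEq.respectTransparency.types false

section scheme

variable {I : Type u} [SmallCategory I] [IsCofiltered I] (D : I ⥤ Scheme.{u}) (c : Cone D) (hc : IsLimit c)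
  [∀ i, IsAffine (D.obj i)]

include hc in
theorem exists_section {i : I} {W : Scheme.{u}} (q : W ⟶ D.obj i) [LocallyOfFinitePresentation q]
    (σ : c.pt ⟶ W) (hσ : σ ≫ q = c.π.app i) :
    ∃ (j : I) (φ : j ⟶ i) (g : D.obj j ⟶ W), c.π.app j ≫ g = σ ∧ g ≫ q = D.map φ := by
  let F := Over.forget i ⋙ D
  have hc' : IsLimit (c.whisker (Over.forget i)) :=
    (Functor.Initial.isLimitWhiskerEquiv (Over.forget i) c).symm hc
  have : ∀ j, IsAffine (F.obj j) := fun j => inferInstanceAs (IsAffine (D.obj j.left))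
  let t : F ⟶ (Functor.const (Over i)).obj (D.obj i) :=
    { app := fun j => D.map j.hom
      naturality := fun j k φ => by
        show D.map φ.left ≫ D.map k.hom = D.map j.hom ≫ 𝟙 _
        rw [← D.map_comp, Over.w φ, Category.comp_id] }
  obtain ⟨j, g, h1, h2⟩ := Scheme.exists_π_app_comp_eq_of_locallyOfFinitePresentation F t q
    (c.whisker (Over.forget i)) hc' σ (by
      ext j
      show c.π.app j.left ≫ D.map j.hom = σ ≫ q
      rw [c.w, hσ])
  exact ⟨j.left, j.hom, g, h1, h2⟩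

include hc in
theorem exists_eq {i : I} {W : Scheme.{u}} (q : W ⟶ D.obj i) [LocallyOfFiniteType q]
    (g g' : D.obj i ⟶ W) (hg : g ≫ q = 𝟙 _) (hg' : g' ≫ q = 𝟙 _)
    (h : c.π.app i ≫ g = c.π.app i ≫ g') : ∃ (j : I) (φ : j ⟶ i), D.map φ ≫ g = D.map φ ≫ g' := by
  let F := Over.forget i ⋙ D
  have hc' : IsLimit (c.whisker (Over.forget i)) :=
    (Functor.Initial.isLimitWhiskerEquiv (Over.forget i) c).symm hc
  have : ∀ j, IsAffine (F.obj j) := fun j => inferInstanceAs (IsAffine (D.obj j.left))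
  let t : F ⟶ (Functor.const (Over i)).obj (D.obj i) :=
    { app := fun j => D.map j.hom
      naturality := fun j k φ => by
        show D.map φ.left ≫ D.map k.hom = D.map j.hom ≫ 𝟙 _
        rw [← D.map_comp, Over.w φ, Category.comp_id] }
  have hid : D.map (𝟙 i) = 𝟙 (D.obj i) := D.map_id i
  obtain ⟨k, φ, e⟩ := Scheme.exists_hom_comp_eq_comp_of_locallyOfFiniteType F t q
    (c.whisker (Over.forget i)) hc' (i := Over.mk (𝟙 i)) g g'
    (by show D.map (𝟙 i) = g ≫ q; rw [hg, hid]) (by show D.map (𝟙 i) = g' ≫ q; rw [hg', hid]) h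
  exact ⟨k.left, φ.left, e⟩

end scheme

/-- retracts of finitely presented algebras are finitely presented -/
theorem finitePresentation_of_retract {A T B : Type u} [CommRing A] [CommRing T] [CommRing B] [Algebra A T]
    [Algebra A B] [Algebra.FinitePresentation A T] (π : T →ₐ[A] B) (s : B →ₐ[A] T)
    (h : π.comp s = AlgHom.id A B) : Algebra.FinitePresentation A B := by
  have hs : Function.Surjective π := fun y => ⟨s y, AlgHom.congr_fun h y⟩
  refine Algebra.FinitePresentation.of_surjective (f := π) hs ?_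
  obtain ⟨t, ht⟩ := (inferInstance : Algebra.FiniteType A T).out
  classical
  refine ⟨t.image (fun x => x - s (π x)), le_antisymm (Ideal.span_le.2 ?_) fun x hx => ?_⟩
  · intro y hy
    obtain ⟨x, -, rfl⟩ := Finset.mem_image.1 (Finset.mem_coe.1 hy)
    show π (x - s (π x)) = 0
    rw [map_sub, ← AlgHom.comp_apply, h, AlgHom.id_apply, sub_self]
  · let J := Ideal.span ((t.image (fun x => x - s (π x)) : Finset T) : Set T)
    have : (Ideal.Quotient.mkₐ A J).comp (s.comp π) = Ideal.Quotient.mkₐ A J :=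
      AlgHom.ext_of_adjoin_eq_top ht fun y hy =>
        (Ideal.Quotient.eq.2 (Ideal.subset_span (Finset.mem_image_of_mem (fun x => x - s (π x)) hy))).symm
    have h2 := AlgHom.congr_fun this x
    have hx' : π x = 0 := hx
    rw [AlgHom.comp_apply, AlgHom.comp_apply, hx', map_zero, map_zero] at h2
    exact Ideal.Quotient.eq_zero_iff_mem.1 h2.symm

variable {S : Scheme.{u}}

theorem finitePresentation_appLE_of_surjective {X Y : Space S} (f : X ⟶ Y)
    (h : ∀ ⦃I : Type u⦄ [SmallCategory I] [IsCofiltered I] (D : I ⥤ Over S) (c : Cone D),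
      IsLimit ((Over.forget S).mapCone c) → (∀ i, IsAffine (D.obj i).left) → IsAffine c.pt.left →
      ∀ (x : (yon S).obj c.pt ⟶ X.obj) (i : I) (y : (yon S).obj (D.obj i) ⟶ Y.obj),
        x ≫ f.hom = (yon S).map (c.π.app i) ≫ y →
        ∃ (i' : I) (φ : i' ⟶ i) (x' : (yon S).obj (D.obj i') ⟶ X.obj),
          (yon S).map (c.π.app i') ≫ x' = x ∧ x' ≫ f.hom = (yon S).map (D.map φ) ≫ y)
    {U V : Over S} {a : (yon S).obj U ⟶ X.obj} {b : (yon S).obj V ⟶ Y.obj} {k : U ⟶ V}
    (ha : RepWith @Etale a) (hb : RepWith @Etale b) (w : a ≫ f.hom = (yon S).map k ≫ b)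
    (W : V.left.Opens) (hW : IsAffineOpen W) (P : U.left.Opens) (hP : IsAffineOpen P)
    (e : P ≤ k.left ⁻¹ᵁ W) : (k.left.appLE W P e).hom.FinitePresentation := by
  letI := (k.left.appLE W P e).hom.toAlgebra
  obtain ⟨I, _, _, G, cG, hcG, hfp, ⟨iso⟩⟩ := Groth.Agent.S9183.result Γ(V.left, W) Γ(U.left, P)
  let wV : Spec (CommRingCat.of Γ(V.left, W)) ⟶ S := hW.fromSpec ≫ V.hom
  let D : Iᵒᵖ ⥤ Over S :=
    { obj := fun i => Over.mk (Spec.map (G.obj i.unop).hom ≫ wV)
      map := fun {i j} φ => Over.homMk (Spec.map (G.map φ.unop).right) (by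
        show Spec.map _ ≫ Spec.map _ ≫ wV = Spec.map _ ≫ wV
        rw [← Spec.map_comp_assoc, Under.w (G.map φ.unop)])
      map_id := fun i => Over.OverMorphism.ext (by simp)
      map_comp := fun φ ψ => Over.OverMorphism.ext (by simp) }
  let c : Cone D :=
    { pt := Over.mk (Spec.map cG.pt.hom ≫ wV)
      π :=
        { app := fun i => Over.homMk (Spec.map (cG.ι.app i.unop).right) (by
            show Spec.map _ ≫ Spec.map _ ≫ wV = Spec.map _ ≫ wV
            rw [← Spec.map_comp_assoc, Under.w (cG.ι.app i.unop)]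
            rfl)
          naturality := fun i j φ => Over.OverMorphism.ext (by
            show 𝟙 _ ≫ Spec.map _ = Spec.map _ ≫ Spec.map _
            rw [Category.id_comp, ← Spec.map_comp, ← Under.comp_right, cG.w φ.unop]) } }
  have : IsConnected I := IsFiltered.isConnected I
  have hlim : IsLimit ((Over.forget S).mapCone c) := by
    have h1 : IsColimit ((Under.forget _).mapCocone cG) := isColimitOfPreserves _ hcG
    have h2 : IsLimit (Scheme.Spec.mapCone ((Under.forget _).mapCocone cG).op) :=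
      isLimitOfPreserves _ h1.op
    exact h2.ofIsoLimit (Cone.ext (Iso.refl _) (fun i => (Category.id_comp _).symm))
  let eB : CommRingCat.of Γ(U.left, P) ⟶ cG.pt.right := iso.inv.right
  have heB : CommRingCat.ofHom (algebraMap Γ(V.left, W) Γ(U.left, P)) ≫ eB = cG.pt.hom := Under.w iso.inv
  let α : c.pt ⟶ U := Over.homMk (U := c.pt) (Spec.map eB ≫ hP.fromSpec) (by
    show (Spec.map eB ≫ hP.fromSpec) ≫ U.hom = Spec.map cG.pt.hom ≫ hW.fromSpec ≫ V.hom
    rw [← heB, Spec.map_comp, Category.assoc, Category.assoc, ← Over.w k,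
      show Spec.map (CommRingCat.ofHom (algebraMap Γ(V.left, W) Γ(U.left, P))) = Spec.map (k.left.appLE W P e)
        from rfl, hW.SpecMap_appLE_fromSpec_assoc k.left hP e])
  let β : ∀ i, D.obj i ⟶ V := fun i =>
    Over.homMk (U := D.obj i) (Spec.map (G.obj i.unop).hom ≫ hW.fromSpec) (Category.assoc _ _ _)
  have hβ : ∀ {i j} (φ : i ⟶ j), D.map φ ≫ β j = β i := fun {i j} φ => Over.OverMorphism.ext (by
    show Spec.map _ ≫ Spec.map _ ≫ hW.fromSpec = Spec.map _ ≫ hW.fromSpec
    rw [← Spec.map_comp_assoc, Under.w (G.map φ.unop)])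
  have hαβ : ∀ i, c.π.app i ≫ β i = α ≫ k := fun i => Over.OverMorphism.ext (by
    show Spec.map _ ≫ Spec.map _ ≫ hW.fromSpec = (Spec.map eB ≫ hP.fromSpec) ≫ k.left
    rw [← Spec.map_comp_assoc, Under.w (cG.ι.app i.unop)]
    show Spec.map cG.pt.hom ≫ _ = _
    rw [← heB, Spec.map_comp, Category.assoc, Category.assoc,
      show Spec.map (CommRingCat.ofHom (algebraMap Γ(V.left, W) Γ(U.left, P))) = Spec.map (k.left.appLE W P e)
        from rfl, hW.SpecMap_appLE_fromSpec k.left hP e])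
  obtain ⟨i₀⟩ : Nonempty Iᵒᵖ := ⟨op (IsFiltered.nonempty (C := I)).some⟩
  have hDaff : ∀ i, IsAffine (D.obj i).left := fun i => isAffine_Spec _
  obtain ⟨i₁, φ, x', hx, hxf⟩ := h D c hlim hDaff (isAffine_Spec _) ((yon S).map α ≫ a) i₀
    ((yon S).map (β i₀) ≫ b) (by
      rw [Category.assoc, w, ← Functor.map_comp_assoc, ← Functor.map_comp_assoc, hαβ])
  rw [← Functor.map_comp_assoc, hβ] at hxf
  -- lift to the chart
  have : ∀ i, IsAffine ((D ⋙ Over.forget S).obj i) := hDaff
  have : Etale (ha.1.snd x').left := ha.property_snd x'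
  obtain ⟨σ, hσ1, hσ2⟩ := (ha.1.isPullback' x').exists_lift ((yon S).map α) ((yon S).map (c.π.app i₁)) hx.symm
  obtain ⟨σ, rfl⟩ := (yon S).map_surjective σ
  rw [← Functor.map_comp] at hσ1 hσ2
  replace hσ1 := (yon S).map_injective hσ1
  replace hσ2 := (yon S).map_injective hσ2
  have hlfp : LocallyOfFinitePresentation (ha.1.snd x').left := inferInstance
  obtain ⟨i₂, φ₂, g, hg1, hg2⟩ := @exists_section _ _ _ (D ⋙ Over.forget S) _ hlim (fun i => hDaff i) i₁ _ (ha.1.snd x').left hlfp σ.left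
    (congrArg (fun m => m.left) hσ2)
  let g' : D.obj i₂ ⟶ ha.1.pullback x' := Over.homMk g (by
    rw [← Over.w (ha.1.snd x'), ← Category.assoc]
    exact (congrArg (· ≫ (D.obj i₁).hom) hg2).trans (Over.w (D.map φ₂)))
  have hg'1 : c.π.app i₂ ≫ g' = σ := Over.OverMorphism.ext hg1
  have hg'2 : g' ≫ ha.1.snd x' = D.map φ₂ := Over.OverMorphism.ext hg2
  let u := g' ≫ ha.1.fst' x'
  have hu : (yon S).map (u ≫ k) ≫ b = (yon S).map (β i₂) ≫ b := by
    rw [Functor.map_comp, Category.assoc, ← w, Functor.map_comp, Category.assoc, ← Category.assoc ((yon S).map (ha.1.fst' x')),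
      (ha.1.isPullback' x').w, Category.assoc, hxf, ← Functor.map_comp_assoc, ← Functor.map_comp_assoc, hg'2, hβ]
  -- equalize over the chart of the target
  let y₂ := (yon S).map (β i₂) ≫ b
  have : Etale (hb.1.snd y₂).left := hb.property_snd y₂
  obtain ⟨s₁, hs₁, hs₁'⟩ := (hb.1.isPullback' y₂).exists_lift ((yon S).map (u ≫ k)) (𝟙 _)
    (by rw [Category.id_comp]; exact hu)
  obtain ⟨s₂, hs₂, hs₂'⟩ := (hb.1.isPullback' y₂).exists_lift ((yon S).map (β i₂)) (𝟙 _) (by rw [Category.id_comp])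
  obtain ⟨s₁, rfl⟩ := (yon S).map_surjective s₁
  obtain ⟨s₂, rfl⟩ := (yon S).map_surjective s₂
  rw [← Functor.map_comp, ← CategoryTheory.Functor.map_id] at hs₁' hs₂'
  rw [← Functor.map_comp] at hs₁ hs₂
  replace hs₁' := (yon S).map_injective hs₁'
  replace hs₂' := (yon S).map_injective hs₂'
  replace hs₁ := (yon S).map_injective hs₁
  replace hs₂ := (yon S).map_injective hs₂
  have hσu : c.π.app i₂ ≫ u = α := by rw [← Category.assoc, hg'1, hσ1]
  have hπs : c.π.app i₂ ≫ s₁ = c.π.app i₂ ≫ s₂ := by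
    refine (yon S).map_injective ((hb.1.isPullback' y₂).hom_ext ?_ ?_)
    · rw [← Functor.map_comp, ← Functor.map_comp, Category.assoc, Category.assoc, hs₁, hs₂, reassoc_of% hσu, hαβ]
    · rw [← Functor.map_comp, ← Functor.map_comp, Category.assoc, Category.assoc, hs₁', hs₂']
  obtain ⟨i₃, φ₃, heq⟩ := @exists_eq _ _ _ (D ⋙ Over.forget S) _ hlim (fun i => hDaff i) i₂ _ (hb.1.snd y₂).left (by have : LocallyOfFiniteType (hb.1.snd y₂).left := inferInstance; exact this) s₁.left s₂.left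
    (congrArg (fun m => m.left) hs₁') (congrArg (fun m => m.left) hs₂') (congrArg (fun m => m.left) hπs)
  have heq' : D.map φ₃ ≫ s₁ = D.map φ₃ ≫ s₂ := Over.OverMorphism.ext heq
  let u₃ := D.map φ₃ ≫ u
  have hu₃ : u₃ ≫ k = β i₃ := by
    rw [← hβ φ₃, ← hs₂, ← reassoc_of% heq', hs₁, Category.assoc]
  have hπu₃ : c.π.app i₃ ≫ u₃ = α := by rw [← Category.assoc, c.w, hσu]
  -- land in the affine open
  obtain ⟨i₄, φ₄, htop⟩ := exists_map_eq_top (D ⋙ Over.forget S) _ hlim (i := i₃) (u₃.left ⁻¹ᵁ P) (by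
    rw [← Scheme.Hom.comp_preimage]
    show (c.π.app i₃ ≫ u₃).left ⁻¹ᵁ P = ⊤
    rw [hπu₃]
    show (Spec.map eB ≫ hP.fromSpec) ⁻¹ᵁ P = ⊤
    rw [Scheme.Hom.comp_preimage, hP.fromSpec_preimage_self, Scheme.Hom.preimage_top])
  let u₄ := D.map φ₄ ≫ u₃
  have hrange : Set.range u₄.left ⊆ Set.range hP.fromSpec := by
    rintro _ ⟨z, rfl⟩
    rw [hP.range_fromSpec]
    have hz : z ∈ (D.map φ₄).left ⁻¹ᵁ u₃.left ⁻¹ᵁ P := by
      have : (D.map φ₄).left ⁻¹ᵁ u₃.left ⁻¹ᵁ P = ⊤ := htop
      rw [this]; trivial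
    exact hz
  obtain ⟨ψ, hψ⟩ := Spec.map_surjective (IsOpenImmersion.lift hP.fromSpec u₄.left hrange)
  have hψu : Spec.map ψ ≫ hP.fromSpec = u₄.left := by rw [hψ]; exact IsOpenImmersion.lift_fac _ _ _
  have hψk : k.left.appLE W P e ≫ ψ = (G.obj i₄.unop).hom := by
    refine Spec.map_injective ((cancel_mono hW.fromSpec).1 ?_)
    rw [Spec.map_comp, Category.assoc, hW.SpecMap_appLE_fromSpec k.left hP e, reassoc_of% hψu]
    have : u₄ ≫ k = β i₄ := by rw [Category.assoc, hu₃, hβ]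
    exact congrArg (fun m => m.left) this
  have hψπ : ψ ≫ (cG.ι.app i₄.unop).right = eB := by
    refine Spec.map_injective ((cancel_mono hP.fromSpec).1 ?_)
    rw [Spec.map_comp, Category.assoc, hψu]
    have : c.π.app i₄ ≫ u₄ = α := by rw [← Category.assoc, c.w, hπu₃]
    exact congrArg (fun m => m.left) this
  letI : Algebra Γ(V.left, W) (G.obj i₄.unop).right := (G.obj i₄.unop).hom.hom.toAlgebra
  have : Algebra.FinitePresentation Γ(V.left, W) (G.obj i₄.unop).right := hfp _
  have hπ : (G.obj i₄.unop).hom ≫ (cG.ι.app i₄.unop).right ≫ iso.hom.right =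
      CommRingCat.ofHom (algebraMap Γ(V.left, W) Γ(U.left, P)) := by
    rw [← Category.assoc, Under.w (cG.ι.app i₄.unop)]
    exact Under.w iso.hom
  let π : (G.obj i₄.unop).right →ₐ[Γ(V.left, W)] Γ(U.left, P) :=
    { toRingHom := ((cG.ι.app i₄.unop).right ≫ iso.hom.right).hom
      commutes' := fun r => congr($(hπ).hom r) }
  let s : Γ(U.left, P) →ₐ[Γ(V.left, W)] (G.obj i₄.unop).right :=
    { toRingHom := ψ.hom
      commutes' := fun r => congr($(hψk).hom r) }
  refine finitePresentation_of_retract π s (AlgHom.ext fun y => ?_)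
  have h5 : ψ ≫ (cG.ι.app i₄.unop).right ≫ iso.hom.right = 𝟙 _ := by
    rw [reassoc_of% hψπ]
    show iso.inv.right ≫ iso.hom.right = 𝟙 _
    rw [← Under.comp_right, iso.inv_hom_id]
    rfl
  exact congr($(h5).hom y)

theorem locP_lfp_of_surjective {X Y : Space S} (f : X ⟶ Y)
    (h : ∀ ⦃I : Type u⦄ [SmallCategory I] [IsCofiltered I] (D : I ⥤ Over S) (c : Cone D),
      IsLimit ((Over.forget S).mapCone c) → (∀ i, IsAffine (D.obj i).left) → IsAffine c.pt.left →
      ∀ (x : (yon S).obj c.pt ⟶ X.obj) (i : I) (y : (yon S).obj (D.obj i) ⟶ Y.obj),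
        x ≫ f.hom = (yon S).map (c.π.app i) ≫ y →
        ∃ (i' : I) (φ : i' ⟶ i) (x' : (yon S).obj (D.obj i') ⟶ X.obj),
          (yon S).map (c.π.app i') ≫ x' = x ∧ x' ≫ f.hom = (yon S).map (D.map φ) ≫ y) :
    LocP @LocallyOfFinitePresentation f.hom := fun _ _ _ _ k ha hb w =>
  (HasRingHomProperty.iff_appLE (P := @LocallyOfFinitePresentation) (f := k.left)).2 fun W P e =>
    finitePresentation_appLE_of_surjective f h ha hb w W.1 W.2 P.1 P.2 e

end Groth.Agent.AlgSpLib.LfpCrit
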