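import Mathlib.RingTheory.Flat.FaithfullyFlat.Basic
import Mathlib.RingTheory.TensorProduct.Maps
import Mathlib.LinearAlgebra.TensorProduct.Pi
import Mathlib.Algebra.MvPolynomial.PDeriv
import Mathlib.RingTheory.Ideal.Quotient.Operations
import Mathlib.RingTheory.FinitePresentation
import Mathlib.Tactic.LinearCombination
import Mathlib.Tactic.Ring

/-!
Descent of the existence of infinitesimal lifts along faithfully flat ring maps, stated for a functor on
algebras which near the given point looks like the functor of points of a finitely presented algebra.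
-/

universe u v

open TensorProduct

noncomputable section

namespace Groth.Agent.AlgSpLib.LiftDescent

/-- first order Taylor expansion -/
theorem eval₂_add_sqZero {R C : Type*} [CommRing R] [CommRing C] {ι : Type*} [Fintype ι] (s : R →+* C)
    (c v : ι → C) (hv : ∀ i j, v i * v j = 0) (P : MvPolynomial ι R) :
    MvPolynomial.eval₂ s (c + v) P =
      MvPolynomial.eval₂ s c P + ∑ i, MvPolynomial.eval₂ s c (MvPolynomial.pderiv i P) * v i := by
  classical
  induction P using MvPolynomial.induction_on with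
  | C a => simp
  | add p q hp hq =>
    simp only [map_add, MvPolynomial.eval₂_add, add_mul, Finset.sum_add_distrib, hp, hq]
    abel
  | mul_X p i hp =>
    have h1 : (∑ j, MvPolynomial.eval₂ s c (MvPolynomial.pderiv j p) * v j) * v i = 0 := by
      rw [Finset.sum_mul]
      exact Finset.sum_eq_zero fun j _ => by rw [mul_assoc, hv, mul_zero]
    have h2 : ∀ j, MvPolynomial.eval₂ s c (MvPolynomial.pderiv j (p * MvPolynomial.X i)) * v j =
        MvPolynomial.eval₂ s c (MvPolynomial.pderiv j p) * v j * c i +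
          (if j = i then MvPolynomial.eval₂ s c p * v i else 0) := fun j => by
      rw [MvPolynomial.pderiv_mul, MvPolynomial.eval₂_add, MvPolynomial.eval₂_mul, MvPolynomial.eval₂_mul,
        MvPolynomial.eval₂_X, MvPolynomial.pderiv_X]
      by_cases h : j = i
      · subst h; simp; ring
      · simp [h, Pi.single_eq_of_ne' h]; ring
    simp only [MvPolynomial.eval₂_mul, MvPolynomial.eval₂_X, hp, h2, Finset.sum_add_distrib,
      Finset.sum_ite_eq', Finset.mem_univ, if_true, Pi.add_apply]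
    rw [← Finset.sum_mul, add_mul, mul_add, mul_add, h1]
    ring

/-- A functor on algebras over `A` and a chart for it over `A'` around a point `a₀` modulo `I`. -/
structure Data (A : Type u) [CommRing A] (I : Ideal A) (A' : Type u) [CommRing A'] [Algebra A A'] where
  G : ∀ (C : Type u) [CommRing C] [Algebra A C], Type v
  map : ∀ {C D : Type u} [CommRing C] [Algebra A C] [CommRing D] [Algebra A D], (C →ₐ[A] D) → G C → G D
  map_comp : ∀ {C D E : Type u} [CommRing C] [Algebra A C] [CommRing D] [Algebra A D] [CommRing E]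
    [Algebra A E] (f : C →ₐ[A] D) (g : D →ₐ[A] E) (x : G C), map g (map f x) = map (g.comp f) x
  R : Type u
  Q : Type u
  [crR : CommRing R]
  [crQ : CommRing Q]
  θ : R →+* Q
  s : R →+* A'
  n : ℕ
  p : MvPolynomial (Fin n) R →+* Q
  hp : Function.Surjective p
  hpC : ∀ r, p (MvPolynomial.C r) = θ r
  K : Finset (MvPolynomial (Fin n) R)
  hK : RingHom.ker p = Ideal.span (K : Set (MvPolynomial (Fin n) R))
  /-- morphisms `Spec C ⟶ F`: an `A'`-structure on `C` and a map out of `Q` over `R` -/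
  α : ∀ {C : Type u} [CommRing C] [Algebra A C] (σ : A' →ₐ[A] C) (r : Q →+* C),
    r.comp θ = (σ : A' →+* C).comp s → G C
  map_α : ∀ {C D : Type u} [CommRing C] [Algebra A C] [CommRing D] [Algebra A D] (f : C →ₐ[A] D)
    (σ : A' →ₐ[A] C) (r : Q →+* C) (h : r.comp θ = (σ : A' →+* C).comp s)
    (h' : ((f : C →+* D).comp r).comp θ = ((f.comp σ : A' →ₐ[A] D) : A' →+* D).comp s),
    map f (α σ r h) = α (f.comp σ) ((f : C →+* D).comp r) h'
  lift : ∀ {C B : Type u} [CommRing C] [Algebra A C] [CommRing B] [Algebra A B] (π : C →ₐ[A] B),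
    Function.Surjective π → (∀ x y, π x = 0 → π y = 0 → x * y = 0) →
    ∀ (σ : A' →ₐ[A] C) (qB : Q →+* B) (h : qB.comp θ = ((π.comp σ : A' →ₐ[A] B) : A' →+* B).comp s)
      (x : G C), map π x = α (π.comp σ) qB h →
      ∃! r : Q →+* C, ∃ h' : r.comp θ = (σ : A' →+* C).comp s, (π : C →+* B).comp r = qB ∧ α σ r h' = x
  a₀ : G (A ⧸ I)
  q : Q →+* A'
  hq : q.comp θ = s
  h₀ : ∀ (f : A ⧸ I →ₐ[A] A' ⧸ I.map (algebraMap A A'))
    (h : ((Ideal.Quotient.mk (I.map (algebraMap A A'))).comp q).comp θ =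
      ((Ideal.Quotient.mkₐ A (I.map (algebraMap A A'))) : A' →+* _).comp s),
    map f a₀ = α (Ideal.Quotient.mkₐ A (I.map (algebraMap A A'))) ((Ideal.Quotient.mk _).comp q) h

attribute [instance] Data.crR Data.crQ

variable {A : Type u} [CommRing A] {I : Ideal A} {A' : Type u} [CommRing A'] [Algebra A A']
  (D : Data.{u, v} A I A') (hI : I ^ 2 = ⊥)

/-- the extended ideal -/
abbrev J (_D : Data.{u, v} A I A') (C : Type u) [CommRing C] [Algebra A C] : Ideal C := I.map (algebraMap A C)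

variable {C C' : Type u} [CommRing C] [Algebra A C] [CommRing C'] [Algebra A C']

include hI in
theorem mul_J {x y : C} (hx : x ∈ J D C) (hy : y ∈ J D C) : x * y = 0 := by
  have := Ideal.mul_mem_mul hx hy
  rw [← pow_two, ← Ideal.map_pow, hI, Ideal.map_bot] at this
  exact this

theorem map_mem_J (f : C →ₐ[A] C') {x : C} (hx : x ∈ J D C) : f x ∈ J D C' := by
  have h : J D C ≤ (J D C').comap f := Ideal.map_le_iff_le_comap.2 fun a ha => by
    show f (algebraMap A C a) ∈ J D C'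
    rw [f.commutes]
    exact Ideal.mem_map_of_mem _ ha
  exact h hx

/-- the generators -/
def gen (i : Fin D.n) : D.Q := D.p (MvPolynomial.X i)

theorem hom_p (r : D.Q →+* C) (P : MvPolynomial (Fin D.n) D.R) :
    r (D.p P) = MvPolynomial.eval₂ (r.comp D.θ) (fun i => r (gen D i)) P := by
  refine RingHom.congr_fun (MvPolynomial.ringHom_ext (f := r.comp D.p)
    (g := MvPolynomial.eval₂Hom (r.comp D.θ) (fun i => r (gen D i))) (fun a => ?_) (fun i => ?_)) P
  · simp [D.hpC]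
  · simp [gen]

theorem hom_ext {r r' : D.Q →+* C} (h : r.comp D.θ = r'.comp D.θ) (h' : ∀ i, r (gen D i) = r' (gen D i)) :
    r = r' := by
  refine RingHom.ext fun y => ?_
  obtain ⟨P, rfl⟩ := D.hp y
  rw [hom_p, hom_p, h, funext h']

/-- the linearised equations -/
def Adm (σ : A' →ₐ[A] C) (v : Fin D.n → C) : Prop :=
  (∀ i, v i ∈ J D C) ∧ ∀ k ∈ D.K, ∑ i, σ (D.q (D.p (MvPolynomial.pderiv i k))) * v i = 0

/-- `r` is the point with coordinates `v` -/
def IsPt (σ : A' →ₐ[A] C) (v : Fin D.n → C) (r : D.Q →+* C) : Prop :=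
  r.comp D.θ = (σ : A' →+* C).comp D.s ∧ ∀ i, r (gen D i) = σ (D.q (gen D i)) + v i

theorem IsPt.unique {σ : A' →ₐ[A] C} {v : Fin D.n → C} {r r' : D.Q →+* C} (h : IsPt D σ v r)
    (h' : IsPt D σ v r') : r = r' :=
  hom_ext D (h.1.trans h'.1.symm) fun i => (h.2 i).trans (h'.2 i).symm

theorem IsPt.mk_comp {σ : A' →ₐ[A] C} {v : Fin D.n → C} {r : D.Q →+* C} (hv : ∀ i, v i ∈ J D C)
    (h : IsPt D σ v r) : (Ideal.Quotient.mk (J D C)).comp r =
      (Ideal.Quotient.mk (J D C)).comp ((σ : A' →+* C).comp D.q) := by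
  refine hom_ext D ?_ fun i => ?_
  · rw [RingHom.comp_assoc, h.1, RingHom.comp_assoc, RingHom.comp_assoc, D.hq]
  · simp only [RingHom.comp_apply, RingHom.coe_coe, h.2, map_add, add_eq_left,
      Ideal.Quotient.eq_zero_iff_mem.2 (hv i)]

include hI in
theorem exists_isPt {σ : A' →ₐ[A] C} {v : Fin D.n → C} (hv : Adm D σ v) : ∃ r, IsPt D σ v r := by
  let s' := (σ : A' →+* C).comp D.s
  let c : Fin D.n → C := fun i => σ (D.q (gen D i))
  let ψ : MvPolynomial (Fin D.n) D.R →+* C := MvPolynomial.eval₂Hom s' (c + v)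
  have hc : ∀ P, MvPolynomial.eval₂ s' c P = σ (D.q (D.p P)) := fun P => by
    rw [show σ (D.q (D.p P)) = ((σ : A' →+* C).comp D.q) (D.p P) from rfl, hom_p]
    simp only [RingHom.comp_assoc, D.hq]
    rfl
  have hψ : RingHom.ker D.p ≤ RingHom.ker ψ := by
    rw [D.hK, Ideal.span_le]
    intro k hk
    show MvPolynomial.eval₂ s' (c + v) k = 0
    rw [eval₂_add_sqZero s' c v (fun i j => mul_J D hI (hv.1 i) (hv.1 j))]
    simp only [hc]
    rw [hv.2 k hk, show D.p k = 0 from by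
      have : k ∈ RingHom.ker D.p := by rw [D.hK]; exact Ideal.subset_span hk
      exact this, map_zero, map_zero, add_zero]
  refine ⟨RingHom.liftOfSurjective D.p D.hp ⟨ψ, hψ⟩, RingHom.ext fun a => ?_, fun i => ?_⟩
  · rw [RingHom.comp_apply, ← D.hpC, RingHom.liftOfRightInverse_comp_apply]
    simp [ψ, s']
  · rw [gen, RingHom.liftOfRightInverse_comp_apply]
    simp [ψ, c, gen]

include hI in
theorem adm_of_isPt {σ : A' →ₐ[A] C} {v : Fin D.n → C} {r : D.Q →+* C} (hv : ∀ i, v i ∈ J D C)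
    (h : IsPt D σ v r) : Adm D σ v := by
  refine ⟨hv, fun k hk => ?_⟩
  have h0 : D.p k = 0 := by
    have : k ∈ RingHom.ker D.p := by rw [D.hK]; exact Ideal.subset_span hk
    exact this
  have hc : ∀ P, MvPolynomial.eval₂ ((σ : A' →+* C).comp D.s) (fun i => σ (D.q (gen D i))) P =
      σ (D.q (D.p P)) := fun P => by
    rw [show σ (D.q (D.p P)) = ((σ : A' →+* C).comp D.q) (D.p P) from rfl, hom_p]
    simp only [RingHom.comp_assoc, D.hq]
    rfl
  have := hom_p D r k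
  rw [h0, map_zero, h.1, show (fun i => r (gen D i)) = (fun i => σ (D.q (gen D i))) + v from funext h.2,
    eval₂_add_sqZero _ _ _ (fun i j => mul_J D hI (hv i) (hv j))] at this
  simp only [hc, h0, map_zero, zero_add] at this
  exact this.symm

theorem isPt_zero (σ : A' →ₐ[A] C) : IsPt D σ 0 ((σ : A' →+* C).comp D.q) :=
  ⟨by rw [RingHom.comp_assoc, D.hq], fun i => by simp⟩

theorem comp_q_theta (σ : A' →ₐ[A] C) :
    ((σ : A' →+* C).comp D.q).comp D.θ = (σ : A' →+* C).comp D.s := by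
  rw [RingHom.comp_assoc, D.hq]

/-- the base point at `C ⧸ J` -/
def base (C : Type u) [CommRing C] [Algebra A C] : D.G (C ⧸ J D C) :=
  D.map (Ideal.Quotient.liftₐ I ((Ideal.Quotient.mkₐ A (J D C)).comp (Algebra.ofId A C)) fun a ha =>
    Ideal.Quotient.eq_zero_iff_mem.2 (Ideal.mem_map_of_mem _ ha)) D.a₀

theorem α_congr {σ σ' : A' →ₐ[A] C} {r r' : D.Q →+* C} (hσ : σ = σ') (hr : r = r')
    (h : r.comp D.θ = (σ : A' →+* C).comp D.s) (h' : r'.comp D.θ = (σ' : A' →+* C).comp D.s) :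
    D.α σ r h = D.α σ' r' h' := by
  subst hσ hr; rfl

theorem α_mk_eq_base (σ : A' →ₐ[A] C)
    (h : ((Ideal.Quotient.mk (J D C)).comp ((σ : A' →+* C).comp D.q)).comp D.θ =
      (((Ideal.Quotient.mkₐ A (J D C)).comp σ : A' →ₐ[A] C ⧸ J D C) : A' →+* _).comp D.s) :
    D.α ((Ideal.Quotient.mkₐ A (J D C)).comp σ) ((Ideal.Quotient.mk (J D C)).comp ((σ : A' →+* C).comp D.q)) h =
      base D C := by
  let f₀ : A ⧸ I →ₐ[A] A' ⧸ J D A' :=
    Ideal.Quotient.liftₐ I ((Ideal.Quotient.mkₐ A (J D A')).comp (Algebra.ofId A A')) fun a ha =>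
      Ideal.Quotient.eq_zero_iff_mem.2 (Ideal.mem_map_of_mem _ ha)
  let g : A' ⧸ J D A' →ₐ[A] C ⧸ J D C := Ideal.quotientMapₐ (J D C) σ (fun x hx => map_mem_J D σ hx)
  have h₀' : ((Ideal.Quotient.mk (J D A')).comp D.q).comp D.θ =
      ((Ideal.Quotient.mkₐ A (J D A')) : A' →+* _).comp D.s := by
    rw [RingHom.comp_assoc, D.hq]; rfl
  have e1 := congrArg (D.map g) (D.h₀ f₀ h₀')
  rw [D.map_comp, D.map_α g _ _ _ (by rw [RingHom.comp_assoc, h₀', ← RingHom.comp_assoc]; rfl)] at e1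
  refine (α_congr D ?_ ?_ _ _).trans (e1.symm.trans ?_)
  · exact AlgHom.ext fun x => rfl
  · exact RingHom.ext fun x => rfl
  · exact congrArg (fun k => D.map k D.a₀) (Ideal.Quotient.algHom_ext _ (AlgHom.ext fun a =>
      ((g.comp (f₀.comp (Ideal.Quotient.mkₐ A I))).commutes a).trans
        (((Ideal.Quotient.liftₐ I ((Ideal.Quotient.mkₐ A (J D C)).comp (Algebra.ofId A C)) _).comp
          (Ideal.Quotient.mkₐ A I)).commutes a).symm))

/-- change of coordinates: `v` for `σ₂` and `w` for `σ₁` are the same point -/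
def Rel (σ₁ σ₂ : A' →ₐ[A] C) (v w : Fin D.n → C) : Prop :=
  (∀ i, v i ∈ J D C) ∧ (∀ i, w i ∈ J D C) ∧ ∃ (r₁ r₂ : D.Q →+* C) (h₁ : IsPt D σ₁ w r₁)
    (h₂ : IsPt D σ₂ v r₂), D.α σ₁ r₁ h₁.1 = D.α σ₂ r₂ h₂.1

include hI in
theorem exists_rel (σ₁ σ₂ : A' →ₐ[A] C) {v : Fin D.n → C} (hv : Adm D σ₂ v) :
    ∃ w, Rel D σ₁ σ₂ v w := by
  obtain ⟨r₂, h₂⟩ := exists_isPt D hI hv
  let π := Ideal.Quotient.mkₐ A (J D C)
  have hq₁ : ((Ideal.Quotient.mk (J D C)).comp ((σ₁ : A' →+* C).comp D.q)).comp D.θ =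
      ((π.comp σ₁ : A' →ₐ[A] C ⧸ J D C) : A' →+* _).comp D.s := by
    rw [RingHom.comp_assoc, comp_q_theta]; rfl
  have hx : D.map π (D.α σ₂ r₂ h₂.1) = D.α (π.comp σ₁) _ hq₁ := by
    rw [D.map_α π σ₂ r₂ h₂.1 (by rw [RingHom.comp_assoc, h₂.1]; rfl), α_mk_eq_base]
    exact (α_congr D rfl (IsPt.mk_comp D hv.1 h₂) _ (by rw [RingHom.comp_assoc, comp_q_theta]; rfl)).trans
      (α_mk_eq_base D σ₂ _)
  obtain ⟨r₁, ⟨h₁, hπ, he⟩, -⟩ := D.lift π Ideal.Quotient.mk_surjective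
    (fun x y hx hy => mul_J D hI (Ideal.Quotient.eq_zero_iff_mem.1 hx) (Ideal.Quotient.eq_zero_iff_mem.1 hy))
    σ₁ _ hq₁ _ hx
  refine ⟨fun i => r₁ (gen D i) - σ₁ (D.q (gen D i)), hv.1, fun i => ?_, r₁, r₂,
    ⟨h₁, fun i => (add_sub_cancel _ _).symm⟩, h₂, he⟩
  rw [← Ideal.Quotient.eq]
  exact RingHom.congr_fun hπ (gen D i)

include hI in
theorem Rel.unique {σ₁ σ₂ : A' →ₐ[A] C} {v w w' : Fin D.n → C} (h : Rel D σ₁ σ₂ v w)
    (h' : Rel D σ₁ σ₂ v w') : w = w' := by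
  obtain ⟨hv, hw, r₁, r₂, h₁, h₂, e⟩ := h
  obtain ⟨-, hw', r₁', r₂', h₁', h₂', e'⟩ := h'
  obtain rfl := IsPt.unique D h₂ h₂'
  let π := Ideal.Quotient.mkₐ A (J D C)
  obtain ⟨r, -, hu⟩ := D.lift π Ideal.Quotient.mk_surjective
    (fun x y hx hy => mul_J D hI (Ideal.Quotient.eq_zero_iff_mem.1 hx) (Ideal.Quotient.eq_zero_iff_mem.1 hy))
    σ₁ _ (by rw [RingHom.comp_assoc, h₁.1]; rfl : ((Ideal.Quotient.mk (J D C)).comp r₁).comp D.θ = _)
    (D.α σ₁ r₁ h₁.1) (D.map_α π σ₁ r₁ h₁.1 _)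
  have : r₁' = r₁ :=
    (hu r₁' ⟨h₁'.1, (IsPt.mk_comp D hw' h₁').trans (IsPt.mk_comp D hw h₁).symm, e'.trans e.symm⟩).trans
      (hu r₁ ⟨h₁.1, rfl, rfl⟩).symm
  funext i
  have := RingHom.congr_fun this (gen D i)
  rw [h₁.2, h₁'.2] at this
  exact (add_left_cancel this).symm

theorem Rel.map (f : C →ₐ[A] C') {σ₁ σ₂ : A' →ₐ[A] C} {v w : Fin D.n → C} (h : Rel D σ₁ σ₂ v w) :
    Rel D (f.comp σ₁) (f.comp σ₂) (fun i => f (v i)) (fun i => f (w i)) := by
  obtain ⟨hv, hw, r₁, r₂, h₁, h₂, e⟩ := h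
  refine ⟨fun i => map_mem_J D f (hv i), fun i => map_mem_J D f (hw i), (f : C →+* C').comp r₁,
    (f : C →+* C').comp r₂, ⟨by rw [RingHom.comp_assoc, h₁.1]; rfl, fun i => by simp [h₁.2]⟩,
    ⟨by rw [RingHom.comp_assoc, h₂.1]; rfl, fun i => by simp [h₂.2]⟩, ?_⟩
  rw [← D.map_α f σ₁ r₁ h₁.1, ← D.map_α f σ₂ r₂ h₂.1, e]

/-- the subalgebra of triples agreeing modulo `J` -/
def triple (C : Type u) [CommRing C] [Algebra A C] : Subalgebra A (C × C × C) :=
  AlgHom.equalizer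
    (((Ideal.Quotient.mkₐ A (J D C)).comp (AlgHom.fst A C (C × C))).prod
      ((Ideal.Quotient.mkₐ A (J D C)).comp (AlgHom.fst A C (C × C))))
    (((Ideal.Quotient.mkₐ A (J D C)).comp ((AlgHom.fst A C C).comp (AlgHom.snd A C (C × C)))).prod
      ((Ideal.Quotient.mkₐ A (J D C)).comp ((AlgHom.snd A C C).comp (AlgHom.snd A C (C × C)))))

theorem mem_triple {x : C × C × C} :
    x ∈ triple D C ↔ x.2.1 - x.1 ∈ J D C ∧ x.2.2 - x.1 ∈ J D C := by
  rw [← Ideal.Quotient.eq, ← Ideal.Quotient.eq]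
  constructor
  · intro h
    exact ⟨(congrArg Prod.fst h).symm, (congrArg Prod.snd h).symm⟩
  · intro h
    exact Prod.ext h.1.symm h.2.symm

include hI in
/-- change of coordinates is affine linear -/
theorem Rel.combine {σ₁ σ₂ : A' →ₐ[A] C} {v₀ w₀ v₁ w₁ v₂ w₂ : Fin D.n → C} (h₀ : Rel D σ₁ σ₂ v₀ w₀)
    (h₁ : Rel D σ₁ σ₂ v₁ w₁) (h₂ : Rel D σ₁ σ₂ v₂ w₂) (t t' : C) :
    Rel D σ₁ σ₂ (v₀ + t • (v₁ - v₀) + t' • (v₂ - v₀)) (w₀ + t • (w₁ - w₀) + t' • (w₂ - w₀)) := by
  obtain ⟨hv₀, hw₀, a₀, b₀, ha₀, hb₀, e₀⟩ := h₀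
  obtain ⟨hv₁, hw₁, a₁, b₁, ha₁, hb₁, e₁⟩ := h₁
  obtain ⟨hv₂, hw₂, a₂, b₂, ha₂, hb₂, e₂⟩ := h₂
  let P := triple D C
  let π : P →ₐ[A] C ⧸ J D C := (Ideal.Quotient.mkₐ A (J D C)).comp ((AlgHom.fst A C (C × C)).comp P.val)
  let p₀ : P →ₐ[A] C := (AlgHom.fst A C (C × C)).comp P.val
  let p₁ : P →ₐ[A] C := (AlgHom.fst A C C).comp ((AlgHom.snd A C (C × C)).comp P.val)
  let p₂ : P →ₐ[A] C := (AlgHom.snd A C C).comp ((AlgHom.snd A C (C × C)).comp P.val)
  let dg : C →ₐ[A] P := ((AlgHom.id A C).prod ((AlgHom.id A C).prod (AlgHom.id A C))).codRestrict P fun c =>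
    (mem_triple D).2 ⟨by simp, by simp⟩
  have hm : ∀ y, (b₀ y, b₁ y, b₂ y) ∈ P := fun y => by
    refine (mem_triple D).2 ⟨?_, ?_⟩ <;> rw [← Ideal.Quotient.eq]
    · exact RingHom.congr_fun ((IsPt.mk_comp D hv₁ hb₁).trans (IsPt.mk_comp D hv₀ hb₀).symm) y
    · exact RingHom.congr_fun ((IsPt.mk_comp D hv₂ hb₂).trans (IsPt.mk_comp D hv₀ hb₀).symm) y
  let rB : D.Q →+* P := (b₀.prod (b₁.prod b₂)).codRestrict P hm
  have hrB : rB.comp D.θ = ((dg.comp σ₂ : A' →ₐ[A] P) : A' →+* P).comp D.s := by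
    refine RingHom.ext fun r => Subtype.ext (Prod.ext ?_ (Prod.ext ?_ ?_))
    · exact RingHom.congr_fun hb₀.1 r
    · exact RingHom.congr_fun hb₁.1 r
    · exact RingHom.congr_fun hb₂.1 r
  have hker : ∀ x y : P, π x = 0 → π y = 0 → x * y = 0 := fun x y hx hy => by
    have hx0 : (x : C × C × C).1 ∈ J D C := Ideal.Quotient.eq_zero_iff_mem.1 hx
    have hy0 : (y : C × C × C).1 ∈ J D C := Ideal.Quotient.eq_zero_iff_mem.1 hy
    have hx' := (mem_triple D).1 x.2
    have hy' := (mem_triple D).1 y.2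
    have k1 : ∀ {z z₀ : C}, z₀ ∈ J D C → z - z₀ ∈ J D C → z ∈ J D C := fun h h' => by
      simpa using Ideal.add_mem _ h' h
    refine Subtype.ext (Prod.ext ?_ (Prod.ext ?_ ?_))
    · exact mul_J D hI hx0 hy0
    · exact mul_J D hI (k1 hx0 hx'.1) (k1 hy0 hy'.1)
    · exact mul_J D hI (k1 hx0 hx'.2) (k1 hy0 hy'.2)
  have hπs : Function.Surjective π := fun c => by
    obtain ⟨c, rfl⟩ := Ideal.Quotient.mk_surjective c
    exact ⟨dg c, rfl⟩
  have hq₁ : ((Ideal.Quotient.mk (J D C)).comp ((σ₁ : A' →+* C).comp D.q)).comp D.θ =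
      ((π.comp (dg.comp σ₁) : A' →ₐ[A] C ⧸ J D C) : A' →+* _).comp D.s := by
    rw [RingHom.comp_assoc, comp_q_theta]; rfl
  obtain ⟨rA, ⟨hrA, hπA, eA⟩, -⟩ := D.lift π hπs hker (dg.comp σ₁) _ hq₁ (D.α (dg.comp σ₂) rB hrB) (by
    rw [D.map_α π _ rB hrB (by rw [RingHom.comp_assoc, hrB]; rfl)]
    refine (α_congr D (σ' := (Ideal.Quotient.mkₐ A (J D C)).comp σ₂) (AlgHom.ext fun _ => rfl) ?_ _
      (by rw [RingHom.comp_assoc, comp_q_theta]; rfl)).trans
      ((α_mk_eq_base D σ₂ _).trans ((α_mk_eq_base D σ₁ (by rw [RingHom.comp_assoc, comp_q_theta]; rfl)).symm.trans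
        (α_congr D (AlgHom.ext fun _ => rfl) rfl _ _)))
    exact IsPt.mk_comp D hv₀ hb₀)
  -- the components of the lift
  have comp_eq : ∀ (f : P →ₐ[A] C), f.comp dg = AlgHom.id A C →
      (∀ x, Ideal.Quotient.mk (J D C) (f x) = π x) → ∀ (v w : Fin D.n → C) (a b : D.Q →+* C)
      (ha : IsPt D σ₁ w a) (hb : IsPt D σ₂ v b), (∀ i, v i ∈ J D C) → (∀ i, w i ∈ J D C) →
      D.α σ₁ a ha.1 = D.α σ₂ b hb.1 → (f : P →+* C).comp rB = b → (f : P →+* C).comp rA = a := by
    intro f hf hfπ v w a b ha hb hv hw e hfb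
    let w' : Fin D.n → C := fun i => f (rA (gen D i)) - σ₁ (D.q (gen D i))
    have hθ : ((f : P →+* C).comp rA).comp D.θ = (σ₁ : A' →+* C).comp D.s := by
      rw [RingHom.comp_assoc, hrA]
      refine RingHom.ext fun r => ?_
      exact AlgHom.congr_fun hf (σ₁ (D.s r))
    have hpt : IsPt D σ₁ w' ((f : P →+* C).comp rA) := ⟨hθ, fun i => (add_sub_cancel _ _).symm⟩
    have hw' : ∀ i, w' i ∈ J D C := fun i => by
      rw [← Ideal.Quotient.eq, hfπ]
      exact RingHom.congr_fun hπA (gen D i)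
    have : w' = w := by
      refine Rel.unique D hI ⟨hv, hw', _, b, hpt, hb, ?_⟩ ⟨hv, hw, a, b, ha, hb, e⟩
      have e' := congrArg (D.map f) eA
      rw [D.map_α f _ rA hrA (by rw [RingHom.comp_assoc, hrA]; rfl),
        D.map_α f _ rB hrB (by rw [RingHom.comp_assoc, hrB]; rfl)] at e'
      refine ((α_congr D ?_ rfl _ _).trans e').trans (α_congr D ?_ hfb _ _)
      · rw [← AlgHom.comp_assoc, hf, AlgHom.id_comp]
      · rw [← AlgHom.comp_assoc, hf, AlgHom.id_comp]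
    exact IsPt.unique D (this ▸ hpt) ha
  have k₀ := comp_eq p₀ (AlgHom.ext fun _ => rfl) (fun _ => rfl) v₀ w₀ a₀ b₀ ha₀ hb₀ hv₀ hw₀ e₀ (RingHom.ext fun _ => rfl)
  have k₁ := comp_eq p₁ (AlgHom.ext fun _ => rfl) (fun x => Ideal.Quotient.eq.2 ((mem_triple D).1 x.2).1)
    v₁ w₁ a₁ b₁ ha₁ hb₁ hv₁ hw₁ e₁ (RingHom.ext fun _ => rfl)
  have k₂ := comp_eq p₂ (AlgHom.ext fun _ => rfl) (fun x => Ideal.Quotient.eq.2 ((mem_triple D).1 x.2).2)
    v₂ w₂ a₂ b₂ ha₂ hb₂ hv₂ hw₂ e₂ (RingHom.ext fun _ => rfl)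
  -- the affine combination
  let L : P → C := fun x => p₀ x + t * (p₁ x - p₀ x) + t' * (p₂ x - p₀ x)
  have hLm : ∀ x y : P, L (x * y) = L x * L y := fun x y => by
    have hx := (mem_triple D).1 x.2
    have hy := (mem_triple D).1 y.2
    have z11 := mul_J D hI hx.1 hy.1
    have z12 := mul_J D hI hx.1 hy.2
    have z21 := mul_J D hI hx.2 hy.1
    have z22 := mul_J D hI hx.2 hy.2
    simp only [L, map_mul]
    have k11 : (p₁ x - p₀ x) * (p₁ y - p₀ y) = 0 := z11
    have k22 : (p₂ x - p₀ x) * (p₂ y - p₀ y) = 0 := z22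
    have k12 : (p₁ x - p₀ x) * (p₂ y - p₀ y) = 0 := z12
    have k21 : (p₂ x - p₀ x) * (p₁ y - p₀ y) = 0 := z21
    linear_combination (t - t * t) * k11 + (t' - t' * t') * k22 + (-(t * t')) * k12 + (-(t * t')) * k21
  let θt : P →ₐ[A] C :=
    { toFun := L
      map_one' := by simp [L]
      map_mul' := hLm
      map_zero' := by simp [L]
      map_add' := fun x y => by simp only [L, map_add]; ring
      commutes' := fun a => by simp [L] }
  have hθσ : ∀ σ : A' →ₐ[A] C, θt.comp (dg.comp σ) = σ := fun σ => AlgHom.ext fun x => by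
    show σ x + t * (σ x - σ x) + t' * (σ x - σ x) = σ x
    ring
  refine ⟨fun i => ?_, fun i => ?_, (θt : P →+* C).comp rA, (θt : P →+* C).comp rB, ⟨?_, fun i => ?_⟩,
    ⟨?_, fun i => ?_⟩, ?_⟩
  · exact Ideal.add_mem _ (Ideal.add_mem _ (hv₀ i) (Ideal.mul_mem_left _ _ (Ideal.sub_mem _ (hv₁ i) (hv₀ i))))
      (Ideal.mul_mem_left _ _ (Ideal.sub_mem _ (hv₂ i) (hv₀ i)))
  · exact Ideal.add_mem _ (Ideal.add_mem _ (hw₀ i) (Ideal.mul_mem_left _ _ (Ideal.sub_mem _ (hw₁ i) (hw₀ i))))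
      (Ideal.mul_mem_left _ _ (Ideal.sub_mem _ (hw₂ i) (hw₀ i)))
  · rw [RingHom.comp_assoc, hrA]; exact RingHom.ext fun r => AlgHom.congr_fun (hθσ σ₁) (D.s r)
  · show p₀ (rA (gen D i)) + t * (p₁ (rA _) - p₀ (rA _)) + t' * (p₂ (rA _) - p₀ (rA _)) = _
    rw [show p₀ (rA (gen D i)) = a₀ (gen D i) from RingHom.congr_fun k₀ _,
      show p₁ (rA (gen D i)) = a₁ (gen D i) from RingHom.congr_fun k₁ _,
      show p₂ (rA (gen D i)) = a₂ (gen D i) from RingHom.congr_fun k₂ _, ha₀.2, ha₁.2, ha₂.2]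
    simp only [Pi.add_apply, Pi.smul_apply, Pi.sub_apply, smul_eq_mul]
    ring
  · rw [RingHom.comp_assoc, hrB]; exact RingHom.ext fun r => AlgHom.congr_fun (hθσ σ₂) (D.s r)
  · show b₀ (gen D i) + t * (b₁ _ - b₀ _) + t' * (b₂ _ - b₀ _) = _
    rw [hb₀.2, hb₁.2, hb₂.2]
    simp only [Pi.add_apply, Pi.smul_apply, Pi.sub_apply, smul_eq_mul]
    ring
  · have e' := congrArg (D.map θt) eA
    rw [D.map_α θt _ rA hrA (by rw [RingHom.comp_assoc, hrA]; rfl),
      D.map_α θt _ rB hrB (by rw [RingHom.comp_assoc, hrB]; rfl)] at e'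
    exact ((α_congr D (hθσ σ₁).symm rfl _ _).trans e').trans (α_congr D (hθσ σ₂) rfl _ _)

/-- the linear part of the change of coordinates -/
def LinRel (σ₁ σ₂ : A' →ₐ[A] C) (v t : Fin D.n → C) : Prop :=
  ∃ w₀, Rel D σ₁ σ₂ 0 w₀ ∧ Rel D σ₁ σ₂ v (w₀ + t)

include hI in
theorem LinRel.unique {σ₁ σ₂ : A' →ₐ[A] C} {v t t' : Fin D.n → C} (h : LinRel D σ₁ σ₂ v t)
    (h' : LinRel D σ₁ σ₂ v t') : t = t' := by
  obtain ⟨w, h1, h2⟩ := h
  obtain ⟨w', h1', h2'⟩ := h'
  obtain rfl := Rel.unique D hI h1 h1'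
  exact add_left_cancel (Rel.unique D hI h2 h2')

include hI in
theorem LinRel.combine {σ₁ σ₂ : A' →ₐ[A] C} {v t v' t' : Fin D.n → C} (h : LinRel D σ₁ σ₂ v t)
    (h' : LinRel D σ₁ σ₂ v' t') (a b : C) : LinRel D σ₁ σ₂ (a • v + b • v') (a • t + b • t') := by
  obtain ⟨w, h1, h2⟩ := h
  obtain ⟨w', h1', h2'⟩ := h'
  obtain rfl := Rel.unique D hI h1 h1'
  refine ⟨w, h1, ?_⟩
  have := Rel.combine D hI h1 h2 h2' a b
  simpa [add_assoc] using this

include hI in
theorem exists_linRel (σ₁ σ₂ : A' →ₐ[A] C) {v : Fin D.n → C} (hv : Adm D σ₂ v) :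
    ∃ t, LinRel D σ₁ σ₂ v t := by
  obtain ⟨w₀, h₀⟩ := exists_rel D hI σ₁ σ₂ (v := 0) ⟨fun i => Ideal.zero_mem _, fun k _ => by simp⟩
  obtain ⟨w, h⟩ := exists_rel D hI σ₁ σ₂ hv
  exact ⟨w - w₀, w₀, h₀, by rwa [add_sub_cancel]⟩

theorem LinRel.map (f : C →ₐ[A] C') {σ₁ σ₂ : A' →ₐ[A] C} {v t : Fin D.n → C} (h : LinRel D σ₁ σ₂ v t) :
    LinRel D (f.comp σ₁) (f.comp σ₂) (fun i => f (v i)) (fun i => f (t i)) := by
  obtain ⟨w, h1, h2⟩ := h
  refine ⟨fun i => f (w i), ?_, ?_⟩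
  · have := h1.map D f
    simp only [Pi.zero_apply, map_zero] at this
    exact this
  · have := h2.map D f
    simp only [Pi.add_apply, map_add] at this
    exact this

theorem Adm.map (f : C →ₐ[A] C') {σ : A' →ₐ[A] C} {v : Fin D.n → C} (h : Adm D σ v) :
    Adm D (f.comp σ) (fun i => f (v i)) :=
  ⟨fun i => map_mem_J D f (h.1 i), fun k hk => by
    simp only [AlgHom.comp_apply, ← map_mul, ← map_sum, h.2 k hk, map_zero]⟩

include hI in
theorem Rel.adm {σ₁ σ₂ : A' →ₐ[A] C} {v w : Fin D.n → C} (h : Rel D σ₁ σ₂ v w) : Adm D σ₁ w := by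
  obtain ⟨-, hw, r₁, r₂, h₁, h₂, -⟩ := h
  exact adm_of_isPt D hI hw h₁

include hI in
/-- lifts exist if the chart is defined over a faithfully flat algebra -/
theorem exists_lift [Module.FaithfullyFlat A A']
    (hglue : ∀ x : D.G A', D.map (Algebra.TensorProduct.includeLeft : A' →ₐ[A] A' ⊗[A] A') x =
        D.map Algebra.TensorProduct.includeRight x → ∃ x₀ : D.G A, D.map (Algebra.ofId A A') x₀ = x)
    (hsep : ∀ (f : A ⧸ I →ₐ[A] A' ⧸ I.map (algebraMap A A')), Function.Injective (D.map f)) :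
    ∃ x : D.G A, D.map (Ideal.Quotient.mkₐ A I) x = D.a₀ := by
  classical
  let i₁ : A' →ₐ[A] A' ⊗[A] A' := Algebra.TensorProduct.includeLeft
  let i₂ : A' →ₐ[A] A' ⊗[A] A' := Algebra.TensorProduct.includeRight
  let p₁₂ : A' ⊗[A] A' →ₐ[A] (A' ⊗[A] A') ⊗[A] A' := Algebra.TensorProduct.includeLeft
  let p₁ := p₁₂.comp i₁
  let p₂ := p₁₂.comp i₂
  let p₃ : A' →ₐ[A] (A' ⊗[A] A') ⊗[A] A' := Algebra.TensorProduct.includeRight
  let p₁₃ : A' ⊗[A] A' →ₐ[A] (A' ⊗[A] A') ⊗[A] A' := Algebra.TensorProduct.productMap p₁ p₃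
  let p₂₃ : A' ⊗[A] A' →ₐ[A] (A' ⊗[A] A') ⊗[A] A' := Algebra.TensorProduct.productMap p₂ p₃
  have adm0 : ∀ {C : Type u} [CommRing C] [Algebra A C] (σ : A' →ₐ[A] C), Adm D σ 0 :=
    fun σ => ⟨fun i => Ideal.zero_mem _, fun k _ => by simp⟩
  obtain ⟨δ, hδ⟩ := exists_rel D hI i₁ i₂ (adm0 i₂)
  have R₁₂ : Rel D p₁ p₂ 0 (fun i => p₁₂ (δ i)) := by
    simpa [Pi.zero_def] using hδ.map D p₁₂
  have R₂₃ : Rel D p₂ p₃ 0 (fun i => p₂₃ (δ i)) := by
    have h := hδ.map D p₂₃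
    rw [show p₂₃.comp i₁ = p₂ from Algebra.TensorProduct.productMap_left _ _,
      show p₂₃.comp i₂ = p₃ from Algebra.TensorProduct.productMap_right _ _] at h
    simpa [Pi.zero_def] using h
  have R₁₃ : Rel D p₁ p₃ 0 (fun i => p₁₃ (δ i)) := by
    have h := hδ.map D p₁₃
    rw [show p₁₃.comp i₁ = p₁ from Algebra.TensorProduct.productMap_left _ _,
      show p₁₃.comp i₂ = p₃ from Algebra.TensorProduct.productMap_right _ _] at h
    simpa [Pi.zero_def] using h
  have L₀ : LinRel D p₁ p₂ (fun i => p₂₃ (δ i)) (fun i => p₁₃ (δ i) - p₁₂ (δ i)) := by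
    refine ⟨_, R₁₂, ?_⟩
    obtain ⟨-, hv, a, b, ha, hb, e⟩ := R₂₃
    obtain ⟨-, hw, a', b', ha', hb', e'⟩ := R₁₃
    obtain rfl := IsPt.unique D hb hb'
    have he : (fun i => p₁₂ (δ i)) + (fun i => p₁₃ (δ i) - p₁₂ (δ i)) = fun i => p₁₃ (δ i) :=
      funext fun i => (Pi.add_apply _ _ i).trans (add_sub_cancel _ _)
    rw [he]
    exact ⟨hv, hw, a', a, ha', ha, e'.trans e.symm⟩
  -- the module of linearised solutions
  let N := Fin D.n → ↥((J D A').restrictScalars A)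
  let L : N →ₗ[A] (↥D.K → A') :=
    { toFun := fun v k => ∑ i, D.q (D.p (MvPolynomial.pderiv i k.1)) * (v i : A')
      map_add' := fun v w => funext fun k =>
        (Finset.sum_congr rfl fun i _ => mul_add _ _ _).trans Finset.sum_add_distrib
      map_smul' := fun a v => funext fun k =>
        (Finset.sum_congr rfl fun i _ => Algebra.mul_smul_comm a _ _).trans Finset.smul_sum.symm }
  let incl : N →ₗ[A] (Fin D.n → A') :=
    { toFun := fun v i => (v i : A'), map_add' := fun _ _ => rfl, map_smul' := fun _ _ => rfl }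
  let M := LinearMap.ker L
  have hadm : ∀ m : M, Adm D i₂ (fun i => i₂ (incl m.1 i)) ∧ Adm D i₁ (fun i => i₁ (incl m.1 i)) := by
    intro m
    have h : Adm D (AlgHom.id A A') (incl m.1) := ⟨fun i => (m.1 i).2, fun k hk => congrFun m.2 ⟨k, hk⟩⟩
    exact ⟨h.map D i₂, h.map D i₁⟩
  choose τ hτ using fun m : M => exists_linRel D hI i₁ i₂ (hadm m).1
  let f : M →ₗ[A] (Fin D.n → A' ⊗[A] A') :=
    { toFun := fun m => (fun i => i₁ (incl m.1 i)) - τ m
      map_add' := fun m m' => by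
        have hi : ∀ i, incl (m + m').1 i = incl m.1 i + incl m'.1 i := fun _ => rfl
        have e := LinRel.combine D hI (hτ m) (hτ m') 1 1
        have e' : LinRel D i₁ i₂ (fun i => i₂ (incl (m + m').1 i)) (τ m + τ m') := by
          simp only [one_smul] at e
          convert e using 1
          funext i
          simp [hi]
        rw [LinRel.unique D hI (hτ (m + m')) e']
        funext i
        simp [hi]
        abel
      map_smul' := fun a m => by
        have hi : ∀ i, incl (a • m).1 i = a • incl m.1 i := fun _ => rfl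
        have e := LinRel.combine D hI (hτ m) (hτ m) (algebraMap A _ a) 0
        have e' : LinRel D i₁ i₂ (fun i => i₂ (incl (a • m).1 i)) (a • τ m) := by
          simp only [zero_smul, add_zero, algebraMap_smul] at e
          convert e using 1
          funext i
          simp [hi]
        rw [LinRel.unique D hI (hτ (a • m)) e']
        funext i
        simp [hi, smul_sub] }
  let E : (Fin D.n → A') ⊗[A] A' ≃ₗ[A] (Fin D.n → A' ⊗[A] A') :=
    TensorProduct.piLeft A A' (fun _ : Fin D.n => A')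
  let Φ : (Fin D.n → A' ⊗[A] A') ⊗[A] A' ≃ₗ[A] (Fin D.n → (A' ⊗[A] A') ⊗[A] A') :=
    TensorProduct.piLeft A A' (fun _ : Fin D.n => A' ⊗[A] A')
  let T := (f.rTensor A')
  let V := (incl ∘ₗ M.subtype).rTensor A'
  have key : ∀ z, LinRel D p₁ p₂ (fun i => p₂₃ (E (V z) i)) (fun i => p₁₃ (E (V z) i) - Φ (T z) i) := by
    intro z
    induction z using TensorProduct.induction_on with
    | zero =>
      have := LinRel.combine D hI L₀ L₀ 0 0
      convert this using 1 <;> funext i <;> simp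
    | add x y hx hy =>
      have := LinRel.combine D hI hx hy 1 1
      simp only [one_smul] at this
      convert this using 1 <;> funext i <;> simp [Pi.add_apply]
      abel
    | tmul m b =>
      have h := (hτ m).map D p₁₂
      have := LinRel.combine D hI h h (p₃ b) 0
      convert this using 1
      · funext i
        simp [E, V, p₂₃, LinearMap.rTensor_tmul, LinearMap.comp_apply, Submodule.subtype_apply,
          Algebra.TensorProduct.productMap_apply_tmul, Pi.smul_apply, smul_eq_mul, p₂,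
          AlgHom.comp_apply, Pi.add_apply, zero_mul, add_zero]
        ring
      · funext i
        simp [E, Φ, T, V, f, p₁₃, LinearMap.rTensor_tmul, LinearMap.comp_apply, Submodule.subtype_apply,
          Algebra.TensorProduct.productMap_apply_tmul, Pi.smul_apply, smul_eq_mul, p₁,
          AlgHom.comp_apply, Pi.add_apply, zero_mul, add_zero]
        show p₁₂ (i₁ _) * p₃ b - ((i₁ (incl m.1 i) - τ m i) ⊗ₜ[A] b) = p₃ b * p₁₂ (τ m i)
        have : ∀ c : A' ⊗[A] A', c ⊗ₜ[A] b = p₁₂ c * p₃ b := fun c => by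
          simp [p₁₂, p₃]
        rw [this, map_sub]
        ring
  -- `δ` comes from a linearised solution
  have hJ : ∀ x ∈ J D (A' ⊗[A] A'), x ∈ LinearMap.range (((J D A').restrictScalars A).subtype.rTensor A') := by
    intro x hx
    induction hx using Submodule.span_induction with
    | mem y hy =>
      obtain ⟨a, ha, rfl⟩ := hy
      exact ⟨⟨algebraMap A A' a, Ideal.mem_map_of_mem _ ha⟩ ⊗ₜ 1, rfl⟩
    | zero => exact Submodule.zero_mem _
    | add y y' _ _ h h' => exact Submodule.add_mem _ h h'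
    | smul c y _ h =>
      obtain ⟨z, hz⟩ := h
      rw [← hz]
      clear hz
      induction z using TensorProduct.induction_on with
      | zero => simp
      | add z z' h h' => rw [map_add, smul_add]; exact Submodule.add_mem _ h h'
      | tmul j b =>
        induction c using TensorProduct.induction_on with
        | zero => simp
        | add c c' h h' => rw [add_smul]; exact Submodule.add_mem _ h h'
        | tmul b₁ b₂ =>
          exact ⟨⟨b₁ * j.1, Ideal.mul_mem_left _ _ j.2⟩ ⊗ₜ (b₂ * b), by simp⟩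
  choose y hy using fun i => hJ (δ i) (hδ.2.1 i)
  let y₀ : N ⊗[A] A' := (TensorProduct.piLeft A A' (fun _ : Fin D.n => ↥((J D A').restrictScalars A))).symm y
  have hE : ∀ w : N ⊗[A] A', E (incl.rTensor A' w) = fun i => ((J D A').restrictScalars A).subtype.rTensor A'
      ((TensorProduct.piLeft A A' (fun _ : Fin D.n => ↥((J D A').restrictScalars A))) w i) := by
    intro w
    induction w using TensorProduct.induction_on with
    | zero => funext i; simp
    | add a b ha hb => simp only [map_add, ha, hb]; funext i; simp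
    | tmul v b => funext i; simp [E, incl]
  have hy₀ : E (incl.rTensor A' y₀) = δ := by
    rw [hE]; funext i; simp [y₀, hy]
  have hL : L.rTensor A' y₀ = 0 := by
    have hcomp : ∀ (w : N ⊗[A] A') (k : ↥D.K), TensorProduct.piLeft A A' (fun _ : ↥D.K => A') (L.rTensor A' w) k =
        ∑ i, i₁ (D.q (D.p (MvPolynomial.pderiv i k.1))) * E (incl.rTensor A' w) i := by
      intro w k
      induction w using TensorProduct.induction_on with
      | zero => simp
      | add a b ha hb => simp only [map_add, Pi.add_apply, ha, hb, mul_add, Finset.sum_add_distrib]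
      | tmul v b => simp [E, incl, L, i₁, TensorProduct.sum_tmul]
    refine (TensorProduct.piLeft A A' (fun _ : ↥D.K => A')).injective (funext fun k => ?_)
    rw [hcomp, hy₀, map_zero]
    exact (Rel.adm D hI hδ).2 k.1 k.2
  have hex : Function.Exact M.subtype L := LinearMap.exact_subtype_ker_map L
  obtain ⟨z, hz⟩ := (@Module.Flat.rTensor_exact A A' _ _ _ _ M N (↥D.K → A') _ _ _ _ _ _ M.subtype L hex y₀).1 hL
  have hVz : E (V z) = δ := by
    rw [← hy₀, ← hz]
    simp [V, LinearMap.rTensor_comp]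
  have h1 : Φ (T z) = Φ (δ ⊗ₜ 1) := by
    have e := key z
    rw [hVz] at e
    have := LinRel.unique D hI e L₀
    funext i
    have h2 := congrFun this i
    rw [sub_right_inj] at h2
    rw [h2]
    simp [Φ, p₁₂]
  obtain ⟨m, hm⟩ : δ ∈ LinearMap.range f := by
    rw [← Submodule.Quotient.mk_eq_zero]
    refine (Module.FaithfullyFlat.one_tmul_eq_zero_iff A _ (A := A') _).1 ?_
    have h3 := congrArg ((LinearMap.range f).mkQ.rTensor A') (Φ.injective h1)
    have h4 : (LinearMap.range f).mkQ.rTensor A' (T z) = 0 := by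
      rw [← LinearMap.comp_apply, ← LinearMap.rTensor_comp, LinearMap.range_mkQ_comp, LinearMap.rTensor_zero]
      rfl
    rw [h4, LinearMap.rTensor_tmul] at h3
    have h5 := congrArg (TensorProduct.comm A _ A') h3
    simpa using h5.symm
  have hadm' : Adm D (AlgHom.id A A') (incl m.1) := ⟨fun i => (m.1 i).2, fun k hk => congrFun m.2 ⟨k, hk⟩⟩
  obtain ⟨r, hr⟩ := exists_isPt D hI hadm'
  have hrl : IsPt D i₁ (fun i => i₁ (incl m.1 i)) ((i₁ : A' →+* _).comp r) :=
    ⟨by rw [RingHom.comp_assoc, hr.1]; rfl, fun i => by simp [hr.2]⟩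
  have hrr : IsPt D i₂ (fun i => i₂ (incl m.1 i)) ((i₂ : A' →+* _).comp r) :=
    ⟨by rw [RingHom.comp_assoc, hr.1]; rfl, fun i => by simp [hr.2]⟩
  have hR : Rel D i₁ i₂ (fun i => i₂ (incl m.1 i)) (fun i => i₁ (incl m.1 i)) := by
    obtain ⟨w, hw, hw'⟩ := hτ m
    obtain rfl := Rel.unique D hI hw hδ
    have : w + τ m = fun i => i₁ (incl m.1 i) := by
      rw [← hm]
      exact sub_add_cancel _ _
    rwa [this] at hw'
  obtain ⟨x₀, hx₀⟩ := hglue (D.α (AlgHom.id A A') r hr.1) (by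
    rw [D.map_α _ _ r hr.1 hrl.1, D.map_α _ _ r hr.1 hrr.1]
    obtain ⟨-, -, a, b, ha, hb, e⟩ := hR
    exact ((α_congr D (AlgHom.comp_id _) (IsPt.unique D hrl ha) _ _).trans e).trans
      (α_congr D (AlgHom.comp_id _).symm (IsPt.unique D hb hrr) _ _))
  refine ⟨x₀, hsep (Ideal.quotientMapₐ _ (Algebra.ofId A A') Ideal.le_comap_map) ?_⟩
  have hh : ((Ideal.Quotient.mk (I.map (algebraMap A A'))).comp D.q).comp D.θ =
      ((Ideal.Quotient.mkₐ A (I.map (algebraMap A A'))) : A' →+* _).comp D.s := by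
    rw [RingHom.comp_assoc, D.hq]; rfl
  rw [D.map_comp, D.h₀ _ hh]
  have e := congrArg (D.map (Ideal.Quotient.mkₐ A (I.map (algebraMap A A')))) hx₀
  rw [D.map_comp, D.map_α _ _ r hr.1 (by rw [RingHom.comp_assoc, hr.1]; rfl)] at e
  refine (congrArg (fun k => D.map k x₀) ?_).trans (e.trans (α_congr D (AlgHom.comp_id _) ?_ _ _))
  · exact AlgHom.ext fun _ => rfl
  · exact IsPt.mk_comp D hadm'.1 hr

end Groth.Agent.AlgSpLib.LiftDescent
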