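import Groth.Agent.AlgSpLib.FpqcBaseAffine
import Groth.Agent.AlgSpLib.FppfLocal
import Groth.Agent.AlgSpLib.UnivClosedQC
import Groth.Agent.EGA43.Limit.Basic
import Groth.Agent.H8Lim.Limit

/-!
# Descent of properties of representable morphisms along limits of algebraic spaces

A representable morphism `g₀ : A₀ ⟶ C₀` over a stage of a cofiltered system with affine transition
maps is read, through an etale chart `V ⟶ C₀` by an affine scheme, as a morphism of schemes over a
stage of a system of schemes with affine transition maps.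
-/

universe u

set_option autoImplicit false
set_option backward.isDefEq.respectTransparency false

open CategoryTheory CategoryTheory.Limits AlgebraicGeometry Opposite AlgSp

namespace Groth.Agent.AlgSpLib

variable {S : Scheme.{u}} {I : Type u} [SmallCategory I] (D : I ⥤ Sp S) {i₀ : I}

section Stage

variable {Z : Sp S} (g : Z ⟶ D.obj i₀)

/-- The base change of a system of sheaves along a morphism to a stage. -/
noncomputable def spStage : Over i₀ ⥤ Sp S where
  obj j := pullback g (D.map j.hom)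
  map {j k} φ := pullback.lift (pullback.fst _ _) (pullback.snd _ _ ≫ D.map φ.left)
    (by rw [Category.assoc, ← D.map_comp, Over.w φ, pullback.condition])
  map_id j := by apply pullback.hom_ext <;> simp
  map_comp φ ψ := by apply pullback.hom_ext <;> simp

/-- The projection to the system. -/
noncomputable def spStageSnd : spStage D g ⟶ Over.forget i₀ ⋙ D where
  app j := pullback.snd _ _
  naturality _ _ _ := by simp [spStage]

theorem spStage_isPullback {j k : Over i₀} (φ : j ⟶ k) :
    IsPullback ((spStage D g).map φ) (pullback.snd g (D.map j.hom)) (pullback.snd g (D.map k.hom))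
      (D.map φ.left) := by
  refine IsPullback.of_right ?_ (pullback.lift_snd _ _ _)
    (IsPullback.of_hasPullback g (D.map k.hom))
  have e : (spStage D g).map φ ≫ pullback.fst g (D.map k.hom) = pullback.fst g (D.map j.hom) :=
    pullback.lift_fst _ _ _
  rw [e, ← D.map_comp, Over.w]
  exact IsPullback.of_hasPullback _ _

variable (c : Cone D)

/-- The base changed cone. -/
noncomputable def spStageCone : Cone (spStage D g) where
  pt := pullback g (c.π.app i₀)
  π :=
  { app j := pullback.lift (pullback.fst _ _) (pullback.snd _ _ ≫ c.π.app j.left)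
      (by rw [Category.assoc, c.w, pullback.condition])
    naturality j k φ := by
      apply pullback.hom_ext <;> simp [spStage] }

attribute [local instance] CategoryTheory.isConnected_of_hasTerminal

theorem isLimit_spStageCone [IsCofiltered I] (hc : IsLimit c) :
    Nonempty (IsLimit (spStageCone D g c)) :=
  ⟨isLimitOfIsPullbackOfIsConnected (G := Over.forget i₀ ⋙ D) (spStageSnd D g) (spStageCone D g c)
    (c.whisker (Over.forget i₀))
    { hom := pullback.snd _ _
      w := fun j => (pullback.lift_snd _ _ _).symm }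
    (fun j => by
      refine IsPullback.of_right ?_ (pullback.lift_snd _ _ _) (IsPullback.of_hasPullback g (D.map j.hom))
      have e : (spStageCone D g c).π.app j ≫ pullback.fst g (D.map j.hom) = pullback.fst g (c.π.app i₀) :=
        pullback.lift_fst _ _ _
      rw [e]
      show IsPullback _ (pullback.snd g (c.π.app i₀)) g (c.π.app j.left ≫ D.map j.hom)
      rw [c.w]
      exact IsPullback.of_hasPullback _ _)
    ((Functor.Initial.isLimitWhiskerEquiv (Over.forget i₀) c).symm hc)⟩

end Stage

attribute [local instance] CategoryTheory.isConnected_of_hasTerminal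

/-- A scheme over a stage gives a system of schemes with affine transition maps. -/
theorem exists_scheme_system (hDa : ∀ (i j : I) (φ : i ⟶ j), IsAffineMor (D.map φ))
    {V : Over S} (v : (yon S).obj V ⟶ D.obj i₀) :
    ∃ (E : Over i₀ ⥤ Over S) (_ : E ⋙ yon S ≅ spStage D v),
      ∀ {j k : Over i₀} (φ : j ⟶ k), IsAffineHom (E.map φ).left := by
  have hess : ∀ j : Over i₀, (yon S).essImage ((spStage D v).obj j) := fun j => by
    have hr := ((isAffineMor_iff_repWith _).1 (hDa _ _ j.hom)).1 v
    obtain ⟨W, w, fst, sq⟩ := hr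
    exact ⟨W, ⟨sq.flip.isoPullback⟩⟩
  refine ⟨Functor.essImage.liftFunctor (spStage D v) (yon S) hess,
    Functor.essImage.liftFunctorCompIso _ _ hess, ?_⟩
  intro j k φ
  let E := Functor.essImage.liftFunctor (spStage D v) (yon S) hess
  let e : E ⋙ yon S ≅ spStage D v := Functor.essImage.liftFunctorCompIso _ _ hess
  refine (AlgSp.repWith_yon_map_iff @IsAffineHom (E.map φ)).1 ?_
  have sq : IsPullback ((yon S).map (E.map φ)) (e.hom.app j ≫ pullback.snd v (D.map j.hom))
      (e.hom.app k ≫ pullback.snd v (D.map k.hom)) (D.map φ.left) := by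
    refine (spStage_isPullback D v φ).of_iso (e.app j).symm (e.app k).symm (Iso.refl _) (Iso.refl _)
      ?_ ?_ ?_ ?_
    · show (spStage D v).map φ ≫ e.inv.app k = e.inv.app j ≫ (E ⋙ yon S).map φ
      exact e.inv.naturality φ
    · simp
    · simp
    · simp
  exact RepWith.baseChange sq.flip ((isAffineMor_iff_repWith _).1 (hDa _ _ φ.left))

set_option maxHeartbeats 1600000 in
/-- Properties of representable morphisms descend to a stage of a limit of algebraic spaces. -/
theorem exists_stage_of_descends [IsCofiltered I]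
    (hDa : ∀ (i j : I) (φ : i ⟶ j), IsAffineMor (D.map φ)) (c : Cone D) (hc : IsLimit c)
    {Q P : MorphismProperty Scheme.{u}} [Q.RespectsIso]
    [P.IsStableUnderBaseChange] [P.IsLocalAtTarget Scheme.fppfPrecoverage]
    (hdesc : EGA43.Limit.Descends Q P) {A₀ C₀ : Sp S} (g₀ : A₀ ⟶ C₀) (c₀ : C₀ ⟶ D.obj i₀)
    {V : Over S} (v : (yon S).obj V ⟶ C₀) (hve : RepWith @Etale v) (hvs : RepWith @Surjective v)
    [CompactSpace V.left] [QuasiSeparatedSpace V.left]
    (hQ : RepWith Q g₀) (hqc : RepWith @QuasiCompact g₀) (hqs : RepWith @QuasiSeparated g₀)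
    {A C : Sp S} (g : A ⟶ C) (pC : C ⟶ C₀) (qC : C ⟶ c.pt)
    (hC : IsPullback pC qC c₀ (c.π.app i₀)) (pA : A ⟶ A₀) (hA : IsPullback pA g g₀ pC)
    (hP : RepWith P g) :
    ∃ (i : I) (φ : i ⟶ i₀), ∀ (Ai Ci : Sp S) (gi : Ai ⟶ Ci) (pCi : Ci ⟶ C₀)
      (qCi : Ci ⟶ D.obj i) (_ : IsPullback pCi qCi c₀ (D.map φ)) (pAi : Ai ⟶ A₀)
      (_ : IsPullback pAi gi g₀ pCi), RepWith P gi := by
  obtain ⟨E, e, haff⟩ := exists_scheme_system D hDa (v ≫ c₀)
  let E' : Over i₀ ⥤ Scheme.{u} := E ⋙ Over.forget S
  have haff' : ∀ (i j : Over i₀) (f : i ⟶ j), IsAffineHom (E'.map f) := fun i j f => haff f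
  let o : Over i₀ := Over.mk (𝟙 i₀)
  -- the first stage is `V`
  let vl : (yon S).obj V ⟶ (spStage D (v ≫ c₀)).obj o :=
    pullback.lift (𝟙 _) (v ≫ c₀) (by
      show 𝟙 _ ≫ v ≫ c₀ = (v ≫ c₀) ≫ D.map (𝟙 i₀)
      simp)
  let π₁ : (spStage D (v ≫ c₀)).obj o ⟶ (yon S).obj V := pullback.fst _ _
  have hπ₁ : IsIso π₁ := by
    have : IsIso (D.map o.hom) := (Functor.mapIso D (Iso.refl i₀)).isIso_hom
    exact pullback_fst_iso_of_right_iso _ _
  let κ : E.obj o ≅ V := (yon S).preimageIso (e.app o ≪≫ asIso π₁)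
  have hκ : (yon S).map κ.hom = e.hom.app o ≫ π₁ := (yon S).map_preimage _
  have hκh : IsIso κ.hom.left := ((Over.forget S).mapIso κ).isIso_hom
  have : CompactSpace (E'.obj o) := QuasiCompact.compactSpace_of_compactSpace κ.hom.left
  have : QuasiSeparatedSpace (E'.obj o) := quasiSeparatedSpace_of_quasiSeparated κ.hom.left
  -- the limit in schemes
  have hlimE : HasLimit E' := by
    have : ∀ {i j : Over i₀} (f : i ⟶ j), IsAffineHom (E'.map f) := fun f => haff f
    exact H8Lim.hasLimit_of_affine_transition E'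
  have : HasLimit E := hasLimit_of_created E (Over.forget S)
  let cV : Cone E := limit.cone E
  have hcV : IsLimit ((Over.forget S).mapCone cV) :=
    isLimitOfPreserves (Over.forget S) (limit.isLimit E)
  -- the chart of `g₀`
  let W₀ : Over S := hQ.1.pullback v
  let w : W₀ ⟶ V := hQ.1.snd v
  have sqW : IsPullback (hQ.1.fst v) ((yon S).map w) g₀ v := hQ.1.isPullback v
  let f₁ : W₀ ⟶ E.obj o := w ≫ κ.inv
  have hwQ : Q w.left := hQ.2 _ _ _ sqW
  have hwqc : QuasiCompact w.left := hqc.2 _ _ _ sqW
  have hwqs : QuasiSeparated w.left := hqs.2 _ _ _ sqW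
  have hf₁ : f₁.left = w.left ≫ κ.inv.left := rfl
  have hκi : IsIso κ.inv.left := ((Over.forget S).mapIso κ).isIso_inv
  have : QuasiCompact f₁.left := by rw [hf₁]; infer_instance
  have : QuasiSeparated f₁.left := by rw [hf₁]; infer_instance
  have hQ₁ : Q f₁.left := by rw [hf₁]; exact (Q.cancel_right_of_respectsIso _ _).2 hwQ
  -- the squares over a test scheme over the first stage
  have key : ∀ {T : Over S} (t : T ⟶ E.obj o) {R : Scheme.{u}} (r₁ : R ⟶ W₀.left) (r₂ : R ⟶ T.left),
      IsPullback r₁ r₂ f₁.left t.left → ∃ (R' : Over S) (s₁ : R' ⟶ W₀) (s₂ : R' ⟶ T),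
        (∃ i : R'.left ≅ R, s₂.left = i.hom ≫ r₂) ∧
        IsPullback ((yon S).map s₁ ≫ hQ.1.fst v) ((yon S).map s₂) g₀
          ((yon S).map t ≫ e.hom.app o ≫ π₁ ≫ v) := by
    intro T t R r₁ r₂ hR
    let R' : Over S := Over.mk (r₂ ≫ T.hom)
    let s₁ : R' ⟶ W₀ := Over.homMk r₁ (by
      show r₁ ≫ W₀.hom = r₂ ≫ T.hom
      rw [← Over.w f₁, ← Category.assoc, hR.w, Category.assoc, Over.w t])
    let s₂ : R' ⟶ T := Over.homMk r₂ rfl
    refine ⟨R', s₁, s₂, ⟨Iso.refl _, (Category.id_comp _).symm⟩, ?_⟩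
    have h1 : IsPullback ((yon S).map s₁) ((yon S).map s₂) ((yon S).map f₁) ((yon S).map t) :=
      isPullback_over_forget hR
    have h2 : IsPullback ((yon S).map s₁) ((yon S).map s₂) ((yon S).map w)
        ((yon S).map t ≫ e.hom.app o ≫ π₁) := by
      refine h1.of_iso (Iso.refl _) (Iso.refl _) (Iso.refl _) ((yon S).mapIso κ) ?_ ?_ ?_ ?_
      · simp
      · simp
      · simp [f₁, ← Functor.map_comp]
      · simp [hκ]
    have h3 := h2.paste_horiz sqW
    simpa using h3
  -- the stage squares
  have stageSq : ∀ j : Over i₀, (yon S).map (E.map (Over.homMk j.hom (Category.comp_id _) : j ⟶ o)) ≫ e.hom.app o ≫ π₁ =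
      e.hom.app j ≫ pullback.fst _ _ := by
    intro j
    have := e.hom.naturality (Over.homMk j.hom (Category.comp_id _) : j ⟶ o)
    dsimp at this
    rw [← Category.assoc, this, Category.assoc]
    congr 1
    exact pullback.lift_fst _ _ _
  -- the limit of the charts
  have hlimV : IsLimit ((Cone.postcompose e.hom).obj ((yon S).mapCone cV)) :=
    (IsLimit.postcomposeHomEquiv e _).symm (isLimitOfPreserves (yon S) (limit.isLimit E))
  let ρ := hlimV.conePointUniqueUpToIso (isLimit_spStageCone D (v ≫ c₀) c hc).some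
  have hρ : ∀ j, ρ.hom ≫ (spStageCone D (v ≫ c₀) c).π.app j =
      (yon S).map (cV.π.app j) ≫ e.hom.app j := fun j =>
    IsLimit.conePointUniqueUpToIso_hom_comp _ _ j
  -- the property at the limit
  let R := pullback f₁.left (cV.π.app o).left
  have hPlim : P (pullback.snd f₁.left (cV.π.app o).left) := by
    obtain ⟨R', s₁, s₂, ⟨i, hi⟩, sq⟩ := key (cV.π.app o) (pullback.fst f₁.left (cV.π.app o).left)
      (pullback.snd _ _) (IsPullback.of_hasPullback _ _)
    let θ : (yon S).obj cV.pt ⟶ C := hC.lift (ρ.hom ≫ pullback.fst _ _ ≫ v)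
      (ρ.hom ≫ pullback.snd _ _) (by simp [pullback.condition])
    have hθ : θ ≫ pC = (yon S).map (cV.π.app o) ≫ e.hom.app o ≫ π₁ ≫ v := by
      rw [hC.lift_fst, ← Category.assoc _ (e.hom.app o), ← hρ, Category.assoc]
      congr 1
      rw [← Category.assoc]
      congr 1
      exact (pullback.lift_fst _ _ _).symm
    rw [← hθ] at sq
    have sq' := IsPullback.of_right' sq hA
    have h1 : P s₂.left := hP.2 _ _ _ sq'
    rw [hi] at h1
    exact (P.cancel_left_of_respectsIso _ _).1 h1
  obtain ⟨j, φ, hj⟩ := hdesc E' ((Over.forget S).mapCone cV) hcV o f₁.left hQ₁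
    (pullback.fst _ _) (pullback.snd _ _) (IsPullback.of_hasPullback _ _) hPlim
  refine ⟨j.left, j.hom, fun Ai Ci gi pCi qCi hCi pAi hAi => ?_⟩
  have hφ : φ = Over.homMk j.hom (Category.comp_id _) :=
    Over.OverMorphism.ext ((Category.comp_id φ.left).symm.trans (Over.w φ))
  subst hφ
  obtain ⟨R', s₁, s₂, ⟨i, hi⟩, sq⟩ := key (E.map (Over.homMk j.hom (Category.comp_id _) : j ⟶ o))
    (pullback.fst f₁.left (E.map (Over.homMk j.hom (Category.comp_id _) : j ⟶ o)).left) (pullback.snd _ _)
    (IsPullback.of_hasPullback _ _)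
  have h1 : P s₂.left := by
    rw [hi]
    exact (P.cancel_left_of_respectsIso _ _).2 hj
  -- the chart of `Ci`
  let σ := (IsPullback.of_hasPullback (v ≫ c₀) (D.map j.hom))
  let θ : pullback (v ≫ c₀) (D.map j.hom) ⟶ Ci := hCi.lift (pullback.fst _ _ ≫ v)
    (pullback.snd _ _) (by rw [Category.assoc]; exact pullback.condition)
  have hθ1 : θ ≫ pCi = pullback.fst _ _ ≫ v := hCi.lift_fst _ _ _
  have hθp : IsPullback (pullback.fst (v ≫ c₀) (D.map j.hom)) θ v pCi := by
    refine IsPullback.of_bot ?_ hθ1.symm hCi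
    rw [hCi.lift_snd]
    exact IsPullback.of_hasPullback _ _
  let η : (yon S).obj (E.obj j) ⟶ Ci := e.hom.app j ≫ θ
  have hηe : RepWith @Etale η :=
    RepWith.comp (repWith_of_isIso @Etale (e.hom.app j)) (RepWith.baseChange hθp hve)
  have hηs : RepWith @Surjective η :=
    RepWith.comp (repWith_of_isIso @Surjective (e.hom.app j)) (RepWith.baseChange hθp hvs)
  have hη : η ≫ pCi = (yon S).map (E.map (Over.homMk j.hom (Category.comp_id _) : j ⟶ o)) ≫ e.hom.app o ≫ π₁ ≫ v := by
    show (e.hom.app j ≫ θ) ≫ pCi = _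
    rw [Category.assoc, hθ1, ← Category.assoc, ← stageSq j]
    simp
  rw [← hη] at sq
  have sq' := IsPullback.of_right' sq hAi
  have := isLocallySurjective_of_etale hηe hηs
  have hgi : Representable gi := (RepWith.baseChange hAi hQ).1
  exact repWith_of_isLocallySurjective hgi η sq' P ((AlgSp.repWith_yon_map_iff P s₂).2 h1)

end Groth.Agent.AlgSpLib
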