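import Groth.Agent.AlgSpLib.ValuationDescentRing
import Groth.Agent.AlgSpLib.MorSep
import Groth.Agent.AlgSpLib.PointsCompact
import Groth.Agent.AlgSpLib.RepLocal
import Groth.Agent.AlgSpLib.SheafDescent

/-!
Descent of a point of a separated algebraic space along an extension of valuation rings.
-/

universe u

open CategoryTheory CategoryTheory.Limits AlgebraicGeometry AlgSp
open scoped TensorProduct

set_option backward.isDefEq.respectTransparency.types false

namespace Groth.Agent.AlgSpLib

variable {S : Scheme.{u}}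

section specOver

variable {A : Type u} [CommRing A] (str : Spec (.of A) ⟶ S)

/-- an affine scheme over `Spec A`, over `S` -/
noncomputable abbrev specOver (R : Type u) [CommRing R] [Algebra A R] : Over S :=
  Over.mk (Spec.map (CommRingCat.ofHom (algebraMap A R)) ≫ str)

/-- its structure map -/
noncomputable abbrev specHom (R : Type u) [CommRing R] [Algebra A R] :
    specOver str R ⟶ Over.mk str :=
  Over.homMk (Spec.map (CommRingCat.ofHom (algebraMap A R))) rfl

variable {R R' R'' : Type u} [CommRing R] [CommRing R'] [CommRing R''] [Algebra A R] [Algebra A R']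
  [Algebra A R'']

/-- the map induced by an algebra map -/
noncomputable def specMap (f : R →ₐ[A] R') : specOver str R' ⟶ specOver str R :=
  Over.homMk (Spec.map (CommRingCat.ofHom (f : R →+* R'))) (by
    show _ ≫ _ ≫ str = _ ≫ str
    rw [← Spec.map_comp_assoc, ← CommRingCat.ofHom_comp, f.comp_algebraMap])

theorem specMap_comp (f : R →ₐ[A] R') (g : R' →ₐ[A] R'') :
    specMap str (g.comp f) = specMap str g ≫ specMap str f := by
  refine Over.OverMorphism.ext ?_
  show Spec.map _ = Spec.map _ ≫ Spec.map _
  rw [← Spec.map_comp, ← CommRingCat.ofHom_comp]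
  rfl

theorem specMap_comp_specHom (f : R →ₐ[A] R') :
    specMap str f ≫ specHom str R = specHom str R' := by
  refine Over.OverMorphism.ext ?_
  show Spec.map _ ≫ Spec.map _ = Spec.map _
  rw [← Spec.map_comp, ← CommRingCat.ofHom_comp, f.comp_algebraMap]

theorem exists_specMap (k : specOver str R' ⟶ specOver str R)
    (hk : k ≫ specHom str R = specHom str R') : ∃ f : R →ₐ[A] R', k = specMap str f := by
  obtain ⟨φ, hφ⟩ := Spec.map_surjective k.left
  have h : φ.hom.comp (algebraMap A R) = algebraMap A R' := by
    have h1 : k.left ≫ Spec.map (CommRingCat.ofHom (algebraMap A R)) =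
        Spec.map (CommRingCat.ofHom (algebraMap A R')) := congrArg Over.Hom.left hk
    rw [← hφ, ← Spec.map_comp] at h1
    exact congrArg CommRingCat.Hom.hom (Spec.map_injective h1)
  exact ⟨{ φ.hom with commutes' := fun a => RingHom.congr_fun h a }, Over.OverMorphism.ext hφ.symm⟩

theorem specMap_injective {f g : R →ₐ[A] R'} (h : specMap str f = specMap str g) : f = g :=
  AlgHom.coe_ringHom_injective
    (congrArg CommRingCat.Hom.hom (Spec.map_injective (congrArg Over.Hom.left h)))

theorem exists_ringHom_of_isClosedImmersion {Γ : Scheme.{u}} (i : Γ ⟶ Spec (.of R))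
    [IsClosedImmersion i] : ∃ (I : Ideal R) (e : Γ ≅ Spec (.of (R ⧸ I))),
      i = e.hom ≫ Spec.map (CommRingCat.ofHom (Ideal.Quotient.mk I)) :=
  IsClosedImmersion.Spec_iff.1 ‹_›

variable {P : Sp S} (p : P ⟶ (yon S).obj (Over.mk str))

/-- two points of a separated space agreeing after an injective ring map agree -/
theorem hom_ext_of_injective (hp : IsSeparatedMor p) (f : R →ₐ[A] R') (hf : Function.Injective f)
    (a b : (yon S).obj (specOver str R) ⟶ P) (hab : a ≫ p = b ≫ p)
    (h : (yon S).map (specMap str f) ≫ a = (yon S).map (specMap str f) ≫ b) : a = b := by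
  let m : (yon S).obj (specOver str R) ⟶ pullback p p := pullback.lift a b hab
  have sq := hp.1.isPullback m
  have hi : IsClosedImmersion (hp.1.snd m).left := hp.property_snd m
  have hc : ((yon S).map (specMap str f) ≫ a) ≫ pullback.diagonal p =
      (yon S).map (specMap str f) ≫ m := by
    apply pullback.hom_ext
    · rw [Category.assoc, Category.assoc, Category.assoc, pullback.diagonal_fst, pullback.lift_fst,
        Category.comp_id]
    · rw [Category.assoc, Category.assoc, Category.assoc, pullback.diagonal_snd, pullback.lift_snd,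
        Category.comp_id, h]
  obtain ⟨k, -, hk⟩ := sq.exists_lift _ _ hc
  obtain ⟨k, rfl⟩ := (yon S).map_surjective k
  rw [← Functor.map_comp] at hk
  have hk' : k.left ≫ (hp.1.snd m).left = Spec.map (CommRingCat.ofHom (f : R →+* R')) :=
    congrArg Over.Hom.left ((yon S).map_injective hk)
  obtain ⟨I, e, he⟩ := exists_ringHom_of_isClosedImmersion (hp.1.snd m).left
  have hI : I = ⊥ := by
    obtain ⟨χ, hχ⟩ := Spec.map_surjective (k.left ≫ e.hom)
    rw [he, ← Category.assoc, ← hχ, ← Spec.map_comp] at hk'
    have h2 := congrArg CommRingCat.Hom.hom (Spec.map_injective hk')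
    refine (eq_bot_iff).2 fun x hx => hf ?_
    have h3 := RingHom.congr_fun h2 x
    simp only [CommRingCat.hom_comp, RingHom.comp_apply, CommRingCat.hom_ofHom] at h3
    show f x = f 0
    rw [map_zero]
    refine h3.symm.trans ?_
    rw [Ideal.Quotient.eq_zero_iff_mem.2 hx, map_zero]
  subst hI
  have : IsIso (CommRingCat.ofHom (Ideal.Quotient.mk (⊥ : Ideal R))) :=
    (ConcreteCategory.isIso_iff_bijective _).2 ⟨(RingHom.injective_iff_ker_eq_bot _).2 Ideal.mk_ker,
      Ideal.Quotient.mk_surjective⟩
  have : IsIso (hp.1.snd m).left := by rw [he]; infer_instance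
  have : IsIso (hp.1.snd m) := by
    have : IsIso ((Over.forget S).map (hp.1.snd m)) := this
    exact isIso_of_reflects_iso _ (Over.forget S)
  have hm : inv ((yon S).map (hp.1.snd m)) ≫ hp.1.fst m ≫ pullback.diagonal p = m := by
    rw [sq.w, IsIso.inv_hom_id_assoc]
  have h1 := congrArg (· ≫ pullback.fst p p) hm
  have h2 := congrArg (· ≫ pullback.snd p p) hm
  simp only [Category.assoc] at h1 h2
  rw [pullback.diagonal_fst, Category.comp_id, pullback.lift_fst] at h1
  rw [pullback.diagonal_snd, Category.comp_id, pullback.lift_snd] at h2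
  rw [← h1, ← h2]

/-- fibre product of two affine schemes over a separated space -/
theorem exists_affine_fibre (hp : IsSeparatedMor p) {R₁ R₂ : Type u} [CommRing R₁] [CommRing R₂]
    [Algebra A R₁] [Algebra A R₂] (a₁ : (yon S).obj (specOver str R₁) ⟶ P)
    (a₂ : (yon S).obj (specOver str R₂) ⟶ P) (h₁ : a₁ ≫ p = (yon S).map (specHom str R₁))
    (h₂ : a₂ ≫ p = (yon S).map (specHom str R₂)) :
    ∃ (F : Type u) (_ : CommRing F) (_ : Algebra A F) (q : R₁ ⊗[A] R₂ →ₐ[A] F),
      Function.Surjective q ∧
      IsPullback ((yon S).map (specMap str (q.comp Algebra.TensorProduct.includeLeft)))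
        ((yon S).map (specMap str (q.comp Algebra.TensorProduct.includeRight))) a₁ a₂ ∧
      ∀ (R'' : Type u) [CommRing R''] [Algebra A R''] (f₁ : R₁ →ₐ[A] R'') (f₂ : R₂ →ₐ[A] R''),
        (yon S).map (specMap str f₁) ≫ a₁ = (yon S).map (specMap str f₂) ≫ a₂ →
        ∃ χ : F →ₐ[A] R'', χ.comp q = Algebra.TensorProduct.productMap f₁ f₂ := by
  let pr₁ := specMap str (Algebra.TensorProduct.includeLeft : R₁ →ₐ[A] R₁ ⊗[A] R₂)
  let pr₂ := specMap str (Algebra.TensorProduct.includeRight : R₂ →ₐ[A] R₁ ⊗[A] R₂)
  have hw : ((yon S).map pr₁ ≫ a₁) ≫ p = ((yon S).map pr₂ ≫ a₂) ≫ p := by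
    rw [Category.assoc, Category.assoc, h₁, h₂, ← Functor.map_comp, ← Functor.map_comp,
      specMap_comp_specHom, specMap_comp_specHom]
  let m : (yon S).obj (specOver str (R₁ ⊗[A] R₂)) ⟶ pullback p p := pullback.lift _ _ hw
  have sq := hp.1.isPullback m
  have hi : IsClosedImmersion (hp.1.snd m).left := hp.property_snd m
  obtain ⟨I, e, he⟩ := exists_ringHom_of_isClosedImmersion (hp.1.snd m).left
  let q : R₁ ⊗[A] R₂ →ₐ[A] (R₁ ⊗[A] R₂) ⧸ I := Ideal.Quotient.mkₐ A I
  let ι : hp.1.pullback m ⟶ specOver str ((R₁ ⊗[A] R₂) ⧸ I) := Over.homMk e.hom (by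
    rw [← Over.w (hp.1.snd m), he]
    show e.hom ≫ _ ≫ str = (e.hom ≫ _) ≫ _ ≫ str
    rw [Category.assoc, ← Spec.map_comp_assoc]
    rfl)
  have : IsIso ι := by
    have : IsIso ((Over.forget S).map ι) := inferInstanceAs (IsIso e.hom)
    exact isIso_of_reflects_iso _ (Over.forget S)
  have hι : hp.1.snd m = ι ≫ specMap str q := Over.OverMorphism.ext he
  have sq' : IsPullback (inv ((yon S).map ι) ≫ hp.1.fst m) ((yon S).map (specMap str q))
      (pullback.diagonal p) m :=
    sq.of_iso (asIso ((yon S).map ι)) (Iso.refl _) (Iso.refl _) (Iso.refl _) (by simp)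
      (by simp [hι]) (by simp) (by simp)
  have hfac : ∀ {W : Sp S} (k : W ⟶ (yon S).obj (specOver str (R₁ ⊗[A] R₂))),
      k ≫ (yon S).map pr₁ ≫ a₁ = k ≫ (yon S).map pr₂ ≫ a₂ →
        ∃ l : W ⟶ (yon S).obj (specOver str ((R₁ ⊗[A] R₂) ⧸ I)),
          l ≫ (yon S).map (specMap str q) = k := fun k hk => by
    obtain ⟨l, -, hl⟩ := sq'.exists_lift (k ≫ (yon S).map pr₁ ≫ a₁) k
      (by
        apply pullback.hom_ext
        · rw [Category.assoc, pullback.diagonal_fst, Category.comp_id, Category.assoc, pullback.lift_fst]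
        · rw [Category.assoc, pullback.diagonal_snd, Category.comp_id, Category.assoc, pullback.lift_snd, hk])
    exact ⟨l, hl⟩
  have hmono : Mono ((yon S).map (specMap str q)) := by
    have : Mono (specMap str q).left := by
      have : IsClosedImmersion (specMap str q).left :=
        IsClosedImmersion.spec_of_surjective _ Ideal.Quotient.mk_surjective
      infer_instance
    have : Mono (specMap str q) := Over.mono_of_mono_left _
    infer_instance
  have hprod : IsPullback ((yon S).map pr₁) ((yon S).map pr₂) ((yon S).map (specHom str R₁))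
      ((yon S).map (specHom str R₂)) :=
    (IsPullback.of_map (Over.forget S) (f := pr₁) (g := pr₂) (h := specHom str R₁)
      (i := specHom str R₂) (by rw [specMap_comp_specHom, specMap_comp_specHom])
      (isPullback_SpecMap_of_isPushout (CommRingCat.ofHom (algebraMap A R₁))
        (CommRingCat.ofHom (algebraMap A R₂)) _ _
        (CommRingCat.isPushout_tensorProduct A R₁ R₂))).map (yon S)
  have hF : IsPullback ((yon S).map (specMap str (q.comp Algebra.TensorProduct.includeLeft)))
      ((yon S).map (specMap str (q.comp Algebra.TensorProduct.includeRight))) a₁ a₂ := by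
    rw [specMap_comp, specMap_comp, Functor.map_comp, Functor.map_comp]
    have lifts : ∀ c : PullbackCone a₁ a₂,
        ∃ l : c.pt ⟶ (yon S).obj (specOver str ((R₁ ⊗[A] R₂) ⧸ I)),
          l ≫ (yon S).map (specMap str q) ≫ (yon S).map pr₁ = c.fst ∧
          l ≫ (yon S).map (specMap str q) ≫ (yon S).map pr₂ = c.snd := fun c => by
      have hc : c.fst ≫ (yon S).map (specHom str R₁) = c.snd ≫ (yon S).map (specHom str R₂) := by
        rw [← h₁, ← h₂, c.condition_assoc]
      obtain ⟨k, hk₁, hk₂⟩ := hprod.exists_lift c.fst c.snd hc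
      obtain ⟨l, hl⟩ := hfac k (by rw [reassoc_of% hk₁, reassoc_of% hk₂, c.condition])
      exact ⟨l, by rw [reassoc_of% hl, hk₁], by rw [reassoc_of% hl, hk₂]⟩
    choose l hl₁ hl₂ using lifts
    refine ⟨⟨?_⟩, ⟨PullbackCone.IsLimit.mk _ l hl₁ hl₂ (fun c t ht₁ ht₂ => ?_)⟩⟩
    · have h3 := congrArg (· ≫ pullback.fst p p) sq'.w
      have h4 := congrArg (· ≫ pullback.snd p p) sq'.w
      simp only [Category.assoc] at h3 h4
      rw [pullback.diagonal_fst, Category.comp_id, pullback.lift_fst] at h3
      rw [pullback.diagonal_snd, Category.comp_id, pullback.lift_snd] at h4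
      simp only [Category.assoc]
      exact h3.symm.trans h4
    · rw [← cancel_mono ((yon S).map (specMap str q))]
      refine hprod.hom_ext ?_ ?_
      · rw [Category.assoc, Category.assoc, hl₁]; exact ht₁
      · rw [Category.assoc, Category.assoc, hl₂]; exact ht₂
  refine ⟨(R₁ ⊗[A] R₂) ⧸ I, inferInstance, inferInstance, q, Ideal.Quotient.mk_surjective, hF,
    fun R'' _ _ f₁ f₂ h12 => ?_⟩
  obtain ⟨l, hl⟩ := hfac ((yon S).map (specMap str (Algebra.TensorProduct.productMap f₁ f₂))) (by
    rw [← Functor.map_comp_assoc, ← Functor.map_comp_assoc, ← specMap_comp, ← specMap_comp,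
      Algebra.TensorProduct.productMap_left, Algebra.TensorProduct.productMap_right]
    exact h12)
  obtain ⟨l, rfl⟩ := (yon S).map_surjective l
  rw [← Functor.map_comp] at hl
  have hl' := (yon S).map_injective hl
  obtain ⟨χ, rfl⟩ := exists_specMap str l (by
    rw [← specMap_comp_specHom str q, ← Category.assoc, hl', specMap_comp_specHom])
  rw [← specMap_comp] at hl'
  exact ⟨χ, specMap_injective str hl'⟩

theorem isPullback_specTensor (R R' : Type u) [CommRing R] [CommRing R'] [Algebra A R] [Algebra A R'] :
    IsPullback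
      ((yon S).map (specMap str (Algebra.TensorProduct.includeLeft : R →ₐ[A] R ⊗[A] R')))
      ((yon S).map (specMap str (Algebra.TensorProduct.includeRight : R' →ₐ[A] R ⊗[A] R')))
      ((yon S).map (specHom str R)) ((yon S).map (specHom str R')) :=
  (IsPullback.of_map (Over.forget S)
    (f := specMap str (Algebra.TensorProduct.includeLeft : R →ₐ[A] R ⊗[A] R'))
    (g := specMap str (Algebra.TensorProduct.includeRight : R' →ₐ[A] R ⊗[A] R'))
    (h := specHom str R) (i := specHom str R') (by rw [specMap_comp_specHom, specMap_comp_specHom])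
    (isPullback_SpecMap_of_isPushout (CommRingCat.ofHom (algebraMap A R))
      (CommRingCat.ofHom (algebraMap A R')) _ _
      (CommRingCat.isPushout_tensorProduct A R R'))).map (yon S)

end specOver

/-- an etale surjective map of schemes is an epimorphism of sheaves -/
theorem epi_yon_map_of_etale {V W : Over S} (q : V ⟶ W) (he : Etale q.left)
    (hs : Surjective q.left) : Epi ((yon S).map q) := by
  have := isLocallySurjective_of_repWith (a := (yon S).map q)
    ((repWith_yon_map_iff _ q).2 (inferInstance : Flat q.left))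
    ((repWith_yon_map_iff _ q).2 (inferInstance : LocallyOfFinitePresentation q.left))
    ((repWith_yon_map_iff _ q).2 hs)
  exact Sheaf.epi_of_isLocallySurjective _

/-- an etale affine chart containing the image of a given affine point -/
theorem exists_affine_chart_containing {P : Sp S} (hP : IsAlgSpace P) {T : Over S}
    [CompactSpace ↥T.left] (l : (yon S).obj T ⟶ P) :
    ∃ (U : Over S) (a : (yon S).obj U ⟶ P), IsAffine U.left ∧ RepWith @Etale a ∧
      Set.range (Points.ofPt l) ⊆ Set.range (Points.ofPt a) := by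
  obtain ⟨U₀, a₀, hae, has⟩ := hP.atlas
  obtain ⟨σ, hσ⟩ := (isCompact_range (Points.continuous_ofPt l)).elim_finite_subcover
    (fun i : U₀.left.affineOpens => Points.ofPt a₀ '' (i.1 : Set U₀.left))
    (fun i => isOpenMap_ofPt a₀ hae _ i.1.2) (fun x _ => by
      obtain ⟨u, rfl⟩ := surjective_ofPt a₀ has x
      obtain ⟨_, ⟨V, hV, rfl⟩, hu, -⟩ :=
        U₀.left.isBasis_affineOpens.exists_subset_of_mem_open (Set.mem_univ u) isOpen_univ
      exact Set.mem_iUnion.2 ⟨⟨V, hV⟩, u, hu, rfl⟩)
  let O : σ → U₀.left.Opens := fun i => i.1.1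
  let U : Over S := Over.mk (Sigma.desc (fun i => (O i).ι) ≫ U₀.hom)
  let π : U ⟶ U₀ := Over.homMk (Sigma.desc fun i => (O i).ι)
  have : Etale π.left := IsZariskiLocalAtSource.sigmaDesc (P := @Etale) fun i => inferInstance
  have : ∀ i : σ, IsAffine (O i).toScheme := fun i => i.1.2
  refine ⟨U, (yon S).map π ≫ a₀, (inferInstance : IsAffine (∐ fun i : σ => (O i).toScheme)),
    RepWith.comp ((repWith_yon_map_iff _ π).2 ‹Etale π.left›) hae, fun x hx => ?_⟩
  obtain ⟨i, hi, v, hv, rfl⟩ := Set.mem_iUnion₂.1 (hσ hx)
  refine ⟨Sigma.ι (fun i : σ => (O i).toScheme) ⟨i, hi⟩ ⟨v, hv⟩, ?_⟩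
  rw [ofPt_map]
  congr 1
  show ((Sigma.ι (fun i : σ => (O i).toScheme) ⟨i, hi⟩) ≫ Sigma.desc fun i => (O i).ι) ⟨v, hv⟩ = v
  rw [Sigma.ι_desc]
  rfl

/-- a point of a separated space over a valuation ring descends along extensions -/
theorem exists_lift_of_extension {A K A' K' : Type u} [CommRing A] [IsDomain A] [ValuationRing A]
    [Field K] [Algebra A K] [IsFractionRing A K] [CommRing A'] [Algebra A A']
    [Module.FaithfullyFlat A A'] [CommRing K'] [Algebra A K']
    (ι : A' →ₐ[A] K') (hι : Function.Injective ι) (fK : K →ₐ[A] K')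
    {str : Spec (.of A) ⟶ S} {P : Sp S} (hP : IsAlgSpace P) (p : P ⟶ (yon S).obj (Over.mk str))
    (hp : IsSeparatedMor p) (σ : (yon S).obj (specOver str K) ⟶ P)
    (hσ : σ ≫ p = (yon S).map (specHom str K)) (l' : (yon S).obj (specOver str A') ⟶ P)
    (hl' : l' ≫ p = (yon S).map (specHom str A'))
    (hag : (yon S).map (specMap str fK) ≫ σ = (yon S).map (specMap str ι) ≫ l') :
    ∃ l : (yon S).obj (Over.mk str) ⟶ P,
      l ≫ p = 𝟙 _ ∧ (yon S).map (specHom str K) ≫ l = σ := by
  -- `σ` and `l'` agree wherever both are defined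
  have agree : ∀ (R : Type u) [CommRing R] [Algebra A R] (f₁ : K →ₐ[A] R) (f₂ : A' →ₐ[A] R),
      (yon S).map (specMap str f₁) ≫ σ = (yon S).map (specMap str f₂) ≫ l' := by
    intro R _ _ f₁ f₂
    rw [← Algebra.TensorProduct.productMap_left f₁ f₂]
    conv_rhs => rw [← Algebra.TensorProduct.productMap_right f₁ f₂]
    simp only [specMap_comp, Functor.map_comp, Category.assoc]
    congr 1
    refine hom_ext_of_injective str p hp _ (productMap_injective fK ι hι) _ _ ?_ ?_
    · rw [Category.assoc, Category.assoc, hσ, hl', ← Functor.map_comp, ← Functor.map_comp,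
        specMap_comp_specHom, specMap_comp_specHom]
    · rw [← Functor.map_comp_assoc, ← Functor.map_comp_assoc, ← specMap_comp, ← specMap_comp,
        Algebra.TensorProduct.productMap_left, Algebra.TensorProduct.productMap_right]
      exact hag
  have : CompactSpace ↥(specOver str A').left := inferInstanceAs (CompactSpace ↥(Spec (.of A')))
  obtain ⟨U, a, hU, hae, hcov⟩ := exists_affine_chart_containing hP l'
  obtain ⟨φ, hφ⟩ := Spec.map_surjective (U.left.isoSpec.inv ≫ ((yon S).preimage (a ≫ p)).left)
  let B : Type u := Γ(U.left, ⊤)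
  algebraize [(φ.hom : A →+* B)]
  let iU : specOver str B ≅ U := Over.isoMk U.left.isoSpec.symm (by
    show U.left.isoSpec.inv ≫ U.hom = Spec.map φ ≫ str
    rw [hφ, Category.assoc]
    exact congrArg (U.left.isoSpec.inv ≫ ·) (Over.w ((yon S).preimage (a ≫ p))).symm)
  let aB : (yon S).obj (specOver str B) ⟶ P := (yon S).map iU.hom ≫ a
  have haB : aB ≫ p = (yon S).map (specHom str B) := by
    rw [show specHom str B = iU.hom ≫ (yon S).preimage (a ≫ p) from Over.OverMorphism.ext hφ,
      Functor.map_comp, Functor.map_preimage, Category.assoc]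
  have haBe : RepWith @Etale aB := RepWith.comp ((repWith_yon_map_iff @Etale iU.hom).2 (by
    show Etale U.left.isoSpec.inv; infer_instance)) hae
  obtain ⟨E, _, _, qE, -, sqE, hE⟩ := exists_affine_fibre str p hp σ aB hσ haB
  obtain ⟨F, _, _, qF, hqF, sqF, hF⟩ := exists_affine_fibre str p hp l' aB hl' haB
  let π : B →ₐ[A] E := qE.comp Algebra.TensorProduct.includeRight
  let fE : K →ₐ[A] E := qE.comp Algebra.TensorProduct.includeLeft
  have hπ : (yon S).map (specMap str π) ≫ aB = (yon S).map (specMap str fE) ≫ σ := sqE.w.symm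
  let iF : A' →ₐ[A] F := qF.comp Algebra.TensorProduct.includeLeft
  have hiF : Etale (specMap str iF).left :=
    (repWith_yon_map_iff @Etale _).1 (RepWith.baseChange sqF.flip haBe)
  have hiFe : iF.toRingHom.Etale := HasRingHomProperty.Spec_iff (P := @Etale).1 hiF
  have hiFs : Function.Surjective (PrimeSpectrum.comap iF.toRingHom) := fun t => by
    obtain ⟨u, hu⟩ := hcov ⟨t, rfl⟩
    obtain ⟨v, rfl⟩ : ∃ v, iU.hom.left v = u :=
      ⟨U.left.isoSpec.hom u, by
        show (U.left.isoSpec.hom ≫ U.left.isoSpec.inv) u = u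
        rw [Iso.hom_inv_id]
        rfl⟩
    rw [← ofPt_map] at hu
    obtain ⟨r, hr, -⟩ := (ofPt_eq_ofPt_iff sqF t v).1 hu.symm
    exact ⟨r, hr⟩
  have : Module.Flat A F := by
    algebraize [iF.toRingHom]
    have : IsScalarTower A A' F := IsScalarTower.of_algebraMap_eq fun x => (iF.commutes x).symm
    have : Algebra.Etale A' F := RingHom.etale_algebraMap.1 hiFe
    exact Module.Flat.trans A A' F
  obtain ⟨ψ, hψ⟩ := hF (A' ⊗[A] E) Algebra.TensorProduct.includeLeft
    (Algebra.TensorProduct.includeRight.comp π) (by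
      rw [specMap_comp, Functor.map_comp, Category.assoc, hπ, ← Functor.map_comp_assoc,
        ← specMap_comp]
      exact (agree _ _ _).symm)
  obtain ⟨χ, hχ⟩ := hE (F ⊗[A] K) Algebra.TensorProduct.includeRight
    (Algebra.TensorProduct.includeLeft.comp (qF.comp Algebra.TensorProduct.includeRight)) (by
      rw [specMap_comp, Functor.map_comp, Category.assoc]
      rw [show (yon S).map (specMap str (qF.comp Algebra.TensorProduct.includeRight)) ≫ aB =
        (yon S).map (specMap str iF) ≫ l' from sqF.w.symm, ← Functor.map_comp_assoc, ← specMap_comp]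
      exact agree _ _ _)
  have hχ' : χ.comp π =
      Algebra.TensorProduct.includeLeft.comp (qF.comp Algebra.TensorProduct.includeRight) := by
    rw [show χ.comp π = (χ.comp qE).comp Algebra.TensorProduct.includeRight from rfl, hχ,
      Algebra.TensorProduct.productMap_right]
  obtain ⟨hDe, hDs⟩ := valuation_descent π fE qF hqF ψ (by
    rw [hψ]
    ext x <;> simp) χ hχ' hiFe hiFs
  -- the descended chart
  let π' : B →ₐ[A] π.range := π.rangeRestrict
  have hval : π.range.val.comp π' = π := AlgHom.ext fun _ => rfl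
  obtain ⟨d, hd, hdval⟩ : ∃ d : (yon S).obj (specOver str π.range) ⟶ P,
      d ≫ p = (yon S).map (specHom str π.range) ∧
      (yon S).map (specMap str π.range.val) ≫ d = (yon S).map (specMap str fE) ≫ σ :=
    ⟨(yon S).map (specMap str π') ≫ aB,
      by rw [Category.assoc, haB, ← Functor.map_comp, specMap_comp_specHom],
      by rw [← Functor.map_comp_assoc, ← specMap_comp, hval, hπ]⟩
  have : Module.Flat A E := flat_of_algHom_field fE
  have : Module.Flat A π.range := flat_of_injective π.range.val Subtype.val_injective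
  have hcomm : ∀ (g : π.range →ₐ[A] E ⊗[A] E) (g₀ : E →ₐ[A] E ⊗[A] E),
      g = g₀.comp π.range.val →
      (yon S).map (specMap str g) ≫ d = (yon S).map (specMap str (g₀.comp fE)) ≫ σ := by
    rintro g g₀ rfl
    rw [specMap_comp, Functor.map_comp, Category.assoc, hdval, ← Functor.map_comp_assoc,
      ← specMap_comp]
  have hpair : (yon S).map (specMap str
      (Algebra.TensorProduct.includeLeft : π.range →ₐ[A] π.range ⊗[A] π.range)) ≫ d =
      (yon S).map (specMap str Algebra.TensorProduct.includeRight) ≫ d := by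
    refine hom_ext_of_injective str p hp _
      (map_injective_of_flat π.range.val π.range.val Subtype.val_injective Subtype.val_injective)
      _ _ ?_ ?_
    · rw [Category.assoc, Category.assoc, hd, ← Functor.map_comp, ← Functor.map_comp,
        specMap_comp_specHom, specMap_comp_specHom]
    · rw [← Functor.map_comp_assoc, ← Functor.map_comp_assoc, ← specMap_comp, ← specMap_comp,
        hcomm _ Algebra.TensorProduct.includeLeft (Algebra.TensorProduct.map_comp_includeLeft _ _),
        hcomm _ Algebra.TensorProduct.includeRight (Algebra.TensorProduct.map_comp_includeRight _ _)]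
      rw [(IsLocalization.algHom_subsingleton (nonZeroDivisors A)).elim
        ((Algebra.TensorProduct.includeLeft : E →ₐ[A] E ⊗[A] E).comp fE)
        ((Algebra.TensorProduct.includeRight : E →ₐ[A] E ⊗[A] E).comp fE)]
  have hce : Etale (specHom str π.range).left := HasRingHomProperty.Spec_iff (P := @Etale).2 hDe
  have hcs : Surjective (specHom str π.range).left := ⟨hDs⟩
  have := epi_yon_map_of_etale _ hce hcs
  have : IsRegularEpiCategory (Sp S) :=
    inferInstanceAs (IsRegularEpiCategory (Sheaf (J S) (Type (u + 1))))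
  have : IsRegularEpi ((yon S).map (specHom str π.range)) := IsRegularEpiCategory.regularEpiOfEpi _
  let l : (yon S).obj (Over.mk str) ⟶ P :=
    EffectiveEpi.desc ((yon S).map (specHom str π.range)) d fun g₁ g₂ h => by
      obtain ⟨r, rfl, rfl⟩ := (isPullback_specTensor str π.range π.range).exists_lift g₁ g₂ h
      rw [Category.assoc, Category.assoc, hpair]
  have hl : (yon S).map (specHom str π.range) ≫ l = d := EffectiveEpi.fac _ _ _
  refine ⟨l, ?_, ?_⟩
  · rw [← cancel_epi ((yon S).map (specHom str π.range)), reassoc_of% hl, hd, Category.comp_id]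
  · have sqK := isPullback_specTensor str K π.range
    let iL : K →ₐ[A] K ⊗[A] π.range := Algebra.TensorProduct.includeLeft
    have := epi_yon_map_of_etale (specMap str iL)
      ((repWith_yon_map_iff @Etale _).1 (RepWith.baseChange sqK.flip
        ((repWith_yon_map_iff @Etale _).2 hce)))
      ((repWith_yon_map_iff @Surjective _).1 (RepWith.baseChange sqK.flip
        ((repWith_yon_map_iff @Surjective _).2 hcs)))
    rw [← cancel_epi ((yon S).map (specMap str iL)), reassoc_of% sqK.w, hl]
    refine hom_ext_of_injective str p hp _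
      (productMap_injective fE π.range.val Subtype.val_injective) _ _ ?_ ?_
    · rw [Category.assoc, Category.assoc, hd, hσ, ← Functor.map_comp, ← Functor.map_comp,
        specMap_comp_specHom, specMap_comp_specHom]
    · rw [← Functor.map_comp_assoc, ← Functor.map_comp_assoc, ← specMap_comp, ← specMap_comp,
        Algebra.TensorProduct.productMap_right, Algebra.TensorProduct.productMap_left]
      exact hdval

end Groth.Agent.AlgSpLib
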