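import Groth.Agent.AlgSpLib.LimitClosed
import Groth.Agent.H8Lim.ImmersionStage
import Groth.Agent.Desc19b.Imm
import Groth.Agent.AlgSpLib.ValuationDescent

/-!
# Closed immersions and immersions of finite type into a limit of algebraic spaces
-/

universe u

set_option autoImplicit false
set_option backward.isDefEq.respectTransparency.types false

open CategoryTheory CategoryTheory.Limits AlgebraicGeometry Opposite AlgSp

namespace Groth.Agent.AlgSpLib

variable {S : Scheme.{u}} {I : Type u} [SmallCategory I] [IsCofiltered I] {D : I ⥤ Sp S}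

set_option maxHeartbeats 800000 in
/-- A closed immersion of finite type into a limit is a closed immersion into the stages. -/
theorem closedImmersion_comp_π_eventually (hD : ∀ i, IsAlgSpace (D.obj i))
    (hDa : ∀ (i j : I) (φ : i ⟶ j), IsAffineMor (D.map φ)) (c : Cone D) (hc : IsLimit c)
    {Y : Sp S} (y : Y ⟶ c.pt) (hy : RepWith @IsClosedImmersion y) (o : I)
    (hqc : IsQuasiCompactSp (D.obj o)) (hft : LocP @LocallyOfFiniteType (y ≫ c.π.app o)) :
    ∃ (j : I) (_ : j ⟶ o), ∀ k, (k ⟶ j) → RepWith @IsClosedImmersion (y ≫ c.π.app k) := by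
  have := (isQuasiCompactSp_iff_compactSpace (hD o)).1 hqc
  obtain ⟨V, v, hV, hve, hvs⟩ := exists_affine_chart (hD o)
  obtain ⟨E, η, pr, cE, hcE, θ, haff, hnat, hsq, hpr, hη, hθe, hθs, hπ⟩ :=
    exists_chart_system D hDa c hc v hve hvs
  let E' : Over o ⥤ Scheme.{u} := E ⋙ Over.forget S
  have haff' : ∀ {j k : Over o} (f : j ⟶ k), IsAffineHom (E'.map f) := fun f => haff f
  have haffine : ∀ j, IsAffine (E'.obj j) := fun j => by
    have := hpr j
    show IsAffine (E.obj j).left
    exact isAffine_of_isAffineHom (pr j).left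
  let W : Over S := hy.1.pullback θ
  let h : W ⟶ cE.pt := hy.1.snd θ
  have sqW : IsPullback (hy.1.fst θ) ((yon S).map h) y θ := hy.1.isPullback θ
  have hh : IsClosedImmersion h.left := hy.2 _ _ _ sqW
  let top : Over o := Over.mk (𝟙 o)
  let cE' : Cone E' := (Over.forget S).mapCone cE
  let h' : W.left ⟶ cE'.pt := h.left
  have : IsClosedImmersion h' := hh
  have : LocallyOfFiniteType (h' ≫ cE'.π.app top) :=
    hft (hy.1.fst θ) (η top) (h ≫ cE.π.app top) (RepWith.baseChange sqW.flip hθe) (hη top).1 (by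
      have e : θ ≫ c.π.app o = (yon S).map (cE.π.app top) ≫ η top := (hπ top).w.symm
      rw [← Category.assoc, sqW.w, Category.assoc, e, Functor.map_comp, Category.assoc])
  obtain ⟨l, g, hl⟩ := H8Lim.exists_forall_isClosedImmersion_restrict_of_isAffineOpen hcE h' top
    (isAffineOpen_top (E'.obj top))
  refine ⟨l.left, l.hom, fun k ψ => ?_⟩
  let K : Over o := Over.mk (ψ ≫ l.hom)
  have hK := hl K (Over.homMk ψ rfl)
  have hK' : IsClosedImmersion (h' ≫ cE'.π.app K) :=
    IsZariskiLocalAtTarget.of_iSup_eq_top (P := @IsClosedImmersion.{u})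
      (fun _ : PUnit.{u+1} => E'.map ((Over.homMk ψ rfl : K ⟶ l) ≫ g) ⁻¹ᵁ ⊤) (by simp) fun _ => hK
  have hr : Representable (y ≫ c.π.app k) := MorphismProperty.comp_mem _ _ _ hy.1
    ((isAffineMor_iff_repWith _).1 (isAffineMor_π D hDa c hc k)).1
  have := isLocallySurjective_of_etale (hη K).1 (hη K).2
  have sqk : IsPullback (hy.1.fst θ) ((yon S).map h ≫ (yon S).map (cE.π.app K)) (y ≫ c.π.app k)
      (η K) := IsPullback.paste_vert sqW (hπ K).flip
  rw [← Functor.map_comp] at sqk
  exact repWith_of_isLocallySurjective hr (η K) sqk @IsClosedImmersion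
    ((AlgSp.repWith_yon_map_iff @IsClosedImmersion _).2 hK')

theorem isLocalAtTarget_isImmersion :
    MorphismProperty.IsLocalAtTarget @IsImmersion.{u} Scheme.fppfPrecoverage :=
  have := Desc19b.descendsAlong_immersion_fppf.{u}
  isLocalAtTarget_fppf _

set_option maxHeartbeats 800000 in
/-- An immersion of finite type of a quasi-compact space into a limit is an immersion into the
stages. -/
theorem immersion_comp_π_eventually [QuasiSeparatedSpace ↥S] (hD : ∀ i, IsAlgSpace (D.obj i))
    (hDa : ∀ (i j : I) (φ : i ⟶ j), IsAffineMor (D.map φ)) (c : Cone D) (hc : IsLimit c)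
    {Y : Sp S} (hY : IsAlgSpace Y) (hYqc : IsQuasiCompactSp Y) (y : Y ⟶ c.pt)
    (hy : RepWith @IsImmersion y) (o : I) (hqs : IsQuasiSeparatedSp (D.obj o))
    (hft : LocP @LocallyOfFiniteType (y ≫ c.π.app o)) :
    ∃ (j : I) (_ : j ⟶ o), ∀ k, (k ⟶ j) → RepWith @IsImmersion (y ≫ c.π.app k) := by
  have := (isQuasiCompactSp_iff_compactSpace hY).1 hYqc
  obtain ⟨U, a, hU, hae, has⟩ := exists_affine_chart hY
  obtain ⟨V, v, hV, hve, hvrange⟩ := exists_affine_chart_containing (hD o) (a ≫ y ≫ c.π.app o)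
  obtain ⟨E, η, pr, cE, hcE, θ, haff, hnat, hsq, hpr, ⟨f₀, sqθ⟩, hπ⟩ :=
    exists_stage_system D hDa c hc v
  let E' : Over o ⥤ Scheme.{u} := E ⋙ Over.forget S
  have haff' : ∀ {j k : Over o} (f : j ⟶ k), IsAffineHom (E'.map f) := fun f => haff f
  let top : Over o := Over.mk (𝟙 o)
  let cE' : Cone E' := (Over.forget S).mapCone cE
  let W : Over S := hy.1.pullback θ
  let h : W ⟶ cE.pt := hy.1.snd θ
  have sqW : IsPullback (hy.1.fst θ) ((yon S).map h) y θ := hy.1.isPullback θ
  have sqWV := (sqW.paste_vert sqθ.flip)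
  have hfe : RepWith @Etale (hy.1.fst θ) := RepWith.baseChange sqWV.flip hve
  have hfqc : RepWith @QuasiCompact (hy.1.fst θ) :=
    RepWith.baseChange sqWV.flip (repWith_qc_chart (hD o) hqs v)
  have hfs : Function.Surjective (Points.map (hy.1.fst θ)) := by
    intro p
    obtain ⟨u, rfl⟩ := surjective_ofPt a has p
    obtain ⟨x, hx⟩ := hvrange ⟨u, rfl⟩
    obtain ⟨z, hz, -⟩ := exists_point_of_isPullback sqWV
      (show Points.map (y ≫ c.π.app o) (Points.ofPt a u) = Points.map v (Points.ofScheme V x) by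
        rw [Points.map_ofPt, Points.ofScheme, Points.map_ofPt, Category.id_comp]
        exact hx.symm)
    exact ⟨z, hz⟩
  have hfsur : RepWith @Surjective (hy.1.fst θ) := repWith_surjective_of_surjective_map hfe.1 hfs
  have hWc : CompactSpace W.left := by
    have hr := hfqc.1
    have : QuasiCompact (hr.snd a).left := hfqc.property_snd a
    have : CompactSpace (hr.pullback a).left :=
      QuasiCompact.compactSpace_of_compactSpace (hr.snd a).left
    obtain ⟨w, hw⟩ := (yon S).map_surjective (hr.fst a)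
    have sqU : IsPullback ((yon S).map w) ((yon S).map (hr.snd a)) (hy.1.fst θ) a :=
      hw ▸ hr.isPullback a
    have : Surjective w.left := (repWith_yon_map_iff @Surjective w).1 (RepWith.baseChange sqU.flip has)
    exact w.left.surjective.compactSpace w.left.continuous
  let h' : W.left ⟶ cE'.pt := h.left
  have : IsImmersion h' := hy.2 _ _ _ sqW
  have hl : LocallyOfFiniteType (h' ≫ cE'.π.app top) :=
    hft (hy.1.fst θ) (η top) (h ≫ cE.π.app top) hfe (RepWith.baseChange (hsq top) hve) (by
      have e : θ ≫ c.π.app o = (yon S).map (cE.π.app top) ≫ η top := (hπ top).w.symm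
      rw [← Category.assoc, sqW.w, Category.assoc, e, Functor.map_comp, Category.assoc])
  let t : E' ⟶ (Functor.const (Over o)).obj (E'.obj top) :=
    { app := fun j => E'.map (Over.mkIdTerminal.from j)
      naturality := fun j k φ => by
        show E'.map φ ≫ _ = _ ≫ 𝟙 _
        rw [← E'.map_comp, Category.comp_id, Over.mkIdTerminal.hom_ext (φ ≫ _) (Over.mkIdTerminal.from j)] }
  have : IsImmersion h' := hy.2 _ _ _ sqW
  obtain ⟨l, hl'⟩ := H8Lim.exists_isImmersion_comp_π hcE t (cE'.π.app top) (fun j => cE'.w _) h'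
  refine ⟨l.left, l.hom, fun k ψ => ?_⟩
  let K : Over o := Over.mk (ψ ≫ l.hom)
  have hK : IsImmersion (h' ≫ cE'.π.app K) := by
    have : IsImmersion ((h' ≫ cE'.π.app K) ≫ E'.map (Over.homMk ψ rfl : K ⟶ l)) := by
      rw [Category.assoc, cE'.w]; exact hl'
    exact IsImmersion.of_comp _ (E'.map (Over.homMk ψ rfl : K ⟶ l))
  have hηe : RepWith @Etale (η K) := RepWith.baseChange (hsq K) hve
  let f : Y ⟶ D.obj k := y ≫ c.π.app k
  let g : W ⟶ E.obj K := h ≫ cE.π.app K
  have sqk : IsPullback (hy.1.fst θ) ((yon S).map g) f (η K) := by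
    have h1 : IsPullback (hy.1.fst θ) ((yon S).map h ≫ (yon S).map (cE.π.app K)) f (η K) :=
      IsPullback.paste_vert sqW (hπ K).flip
    rwa [← Functor.map_comp] at h1
  have hO : IsOpen (Set.range (Points.ofPt (η K))) := by
    rw [← Set.image_univ]
    exact isOpenMap_ofPt (η K) hηe _ isOpen_univ
  let j₀ := openSubspaceι (D.obj k) (Set.range (Points.ofPt (η K)))
  have hj : RepWith @IsOpenImmersion j₀ := repWith_openSubspaceι _ hO
  obtain ⟨η', hη'0⟩ := (exists_lift_openSubspace_iff (Set.range (Points.ofPt (η K))) (η K)).2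
    fun t => ⟨t, rfl⟩
  have hη' : η' ≫ j₀ = η K := hη'0
  have hrange : ∀ p, Points.map f p ∈ Set.range (Points.ofPt (η K)) := fun p => by
    obtain ⟨q, rfl⟩ := hfs p
    obtain ⟨e, rfl⟩ := (Points.schemeEquiv W).surjective q
    refine ⟨g.left e, ?_⟩
    rw [← Points.map_comp, sqk.w, ← ofPt_map]
    rfl
  have hjr : Set.range (Points.map f) ⊆ Set.range (Points.map j₀) := by
    rintro _ ⟨p, rfl⟩
    obtain ⟨e, he⟩ := hrange p
    exact ⟨Points.ofPt η' e, by rw [Points.map_ofPt, hη', he]⟩
  obtain ⟨f', hf'0⟩ := (exists_lift_iff_range_subset hj f).2 hjr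
  have hf' : f' ≫ j₀ = f := hf'0
  have sq' : IsPullback (hy.1.fst θ) ((yon S).map g) f' η' := by
    have hw : hy.1.fst θ ≫ f' = (yon S).map g ≫ η' := by
      rw [← cancel_mono j₀, Category.assoc, Category.assoc, hf', hη', sqk.w]
    have h0 : IsPullback (hy.1.fst θ) ((yon S).map g) (f' ≫ j₀) (η' ≫ j₀) := by
      rw [hf', hη']; exact sqk
    exact ⟨⟨hw⟩, ⟨PullbackCone.IsLimit.mk hw
      (fun s => h0.lift s.fst s.snd (by rw [← Category.assoc, s.condition, Category.assoc]))
      (fun s => h0.lift_fst _ _ _) (fun s => h0.lift_snd _ _ _)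
      (fun s m h1 h2 => h0.hom_ext (by rw [h1, h0.lift_fst]) (by rw [h2, h0.lift_snd]))⟩⟩
  have hη's : RepWith @Surjective η' := by
    refine repWith_surjective_of_surjective_map ?_ fun p => ?_
    · exact representable_of_comp_mono η' j₀ (by rw [hη']; exact hηe.1)
    · obtain ⟨e, he⟩ := (Set.ext_iff.1 (range_openSubspaceι (D.obj k) _) (Points.map j₀ p)).1 ⟨p, rfl⟩
      refine ⟨Points.ofScheme _ e, injective_map_of_mono j₀ ?_⟩
      rw [Points.ofScheme, Points.map_ofPt, Category.id_comp, Points.map_ofPt, hη', he]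
  have hη'e : RepWith @Etale η' := repWith_of_comp_mono η' j₀ (by rw [hη']; exact hηe)
  have hfr : Representable f' := representable_of_comp_mono f' j₀ (by
    rw [hf']
    exact MorphismProperty.comp_mem _ _ _ hy.1
      ((isAffineMor_iff_repWith _).1 (isAffineMor_π D hDa c hc k)).1)
  have := isLocallySurjective_of_etale hη'e hη's
  have := isLocalAtTarget_isImmersion.{u}
  show RepWith @IsImmersion f
  rw [← hf']
  exact RepWith.comp (repWith_of_isLocallySurjective hfr η' sq' @IsImmersion
    ((repWith_yon_map_iff @IsImmersion g).2 hK))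
    (RepWith.mono (fun _ _ m (_ : IsOpenImmersion m) => (inferInstance : IsImmersion m)) hj)

end Groth.Agent.AlgSpLib
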