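import Groth.Agent.AlgSpLib.LimitClosed
import Groth.Agent.AlgSpLib.LimitDiag
import Groth.Agent.AlgSpLib.LocPMore

/-!
# Monomorphisms of finite type into a limit of algebraic spaces
-/

universe u

set_option autoImplicit false
set_option backward.isDefEq.respectTransparency false

open CategoryTheory CategoryTheory.Limits AlgebraicGeometry Opposite AlgSp

namespace Groth.Agent.AlgSpLib

attribute [local simp] pullback.lift_fst pullback.lift_snd pullback.lift_fst_assoc
  pullback.lift_snd_assoc pullback.map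

variable {S : Scheme.{u}} {I : Type u} [SmallCategory I] {D : I ⥤ Sp S} (c : Cone D)
  {Y : Sp S} (y : Y ⟶ c.pt)

/-- The system `Y ×_{X_i} Y`. -/
noncomputable def sqSys : I ⥤ Sp S where
  obj i := pullback (y ≫ c.π.app i) (y ≫ c.π.app i)
  map {i j} φ := pullback.map _ _ _ _ (𝟙 Y) (𝟙 Y) (D.map φ) (by simp) (by simp)
  map_id i := by apply pullback.hom_ext <;> simp
  map_comp φ ψ := by apply pullback.hom_ext <;> simp

/-- The cone with vertex `Y`. -/
noncomputable def sqSysCone : Cone (sqSys c y) where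
  pt := Y
  π :=
  { app i := pullback.diagonal (y ≫ c.π.app i)
    naturality i j φ := by apply pullback.hom_ext <;> simp [sqSys] }

theorem isLimit_sqSysCone [IsCofiltered I] [Mono y] (hc : IsLimit c) :
    Nonempty (IsLimit (sqSysCone c y)) := by
  obtain ⟨i⟩ := IsCofiltered.nonempty (C := I)
  have hfst : ∀ (s : Cone (sqSys c y)) (j : I),
      s.π.app j ≫ pullback.fst _ _ = s.π.app i ≫ pullback.fst _ _ ∧
      s.π.app j ≫ pullback.snd _ _ = s.π.app i ≫ pullback.snd _ _ := fun s j => by
    obtain ⟨l, f, g, -⟩ := IsCofilteredOrEmpty.cone_objs i j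
    refine ⟨?_, ?_⟩ <;> rw [← s.w f, ← s.w g] <;> simp [sqSys]
  have heq : ∀ (s : Cone (sqSys c y)),
      s.π.app i ≫ pullback.fst _ _ = s.π.app i ≫ pullback.snd _ _ := fun s => by
    rw [← cancel_mono y]
    refine hc.hom_ext fun j => ?_
    simp only [Category.assoc]
    rw [← Category.assoc, ← (hfst s j).1, Category.assoc, pullback.condition,
      ← Category.assoc, (hfst s j).2, Category.assoc]
  refine ⟨{ lift := fun s => s.π.app i ≫ pullback.fst _ _, fac := fun s j => ?_,
            uniq := fun s m hm => ?_ }⟩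
  · apply pullback.hom_ext
    · simpa [sqSysCone] using (hfst s j).1.symm
    · simpa [sqSysCone] using (heq s).trans (hfst s j).2.symm
  · rw [← hm i]
    simp [sqSysCone]

theorem closedImmersion_sqSys_map (hD : ∀ i, IsAlgSpace (D.obj i))
    (hDa : ∀ (i j : I) (φ : i ⟶ j), IsAffineMor (D.map φ)) (i j : I) (φ : i ⟶ j) :
    RepWith @IsClosedImmersion ((sqSys c y).map φ) := by
  have haff := (isAffineMor_iff_repWith _).1 (hDa i j φ)
  have hd : RepWith @IsClosedImmersion (pullback.diagonal (D.map φ)) :=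
    (repWith_diagonal_iff haff.1).2 (RepWith.mono (fun _ _ g (hg : IsAffineHom g) => by
      have : IsSeparated g := inferInstance
      exact this.diagonal_isClosedImmersion) haff)
  let e : pullback (y ≫ c.π.app i ≫ D.map φ) (y ≫ c.π.app i ≫ D.map φ) ≅ (sqSys c y).obj j :=
    pullback.congrHom (by rw [c.w]) (by rw [c.w])
  have sq := pullback_map_diagonal_isPullback (y ≫ c.π.app i) (y ≫ c.π.app i) (D.map φ)
  have h1 := RepWith.baseChange sq hd
  have e1 : (sqSys c y).map φ = pullback.map (y ≫ c.π.app i) (y ≫ c.π.app i)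
      ((y ≫ c.π.app i) ≫ D.map φ) ((y ≫ c.π.app i) ≫ D.map φ) (𝟙 _) (𝟙 _) (D.map φ) (by simp)
      (by simp) ≫ (pullback.congrHom (by rw [Category.assoc, c.w]) (by rw [Category.assoc, c.w])).hom := by
    apply pullback.hom_ext <;> simp [sqSys]
  rw [e1]
  exact RepWith.comp h1 (repWith_of_isIso @IsClosedImmersion _)

/-- A monomorphism of finite type into a limit is a monomorphism into the stages. -/
theorem mono_comp_π_eventually [IsCofiltered I] [QuasiSeparatedSpace ↥S] [Mono y]
    (hD : ∀ i, IsAlgSpace (D.obj i)) (hDa : ∀ (i j : I) (φ : i ⟶ j), IsAffineMor (D.map φ))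
    (hc : IsLimit c) (hY : IsAlgSpace Y) (hYqc : IsQuasiCompactSp Y) (o : I)
    (hqs : IsQuasiSeparatedSp (D.obj o)) (hft : LocP @LocallyOfFiniteType (y ≫ c.π.app o)) :
    ∃ (j : I) (_ : j ⟶ o), ∀ k, (k ⟶ j) → Mono (y ≫ c.π.app k) := by
  have hP : ∀ i, IsAlgSpace ((sqSys c y).obj i) := fun i =>
    isAlgSpace_of_isPullback (hD i).diag hY hY (IsPullback.of_hasPullback _ _)
  have hfp : LocP @LocallyOfFinitePresentation ((sqSysCone c y).π.app o) := by
    refine locP_of_comp' (Q := @LocallyOfFiniteType) etLocal_lfp hY (hP o) hY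
      (fun A B C a b hab hb => by
        have : LocallyOfFiniteType b := hb
        have : LocallyOfFinitePresentation (a ≫ b) := hab
        exact EGA43.Limit.locallyOfFinitePresentation_of_comp a b)
      (g := pullback.fst _ _) ?_
      (locP_of_isPullback etLocal_lft hY (hD o) (hP o) (IsPullback.of_hasPullback _ _).flip hft)
    have e : (sqSysCone c y).π.app o ≫ pullback.fst _ _ = 𝟙 Y := pullback.diagonal_fst _
    rw [e]
    exact locP_id etLocal_lfp hY
  have hPqc : IsQuasiCompactSp ((sqSys c y).obj o) := by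
    refine (isQuasiCompactSp_iff_compactSpace (hP o)).2 ?_
    have := (isQuasiCompactSp_iff_compactSpace hY).1 hYqc
    obtain ⟨U, a, hU, hae, has⟩ := exists_affine_chart hY
    let f := y ≫ c.π.app o
    have hr := (hD o).representable_from_yon (a ≫ f)
    have hqc' : RepWith @QuasiCompact (a ≫ f) := repWith_qc_chart (hD o) hqs _
    have : QuasiCompact (hr.snd (a ≫ f)).left := hqc'.2 _ _ _ (hr.isPullback' (a ≫ f))
    have : CompactSpace (hr.pullback (a ≫ f)).left :=
      QuasiCompact.compactSpace_of_compactSpace (hr.snd (a ≫ f)).left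
    have sqW := hr.isPullback' (a ≫ f)
    let w : (yon S).obj (hr.pullback (a ≫ f)) ⟶ pullback f f :=
      pullback.lift ((yon S).map (hr.fst' (a ≫ f)) ≫ a) ((yon S).map (hr.snd (a ≫ f)) ≫ a)
        (by simpa using sqW.w)
    have sq₁ : IsPullback (pullback.fst (a ≫ f) f)
        (pullback.map (a ≫ f) f f f a (𝟙 _) (𝟙 _) (by simp) (by simp)) a (pullback.fst f f) := by
      refine IsPullback.of_bot ?_ (by simp) (IsPullback.of_hasPullback f f).flip.flip |>.flip.flip
      simpa using IsPullback.of_hasPullback (a ≫ f) f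
    let q : (yon S).obj (hr.pullback (a ≫ f)) ⟶ pullback (a ≫ f) f :=
      pullback.lift ((yon S).map (hr.fst' (a ≫ f))) ((yon S).map (hr.snd (a ≫ f)) ≫ a)
        (by simpa using sqW.w)
    have sq₂ : IsPullback ((yon S).map (hr.snd (a ≫ f))) q a (pullback.snd (a ≫ f) f) := by
      refine IsPullback.of_bot ?_ (by simp [q]) (IsPullback.of_hasPullback (a ≫ f) f).flip
      simpa [q] using sqW.flip
    have hw : w = q ≫ pullback.map (a ≫ f) f f f a (𝟙 _) (𝟙 _) (by simp) (by simp) := by
      apply pullback.hom_ext <;> simp [w, q]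
    have hws : RepWith @Surjective w := by
      rw [hw]
      exact RepWith.comp (RepWith.baseChange sq₂ has) (RepWith.baseChange sq₁ has)
    exact (surjective_ofPt w hws).compactSpace (Points.continuous_ofPt w)
  obtain ⟨j, φ, hj⟩ := isIso_π_eventually hP (closedImmersion_sqSys_map c y hD hDa) (sqSysCone c y)
    (isLimit_sqSysCone c y hc).some o hPqc hfp
  refine ⟨j, φ, fun k ψ => ?_⟩
  exact (pullback.isIso_diagonal_iff _).1 (hj k ψ)

end Groth.Agent.AlgSpLib
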