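import Groth.Agent.AlgSpLib.LimitSystem
import Groth.Agent.AlgSpLib.ValuativeExistence
import Groth.Agent.AlgSpLib.DecentMore
import Groth.Agent.H8Lim.Topology

/-!
Points of a limit of algebraic spaces with affine transition maps.
-/

universe u

set_option autoImplicit false
set_option backward.isDefEq.respectTransparency.types false

open CategoryTheory CategoryTheory.Limits AlgebraicGeometry Opposite AlgSp

noncomputable section

namespace Groth.Agent.AlgSpLib.LimitPoints

variable {S : Scheme.{u}} {I : Type u} [SmallCategory I] [IsCofiltered I] {D : I ⥤ Sp S}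

/-- a point above two points agreeing downstairs, in a square of schemes -/
theorem exists_lift {W U : Over S} {F G : Sp S} {a : W ⟶ U} {θ : (yon S).obj W ⟶ F} {η : (yon S).obj U ⟶ G}
    {π : F ⟶ G} (sq : IsPullback ((yon S).map a) θ η π) (e : U.left) (x : Points F)
    (h : Points.ofPt η e = Points.map π x) : ∃ w : W.left, a.left w = e ∧ Points.ofPt θ w = x := by
  rw [Points.ofPt_eq_map_ofScheme] at h
  obtain ⟨p, hp1, hp2⟩ := exists_point_of_isPullback sq h
  obtain ⟨w, rfl⟩ := (Points.schemeEquiv W).surjective p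
  exact ⟨w, (Points.schemeEquiv U).injective ((map_yon_map_ofScheme a w).symm.trans hp1),
    (Points.ofPt_eq_map_ofScheme θ w).trans hp2⟩

/-- charts of the system through a given point -/
theorem exists_system_at (hD : ∀ i, IsAlgSpace (D.obj i))
    (hDa : ∀ (i j : I) (φ : i ⟶ j), IsAffineMor (D.map φ)) (c : Cone D) (hc : IsLimit c) (o : I)
    (y : Points (D.obj o)) :
    ∃ (E : Over o ⥤ Over S) (η : ∀ j, (yon S).obj (E.obj j) ⟶ D.obj j.left) (cE : Cone E)
      (_ : IsLimit ((Over.forget S).mapCone cE)) (θ : (yon S).obj cE.pt ⟶ c.pt)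
      (e : (E.obj (Over.mk (𝟙 o))).left),
      Points.ofPt (η (Over.mk (𝟙 o))) e = y ∧ (∀ j, IsAffine (E.obj j).left) ∧
      (∀ {j k : Over o} (φ : j ⟶ k), IsAffineHom (E.map φ).left) ∧
      (∀ {j k : Over o} (φ : j ⟶ k), IsPullback ((yon S).map (E.map φ)) (η j) (η k) (D.map φ.left)) ∧
      (∀ j, RepWith @Etale (η j)) ∧
      (∀ j, IsPullback ((yon S).map (cE.π.app j)) θ (η j) (c.π.app j.left)) := by
  obtain ⟨U, a, hae, has⟩ := (hD o).atlas
  obtain ⟨u, rfl⟩ := surjective_ofPt a has y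
  obtain ⟨_, ⟨O₀, hO, rfl⟩, huO, -⟩ :=
    U.left.isBasis_affineOpens.exists_subset_of_mem_open (Set.mem_univ u) isOpen_univ
  let O : U.left.Opens := O₀
  let V : Over S := Over.mk (O.ι ≫ U.hom)
  let ι : V ⟶ U := Over.homMk O.ι
  let v : (yon S).obj V ⟶ D.obj o := (yon S).map ι ≫ a
  have hve : RepWith @Etale v :=
    RepWith.comp ((repWith_yon_map_iff _ _).2 (inferInstanceAs (Etale O.ι))) hae
  obtain ⟨E, η, pr, cE, hcE, θ, haff, hnat, hsq, hpr, -, hπ⟩ := exists_stage_system D hDa c hc v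
  haveI : IsAffine V.left := hO
  have htop : IsPullback ((yon S).map (pr (Over.mk (𝟙 o)))) (η (Over.mk (𝟙 o))) v (D.map (𝟙 o)) := hsq _
  obtain ⟨e, he1, he2⟩ := exists_lift htop ⟨u, huO⟩ (Points.ofPt a u) (by
    refine (ofPt_map ι a ⟨u, huO⟩).trans ?_
    exact ((congrArg (fun m => Points.map m (Points.ofPt a u)) (D.map_id o)).trans (Points.map_id _)).symm)
  refine ⟨E, η, cE, hcE, θ, e, he2, fun j => ?_, haff, hnat,
    fun j => RepWith.baseChange (hsq j) hve, hπ⟩
  haveI := hpr j
  exact isAffine_of_isAffineHom (pr j).left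

/-- a compatible family of points is the family of images of a point -/
theorem exists_point (hD : ∀ i, IsAlgSpace (D.obj i)) (hDa : ∀ (i j : I) (φ : i ⟶ j), IsAffineMor (D.map φ))
    (c : Cone D) (hc : IsLimit c) (hdec : ∀ i, IsDecent (D.obj i)) (s : ∀ i, Points (D.obj i))
    (hs : ∀ (i j : I) (φ : i ⟶ j), Points.map (D.map φ) (s i) = s j) :
    ∃ x : Points c.pt, ∀ i, Points.map (c.π.app i) x = s i := by
  obtain ⟨o⟩ := IsCofiltered.nonempty (C := I)
  obtain ⟨E, η, cE, hcE, θ, e, he, haffo, haff, hnat, hη, hπ⟩ := exists_system_at hD hDa c hc o (s o)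
  haveI : ∀ {a b} (φ : a ⟶ b), IsAffineHom ((E ⋙ Over.forget S).map φ) := fun φ => haff φ
  have hηn : ∀ {j k : Over o} (φ : j ⟶ k) (w : (E.obj j).left),
      Points.ofPt (η k) ((E.map φ).left w) = Points.map (D.map φ.left) (Points.ofPt (η j) w) := fun {j k} φ w => by
    rw [← ofPt_map, (hnat φ).w, Points.map_ofPt]
  let top : Over o := Over.mk (𝟙 o)
  let F : Over o ⥤ Type u :=
    { obj := fun j => {w : (E.obj j).left // Points.ofPt (η j) w = s j.left}
      map := fun {j k} φ => ↾fun w => ⟨(E.map φ).left w.1, by rw [hηn, w.2]; exact hs _ _ φ.left⟩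
      map_id := fun j => by
        ext w
        refine (show (E.map (𝟙 j)).left w.1 = w.1 from ?_)
        rw [E.map_id]; rfl
      map_comp := fun φ ψ => by
        ext w
        refine (show (E.map (φ ≫ ψ)).left w.1 = (E.map ψ).left ((E.map φ).left w.1) from ?_)
        rw [E.map_comp]; rfl }
  haveI : ∀ j, Finite (F.obj j) := fun j => by
    haveI := haffo j
    exact (finite_preimage_ofPt (hasQcPoint_of_isDecent (hdec j.left) (s j.left)) (η j) (hη j)).to_subtype
  haveI : ∀ j, Nonempty (F.obj j) := fun j => by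
    let u : j ⟶ top := Over.homMk j.hom (Category.comp_id _)
    obtain ⟨w, -, hw⟩ := exists_lift (hnat u) e (s j.left) (he.trans (hs _ _ u.left).symm)
    exact ⟨⟨w, hw⟩⟩
  obtain ⟨σ, hσ⟩ := nonempty_sections_of_finite_cofiltered_system F
  obtain ⟨z, hz⟩ := H8Lim.exists_of_compatible hcE (fun j => (σ j).1) fun {a b} φ => congrArg Subtype.val (hσ φ)
  refine ⟨Points.ofPt θ z, fun i => ?_⟩
  obtain ⟨k, a, b, -⟩ := IsCofilteredOrEmpty.cone_objs i o
  let K : Over o := Over.mk b
  let z' : cE.pt.left := z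
  have e1 : Points.map (c.π.app K.left) (Points.ofPt θ z') = s K.left := by
    rw [Points.map_ofPt, ← (hπ K).w, ofPt_map, show (cE.π.app K).left z' = (σ K).1 from hz K]
    exact (σ K).2
  rw [← c.w a, Points.map_comp, show Points.map (c.π.app k) (Points.ofPt θ z) = s k from e1]
  exact hs _ _ a

/-- points with the same images are equal -/
theorem ext_point (hD : ∀ i, IsAlgSpace (D.obj i)) (hDa : ∀ (i j : I) (φ : i ⟶ j), IsAffineMor (D.map φ))
    (c : Cone D) (hc : IsLimit c) (hdec : ∀ i, IsDecent (D.obj i)) (x x' : Points c.pt)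
    (h : ∀ i, Points.map (c.π.app i) x = Points.map (c.π.app i) x') : x = x' := by
  classical
  obtain ⟨o⟩ := IsCofiltered.nonempty (C := I)
  obtain ⟨E, η, cE, hcE, θ, e, he, haffo, haff, hnat, hη, hπ⟩ :=
    exists_system_at hD hDa c hc o (Points.map (c.π.app o) x)
  haveI : ∀ {a b} (φ : a ⟶ b), IsAffineHom ((E ⋙ Over.forget S).map φ) := fun φ => haff φ
  let top : Over o := Over.mk (𝟙 o)
  obtain ⟨z, hz0, rfl⟩ := exists_lift (hπ top) e x he
  -- the fibre over `x'` is finite
  obtain ⟨p, hp, hpm, hpq⟩ := hdec o (Points.map (c.π.app o) x')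
  obtain ⟨K, _, sK, k, rfl⟩ := exists_ptOfHom x'
  haveI := hpm
  have hq : RepWith @QuasiCompact (k ≫ c.π.app o) :=
    repWith_qc_of_mono_point p.toHom hpq _ (by rw [← map_ptOfHom, ptOfHom_toHom, hp])
  have hA : (Points.ofPt θ ⁻¹' {ptOfHom k}).Finite := by
    have sqA := hq.1.isPullback (η top)
    let W := hq.1.pullback (η top)
    let a := hq.1.snd (η top)
    let l := (hπ top).lift ((yon S).map a) (hq.1.fst (η top) ≫ k) (by rw [Category.assoc]; exact sqA.w.symm)
    obtain ⟨l', hl'⟩ := (yon S).map_surjective l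
    obtain ⟨f, hf⟩ := (yon S).map_surjective (hq.1.fst (η top))
    have sqW : IsPullback ((yon S).map l') ((yon S).map f) θ k := by
      rw [hl', hf]
      have h1 : IsPullback (hq.1.fst (η top)) l k θ := by
        refine IsPullback.of_bot ?_ ((hπ top).lift_snd _ _ _).symm (hπ top).flip
        rw [(hπ top).lift_fst]
        exact sqA
      exact h1.flip
    haveI : QuasiSeparatedSpace ↥(Over.mk sK).left := inferInstanceAs (QuasiSeparatedSpace ↥(Spec (CommRingCat.of K)))
    haveI : CompactSpace ↥(Over.mk sK).left := inferInstanceAs (CompactSpace ↥(Spec (CommRingCat.of K)))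
    haveI := haffo top
    haveI : QuasiCompact a.left := hq.2 _ _ _ sqA
    haveI : CompactSpace W.left := QuasiCompact.compactSpace_of_compactSpace a.left
    haveI : Etale f.left := (repWith_yon_map_iff @Etale f).1 (by rw [hf]; exact RepWith.baseChange sqA.flip (hη top))
    have := locallyQuasiFinite_of_etale f.left
    haveI : QuasiCompact f.left := (quasiCompact_iff_compactSpace (f := f.left)).2 inferInstance
    refine ((f.left.finite_preimage_singleton (IsLocalRing.closedPoint K)).image l'.left).subset fun w hw => ?_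
    obtain ⟨r, hr1, hr2⟩ := (ofPt_eq_ofPt_iff sqW w (IsLocalRing.closedPoint K)).1
      ((show Points.ofPt θ w = ptOfHom k from hw).trans (ofPt_eq_ptOfHom_of_field k _).symm)
    exact ⟨r, hr2, hr1⟩
  -- the points over `x'` with the same image as `z` in a given stage
  have hex : ∀ j : Over o, ∃ w, Points.ofPt θ w = ptOfHom k ∧ (cE.π.app j).left w = (cE.π.app j).left z := by
    intro j
    obtain ⟨w, hw1, hw2⟩ := exists_lift (hπ j) ((cE.π.app j).left z) (ptOfHom k) (by
      rw [← ofPt_map, (hπ j).w, ← Points.map_ofPt, h])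
    exact ⟨w, hw2, hw1⟩
  by_contra hne
  have hsep : ∀ w ∈ hA.toFinset, ∃ j : Over o, (cE.π.app j).left w ≠ (cE.π.app j).left z := by
    intro w hw
    by_contra hcon
    push Not at hcon
    refine hne ?_
    have e := H8Lim.ext_of_forall_π hcE (p := z) (q := w) fun j => (hcon j).symm
    rw [e]
    exact hA.mem_toFinset.1 hw
  choose jw hjw using hsep
  obtain ⟨j, hj⟩ := IsCofiltered.inf_objs_exists (hA.toFinset.attach.image (β := Over o) fun w : {x // x ∈ hA.toFinset} => jw w.1 w.2)
  obtain ⟨w, hw, hwz⟩ := hex j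
  have hmem : w ∈ hA.toFinset := hA.mem_toFinset.2 hw
  obtain ⟨φ⟩ := hj (Finset.mem_image.2 ⟨⟨w, hmem⟩, Finset.mem_attach _ _, rfl⟩)
  refine hjw w hmem ?_
  rw [← cE.w φ, Over.comp_left, Scheme.Hom.comp_apply, Scheme.Hom.comp_apply, hwz]

/-- opens coming from the stages form a basis -/
theorem exists_nbhd (hD : ∀ i, IsAlgSpace (D.obj i)) (hDa : ∀ (i j : I) (φ : i ⟶ j), IsAffineMor (D.map φ))
    (c : Cone D) (hc : IsLimit c) {W : Set (Points c.pt)} (hW : IsOpen W) {x : Points c.pt} (hx : x ∈ W) :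
    ∃ (i : I) (O : Set (Points (D.obj i))), IsOpen O ∧ Points.map (c.π.app i) x ∈ O ∧
      Points.map (c.π.app i) ⁻¹' O ⊆ W := by
  obtain ⟨o⟩ := IsCofiltered.nonempty (C := I)
  obtain ⟨E, η, cE, hcE, θ, e, he, haffo, haff, hnat, hη, hπ⟩ :=
    exists_system_at hD hDa c hc o (Points.map (c.π.app o) x)
  haveI : ∀ {a b} (φ : a ⟶ b), IsAffineHom ((E ⋙ Over.forget S).map φ) := fun φ => haff φ
  obtain ⟨z, -, rfl⟩ := exists_lift (hπ (Over.mk (𝟙 o))) e x he
  obtain ⟨j, V₀, -, hzV, hV⟩ := H8Lim.exists_mem_preimage_subset hcE (hW.preimage (Points.continuous_ofPt θ))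
    (show z ∈ Points.ofPt θ ⁻¹' W from hx)
  let V : (E.obj j).left.Opens := V₀
  have hVo : IsOpen (Points.ofPt (η j) '' (V : Set (E.obj j).left)) := isOpenMap_ofPt (η j) (hη j) _ V.2
  refine ⟨j.left, Points.ofPt (η j) '' (V : Set (E.obj j).left), hVo, ?_, fun y hy => ?_⟩
  rotate_left
  · obtain ⟨v, hv, hvy⟩ := hy
    obtain ⟨w, hw1, rfl⟩ := exists_lift (hπ j) v y hvy
    exact hV (show (cE.π.app j).left w ∈ V by rw [hw1]; exact hv)
  · refine ⟨(cE.π.app j).left z, hzV, ?_⟩
    rw [← ofPt_map, (hπ j).w, Points.map_ofPt]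

/-- the topology of the limit -/
theorem topology_eq (hD : ∀ i, IsAlgSpace (D.obj i)) (hDa : ∀ (i j : I) (φ : i ⟶ j), IsAffineMor (D.map φ))
    (c : Cone D) (hc : IsLimit c) :
    Points.topologicalSpace c.pt =
      ⨅ i, TopologicalSpace.induced (Points.map (c.π.app i)) (Points.topologicalSpace (D.obj i)) := by
  refine le_antisymm (le_iInf fun i => continuous_iff_le_induced.1 (Points.continuous_map _)) fun W hW => ?_
  refine (@isOpen_iff_forall_mem_open _ (_) _).mpr fun x hx => ?_
  obtain ⟨i, O, hO, hxO, hOW⟩ := exists_nbhd hD hDa c hc hW hx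
  exact ⟨_, hOW, (isOpen_induced (f := Points.map (c.π.app i)) hO).mono (iInf_le _ i), hxO⟩

end Groth.Agent.AlgSpLib.LimitPoints
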