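import Groth.Agent.AlgSpLib.LimitSystem

/-!
# The system of charts over a limit of algebraic spaces
-/

universe u

set_option autoImplicit false
set_option backward.isDefEq.respectTransparency false

open CategoryTheory CategoryTheory.Limits AlgebraicGeometry Opposite AlgSp

namespace Groth.Agent.AlgSpLib

variable {S : Scheme.{u}} {I : Type u} [SmallCategory I] [IsCofiltered I] (D : I ⥤ Sp S) {i₀ : I}

attribute [local instance] CategoryTheory.isConnected_of_hasTerminal

set_option maxHeartbeats 800000 in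
theorem exists_stage_system_coh (hDa : ∀ (i j : I) (φ : i ⟶ j), IsAffineMor (D.map φ)) (c : Cone D)
    (hc : IsLimit c) {V : Over S} (v : (yon S).obj V ⟶ D.obj i₀) :
    ∃ (E : Over i₀ ⥤ Over S) (η : ∀ j, (yon S).obj (E.obj j) ⟶ D.obj j.left)
      (pr : ∀ j, E.obj j ⟶ V) (cE : Cone E) (_ : IsLimit ((Over.forget S).mapCone cE))
      (θ : (yon S).obj cE.pt ⟶ c.pt),
      (∀ {j k : Over i₀} (φ : j ⟶ k), IsAffineHom (E.map φ).left) ∧
      (∀ {j k : Over i₀} (φ : j ⟶ k),
        IsPullback ((yon S).map (E.map φ)) (η j) (η k) (D.map φ.left)) ∧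
      (∀ j, IsPullback ((yon S).map (pr j)) (η j) v (D.map j.hom)) ∧
      (∀ j, IsAffineHom (pr j).left) ∧
      (∃ f₀ : (yon S).obj cE.pt ⟶ (yon S).obj V, IsPullback f₀ θ v (c.π.app i₀) ∧
        ∀ j, (yon S).map (cE.π.app j ≫ pr j) = f₀) ∧
      (∀ j, IsPullback ((yon S).map (cE.π.app j)) θ (η j) (c.π.app j.left)) := by
  obtain ⟨E, e, haff⟩ := exists_scheme_system D hDa v
  let E' : Over i₀ ⥤ Scheme.{u} := E ⋙ Over.forget S
  have haff' : ∀ {j k : Over i₀} (f : j ⟶ k), IsAffineHom (E'.map f) := fun f => haff f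
  have : HasLimit E' := H8Lim.hasLimit_of_affine_transition E'
  have : HasLimit E := hasLimit_of_created E (Over.forget S)
  let cE : Cone E := limit.cone E
  let η : ∀ j, (yon S).obj (E.obj j) ⟶ D.obj j.left := fun j =>
    e.hom.app j ≫ pullback.snd v (D.map j.hom)
  choose pr hpr using fun j => (yon S).map_surjective (e.hom.app j ≫ pullback.fst v (D.map j.hom))
  have hsq : ∀ j, IsPullback ((yon S).map (pr j)) (η j) v (D.map j.hom) := fun j => by
    rw [hpr]
    exact (IsPullback.of_hasPullback v (D.map j.hom)).of_iso (e.app j).symm (Iso.refl _) (Iso.refl _)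
      (Iso.refl _) (by simp) (by simp [η]) (by simp) (by simp)
  have hlimV : IsLimit ((Cone.postcompose e.hom).obj ((yon S).mapCone cE)) :=
    (IsLimit.postcomposeHomEquiv e _).symm (isLimitOfPreserves (yon S) (limit.isLimit E))
  let ρ := hlimV.conePointUniqueUpToIso (isLimit_spStageCone D v c hc).some
  have hρ : ∀ j, ρ.hom ≫ (spStageCone D v c).π.app j = (yon S).map (cE.π.app j) ≫ e.hom.app j :=
    fun j => IsLimit.conePointUniqueUpToIso_hom_comp _ _ j
  let θ : (yon S).obj cE.pt ⟶ c.pt := ρ.hom ≫ pullback.snd v (c.π.app i₀)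
  have sqθ : IsPullback (ρ.hom ≫ pullback.fst v (c.π.app i₀)) θ v (c.π.app i₀) :=
    (IsPullback.of_hasPullback v (c.π.app i₀)).of_iso ρ.symm (Iso.refl _) (Iso.refl _)
      (Iso.refl _) (by simp [spStageCone]) (by simp [θ, spStageCone]) (by simp) (by simp)
  refine ⟨E, η, pr, cE, isLimitOfPreserves (Over.forget S) (limit.isLimit E), θ, haff, fun {j k} φ => ?_,
    hsq, fun j => (repWith_yon_map_iff @IsAffineHom _).1
      (RepWith.baseChange (hsq j).flip ((isAffineMor_iff_repWith _).1 (hDa _ _ j.hom))),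
    ⟨_, sqθ, fun j => by rw [Functor.map_comp, hpr, ← Category.assoc, ← hρ j]; simp [spStageCone]⟩,
    fun j => ?_⟩
  · refine IsPullback.of_right ?_ ?_ (hsq k)
    · have e1 : (yon S).map (E.map φ) ≫ (yon S).map (pr k) = (yon S).map (pr j) := by
        rw [hpr, hpr]
        have := e.hom.naturality φ
        dsimp at this
        rw [← Category.assoc, this]
        simp [spStage]
      rw [e1, ← D.map_comp, Over.w φ]
      exact hsq j
    · have := e.hom.naturality φ
      dsimp at this
      simp only [η, ← Category.assoc, this]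
      simp [spStage]
  · refine IsPullback.of_right ?_ ?_ (hsq j)
    · rw [c.w, ← Functor.map_comp]
      have e1 : (yon S).map (cE.π.app j ≫ pr j) = ρ.hom ≫ pullback.fst v (c.π.app i₀) := by
        rw [Functor.map_comp, hpr, ← Category.assoc, ← hρ j]
        simp [spStageCone]
      rw [e1]
      exact sqθ
    · show (yon S).map (cE.π.app j) ≫ e.hom.app j ≫ pullback.snd v (D.map j.hom) = θ ≫ c.π.app j.left
      rw [← Category.assoc, ← hρ j]
      simp [θ, spStageCone]

end Groth.Agent.AlgSpLib
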