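import Groth.Agent.AlgSpLib.DecentMore
import Groth.Agent.AlgSpLib.AffineEtaleQuot
import Groth.Agent.AlgSpLib.Diag
import Groth.Agent.PnEmb.Segre
import Groth.Agent.FlatMorWeight.GeomPoints
import Mathlib.AlgebraicGeometry.Morphisms.FlatMono

/-!
Locally separated spaces are decent.
-/

universe u

open CategoryTheory CategoryTheory.Limits AlgebraicGeometry Opposite
open AlgSp

noncomputable section

namespace Groth.Agent.AlgSpLib

set_option backward.isDefEq.respectTransparency.types false

/-- the value of a global function at a field-valued point -/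
def evalPt {Ω : Type u} [Field Ω] {X : Scheme.{u}} (z : Spec (CommRingCat.of Ω) ⟶ X) : Γ(X, ⊤) →+* Ω :=
  (z.appTop ≫ (Scheme.ΓSpecIso (CommRingCat.of Ω)).hom).hom

theorem evalPt_comp {Ω : Type u} [Field Ω] {X Y : Scheme.{u}} (z : Spec (CommRingCat.of Ω) ⟶ X)
    (f : X ⟶ Y) (r : Γ(Y, ⊤)) : evalPt (z ≫ f) r = evalPt z (f.appTop r) := by
  simp [evalPt]

theorem mem_basicOpen_iff_evalPt {Ω : Type u} [Field Ω] {X : Scheme.{u}}
    (z : Spec (CommRingCat.of Ω) ⟶ X) (h : Γ(X, ⊤)) :
    FlatMorWeight.pt z ∈ X.basicOpen h ↔ evalPt z h ≠ 0 := by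
  show IsLocalRing.closedPoint Ω ∈ z ⁻¹ᵁ X.basicOpen h ↔ _
  rw [Scheme.preimage_basicOpen_top, basicOpen_eq_of_affine']
  show ¬ evalPt z h ∈ (IsLocalRing.maximalIdeal Ω) ↔ _
  rw [IsLocalRing.maximalIdeal_eq_bot, Ideal.mem_bot]

/-- points pairwise in general position for an open around the diagonal are finite in number -/
theorem finite_of_diag_open {S U : Scheme.{u}} [CompactSpace ↥U] (hU : U ⟶ S)
    (W : Set ↥(pullback hU hU)) (hWo : IsOpen W) (hW : ∀ u : ↥U, pullback.diagonal hU u ∈ W)
    {Ω : Type u} [Field Ω] {ι : Type u} (a : ι → (Spec (CommRingCat.of Ω) ⟶ U))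
    (ha : ∀ i j, a i ≫ hU = a j ≫ hU)
    (hoff : ∀ i j, i ≠ j → FlatMorWeight.pt (pullback.lift (a i) (a j) (ha i j)) ∉ W) : Finite ι := by
  classical
  suffices key : ∀ u : ↥U, ∃ O : U.Opens, u ∈ O ∧ {i | FlatMorWeight.pt (a i) ∈ O}.Finite by
    choose O huO hO using key
    obtain ⟨σ, hσ⟩ := isCompact_univ.elim_finite_subcover (fun u => (O u : Set ↥U)) (fun u => (O u).2)
      fun u _ => Set.mem_iUnion.2 ⟨u, huO u⟩
    refine Set.finite_univ_iff.1 ((σ.finite_toSet.biUnion fun u _ => hO u).subset fun i _ => ?_)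
    obtain ⟨u, hu⟩ := Set.mem_iUnion.1 (hσ (Set.mem_univ (FlatMorWeight.pt (a i))))
    obtain ⟨hu, hi⟩ := Set.mem_iUnion.1 hu
    exact Set.mem_biUnion hu hi
  intro u
  obtain ⟨Z, hZ, huZ, -⟩ := exists_isAffineOpen_mem_and_subset (x := hU u) (U := ⊤) trivial
  obtain ⟨O, hO, huO, hOZ⟩ := exists_isAffineOpen_mem_and_subset (x := u) (U := hU ⁻¹ᵁ Z) huZ
  have : IsAffine Z.toScheme := hZ
  have : IsAffine O.toScheme := hO
  have hr : Set.range (O.ι ≫ hU) ⊆ Set.range Z.ι := by
    rw [Scheme.Opens.range_ι]; rintro _ ⟨w, rfl⟩; exact hOZ w.2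
  let f : O.toScheme ⟶ Z.toScheme := IsOpenImmersion.lift Z.ι (O.ι ≫ hU) hr
  have hf : f ≫ Z.ι = O.ι ≫ hU := IsOpenImmersion.lift_fac _ _ _
  let P := pullback f f
  have : IsAffine P := inferInstanceAs (IsAffine (pullback f f))
  let φ : P ⟶ pullback hU hU := pullback.lift (pullback.fst f f ≫ O.ι) (pullback.snd f f ≫ O.ι)
    (by rw [Category.assoc, Category.assoc, ← hf, pullback.condition_assoc])
  let δ : O.toScheme ⟶ P := pullback.diagonal f
  have hδ : δ ≫ φ = O.ι ≫ pullback.diagonal hU := by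
    apply pullback.hom_ext <;>
      simp [δ, φ, pullback.lift_fst, pullback.lift_snd, pullback.diagonal_fst, pullback.diagonal_snd,
        pullback.diagonal_fst_assoc, pullback.diagonal_snd_assoc]
  let W' : P.Opens := ⟨φ ⁻¹' W, hWo.preimage φ.continuous⟩
  have huW : δ ⟨u, huO⟩ ∈ W' := by
    show φ (δ ⟨u, huO⟩) ∈ W
    rw [← Scheme.Hom.comp_apply, hδ]
    exact hW u
  obtain ⟨h, hh, hδh⟩ := (isAffineOpen_top P).exists_basicOpen_le (V := W') ⟨δ ⟨u, huO⟩, huW⟩ trivial
  obtain ⟨m, x, y, hxy⟩ := exists_sum_of_mem_closure (pullback.fst f f).appTop.hom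
    (pullback.snd f f).appTop.hom (z := h) (by
      rw [PnEmb.closure_range_union_eq_top
        (isPushout_appTop_of_isPullback (IsPullback.of_hasPullback f f))]
      trivial)
  let O' : U.Opens := O.ι ''ᵁ (δ ⁻¹ᵁ P.basicOpen h)
  have hO' : O' ≤ O := fun w ⟨z, _, hz⟩ => hz ▸ z.2
  refine ⟨O', ⟨⟨u, huO⟩, hδh, rfl⟩, ?_⟩
  let A := {i | FlatMorWeight.pt (a i) ∈ O'}
  have hlift : ∀ i : A, Set.range (a i.1) ⊆ Set.range O.ι := fun i => by
    rw [Scheme.Opens.range_ι]; rintro _ ⟨z, rfl⟩
    rw [FlatMorWeight.eq_pt]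
    exact hO' i.2
  let b : A → (Spec (CommRingCat.of Ω) ⟶ O.toScheme) := fun i => IsOpenImmersion.lift O.ι (a i.1) (hlift i)
  have hb : ∀ i, b i ≫ O.ι = a i.1 := fun i => IsOpenImmersion.lift_fac _ _ _
  have hbf : ∀ i j, b i ≫ f = b j ≫ f := fun i j => (cancel_mono Z.ι).1 (by
    rw [Category.assoc, Category.assoc, hf, reassoc_of% hb i, reassoc_of% hb j, ha])
  let p : A → A → (Spec (CommRingCat.of Ω) ⟶ P) := fun i j => pullback.lift (b i) (b j) (hbf i j)
  have hp : ∀ i j, p i j ≫ φ = pullback.lift (a i.1) (a j.1) (ha i.1 j.1) := fun i j => by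
    apply pullback.hom_ext <;> simp [p, φ, pullback.lift_fst, pullback.lift_snd,
      pullback.lift_fst_assoc, pullback.lift_snd_assoc, hb]
  -- the values of `h` form a diagonal matrix with nonzero diagonal
  let X : A → Fin m → Ω := fun i k => evalPt (b i) (x k)
  have hM : ∀ i j, evalPt (p i j) h = ∑ k, X i k * evalPt (b j) (y k) := fun i j => by
    rw [hxy, map_sum]
    refine Finset.sum_congr rfl fun k _ => ?_
    rw [map_mul, ← evalPt_comp, ← evalPt_comp]
    simp only [X, p, pullback.lift_fst, pullback.lift_snd]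
  have hdiag : ∀ i, evalPt (p i i) h ≠ 0 := fun i => by
    rw [← mem_basicOpen_iff_evalPt]
    obtain ⟨z, hz, hzi⟩ := i.2
    have e : p i i = b i ≫ δ := by
      apply pullback.hom_ext <;> simp [p, δ, pullback.lift_fst, pullback.lift_snd, pullback.diagonal_fst,
        pullback.diagonal_snd]
    rw [e, FlatMorWeight.pt_comp]
    have : FlatMorWeight.pt (b i) = z := O.ι.injective (by
      rw [← FlatMorWeight.pt_comp, hb]; exact hzi.symm)
    rw [this]; exact hz
  have hoff' : ∀ i j, i ≠ j → evalPt (p i j) h = 0 := fun i j hij => by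
    by_contra hne
    rw [← ne_eq, ← mem_basicOpen_iff_evalPt] at hne
    refine hoff i.1 j.1 (fun e => hij (Subtype.ext e)) ?_
    rw [← hp, FlatMorWeight.pt_comp]
    exact hh hne
  have hli : LinearIndependent Ω X := by
    refine linearIndependent_iff'.2 fun σ g hg j hj => ?_
    have h1 : ∑ i ∈ σ, g i * evalPt (p i j) h = 0 := by
      simp only [hM, Finset.mul_sum]
      rw [Finset.sum_comm]
      refine Finset.sum_eq_zero fun k _ => ?_
      have h2 := congrFun hg k
      rw [Finset.sum_apply] at h2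
      simp only [Pi.smul_apply, smul_eq_mul, Pi.zero_apply] at h2
      rw [← zero_mul (evalPt (b j) (y k)), ← h2, Finset.sum_mul]
      exact Finset.sum_congr rfl fun i _ => (mul_assoc _ _ _).symm
    rw [Finset.sum_eq_single_of_mem j hj fun i _ hi => by rw [hoff' i j hi, mul_zero]] at h1
    exact (mul_eq_zero.1 h1).resolve_right (hdiag j)
  exact Set.finite_coe_iff.1 (show Finite A from hli.finite)

variable {S : Scheme.{u}} {X : Sp S}

/-- spaces whose field points have finite pullbacks to affine etale charts are decent -/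
theorem isDecent_of_finite_pullbacks (hX : IsAlgSpace X)
    (h : ∀ (q : FieldPt X) (U : Over S) (φ : (yon S).obj U ⟶ X), IsAffine U.left → RepWith @Etale φ →
      ∀ (T : Over S) (c : T ⟶ q.pt) (m : T ⟶ U),
        IsPullback ((yon S).map c) ((yon S).map m) q.toHom φ → Finite ↥T.left) : IsDecent X := by
  intro x
  obtain ⟨q, rfl⟩ := Points.mk_surjective x
  have hr := representable_diag_iff.1 hX.diag q.toHom
  have hT : ∀ (U : Over S) (φ : (yon S).obj U ⟶ X), IsAffine U.left → RepWith @Etale φ →
      Finite ↥(hr.pullback φ).left := fun U φ hU hφ => by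
    obtain ⟨c, hc⟩ := (yon S).map_surjective (hr.fst φ)
    exact h q U φ hU hφ _ c (hr.snd φ) (hc ▸ hr.isPullback φ)
  refine exists_qc_mono_point hX _ (fun U φ hU hφ => ?_) fun U R a s t hU ha sqR => ?_
  · obtain ⟨c, hc⟩ := (yon S).map_surjective (hr.fst φ)
    have sq : IsPullback ((yon S).map c) ((yon S).map (hr.snd φ)) q.toHom φ := hc ▸ hr.isPullback φ
    have := hT U φ hU hφ
    refine (Set.finite_range (hr.snd φ).left).subset fun v hv => ?_
    obtain ⟨z, -, hz⟩ := exists_point_of_isPullback sq (x := ptOfHom (𝟙 _)) (y := Points.ofScheme U v)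
      (by rw [map_eq_ptOfHom, ptOfHom_toHom, ← Points.ofPt_eq_map_ofScheme]; exact hv.symm)
    obtain ⟨w, rfl⟩ := (Points.schemeEquiv _).surjective z
    exact ⟨w, (Points.schemeEquiv U).injective ((map_yon_map_ofScheme (hr.snd φ) w).symm.trans hz)⟩
  · have := hT U a hU ha
    have : CompactSpace ↥(hr.pullback a).left := inferInstance
    rw [← ptOfHom_toHom q]
    exact finite_arrows_of_compact q.toHom hr a ha sqR

/-- locally separated spaces are decent -/
theorem isDecent_of_isLocallySeparated (hX : IsAlgSpace X) (hls : IsLocallySeparatedSp X) : IsDecent X := by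
  refine isDecent_of_finite_pullbacks hX fun q U φ hU hφ T c m sq => ?_
  obtain ⟨t, ht⟩ := (yon S).map_surjective (hφ.1.fst φ)
  let s : hφ.1.pullback φ ⟶ U := hφ.1.snd φ
  have sqR : IsPullback ((yon S).map t) ((yon S).map s) φ φ := ht ▸ hφ.1.isPullback φ
  obtain ⟨e, he⟩ := (yon S).map_surjective (sqR.lift (𝟙 _) (𝟙 _) rfl)
  have het : e ≫ t = 𝟙 U := (yon S).map_injective (by
    rw [Functor.map_comp, he, sqR.lift_fst, CategoryTheory.Functor.map_id])
  have hes : e ≫ s = 𝟙 U := (yon S).map_injective (by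
    rw [Functor.map_comp, he, sqR.lift_snd, CategoryTheory.Functor.map_id])
  have : Etale s.left := hφ.property _ _ _ sqR
  have hes' : e.left ≫ s.left = 𝟙 _ := congrArg (fun k => k.left) hes
  have : Etale (e.left ≫ s.left) := by rw [hes']; infer_instance
  have : Etale e.left := Etale.of_comp e.left s.left
  have : IsSplitMono e.left := IsSplitMono.mk' ⟨s.left, hes'⟩
  have : IsOpenImmersion e.left := IsOpenImmersion.of_flat_of_mono e.left
  let l := pullback.lift t.left s.left ((Over.w t).trans (Over.w s).symm)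
  have hl : IsImmersion l := by
    have h := RepWith.baseChange (P := @IsImmersion) (isPullback_diag_prod_map sqR) hls
    have e : prod.lift ((yon S).map t) ((yon S).map s) =
        (yon S).map (prod.lift t s) ≫ prodComparison (yon S) U U := by
      apply Limits.prod.hom_ext <;> simp [← Functor.map_comp, prod.lift_fst, prod.lift_snd]
    rw [e, MorphismProperty.cancel_right_of_respectsIso (RepWith @IsImmersion),
      repWith_yon_map_iff (P := @IsImmersion)] at h
    have : IsImmersion (prod.lift t s).left := h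
    have el : l = (prod.lift t s).left ≫ (Over.prodLeftIsoPullback U U).hom := by
      apply pullback.hom_ext
      · rw [Category.assoc, Over.prodLeftIsoPullback_hom_fst, pullback.lift_fst, ← Over.comp_left]
        exact congrArg (fun k => k.left) (prod.lift_fst t s).symm
      · rw [Category.assoc, Over.prodLeftIsoPullback_hom_snd, pullback.lift_snd, ← Over.comp_left]
        exact congrArg (fun k => k.left) (prod.lift_snd t s).symm
    rw [el]; infer_instance
  obtain ⟨W, hWo, hW⟩ := (l.isEmbedding.isInducing.isOpen_iff).1 e.left.opensRange.2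
  have hel : e.left ≫ l = pullback.diagonal U.hom := by
    have het' : e.left ≫ t.left = 𝟙 _ := congrArg (fun k => k.left) het
    apply pullback.hom_ext <;> simp [l, pullback.lift_fst, pullback.lift_snd, hes', het',
      pullback.diagonal_fst, pullback.diagonal_snd]
  have hWd : ∀ u : ↥U.left, pullback.diagonal U.hom u ∈ W := fun u => by
    rw [← hel, Scheme.Hom.comp_apply]
    show e.left u ∈ l ⁻¹' W
    rw [hW]; exact ⟨u, rfl⟩
  -- geometric lifts of the points of the fibre
  let Ω : Type u := AlgebraicClosure q.K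
  let v : Spec (CommRingCat.of Ω) ⟶ q.pt.left := Spec.map (CommRingCat.ofHom (algebraMap q.K Ω))
  have : Subsingleton ↥q.pt.left := inferInstanceAs (Subsingleton ↥(Spec (CommRingCat.of q.K)))
  have : Etale c.left := (repWith_yon_map_iff @Etale c).1 (RepWith.baseChange sq.flip hφ)
  have := locallyQuasiFinite_of_etale c.left
  choose g hg hgw using fun w : ↥T.left =>
    FlatMorWeight.exists_GP_at c.left v w (Subsingleton.elim _ _)
  let D : Over S := Over.mk (v ≫ q.pt.hom)
  let G : ∀ w, D ⟶ T := fun w => Over.homMk (g w) (by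
    show _ = v ≫ q.pt.hom
    rw [← Over.w c, ← Category.assoc]; exact congrArg (· ≫ _) (hg w))
  have hGc : ∀ w w', G w ≫ c = G w' ≫ c := fun w w' =>
    Over.OverMorphism.ext ((hg w).trans (hg w').symm)
  refine finite_of_diag_open U.hom W hWo hWd (fun w => g w ≫ m.left)
    (fun w w' => ((congrArg (· ≫ U.hom) rfl).trans (Over.w (G w ≫ m))).trans (Over.w (G w' ≫ m)).symm)
    fun w w' hne hmem => hne ?_
  obtain ⟨n, hn⟩ := (yon S).map_surjective (sqR.lift ((yon S).map (G w ≫ m)) ((yon S).map (G w' ≫ m)) (by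
    rw [Functor.map_comp, Category.assoc, Functor.map_comp, Category.assoc, ← sq.w, ← Category.assoc,
      ← Functor.map_comp, hGc w w', Functor.map_comp, Category.assoc]))
  have hnt : n ≫ t = G w ≫ m := (yon S).map_injective (by rw [Functor.map_comp, hn, sqR.lift_fst])
  have hns : n ≫ s = G w' ≫ m := (yon S).map_injective (by rw [Functor.map_comp, hn, sqR.lift_snd])
  have hnl : n.left ≫ l = pullback.lift (g w ≫ m.left) (g w' ≫ m.left)
      (((Over.w (G w ≫ m))).trans (Over.w (G w' ≫ m)).symm) := by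
    have h1 : n.left ≫ t.left = g w ≫ m.left := congrArg (fun k => k.left) hnt
    have h2 : n.left ≫ s.left = g w' ≫ m.left := congrArg (fun k => k.left) hns
    apply pullback.hom_ext <;> simp [l, pullback.lift_fst, pullback.lift_snd, h1, h2]
  have hr : Set.range n.left ⊆ Set.range e.left := by
    rintro _ ⟨z, rfl⟩
    show n.left z ∈ (e.left.opensRange).carrier
    rw [← hW]
    show l (n.left z) ∈ W
    rw [← Scheme.Hom.comp_apply, hnl]
    erw [FlatMorWeight.eq_pt]
    exact hmem
  let z : D ⟶ U := Over.homMk (IsOpenImmersion.lift e.left n.left hr) (by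
    rw [← Over.w e, ← Category.assoc, IsOpenImmersion.lift_fac]; exact Over.w n)
  have hz : n = z ≫ e := Over.OverMorphism.ext (IsOpenImmersion.lift_fac _ _ _).symm
  have hGm : G w ≫ m = G w' ≫ m := by
    rw [← hnt, ← hns, hz, Category.assoc, het, Category.assoc, hes]
  have hG : G w = G w' := (yon S).map_injective (sq.hom_ext
    (by rw [← Functor.map_comp, ← Functor.map_comp, hGc w w'])
    (by rw [← Functor.map_comp, ← Functor.map_comp, hGm]))
  rw [← hgw w, ← hgw w']
  exact congrArg (fun k : D ⟶ T => FlatMorWeight.pt k.left) hG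

end Groth.Agent.AlgSpLib
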