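import Groth.Agent.AlgSpLib.LqfDim
import Groth.Agent.AlgSpLib.FibreDimChart
import Groth.Agent.FlatMor12.RelDimLocalDim
import Groth.Agent.AlgSpLib.NoethDecent

/-!
Local dimension on etale charts.
-/

universe u

open CategoryTheory CategoryTheory.Limits AlgebraicGeometry
open AlgSp

noncomputable section

namespace Groth.Agent.AlgSpLib

set_option backward.isDefEq.respectTransparency.types false

theorem localDim_etale {A B : Scheme.{u}} (g : A ⟶ B) [Etale g] (a : A) :
    FlatMor.localDim A a = FlatMor.localDim B (g a) :=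
  localDim_eq_of_map g.continuous g.isOpenMap (Flat.generalizingMap g) (fun x x' hx e => by
    have := lqf_of_unramified g
    by_contra hne
    have hlt : x' < x := lt_of_le_not_ge hx fun hge => hne (Specializes.antisymm hx hge).eq
    exact (strictMono_of_lqf g hlt).ne e.symm) a

variable {S : Scheme.{u}} {X Y : Sp S}

theorem localDim_eq_of_ofPt (hX : IsAlgSpace X) {U U' : Over S} {a : (yon S).obj U ⟶ X}
    {a' : (yon S).obj U' ⟶ X} (ha : RepWith @Etale a) (ha' : RepWith @Etale a') {u : ↥U.left} {u' : ↥U'.left}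
    (e : Points.ofPt a u = Points.ofPt a' u') : FlatMor.localDim ↥U.left u = FlatMor.localDim ↥U'.left u' := by
  have hra := hX.representable_from_yon a
  have sqP := hra.isPullback' a'
  obtain ⟨p, hp1, hp2⟩ := (ofPt_eq_ofPt_iff sqP u u').1 e
  have : Etale (hra.fst' a').left := ha'.property _ _ _ sqP.flip
  have : Etale (hra.snd a').left := ha.property_snd a'
  rw [← hp1, ← hp2]
  exact (localDim_etale (hra.fst' a').left p).symm.trans (localDim_etale (hra.snd a').left p)

theorem hasRelDim_of_fibreDimAt {A B : Scheme.{u}} (f : A ⟶ B) [LocallyOfFiniteType f] {d : ℕ}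
    (h : ∀ x, FlatMor.fibreDimAt f x = (d : WithBot ℕ∞)) : Cyc.HasRelDim f d := by
  intro y
  have : LocallyOfFiniteType (f.fiberToSpecResidueField y) :=
    inferInstanceAs (LocallyOfFiniteType (pullback.snd f (B.fromSpecResidueField y)))
  refine (DimLib.forall_components_iff (k := B.residueField y) (f.fiberToSpecResidueField y)
    (fun t => t = (d : WithBot ℕ∞))).2 fun η hη => ?_
  have hfib : f (f.fiberι y η) = y := (f.range_fiberι y).le ⟨η, rfl⟩
  have hd := h (f.fiberι y η)
  generalize hx : f.fiberι y η = x at hfib hd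
  subst hfib
  let π : f.fiber (f x) ⟶ Spec (CommRingCat.of ↥(B.residueField (f x))) := f.fiberToSpecResidueField (f x)
  have : LocallyOfFiniteType π :=
    inferInstanceAs (LocallyOfFiniteType (pullback.snd f (B.fromSpecResidueField (f x))))
  have hη' : η = f.asFiber x := (f.fiberι (f x)).isEmbedding.injective (by rw [hx, f.fiberι_asFiber])
  rw [FlatMor.fibreDimAt, ← hη'] at hd
  refine le_antisymm ?_ ?_
  · exact_mod_cast (FlatMorDim.localDim_le_iff π η d).1 hd.le η specializes_rfl
  · rw [← hd]
    refine (FlatMorDim.localDim_le_iff π η _).2 fun w hw => ?_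
    rw [hη w hw]

theorem localDim_eq_add_of_relDim (hX : IsAlgSpace X) (hY : IsAlgSpace Y) {f : X ⟶ Y} (hN : IsLocNoethSp Y)
    (hf : LocP @Flat f) (hf' : LocP @LocallyOfFiniteType f) (d : ℕ) (x : Points X)
    (hd : ∀ x : Points X, HasAtMor (fun _ _ h u => FlatMor.fibreDimAt h u = (d : WithBot ℕ∞)) f x)
    (dX dY : WithBot ℕ∞) (hx : HasAt (fun U u => FlatMor.localDim ↥U u = dX) X x)
    (hy : HasAt (fun U u => FlatMor.localDim ↥U u = dY) Y (Points.map f x)) :
    dX = dY + (d : WithBot ℕ∞) := by
  obtain ⟨U', a', u', ha', rfl, rfl⟩ := hx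
  obtain ⟨V', b', v', hb', ev, rfl⟩ := hy
  obtain ⟨V, b, hbe, hbs⟩ := hY.atlas
  obtain ⟨U, a, h, hae, has, w⟩ := exists_chart_over hX hY f b hbe hbs
  obtain ⟨u, hu⟩ := surjective_ofPt a has (Points.ofPt a' u')
  rw [← hu, Points.map_ofPt, w, ofPt_map h b u] at ev
  rw [localDim_eq_of_ofPt hX ha' hae hu.symm, localDim_eq_of_ofPt hY hb' hbe ev]
  have : Flat h.left := hf a b h hae hbe w
  have : LocallyOfFiniteType h.left := hf' a b h hae hbe w
  have : IsLocallyNoetherian V.left := isLocallyNoetherian_chart hN b hbe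
  exact FlatMor12.localDim_eq_add h.left (hasRelDim_of_fibreDimAt h.left fun z =>
    (hasAtMor_fibreDim_iff hX hY f a b h hae hbe w z _).1 (hd _)) u

end Groth.Agent.AlgSpLib
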