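import Mathlib.CategoryTheory.Sites.Sheaf
import Mathlib.CategoryTheory.Limits.Shapes.BinaryProducts
import Mathlib.Algebra.Category.Grp.Limits
import Mathlib.Algebra.Category.Grp.FilteredColimits

/-!
The Mayer–Vietoris conditions of a sheaf for a distinguished pair `U`, `V` of objects with product `Q`:
`U` is subterminal, every object is covered by `U` and `V`, and every pair of maps to `V` agrees outside `U`.
-/

universe v u

open CategoryTheory CategoryTheory.Limits Opposite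

noncomputable section

namespace Groth.Agent.AlgSpLib.MV

set_option backward.isDefEq.respectTransparency false

variable {C : Type u} [Category.{v} C] {J : GrothendieckTopology C} (P : Cᵒᵖ ⥤ AddCommGrpCat.{max u v})

/-- restriction of sections -/
def res {T T' : C} (g : T' ⟶ T) : P.obj (op T) →+ P.obj (op T') := (P.map g.op).hom

theorem res_comp {T T' T'' : C} (k : T'' ⟶ T') (g : T' ⟶ T) (x : P.obj (op T)) :
    res P k (res P g x) = res P (k ≫ g) x := by
  show (P.map k.op).hom ((P.map g.op).hom x) = (P.map (g.op ≫ k.op)).hom x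
  rw [P.map_comp]
  rfl

theorem res_id {T : C} (x : P.obj (op T)) : res P (𝟙 T) x = x := by
  show (P.map (𝟙 (op T))).hom x = x
  rw [P.map_id]
  rfl

variable (hP : Presheaf.IsSheaf J P)

include hP in
theorem res_injective {T : C} {R : Sieve T} (hR : R ∈ J T) {x y : P.obj (op T)}
    (h : ∀ ⦃T' : C⦄ (g : T' ⟶ T), R g → res P g x = res P g y) : x = y :=
  (((isSheaf_iff_isSheaf_of_type _ _).1 ((Presheaf.isSheaf_iff_isSheaf_forget J P (forget _)).1 hP))
    R hR).isSeparatedFor.ext fun T' g hg => h g hg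

include hP in
theorem exists_glue {T : C} {R : Sieve T} (hR : R ∈ J T)
    (Φ : ∀ ⦃T' : C⦄, (T' ⟶ T) → P.obj (op T') → Prop)
    (hex : ∀ ⦃T' : C⦄ (g : T' ⟶ T), R g → ∃ z, Φ g z)
    (huniq : ∀ ⦃T' : C⦄ (g : T' ⟶ T), R g → ∀ z z', Φ g z → Φ g z' → z = z')
    (hres : ∀ ⦃T' T'' : C⦄ (k : T'' ⟶ T') (g : T' ⟶ T) (z), R g → Φ g z → Φ (k ≫ g) (res P k z)) :
    ∃ x : P.obj (op T), ∀ ⦃T' : C⦄ (g : T' ⟶ T), R g → Φ g (res P g x) := by
  choose z hz using hex
  let fam : Presieve.FamilyOfElements (P ⋙ forget _) R.arrows := fun T' g hg => z g hg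
  have hc : fam.Compatible := by
    intro Y₁ Y₂ Z g₁ g₂ f₁ f₂ h₁ h₂ e
    exact huniq _ (R.downward_closed h₁ g₁) _ _ (hres g₁ f₁ _ h₁ (hz f₁ h₁))
      (e ▸ hres g₂ f₂ _ h₂ (hz f₂ h₂))
  obtain ⟨x, hx, -⟩ :=
    ((isSheaf_iff_isSheaf_of_type _ _).1 ((Presheaf.isSheaf_iff_isSheaf_forget J P (forget _)).1 hP))
      R hR fam hc
  refine ⟨x, fun T' g hg => ?_⟩
  have : res P g x = z g hg := hx g hg
  rw [this]
  exact hz g hg

/-- the sieve of maps factoring through `U` or `V` -/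
def sieveA (U V W : C) : Sieve W where
  arrows T _ := Nonempty (T ⟶ U) ∨ Nonempty (T ⟶ V)
  downward_closed := by
    rintro T T' g (⟨⟨u⟩⟩ | ⟨⟨v⟩⟩) k
    · exact Or.inl ⟨k ≫ u⟩
    · exact Or.inr ⟨k ≫ v⟩

/-- the sieve of maps factoring through `U` or equalising `y`, `y'` -/
def sieveB (U : C) {V E : C} (y y' : E ⟶ V) : Sieve E where
  arrows T g := Nonempty (T ⟶ U) ∨ g ≫ y = g ≫ y'
  downward_closed := by
    rintro T T' g (⟨⟨u⟩⟩ | h) k
    · exact Or.inl ⟨k ≫ u⟩
    · exact Or.inr (by rw [Category.assoc, Category.assoc, h])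

variable [HasBinaryProducts C]

/-- the hypotheses -/
structure Data (J : GrothendieckTopology C) (U V Q : C) (p : Q ⟶ U) (q : Q ⟶ V) : Prop where
  sub : ∀ ⦃T : C⦄ (u u' : T ⟶ U), u = u'
  coverA : ∀ W, sieveA U V W ∈ J W
  coverB : ∀ ⦃E : C⦄ (y y' : E ⟶ V), sieveB U y y' ∈ J E
  lift : ∀ ⦃T : C⦄ (u : T ⟶ U) (v : T ⟶ V), ∃ l : T ⟶ Q, l ≫ p = u ∧ l ≫ q = v
  hom_ext : ∀ ⦃T : C⦄ (l l' : T ⟶ Q), l ≫ p = l' ≫ p → l ≫ q = l' ≫ q → l = l'

variable {U V Q : C} {p : Q ⟶ U} {q : Q ⟶ V} (D : Data J U V Q p q)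

include hP D in
theorem injective {W : C} {s s' : P.obj (op W)}
    (hU : res P (prod.snd : U ⨯ W ⟶ W) s = res P prod.snd s')
    (hV : res P (prod.snd : V ⨯ W ⟶ W) s = res P prod.snd s') : s = s' := by
  refine res_injective P hP (D.coverA W) fun T g hg => ?_
  rcases hg with ⟨⟨u⟩⟩ | ⟨⟨v⟩⟩
  · rw [← prod.lift_snd u g, ← res_comp, ← res_comp, hU]
  · rw [← prod.lift_snd v g, ← res_comp, ← res_comp, hV]

include hP D in
theorem glue {W : C} (a : P.obj (op (U ⨯ W))) (b : P.obj (op (V ⨯ W)))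
    (h : res P (prod.map p (𝟙 W)) a = res P (prod.map q (𝟙 W)) b) :
    ∃ s, res P (prod.snd : U ⨯ W ⟶ W) s = a ∧ res P (prod.snd : V ⨯ W ⟶ W) s = b := by
  have key : ∀ ⦃T : C⦄ (g : T ⟶ W) (u : T ⟶ U) (v : T ⟶ V),
      res P (prod.lift u g) a = res P (prod.lift v g) b := by
    intro T g u v
    obtain ⟨l, rfl, rfl⟩ := D.lift u v
    have := congrArg (res P (prod.lift l g)) h
    rwa [res_comp, res_comp, prod.lift_map, prod.lift_map, Category.comp_id] at this
  have same : ∀ ⦃T : C⦄ (g : T ⟶ W) (v v' : T ⟶ V), res P (prod.lift v g) b = res P (prod.lift v' g) b := by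
    intro T g v v'
    refine res_injective P hP (D.coverB v v') fun T' k hk => ?_
    rw [res_comp, res_comp, prod.comp_lift, prod.comp_lift]
    rcases hk with ⟨⟨u⟩⟩ | e
    · rw [← key _ u, ← key _ u]
    · rw [e]
  obtain ⟨s, hs⟩ := exists_glue P hP (D.coverA W) (fun T g z =>
      (∀ u : T ⟶ U, z = res P (prod.lift u g) a) ∧ ∀ v : T ⟶ V, z = res P (prod.lift v g) b)
    (fun T g hg => by
      rcases hg with ⟨⟨u⟩⟩ | ⟨⟨v⟩⟩
      · exact ⟨res P (prod.lift u g) a, fun u' => by rw [D.sub u u'], fun v => key g u v⟩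
      · exact ⟨res P (prod.lift v g) b, fun u => (key g u v).symm, fun v' => same g v v'⟩)
    (fun T g hg z z' hz hz' => by
      rcases hg with ⟨⟨u⟩⟩ | ⟨⟨v⟩⟩
      · rw [hz.1 u, hz'.1 u]
      · rw [hz.2 v, hz'.2 v])
    (fun T T' k g z hg hz => by
      refine ⟨fun u => ?_, fun v => ?_⟩
      · rcases hg with ⟨⟨u₀⟩⟩ | ⟨⟨v₀⟩⟩
        · rw [hz.1 u₀, res_comp, prod.comp_lift, D.sub (k ≫ u₀) u]
        · rw [hz.2 v₀, res_comp, prod.comp_lift, key _ u (k ≫ v₀)]
      · rcases hg with ⟨⟨u₀⟩⟩ | ⟨⟨v₀⟩⟩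
        · rw [hz.1 u₀, res_comp, prod.comp_lift, key _ (k ≫ u₀) v]
        · rw [hz.2 v₀, res_comp, prod.comp_lift, same _ (k ≫ v₀) v])
  refine ⟨s, ?_, ?_⟩
  · rw [(hs prod.snd (Or.inl ⟨prod.fst⟩)).1 prod.fst, prod.lift_fst_snd, res_id]
  · rw [(hs prod.snd (Or.inr ⟨prod.fst⟩)).2 prod.fst, prod.lift_fst_snd, res_id]

include hP D in
theorem locally_surjective {W : C} (s : P.obj (op (Q ⨯ W))) {T : C} (g : T ⟶ W) (hg : sieveA U V W g) :
    ∃ (a : P.obj (op (U ⨯ T))) (b : P.obj (op (V ⨯ T))),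
      res P (prod.map p (𝟙 T)) a - res P (prod.map q (𝟙 T)) b = res P (prod.map (𝟙 Q) g) s := by
  obtain ⟨s', hs'⟩ : ∃ s', res P (prod.map (𝟙 Q) g) s = s' := ⟨_, rfl⟩
  rw [hs']
  rcases hg with ⟨⟨u⟩⟩ | ⟨⟨v⟩⟩
  · obtain ⟨l, hl₁, hl₂⟩ := D.lift ((prod.snd : V ⨯ T ⟶ T) ≫ u) prod.fst
    refine ⟨0, -res P (prod.lift l prod.snd) s', ?_⟩
    have e : prod.map q (𝟙 T) ≫ prod.lift l prod.snd = 𝟙 (Q ⨯ T) := by
      apply Limits.prod.hom_ext
      · rw [Category.assoc, prod.lift_fst, Category.id_comp]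
        refine D.hom_ext _ _ (D.sub _ _) ?_
        rw [Category.assoc, hl₂, prod.map_fst]
      · rw [Category.assoc, prod.lift_snd, prod.map_snd, Category.comp_id, Category.id_comp]
    rw [map_zero, map_neg, zero_sub, neg_neg, res_comp, e, res_id]
  · obtain ⟨l, hl₁, hl₂⟩ := D.lift (prod.fst : U ⨯ T ⟶ U) (prod.snd ≫ v)
    let τ := prod.lift l (prod.snd : U ⨯ T ⟶ T)
    obtain ⟨a, ha⟩ : ∃ a, res P τ s' = a := ⟨_, rfl⟩
    obtain ⟨b, hb⟩ := exists_glue P hP (D.coverB (prod.fst : V ⨯ T ⟶ V) (prod.snd ≫ v))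
      (fun T' k z => (∀ (u : T' ⟶ U) (m : T' ⟶ Q), m ≫ p = u → m ≫ q = k ≫ prod.fst →
        z = res P (prod.lift u (k ≫ prod.snd)) a - res P (prod.lift m (k ≫ prod.snd)) s') ∧
        (k ≫ prod.fst = k ≫ prod.snd ≫ v → z = 0))
      (fun T' k hk => by
        have hz : ∀ (u : T' ⟶ U) (m : T' ⟶ Q), m ≫ p = u → m ≫ q = k ≫ prod.fst →
            k ≫ prod.fst = k ≫ prod.snd ≫ v →
            res P (prod.lift u (k ≫ prod.snd)) a - res P (prod.lift m (k ≫ prod.snd)) s' = 0 := by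
          intro u m h1 h2 e
          rw [sub_eq_zero, ← ha, res_comp]
          congr 2
          apply Limits.prod.hom_ext
          · rw [Category.assoc, prod.lift_fst, prod.lift_fst]
            refine D.hom_ext _ _ (D.sub _ _) ?_
            rw [Category.assoc, hl₂, prod.lift_snd_assoc, h2, e, Category.assoc]
          · rw [Category.assoc, prod.lift_snd, prod.lift_snd, prod.lift_snd]
        rcases hk with ⟨⟨u⟩⟩ | e
        · obtain ⟨m, h1, h2⟩ := D.lift u (k ≫ prod.fst)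
          refine ⟨res P (prod.lift u (k ≫ prod.snd)) a - res P (prod.lift m (k ≫ prod.snd)) s', ?_, hz u m h1 h2⟩
          intro u' m' h1' h2'
          rw [D.sub u' u, D.hom_ext m' m (D.sub _ _) (by rw [h2', h2])]
        · exact ⟨0, fun u m h1 h2 => (hz u m h1 h2 e).symm, fun _ => rfl⟩)
      (fun T' k hk z z' hz hz' => by
        rcases hk with ⟨⟨u⟩⟩ | e
        · obtain ⟨m, h1, h2⟩ := D.lift u (k ≫ prod.fst)
          rw [hz.1 u m h1 h2, hz'.1 u m h1 h2]
        · rw [hz.2 e, hz'.2 e])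
      (fun T' T'' j k z hk hz => by
        refine ⟨fun u m h1 h2 => ?_, fun e => ?_⟩
        · rcases hk with ⟨⟨u₀⟩⟩ | e₀
          · obtain ⟨m₀, g1, g2⟩ := D.lift u₀ (k ≫ prod.fst)
            rw [hz.1 u₀ m₀ g1 g2, map_sub, res_comp, res_comp, prod.comp_lift, prod.comp_lift,
              D.sub (j ≫ u₀) u, D.hom_ext (j ≫ m₀) m (D.sub _ _) (by rw [Category.assoc, g2, h2, Category.assoc]),
              Category.assoc]
          · rw [hz.2 e₀, map_zero, eq_comm, sub_eq_zero, ← ha, res_comp]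
            congr 2
            apply Limits.prod.hom_ext
            · rw [Category.assoc, prod.lift_fst, prod.lift_fst]
              refine D.hom_ext _ _ (D.sub _ _) ?_
              rw [Category.assoc, hl₂, prod.lift_snd_assoc, h2, Category.assoc, Category.assoc, Category.assoc, e₀]
            · rw [Category.assoc, prod.lift_snd, prod.lift_snd, prod.lift_snd]
        · rcases hk with ⟨⟨u₀⟩⟩ | e₀
          · obtain ⟨m₀, g1, g2⟩ := D.lift u₀ (k ≫ prod.fst)
            rw [hz.1 u₀ m₀ g1 g2, map_sub, sub_eq_zero, ← ha, res_comp, res_comp, res_comp]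
            congr 2
            apply Limits.prod.hom_ext
            · rw [Category.assoc, Category.assoc, prod.lift_fst, Category.assoc, prod.lift_fst]
              refine D.hom_ext _ _ (D.sub _ _) ?_
              simp only [Category.assoc] at e
              rw [Category.assoc, Category.assoc, Category.assoc, hl₂, prod.lift_snd_assoc, g2]
              simp only [Category.assoc, e]

            · simp [τ]
          · rw [hz.2 e₀, map_zero])
    refine ⟨a, b, ?_⟩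
    have h' := (hb (prod.map q (𝟙 T)) (Or.inl ⟨prod.fst ≫ p⟩)).1 (prod.fst ≫ p) prod.fst rfl (prod.map_fst _ _).symm
    have e1 : prod.lift (prod.fst ≫ p) (prod.map q (𝟙 T) ≫ prod.snd) = prod.map p (𝟙 T) := by
      apply Limits.prod.hom_ext <;> simp
    have e2 : prod.lift (prod.fst : Q ⨯ T ⟶ Q) (prod.map q (𝟙 T) ≫ prod.snd) = 𝟙 (Q ⨯ T) := by
      apply Limits.prod.hom_ext <;> simp
    rw [h', e1, e2, res_id, sub_sub_cancel]

end Groth.Agent.AlgSpLib.MV
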