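import Groth.Agent.AlgSpLib.MVSheaf
import Groth.Agent.AlgSpLib.ElemDistPushout
import Groth.Agent.Stk19b.StalkPoint
import Groth.Prelude.Def_W4SpPerfMV

/-!
An elementary distinguished square of the small etale site satisfies the Mayer–Vietoris conditions.
-/

universe u

open CategoryTheory CategoryTheory.Limits AlgebraicGeometry Opposite
open AlgSp

noncomputable section

namespace Groth.Agent.AlgSpLib.MV

set_option backward.isDefEq.respectTransparency.types false
set_option backward.isDefEq.respectTransparency false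

variable {S : Scheme.{u}} {X : Sp S}

theorem exists_hom_of_mem_range (A E : EtOver X) (t : ↥E.obj.left.left)
    (ht : Points.ofPt E.obj.hom t ∈ Set.range (Points.map A.obj.hom)) :
    ∃ (T : EtOver X) (g : T ⟶ E), Nonempty (T ⟶ A) ∧ t ∈ Set.range g.hom.left.left := by
  obtain ⟨y, hy⟩ := ht
  obtain ⟨z, -, hz⟩ := exists_point_of_isPullback (A.property.1.isPullback E.obj.hom)
    (x := y) (y := Points.ofScheme _ t) (hy.trans (Points.ofPt_eq_map_ofScheme _ _))
  obtain ⟨z', rfl⟩ := (Points.schemeEquiv _).surjective z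
  exact ⟨EtOver.prodObj E A, EtOver.prodFst E A, ⟨EtOver.prodSnd E A⟩, z',
    (Points.schemeEquiv _).injective ((map_yon_map_ofScheme _ z').symm.trans hz)⟩

variable {U V : EtOver X} (hX : IsAlgSpace X) (hsq : IsElemDistSq U.obj.hom V.obj.hom)

include hsq in
theorem subsingleton_hom (T : EtOver X) (u u' : T ⟶ U) : u = u' := by
  haveI := mono_openImmersion hsq.1
  exact EtOver.hom_ext _ _ ((yon S).map_injective
    ((cancel_mono U.obj.hom).1 ((EtOver.w u).trans (EtOver.w u').symm)))

include hsq in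
theorem sieveA_mem (W : EtOver X) : sieveA U V W ∈ etTop X W := by
  refine Stk19b.StalkPoint.mem_etTop_of_forall _ fun t => ?_
  rcases mem_range_of_isElemDistSq hsq (Points.ofPt W.obj.hom t) with h | h
  · obtain ⟨T, g, hT, ht⟩ := exists_hom_of_mem_range U W t h
    exact ⟨T, g, Or.inl hT, ht⟩
  · obtain ⟨T, g, hT, ht⟩ := exists_hom_of_mem_range V W t h
    exact ⟨T, g, Or.inr hT, ht⟩

include hX hsq in
theorem sieveB_mem {E : EtOver X} (y y' : E ⟶ V) : sieveB U y y' ∈ etTop X E := by
  obtain ⟨hj, he, T₀, P₀, i, p₁, p₂, hi, sq, hp⟩ := hsq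
  refine Stk19b.StalkPoint.mem_etTop_of_forall _ fun t => ?_
  by_cases ht : Points.ofPt E.obj.hom t ∈ Set.range (Points.map U.obj.hom)
  · obtain ⟨T, g, hT, hg⟩ := exists_hom_of_mem_range U E t ht
    exact ⟨T, g, Or.inl hT, hg⟩
  · let Y : (yon S).obj E.obj.left ⟶ (yon S).obj V.obj.left := (yon S).map y.hom.left
    let Y' : (yon S).obj E.obj.left ⟶ (yon S).obj V.obj.left := (yon S).map y'.hom.left
    have hy : Y ≫ V.obj.hom = E.obj.hom := EtOver.w y
    have hy' : Y' ≫ V.obj.hom = E.obj.hom := EtOver.w y'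
    obtain ⟨O, hO⟩ := PushSp.exists_eqLocus
      (repWith_diagonal_of_unramified (IsAlgSpace.yon_obj _) hX
        (locP_unramified_of_isEtaleMor (IsAlgSpace.yon_obj _) hX he)) Y Y' (hy.trans hy'.symm)
    let K : Over S := Over.mk (E.obj.left.left.fromSpecResidueField t ≫ E.obj.left.hom)
    let k : K ⟶ E.obj.left := Over.homMk (E.obj.left.left.fromSpecResidueField t) rfl
    haveI : IsClosedImmersion (hi.1.1.snd ((yon S).map k ≫ E.obj.hom)).left := hi.1.property_snd _
    haveI : Surjective (hi.1.1.snd ((yon S).map k ≫ E.obj.hom)).left := ⟨fun s => by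
      have hs : Points.ofPt ((yon S).map k ≫ E.obj.hom) s = Points.ofPt E.obj.hom t := by
        rw [ofPt_map]
        exact congrArg _ (E.obj.left.left.fromSpecResidueField_apply t s)
      obtain ⟨z₀, hz₀⟩ : Points.ofPt ((yon S).map k ≫ E.obj.hom) s ∈ Set.range (Points.map i) := by
        rw [hi.2.1, hs]; exact ht
      obtain ⟨z, -, hz⟩ := exists_point_of_isPullback (hi.1.1.isPullback ((yon S).map k ≫ E.obj.hom))
        (x := z₀) (y := Points.ofScheme _ s) (hz₀.trans (Points.ofPt_eq_map_ofScheme _ _))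
      obtain ⟨z', rfl⟩ := (Points.schemeEquiv _).surjective z
      exact ⟨z', (Points.schemeEquiv K).injective ((map_yon_map_ofScheme _ z').symm.trans hz)⟩⟩
    haveI : IsReduced K.left := inferInstanceAs (IsReduced (Spec (E.obj.left.left.residueField t)))
    haveI : IsIso (hi.1.1.snd ((yon S).map k ≫ E.obj.hom)).left := isIso_of_isClosedImmersion_of_surjective _
    haveI : IsIso ((Over.forget S).map (hi.1.1.snd ((yon S).map k ≫ E.obj.hom))) := ‹_›
    haveI : IsIso (hi.1.1.snd ((yon S).map k ≫ E.obj.hom)) := isIso_of_reflects_iso _ (Over.forget S)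
    let z := inv ((yon S).map (hi.1.1.snd ((yon S).map k ≫ E.obj.hom))) ≫ hi.1.1.fst ((yon S).map k ≫ E.obj.hom)
    have hz : z ≫ i = (yon S).map k ≫ E.obj.hom := by
      rw [Category.assoc, hi.1.1.w, IsIso.inv_hom_id_assoc]
    obtain ⟨l, hl₁, hl₂⟩ := sq.exists_lift z ((yon S).map k ≫ Y)
      (hz.trans (by rw [Category.assoc, hy]))
    obtain ⟨l', hl₁', hl₂'⟩ := sq.exists_lift z ((yon S).map k ≫ Y')
      (hz.trans (by rw [Category.assoc, hy']))
    have e : (yon S).map k ≫ Y = (yon S).map k ≫ Y' := by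
      rw [← hl₂, ← hl₂', (cancel_mono p₁).1 (hl₁.trans hl₁'.symm)]
    have hmem : t ∈ O :=
      (hO k).1 e ⟨IsLocalRing.closedPoint _, E.obj.left.left.fromSpecResidueField_apply t _⟩
    let o : Over.mk (O.ι ≫ E.obj.left.hom) ⟶ E.obj.left := Over.homMk O.ι rfl
    have ho : Etale o.left := inferInstanceAs (Etale O.ι)
    let T : EtOver X := EtOver.mk ((yon S).map o ≫ E.obj.hom)
      ((repWith_isMultiplicative (S := S) @Etale).comp_mem _ _ ((repWith_yon_map_iff _ _).2 ho) E.property)
    let g : T ⟶ E := EtOver.homMk o rfl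
    refine ⟨T, g, Or.inr (EtOver.hom_ext _ _ ((yon S).map_injective ?_)), ⟨t, hmem⟩, rfl⟩
    refine ((yon S).map_comp _ _).trans (Eq.trans ?_ ((yon S).map_comp _ _).symm)
    exact (hO o).2 (by rintro _ ⟨x, rfl⟩; exact x.2)

include hX hsq in
theorem data : Data (etTop X) U V (EtOver.prodObj U V) (EtOver.prodFst U V) (EtOver.prodSnd U V) where
  sub := subsingleton_hom hsq
  coverA := sieveA_mem hsq
  coverB _ y y' := sieveB_mem hX hsq y y'
  lift _ u v := ⟨(EtOver.prodIsLimit U V).lift (BinaryFan.mk u v),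
    (EtOver.prodIsLimit U V).fac _ ⟨WalkingPair.left⟩, (EtOver.prodIsLimit U V).fac _ ⟨WalkingPair.right⟩⟩
  hom_ext _ _ _ h₁ h₂ := BinaryFan.IsLimit.hom_ext (EtOver.prodIsLimit U V) h₁ h₂

end Groth.Agent.AlgSpLib.MV
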