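import Groth.Agent.AlgSpLib.FlatAt
import Groth.Agent.AlgSpLib.PointsCompact
import Groth.Agent.AlgSpLib.FpqcCov
import Groth.Agent.AlgSpLib.MorQC
import Groth.Agent.FlatMor12.IsoLocusMod
import Groth.Agent.FlatLocal.FlatBaseChangeAt

/-!
An fpqc covering refining an open subspace and a morphism which is flat along the closed complement.
-/

universe u

open CategoryTheory CategoryTheory.Limits AlgebraicGeometry
open AlgSp

noncomputable section

namespace Groth.Agent.AlgSpLib

set_option backward.isDefEq.respectTransparency.types false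

/-- flatness at closed points suffices -/
theorem flat_of_flat_stalkMap_closed {D T : Scheme.{u}} [CompactSpace D] (g : D ⟶ T)
    (h : ∀ m : D, IsClosed ({m} : Set D) → (g.stalkMap m).hom.Flat) : Flat g := by
  refine (Flat.iff_flat_stalkMap g).2 fun z => ?_
  obtain ⟨m, hm, hmc⟩ : ∃ m ∈ closure ({z} : Set D), IsClosed ({m} : Set D) :=
    (isClosed_closure (s := ({z} : Set D))).exists_closed_singleton (Set.singleton_nonempty z).closure
  haveI : Flat (Spec.map (g.stalkMap m)) := HasRingHomProperty.Spec_iff.mpr (h m hmc)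
  haveI := Props12.flat_fromSpecStalk (g m)
  haveI := Props12.flat_fromSpecStalk m
  haveI : Flat (D.fromSpecStalk m ≫ g) := by rw [← Scheme.SpecMap_stalkMap_fromSpecStalk]; infer_instance
  obtain ⟨q, rfl⟩ : z ∈ Set.range (D.fromSpecStalk m) := by
    rw [Scheme.range_fromSpecStalk]
    exact specializes_iff_mem_closure.2 hm
  exact (Desc19b.flat_stalkMap_comp_iff _ g q (Flat.stalkMap _ q)).mp (Flat.stalkMap _ q)

/-- the Zariskization of an affine scheme along a closed subset along which a morphism is flat -/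
theorem exists_flat_nbhd' {V T : Scheme.{u}} [IsAffine V] (h : V ⟶ T) {C : Set V} (hC : IsClosed C)
    (hf : ∀ v ∈ C, (h.stalkMap v).hom.Flat) :
    ∃ (D : Scheme.{u}) (d : D ⟶ V), IsAffine D ∧ Flat d ∧ Flat (d ≫ h) ∧ C ⊆ Set.range d := by
  let B := Γ(V, ⊤)
  obtain ⟨I, hI⟩ := (PrimeSpectrum.isClosed_iff_zeroLocus_ideal _).1 (hC.preimage V.isoSpec.inv.continuous)
  let M : Submonoid B :=
    { carrier := {b | b - 1 ∈ I}
      one_mem' := by show (1 : B) - 1 ∈ I; rw [sub_self]; exact I.zero_mem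
      mul_mem' := fun {a b} (ha : a - 1 ∈ I) (hb : b - 1 ∈ I) => by
        show a * b - 1 ∈ I
        rw [show a * b - 1 = a * (b - 1) + (a - 1) by ring]
        exact I.add_mem (I.mul_mem_left _ hb) ha }
  let L := Localization M
  let φ : B ⟶ CommRingCat.of L := CommRingCat.ofHom (algebraMap B L)
  let d : Spec (CommRingCat.of L) ⟶ V := Spec.map φ ≫ V.isoSpec.inv
  have hd : Flat d := by
    have : Flat (Spec.map φ) := by
      rw [Flat.SpecMap_iff]
      exact RingHom.flat_algebraMap_iff.2 (IsLocalization.flat L M)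
    infer_instance
  refine ⟨_, d, inferInstance, hd, flat_of_flat_stalkMap_closed _ fun m hm => ?_, fun v hv => ?_⟩
  · have hmax : m.asIdeal.IsMaximal := (PrimeSpectrum.isClosed_singleton_iff_isMaximal m).1 hm
    have hmI : ∀ x ∈ I, algebraMap B L x ∈ m.asIdeal := by
      intro x hx
      by_contra hxm
      obtain ⟨c, hc⟩ := hmax.exists_inv hxm
      obtain ⟨i, hi, e⟩ := hc
      obtain ⟨b, s, rfl⟩ := IsLocalization.exists_mk'_eq M c
      have hs : (s : B) - b * x ∈ M := by
        show (s : B) - b * x - 1 ∈ I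
        rw [show (s : B) - b * x - 1 = ((s : B) - 1) - b * x by ring]
        exact I.sub_mem s.2 (I.mul_mem_left _ hx)
      have h1 : algebraMap B L ((s : B) - b * x) = algebraMap B L (s : B) * i := by
        rw [map_sub, map_mul, ← IsLocalization.mk'_spec L b s]
        linear_combination -(algebraMap B L (s : B)) * e
      have hu : IsUnit i := (IsUnit.mul_iff.1 (h1 ▸ IsLocalization.map_units L ⟨_, hs⟩)).2
      exact hmax.ne_top (Ideal.eq_top_of_isUnit_mem _ hi hu)
    have hdm : d m ∈ C := by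
      have : (Spec.map φ) m ∈ PrimeSpectrum.zeroLocus (I : Set B) := hmI
      exact hI.ge this
    exact (Desc19b.flat_stalkMap_comp_iff d h m (Flat.stalkMap d m)).mpr (hf _ hdm)
  · have hv' : V.isoSpec.hom v ∈ PrimeSpectrum.zeroLocus (I : Set B) := by
      refine hI.le ?_
      show V.isoSpec.inv (V.isoSpec.hom v) ∈ C
      rw [← Scheme.Hom.comp_apply, Iso.hom_inv_id]
      exact hv
    obtain ⟨q, hq⟩ := (PrimeSpectrum.localization_comap_range L M).ge
      (show V.isoSpec.hom v ∈ {p : PrimeSpectrum B | Disjoint (M : Set B) p.asIdeal} from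
        Set.disjoint_left.2 fun b hbM hbp => (V.isoSpec.hom v).2.ne_top (Ideal.eq_top_of_isUnit_mem _
          (show (1 : B) ∈ (V.isoSpec.hom v).asIdeal by
            have := Ideal.sub_mem _ hbp (hv' (show b - 1 ∈ I from hbM))
            simpa using this) isUnit_one))
    refine ⟨q, ?_⟩
    show V.isoSpec.inv ((Spec.map φ) q) = v
    rw [show (Spec.map φ) q = V.isoSpec.hom v from hq, ← Scheme.Hom.comp_apply, Iso.hom_inv_id]
    rfl

theorem exists_flat_nbhd {V T : Scheme.{u}} [IsAffine V] (h : V ⟶ T) {C : Set V} (hC : IsClosed C)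
    (hf : ∀ v ∈ C, (h.stalkMap v).hom.Flat) :
    ∃ (D : Scheme.{u}) (d : D ⟶ V), IsAffine D ∧ Flat (d ≫ h) ∧ C ⊆ Set.range d :=
  let ⟨D, d, hD, _, h1, h2⟩ := exists_flat_nbhd' h hC hf
  ⟨D, d, hD, h1, h2⟩

variable {S : Scheme.{u}}

theorem exists_flat_chart {X Y : Sp S} (hX : IsAlgSpace X) (hY : IsAlgSpace Y) (f : Y ⟶ X)
    (hqc : IsQuasiCompactMor f) {Zr : Set (Points X)} (hZ : IsClosed Zr)
    (hflat : ∀ y, Points.map f y ∈ Zr → IsFlatAtMor f y) {T : Over S} (hT : IsAffine T.left)
    (t : (yon S).obj T ⟶ X) (ht : RepWith @Etale t) :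
    ∃ (D : Over S) (dT : D ⟶ T) (l : (yon S).obj D ⟶ Y), IsAffine D.left ∧ Flat dT.left ∧
      l ≫ f = (yon S).map dT ≫ t ∧
      ∀ z : T.left, Points.ofPt t z ∈ Zr → (∃ y, Points.map f y = Points.ofPt t z) →
        z ∈ Set.range dT.left := by
  have sq := IsPullback.of_hasPullback f t
  have hYT : IsAlgSpace (pullback f t) := isAlgSpace_of_isPullback hX.diag hY (IsAlgSpace.yon_obj T) sq
  have : CompactSpace (Points (pullback f t)) := compactSpace_points_of_isQuasiCompactSp
    (hqc (IsAlgSpace.yon_obj T) ((isQuasiCompactSp_iff_compactSpace (IsAlgSpace.yon_obj T)).2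
      (Points.schemeHomeo T).compactSpace) t (pullback.fst f t) (pullback.snd f t) sq)
  obtain ⟨V, ψ, hV, hψe, hψs⟩ := exists_affine_chart hYT
  obtain ⟨h, hh⟩ := (yon S).map_surjective (ψ ≫ pullback.snd f t)
  let b := ψ ≫ pullback.fst f t
  have hbe : RepWith @Etale b := RepWith.comp hψe (RepWith.baseChange sq.flip ht)
  have wb : b ≫ f = (yon S).map h ≫ t := by rw [hh, Category.assoc, Category.assoc, sq.w]
  obtain ⟨D, d, hD, hdf, hC⟩ := exists_flat_nbhd h.left
    ((hZ.preimage (Points.continuous_ofPt t)).preimage h.left.continuous) fun v hv => by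
      refine (isFlatAtMor_iff hY hX f b t h hbe ht wb v).1 (hflat _ ?_)
      rw [Points.map_ofPt, wb, ofPt_map]
      exact hv
  let dV : Over.mk (d ≫ V.hom) ⟶ V := Over.homMk d rfl
  refine ⟨_, dV ≫ h, (yon S).map dV ≫ b, hD, hdf, by rw [Category.assoc, wb, Functor.map_comp, Category.assoc],
    fun z hz hy => ?_⟩
  obtain ⟨y, hy⟩ := hy
  obtain ⟨q, -, hq⟩ := exists_point_of_isPullback sq
    (show Points.map f y = Points.map t (Points.ofScheme T z) by rw [hy, Points.ofPt_eq_map_ofScheme])
  obtain ⟨v, rfl⟩ := surjective_ofPt ψ hψs q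
  rw [Points.map_ofPt, ← hh, ← Category.comp_id ((yon S).map h), ofPt_map] at hq
  have hz' : h.left v = z := (Points.schemeEquiv T).injective hq
  obtain ⟨e, he⟩ := hC (show v ∈ h.left ⁻¹' (Points.ofPt t ⁻¹' Zr) by rw [Set.mem_preimage, hz']; exact hz)
  refine ⟨e, ?_⟩
  show h.left (d e) = z
  rw [he, hz']

end Groth.Agent.AlgSpLib
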