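import Mathlib.RingTheory.Flat.Basic
import Mathlib.RingTheory.Flat.FaithfullyFlat.Algebra
import Mathlib.RingTheory.TensorProduct.Quotient
import Mathlib.RingTheory.Ideal.Operations
import Mathlib.LinearAlgebra.TensorProduct.RightExactness
import Mathlib.LinearAlgebra.TensorProduct.Pi
import Mathlib.RingTheory.RingHom.FaithfullyFlat

set_option linter.style.haveILetI false

/-!
Torsion along an ideal modulo which a map of flat algebras is faithfully flat.
-/

universe u

open scoped TensorProduct

noncomputable section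

namespace Groth.Agent.AlgSpLib.ModifTorsion

variable {A C K : Type u} [CommRing A] [CommRing C] [CommRing K] [Algebra A C] [Algebra A K]

theorem map_le_comap (I : Ideal A) (ν : C →ₐ[A] K) :
    I.map (algebraMap A C) ≤ (I.map (algebraMap A K)).comap ν.toRingHom := by
  rw [Ideal.map_le_iff_le_comap]
  intro a ha
  rw [Ideal.mem_comap, Ideal.mem_comap]
  show ν (algebraMap A C a) ∈ _
  rw [ν.commutes]
  exact Ideal.mem_map_of_mem _ ha

/-- the map of quotients by the extensions of an ideal -/
abbrev quotMap (I : Ideal A) (ν : C →ₐ[A] K) : C ⧸ I.map (algebraMap A C) →+* K ⧸ I.map (algebraMap A K) :=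
  Ideal.quotientMap (I.map (algebraMap A K)) ν.toRingHom (map_le_comap I ν)

/-- modules killed by the ideal -/
theorem injective_of_smul_eq_zero (I : Ideal A) (ν : C →ₐ[A] K)
    (h : (quotMap I ν).FaithfullyFlat)
    (M : Type u) [AddCommGroup M] [Module A M] (hM : ∀ a ∈ I, ∀ m : M, a • m = 0) :
    Function.Injective (ν.toLinearMap.rTensor M) := by
  let IC := I.map (algebraMap A C)
  let IK := I.map (algebraMap A K)
  let R := C ⧸ IC
  let R' := K ⧸ IK
  algebraize [quotMap I ν]
  haveI : Module.FaithfullyFlat R R' := h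
  haveI : IsScalarTower A R R' := IsScalarTower.of_algebraMap_eq fun a => by
    show Ideal.Quotient.mk IK (algebraMap A K a) = quotMap I ν (Ideal.Quotient.mk IC (algebraMap A C a))
    rw [Ideal.quotientMap_mk]
    exact congrArg _ (ν.commutes a).symm
  let mC : C →ₗ[A] R := (Ideal.Quotient.mkₐ A IC).toLinearMap
  let mK : K →ₗ[A] R' := (Ideal.Quotient.mkₐ A IK).toLinearMap
  have hC : Function.Injective (mC.rTensor M) := by
    rw [← LinearMap.ker_eq_bot, LinearMap.ker_eq_bot']
    intro z hz
    have hex : Function.Exact (IC.restrictScalars A).subtype mC :=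
      LinearMap.exact_iff.2 (by
        ext c
        rw [Submodule.range_subtype, LinearMap.mem_ker, Submodule.restrictScalars_mem]
        exact Ideal.Quotient.eq_zero_iff_mem)
    obtain ⟨w, rfl⟩ := (rTensor_exact M hex (Ideal.Quotient.mk_surjective (I := IC)) z).1 hz
    have h0 : (IC.restrictScalars A).subtype.rTensor M = 0 := TensorProduct.ext' fun c m => by
      rw [LinearMap.rTensor_tmul, LinearMap.zero_apply]
      have key : ∀ c ∈ IC, ∀ d : C, (d * c) ⊗ₜ[A] m = 0 := by
        intro c hc
        refine Submodule.span_induction (fun x hx d => ?_) (fun d => by rw [mul_zero, TensorProduct.zero_tmul])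
          (fun x y _ _ hx hy d => by rw [mul_add, TensorProduct.add_tmul, hx, hy, add_zero])
          (fun e x _ hx d => by rw [smul_eq_mul, ← mul_assoc]; exact hx _) hc
        obtain ⟨a, ha, rfl⟩ := hx
        rw [mul_comm, ← Algebra.smul_def, TensorProduct.smul_tmul, hM a ha, TensorProduct.tmul_zero]
      simpa using key _ c.2 1
    rw [h0]
    rfl
  have hmk := Module.FaithfullyFlat.tensorProduct_mk_injective (A := R) (B := R') (R ⊗[A] M)
  let Φ := (TensorProduct.AlgebraTensorModule.cancelBaseChange A R R' R' M).symm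
  have e : ∀ z : C ⊗[A] M, TensorProduct.mk R R' (R ⊗[A] M) 1 (mC.rTensor M z) =
      Φ (mK.rTensor M (ν.toLinearMap.rTensor M z)) := by
    intro z
    induction z with
    | zero => simp
    | add x y hx hy => simp only [map_add, hx, hy]
    | tmul c m =>
      rw [LinearMap.rTensor_tmul, LinearMap.rTensor_tmul, LinearMap.rTensor_tmul,
        TensorProduct.AlgebraTensorModule.cancelBaseChange_symm_tmul, TensorProduct.mk_apply]
      show (1 : R') ⊗ₜ[R] ((Ideal.Quotient.mk IC c) ⊗ₜ[A] m) = Ideal.Quotient.mk IK (ν c) ⊗ₜ[R] ((1 : R) ⊗ₜ[A] m)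
      have e1 : (Ideal.Quotient.mk IC c) ⊗ₜ[A] m = (Ideal.Quotient.mk IC c) • ((1 : R) ⊗ₜ[A] m) := by
        rw [TensorProduct.smul_tmul', smul_eq_mul, mul_one]
      rw [e1, ← TensorProduct.smul_tmul]
      congr 1
      rw [Algebra.smul_def, mul_one, RingHom.algebraMap_toAlgebra, Ideal.quotientMap_mk]
      rfl
  intro z w hzw
  refine hC (hmk ?_)
  rw [e, e, hzw]

/-- modules killed by a power of the ideal -/
theorem injective_of_pow_smul_eq_zero [Module.Flat A K] (I : Ideal A) (ν : C →ₐ[A] K)
    (h : (quotMap I ν).FaithfullyFlat)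
    (m : ℕ) : ∀ (M : Type u) [AddCommGroup M] [Module A M], (∀ a ∈ I ^ m, ∀ x : M, a • x = 0) →
      Function.Injective (ν.toLinearMap.rTensor M) := by
  induction m with
  | zero =>
    intro M _ _ hM
    haveI : Subsingleton M := subsingleton_of_forall_eq 0 fun x => by
      simpa using hM 1 (by simp) x
    haveI : Subsingleton (C ⊗[A] M) := subsingleton_of_forall_eq 0 fun z => by
      induction z with
      | zero => rfl
      | add x y hx hy => rw [hx, hy, add_zero]
      | tmul c x => rw [Subsingleton.elim x 0, TensorProduct.tmul_zero]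
    exact Function.injective_of_subsingleton _
  | succ m ih =>
    intro M _ _ hM
    let N : Submodule A M := I • ⊤
    have hN : ∀ a ∈ I ^ m, ∀ x : N, a • x = 0 := by
      intro a ha x
      apply Subtype.ext
      show a • (x : M) = 0
      refine Submodule.smul_induction_on x.2 (fun r hr y _ => ?_) (fun y y' hy hy' => by rw [smul_add, hy, hy', add_zero])
      rw [smul_smul]
      exact hM _ (by rw [pow_succ]; exact Ideal.mul_mem_mul ha hr) y
    have h1 := injective_of_smul_eq_zero I ν h (M ⧸ N) fun a ha x => by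
      obtain ⟨y, rfl⟩ := Submodule.Quotient.mk_surjective N x
      rw [← Submodule.Quotient.mk_smul, Submodule.Quotient.mk_eq_zero]
      exact Submodule.smul_mem_smul ha Submodule.mem_top
    have h2 := ih N hN
    rw [← LinearMap.ker_eq_bot, LinearMap.ker_eq_bot']
    intro z hz
    have e1 : ν.toLinearMap.rTensor (M ⧸ N) (N.mkQ.lTensor C z) = N.mkQ.lTensor K (ν.toLinearMap.rTensor M z) := by
      rw [← LinearMap.comp_apply, LinearMap.rTensor_comp_lTensor, ← LinearMap.lTensor_comp_rTensor]
      rfl
    rw [hz, map_zero] at e1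
    have e2 : N.mkQ.lTensor C z = 0 := h1 (e1.trans (map_zero _).symm)
    obtain ⟨w, rfl⟩ := (lTensor_exact C (LinearMap.exact_subtype_mkQ N) N.mkQ_surjective z).1 e2
    have e3 : N.subtype.lTensor K (ν.toLinearMap.rTensor N w) = 0 := by
      rw [← LinearMap.comp_apply, LinearMap.lTensor_comp_rTensor, ← LinearMap.rTensor_comp_lTensor]
      exact hz
    have e4 : ν.toLinearMap.rTensor N w = 0 :=
      Module.Flat.lTensor_preserves_injective_linearMap N.subtype N.injective_subtype (e3.trans (map_zero _).symm)
    rw [h2 (e4.trans (map_zero _).symm), map_zero]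

/-- torsion elements are detected modulo the ideal -/
theorem eq_zero_of_torsion [Module.Flat A C] [Module.Flat A K] (I : Ideal A) (hI : I.FG) (ν : C →ₐ[A] K)
    (h : (quotMap I ν).FaithfullyFlat)
    (x : C) (hx : ∀ a ∈ I, ∃ n : ℕ, a ^ n • x = 0) (hνx : ν x = 0) : x = 0 := by
  obtain ⟨N, hN⟩ := Ideal.exists_pow_le_of_le_radical_of_fg
    (I := I) (J := (⊥ : Submodule A C).colon {x}) (fun a ha => by
      obtain ⟨n, hn⟩ := hx a ha
      exact ⟨n, Submodule.mem_colon_singleton.2 ((Submodule.mem_bot A).2 hn)⟩) hI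
  obtain ⟨s, hs⟩ := Ideal.FG.pow (n := N) hI
  let g : A →ₗ[A] (s → A) := LinearMap.pi fun j => (j : A) • LinearMap.id
  let T := LinearMap.ker g
  have hT : ∀ a ∈ I ^ N, ∀ y : T, a • y = 0 := by
    intro a ha y
    rw [← hs] at ha
    refine Submodule.span_induction (fun b hb => ?_) (zero_smul A y)
      (fun b c _ _ hb hc => by rw [add_smul, hb, hc, add_zero])
      (fun e b _ hb => by rw [smul_eq_mul, mul_smul, hb, smul_zero]) ha
    exact Subtype.ext (congrFun (LinearMap.mem_ker.1 y.2) ⟨b, hb⟩)
  have hex : Function.Exact T.subtype g := LinearMap.exact_iff.2 (by rw [Submodule.range_subtype])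
  have hgx : g.lTensor C (x ⊗ₜ[A] (1 : A)) = 0 := by
    classical
    apply (TensorProduct.piRight A A C (fun _ : s => A)).injective
    rw [map_zero, LinearMap.lTensor_tmul, TensorProduct.piRight_apply, TensorProduct.piRightHom_tmul]
    funext j
    show x ⊗ₜ[A] ((j : A) • (1 : A)) = 0
    have hj : (j : A) • x = 0 :=
      (Submodule.mem_bot A).1 (Submodule.mem_colon_singleton.1 (hN (hs ▸ Ideal.subset_span j.2)))
    rw [← TensorProduct.smul_tmul, hj, TensorProduct.zero_tmul]
  obtain ⟨w, hw⟩ := (Module.Flat.lTensor_exact C hex _).1 hgx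
  have e1 : T.subtype.lTensor K (ν.toLinearMap.rTensor T w) = 0 := by
    rw [← LinearMap.comp_apply, LinearMap.lTensor_comp_rTensor, ← LinearMap.rTensor_comp_lTensor, LinearMap.comp_apply,
      hw, LinearMap.rTensor_tmul]
    show ν x ⊗ₜ[A] (1 : A) = 0
    rw [hνx, TensorProduct.zero_tmul]
  have e2 : ν.toLinearMap.rTensor T w = 0 :=
    Module.Flat.lTensor_preserves_injective_linearMap T.subtype T.injective_subtype (e1.trans (map_zero _).symm)
  have e3 : w = 0 := injective_of_pow_smul_eq_zero I ν h N T hT (e2.trans (map_zero _).symm)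
  rw [e3, map_zero] at hw
  simpa using congrArg (TensorProduct.rid A C) hw.symm

end Groth.Agent.AlgSpLib.ModifTorsion
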