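import Groth.Agent.AlgSpLib.SepDescent
import Groth.Agent.AlgSpLib.ModifCover
import Groth.Agent.AlgSpLib.ModifTorsion
import Groth.Agent.S10704

/-!
Charts adapted to a modification along a closed subspace.
-/

universe u

open CategoryTheory CategoryTheory.Limits AlgebraicGeometry
open AlgSp

noncomputable section

set_option linter.style.haveILetI false

namespace Groth.Agent.AlgSpLib.ModifGlue

open Groth.Agent.AlgSpLib

set_option backward.isDefEq.respectTransparency.types false
set_option backward.isDefEq.respectTransparency false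

variable {S : Scheme.{u}}

/-- a flat chart of the base change along an affine chart, covering the closed part -/
theorem exists_flat_cover {X Y : Sp S} (hX : IsAlgSpace X) (hY : IsAlgSpace Y) (f : Y ⟶ X)
    (hqc : IsQuasiCompactMor f) {Zr : Set (Points X)} (hZ : IsClosed Zr)
    (hflat : ∀ y, Points.map f y ∈ Zr → IsFlatAtMor f y) {T : Over S} [hT : IsAffine T.left]
    (t : (yon S).obj T ⟶ X) (ht : RepWith @Etale t) :
    ∃ (D : Over S) (dT : D ⟶ T) (δ : (yon S).obj D ⟶ pullback f t), IsAffine D.left ∧ Flat dT.left ∧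
      δ ≫ pullback.snd f t = (yon S).map dT ∧ RepWith @Flat δ ∧
      ∀ q : Points (pullback f t), Points.map (pullback.fst f t ≫ f) q ∈ Zr → q ∈ Set.range (Points.ofPt δ) := by
  have sq := IsPullback.of_hasPullback f t
  have hYT : IsAlgSpace (pullback f t) := isAlgSpace_of_isPullback hX.diag hY (IsAlgSpace.yon_obj T) sq
  have : CompactSpace (Points (pullback f t)) := compactSpace_points_of_isQuasiCompactSp
    (hqc (IsAlgSpace.yon_obj T) ((isQuasiCompactSp_iff_compactSpace (IsAlgSpace.yon_obj T)).2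
      (Points.schemeHomeo T).compactSpace) t (pullback.fst f t) (pullback.snd f t) sq)
  obtain ⟨V, ψ, hV, hψe, hψs⟩ := exists_affine_chart hYT
  obtain ⟨h, hh⟩ := (yon S).map_surjective (ψ ≫ pullback.snd f t)
  let b := ψ ≫ pullback.fst f t
  have hbe : RepWith @Etale b := RepWith.comp hψe (RepWith.baseChange sq.flip ht)
  have wb : b ≫ f = (yon S).map h ≫ t := by rw [hh, Category.assoc, Category.assoc, sq.w]
  obtain ⟨D, d, hD, hdV, hdf, hC⟩ := exists_flat_nbhd' h.left
    ((hZ.preimage (Points.continuous_ofPt t)).preimage h.left.continuous) fun v hv => by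
      refine (isFlatAtMor_iff hY hX f b t h hbe ht wb v).1 (hflat _ ?_)
      rw [Points.map_ofPt, wb, ofPt_map]
      exact hv
  let dV : Over.mk (d ≫ V.hom) ⟶ V := Over.homMk d rfl
  refine ⟨_, dV ≫ h, (yon S).map dV ≫ ψ, hD, hdf, by rw [Category.assoc, ← hh, Functor.map_comp],
    RepWith.comp ((repWith_yon_map_iff @Flat dV).2 hdV) (RepWith.mono etale_le_flat hψe), fun q hq => ?_⟩
  obtain ⟨v, rfl⟩ := surjective_ofPt ψ hψs q
  rw [Points.map_ofPt, ← Category.assoc, wb, ofPt_map] at hq
  obtain ⟨e, he⟩ := hC hq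
  refine ⟨e, ?_⟩
  rw [ofPt_map]
  exact congrArg _ he

/-- fibre products of affine schemes over a space quasi-separated over an affine scheme are quasi-compact -/
theorem compactSpace_of_qs {T : Over S} [IsAffine T.left] {P : Sp S} {π : P ⟶ (yon S).obj T}
    (hπ : IsQuasiSeparatedMor π) {R D E : Over S} [IsAffine R.left] [IsAffine D.left] {a : (yon S).obj R ⟶ P}
    {b : (yon S).obj D ⟶ P} {e₁ : E ⟶ R} {e₂ : E ⟶ D}
    (sq : IsPullback ((yon S).map e₁) ((yon S).map e₂) a b) : CompactSpace E.left := by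
  obtain ⟨u, hu⟩ := (yon S).map_surjective (a ≫ π)
  obtain ⟨v, hv⟩ := (yon S).map_surjective (b ≫ π)
  let W : Over S := Over.mk (pullback.fst u.left v.left ≫ R.hom)
  let p₁ : W ⟶ R := Over.homMk (pullback.fst u.left v.left) rfl
  let p₂ : W ⟶ D := Over.homMk (pullback.snd u.left v.left) (by
    show _ = pullback.fst u.left v.left ≫ R.hom
    rw [← Over.w u, ← Over.w v, pullback.condition_assoc])
  have sqW : IsPullback p₁ p₂ u v :=
    IsPullback.of_map (Over.forget S) (Over.OverMorphism.ext pullback.condition)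
      (IsPullback.of_hasPullback u.left v.left)
  haveI : IsAffine W.left := inferInstanceAs (IsAffine (pullback u.left v.left))
  have hw : ((yon S).map p₁ ≫ a) ≫ π = ((yon S).map p₂ ≫ b) ≫ π := by
    rw [Category.assoc, Category.assoc, ← hu, ← hv, ← Functor.map_comp, ← Functor.map_comp, sqW.w]
  have sqd := hπ.1.isPullback (pullback.lift _ _ hw)
  let E' := hπ.1.pullback (pullback.lift _ _ hw)
  let ι : E' ⟶ W := hπ.1.snd (pullback.lift _ _ hw)
  haveI : QuasiCompact ι.left := hπ.property_snd _
  haveI : CompactSpace E'.left := QuasiCompact.compactSpace_of_compactSpace ι.left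
  have w1 : (yon S).map ι ≫ (yon S).map p₁ ≫ a = (yon S).map ι ≫ (yon S).map p₂ ≫ b := by
    have w1 := congrArg (· ≫ pullback.fst π π) sqd.w
    have w2 := congrArg (· ≫ pullback.snd π π) sqd.w
    simp only [Category.assoc, pullback.lift_fst, pullback.lift_snd, pullback.diagonal_fst, pullback.diagonal_snd,
      Category.comp_id] at w1 w2
    exact w1.symm.trans w2
  obtain ⟨k, hk1, hk2⟩ := sq.exists_lift ((yon S).map (ι ≫ p₁)) ((yon S).map (ι ≫ p₂))
    (by rw [Functor.map_comp, Functor.map_comp, Category.assoc, Category.assoc, w1])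
  obtain ⟨k, rfl⟩ := (yon S).map_surjective k
  obtain ⟨m, hm1, hm2⟩ := sqW.exists_lift e₁ e₂ ((yon S).map_injective (by
    rw [Functor.map_comp, Functor.map_comp, hu, hv, reassoc_of% sq.w]))
  obtain ⟨k', -, hk'⟩ := sqd.exists_lift ((yon S).map e₁ ≫ a) ((yon S).map m) (by
    apply pullback.hom_ext
    · simp only [Category.assoc, pullback.lift_fst, pullback.diagonal_fst, Category.comp_id,
        ← Functor.map_comp_assoc, hm1]
    · simp only [Category.assoc, pullback.lift_snd, pullback.diagonal_snd, Category.comp_id,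
        ← Functor.map_comp_assoc, hm2, sq.w])
  obtain ⟨k', rfl⟩ := (yon S).map_surjective k'
  have hk'' : k' ≫ ι = m := (yon S).map_injective (by rw [Functor.map_comp]; exact hk')
  have hid : k' ≫ k = 𝟙 E := (yon S).map_injective (sq.hom_ext
    (by rw [Functor.map_comp, Category.assoc, hk1, ← Functor.map_comp, ← Category.assoc k', hk'', hm1,
      CategoryTheory.Functor.map_id, Category.id_comp])
    (by rw [Functor.map_comp, Category.assoc, hk2, ← Functor.map_comp, ← Category.assoc k', hk'', hm2,
      CategoryTheory.Functor.map_id, Category.id_comp]))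
  have hs : Function.Surjective k.left := fun x => ⟨k'.left x, by
    rw [← Scheme.Hom.comp_apply, ← Over.comp_left, hid]
    rfl⟩
  exact hs.compactSpace k.left.continuous

/-- morphisms agreeing over the closed subspace -/
theorem eq_over_closed {X Y Z FZ : Sp S} {f : Y ⟶ X} {i : Z ⟶ X} {iY : FZ ⟶ Y} {fZ : FZ ⟶ Z}
    (hFZ : IsPullback iY fZ f i) [IsIso fZ] {P : Sp S} (a b : P ⟶ Y) (z : P ⟶ Z) (ha : a ≫ f = z ≫ i)
    (hb : b ≫ f = z ≫ i) : a = b := by
  obtain ⟨u, hu1, hu2⟩ := hFZ.exists_lift a z ha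
  obtain ⟨v, hv1, hv2⟩ := hFZ.exists_lift b z hb
  rw [← hu1, ← hv1, (cancel_mono fZ).1 (hu2.trans hv2.symm)]

/-- the ideal of the closed subspace on an affine chart -/
theorem exists_ideal {X Z : Sp S} (hX : IsAlgSpace X) (hZ : IsAlgSpace Z) {i : Z ⟶ X}
    (hi : RepWith @IsClosedImmersion i) (hifp : LocP @LocallyOfFinitePresentation i) {T : Over S} [IsAffine T.left]
    (t : (yon S).obj T ⟶ X) :
    ∃ I : Ideal Γ(T.left, ⊤), I.FG ∧
      (∀ z : T.left, Points.ofPt t z ∈ Set.range (Points.map i) ↔ ∀ a ∈ I, z ∉ T.left.basicOpen a) ∧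
      ∀ {G : Over S} [IsAffine G.left] (m : G ⟶ T), I ≤ RingHom.ker m.left.appTop.hom →
        ∃ z : (yon S).obj G ⟶ Z, z ≫ i = (yon S).map m ≫ t := by
  let ZT := hi.1.pullback t
  let e : ZT ⟶ T := hi.1.snd t
  have sqi := hi.1.isPullback t
  haveI : IsClosedImmersion e.left := hi.property_snd t
  haveI : LocallyOfFinitePresentation e.left :=
    ((repWith_iff_locP etLocal_lfp hZ hX hi.1).2 hifp).property_snd t
  haveI : IsAffine ZT.left := isAffine_of_isAffineHom e.left
  have hsurj : Function.Surjective e.left.appTop :=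
    IsClosedImmersion.isAffine_surjective_of_isAffine e.left |>.2
  let I := RingHom.ker e.left.appTop.hom
  have hfp : e.left.appTop.hom.FinitePresentation :=
    (HasRingHomProperty.iff_of_isAffine (P := @LocallyOfFinitePresentation)).1 inferInstance
  refine ⟨I, by
      algebraize [e.left.appTop.hom]
      exact Algebra.FinitePresentation.ker_fG_of_surjective (Algebra.ofId Γ(T.left, ⊤) Γ(ZT.left, ⊤)) hsurj, fun z => ⟨?_, fun hz => ?_⟩, fun {G} _ m hm => ?_⟩
  · rintro ⟨z', hz'⟩ a ha hza
    obtain ⟨w, -, hw⟩ := exists_point_of_isPullback sqi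
      (show Points.map i z' = Points.map t (Points.ofScheme T z) by rw [hz', Points.ofPt_eq_map_ofScheme])
    obtain ⟨r, rfl⟩ := (Points.schemeEquiv _).surjective w
    have hr : e.left r = z := (Points.schemeEquiv T).injective ((map_yon_map_ofScheme _ r).symm.trans hw)
    have h1 : r ∈ e.left ⁻¹ᵁ T.left.basicOpen a := by
      rw [← hr] at hza
      exact hza
    rw [Scheme.preimage_basicOpen] at h1
    rw [show e.left.app ⊤ a = 0 from ha, Scheme.basicOpen_zero] at h1
    exact h1
  · have hz' : T.left.isoSpec.hom z ∈ PrimeSpectrum.zeroLocus (I : Set Γ(T.left, ⊤)) := by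
      intro a ha
      by_contra hne
      refine hz a ha ?_
      rw [← Scheme.toSpecΓ_preimage_basicOpen, ← Scheme.isoSpec_hom]
      exact hne
    have hr : Set.range (PrimeSpectrum.comap e.left.appTop.hom) = PrimeSpectrum.zeroLocus (I : Set Γ(T.left, ⊤)) :=
      range_comap_of_surjective Γ(ZT.left, ⊤) e.left.appTop.hom hsurj
    obtain ⟨r, hr'⟩ := hr.ge hz'
    refine ⟨Points.ofPt (hi.1.fst t) (ZT.left.isoSpec.inv r), ?_⟩
    rw [Points.map_ofPt, sqi.w, ofPt_map]
    congr 1
    have hn := Scheme.isoSpec_inv_naturality e.left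
    have h2 : e.left (ZT.left.isoSpec.inv r) = T.left.isoSpec.inv (Spec.map e.left.appTop r) :=
      (congrArg (fun q => q r) hn).symm
    refine h2.trans ?_
    rw [show Spec.map e.left.appTop r = T.left.isoSpec.hom z from hr', ← Scheme.Hom.comp_apply, Iso.hom_inv_id]
    rfl
  · let χ : Γ(ZT.left, ⊤) →+* Γ(G.left, ⊤) := RingHom.liftOfSurjective e.left.appTop.hom hsurj ⟨m.left.appTop.hom, hm⟩
    have hχ : χ.comp e.left.appTop.hom = m.left.appTop.hom := RingHom.liftOfRightInverse_comp _ _ _ _
    let m' : G.left ⟶ ZT.left := G.left.isoSpec.hom ≫ Spec.map (CommRingCat.ofHom χ) ≫ ZT.left.isoSpec.inv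
    have hm' : m' ≫ e.left = m.left := by
      simp only [m', Category.assoc]
      rw [← Scheme.isoSpec_inv_naturality e.left, ← Category.assoc (Spec.map _), ← Spec.map_comp,
        show e.left.appTop ≫ CommRingCat.ofHom χ = m.left.appTop from CommRingCat.hom_ext hχ,
        ← Category.assoc, Scheme.isoSpec_hom_naturality m.left, Category.assoc, Iso.hom_inv_id, Category.comp_id]
    let mO : G ⟶ ZT := Over.homMk m' (by rw [← Over.w e, ← Category.assoc, hm']; exact Over.w m)
    refine ⟨(yon S).map mO ≫ hi.1.fst t, ?_⟩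
    rw [Category.assoc, sqi.w, ← Functor.map_comp_assoc]
    exact congrArg (fun q => (yon S).map q ≫ t) (Over.OverMorphism.ext hm')

end Groth.Agent.AlgSpLib.ModifGlue
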