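import Groth.Agent.AlgSpLib.ModifGlueChart
import Groth.Agent.AlgSpLib.FOLift

/-!
Glueing morphisms into separated spaces along a modification.
-/

universe u

open CategoryTheory CategoryTheory.Limits AlgebraicGeometry
open AlgSp

noncomputable section

set_option linter.style.haveILetI false

namespace Groth.Agent.AlgSpLib.ModifGlue

open Groth.Agent.AlgSpLib

set_option backward.isDefEq.respectTransparency.types false
set_option backward.isDefEq.respectTransparency false

/-- the data to be glued -/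
structure Datum (S : Scheme.{u}) where
  (X Y Z FZ U X₁ X₂ A₁U A₁Y : Sp S)
  hX : IsAlgSpace X
  hY : IsAlgSpace Y
  hZ : IsAlgSpace Z
  hX₁ : IsAlgSpace X₁
  hX₂ : IsAlgSpace X₂
  f : Y ⟶ X
  hqc : IsQuasiCompactMor f
  hqs : IsQuasiSeparatedMor f
  i : Z ⟶ X
  hi : RepWith @IsClosedImmersion i
  hifp : LocP @LocallyOfFinitePresentation i
  iY : FZ ⟶ Y
  fZ : FZ ⟶ Z
  hFZ : IsPullback iY fZ f i
  isoFZ : IsIso fZ
  hflat : ∀ y ∈ Set.range (Points.map iY), IsFlatAtMor f y
  j : U ⟶ X
  hj : RepWith @IsOpenImmersion j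
  hU : Set.range (Points.map j) = (Set.range (Points.map i))ᶜ
  p₁ : X₁ ⟶ X
  p₂ : X₂ ⟶ X
  hp₂ : IsSeparatedMor p₂
  a₁U : A₁U ⟶ X₁
  r₁U : A₁U ⟶ U
  h₁U : IsPullback a₁U r₁U p₁ j
  a₁Y : A₁Y ⟶ X₁
  r₁Y : A₁Y ⟶ Y
  h₁Y : IsPullback a₁Y r₁Y p₁ f
  φU : A₁U ⟶ X₂
  φY : A₁Y ⟶ X₂
  hφU : φU ≫ p₂ = a₁U ≫ p₁
  hφY : φY ≫ p₂ = a₁Y ≫ p₁
  hUY : ∀ {P : Sp S} (u : P ⟶ A₁U) (y : P ⟶ A₁Y), u ≫ a₁U = y ≫ a₁Y → u ≫ φU = y ≫ φY

variable {S : Scheme.{u}} (G : Datum S)

/-- compatibility with the given morphisms -/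
def Compat {R : Over S} (x : (yon S).obj R ⟶ G.X₁) (φ : (yon S).obj R ⟶ G.X₂) : Prop :=
  φ ≫ G.p₂ = x ≫ G.p₁ ∧
  (∀ (R' : Over S) (k : R' ⟶ R) (u : (yon S).obj R' ⟶ G.A₁U),
    (yon S).map k ≫ x = u ≫ G.a₁U → (yon S).map k ≫ φ = u ≫ G.φU) ∧
  ∀ (R' : Over S) (k : R' ⟶ R) (y : (yon S).obj R' ⟶ G.A₁Y),
    (yon S).map k ≫ x = y ≫ G.a₁Y → (yon S).map k ≫ φ = y ≫ G.φY

theorem compat_comp {R R₀ : Over S} (k : R₀ ⟶ R) {x : (yon S).obj R ⟶ G.X₁} {φ : (yon S).obj R ⟶ G.X₂}
    (h : Compat G x φ) : Compat G ((yon S).map k ≫ x) ((yon S).map k ≫ φ) :=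
  ⟨by rw [Category.assoc, Category.assoc, h.1],
  fun R' q u e => by
    rw [← Category.assoc, ← Functor.map_comp]
    exact h.2.1 R' (q ≫ k) u (by rw [Functor.map_comp, Category.assoc, e]),
  fun R' q y e => by
    rw [← Category.assoc, ← Functor.map_comp]
    exact h.2.2 R' (q ≫ k) y (by rw [Functor.map_comp, Category.assoc, e])⟩

theorem mono_a₁U : Mono G.a₁U :=
  haveI : Mono G.j := mono_of_repWith (fun _ _ g (_ : IsOpenImmersion g) => (inferInstance : Mono g)) G.hj
  G.h₁U.mono_fst_of_mono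

/-- equality on a coproduct is checked on the pieces -/
theorem ext_sigma {ι : Type u} {W : ι → Over S} {T' : Over S} {F : Sp S} (q : T' ⟶ sigmaOver W)
    (p p' : (yon S).obj T' ⟶ F)
    (h : ∀ (i : ι) (P : Over S) (k : P ⟶ T') (l : P ⟶ W i),
      k ≫ q = l ≫ sigmaOverι W i → (yon S).map k ≫ p = (yon S).map k ≫ p') : p = p' := by
  have hopen : ∀ i, IsOpenImmersion (pullback.fst q (sigmaOverι W i)).left := fun i => by
    have sq := ((IsPullback.of_hasPullback q (sigmaOverι W i)).map (Over.forget _))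
    exact MorphismProperty.of_isPullback (P := @IsOpenImmersion) sq.flip
      (inferInstanceAs (IsOpenImmersion (Sigma.ι (fun i => (W i).left) i)))
  haveI : ∀ i, Flat (pullback.fst q (sigmaOverι W i)).left := fun i => by have := hopen i; infer_instance
  haveI : ∀ i, LocallyOfFinitePresentation (pullback.fst q (sigmaOverι W i)).left := fun i => by
    have := hopen i; infer_instance
  refine yon_hom_ext_of_cover (fun i => pullback.fst q (sigmaOverι W i)) (fun z => ?_) p p' fun i =>
    h i _ _ (pullback.snd q (sigmaOverι W i)) pullback.condition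
  obtain ⟨i, t, ht⟩ := exists_mem_range_sigmaOverι W (q.left z)
  have sq := ((IsPullback.of_hasPullback q (sigmaOverι W i)).map (Over.forget _))
  obtain ⟨w', hw'1, -⟩ := Scheme.Pullback.exists_preimage_pullback z t ht.symm
  refine ⟨i, sq.isoPullback.inv w', ?_⟩
  refine Eq.trans ?_ hw'1
  exact congr($(sq.isoPullback_inv_fst) w')

theorem mem_basicOpen_iff {V : Scheme.{u}} [IsAffine V] (z : V) (a : Γ(V, ⊤)) :
    z ∈ V.basicOpen a ↔ a ∉ (V.isoSpec.hom z).asIdeal := by
  rw [← Scheme.toSpecΓ_preimage_basicOpen, Scheme.isoSpec_hom]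
  rfl

theorem not_mem_basicOpen_of_span {V : Scheme.{u}} [IsAffine V] (z : V) (s : Set Γ(V, ⊤))
    (h : ∀ a ∈ s, z ∉ V.basicOpen a) {a : Γ(V, ⊤)} (ha : a ∈ Ideal.span s) : z ∉ V.basicOpen a := by
  have hle : Ideal.span s ≤ (V.isoSpec.hom z).asIdeal := Ideal.span_le.2 fun b hb => by
    by_contra hne
    exact h b hb ((mem_basicOpen_iff z b).2 hne)
  rw [mem_basicOpen_iff, not_not]
  exact hle ha

/-- maps avoiding the closed subspace land in the open one -/
theorem exists_lift_open {W : Over S} (y : (yon S).obj W ⟶ G.X)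
    (hy : ∀ w : W.left, Points.ofPt y w ∉ Set.range (Points.map G.i)) :
    ∃ u : (yon S).obj W ⟶ G.U, u ≫ G.j = y := by
  have sqj := G.hj.1.isPullback y
  let ι' := G.hj.1.snd y
  haveI : IsOpenImmersion ι'.left := G.hj.property_snd _
  haveI : Surjective ι'.left := ⟨fun w => by
    have hw : Points.ofPt y w ∈ Set.range (Points.map G.j) := by
      rw [G.hU]
      exact hy w
    obtain ⟨z', hz'⟩ := hw
    obtain ⟨v, -, hv⟩ := exists_point_of_isPullback sqj
      (show Points.map G.j z' = Points.map y (Points.ofScheme W w) by rw [hz', Points.ofPt_eq_map_ofScheme])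
    obtain ⟨r, rfl⟩ := (Points.schemeEquiv _).surjective v
    exact ⟨r, (Points.schemeEquiv _).injective ((map_yon_map_ofScheme _ r).symm.trans hv)⟩⟩
  haveI : Epi ι'.left.base := (TopCat.epi_iff_surjective _).2 ι'.left.surjective
  haveI : IsIso ι'.left := IsOpenImmersion.isIso ι'.left
  haveI : IsIso ι' := by
    haveI : IsIso ((Over.forget S).map ι') := ‹IsIso ι'.left›
    exact isIso_of_reflects_iso ι' (Over.forget S)
  exact ⟨inv ((yon S).map ι') ≫ G.hj.1.fst y, by rw [Category.assoc, sqj.w, IsIso.inv_hom_id_assoc]⟩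

theorem isPullback_comp_mono {C : Type*} [Category C] {P A B X Y : C} {fst : P ⟶ A} {snd : P ⟶ B} {a : A ⟶ X}
    {b : B ⟶ X} (h : IsPullback fst snd a b) (m : X ⟶ Y) [Mono m] : IsPullback fst snd (a ≫ m) (b ≫ m) :=
  IsPullback.of_isLimit' ⟨by rw [← Category.assoc, h.w, Category.assoc]⟩
    (PullbackCone.IsLimit.mk _
      (fun s => h.lift s.fst s.snd ((cancel_mono m).1 (by simpa using s.condition)))
      (fun s => h.lift_fst _ _ _) (fun s => h.lift_snd _ _ _)
      fun s q h1 h2 => h.hom_ext (h1.trans (h.lift_fst _ _ _).symm) (h2.trans (h.lift_snd _ _ _).symm))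

/-- equality on a scheme is checked on affine opens -/
theorem ext_affineOpens {W : Over S} {F : Sp S} (p p' : (yon S).obj W ⟶ F)
    (h : ∀ (O : Over S) (m : O ⟶ W), IsAffine O.left → (yon S).map m ≫ p = (yon S).map m ≫ p') : p = p' := by
  refine yon_hom_ext_of_cover (fun O : W.left.affineOpens => restrictOverι W O.1) (fun z => ?_) p p' fun O =>
    h _ _ O.2
  obtain ⟨O, hzO, -⟩ := exists_affine_mem (x := z) (O := ⊤) trivial
  exact ⟨O, ⟨z, hzO⟩, rfl⟩

/-- a cover of an affine scheme by a piece over the closed part and pieces in the open subspace -/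
theorem exists_cover {T R K : Over S} [IsAffine T.left] [IsAffine R.left] [IsAffine K.left]
    (t : (yon S).obj T ⟶ G.X) (h : R ⟶ T) (x : (yon S).obj R ⟶ G.X₁) (hx : x ≫ G.p₁ = (yon S).map h ≫ t)
    {I : Ideal Γ(T.left, ⊤)} (hI : I.FG)
    (hIZ : ∀ z : T.left, Points.ofPt t z ∈ Set.range (Points.map G.i) ↔ ∀ a ∈ I, z ∉ T.left.basicOpen a)
    (k : K ⟶ R) (hk : Flat k.left)
    (hcov : ∀ z : R.left, Points.ofPt t (h.left z) ∈ Set.range (Points.map G.i) → z ∈ Set.range k.left) :
    ∃ (κ : Type u) (W : κ → Over S) (c : sigmaOver W ⟶ R),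
      IsAffine (sigmaOver W).left ∧ Flat c.left ∧ Surjective c.left ∧
      ∀ n, (∃ l : W n ⟶ K, sigmaOverι W n ≫ c = l ≫ k) ∨
        ∃ u : (yon S).obj (W n) ⟶ G.A₁U, (yon S).map (sigmaOverι W n ≫ c) ≫ x = u ≫ G.a₁U := by
  classical
  obtain ⟨σ, hσ⟩ := hI
  let O : σ → R.left.Opens := fun a => h.left ⁻¹ᵁ T.left.basicOpen (a : Γ(T.left, ⊤))
  have hO : ∀ a, IsAffineOpen (O a) := fun a => by
    simp only [O, Scheme.preimage_basicOpen]
    exact (isAffineOpen_top R.left).basicOpen _
  let W : Option σ → Over S := fun n => n.elim K fun a => restrictOver R (O a)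
  let c₀ : ∀ n, W n ⟶ R := fun n => match n with
    | none => k
    | some a => restrictOverι R (O a)
  obtain ⟨cy, hcy, -⟩ := existsUnique_desc_sigma W fun n => (yon S).map (c₀ n)
  obtain ⟨c, rfl⟩ := (yon S).map_surjective cy
  have hc : ∀ n, sigmaOverι W n ≫ c = c₀ n := fun n => (yon S).map_injective (by rw [Functor.map_comp]; exact hcy n)
  haveI : ∀ n, IsAffine (W n).left := fun n => match n with
    | none => ‹IsAffine K.left›
    | some a => hO a
  have hcl : c.left = Sigma.desc fun n => (c₀ n).left := Sigma.hom_ext _ _ fun n =>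
    (congrArg (fun r : W n ⟶ R => r.left) (hc n)).trans (Sigma.ι_desc (fun n => (c₀ n).left) n).symm
  refine ⟨Option σ, W, c, inferInstanceAs (IsAffine (∐ fun n => (W n).left)), ?_, ⟨fun z => ?_⟩, fun n => ?_⟩
  · rw [hcl]
    refine IsZariskiLocalAtSource.sigmaDesc fun n => ?_
    match n with
    | none => exact hk
    | some a => exact inferInstanceAs (Flat (O a).ι)
  · by_cases hz : Points.ofPt t (h.left z) ∈ Set.range (Points.map G.i)
    · obtain ⟨v, rfl⟩ := hcov z hz
      refine ⟨(sigmaOverι W none).left v, ?_⟩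
      rw [← Scheme.Hom.comp_apply, ← Over.comp_left, hc]
      rfl
    · rw [hIZ] at hz
      obtain ⟨a, haσ, haz⟩ : ∃ a ∈ σ, h.left z ∈ T.left.basicOpen a := by
        by_contra hne
        refine hz fun a ha => ?_
        rw [← hσ] at ha
        exact not_mem_basicOpen_of_span _ _ (fun b hb hb' => hne ⟨b, hb, hb'⟩) ha
      refine ⟨(sigmaOverι W (some ⟨a, haσ⟩)).left ⟨z, haz⟩, ?_⟩
      rw [← Scheme.Hom.comp_apply, ← Over.comp_left, hc]
      rfl
  · match n with
    | none => exact .inl ⟨𝟙 _, by rw [hc, Category.id_comp]⟩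
    | some a =>
      refine .inr ?_
      let m : W (some a) ⟶ R := restrictOverι R (O a)
      obtain ⟨uU, huU⟩ := exists_lift_open G ((yon S).map m ≫ x ≫ G.p₁) fun w => by
        rw [hx, ← Functor.map_comp_assoc, ofPt_map]
        intro hmem
        exact (hIZ _).1 hmem a.1 (hσ ▸ Ideal.subset_span a.2) (show h.left (m.left w) ∈ _ from w.2)
      obtain ⟨u, hu, -⟩ := G.h₁U.exists_lift ((yon S).map m ≫ x) uU (by rw [Category.assoc, huU])
      exact ⟨u, by rw [hc]; exact hu.symm⟩

/-- the scheme theoretic agreement criterion -/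
theorem eq_of_torsion {R C K : Over S} [IsAffine R.left] [IsAffine C.left] [IsAffine K.left] (cR : C ⟶ R)
    (ν : K ⟶ C) (hCf : Flat cR.left) (hKf : Flat (ν ≫ cR).left) {I : Ideal Γ(R.left, ⊤)} (hI : I.FG)
    (hZ : ∀ {Q : Over S} [IsAffine Q.left] (g : Q ⟶ C), I ≤ RingHom.ker (g ≫ cR).left.appTop.hom →
      Flat (pullback.snd ν.left g.left) ∧ Surjective (pullback.snd ν.left g.left))
    {X₂ X : Sp S} {p : X₂ ⟶ X} (hp : IsSeparatedMor p) (φ φ' : (yon S).obj C ⟶ X₂) (h : φ ≫ p = φ' ≫ p)
    (eν : (yon S).map ν ≫ φ = (yon S).map ν ≫ φ')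
    (eI : ∀ a ∈ I, (yon S).map (restrictOverι C (cR.left ⁻¹ᵁ R.left.basicOpen a)) ≫ φ =
      (yon S).map (restrictOverι C (cR.left ⁻¹ᵁ R.left.basicOpen a)) ≫ φ') : φ = φ' := by
  have sq := hp.1.isPullback (pullback.lift φ φ' h)
  let ι := hp.1.snd (pullback.lift φ φ' h)
  haveI : IsClosedImmersion ι.left := hp.property_snd _
  have fac : ∀ {T : Over S} (c : T ⟶ C), (yon S).map c ≫ φ = (yon S).map c ≫ φ' → ∃ s, s ≫ ι = c := by
    intro T c e
    obtain ⟨σ, -, hσ⟩ := sq.exists_lift ((yon S).map c ≫ φ) ((yon S).map c) (by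
      apply pullback.hom_ext
      · simp [pullback.lift_fst]
      · simp [pullback.lift_snd, e])
    obtain ⟨σ', rfl⟩ := (yon S).map_surjective σ
    exact ⟨σ', (yon S).map_injective (by rw [Functor.map_comp]; exact hσ)⟩
  let A := Γ(R.left, ⊤)
  algebraize [cR.left.appTop.hom, (ν ≫ cR).left.appTop.hom]
  haveI : Module.Flat A Γ(C.left, ⊤) :=
    (RingHom.flat_algebraMap_iff).1 ((HasRingHomProperty.iff_of_isAffine (P := @Flat)).1 hCf)
  haveI : Module.Flat A Γ(K.left, ⊤) :=
    (RingHom.flat_algebraMap_iff).1 ((HasRingHomProperty.iff_of_isAffine (P := @Flat)).1 hKf)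
  let νA : Γ(C.left, ⊤) →ₐ[A] Γ(K.left, ⊤) :=
    { ν.left.appTop.hom with
      commutes' := fun a => congrArg (fun q => q.hom a) (Scheme.Hom.comp_appTop ν.left cR.left).symm }
  let IC := I.map (algebraMap A Γ(C.left, ⊤))
  let IK := I.map (algebraMap A Γ(K.left, ⊤))
  let Q : Over S := Over.mk (Spec.map (CommRingCat.ofHom (Ideal.Quotient.mk IC)) ≫ C.left.isoSpec.inv ≫ C.hom)
  haveI : IsAffine Q.left := inferInstanceAs (IsAffine (Spec _))
  let g : Q ⟶ C := Over.homMk (Spec.map (CommRingCat.ofHom (Ideal.Quotient.mk IC)) ≫ C.left.isoSpec.inv)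
    (Category.assoc _ _ _)
  have hg : I ≤ RingHom.ker (g ≫ cR).left.appTop.hom := by
    intro a ha
    rw [RingHom.mem_ker, Over.comp_left, Scheme.Hom.comp_appTop]
    show g.left.appTop.hom (cR.left.appTop.hom a) = 0
    simp only [g, Over.homMk_left, Scheme.Hom.comp_appTop, CommRingCat.hom_comp, RingHom.comp_apply]
    have h3 : C.left.isoSpec.inv.appTop = (Scheme.ΓSpecIso Γ(C.left, ⊤)).inv := by
      have h6 := congrArg Scheme.Hom.appTop C.left.isoSpec.inv_hom_id
      rw [Scheme.Hom.comp_appTop, Scheme.Hom.id_appTop, Scheme.isoSpec_hom, Scheme.toSpecΓ_appTop] at h6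
      rw [← Iso.inv_hom_id_assoc (Scheme.ΓSpecIso Γ(C.left, ⊤)) C.left.isoSpec.inv.appTop]
      exact (congrArg _ h6).trans (Category.comp_id _)
    rw [h3]
    have e := congr($(Scheme.ΓSpecIso_inv_naturality (CommRingCat.ofHom (Ideal.Quotient.mk IC))) (cR.left.appTop.hom a))
    simp only [CommRingCat.hom_comp, RingHom.comp_apply] at e
    refine e.symm.trans ?_
    rw [show (CommRingCat.ofHom (Ideal.Quotient.mk IC)).hom (cR.left.appTop.hom a) = 0 from
      Ideal.Quotient.eq_zero_iff_mem.2 (Ideal.mem_map_of_mem _ ha), map_zero]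
  have hmap : IC.map νA.toRingHom = IK := by
    rw [Ideal.map_map]
    exact congrArg (fun q => I.map q) νA.comp_algebraMap
  have hpo : IsPushout (CommRingCat.ofHom νA.toRingHom) (CommRingCat.ofHom (Ideal.Quotient.mk IC))
      (CommRingCat.ofHom (Ideal.Quotient.mk IK)) (CommRingCat.ofHom (ModifTorsion.quotMap I νA)) := by
    refine ⟨⟨CommRingCat.hom_ext (RingHom.ext fun r => ?_)⟩, ⟨?_⟩⟩
    · exact (Ideal.quotientMap_mk (J := IC) (I := IK) (f := νA.toRingHom)
        (H := ModifTorsion.map_le_comap I νA) (x := r)).symm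
    have hk : ∀ (s : PushoutCocone (CommRingCat.ofHom νA.toRingHom) (CommRingCat.ofHom (Ideal.Quotient.mk IC))),
        ∀ r ∈ IK, s.inl.hom r = 0 := fun s r hr => by
      rw [← hmap] at hr
      refine (Ideal.map_le_iff_le_comap (K := RingHom.ker s.inl.hom)).2 (fun r hr => ?_) hr
      show s.inl.hom (νA.toRingHom r) = 0
      refine (congrArg (fun q => q.hom r) s.condition).trans ?_
      show s.inr.hom (Ideal.Quotient.mk IC r) = 0
      rw [Ideal.Quotient.eq_zero_iff_mem.2 hr, map_zero]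
    refine PushoutCocone.IsColimit.mk _ (fun s => CommRingCat.ofHom (Ideal.Quotient.lift IK s.inl.hom (hk s)))
      (fun s => CommRingCat.hom_ext (Ideal.Quotient.lift_comp_mk IK _ _)) (fun s => ?_) fun s m hm _ => ?_
    · refine CommRingCat.hom_ext (Ideal.Quotient.ringHom_ext (RingHom.ext fun r => ?_))
      show Ideal.Quotient.lift IK s.inl.hom (hk s) (ModifTorsion.quotMap I νA (Ideal.Quotient.mk IC r)) =
        s.inr.hom (Ideal.Quotient.mk IC r)
      rw [Ideal.quotientMap_mk, Ideal.Quotient.lift_mk]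
      exact congrArg (fun q => q.hom r) s.condition
    · refine CommRingCat.hom_ext (Ideal.Quotient.ringHom_ext ?_)
      show m.hom.comp (Ideal.Quotient.mk IK) = _
      rw [CommRingCat.hom_ofHom, Ideal.Quotient.lift_comp_mk]
      exact congrArg CommRingCat.Hom.hom hm
  have sqQ : IsPullback (Spec.map (CommRingCat.ofHom (Ideal.Quotient.mk IK)) ≫ K.left.isoSpec.inv)
      (Spec.map (CommRingCat.ofHom (ModifTorsion.quotMap I νA))) ν.left g.left := by
    have sq0 := isPullback_SpecMap_of_isPushout _ _ _ _ hpo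
    refine sq0.of_iso (Iso.refl _) K.left.isoSpec.symm (Iso.refl _) C.left.isoSpec.symm ?_ ?_ ?_ ?_
    · simp
    · simp
    · exact Scheme.isoSpec_inv_naturality ν.left
    · simp [g]
  obtain ⟨hf, hs⟩ := hZ g hg
  have hFF : (ModifTorsion.quotMap I νA).FaithfullyFlat := by
    rw [RingHom.FaithfullyFlat.iff_flat_and_comap_surjective]
    have e := sqQ.isoPullback_hom_snd
    haveI : Flat (Spec.map (CommRingCat.ofHom (ModifTorsion.quotMap I νA))) := by rw [← e]; infer_instance
    haveI : Surjective (Spec.map (CommRingCat.ofHom (ModifTorsion.quotMap I νA))) := by rw [← e]; infer_instance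
    have hfl : Flat (Spec.map (CommRingCat.ofHom (ModifTorsion.quotMap I νA))) := inferInstance
    exact ⟨(Flat.SpecMap_iff (f := CommRingCat.ofHom (ModifTorsion.quotMap I νA))).1 hfl,
      (Spec.map (CommRingCat.ofHom (ModifTorsion.quotMap I νA))).surjective⟩
  haveI : IsIso ι.left := by
    refine IsClosedImmersion.isIso_of_injective_of_isAffine ((injective_iff_map_eq_zero _).2 fun x hx => ?_)
    refine ModifTorsion.eq_zero_of_torsion I hI νA hFF x (fun a ha => ?_) ?_
    · obtain ⟨s, hs⟩ := fac _ (eI a ha)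
      let O := cR.left ⁻¹ᵁ R.left.basicOpen a
      have h1 : O.ι.appTop x = 0 := by
        have e1 : s.left ≫ ι.left = O.ι := congrArg (fun q => q.left) hs
        rw [← e1, Scheme.Hom.comp_appTop]
        show s.left.appTop (ι.left.appTop x) = 0
        rw [hx, map_zero]
      have hO : O = C.left.basicOpen (cR.left.appTop a) := Scheme.preimage_basicOpen cR.left a
      have hle : C.left.basicOpen (cR.left.appTop a) ≤ O := hO.ge
      have h2 : C.left.presheaf.map (homOfLE (le_top : C.left.basicOpen (cR.left.appTop a) ≤ ⊤)).op x = 0 := by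
        have e2 : C.left.presheaf.map (homOfLE (le_top : O.ι ''ᵁ ⊤ ≤ ⊤)).op x = 0 := h1
        have e3 := congrArg (C.left.presheaf.map (homOfLE (show C.left.basicOpen (cR.left.appTop a) ≤ O.ι ''ᵁ ⊤ by
          rw [Scheme.Opens.ι_image_top]; exact hle)).op) e2
        rw [map_zero, ← CommRingCat.comp_apply, ← Functor.map_comp] at e3
        exact e3
      haveI := (isAffineOpen_top C.left).isLocalization_basicOpen (cR.left.appTop a)
      obtain ⟨⟨_, n, rfl⟩, hn⟩ := (IsLocalization.map_eq_zero_iff (Submonoid.powers (cR.left.appTop a))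
        Γ(C.left, C.left.basicOpen (cR.left.appTop a)) x).1 h2
      refine ⟨n, ?_⟩
      rw [Algebra.smul_def, map_pow]
      exact hn
    · obtain ⟨s, hs⟩ := fac _ eν
      show ν.left.appTop x = 0
      rw [← hs, Over.comp_left, Scheme.Hom.comp_appTop]
      show s.left.appTop (ι.left.appTop x) = 0
      rw [hx, map_zero]
  haveI : IsIso ι := by
    haveI : IsIso ((Over.forget S).map ι) := ‹IsIso ι.left›
    exact isIso_of_reflects_iso ι (Over.forget S)
  rw [← cancel_epi ((yon S).map ι)]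
  have w1 := congrArg (· ≫ pullback.fst p p) sq.w
  have w2 := congrArg (· ≫ pullback.snd p p) sq.w
  simp only [Category.assoc, pullback.lift_fst, pullback.lift_snd, pullback.diagonal_fst, pullback.diagonal_snd,
    Category.comp_id] at w1 w2
  exact w1.symm.trans w2

/-- the morphism on an affine scheme over a chart -/
theorem existsUnique_compat {T R : Over S} [IsAffine T.left] [hR : IsAffine R.left] (t : (yon S).obj T ⟶ G.X)
    (ht : RepWith @Etale t) (h : R ⟶ T) (x : (yon S).obj R ⟶ G.X₁) (hx : x ≫ G.p₁ = (yon S).map h ≫ t) :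
    ∃! φ, Compat G x φ := by
  haveI := G.isoFZ
  have hmonoU := mono_a₁U G
  have hZc : IsClosed (Set.range (Points.map G.i)) := S10704.isClosed_range_map G.hX G.hi
  have hfl : ∀ y, Points.map G.f y ∈ Set.range (Points.map G.i) → IsFlatAtMor G.f y := by
    rintro y ⟨z, hz⟩
    obtain ⟨w, hw, -⟩ := exists_point_of_isPullback G.hFZ hz.symm
    exact G.hflat y ⟨w, hw⟩
  obtain ⟨D, dT, δ, hD, hdT, hδT, hδ, hδc⟩ := exists_flat_cover G.hX G.hY G.f G.hqc hZc hfl t ht
  haveI := hD
  obtain ⟨I, hI, hIZ, hIl⟩ := exists_ideal G.hX G.hZ G.hi G.hifp t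
  obtain ⟨lY, hlY⟩ : ∃ l, δ ≫ pullback.fst G.f t = l := ⟨_, rfl⟩
  have wlY : lY ≫ G.f = (yon S).map dT ≫ t := by rw [← hlY, Category.assoc, pullback.condition, reassoc_of% hδT]
  have hqsT : IsQuasiSeparatedMor (pullback.snd G.f t) :=
    isQuasiSeparatedMor_of_isPullback (IsPullback.of_hasPullback G.f t) G.hqs
  -- the piece over the closed part
  let DR : Over S := Over.mk (pullback.fst h.left dT.left ≫ R.hom)
  let dR : DR ⟶ R := Over.homMk (pullback.fst h.left dT.left) rfl
  let dD : DR ⟶ D := Over.homMk (pullback.snd h.left dT.left) (by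
    show _ = pullback.fst h.left dT.left ≫ R.hom
    rw [← Over.w h, ← Over.w dT, pullback.condition_assoc])
  have sqD : IsPullback dR dD h dT :=
    IsPullback.of_map (Over.forget S) (Over.OverMorphism.ext pullback.condition)
      (IsPullback.of_hasPullback h.left dT.left)
  haveI : IsAffine DR.left := inferInstanceAs (IsAffine (pullback h.left dT.left))
  have hdR : Flat dR.left := inferInstanceAs (Flat (pullback.fst h.left dT.left))
  obtain ⟨yD, hyD₁, hyD₂⟩ := G.h₁Y.exists_lift ((yon S).map dR ≫ x) ((yon S).map dD ≫ lY) (by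
    rw [Category.assoc, Category.assoc, hx, wlY, ← Functor.map_comp_assoc, ← Functor.map_comp_assoc, sqD.w])
  have hZD : ∀ z : R.left, Points.ofPt t (h.left z) ∈ Set.range (Points.map G.i) → z ∈ Set.range dR.left := by
    intro z hz
    obtain ⟨w, hw⟩ := hz
    obtain ⟨w', rfl⟩ : w ∈ Set.range (Points.map G.fZ) := ⟨Points.map (inv G.fZ) w, by
      rw [← Points.map_comp, IsIso.inv_hom_id, Points.map_id]⟩
    have e1 : Points.map G.f (Points.map G.iY w') = Points.map t (Points.ofScheme T (h.left z)) := by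
      rw [← Points.map_comp, G.hFZ.w, Points.map_comp, hw, Points.ofPt_eq_map_ofScheme]
    obtain ⟨q, -, hq⟩ := exists_point_of_isPullback (IsPullback.of_hasPullback G.f t) e1
    obtain ⟨d, hd⟩ := hδc q (by
      rw [pullback.condition, Points.map_comp, hq, ← Points.ofPt_eq_map_ofScheme]
      exact ⟨_, hw⟩)
    have hd' : dT.left d = h.left z := by
      apply (Points.schemeEquiv T).injective
      show Points.ofScheme T (dT.left d) = Points.ofScheme T (h.left z)
      rw [← map_yon_map_ofScheme dT d, ← hδT, Points.map_comp, ← Points.ofPt_eq_map_ofScheme δ, hd, hq]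
    have sqs := sqD.map (Over.forget S)
    obtain ⟨v, hv, -⟩ := Scheme.Pullback.exists_preimage_pullback z d hd'.symm
    exact ⟨sqs.isoPullback.inv v, Eq.trans (congr($(sqs.isoPullback_inv_fst) v)) hv⟩
  -- agreement on the double piece
  have hCC : ∀ (P : Over S) (a b : P ⟶ DR), a ≫ dR = b ≫ dR →
      (yon S).map a ≫ yD ≫ G.φY = (yon S).map b ≫ yD ≫ G.φY := by
    let C₀ : Over S := Over.mk (pullback.fst dT.left dT.left ≫ D.hom)
    let q₁ : C₀ ⟶ D := Over.homMk (pullback.fst dT.left dT.left) rfl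
    let q₂ : C₀ ⟶ D := Over.homMk (pullback.snd dT.left dT.left) (by
      show _ = pullback.fst dT.left dT.left ≫ D.hom
      rw [← Over.w dT, pullback.condition_assoc])
    have sqC₀ : IsPullback q₁ q₂ dT dT :=
      IsPullback.of_map (Over.forget S) (Over.OverMorphism.ext pullback.condition)
        (IsPullback.of_hasPullback dT.left dT.left)
    haveI : IsAffine C₀.left := inferInstanceAs (IsAffine (pullback dT.left dT.left))
    haveI : Flat dT.left := hdT
    haveI : Flat q₁.left := inferInstanceAs (Flat (pullback.fst dT.left dT.left))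
    have sqE := hδ.1.isPullback δ
    let E := hδ.1.pullback δ
    obtain ⟨e₁, he₁⟩ := (yon S).map_surjective (hδ.1.fst δ)
    let e₂ := hδ.1.snd δ
    rw [← he₁] at sqE
    obtain ⟨e₀, he01, he02⟩ := sqC₀.exists_lift e₁ e₂ ((yon S).map_injective (by
      rw [Functor.map_comp, Functor.map_comp, ← hδT, reassoc_of% sqE.w]))
    haveI : Mono e₀ := ⟨fun a b hab => (yon S).map_injective (sqE.hom_ext
      (by rw [← Functor.map_comp, ← Functor.map_comp, ← he01, reassoc_of% hab])
      (by rw [← Functor.map_comp, ← Functor.map_comp, show hδ.1.snd δ = e₀ ≫ q₂ from he02.symm, reassoc_of% hab]))⟩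
    haveI : CompactSpace E.left := compactSpace_of_qs hqsT sqE
    haveI : CompactSpace (Points ((yon S).obj E)) := (Points.schemeHomeo E).compactSpace
    obtain ⟨K, πy, hK, hπe, hπs⟩ := exists_affine_chart (IsAlgSpace.yon_obj E)
    haveI := hK
    obtain ⟨π, rfl⟩ := (yon S).map_surjective πy
    haveI : Etale π.left := (repWith_yon_map_iff @Etale π).1 hπe
    haveI : Surjective π.left := (repWith_yon_map_iff @Surjective π).1 hπs
    haveI : Flat e₂.left := hδ.property_snd δ
    let ν₀ : K ⟶ C₀ := π ≫ e₀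
    let toT : C₀ ⟶ T := q₂ ≫ dT
    haveI : Flat q₂.left := inferInstanceAs (Flat (pullback.snd dT.left dT.left))
    haveI : Flat toT.left := inferInstanceAs (Flat (q₂.left ≫ dT.left))
    have hK₀ : Flat (ν₀ ≫ toT).left := by
      have e : ν₀ ≫ toT = π ≫ e₂ ≫ dT := by
        simp only [ν₀, toT, Category.assoc, reassoc_of% he02]
      rw [e]
      exact inferInstanceAs (Flat (π.left ≫ e₂.left ≫ dT.left))
    -- pull back to the scheme over the chart
    let C : Over S := Over.mk (pullback.fst h.left toT.left ≫ R.hom)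
    let cR : C ⟶ R := Over.homMk (pullback.fst h.left toT.left) rfl
    let c₀ : C ⟶ C₀ := Over.homMk (pullback.snd h.left toT.left) (by
      show _ = pullback.fst h.left toT.left ≫ R.hom
      rw [← Over.w h, ← Over.w toT, pullback.condition_assoc])
    have sqC : IsPullback cR c₀ h toT :=
      IsPullback.of_map (Over.forget S) (Over.OverMorphism.ext pullback.condition)
        (IsPullback.of_hasPullback h.left toT.left)
    haveI : IsAffine C.left := inferInstanceAs (IsAffine (pullback h.left toT.left))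
    have hCf : Flat cR.left := inferInstanceAs (Flat (pullback.fst h.left toT.left))
    let KR : Over S := Over.mk (pullback.fst h.left (ν₀ ≫ toT).left ≫ R.hom)
    let kR : KR ⟶ R := Over.homMk (pullback.fst h.left (ν₀ ≫ toT).left) rfl
    let kK : KR ⟶ K := Over.homMk (pullback.snd h.left (ν₀ ≫ toT).left) (by
      show _ = pullback.fst h.left (ν₀ ≫ toT).left ≫ R.hom
      rw [← Over.w h, ← Over.w (ν₀ ≫ toT), pullback.condition_assoc])
    have sqK : IsPullback kR kK h (ν₀ ≫ toT) :=
      IsPullback.of_map (Over.forget S) (Over.OverMorphism.ext pullback.condition)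
        (IsPullback.of_hasPullback h.left (ν₀ ≫ toT).left)
    haveI : IsAffine KR.left := inferInstanceAs (IsAffine (pullback h.left (ν₀ ≫ toT).left))
    obtain ⟨ν, hν1, hν2⟩ := sqC.exists_lift kR (kK ≫ ν₀) (by rw [Category.assoc, sqK.w])
    have hKf : Flat (ν ≫ cR).left := by
      rw [hν1]
      haveI := hK₀
      exact inferInstanceAs (Flat (pullback.fst h.left (ν₀ ≫ toT).left))
    have sqν : IsPullback ν kK c₀ ν₀ := IsPullback.of_right (by rw [hν1]; exact sqK) hν2 sqC
    obtain ⟨b₁, hb₁, hb₁'⟩ := sqD.exists_lift cR (c₀ ≫ q₁) (by rw [Category.assoc, sqC₀.w]; exact sqC.w)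
    obtain ⟨b₂, hb₂, hb₂'⟩ := sqD.exists_lift cR (c₀ ≫ q₂) (by rw [Category.assoc]; exact sqC.w)
    have key : (yon S).map b₁ ≫ yD ≫ G.φY = (yon S).map b₂ ≫ yD ≫ G.φY := by
      let I' := I.map h.left.appTop.hom
      refine eq_of_torsion cR ν hCf hKf (I := I') (hI.map _) (fun {Q} _ g hg => ?_) G.hp₂ _ _ ?_ ?_ ?_
      · obtain ⟨z, hz⟩ := hIl ((g ≫ cR) ≫ h) (by
          rw [Over.comp_left, Scheme.Hom.comp_appTop]
          intro a ha
          show (g ≫ cR).left.appTop (h.left.appTop a) = 0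
          exact hg (Ideal.mem_map_of_mem _ ha))
        have hgT : ∀ q : C₀ ⟶ D, q ≫ dT = toT →
            ((yon S).map (g ≫ c₀ ≫ q) ≫ lY) ≫ G.f = z ≫ G.i := fun q hq => by
          rw [Category.assoc, wlY, ← Functor.map_comp_assoc, hz, Category.assoc, Category.assoc, hq, ← sqC.w,
            Category.assoc]
        obtain ⟨s, hs1, hs2⟩ := sqE.exists_lift ((yon S).map (g ≫ c₀ ≫ q₁)) ((yon S).map (g ≫ c₀ ≫ q₂)) (by
          apply pullback.hom_ext
          · rw [Category.assoc, Category.assoc, hlY]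
            exact eq_over_closed G.hFZ _ _ z (hgT q₁ sqC₀.w) (hgT q₂ rfl)
          · rw [Category.assoc, Category.assoc, hδT, ← Functor.map_comp, ← Functor.map_comp, Category.assoc,
              Category.assoc, Category.assoc, Category.assoc, sqC₀.w])
        obtain ⟨s, rfl⟩ := (yon S).map_surjective s
        have hs : s ≫ e₀ = g ≫ c₀ := sqC₀.hom_ext
          ((yon S).map_injective (by rw [Category.assoc, he01, Functor.map_comp, hs1, Category.assoc]))
          ((yon S).map_injective (by rw [Category.assoc, he02, Functor.map_comp, hs2, Category.assoc]))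
        haveI : Mono e₀.left := inferInstanceAs (Mono ((Over.forget S).map e₀))
        have sqπ := isPullback_comp_mono (IsPullback.of_hasPullback π.left s.left) e₀.left
        have sqν' : IsPullback kK.left ν.left ν₀.left c₀.left := (sqν.flip.map (Over.forget S))
        have sqbig := (IsPullback.of_hasPullback ν.left g.left).paste_horiz sqν'
        have e' : g.left ≫ c₀.left = s.left ≫ e₀.left := congrArg (fun q => q.left) hs.symm
        rw [e'] at sqbig
        have hcmp := sqbig.isoIsPullback_hom_snd _ _ sqπ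
        rw [← hcmp]
        exact ⟨inferInstance, inferInstance⟩
      · rw [Category.assoc, Category.assoc, Category.assoc, Category.assoc, G.hφY, reassoc_of% hyD₁,
          ← Functor.map_comp_assoc, ← Functor.map_comp_assoc, hb₁, hb₂]
      · have e : (yon S).map ν ≫ (yon S).map b₁ ≫ yD = (yon S).map ν ≫ (yon S).map b₂ ≫ yD := by
          refine G.h₁Y.hom_ext ?_ ?_
          · simp only [Category.assoc]
            rw [hyD₁, ← (yon S).map_comp_assoc b₁, hb₁, ← (yon S).map_comp_assoc b₂, hb₂]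
          · simp only [Category.assoc]
            rw [hyD₂, ← (yon S).map_comp_assoc b₁, hb₁', ← (yon S).map_comp_assoc b₂, hb₂',
              ← (yon S).map_comp_assoc ν, ← (yon S).map_comp_assoc ν, reassoc_of% hν2, reassoc_of% hν2, ← hlY]
            simp only [ν₀, Category.assoc, he01, he02, Functor.map_comp]
            rw [reassoc_of% sqE.w]
        rw [reassoc_of% e]
      · intro a ha
        let m := restrictOverι C (cR.left ⁻¹ᵁ R.left.basicOpen a)
        obtain ⟨uU, huU⟩ := exists_lift_open G ((yon S).map (m ≫ cR) ≫ x ≫ G.p₁) fun w => by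
          rw [hx, ← Functor.map_comp_assoc, ofPt_map]
          intro hmem
          have hI'z : ∀ b ∈ (h.left.appTop.hom '' (I : Set Γ(T.left, ⊤))), cR.left w.1 ∉ R.left.basicOpen b := by
            rintro _ ⟨c, hc, rfl⟩ hbad
            refine (hIZ _).1 hmem c hc ?_
            rw [← Scheme.preimage_basicOpen_top] at hbad
            exact hbad
          exact not_mem_basicOpen_of_span _ _ hI'z ha w.2
        obtain ⟨u, hu, -⟩ := G.h₁U.exists_lift ((yon S).map (m ≫ cR) ≫ x) uU (by rw [Category.assoc, huU])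
        have hb : ∀ b : C ⟶ DR, b ≫ dR = cR → (yon S).map m ≫ (yon S).map b ≫ yD ≫ G.φY = u ≫ G.φU := by
          intro b hb
          rw [← Category.assoc ((yon S).map b), ← Category.assoc ((yon S).map m)]
          refine (G.hUY u _ ?_).symm
          rw [hu, Category.assoc, Category.assoc, hyD₁, ← (yon S).map_comp_assoc b, hb, Functor.map_comp_assoc]
        rw [hb b₁ hb₁, hb b₂ hb₂]
    intro P a b hab
    obtain ⟨q, hq1, hq2⟩ := sqC₀.exists_lift (a ≫ dD) (b ≫ dD) (by
      rw [Category.assoc, Category.assoc, ← sqD.w, reassoc_of% hab])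
    obtain ⟨w, hw1, hw2⟩ := sqC.exists_lift (a ≫ dR) q (by
      rw [show q ≫ toT = (q ≫ q₂) ≫ dT from (Category.assoc _ _ _).symm, hq2, hab, Category.assoc, Category.assoc,
        sqD.w])
    have ea : a = w ≫ b₁ := sqD.hom_ext (by rw [Category.assoc, hb₁, hw1])
      (by rw [Category.assoc, hb₁', reassoc_of% hw2, hq1])
    have eb : b = w ≫ b₂ := sqD.hom_ext (by rw [Category.assoc, hb₂, hw1, hab])
      (by rw [Category.assoc, hb₂', reassoc_of% hw2, hq2])
    rw [ea, eb, Functor.map_comp, Functor.map_comp, Category.assoc, Category.assoc, key]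
  -- the cover
  obtain ⟨κ, W, c, hWa, hcf, hcs, hW⟩ := exists_cover G t h x hx hI hIZ dR hdR hZD
  have hcand : ∀ n, ∃ β : (yon S).obj (W n) ⟶ G.X₂,
      (∀ l : W n ⟶ DR, sigmaOverι W n ≫ c = l ≫ dR → β = (yon S).map l ≫ yD ≫ G.φY) ∧
      (∀ u : (yon S).obj (W n) ⟶ G.A₁U, (yon S).map (sigmaOverι W n ≫ c) ≫ x = u ≫ G.a₁U → β = u ≫ G.φU) ∧
      β ≫ G.p₂ = (yon S).map (sigmaOverι W n ≫ c) ≫ x ≫ G.p₁ := by
    intro n
    have hlu : ∀ (l : W n ⟶ DR) (u : (yon S).obj (W n) ⟶ G.A₁U), sigmaOverι W n ≫ c = l ≫ dR →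
        (yon S).map (sigmaOverι W n ≫ c) ≫ x = u ≫ G.a₁U → u ≫ G.φU = (yon S).map l ≫ yD ≫ G.φY := by
      intro l u hl hu
      rw [← Category.assoc ((yon S).map l)]
      refine G.hUY _ _ ?_
      rw [← hu, Category.assoc, hyD₁, hl, Functor.map_comp_assoc]
    rcases hW n with ⟨l, hl⟩ | ⟨u, hu⟩
    · refine ⟨(yon S).map l ≫ yD ≫ G.φY, fun l' hl' => hCC _ l l' (hl.symm.trans hl'),
        fun u hu => (hlu l u hl hu).symm, ?_⟩
      rw [Category.assoc, Category.assoc, G.hφY, reassoc_of% hyD₁, ← Functor.map_comp_assoc, hl]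
    · refine ⟨u ≫ G.φU, fun l hl => hlu l u hl hu, fun u' hu' => by
        rw [(cancel_mono G.a₁U).1 (hu.symm.trans hu')], ?_⟩
      rw [Category.assoc, G.hφU, ← reassoc_of% hu]
  choose β hβD hβU hβp using hcand
  obtain ⟨B, hB, -⟩ := existsUnique_desc_sigma W β
  have hBp : B ≫ G.p₂ = (yon S).map c ≫ x ≫ G.p₁ := by
    refine (existsUnique_desc_sigma W fun n => β n ≫ G.p₂).unique (fun n => ?_) fun n => ?_
    · rw [reassoc_of% (hB n)]
    · rw [hβp, ← Functor.map_comp_assoc]
  haveI := hWa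
  haveI := hcf
  haveI := hcs
  have hβ_eq : ∀ (P : Over S) (n n' : κ) (l : P ⟶ W n) (l' : P ⟶ W n'),
      l ≫ sigmaOverι W n ≫ c = l' ≫ sigmaOverι W n' ≫ c → (yon S).map l ≫ β n = (yon S).map l' ≫ β n' := by
    intro P n n' l l' e
    rcases hW n with ⟨k, hk⟩ | ⟨u, hu⟩ <;> rcases hW n' with ⟨k', hk'⟩ | ⟨u', hu'⟩
    · rw [hβD n k hk, hβD n' k' hk', ← Functor.map_comp_assoc, ← Functor.map_comp_assoc]
      exact hCC _ _ _ (by rw [Category.assoc, Category.assoc, ← hk, ← hk', e])
    · rw [hβD n k hk, hβU n' u' hu', ← Functor.map_comp_assoc, ← Category.assoc _ u', ← Category.assoc _ yD]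
      refine (G.hUY _ _ ?_).symm
      rw [Category.assoc, Category.assoc, ← hu', hyD₁, ← Functor.map_comp_assoc, ← Functor.map_comp_assoc,
        Category.assoc, ← hk, e]
    · rw [hβU n u hu, hβD n' k' hk', ← Functor.map_comp_assoc, ← Category.assoc _ u, ← Category.assoc _ yD]
      refine G.hUY _ _ ?_
      rw [Category.assoc, Category.assoc, ← hu, hyD₁, ← Functor.map_comp_assoc, ← Functor.map_comp_assoc,
        Category.assoc, ← hk', e]
    · rw [hβU n u hu, hβU n' u' hu', ← Category.assoc, ← Category.assoc]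
      refine congrArg (· ≫ G.φU) ((cancel_mono G.a₁U).1 ?_)
      rw [Category.assoc, Category.assoc, ← hu, ← hu', ← Functor.map_comp_assoc, ← Functor.map_comp_assoc, e]
  obtain ⟨φ, hφp, hφc⟩ := SepDescent.exists_desc G.hX₂ G.hX G.hp₂ c (x ≫ G.p₁) B hBp fun P a b hab => by
    refine ext_sigma a _ _ fun n P' k l hk => ext_sigma (k ≫ b) _ _ fun n' P'' k' l' hk' => ?_
    have ek : k' ≫ k ≫ a = (k' ≫ l) ≫ sigmaOverι W n := by rw [hk, Category.assoc]
    have ek' : k' ≫ k ≫ b = l' ≫ sigmaOverι W n' := hk'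
    simp only [← Functor.map_comp_assoc]
    rw [ek, ek', Functor.map_comp _ (k' ≫ l), Functor.map_comp _ l', Category.assoc, Category.assoc, hB, hB]
    refine hβ_eq _ _ _ _ _ ?_
    rw [← Category.assoc (k' ≫ l), ← Category.assoc l', ← ek, ← ek']
    simp only [Category.assoc]
    rw [hab]
  have hcn : ∀ n, (yon S).map (sigmaOverι W n ≫ c) ≫ φ = β n := fun n => by
    rw [Functor.map_comp, Category.assoc, hφc, hB]
  -- agreement with maps to the two members
  have hval : ∀ (R' : Over S) (k : R' ⟶ R) (v : (yon S).obj R' ⟶ G.X₂), v ≫ G.p₂ = (yon S).map k ≫ x ≫ G.p₁ →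
      (∀ (P : Over S) (m : P ⟶ R') (n : κ) (l : P ⟶ W n), m ≫ k = l ≫ sigmaOverι W n ≫ c →
        (yon S).map m ≫ v = (yon S).map l ≫ β n) → (yon S).map k ≫ φ = v := by
    intro R' k v hv hpieces
    refine ext_affineOpens _ _ fun O m hO => ?_
    let P : Over S := Over.mk (pullback.fst (m ≫ k).left c.left ≫ O.hom)
    let q₁ : P ⟶ O := Over.homMk (pullback.fst (m ≫ k).left c.left) rfl
    let q₂ : P ⟶ sigmaOver W := Over.homMk (pullback.snd (m ≫ k).left c.left) (by
      show _ = pullback.fst (m ≫ k).left c.left ≫ O.hom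
      rw [← Over.w (m ≫ k), ← Over.w c, pullback.condition_assoc])
    have hq : q₁ ≫ m ≫ k = q₂ ≫ c := Over.OverMorphism.ext pullback.condition
    haveI := hO
    haveI : Flat q₁.left := inferInstanceAs (Flat (pullback.fst (m ≫ k).left c.left))
    haveI : Surjective q₁.left := inferInstanceAs (Surjective (pullback.fst (m ≫ k).left c.left))
    refine SepDescent.hom_ext_of_flat G.hp₂ q₁ _ _ (by rw [Category.assoc, Category.assoc, hφp, Category.assoc, hv]) ?_
    refine ext_sigma q₂ _ _ fun n P' k' l hl => ?_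
    have e : k' ≫ q₁ ≫ m ≫ k = l ≫ sigmaOverι W n ≫ c := by rw [hq, reassoc_of% hl]
    have e2 := hpieces P' (k' ≫ q₁ ≫ m) n l (by simp only [Category.assoc]; exact e)
    simp only [Functor.map_comp, Category.assoc] at e2
    rw [e2]
    simp only [← Functor.map_comp_assoc, Category.assoc]
    rw [e, Functor.map_comp, Category.assoc, hcn]
  have hU' : ∀ (R' : Over S) (k : R' ⟶ R) (u : (yon S).obj R' ⟶ G.A₁U),
      (yon S).map k ≫ x = u ≫ G.a₁U → (yon S).map k ≫ φ = u ≫ G.φU := by
    intro R' k u e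
    refine hval R' k _ (by rw [Category.assoc, G.hφU, reassoc_of% e]) fun P m n l hl => ?_
    have e1 : ((yon S).map m ≫ u) ≫ G.a₁U = (yon S).map l ≫ (yon S).map (sigmaOverι W n ≫ c) ≫ x := by
      rw [Category.assoc, ← e, ← Functor.map_comp_assoc, ← Functor.map_comp_assoc, hl]
    rcases hW n with ⟨q, hq⟩ | ⟨u', hu'⟩
    · rw [hβD n q hq, ← Category.assoc _ u, ← Category.assoc _ yD, ← Category.assoc]
      rw [Category.assoc ((yon S).map l)]
      refine (G.hUY _ _ ?_).trans (Category.assoc _ _ _)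
      rw [e1, Category.assoc, Category.assoc, hyD₁, hq, Functor.map_comp_assoc]
    · rw [hβU n u' hu', ← Category.assoc, ← Category.assoc]
      refine congrArg (· ≫ G.φU) ((cancel_mono G.a₁U).1 ?_)
      rw [e1, hu', Category.assoc]
  have hD' : (yon S).map dR ≫ φ = yD ≫ G.φY := by
    refine hval DR dR _ (by rw [Category.assoc, G.hφY, reassoc_of% hyD₁]) fun P m n l hl => ?_
    rcases hW n with ⟨q, hq⟩ | ⟨u', hu'⟩
    · rw [hβD n q hq, ← Functor.map_comp_assoc]
      exact hCC _ _ _ (by rw [hl, hq, Category.assoc])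
    · rw [hβU n u' hu', ← Category.assoc, ← Category.assoc]
      refine (G.hUY _ _ ?_).symm
      rw [Category.assoc, Category.assoc, hyD₁, ← hu', ← Functor.map_comp_assoc, ← Functor.map_comp_assoc, hl]
  have hcompat : Compat G x φ := by
    refine ⟨hφp, hU', fun R' k y e => ?_⟩
    refine ext_affineOpens _ _ fun O m hO => ?_
    haveI := hO
    obtain ⟨q, hq1, hq2⟩ := (IsPullback.of_hasPullback G.f t).exists_lift (((yon S).map m ≫ y) ≫ G.r₁Y)
      ((yon S).map (m ≫ k ≫ h)) (by
        simp only [Category.assoc, Functor.map_comp]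
        rw [← G.h₁Y.w, reassoc_of% e.symm, hx])
    have sqE := hδ.1.isPullback q
    obtain ⟨e₁, he₁⟩ := (yon S).map_surjective (hδ.1.fst q)
    let e₂ := hδ.1.snd q
    rw [← he₁] at sqE
    haveI : CompactSpace (hδ.1.pullback q).left := compactSpace_of_qs hqsT sqE
    haveI : CompactSpace (Points ((yon S).obj (hδ.1.pullback q))) := (Points.schemeHomeo _).compactSpace
    obtain ⟨K, πy, hK, hπe, hπs⟩ := exists_affine_chart (IsAlgSpace.yon_obj (hδ.1.pullback q))
    haveI := hK
    obtain ⟨π, rfl⟩ := (yon S).map_surjective πy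
    haveI : Etale π.left := (repWith_yon_map_iff @Etale π).1 hπe
    haveI : Flat e₂.left := hδ.property_snd q
    let kO : K ⟶ O := π ≫ e₂
    have hkO : Flat kO.left := inferInstanceAs (Flat (π.left ≫ e₂.left))
    have hKcov : ∀ z : O.left, Points.ofPt t ((m ≫ k ≫ h).left z) ∈ Set.range (Points.map G.i) →
        z ∈ Set.range kO.left := by
      intro z hz
      obtain ⟨d, hd⟩ := hδc (Points.ofPt q z) (by
        rw [pullback.condition, Points.map_ofPt, reassoc_of% hq2, ofPt_map]
        exact hz)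
      obtain ⟨v, -, hv⟩ := exists_point_of_isPullback sqE
        (show Points.map δ (Points.ofScheme D d) = Points.map q (Points.ofScheme O z) by
          rw [← Points.ofPt_eq_map_ofScheme, ← Points.ofPt_eq_map_ofScheme, hd])
      obtain ⟨v', rfl⟩ := (Points.schemeEquiv _).surjective v
      obtain ⟨w, rfl⟩ := ((repWith_yon_map_iff @Surjective π).1 hπs).surj v'
      exact ⟨w, (Points.schemeEquiv _).injective ((map_yon_map_ofScheme e₂ _).symm.trans hv)⟩
    obtain ⟨κ', W', c', hWa', hcf', hcs', hW'⟩ := exists_cover G t (m ≫ k ≫ h) ((yon S).map (m ≫ k) ≫ x)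
      (by rw [Category.assoc, hx]; simp only [Functor.map_comp, Category.assoc]) hI hIZ kO hkO hKcov
    haveI := hWa'
    haveI := hcf'
    haveI := hcs'
    refine SepDescent.hom_ext_of_flat G.hp₂ c' _ _ ?_ ?_
    · rw [Category.assoc, Category.assoc, hφp, Category.assoc, Category.assoc, G.hφY, ← reassoc_of% e]
    refine ext_sigma (𝟙 _) _ _ fun n P k' l hl => ?_
    rw [Category.comp_id] at hl
    rw [hl, Functor.map_comp, Category.assoc, Category.assoc]
    congr 1
    suffices hs : (yon S).map (sigmaOverι W' n ≫ c' ≫ m ≫ k) ≫ φ =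
        ((yon S).map (sigmaOverι W' n ≫ c' ≫ m) ≫ y) ≫ G.φY by
      simp only [Functor.map_comp, Category.assoc] at hs ⊢
      exact hs
    rcases hW' n with ⟨q', hq'⟩ | ⟨u, hu⟩
    · obtain ⟨l', hl'1, hl'2⟩ := sqD.exists_lift (sigmaOverι W' n ≫ c' ≫ m ≫ k) (q' ≫ π ≫ e₁) (by
        simp only [Category.assoc, reassoc_of% hq']
        apply (yon S).map_injective
        have e3 : (yon S).map (e₁ ≫ dT) = (yon S).map (e₂ ≫ m ≫ k ≫ h) := by
          rw [Functor.map_comp, ← hδT, reassoc_of% sqE.w, hq2, ← Functor.map_comp]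
        simp only [kO, Functor.map_comp, Category.assoc] at e3 ⊢
        rw [e3])
      rw [← hl'1, Functor.map_comp_assoc, hD', ← Category.assoc]
      refine congrArg (· ≫ G.φY) (G.h₁Y.hom_ext ?_ ?_)
      · rw [Category.assoc, Category.assoc, hyD₁, ← e, ← Functor.map_comp_assoc, ← Functor.map_comp_assoc, hl'1]
        simp only [Category.assoc]
      · rw [Category.assoc, Category.assoc, hyD₂, ← Functor.map_comp_assoc, hl'2]
        calc _ = (yon S).map (q' ≫ π ≫ e₂) ≫ q ≫ pullback.fst G.f t := by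
              simp only [Functor.map_comp, Category.assoc, ← hlY, reassoc_of% sqE.w]
              rfl
          _ = _ := by
              rw [show q' ≫ π ≫ e₂ = sigmaOverι W' n ≫ c' from hq'.symm, hq1]
              simp only [Functor.map_comp, Category.assoc]
    · have hu2 : (yon S).map (sigmaOverι W' n ≫ c' ≫ m ≫ k) ≫ x = u ≫ G.a₁U := by
        rw [← hu, ← Functor.map_comp_assoc, Category.assoc]
      rw [hU' _ _ u hu2]
      refine G.hUY _ _ ?_
      rw [← hu2, Category.assoc, ← e, ← Functor.map_comp_assoc]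
      simp only [Category.assoc]
  refine ⟨φ, hcompat, fun φ' hφ' => ?_⟩
  refine SepDescent.hom_ext_of_flat G.hp₂ c φ' φ (hφ'.1.trans hφp.symm) ?_
  refine (existsUnique_desc_sigma W fun n => (yon S).map (sigmaOverι W n ≫ c) ≫ φ).unique (fun n => ?_)
    fun n => by rw [← Functor.map_comp_assoc]
  rw [← Functor.map_comp_assoc, hcn]
  rcases hW n with ⟨l, hl⟩ | ⟨u, hu⟩
  · rw [hβD n l hl, ← Category.assoc]
    refine hφ'.2.2 _ _ _ ?_
    rw [Category.assoc, hyD₁, hl, Functor.map_comp_assoc]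
  · rw [hβU n u hu]
    exact hφ'.2.1 _ _ _ hu

end Groth.Agent.AlgSpLib.ModifGlue
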