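import Groth.Agent.AlgSpLib.NormCompare
import Groth.Agent.AlgSpLib.LqfPiece
import Groth.Agent.AlgSpLib.LqfScheme
import Groth.Agent.AlgSpLib.ProperQF
import Groth.Agent.AlgSpLib.SheafCoprod
import Groth.Agent.AlgSpLib.SheafCoprod2
import Groth.Agent.AlgSpLib.MorProper
import Groth.Agent.AlgSpLib.MorMore2
import Groth.Agent.AlgSpLib.PointsTop
import Groth.Agent.AlgSpLib.RepLocal

/-!
The relative normalisation is an isomorphism over the quasi-finite locus of a separated morphism of finite type.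
-/

universe u

open CategoryTheory CategoryTheory.Limits AlgebraicGeometry Opposite Topology
open AlgSp

noncomputable section

namespace Groth.Agent.AlgSpLib

set_option backward.isDefEq.respectTransparency.types false
set_option backward.isDefEq.respectTransparency false

variable {S : Scheme.{u}}

/-- a map out of a sheaf given on two complementary open subspaces -/
theorem exists_desc_clopen {F M : Sp S} {O : Set (Points F)} (hO : IsOpen O) (hO' : IsOpen Oᶜ)
    (g₁ : openSubspace F O ⟶ M) (g₂ : openSubspace F Oᶜ ⟶ M) :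
    ∃ g : F ⟶ M, openSubspaceι F O ≫ g = g₁ ∧ openSubspaceι F Oᶜ ≫ g = g₂ := by
  let P : ULift.{u} Bool → Set (Points F) := fun i => if i.down then O else Oᶜ
  have key : ∀ ⦃T : Over S⦄ (x : (yon S).obj T ⟶ F), ∃! y : (yon S).obj T ⟶ M,
      ∀ (T' : Over S) (v : T' ⟶ T),
        (∀ l : (yon S).obj T' ⟶ openSubspace F O, l ≫ openSubspaceι F O = (yon S).map v ≫ x → l ≫ g₁ = (yon S).map v ≫ y) ∧
        (∀ l : (yon S).obj T' ⟶ openSubspace F Oᶜ, l ≫ openSubspaceι F Oᶜ = (yon S).map v ≫ x → l ≫ g₂ = (yon S).map v ≫ y) := by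
    intro T x
    let B : ULift.{u} Bool → T.left.Opens := fun i => ⟨Points.ofPt x ⁻¹' P i, by
      rcases i with ⟨_ | _⟩
      · exact hO'.preimage (Points.continuous_ofPt x)
      · exact hO.preimage (Points.continuous_ofPt x)⟩
    let c : ∀ i, restrictOver T (B i) ⟶ T := fun i => restrictOverι T (B i)
    have hc : ∀ t : T.left, ∃ i, t ∈ Set.range (c i).left := fun t => by
      by_cases h : Points.ofPt x t ∈ O
      · exact ⟨⟨true⟩, by rw [range_restrictOverι]; exact h⟩
      · exact ⟨⟨false⟩, by rw [range_restrictOverι]; exact h⟩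
    have hmem : ∀ i (t : (restrictOver T (B i)).left), Points.ofPt ((yon S).map (c i) ≫ x) t ∈ P i := fun i t => by
      rw [ofPt_map]; exact t.2
    obtain ⟨l₁, hl₁⟩ := (exists_lift_openSubspace_iff O ((yon S).map (c ⟨true⟩) ≫ x)).2 (hmem ⟨true⟩)
    obtain ⟨l₂, hl₂⟩ := (exists_lift_openSubspace_iff Oᶜ ((yon S).map (c ⟨false⟩) ≫ x)).2 (hmem ⟨false⟩)
    let s : ∀ i, (yon S).obj (restrictOver T (B i)) ⟶ M := fun i =>
      match i with
      | ⟨true⟩ => l₁ ≫ g₁
      | ⟨false⟩ => l₂ ≫ g₂
    obtain ⟨y, hy⟩ := yon_exists_glue c hc s fun i j Z a b e => by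
      by_cases hij : i = j
      · subst hij
        haveI : IsOpenImmersion (c i).left := inferInstanceAs (IsOpenImmersion (B i).ι)
        haveI : Mono (c i) := Over.mono_of_mono_left _
        rw [(cancel_mono (c i)).1 e]
      · haveI : IsEmpty Z.left := ⟨fun z => by
          have h1 : Points.ofPt x ((c i).left (a.left z)) ∈ P i := (a.left z).2
          have h2 : Points.ofPt x ((c i).left (a.left z)) ∈ P j := by
            rw [show (c i).left (a.left z) = (c j).left (b.left z) from congrArg (fun k => k.left z) e]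
            exact (b.left z).2
          rcases i with ⟨_ | _⟩ <;> rcases j with ⟨_ | _⟩
          · exact hij rfl
          · exact h1 h2
          · exact h2 h1
          · exact hij rfl⟩
        exact (subsingleton_hom_of_isEmpty Z M).elim _ _
    have h1 : (yon S).map (c ⟨true⟩) ≫ y = l₁ ≫ g₁ := hy ⟨true⟩
    have h2 : (yon S).map (c ⟨false⟩) ≫ y = l₂ ≫ g₂ := hy ⟨false⟩
    refine ⟨y, fun T' v => ?_, fun y' hy' => yon_hom_ext_of_cover c hc _ _ fun i => ?_⟩
    · constructor
      · intro l hl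
        have hv : Set.range v.left ⊆ Set.range (c ⟨true⟩).left := by
          rintro _ ⟨t, rfl⟩
          rw [range_restrictOverι]
          show Points.ofPt x (v.left t) ∈ O
          rw [← ofPt_map]
          exact (exists_lift_openSubspace_iff O _).1 ⟨l, hl⟩ t
        haveI : IsOpenImmersion (c ⟨true⟩).left := inferInstanceAs (IsOpenImmersion (B ⟨true⟩).ι)
        let m : T' ⟶ restrictOver T (B ⟨true⟩) := Over.homMk (IsOpenImmersion.lift (c ⟨true⟩).left v.left hv) (by
          rw [← Over.w (c ⟨true⟩), IsOpenImmersion.lift_fac_assoc, Over.w v])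
        have hm : m ≫ c ⟨true⟩ = v := Over.OverMorphism.ext (IsOpenImmersion.lift_fac _ _ _)
        have : l = (yon S).map m ≫ l₁ := (cancel_mono (openSubspaceι F O)).1 (by
          rw [hl, Category.assoc, hl₁, ← Category.assoc, ← Functor.map_comp, hm])
        rw [this, Category.assoc, ← h1, ← Category.assoc, ← Functor.map_comp, hm]
      · intro l hl
        have hv : Set.range v.left ⊆ Set.range (c ⟨false⟩).left := by
          rintro _ ⟨t, rfl⟩
          rw [range_restrictOverι]
          show Points.ofPt x (v.left t) ∈ Oᶜ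
          rw [← ofPt_map]
          exact (exists_lift_openSubspace_iff Oᶜ _).1 ⟨l, hl⟩ t
        haveI : IsOpenImmersion (c ⟨false⟩).left := inferInstanceAs (IsOpenImmersion (B ⟨false⟩).ι)
        let m : T' ⟶ restrictOver T (B ⟨false⟩) := Over.homMk (IsOpenImmersion.lift (c ⟨false⟩).left v.left hv) (by
          rw [← Over.w (c ⟨false⟩), IsOpenImmersion.lift_fac_assoc, Over.w v])
        have hm : m ≫ c ⟨false⟩ = v := Over.OverMorphism.ext (IsOpenImmersion.lift_fac _ _ _)
        have : l = (yon S).map m ≫ l₂ := (cancel_mono (openSubspaceι F Oᶜ)).1 (by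
          rw [hl, Category.assoc, hl₂, ← Category.assoc, ← Functor.map_comp, hm])
        rw [this, Category.assoc, ← h2, ← Category.assoc, ← Functor.map_comp, hm]
    · rcases i with ⟨_ | _⟩
      · exact ((hy' _ (c ⟨false⟩)).2 l₂ hl₂).symm.trans h2.symm
      · exact ((hy' _ (c ⟨true⟩)).1 l₁ hl₁).symm.trans h1.symm
  choose η hη hηu using key
  let g : F ⟶ M := PushSp.homOfNat η fun T T' v x => hηu _ _ fun T'' v' =>
    ⟨fun l hl => by
      rw [(hη x T'' (v' ≫ v)).1 l (by rw [hl, Functor.map_comp, Category.assoc]), Functor.map_comp, Category.assoc],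
    fun l hl => by
      rw [(hη x T'' (v' ≫ v)).2 l (by rw [hl, Functor.map_comp, Category.assoc]), Functor.map_comp, Category.assoc]⟩
  refine ⟨g, hom_ext_of_yon fun T l => ?_, hom_ext_of_yon fun T l => ?_⟩
  · rw [← Category.assoc, PushSp.comp_homOfNat, (hη (l ≫ openSubspaceι F O) T (𝟙 _)).1 l (by simp)]
    simp
  · rw [← Category.assoc, PushSp.comp_homOfNat, (hη (l ≫ openSubspaceι F Oᶜ) T (𝟙 _)).2 l (by simp)]
    simp

/-- the image of a finite morphism from a scheme is closed -/
theorem isClosed_range_of_finite {F : Sp S} (hF : IsAlgSpace F) {V : Over S} (a : (yon S).obj V ⟶ F)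
    (ha : RepWith @IsFinite a) : IsClosed (Set.range (Points.map a)) := by
  obtain ⟨C, p, hpe, hps⟩ := hF.atlas
  obtain ⟨W, w, fst, sq, hw⟩ := exists_yon_of_repWith ha p
  haveI : IsFinite w.left := hw
  rw [← (isOpenQuotientMap_ofPt p hpe hps).isQuotientMap.isClosed_preimage]
  have : Points.ofPt p ⁻¹' Set.range (Points.map a) = Set.range w.left := by
    ext c
    constructor
    · rintro ⟨v, hv⟩
      obtain ⟨z, -, hz⟩ := exists_point_of_isPullback sq (x := v) (y := Points.ofScheme _ c)
        (hv.trans (Points.ofPt_eq_map_ofScheme _ _))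
      obtain ⟨z, rfl⟩ := (Points.schemeEquiv _).surjective z
      exact ⟨z, (Points.schemeEquiv _).injective ((map_yon_map_ofScheme w z).symm.trans hz)⟩
    · rintro ⟨z, rfl⟩
      refine ⟨Points.map fst (Points.ofScheme _ z), ?_⟩
      rw [← Points.map_comp, sq.w, Points.map_comp, map_yon_map_ofScheme, ← Points.ofPt_eq_map_ofScheme]
  rw [this]
  exact w.left.isClosedMap.isClosed_range

/-- a point of the quasi-finite locus lies in a finite clopen piece after an etale localisation -/
theorem exists_clopen_finite {X Y : Space S} (f : X ⟶ Y) (hsep : IsSeparatedMor f.hom) {x : Points X.obj}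
    (hx : HasAtMor (fun U _ h u => ∃ W : U.Opens, u ∈ W ∧ LocallyQuasiFinite (W.ι ≫ h) ∧
      LocallyOfFiniteType (W.ι ≫ h)) f.hom x) :
    ∃ (T' : Over S) (b : (yon S).obj T' ⟶ Y.obj) (V : Over S) (v : V ⟶ T')
      (jV : (yon S).obj V ⟶ pullback f.hom b),
      RepWith @Etale b ∧ RepWith @IsOpenImmersion jV ∧ IsClosed (Set.range (Points.map jV)) ∧
      jV ≫ pullback.snd f.hom b = (yon S).map v ∧ IsFinite v.left ∧
      x ∈ Set.range (Points.map (jV ≫ pullback.fst f.hom b)) := by
  obtain ⟨U, V₀, a, b₀, h, u, ha, hb, w, rfl, W, hu, hW, hW'⟩ := hx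
  obtain ⟨T, hT, huT, -⟩ := exists_isAffineOpen_mem_and_subset (X := V₀.left) (x := h.left u) (U := ⊤) trivial
  obtain ⟨O, hO, huO, hOsub⟩ := exists_isAffineOpen_mem_and_subset (X := U.left) (x := u)
    (U := W ⊓ h.left ⁻¹ᵁ T) ⟨hu, huT⟩
  haveI : IsAffine T.toScheme := hT
  haveI : IsAffine O.toScheme := hO
  let h₀ : O.toScheme ⟶ T.toScheme := h.left.resLE T O (hOsub.trans inf_le_right)
  haveI : LocallyQuasiFinite h₀ := by
    haveI := hW
    have : LocallyQuasiFinite (h₀ ≫ T.ι) := by
      rw [Scheme.Hom.resLE_comp_ι, ← U.left.homOfLE_ι (hOsub.trans inf_le_left), Category.assoc]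
      infer_instance
    exact .of_comp h₀ T.ι
  haveI : LocallyOfFiniteType h₀ := by
    haveI := hW'
    have : LocallyOfFiniteType (h₀ ≫ T.ι) := by
      rw [Scheme.Hom.resLE_comp_ι, ← U.left.homOfLE_ι (hOsub.trans inf_le_left), Category.assoc]
      infer_instance
    exact locallyOfFiniteType_of_comp h₀ T.ι
  haveI : IsSeparated h₀ := inferInstance
  obtain ⟨T'', c, Vp, vp, hT', hc, hfin, hv⟩ := exists_affine_etale_finite_part h₀ ⟨u, huO⟩
  let T' : Over S := Over.mk (c ≫ T.ι ≫ V₀.hom)
  let cT : T' ⟶ V₀ := Over.homMk (c ≫ T.ι) (Category.assoc _ _ _)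
  let b : (yon S).obj T' ⟶ Y.obj := (yon S).map cT ≫ b₀
  have hcT : Etale cT.left := inferInstanceAs (Etale (c ≫ T.ι))
  have hbe : RepWith @Etale b := RepWith.comp ((repWith_yon_map_iff _ cT).2 hcT) hb
  let pO : Vp.toScheme ⟶ O.toScheme := Vp.ι ≫ pullback.fst h₀ c
  let pT : Vp.toScheme ⟶ T'' := Vp.ι ≫ pullback.snd h₀ c
  let V' : Over S := Over.mk (pT ≫ T'.hom)
  let v' : V' ⟶ T' := Over.homMk pT
  let aU : V' ⟶ U := Over.homMk (pO ≫ O.ι) (by
    show (pO ≫ O.ι) ≫ U.hom = pT ≫ c ≫ T.ι ≫ V₀.hom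
    rw [← Over.w h, Category.assoc, ← Scheme.Hom.resLE_comp_ι_assoc h.left (hOsub.trans inf_le_right)]
    simp only [pO, pT, Category.assoc]
    rw [pullback.condition_assoc])
  have haUh : aU ≫ h = v' ≫ cT := Over.OverMorphism.ext (by
    show (pO ≫ O.ι) ≫ h.left = pT ≫ c ≫ T.ι
    rw [Category.assoc, ← Scheme.Hom.resLE_comp_ι h.left (hOsub.trans inf_le_right)]
    simp only [pO, pT, Category.assoc]
    rw [pullback.condition_assoc])
  haveI : IsFinite v'.left := hfin
  have haU : Etale aU.left := inferInstanceAs (Etale ((Vp.ι ≫ pullback.fst h₀ c) ≫ O.ι))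
  let a' : (yon S).obj V' ⟶ pullback f.hom b := pullback.lift ((yon S).map aU ≫ a) ((yon S).map v') (by
    rw [Category.assoc, w, ← Category.assoc, ← Functor.map_comp, haUh, Functor.map_comp, Category.assoc])
  have hP : IsAlgSpace (pullback f.hom b) :=
    isAlgSpace_pullback (X := X) (Y := ⟨_, IsAlgSpace.yon_obj T'⟩) (Z := Y) f.hom b
  have hsP : IsSeparatedMor (pullback.snd f.hom b) := isSeparatedMor_of_isPullback (IsPullback.of_hasPullback _ _) hsep
  have ha'f : RepWith @IsFinite a' := by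
    refine repWith_of_comp @IsFinite (b := pullback.snd f.hom b) ?_ (RepWith.mono (fun _ _ g (hg : IsClosedImmersion g) => (inferInstance : IsFinite g)) hsP)
    rw [pullback.lift_snd]
    exact (repWith_yon_map_iff _ v').2 hfin
  have hfstE : LocP @Etale (pullback.fst f.hom b) :=
    locP_of_repWith etLocal_etale hP (RepWith.baseChange (IsPullback.of_hasPullback f.hom b).flip hbe)
  have ha'e : RepWith @Etale a' := repWith_etale_of_comp_etale (IsAlgSpace.yon_obj V') hP X.property ha'f.1
    (by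
      rw [pullback.lift_fst]
      exact locP_of_repWith etLocal_etale (IsAlgSpace.yon_obj V')
        (RepWith.comp ((repWith_yon_map_iff _ aU).2 haU) ha)) hfstE
  let R := Set.range (Points.map a')
  have hRo : IsOpen R := by
    have : R = Points.ofPt a' '' Set.univ := by
      ext z
      constructor
      · rintro ⟨y, rfl⟩
        obtain ⟨y, rfl⟩ := (Points.schemeEquiv _).surjective y
        exact ⟨y, trivial, Points.ofPt_eq_map_ofScheme _ _⟩
      · rintro ⟨y, -, rfl⟩
        exact ⟨_, (Points.ofPt_eq_map_ofScheme _ _).symm⟩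
    rw [this]
    exact isOpenMap_ofPt a' ha'e _ isOpen_univ
  have hRc : IsClosed R := isClosed_range_of_finite hP a' ha'f
  let Q := openSubspace (pullback f.hom b) R
  have hQ : IsAlgSpace Q := isAlgSpace_openSubspace hP hRo
  have hjQ := repWith_openSubspaceι (pullback f.hom b) hRo
  obtain ⟨a'', ha''⟩ : ∃ l, l ≫ openSubspaceι (pullback f.hom b) R = a' :=
    (exists_lift_openSubspace_iff R a').2 fun t => ⟨_, (Points.ofPt_eq_map_ofScheme _ _).symm⟩
  have hQe : RepWith @Etale a'' := repWith_of_comp_mono a'' _ (by rw [ha'']; exact ha'e)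
  have hQs : RepWith @Surjective a'' := repWith_surjective_of_surjective_map hQe.1 fun z => by
    obtain ⟨y, hy⟩ : Points.map (openSubspaceι _ R) z ∈ R :=
      (range_openSubspaceι (pullback f.hom b) R).subset ⟨z, rfl⟩
    exact ⟨y, injective_map_of_mono (openSubspaceι (pullback f.hom b) R) (by rw [← Points.map_comp, ha'', hy])⟩
  let π : Q ⟶ (yon S).obj T' := openSubspaceι _ R ≫ pullback.snd f.hom b
  have hπs : IsSeparatedMor π := isSeparatedMor_comp (isSeparatedMor_of_mono _) hsP
  have hπ' : a'' ≫ π = (yon S).map v' := by rw [← Category.assoc, ha'', pullback.lift_snd]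
  have hπq : LocP (@LocallyQuasiFinite ⊓ @LocallyOfFiniteType) π :=
    locP_of_atlas etLocal_lqf hQ a'' hQe hQs (by
      rw [hπ']
      exact (repWith_yon_map_iff _ v').2 ⟨inferInstance, inferInstance⟩)
  obtain ⟨V, ⟨e⟩⟩ := exists_iso_yon_of_lqf_separated hQ π hπs hπq
  obtain ⟨v, hv'⟩ := (yon S).map_surjective (e.hom ≫ π)
  obtain ⟨m, hm⟩ := (yon S).map_surjective (a'' ≫ e.inv)
  have hmv : m ≫ v = v' := (yon S).map_injective (by
    rw [Functor.map_comp, hm, hv', Category.assoc, e.inv_hom_id_assoc, hπ'])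
  haveI : Surjective m.left := (repWith_yon_map_iff @Surjective m).1 (by
    rw [hm]; exact RepWith.comp hQs (repWith_of_isIso _ _))
  have hfv : IsFinite v.left := by
    have hqv := hπq e.hom (𝟙 _) v (repWith_of_isIso _ _) (repWith_id _ _) (by rw [Category.comp_id, hv'])
    haveI : LocallyQuasiFinite v.left := hqv.1
    haveI : LocallyOfFiniteType v.left := hqv.2
    haveI : IsSeparated v.left := (isSeparatedMor_yon_map_iff v).1 (by
      rw [hv']; exact isSeparatedMor_comp (isSeparatedMor_of_mono _) hπs)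
    haveI : UniversallyClosed v.left := by
      have : UniversallyClosed (m.left ≫ v.left) := by
        rw [show m.left ≫ v.left = v'.left from congrArg (fun k => k.left) hmv]; infer_instance
      exact .of_comp_surjective m.left v.left
    haveI : IsProper v.left := {}
    exact IsFinite.of_isProper_of_locallyQuasiFinite v.left
  have hrange : Set.range (Points.map (e.hom ≫ openSubspaceι (pullback f.hom b) R)) = R := by
    ext z
    constructor
    · rintro ⟨y, rfl⟩
      rw [Points.map_comp]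
      exact (range_openSubspaceι (pullback f.hom b) R).subset ⟨_, rfl⟩
    · intro hz
      obtain ⟨y, rfl⟩ := (range_openSubspaceι (pullback f.hom b) R).superset hz
      exact ⟨Points.map e.inv y, by rw [← Points.map_comp, e.inv_hom_id_assoc]⟩
  refine ⟨T', b, V, v, e.hom ≫ openSubspaceι _ R, hbe, RepWith.comp (repWith_of_isIso _ _) hjQ,
    (by rw [hrange]; exact hRc), by rw [Category.assoc]; exact hv'.symm, hfv, ?_⟩
  have : Points.map a' (Points.ofScheme V' vp) ∈ Set.range (Points.map (e.hom ≫ openSubspaceι (pullback f.hom b) R)) := by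
    rw [hrange]; exact ⟨_, rfl⟩
  obtain ⟨y, hy⟩ := this
  refine ⟨y, ?_⟩
  rw [Points.map_comp, hy, ← Points.map_comp, pullback.lift_fst, ← Points.ofPt_eq_map_ofScheme, ofPt_map]
  congr 1
  show O.ι (pullback.fst h₀ c vp.1) = u
  rw [hv]
  rfl

/-- a finite clopen piece of the source is a piece of the normalisation -/
theorem exists_piece_iso {X Y X' : Space S} {f : X ⟶ Y} {ν : X' ⟶ Y} {f' : X ⟶ X'}
    (H : LocNorm f.hom ν.hom f'.hom) {T' : Over S} {b : (yon S).obj T' ⟶ Y.obj} (hb : RepWith @Etale b)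
    {V : Over S} {v : V ⟶ T'} {jV : (yon S).obj V ⟶ pullback f.hom b} (hjo : RepWith @IsOpenImmersion jV)
    (hjc : IsClosed (Set.range (Points.map jV))) (hjv : jV ≫ pullback.snd f.hom b = (yon S).map v)
    (hv : IsFinite v.left) :
    ∃ q : (yon S).obj V ⟶ X'.obj, RepWith @Etale q ∧
      IsPullback (jV ≫ pullback.fst f.hom b) (𝟙 _) f'.hom q := by
  haveI := hv
  obtain ⟨NS, nu, nF, sqN, -⟩ := exists_yon_of_repWith H.int b
  let P := pullback f.hom b
  let k : P ⟶ (yon S).obj NS := sqN.lift (pullback.fst _ _ ≫ f'.hom) (pullback.snd _ _)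
    (by rw [Category.assoc, H.fac, pullback.condition])
  have hbs : ∀ ⦃T : Over S⦄ (a : (yon S).obj T ⟶ (yon S).obj T'), RepWith @Smooth a → RepWith @Smooth (a ≫ b) :=
    fun T a ha => RepWith.comp ha (RepWith.mono etale_smooth hb)
  have hn := (H.baseChange b hbs sqN (IsPullback.of_hasPullback f.hom b) (k := k) (sqN.lift_fst _ _ _)
    (sqN.lift_snd _ _ _)).isRelNormalization (IsAlgSpace.yon_obj T')
  have sqk : IsPullback (pullback.fst f.hom b) k f'.hom nF :=
    IsPullback.of_bot (by rw [sqN.lift_snd, H.fac]; exact IsPullback.of_hasPullback f.hom b)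
      (sqN.lift_fst _ _ _).symm sqN
  have hnF : RepWith @Etale nF := RepWith.baseChange sqN.flip hb
  let O := Set.range (Points.map jV)
  have hO : IsOpen O := range_isOpen (isAlgSpace_pullback (X := X) (Y := ⟨_, IsAlgSpace.yon_obj T'⟩) (Z := Y) f.hom b) hjo
  have hO' : IsOpen Oᶜ := hjc.isOpen_compl
  haveI : Mono jV := mono_of_repWith (fun _ _ g (hg : IsOpenImmersion g) => (inferInstance : Mono g)) hjo
  obtain ⟨eO, heO⟩ := (exists_lift_iff_range_subset hjo (openSubspaceι P O)).2 (by rw [range_openSubspaceι])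
  let Z : Over S := Over.mk (coprod.desc V.hom T'.hom)
  let il : V ⟶ Z := Over.homMk coprod.inl (coprod.inl_desc _ _)
  let ir : T' ⟶ Z := Over.homMk coprod.inr (coprod.inr_desc _ _)
  let π : Z ⟶ T' := Over.homMk (coprod.desc v.left (𝟙 T'.left)) (by
    refine coprod.hom_ext ?_ ?_ <;> simp [Z, Over.w v])
  have hπ : IsIntegralHom π.left := inferInstanceAs (IsIntegralHom (coprod.desc v.left (𝟙 T'.left)))
  have hilπ : il ≫ π = v := Over.OverMorphism.ext (coprod.inl_desc _ _)
  have hirπ : ir ≫ π = 𝟙 _ := Over.OverMorphism.ext (coprod.inr_desc _ _)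
  obtain ⟨g, hg₁, hg₂⟩ := exists_desc_clopen (M := (yon S).obj Z) hO hO' (eO ≫ (yon S).map il)
    (openSubspaceι P Oᶜ ≫ pullback.snd _ _ ≫ (yon S).map ir)
  -- decomposition of sections of the source
  have hcases : ∀ {Q : Over S} (z : (yon S).obj Q ⟶ P) (A B : (yon S).obj Q ⟶ (yon S).obj T'),
      (∀ {Q' : Over S} (c : Q' ⟶ Q) (l : (yon S).obj Q' ⟶ openSubspace P O), l ≫ openSubspaceι P O = (yon S).map c ≫ z →
        (yon S).map c ≫ A = (yon S).map c ≫ B) →
      (∀ {Q' : Over S} (c : Q' ⟶ Q) (l : (yon S).obj Q' ⟶ openSubspace P Oᶜ), l ≫ openSubspaceι P Oᶜ = (yon S).map c ≫ z →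
        (yon S).map c ≫ A = (yon S).map c ≫ B) → A = B := by
    intro Q z A B h1 h2
    let B' : ULift.{u} Bool → Q.left.Opens := fun i => ⟨Points.ofPt z ⁻¹' (if i.down then O else Oᶜ), by
      rcases i with ⟨_ | _⟩
      · exact hO'.preimage (Points.continuous_ofPt z)
      · exact hO.preimage (Points.continuous_ofPt z)⟩
    refine yon_hom_ext_of_cover (fun i => restrictOverι Q (B' i)) (fun t => ?_) _ _ fun i => ?_
    · by_cases h : Points.ofPt z t ∈ O
      · exact ⟨⟨true⟩, by rw [range_restrictOverι]; exact h⟩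
      · exact ⟨⟨false⟩, by rw [range_restrictOverι]; exact h⟩
    · rcases i with ⟨_ | _⟩
      · obtain ⟨l, hl⟩ := (exists_lift_openSubspace_iff Oᶜ ((yon S).map (restrictOverι Q (B' ⟨false⟩)) ≫ z)).2
          fun t => by rw [ofPt_map]; exact t.2
        exact h2 _ l hl
      · obtain ⟨l, hl⟩ := (exists_lift_openSubspace_iff O ((yon S).map (restrictOverι Q (B' ⟨true⟩)) ≫ z)).2
          fun t => by rw [ofPt_map]; exact t.2
        exact h1 _ l hl
  have hgπ : g ≫ (yon S).map π = pullback.snd f.hom b := hom_ext_of_yon fun Q z => by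
    refine hcases z _ _ (fun c l hl => ?_) (fun c l hl => ?_)
    · rw [← Category.assoc _ z, ← Category.assoc _ z, ← hl]
      simp only [Category.assoc]
      rw [reassoc_of% hg₁, ← Functor.map_comp, hilπ, ← hjv, reassoc_of% heO]
    · rw [← Category.assoc _ z, ← Category.assoc _ z, ← hl]
      simp only [Category.assoc]
      rw [reassoc_of% hg₂, ← Functor.map_comp, hirπ]
      simp
  obtain ⟨h, ⟨hkh, hhπ⟩, -⟩ := hn.2.2 (IsAlgSpace.yon_obj Z) ((yon S).map π) g
    ((isIntegralMor_iff_repWith _).2 ((repWith_yon_map_iff _ π).2 hπ)) hgπ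
  obtain ⟨h, rfl⟩ := (yon S).map_surjective h
  have hhπ' : h ≫ π = nu := (yon S).map_injective (by rw [Functor.map_comp]; exact hhπ)
  haveI : IsOpenImmersion il.left := inferInstanceAs (IsOpenImmersion coprod.inl)
  let O₁ : NS.left.Opens := h.left ⁻¹ᵁ il.left.opensRange
  let ι₁ := restrictOverι NS O₁
  let r : restrictOver NS O₁ ⟶ V := Over.homMk (h.left.resLE _ O₁ le_rfl ≫ il.left.isoOpensRange.inv) (by
    rw [Category.assoc, ← Over.w il, Scheme.Hom.isoOpensRange_inv_comp_assoc, Scheme.Hom.resLE_comp_ι_assoc, Over.w h]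
    rfl)
  have hr : r ≫ il = ι₁ ≫ h := Over.OverMorphism.ext (by
    show (h.left.resLE _ O₁ le_rfl ≫ _) ≫ il.left = O₁.ι ≫ h.left
    rw [Category.assoc, Scheme.Hom.isoOpensRange_inv_comp, Scheme.Hom.resLE_comp_ι])
  obtain ⟨kV, hkV⟩ := (yon S).map_surjective (jV ≫ k)
  have hjg : jV ≫ g = (yon S).map il := by
    obtain ⟨l, hl⟩ := (exists_lift_openSubspace_iff O jV).2 fun t => ⟨_, (Points.ofPt_eq_map_ofScheme _ _).symm⟩
    have : l ≫ eO = 𝟙 _ := (cancel_mono jV).1 (by rw [Category.assoc, heO, hl, Category.id_comp])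
    conv_lhs => rw [← hl]
    rw [Category.assoc, hg₁, reassoc_of% this]
  have hkVh : kV ≫ h = il := (yon S).map_injective (by rw [Functor.map_comp, hkV, Category.assoc, hkh, hjg])
  let kV₁ : V ⟶ restrictOver NS O₁ := Over.homMk (IsOpenImmersion.lift O₁.ι kV.left (by
    rintro _ ⟨t, rfl⟩
    exact (Scheme.Opens.range_ι O₁).superset ⟨t, (congrArg (fun q => q.left t) hkVh).symm⟩)) (by
    show _ ≫ O₁.ι ≫ NS.hom = V.hom
    rw [IsOpenImmersion.lift_fac_assoc, Over.w kV])
  have hkV₁ : kV₁ ≫ ι₁ = kV := Over.OverMorphism.ext (IsOpenImmersion.lift_fac _ _ _)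
  have h1 : kV₁ ≫ r = 𝟙 _ := by
    haveI : Mono il := Over.mono_of_mono_left _
    rw [← cancel_mono il, Category.assoc, hr, reassoc_of% hkV₁, hkVh, Category.id_comp]
  -- the endomorphism of the normalisation
  let B₁ : ULift.{u} Bool → NS.left.Opens := fun i => if i.down then O₁ else
    h.left ⁻¹ᵁ (ir.left.opensRange (H := inferInstanceAs (IsOpenImmersion coprod.inr)))
  have hdisj : ∀ n : NS.left, n ∈ O₁ → n ∈ B₁ ⟨false⟩ → False := fun n ⟨t, ht⟩ ⟨t', ht'⟩ =>
    Set.disjoint_iff_forall_ne.mp (isCompl_range_inl_inr V.left T'.left).1 ⟨t, rfl⟩ ⟨t', rfl⟩ (ht.trans ht'.symm)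
  have hB₁ : ∀ n : NS.left, n ∈ O₁ ∨ n ∈ B₁ ⟨false⟩ := fun n =>
    ((codisjoint_iff.1 (isCompl_range_inl_inr V.left T'.left).2).superset (Set.mem_univ (h.left n)) : _)
  let c₁ : ∀ i, restrictOver NS (B₁ i) ⟶ NS := fun i => restrictOverι NS (B₁ i)
  have hc₁ : ∀ t : NS.left, ∃ i, t ∈ Set.range (c₁ i).left := fun t => by
    rcases hB₁ t with ht | ht
    · exact ⟨⟨true⟩, by rw [range_restrictOverι]; exact ht⟩
    · exact ⟨⟨false⟩, by rw [range_restrictOverι]; exact ht⟩
  obtain ⟨m, hm⟩ := yon_exists_glue c₁ hc₁ (X := (yon S).obj NS) (fun i => match i with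
      | ⟨true⟩ => (yon S).map (r ≫ kV)
      | ⟨false⟩ => (yon S).map (c₁ ⟨false⟩))
    fun i j Q a b e => by
      by_cases hij : i = j
      · subst hij
        haveI : IsOpenImmersion (c₁ i).left := inferInstanceAs (IsOpenImmersion (B₁ i).ι)
        haveI : Mono (c₁ i) := Over.mono_of_mono_left _
        rw [(cancel_mono (c₁ i)).1 e]
      · haveI : IsEmpty Q.left := ⟨fun t => by
          have h1 : (c₁ i).left (a.left t) ∈ B₁ i := (a.left t).2
          have h2 : (c₁ i).left (a.left t) ∈ B₁ j := by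
            rw [show (c₁ i).left (a.left t) = (c₁ j).left (b.left t) from congrArg (fun k => k.left t) e]
            exact (b.left t).2
          rcases i with ⟨_ | _⟩ <;> rcases j with ⟨_ | _⟩
          · exact hij rfl
          · exact hdisj _ h2 h1
          · exact hdisj _ h1 h2
          · exact hij rfl⟩
        exact (subsingleton_hom_of_isEmpty Q _).elim _ _
  have hmt : (yon S).map (c₁ ⟨true⟩) ≫ m = (yon S).map (r ≫ kV) := hm ⟨true⟩
  have hmf := hm ⟨false⟩
  have hid : m = 𝟙 _ := by
    refine (hn.2.2 (IsAlgSpace.yon_obj NS) ((yon S).map nu) k hn.2.1 hn.1).unique ⟨?_, ?_⟩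
      ⟨Category.comp_id _, Category.id_comp _⟩
    · refine hom_ext_of_yon fun Q z => ?_
      obtain ⟨zk, hzk⟩ := (yon S).map_surjective (z ≫ k)
      refine yon_hom_ext_of_cover (fun i => restrictOverι Q (zk.left ⁻¹ᵁ B₁ i)) (fun t => ?_) _ _ fun i => ?_
      · rcases hB₁ (zk.left t) with ht | ht
        · exact ⟨⟨true⟩, by rw [range_restrictOverι]; exact ht⟩
        · exact ⟨⟨false⟩, by rw [range_restrictOverι]; exact ht⟩
      · let zi : restrictOver Q (zk.left ⁻¹ᵁ B₁ i) ⟶ restrictOver NS (B₁ i) :=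
          Over.homMk (zk.left.resLE (B₁ i) _ le_rfl) (by
            show _ ≫ (B₁ i).ι ≫ NS.hom = _
            rw [Scheme.Hom.resLE_comp_ι_assoc, Over.w zk]
            rfl)
        have hzi : zi ≫ c₁ i = restrictOverι Q _ ≫ zk := Over.OverMorphism.ext (Scheme.Hom.resLE_comp_ι _ _)
        rw [← Category.assoc z, ← hzk, ← Category.assoc, ← Functor.map_comp, ← hzi, Functor.map_comp, Category.assoc,
          hm i]
        rcases i with ⟨_ | _⟩
        · rfl
        · -- on the finite piece the point comes from `V`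
          let zO := (yon S).map (restrictOverι Q (zk.left ⁻¹ᵁ B₁ ⟨true⟩)) ≫ z
          obtain ⟨l, hl⟩ := (exists_lift_openSubspace_iff O zO).2 fun t => by
            by_contra hn'
            have hp := Points.ofPt_eq_map_ofScheme zO t
            obtain ⟨y, hy⟩ : Points.ofPt zO t ∈ Set.range (Points.map (openSubspaceι P Oᶜ)) := by
              rw [range_openSubspaceι]; exact hn'
            have e1 : Points.map (g) (Points.ofPt zO t) ∈ Set.range (Points.map ((yon S).map ir)) := by
              rw [← hy, ← Points.map_comp, hg₂, Points.map_comp, Points.map_comp]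
              exact ⟨_, rfl⟩
            obtain ⟨y', hy'⟩ := e1
            obtain ⟨y', rfl⟩ := (Points.schemeEquiv _).surjective y'
            have e2 : zO ≫ g = (yon S).map (zi ≫ c₁ ⟨true⟩ ≫ h) := by
              rw [← hkh, show zi ≫ c₁ ⟨true⟩ ≫ h = (restrictOverι Q (zk.left ⁻¹ᵁ B₁ ⟨true⟩) ≫ zk) ≫ h from by
                rw [← Category.assoc, hzi], Functor.map_comp, Functor.map_comp, hzk]
              simp [zO]
            rw [Points.map_ofPt, e2, Points.ofPt_eq_map_ofScheme, map_yon_map_ofScheme] at hy'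
            obtain ⟨t₂, ht₂⟩ := (zi.left t).2
            refine Set.disjoint_iff_forall_ne.mp (isCompl_range_inl_inr V.left T'.left).1
              ⟨t₂, rfl⟩ ⟨y', rfl⟩ ?_
            exact ht₂.trans ((Points.schemeEquiv _).injective ((map_yon_map_ofScheme ir y').symm.trans hy')).symm
          obtain ⟨l', hl'⟩ := (yon S).map_surjective (l ≫ eO)
          have hzO : zO = (yon S).map l' ≫ jV := by rw [hl', Category.assoc, heO, hl]
          have hk' : zi ≫ c₁ ⟨true⟩ = l' ≫ kV := (yon S).map_injective (by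
            rw [hzi, Functor.map_comp, Functor.map_comp, hzk, hkV, ← Category.assoc, ← Category.assoc, ← hzO])
          have hzr : zi ≫ r = l' := by
            haveI : Mono il := Over.mono_of_mono_left _
            have : c₁ ⟨true⟩ = ι₁ := rfl
            rw [← cancel_mono il, Category.assoc, hr, ← this, ← Category.assoc, hk', Category.assoc, hkVh]
          simp only [← Functor.map_comp]
          rw [reassoc_of% hzr, hk']
    · refine yon_hom_ext_of_cover c₁ hc₁ _ _ fun i => ?_
      rw [← Category.assoc, hm i]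
      rcases i with ⟨_ | _⟩
      · rfl
      · rw [← Functor.map_comp, ← Functor.map_comp]
        refine congrArg _ ?_
        show (r ≫ kV) ≫ nu = c₁ ⟨true⟩ ≫ nu
        rw [← hhπ', Category.assoc, reassoc_of% hkVh, reassoc_of% hr]
        rfl
  have h2 : r ≫ kV = ι₁ := (yon S).map_injective (by rw [← hmt, hid, Category.comp_id]; rfl)
  have h2' : r ≫ kV₁ = 𝟙 _ := by
    haveI : IsOpenImmersion ι₁.left := inferInstanceAs (IsOpenImmersion O₁.ι)
    haveI : Mono ι₁ := Over.mono_of_mono_left _
    rw [← cancel_mono ι₁, Category.assoc, hkV₁, h2, Category.id_comp]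
  refine ⟨(yon S).map kV ≫ nF, RepWith.comp ((repWith_yon_map_iff _ kV).2 ?_) hnF, ?_⟩
  · haveI : IsIso kV₁ := ⟨r, h1, h2'⟩
    rw [← hkV₁]
    show Etale (kV₁.left ≫ O₁.ι)
    infer_instance
  suffices s0 : IsPullback jV (𝟙 _) k ((yon S).map kV) from s0.paste_horiz sqk
  refine isPullback_of_yon (by rw [Category.id_comp, hkV]) fun Q z y e => ?_
  obtain ⟨y, rfl⟩ := (yon S).map_surjective y
  rw [← Functor.map_comp] at e
  obtain ⟨l, hl⟩ := (exists_lift_openSubspace_iff O z).2 fun t => by
    by_contra hn'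
    obtain ⟨y₀, hy⟩ : Points.ofPt z t ∈ Set.range (Points.map (openSubspaceι P Oᶜ)) := by
      rw [range_openSubspaceι]; exact hn'
    have e1 : Points.map g (Points.ofPt z t) ∈ Set.range (Points.map ((yon S).map ir)) := by
      rw [← hy, ← Points.map_comp, hg₂, Points.map_comp, Points.map_comp]
      exact ⟨_, rfl⟩
    obtain ⟨y', hy'⟩ := e1
    obtain ⟨y', rfl⟩ := (Points.schemeEquiv _).surjective y'
    have e2 : z ≫ g = (yon S).map (y ≫ kV ≫ h) := by rw [← hkh, reassoc_of% e, ← Functor.map_comp, Category.assoc]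
    rw [Points.map_ofPt, e2, hkVh, Points.ofPt_eq_map_ofScheme, map_yon_map_ofScheme] at hy'
    exact Set.disjoint_iff_forall_ne.mp (isCompl_range_inl_inr V.left T'.left).1 ⟨y.left t, rfl⟩ ⟨y', rfl⟩
      ((Points.schemeEquiv _).injective ((map_yon_map_ofScheme ir y').symm.trans hy')).symm
  refine ⟨(yon S).map y, ⟨?_, Category.comp_id _⟩, fun m' hm' => (Category.comp_id m').symm.trans hm'.2⟩
  obtain ⟨l', hl'⟩ := (yon S).map_surjective (l ≫ eO)
  have hz : z = (yon S).map l' ≫ jV := by rw [hl', Category.assoc, heO, hl]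
  have hll : l' ≫ kV = y ≫ kV := (yon S).map_injective (by rw [← e, hz, Category.assoc, ← hkV, Functor.map_comp])
  haveI : Mono il := Over.mono_of_mono_left _
  rw [hz, show l' = y from (cancel_mono il).1 (by rw [← hkVh, reassoc_of% hll])]

theorem exists_etale_surjective_of_family' {ι : Type u} {F : Sp S} (U : ι → Over S) (p : ∀ i, (yon S).obj (U i) ⟶ F)
    (he : ∀ i, RepWith @Etale (p i)) (hs : ∀ x : Points F, ∃ i, x ∈ Set.range (Points.map (p i))) :
    ∃ ψ : (yon S).obj (sigmaOver U) ⟶ F, (∀ i, (yon S).map (sigmaOverι U i) ≫ ψ = p i) ∧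
      RepWith @Etale ψ ∧ RepWith @Surjective ψ := by
  obtain ⟨ψ, hψ, -⟩ := existsUnique_desc_sigma U p
  have hcov : ∀ x : Points ((yon S).obj (sigmaOver U)),
      ∃ i, x ∈ Set.range (Points.map ((yon S).map (sigmaOverι U i))) := fun x => by
    obtain ⟨t, rfl⟩ := (Points.schemeHomeo (sigmaOver U)).surjective x
    obtain ⟨i, y, hy⟩ := exists_mem_range_sigmaOverι U t
    refine ⟨i, Points.schemeHomeo _ y, ?_⟩
    show Points.map _ (Points.ofScheme _ y) = Points.ofScheme _ t
    rw [map_yon_map_ofScheme, hy]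
  have h1 : RepWith @Etale ψ := repWith_of_open_cover @Etale _
    (fun i => (repWith_yon_map_iff _ _).2 (inferInstanceAs (IsOpenImmersion (Sigma.ι (fun i => (U i).left) i))))
    hcov ψ fun i => by rw [hψ]; exact he i
  refine ⟨ψ, hψ, h1, repWith_surjective_of_surjective_map h1.1 fun x => ?_⟩
  obtain ⟨i, y, rfl⟩ := hs x
  exact ⟨Points.map ((yon S).map (sigmaOverι U i)) y, by rw [← Points.map_comp, hψ]⟩

theorem exists_iso_over_qfLocus {X Y X' : Space S} (f : X ⟶ Y) (ν : X' ⟶ Y) (f' : X ⟶ X')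
    (hf1 : IsFiniteTypeMor f.hom) (hf2 : IsSeparatedMor f.hom) (hn : IsRelNormalization f.hom ν.hom f'.hom) :
    ∃ (U' : Space S) (j : U' ⟶ X'), RepWith @IsOpenImmersion j.hom ∧
      ∀ (P : Space S) (fst : P ⟶ X) (snd : P ⟶ U'), IsPullback fst.hom snd.hom f'.hom j.hom →
        IsIso snd.hom ∧ Set.range (Points.map fst.hom) =
          {x | HasAtMor (fun U _ h u => ∃ W : U.Opens, u ∈ W ∧ LocallyQuasiFinite (W.ι ≫ h) ∧
            LocallyOfFiniteType (W.ι ≫ h)) f.hom x} := by
  have H := locNorm_of_isRelNormalization f hf1.2 (isQuasiSeparatedMor_of_isSeparatedMor hf2) hn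
  obtain ⟨U₀, a₀, hae, has⟩ := X.property.atlas
  let Wq := {x | HasAtMor (fun U _ h u => ∃ W : U.Opens, u ∈ W ∧ LocallyQuasiFinite (W.ι ≫ h) ∧
    LocallyOfFiniteType (W.ι ≫ h)) f.hom x}
  have data := fun x : {t : U₀.left // Points.ofPt a₀ t ∈ Wq} => exists_clopen_finite f hf2 x.2
  choose T' b V v jV hb hjo hjc hjv hv hxmem using data
  choose q hqe hsq using fun x => exists_piece_iso H (hb x) (hjo x) (hjc x) (hjv x) (hv x)
  let R := ⋃ x, Set.range (Points.map (q x))
  have hR : IsOpen R := isOpen_iUnion fun x => by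
    have : Set.range (Points.map (q x)) = Points.ofPt (q x) '' Set.univ := by
      ext z
      constructor
      · rintro ⟨y, rfl⟩
        obtain ⟨y, rfl⟩ := (Points.schemeEquiv _).surjective y
        exact ⟨y, trivial, Points.ofPt_eq_map_ofScheme _ _⟩
      · rintro ⟨y, -, rfl⟩
        exact ⟨_, (Points.ofPt_eq_map_ofScheme _ _).symm⟩
    rw [this]
    exact isOpenMap_ofPt (q x) (hqe x) _ isOpen_univ
  let j := openSubspaceι X'.obj R
  refine ⟨⟨openSubspace X'.obj R, isAlgSpace_openSubspace X'.property hR⟩, ⟨j⟩, repWith_openSubspaceι X'.obj hR,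
    fun P fst snd sqP => ⟨?_, ?_⟩⟩
  · have hlift : ∀ x, ∃ l, l ≫ j = q x := fun x => (exists_lift_openSubspace_iff R (q x)).2 fun t =>
      Set.mem_iUnion.2 ⟨x, _, (Points.ofPt_eq_map_ofScheme _ _).symm⟩
    choose l hl using hlift
    obtain ⟨p, hp, hpe, hps⟩ := exists_etale_surjective_of_family' (F := openSubspace X'.obj R) (fun x => V x) l
      (fun x => repWith_of_comp_mono (l x) j (by rw [hl]; exact hqe x)) fun z => by
        have : Points.map j z ∈ R := (range_openSubspaceι X'.obj R).subset ⟨z, rfl⟩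
        obtain ⟨x, y, hy⟩ := Set.mem_iUnion.1 this
        exact ⟨x, y, injective_map_of_mono j ((Points.map_comp _ _ _).symm.trans ((congrArg (Points.map · y) (hl x)).trans hy))⟩
    have sqQ := IsPullback.of_hasPullback snd.hom p
    let c := fun x => sigmaOverι (fun x => V x) x
    have hιl : ∀ x, (yon S).map (c x) ≫ p ≫ j = q x := fun x => by rw [reassoc_of% hp x, hl]
    obtain ⟨σ, hσ, -⟩ := existsUnique_desc_sigma (fun x => V x) fun x =>
      sqP.lift (jV x ≫ pullback.fst f.hom (b x)) ((yon S).map (c x) ≫ p)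
        (by rw [(hsq x).w, Category.id_comp, Category.assoc]; exact (hιl x).symm)
    have hσp : σ ≫ snd.hom = p := by
      refine (existsUnique_desc_sigma (fun x => V x) fun x => (yon S).map (c x) ≫ p).unique (fun x => ?_) (fun x => rfl)
      rw [reassoc_of% hσ x, sqP.lift_snd]
    let s' : (yon S).obj (sigmaOver fun x => V x) ⟶ pullback snd.hom p := pullback.lift σ (𝟙 _) (by rw [hσp, Category.id_comp])
    have hs' : s' ≫ pullback.snd snd.hom p = 𝟙 _ := pullback.lift_snd _ _ _
    haveI : Mono (pullback.snd snd.hom p) := ⟨fun {Z} z₁ z₂ e => hom_ext_of_yon fun Q w => by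
      obtain ⟨ζ, hζ⟩ := (yon S).map_surjective ((w ≫ z₁) ≫ pullback.snd _ _)
      have hζ₂ : (yon S).map ζ = (w ≫ z₂) ≫ pullback.snd _ _ := by rw [hζ, Category.assoc, e, Category.assoc]
      refine yon_hom_ext_of_cover (fun x => restrictOverι Q (ζ.left ⁻¹ᵁ (c x).left.opensRange)) (fun t => ?_) _ _ fun x => ?_
      · obtain ⟨x, hx⟩ := exists_mem_range_sigmaOverι (fun x => V x) (ζ.left t)
        exact ⟨x, by rw [range_restrictOverι]; exact hx⟩
      · let ζx : restrictOver Q (ζ.left ⁻¹ᵁ (c x).left.opensRange) ⟶ V x := Over.homMk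
          (ζ.left.resLE _ _ le_rfl ≫ (c x).left.isoOpensRange.inv) (by
            rw [Category.assoc, ← Over.w (c x), Scheme.Hom.isoOpensRange_inv_comp_assoc,
              Scheme.Hom.resLE_comp_ι_assoc, Over.w ζ]
            rfl)
        have hζx : ζx ≫ c x = restrictOverι Q (ζ.left ⁻¹ᵁ (c x).left.opensRange) ≫ ζ := Over.OverMorphism.ext (by
          show (ζ.left.resLE _ _ le_rfl ≫ _) ≫ (c x).left = _ ≫ ζ.left
          rw [Category.assoc, Scheme.Hom.isoOpensRange_inv_comp, Scheme.Hom.resLE_comp_ι]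
          rfl)
        have key : ∀ zi : (yon S).obj (restrictOver Q (ζ.left ⁻¹ᵁ (c x).left.opensRange)) ⟶ pullback snd.hom p,
            zi ≫ pullback.snd _ _ = (yon S).map (ζx ≫ c x) →
            (zi ≫ pullback.fst _ _) ≫ fst.hom = (yon S).map ζx ≫ jV x ≫ pullback.fst f.hom (b x) := fun zi hzi => by
          obtain ⟨m, hm1, hm2⟩ := (hsq x).exists_lift ((zi ≫ pullback.fst _ _) ≫ fst.hom) ((yon S).map ζx) (by
            rw [Category.assoc, sqP.w, ← hιl x]
            simp only [Category.assoc]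
            rw [reassoc_of% (pullback.condition (f := snd.hom) (g := p)), reassoc_of% hzi, Functor.map_comp, Category.assoc])
          rw [← hm1, show m = (yon S).map ζx from (Category.comp_id m).symm.trans hm2]
        have h1 : ((yon S).map (restrictOverι Q _) ≫ w ≫ z₁) ≫ pullback.snd _ _ = (yon S).map (ζx ≫ c x) := by
          rw [hζx, Functor.map_comp, hζ, Category.assoc]
        have h2 : ((yon S).map (restrictOverι Q _) ≫ w ≫ z₂) ≫ pullback.snd _ _ = (yon S).map (ζx ≫ c x) := by
          rw [hζx, Functor.map_comp, hζ₂, Category.assoc]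
        refine pullback.hom_ext (sqP.hom_ext ((key _ h1).trans (key _ h2).symm) ?_) (h1.trans h2.symm)
        simp only [Category.assoc, pullback.condition]
        have h12 := congrArg (· ≫ p) (h1.trans h2.symm)
        simp only [Category.assoc] at h12
        exact h12⟩
    haveI : IsIso (pullback.snd snd.hom p) :=
      ⟨s', (cancel_mono (pullback.snd snd.hom p)).1 (by rw [Category.assoc, hs', Category.id_comp, Category.comp_id]), hs'⟩
    exact isIso_of_fppf_baseChange sqQ (RepWith.mono (fun _ _ g (hg : Etale g) => (inferInstance : Flat g)) hpe)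
      (RepWith.mono (fun _ _ g (hg : Etale g) => (inferInstance : LocallyOfFinitePresentation g)) hpe) hps
  · ext x
    constructor
    · rintro ⟨y, rfl⟩
      have : Points.map f'.hom (Points.map fst.hom y) ∈ R := by
        rw [← Points.map_comp, sqP.w, Points.map_comp]
        exact (range_openSubspaceι X'.obj R).subset ⟨_, rfl⟩
      obtain ⟨i, z, hz⟩ := Set.mem_iUnion.1 this
      obtain ⟨w, hw1, hw2⟩ := exists_point_of_isPullback (hsq i) hz.symm
      obtain ⟨w, rfl⟩ := (Points.schemeEquiv _).surjective w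
      have hje : RepWith @Etale (jV i ≫ pullback.fst f.hom (b i)) :=
        RepWith.comp (RepWith.mono (fun _ _ g (hg : IsOpenImmersion g) => (inferInstance : Etale g)) (hjo i))
          (RepWith.baseChange (IsPullback.of_hasPullback f.hom (b i)).flip (hb i))
      haveI := hv i
      exact ⟨V i, T' i, jV i ≫ pullback.fst f.hom (b i), b i, v i, w, hje, hb i,
        by rw [Category.assoc, pullback.condition, reassoc_of% (hjv i)],
        (Points.ofPt_eq_map_ofScheme _ _).trans hw1, ⊤, trivial, inferInstance, inferInstance⟩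
    · intro hx
      obtain ⟨t, rfl⟩ := surjective_ofPt a₀ has x
      obtain ⟨y, hy⟩ := hxmem ⟨t, hx⟩
      have : Points.map f'.hom (Points.ofPt a₀ t) ∈ Set.range (Points.map j) := by
        rw [range_openSubspaceι]
        refine Set.mem_iUnion.2 ⟨⟨t, hx⟩, y, ?_⟩
        rw [← hy, ← Points.map_comp, (hsq ⟨t, hx⟩).w, Category.id_comp]
      obtain ⟨z, hz⟩ := this
      obtain ⟨w, hw, -⟩ := exists_point_of_isPullback sqP hz.symm
      exact ⟨w, hw⟩

end Groth.Agent.AlgSpLib
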