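import Groth.Agent.S10262
import Groth.Agent.AlgSpLib.LocP
import Groth.Agent.AlgSpLib.LocPMore
import Groth.Agent.AlgSpLib.EtLocalInst
import Groth.Agent.AlgSpLib.IntegralGeneric
import Groth.Agent.AlgSpLib.NormZMT
import Groth.Agent.AlgSpLib.PointsTop
import Groth.Agent.AlgSpLib.MorTop
import Groth.Agent.AlgSpLib.Descent
import Mathlib.CategoryTheory.Sites.RegularEpi

/-!
Morphisms to an etale space are determined by, and glue along, a finite jointly surjective family of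
universally closed morphisms whose values agree on field-valued points.
-/

set_option autoImplicit false

universe u

open CategoryTheory CategoryTheory.Limits AlgebraicGeometry Opposite
open AlgSp Groth.Agent.AlgSpLib

noncomputable section

namespace Groth.Agent.AlgSpLib.ModifHom

set_option backward.isDefEq.respectTransparency.types false
set_option backward.isDefEq.respectTransparency false

variable {S : Scheme.{u}}

/-- two extensions of a field-valued point have a common extension -/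
theorem exists_common {K L Ω : Type u} [Field K] [Field L] [Field Ω] {sK : Spec (.of K) ⟶ S}
    {sL : Spec (.of L) ⟶ S} {sΩ : Spec (.of Ω) ⟶ S} (i : Over.mk sL ⟶ Over.mk sK)
    (j : Over.mk sΩ ⟶ Over.mk sK) :
    ∃ (M : Type u) (_ : Field M) (sM : Spec (.of M) ⟶ S) (a : Over.mk sM ⟶ Over.mk sL)
      (b : Over.mk sM ⟶ Over.mk sΩ), a ≫ i = b ≫ j := by
  haveI : Subsingleton ↥(Over.mk sK).left := inferInstanceAs (Subsingleton ↥(Spec (CommRingCat.of K)))
  obtain ⟨z, -, -⟩ := Scheme.Pullback.exists_preimage_pullback (f := i.left) (g := j.left)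
    (IsLocalRing.closedPoint L) (IsLocalRing.closedPoint Ω) (Subsingleton.elim _ _)
  let P : Scheme.{u} := pullback i.left j.left
  refine ⟨↥(P.residueField z), inferInstance, P.fromSpecResidueField z ≫ pullback.fst i.left j.left ≫ sL,
    Over.homMk (P.fromSpecResidueField z ≫ pullback.fst i.left j.left) (Category.assoc _ _ _),
    Over.homMk (P.fromSpecResidueField z ≫ pullback.snd i.left j.left) ?_, ?_⟩
  · have hi : i.left ≫ sK = sL := Over.w i
    have hj : j.left ≫ sK = sΩ := Over.w j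
    show (P.fromSpecResidueField z ≫ pullback.snd i.left j.left) ≫ sΩ =
      P.fromSpecResidueField z ≫ pullback.fst i.left j.left ≫ sL
    have e : pullback.fst i.left j.left ≫ i.left ≫ sK = pullback.snd i.left j.left ≫ j.left ≫ sK :=
      pullback.condition_assoc sK
    have ei : pullback.fst i.left j.left ≫ i.left ≫ sK = pullback.fst i.left j.left ≫ sL := congrArg _ hi
    have ej : pullback.snd i.left j.left ≫ j.left ≫ sK = pullback.snd i.left j.left ≫ sΩ := congrArg _ hj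
    rw [Category.assoc, ← ej, ← e, ei]
  · refine Over.OverMorphism.ext ?_
    show (P.fromSpecResidueField z ≫ pullback.fst i.left j.left) ≫ i.left =
      (P.fromSpecResidueField z ≫ pullback.snd i.left j.left) ≫ j.left
    simp [pullback.condition]

/-- a field-valued point whose image lies in the image of `f` lifts along `f` after an extension -/
theorem exists_lift_ext {F G : Sp S} (f : F ⟶ G) {K : Type u} [Field K] {sK : Spec (.of K) ⟶ S}
    (η : (yon S).obj (Over.mk sK) ⟶ G) (h : ptOfHom η ∈ Set.range (Points.map f)) :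
    ∃ (L : Type u) (_ : Field L) (sL : Spec (.of L) ⟶ S) (ρ : Over.mk sL ⟶ Over.mk sK)
      (l : (yon S).obj (Over.mk sL) ⟶ F), l ≫ f = (yon S).map ρ ≫ η := by
  obtain ⟨x, hx⟩ := h
  obtain ⟨M, _, sM, a, rfl⟩ := exists_ptOfHom x
  rw [map_ptOfHom] at hx
  obtain ⟨L, _, sL, i, j, e⟩ := (ptOfHom_eq_iff _ _).1 hx
  exact ⟨L, inferInstance, sL, j, (yon S).map i ≫ a, by rw [Category.assoc, e]⟩

theorem ptOfHom_yon_map_id {T : Over S} {K : Type u} [Field K] {sK : Spec (.of K) ⟶ S}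
    (ω : Over.mk sK ⟶ T) :
    ptOfHom ((yon S).map ω) = Points.ofScheme T (ω.left (IsLocalRing.closedPoint K)) := by
  have h := ptOfHom_yon_map ω (𝟙 ((yon S).obj T))
  rwa [Category.comp_id] at h

/-- two morphisms over an etale space agree on an open subspace -/
theorem exists_eqLocus {X V Y : Sp S} (hX : IsAlgSpace X) (hV : IsAlgSpace V) (hY : IsAlgSpace Y)
    (v : V ⟶ Y) (hv : IsEtaleMor v) (x x' : X ⟶ V) (h : x ≫ v = x' ≫ v) :
    ∃ O : Set (Points X), IsOpen O ∧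
      (∀ (K : Type u) [Field K] (sK : Spec (.of K) ⟶ S) (η : (yon S).obj (Over.mk sK) ⟶ X),
        η ≫ x = η ≫ x' → ptOfHom η ∈ O) ∧
      (∀ (K : Type u) [Field K] (sK : Spec (.of K) ⟶ S) (η : (yon S).obj (Over.mk sK) ⟶ X),
        ptOfHom η ∈ O → ∃ (L : Type u) (_ : Field L) (sL : Spec (.of L) ⟶ S)
          (ρ : Over.mk sL ⟶ Over.mk sK), (yon S).map ρ ≫ η ≫ x = (yon S).map ρ ≫ η ≫ x') ∧
      (O = Set.univ → x = x') := by
  have hle : (@Etale : MorphismProperty Scheme.{u}) ≤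
      (@LocallyOfFiniteType ⊓ @FormallyUnramified : MorphismProperty Scheme.{u}) :=
    fun _ _ f hf => by
      haveI : Etale f := hf
      exact ⟨inferInstance, inferInstance⟩
  have hd : RepWith @IsOpenImmersion (pullback.diagonal v) :=
    (Groth.Agent.S10262.result (X := ⟨V, hV⟩) (Y := ⟨Y, hY⟩) (ObjectProperty.homMk v)).1
      (locP_mono hle ((isEtaleMor_iff_locP etLocal_etale hV hY v).1 hv))
  let D : V ⟶ pullback v v := pullback.diagonal v
  let w : X ⟶ pullback v v := pullback.lift x x' h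
  let q : pullback D w ⟶ X := pullback.snd D w
  have hq : RepWith @IsOpenImmersion q := RepWith.baseChange (IsPullback.of_hasPullback D w) hd
  have hqe : q ≫ x = q ≫ x' := by
    have c : pullback.fst D w ≫ D = q ≫ w := pullback.condition
    have c₁ := congr($c ≫ pullback.fst v v)
    have c₂ := congr($c ≫ pullback.snd v v)
    simp only [D, w, Category.assoc, pullback.diagonal_fst, pullback.diagonal_snd, pullback.lift_fst,
      pullback.lift_snd, Category.comp_id] at c₁ c₂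
    rw [← c₁, c₂]
  refine ⟨Set.range (Points.map q), isOpen_range_map hX hq, fun K _ sK η e => ?_, fun K _ sK η hη => ?_,
    fun hO => ?_⟩
  · refine ⟨ptOfHom (pullback.lift (η ≫ x) η (pullback.hom_ext ?_ ?_) :
      (yon S).obj (Over.mk sK) ⟶ pullback D w), ?_⟩
    · simp [D, w]
    · simp [D, w, e]
    · rw [map_ptOfHom, pullback.lift_snd]
  · obtain ⟨L, _, sL, ρ, l, hl⟩ := exists_lift_ext q η hη
    exact ⟨L, inferInstance, sL, ρ, by rw [← reassoc_of% hl, ← reassoc_of% hl, hqe]⟩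
  · obtain ⟨g, hg⟩ := (exists_lift_iff_range_subset hq (𝟙 X)).2 (hO.symm ▸ Set.subset_univ _)
    rw [← Category.id_comp x, ← hg, Category.assoc, hqe, reassoc_of% hg]

section

variable {ι : Type} {V₁ V₂ Y : Sp S} (A : ι → Sp S) (α : ∀ i, A i ⟶ V₁) (u : ∀ i, A i ⟶ V₂)

/-- the pair of field-valued points `(η, θ)` comes from the family after an extension -/
def Good {K : Type u} [Field K] {sK : Spec (.of K) ⟶ S} (η : (yon S).obj (Over.mk sK) ⟶ V₁)
    (θ : (yon S).obj (Over.mk sK) ⟶ V₂) : Prop :=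
  ∃ (L : Type u) (_ : Field L) (sL : Spec (.of L) ⟶ S) (ρ : Over.mk sL ⟶ Over.mk sK) (i : ι)
    (l : (yon S).obj (Over.mk sL) ⟶ A i),
    l ≫ α i = (yon S).map ρ ≫ η ∧ l ≫ u i = (yon S).map ρ ≫ θ

/-- `x` has the values prescribed by the family along `a` at all field-valued points -/
def Agree {X : Sp S} (a : X ⟶ V₁) (x : X ⟶ V₂) : Prop :=
  ∀ (K : Type u) [Field K] (sK : Spec (.of K) ⟶ S) (η : (yon S).obj (Over.mk sK) ⟶ X),
    Good A α u (η ≫ a) (η ≫ x)

/-- the family has single-valued values on field-valued points -/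
def SingleValued : Prop :=
  ∀ (i j : ι) (K : Type u) [Field K] (sK : Spec (.of K) ⟶ S) (l : (yon S).obj (Over.mk sK) ⟶ A i)
    (l' : (yon S).obj (Over.mk sK) ⟶ A j), l ≫ α i = l' ≫ α j →
    ∃ (L : Type u) (_ : Field L) (sL : Spec (.of L) ⟶ S) (ρ : Over.mk sL ⟶ Over.mk sK),
      (yon S).map ρ ≫ l ≫ u i = (yon S).map ρ ≫ l' ≫ u j

variable {A α u}

theorem good_of_lift {K : Type u} [Field K] {sK : Spec (.of K) ⟶ S} (i : ι)
    (l : (yon S).obj (Over.mk sK) ⟶ A i) : Good A α u (l ≫ α i) (l ≫ u i) :=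
  ⟨K, inferInstance, sK, 𝟙 _, i, l, by simp, by simp⟩

theorem good_of_ext {K L : Type u} [Field K] [Field L] {sK : Spec (.of K) ⟶ S}
    {sL : Spec (.of L) ⟶ S} (ρ : Over.mk sL ⟶ Over.mk sK) {η : (yon S).obj (Over.mk sK) ⟶ V₁}
    {θ : (yon S).obj (Over.mk sK) ⟶ V₂}
    (h : Good A α u ((yon S).map ρ ≫ η) ((yon S).map ρ ≫ θ)) : Good A α u η θ := by
  obtain ⟨M, _, sM, σ, i, l, h₁, h₂⟩ := h
  exact ⟨M, inferInstance, sM, σ ≫ ρ, i, l, by simp [h₁], by simp [h₂]⟩

theorem Good.ext {K L : Type u} [Field K] [Field L] {sK : Spec (.of K) ⟶ S}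
    {sL : Spec (.of L) ⟶ S} {η : (yon S).obj (Over.mk sK) ⟶ V₁}
    {θ : (yon S).obj (Over.mk sK) ⟶ V₂} (h : Good A α u η θ) (ρ : Over.mk sL ⟶ Over.mk sK) :
    Good A α u ((yon S).map ρ ≫ η) ((yon S).map ρ ≫ θ) := by
  obtain ⟨M, _, sM, σ, i, l, h₁, h₂⟩ := h
  obtain ⟨N, _, sN, a, b, e⟩ := exists_common σ ρ
  refine ⟨N, inferInstance, sN, b, i, (yon S).map a ≫ l, ?_, ?_⟩
  · rw [Category.assoc, h₁, ← Functor.map_comp_assoc, e, Functor.map_comp_assoc]
  · rw [Category.assoc, h₂, ← Functor.map_comp_assoc, e, Functor.map_comp_assoc]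

theorem Good.unique (hsv : SingleValued A α u) {K : Type u} [Field K] {sK : Spec (.of K) ⟶ S}
    {η : (yon S).obj (Over.mk sK) ⟶ V₁} {θ θ' : (yon S).obj (Over.mk sK) ⟶ V₂}
    (h : Good A α u η θ) (h' : Good A α u η θ') :
    ∃ (L : Type u) (_ : Field L) (sL : Spec (.of L) ⟶ S) (ρ : Over.mk sL ⟶ Over.mk sK),
      (yon S).map ρ ≫ θ = (yon S).map ρ ≫ θ' := by
  obtain ⟨M, _, sM, σ, i, l, h₁, h₂⟩ := h
  obtain ⟨M', _, sM', σ', j, l', h₁', h₂'⟩ := h'
  obtain ⟨N, _, sN, a, b, e⟩ := exists_common σ σ'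
  obtain ⟨L, _, sL, τ, hτ⟩ := hsv i j N sN ((yon S).map a ≫ l) ((yon S).map b ≫ l') (by
    rw [Category.assoc, Category.assoc, h₁, h₁', ← Functor.map_comp_assoc, e, Functor.map_comp_assoc])
  refine ⟨L, inferInstance, sL, τ ≫ a ≫ σ, ?_⟩
  simp only [Category.assoc, h₂, h₂'] at hτ
  rw [show (yon S).map (τ ≫ a ≫ σ) ≫ θ = (yon S).map τ ≫ (yon S).map a ≫ (yon S).map σ ≫ θ by simp, hτ,
    e]
  simp

variable (hsv : SingleValued A α u)
include hsv

theorem Agree.eq {X : Sp S} (hX : IsAlgSpace X) (hV₂ : IsAlgSpace V₂) (hY : IsAlgSpace Y)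
    (v₂ : V₂ ⟶ Y) (hv₂ : IsEtaleMor v₂) {a : X ⟶ V₁} {x x' : X ⟶ V₂} (hxx : x ≫ v₂ = x' ≫ v₂)
    (h : Agree A α u a x) (h' : Agree A α u a x') : x = x' := by
  obtain ⟨O, -, hin, -, huniv⟩ := exists_eqLocus hX hV₂ hY v₂ hv₂ x x' hxx
  refine huniv (Set.eq_univ_of_forall fun z => ?_)
  obtain ⟨K, _, sK, η, rfl⟩ := exists_ptOfHom z
  obtain ⟨L, _, sL, ρ, e⟩ := (h K sK η).unique hsv (h' K sK η)
  rw [← ptOfHom_map η ρ]
  exact hin L sL _ (by simpa using e)

/-- agreement with one member of the family holds on an open neighbourhood of a point where it holds -/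
theorem exists_nbhd (hV₁ : IsAlgSpace V₁) (hV₂ : IsAlgSpace V₂) (hY : IsAlgSpace Y) (v₁ : V₁ ⟶ Y)
    (v₂ : V₂ ⟶ Y) (hv₂ : IsEtaleMor v₂) {i : ι} (hA : IsAlgSpace (A i))
    (hcl : IsUnivClosedMor (α i)) (hu : α i ≫ v₁ = u i ≫ v₂) {W : Over S} (a : (yon S).obj W ⟶ V₁)
    (x : (yon S).obj W ⟶ V₂) (hx : x ≫ v₂ = a ≫ v₁) (w : ↥W.left)
    (hw : ∃ (K : Type u) (_ : Field K) (sK : Spec (.of K) ⟶ S) (ω : (yon S).obj (Over.mk sK) ⟶ (yon S).obj W),
      ptOfHom ω = Points.ofScheme W w ∧ Good A α u (ω ≫ a) (ω ≫ x)) :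
    ∃ C : Set (Points ((yon S).obj W)), IsClosed C ∧ Points.ofScheme W w ∉ C ∧
      ∀ (K : Type u) [Field K] (sK : Spec (.of K) ⟶ S) (η : (yon S).obj (Over.mk sK) ⟶ (yon S).obj W),
        ptOfHom η ∉ C → ∀ l : (yon S).obj (Over.mk sK) ⟶ A i, l ≫ α i = η ≫ a →
          Good A α u (η ≫ a) (η ≫ x) := by
  have sq := IsPullback.of_hasPullback (α i) a
  have hQ : IsAlgSpace (pullback (α i) a) :=
    isAlgSpace_of_isPullback hV₁.diag hA (IsAlgSpace.yon_obj W) sq
  let f₁ : pullback (α i) a ⟶ A i := pullback.fst _ _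
  let f₂ : pullback (α i) a ⟶ (yon S).obj W := pullback.snd _ _
  have hcond : f₁ ≫ α i = f₂ ≫ a := pullback.condition
  obtain ⟨O, hO, hin, hout, -⟩ := exists_eqLocus hQ hV₂ hY v₂ hv₂ (f₂ ≫ x) (f₁ ≫ u i) (by
    rw [Category.assoc, Category.assoc, hx, ← hu, reassoc_of% hcond])
  refine ⟨Points.map f₂ '' Oᶜ, hcl (IsAlgSpace.yon_obj W) a f₁ f₂ sq _ hO.isClosed_compl, ?_,
    fun K _ sK η hη l hl => ?_⟩
  · rintro ⟨z, hzO, hzw⟩
    refine hzO ?_
    obtain ⟨L, _, sL, ζ, rfl⟩ := exists_ptOfHom z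
    obtain ⟨K, _, sK, ω, hω, hg⟩ := hw
    rw [map_ptOfHom, ← hω] at hzw
    obtain ⟨M, _, sM, ρ, σ, e⟩ := (ptOfHom_eq_iff _ _).1 hzw
    have h1 : Good A α u ((yon S).map ρ ≫ ζ ≫ f₂ ≫ a) ((yon S).map ρ ≫ ζ ≫ f₂ ≫ x) := by
      have := hg.ext σ
      rwa [← reassoc_of% e, ← reassoc_of% e] at this
    have h2 : Good A α u ((yon S).map ρ ≫ ζ ≫ f₂ ≫ a) ((yon S).map ρ ≫ ζ ≫ f₁ ≫ u i) := by
      have := good_of_lift (A := A) (α := α) (u := u) i ((yon S).map ρ ≫ ζ ≫ f₁)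
      simpa [hcond] using this
    obtain ⟨N, _, sN, τ, hτ⟩ := h1.unique hsv h2
    rw [← ptOfHom_map ζ (τ ≫ ρ)]
    exact hin N sN _ (by simpa using hτ)
  · let z : (yon S).obj (Over.mk sK) ⟶ pullback (α i) a := pullback.lift l η hl
    have hz₁ : z ≫ f₁ = l := pullback.lift_fst _ _ _
    have hz₂ : z ≫ f₂ = η := pullback.lift_snd _ _ _
    have hzO : ptOfHom z ∈ O := by
      by_contra h
      exact hη ⟨_, h, by rw [map_ptOfHom, hz₂]⟩
    obtain ⟨L, _, sL, ρ, e⟩ := hout K sK z hzO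
    rw [reassoc_of% hz₂, reassoc_of% hz₁] at e
    exact ⟨L, inferInstance, sL, ρ, i, (yon S).map ρ ≫ l, by rw [Category.assoc, hl],
      by rw [Category.assoc, ← e]⟩

/-- the morphism with the prescribed values -/
theorem existsUnique_hom [Finite ι] (hV₁ : IsAlgSpace V₁) (hV₂ : IsAlgSpace V₂) (hY : IsAlgSpace Y)
    (v₁ : V₁ ⟶ Y) (v₂ : V₂ ⟶ Y) (hv₂ : IsEtaleMor v₂) (hA : ∀ i, IsAlgSpace (A i))
    (hcl : ∀ i, IsUnivClosedMor (α i)) (hu : ∀ i, α i ≫ v₁ = u i ≫ v₂)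
    (hsurj : ∀ z : Points V₁, ∃ i, z ∈ Set.range (Points.map (α i))) :
    ∃! m : V₁ ⟶ V₂, m ≫ v₂ = v₁ ∧ ∀ i, α i ≫ m = u i := by
  obtain ⟨U, p, hpe, hps⟩ := hV₁.atlas
  have hloc : ∀ t : ↥U.left, ∃ (N : Over S) (a : (yon S).obj N ⟶ V₁) (x : (yon S).obj N ⟶ V₂),
      RepWith @Etale a ∧ x ≫ v₂ = a ≫ v₁ ∧ Agree A α u a x ∧
        Points.ofPt p t ∈ Set.range (Points.map a) := by
    intro t
    let η₀ : (yon S).obj (Over.mk (U.left.fromSpecResidueField t ≫ U.hom)) ⟶ (yon S).obj U :=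
      (yon S).map (Over.homMk (U.left.fromSpecResidueField t))
    have hη₀ : Points.ofPt p t = ptOfHom (η₀ ≫ p) := ofPt_eq_ptOfHom p t
    obtain ⟨i, hi⟩ := hsurj (ptOfHom (η₀ ≫ p))
    obtain ⟨L, _, sL, ρ, l, hl⟩ := exists_lift_ext (α i) _ hi
    have sq := IsPullback.of_hasPullback (p ≫ v₁) v₂
    have hP : IsAlgSpace (pullback (p ≫ v₁) v₂) :=
      isAlgSpace_of_isPullback hY.diag (IsAlgSpace.yon_obj U) hV₂ sq
    have hfst : IsEtaleMor (pullback.fst (p ≫ v₁) v₂) :=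
      (isEtaleMor_iff_locP etLocal_etale hP (IsAlgSpace.yon_obj U) _).2
        (locP_of_isPullback etLocal_etale hV₂ hY hP sq.flip
          ((isEtaleMor_iff_locP etLocal_etale hV₂ hY v₂).1 hv₂))
    obtain ⟨W, c, hce, hcs⟩ := hP.atlas
    obtain ⟨g, hg⟩ := (yon S).map_surjective (c ≫ pullback.fst (p ≫ v₁) v₂)
    have hge : RepWith @Etale ((yon S).map g) := hg ▸ hfst c hce
    let π : (yon S).obj (Over.mk sL) ⟶ pullback (p ≫ v₁) v₂ :=
      pullback.lift ((yon S).map ρ ≫ η₀) (l ≫ u i) (by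
        rw [Category.assoc, Category.assoc, ← hu i, ← reassoc_of% hl])
    obtain ⟨M, _, sM, σ, ω, hω⟩ := exists_lift_ext c π (surjective_map_of_repWith hcs _)
    let a : (yon S).obj W ⟶ V₁ := (yon S).map g ≫ p
    let x : (yon S).obj W ⟶ V₂ := c ≫ pullback.snd (p ≫ v₁) v₂
    have hx : x ≫ v₂ = a ≫ v₁ := by
      simp only [x, a, hg, Category.assoc, ← pullback.condition]
    have hωa : ω ≫ a = (yon S).map σ ≫ (yon S).map ρ ≫ η₀ ≫ p := by
      simp only [a, hg, Category.assoc]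
      rw [reassoc_of% hω]
      simp [π]
    have hωx : ω ≫ x = (yon S).map σ ≫ l ≫ u i := by
      simp only [x]
      rw [reassoc_of% hω]
      simp [π]
    have hgood : Good A α u (ω ≫ a) (ω ≫ x) := by
      rw [hωa, hωx, ← hl]
      exact (good_of_lift i l).ext σ
    obtain ⟨ω', rfl⟩ := (yon S).map_surjective ω
    let w : ↥W.left := ω'.left (IsLocalRing.closedPoint M)
    have hw : ptOfHom ((yon S).map ω') = Points.ofScheme W w := ptOfHom_yon_map_id ω'
    have hC := fun j => exists_nbhd hsv hV₁ hV₂ hY v₁ v₂ hv₂ (hA j) (hcl j) (hu j) a x hx w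
      ⟨M, inferInstance, sM, (yon S).map ω', hw, hgood⟩
    choose C hC₁ hC₂ hC₃ using hC
    let O : W.left.Opens := ⟨Points.ofScheme W ⁻¹' (⋃ j, C j)ᶜ,
      (isClosed_iUnion_of_finite hC₁).isOpen_compl.preimage (Points.continuous_ofPt _)⟩
    have hwO : w ∈ O := fun h => by
      obtain ⟨j, hj⟩ := Set.mem_iUnion.1 h
      exact hC₂ j hj
    let N : Over S := Over.mk (O.ι ≫ W.hom)
    let ιN : N ⟶ W := Over.homMk O.ι rfl
    refine ⟨N, (yon S).map ιN ≫ a, (yon S).map ιN ≫ x, ?_, by simp [hx], ?_, ?_⟩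
    · exact RepWith.comp ((repWith_yon_map_iff _ _).2 (inferInstanceAs (Etale O.ι)))
        (RepWith.comp hge hpe)
    · intro K _ sK η
      obtain ⟨η', rfl⟩ := (yon S).map_surjective η
      have hout : ∀ j, ptOfHom ((yon S).map (η' ≫ ιN)) ∉ C j := fun j h => by
        rw [ptOfHom_yon_map_id] at h
        exact (η'.left (IsLocalRing.closedPoint K)).2 (Set.mem_iUnion.2 ⟨j, h⟩)
      obtain ⟨j, hj⟩ := hsurj (ptOfHom ((yon S).map (η' ≫ ιN) ≫ a))
      obtain ⟨L', _, sL', τ, l', hl'⟩ := exists_lift_ext (α j) _ hj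
      have key := hC₃ j L' sL' ((yon S).map τ ≫ (yon S).map (η' ≫ ιN))
        (by rw [ptOfHom_map]; exact hout j) l' (by rw [Category.assoc]; exact hl')
      refine good_of_ext τ ?_
      simpa only [Functor.map_comp, Category.assoc] using key
    · refine ⟨Points.ofScheme N ⟨w, hwO⟩, ?_⟩
      rw [Points.map_comp, map_yon_map_ofScheme, show (ιN.left ⟨w, hwO⟩ : ↥W.left) = w from rfl, ← hw,
        map_ptOfHom, hωa, ptOfHom_map, ptOfHom_map, hη₀]
  choose N a x hae hx hag hmem using hloc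
  obtain ⟨ψ, hψ, hψe, hψs⟩ := exists_etale_surjective_of_family' N a hae fun z => by
    obtain ⟨t, rfl⟩ := surjective_ofPt p hps z
    exact ⟨t, hmem t⟩
  obtain ⟨ξ, hξ, hξu⟩ := existsUnique_desc_sigma N x
  have hξv : ξ ≫ v₂ = ψ ≫ v₁ := by
    obtain ⟨r, -, hr⟩ := existsUnique_desc_sigma N fun t => a t ≫ v₁
    rw [hr (ξ ≫ v₂) fun t => by rw [reassoc_of% hξ t, hx],
      hr (ψ ≫ v₁) fun t => by rw [reassoc_of% hψ t]]
  have hξag : Agree A α u ψ ξ := fun K _ sK η => by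
    obtain ⟨η', rfl⟩ := (yon S).map_surjective η
    obtain ⟨t, y, hy⟩ := exists_mem_range_sigmaOverι N (η'.left (IsLocalRing.closedPoint K))
    obtain ⟨L, _, sL, τ, l, hl⟩ := exists_lift_ext ((yon S).map (sigmaOverι N t)) ((yon S).map η')
      ⟨Points.ofScheme _ y, by rw [map_yon_map_ofScheme, ptOfHom_yon_map_id, hy]⟩
    refine good_of_ext τ ?_
    rw [← reassoc_of% hl, ← reassoc_of% hl, hψ t, hξ t]
    exact hag t L sL l
  haveI : Epi ψ := by
    haveI := isLocallySurjective_of_etale hψe hψs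
    exact Sheaf.epi_of_isLocallySurjective ψ
  haveI : IsRegularEpi ψ := IsRegularEpiCategory.regularEpiOfEpi ψ
  have hR : IsAlgSpace (pullback ψ ψ) := isAlgSpace_of_isPullback hV₁.diag
    (IsAlgSpace.yon_obj _) (IsAlgSpace.yon_obj _) (IsPullback.of_hasPullback ψ ψ)
  have hR' : pullback.fst ψ ψ ≫ ξ = pullback.snd ψ ψ ≫ ξ := by
    refine Agree.eq hsv (a := pullback.fst ψ ψ ≫ ψ) hR hV₂ hY v₂ hv₂
      (by rw [Category.assoc, Category.assoc, hξv, pullback.condition_assoc])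
      (fun K _ sK η => by simpa using hξag K sK (η ≫ pullback.fst ψ ψ))
      (fun K _ sK η => ?_)
    rw [pullback.condition]
    simpa using hξag K sK (η ≫ pullback.snd ψ ψ)
  obtain ⟨m, hm⟩ : ∃ m : V₁ ⟶ V₂, ψ ≫ m = ξ :=
    ⟨EffectiveEpi.desc ψ ξ (fun {Z} g₁ g₂ e => by
      rw [← pullback.lift_fst g₁ g₂ e, Category.assoc, hR', ← Category.assoc, pullback.lift_snd]),
      EffectiveEpi.fac _ _ _⟩
  have hmv : m ≫ v₂ = v₁ := by rw [← cancel_epi ψ, reassoc_of% hm, hξv]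
  have hmag : Agree A α u (𝟙 V₁) m := fun K _ sK η => by
    obtain ⟨L, _, sL, τ, l, hl⟩ := exists_lift_ext ψ η (surjective_map_of_repWith hψs _)
    refine good_of_ext τ ?_
    rw [Category.comp_id, ← reassoc_of% hl, hm, ← hl]
    exact hξag L sL l
  refine ⟨m, ⟨hmv, fun j => ?_⟩, fun m' ⟨hm₁, hm₂⟩ => ?_⟩
  · refine Agree.eq hsv (a := α j) (hA j) hV₂ hY v₂ hv₂ (by rw [Category.assoc, hmv, hu j])
      (fun K _ sK η => by simpa using hmag K sK (η ≫ α j)) (fun K _ sK η => good_of_lift j η)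
  · refine Agree.eq hsv hV₁ hV₂ hY v₂ hv₂ (by rw [hm₁, hmv]) (fun K _ sK η => ?_) hmag
    obtain ⟨j, hj⟩ := hsurj (ptOfHom η)
    obtain ⟨L, _, sL, τ, l, hl⟩ := exists_lift_ext (α j) η hj
    refine good_of_ext τ ?_
    have := good_of_lift (A := A) (α := α) (u := u) j l
    rwa [← hm₂ j, ← Category.assoc, hl, Category.assoc, ← Category.comp_id η, Category.assoc] at this

end

end Groth.Agent.AlgSpLib.ModifHom
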