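import Groth.Agent.AlgSpLib.FieldIsolated
import Groth.Agent.AlgSpLib.MonoLft
import Groth.Agent.AlgSpLib.MorMore
import Groth.Agent.AlgSpLib.MonoDiscrete
import Groth.Agent.FSchLib.Thickening

/-!
Monomorphisms into locally Artinian schemes are locally of finite type; local quasi-finiteness over a field.
-/

universe u

open CategoryTheory CategoryTheory.Limits AlgebraicGeometry
open AlgSp

noncomputable section

namespace Groth.Agent.AlgSpLib

set_option backward.isDefEq.respectTransparency.types false

open TensorProduct in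
theorem isClosedImmersion_spec_mono {A B : CommRingCat.{u}} [IsArtinianRing A] [IsLocalRing A]
    [Nontrivial B] (φ : A ⟶ B) [Mono (Spec.map φ)] : IsClosedImmersion (Spec.map φ) := by
  refine IsClosedImmersion.spec_of_surjective _ ?_
  algebraize [φ.hom]
  let m := IsLocalRing.maximalIdeal A
  have hnil : IsNilpotent m := by
    have h := IsArtinianRing.isNilpotent_jacobson_bot (R := A)
    rwa [IsLocalRing.jacobson_eq_maximalIdeal ⊥ bot_ne_top] at h
  let K := A ⧸ m
  letI : Field K := Ideal.Quotient.field m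
  have hmt : m.map φ.hom ≠ ⊤ := fun h => by
    obtain ⟨n, hn⟩ := hnil
    have := congrArg (Ideal.map φ.hom) hn
    rw [Ideal.map_pow, h, Ideal.top_pow, Ideal.zero_eq_bot, Ideal.map_bot] at this
    exact top_ne_bot this
  let C := CommRingCat.of (B ⧸ m.map φ.hom)
  have : Nontrivial C := Ideal.Quotient.nontrivial_iff.2 hmt
  let ψ : CommRingCat.of K ⟶ C := CommRingCat.ofHom (Ideal.quotientMap _ φ.hom Ideal.le_comap_map)
  have hm : Mono (Spec.map ψ) := by
    have e : Spec.map ψ ≫ Spec.map (CommRingCat.ofHom (Ideal.Quotient.mk m)) =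
        Spec.map (CommRingCat.ofHom (Ideal.Quotient.mk (m.map φ.hom))) ≫ Spec.map φ := by
      rw [← Spec.map_comp, ← Spec.map_comp]
      rfl
    have : IsClosedImmersion (Spec.map (CommRingCat.ofHom (Ideal.Quotient.mk (m.map φ.hom)))) :=
      IsClosedImmersion.spec_of_surjective _ Ideal.Quotient.mk_surjective
    exact mono_of_mono_fac e
  have : IsIso (Spec.map ψ) := isIso_of_mono_to_field (Spec.map ψ) inferInstance
  have : IsClosedImmersion (Spec.map ψ) := inferInstance
  have hψ : Function.Surjective ψ.hom := by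
    have : IsIso (Scheme.Spec.map ψ.op) := inferInstanceAs (IsIso (Spec.map ψ))
    have : IsIso ψ := (isIso_op_iff ψ).1 (isIso_of_reflects_iso ψ.op Scheme.Spec)
    exact (ConcreteCategory.bijective_of_isIso ψ).2
  refine FSchLib.surjective_of_nilpotent φ.hom (Ideal.Quotient.mk (m.map φ.hom)) hnil
    (le_of_eq (Ideal.mk_ker)) ?_
  intro c
  obtain ⟨a, ha⟩ := hψ c
  obtain ⟨a, rfl⟩ := Ideal.Quotient.mk_surjective a
  exact ⟨a, ha⟩

/-- a monomorphism into a discrete locally Noetherian scheme is a closed immersion -/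
theorem closedImmersion_of_mono_to_discrete {W T : Scheme.{u}} [DiscreteTopology T] [IsLocallyNoetherian T]
    (g : W ⟶ T) [Mono g] : IsClosedImmersion g := by
  choose O hO hvO hsub using fun v : T =>
    exists_isAffineOpen_mem_and_subset (x := v) (U := ⟨{v}, isOpen_discrete _⟩) rfl
  refine IsZariskiLocalAtTarget.of_iSup_eq_top O
    (top_le_iff.1 fun v _ => TopologicalSpace.Opens.mem_iSup.2 ⟨v, hvO v⟩) fun v => ?_
  have : Subsingleton (O v) := ⟨fun a b => Subtype.ext ((hsub v a.2).trans (hsub v b.2).symm)⟩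
  have : Nonempty (O v) := ⟨⟨v, hvO v⟩⟩
  have hm : Mono (g ∣_ O v) :=
    MorphismProperty.of_isPullback (P := MorphismProperty.monomorphisms Scheme.{u})
      (isPullback_morphismRestrict g (O v)).flip (show Mono g from ‹_›)
  rcases isEmpty_or_nonempty ↥(g ⁻¹ᵁ O v) with he | hne
  · have : IsEmpty ↥(g ⁻¹ᵁ O v).toScheme := he
    exact inferInstance
  have : IsAffine (O v).toScheme := hO v
  have : Subsingleton ↥(g ⁻¹ᵁ O v) := (g ∣_ O v).injective.subsingleton
  obtain ⟨w⟩ := hne
  obtain ⟨N, hN, hwN, -⟩ := exists_isAffineOpen_mem_and_subset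
    (X := (g ⁻¹ᵁ O v).toScheme) (x := w) (U := ⊤) trivial
  have : IsAffine (g ⁻¹ᵁ O v).toScheme := by
    have : N = ⊤ := top_le_iff.1 fun z _ => Subsingleton.elim w z ▸ hwN
    subst this
    have : IsAffine (⊤ : (g ⁻¹ᵁ O v).toScheme.Opens).toScheme := hN
    exact IsAffine.of_isIso (g ⁻¹ᵁ O v).toScheme.topIso.inv
  obtain ⟨φ, hφ⟩ := Spec.map_surjective
    ((g ⁻¹ᵁ O v).toScheme.isoSpec.inv ≫ (g ∣_ O v) ≫ (O v).toScheme.isoSpec.hom)
  have : Mono (Spec.map φ) := hφ ▸ inferInstance
  let A := Γ((O v).toScheme, ⊤)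
  have : IsNoetherianRing A :=
    IsLocallyNoetherian.component_noetherian ⟨⊤, isAffineOpen_top _⟩
  have hA : Subsingleton (PrimeSpectrum A) := (O v).toScheme.isoSpec.inv.homeomorph.injective.subsingleton
  have : IsArtinianRing A := isArtinianRing_iff_isNoetherianRing_krullDimLE_zero.2
    ⟨inferInstance, Ring.krullDimLE_zero_iff.2 fun I hI => by
      obtain ⟨M, hM, hIM⟩ := Ideal.exists_le_maximal I hI.ne_top
      have : (⟨I, hI⟩ : PrimeSpectrum A) = ⟨M, hM.isPrime⟩ := Subsingleton.elim _ _
      rw [show I = M from congrArg PrimeSpectrum.asIdeal this]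
      exact hM⟩
  have : Nontrivial A := PrimeSpectrum.nonempty_iff_nontrivial.1
    ⟨(O v).toScheme.isoSpec.hom ⟨v, hvO v⟩⟩
  have : IsLocalRing A := by
    have : Subsingleton (MaximalSpectrum A) := MaximalSpectrum.toPrimeSpectrum_injective.subsingleton
    exact .of_singleton_maximalSpectrum
  have : Nontrivial Γ((g ⁻¹ᵁ O v).toScheme, ⊤) := PrimeSpectrum.nonempty_iff_nontrivial.1
    ⟨(g ⁻¹ᵁ O v).toScheme.isoSpec.hom w⟩
  have := isClosedImmersion_spec_mono φ
  have e : g ∣_ O v = (g ⁻¹ᵁ O v).toScheme.isoSpec.hom ≫ Spec.map φ ≫ (O v).toScheme.isoSpec.inv := by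
    rw [hφ]; simp
  rw [e]
  infer_instance

/-- a monomorphism into a discrete locally Noetherian scheme is locally of finite type -/
theorem lft_of_mono_to_discrete {W T : Scheme.{u}} [DiscreteTopology T] [IsLocallyNoetherian T]
    (g : W ⟶ T) [Mono g] : LocallyOfFiniteType g := by
  have := closedImmersion_of_mono_to_discrete g
  infer_instance

variable {S : Scheme.{u}} {X Y : Sp S} {k : Type u} [Field k]
  {str : Spec (CommRingCat.of k) ⟶ S}

/-- local quasi-finiteness over a field passes to subfunctors -/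
theorem lqf_field_of_mono (hX : IsAlgSpace X) (hY : IsAlgSpace Y) (f : X ⟶ Y) [Mono f]
    (q : Y ⟶ (yon S).obj (Over.mk str))
    (hq : LocP (@LocallyQuasiFinite ⊓ @LocallyOfFiniteType) q) :
    LocP (@LocallyQuasiFinite ⊓ @LocallyOfFiniteType) (f ≫ q) := by
  have hql : LocP @LocallyOfFiniteType q := fun U V a b g ha hb w => (hq a b g ha hb w).2
  obtain ⟨V, b, hbe, hbs⟩ := hY.atlas
  obtain ⟨c, hc⟩ := (yon S).map_surjective (b ≫ q)
  have hh := hq b (𝟙 _) c hbe (repWith_id _ (Over.mk str)) (by rw [Category.comp_id, hc])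
  have := hh.1; have := hh.2
  have : DiscreteTopology ↥V.left := by
    have hd := c.left.isDiscrete_preimage_singleton (IsLocalRing.closedPoint k)
    refine isDiscrete_univ_iff.1 ?_
    convert hd using 1
    exact (Set.eq_univ_of_forall fun w =>
      (inferInstance : Subsingleton ↥(Spec (CommRingCat.of k))).elim _ _).symm
  have : IsLocallyNoetherian (Over.mk str).left :=
    inferInstanceAs (IsLocallyNoetherian (Spec (CommRingCat.of k)))
  have : IsLocallyNoetherian V.left := LocallyOfFiniteType.isLocallyNoetherian c.left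
  have sq := IsPullback.of_hasPullback f b
  have hP := isAlgSpace_of_isPullback hY.diag hX (IsAlgSpace.yon_obj V) sq
  obtain ⟨G, ⟨e⟩⟩ := exists_iso_yon_of_mono_discrete hP (pullback.snd f b)
  obtain ⟨g, hg⟩ := (yon S).map_surjective (e.hom ≫ pullback.snd f b)
  have : Mono ((yon S).map g) := hg ▸ mono_comp _ _
  have : Mono g := (yon S).mono_of_mono_map this
  have : Mono g.left := inferInstance
  have := lft_of_mono_to_discrete g.left
  have hf : LocP @LocallyOfFiniteType f :=
    locP_of_chart_square etLocal_lft hX (e.hom ≫ pullback.fst f b)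
      (RepWith.comp (repWith_of_isIso _ _) (RepWith.baseChange sq.flip hbe))
      (RepWith.comp (repWith_of_isIso _ _) (RepWith.baseChange sq.flip hbs)) b hbe g this
      (by rw [hg, Category.assoc, Category.assoc, pullback.condition])
  exact locP_comp etLocal_lqf hX hY (IsAlgSpace.yon_obj _) (mono_lft_package hX hY hf).2.2 hq

/-- schemes lqf over a field are discrete and locally Noetherian -/
theorem discrete_locNoeth_of_lqf_field {W : Over S} (c : W ⟶ Over.mk str) [LocallyQuasiFinite c.left]
    [LocallyOfFiniteType c.left] : DiscreteTopology ↥W.left ∧ IsLocallyNoetherian W.left := by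
  refine ⟨?_, ?_⟩
  · have hd := c.left.isDiscrete_preimage_singleton (IsLocalRing.closedPoint k)
    refine isDiscrete_univ_iff.1 ?_
    convert hd using 1
    exact (Set.eq_univ_of_forall fun w =>
      (inferInstance : Subsingleton ↥(Spec (CommRingCat.of k))).elim _ _).symm
  · have : IsLocallyNoetherian (Over.mk str).left :=
      inferInstanceAs (IsLocallyNoetherian (Spec (CommRingCat.of k)))
    exact LocallyOfFiniteType.isLocallyNoetherian c.left

/-- locally quasi-finite spaces over a field are separated -/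
theorem isSeparatedMor_of_lqf_field (hX : IsAlgSpace X) (p : X ⟶ (yon S).obj (Over.mk str))
    (hp : LocP (@LocallyQuasiFinite ⊓ @LocallyOfFiniteType) p) : IsSeparatedMor p := by
  have hT := IsAlgSpace.yon_obj (S := S) (Over.mk str)
  have sqP := IsPullback.of_hasPullback p p
  have hP := isAlgSpace_of_isPullback hT.diag hX hX sqP
  have hrep : Representable (pullback.diagonal p) := representable_diagonal hX p
  obtain ⟨W, w, hwe, hws⟩ := hP.atlas
  obtain ⟨c, hc⟩ := (yon S).map_surjective (w ≫ pullback.fst p p ≫ p)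
  have hl : LocP (@LocallyQuasiFinite ⊓ @LocallyOfFiniteType) (pullback.fst p p ≫ p) :=
    locP_comp etLocal_lqf hP hX hT (locP_of_isPullback etLocal_lqf hX hT hP sqP.flip hp) hp
  have hh := hl w (𝟙 _) c hwe (repWith_id _ (Over.mk str)) (by rw [Category.comp_id, hc])
  have := hh.1; have := hh.2
  obtain ⟨hd, hn⟩ := discrete_locNoeth_of_lqf_field c
  have sq := hrep.isPullback w
  have : Mono (hrep.snd w) := (yon S).mono_of_mono_map
    (MorphismProperty.of_isPullback (P := MorphismProperty.monomorphisms (Sp S)) sq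
      (inferInstanceAs (Mono (pullback.diagonal p))))
  have : Mono (hrep.snd w).left := inferInstance
  have := closedImmersion_of_mono_to_discrete (hrep.snd w).left
  have := isLocallySurjective_of_etale hwe hws
  exact repWith_of_isLocallySurjective hrep w sq @IsClosedImmersion
    ((repWith_yon_map_iff (P := @IsClosedImmersion) _).2 (closedImmersion_of_mono_to_discrete _))

end Groth.Agent.AlgSpLib
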