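import Groth.Agent.Coherent.CohBC.ClosedFibreMono
import Groth.Agent.Coherent.FiniteType
import Groth.Agent.Coherent.QcohOps
import Groth.Agent.H8Lim.ModFPDescent
import Groth.Agent.DQCoh.BettiRank
import Groth.Agent.FlatMorAdm.LocFreeApps
import Groth.Agent.EGA43.SmoothEquidim.Main
import Mathlib.RingTheory.LocalRing.Module

/-!
Universally injective maps into locally free modules are those injective on fibres.
-/

universe u

open CategoryTheory CategoryTheory.Limits AlgebraicGeometry Opposite TopologicalSpace TensorProduct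
open Groth.Agent.Coherent

noncomputable section

set_option linter.style.haveILetI false

namespace Groth.Agent.AlgSpLib.MonoFibres

set_option backward.isDefEq.respectTransparency.types false
set_option backward.isDefEq.respectTransparency false

variable {X : Scheme.{u}}

/-- germs of generators span the stalk -/
theorem finite_stalk {M : X.Modules} (hM : CohB1.IsFT M) (x : X) :
    Module.Finite (X.presheaf.stalk x) (M.presheaf.stalk x) := by
  classical
  obtain ⟨U, I, hI, s, hx, hs⟩ := locallyFinGen_of_isFT M hM x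
  refine ⟨⟨Finset.univ.image (fun i => M.presheaf.germ U x hx (s i)), eq_top_iff.2 fun m _ => ?_⟩⟩
  obtain ⟨W, hxW, a, rfl⟩ := M.presheaf.exists_germ_eq m
  obtain ⟨W', hW', hxW', c, hc⟩ := hs (W ⊓ U) inf_le_right (resM M inf_le_left a) x ⟨hxW, hx⟩
  have h1 : M.presheaf.germ W x hxW a = M.presheaf.germ W' x hxW' (resM M hW' (resM M inf_le_left a)) := by
    rw [TopCat.Presheaf.germ_res_apply, TopCat.Presheaf.germ_res_apply]
  rw [h1, hc, map_sum]
  refine Submodule.sum_mem _ fun i _ => ?_
  rw [QCohLoc.germ_smul' (M := M) hxW', TopCat.Presheaf.germ_res_apply]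
  exact Submodule.smul_mem _ _ (Submodule.subset_span (Finset.mem_image.2 ⟨i, Finset.mem_univ _, rfl⟩))

variable {U E : X.Modules} (ι₀ : U ⟶ E)

/-- injectivity on a fibre gives injectivity modulo the maximal ideal -/
theorem injective_lTensor (x : X) [Mono ((Scheme.Modules.pullback (X.fromSpecResidueField x)).map ι₀)] :
    Function.Injective ((((DerSch.stalkFunctor X x).map ι₀).hom).lTensor
      (IsLocalRing.ResidueField (X.presheaf.stalk x))) := by
  let σ := X.fromSpecResidueField x
  let z := IsLocalRing.closedPoint (X.residueField x)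
  have hσ : Function.Surjective (σ.stalkMap z).hom := σ.stalkMap_surjective z
  have hf : IsField ((Spec (X.residueField x)).presheaf.stalk z) :=
    AlgSpLib.isField_stalk_of_maximal _ fun w _ => Subsingleton.elim (α := PrimeSpectrum (X.residueField x)) _ _
  have hz : σ.base z = x := X.fromSpecResidueField_apply x z
  have key : ∀ m : U.presheaf.stalk (σ.base z),
      ((DerSch.stalkFunctor X (σ.base z)).map ι₀).hom m ∈ IsLocalRing.maximalIdeal (X.presheaf.stalk (σ.base z)) •
        (⊤ : Submodule (X.presheaf.stalk (σ.base z)) (E.presheaf.stalk (σ.base z))) →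
      m ∈ IsLocalRing.maximalIdeal (X.presheaf.stalk (σ.base z)) •
        (⊤ : Submodule (X.presheaf.stalk (σ.base z)) (U.presheaf.stalk (σ.base z))) := by
    have hk : RingHom.ker (σ.stalkMap z).hom = IsLocalRing.maximalIdeal (X.presheaf.stalk (σ.base z)) := by
      refine le_antisymm (IsLocalRing.le_maximalIdeal (RingHom.ker_ne_top _)) fun b hb => ?_
      by_contra hne
      obtain ⟨c, hc⟩ := hf.mul_inv_cancel hne
      exact (map_nonunit (σ.stalkMap z).hom b hb) (IsUnit.of_mul_eq_one c hc)
    intro m hm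
    rw [← hk] at hm ⊢
    exact CohBC.mem_smul_top_of_mono σ z ι₀ hσ m hm
  rw [hz] at key
  let R := X.presheaf.stalk x
  let ψ := ((DerSch.stalkFunctor X x).map ι₀).hom
  have hR : Function.Surjective (algebraMap R (IsLocalRing.ResidueField R)) := IsLocalRing.residue_surjective
  have hker : RingHom.ker (algebraMap R (IsLocalRing.ResidueField R)) = IsLocalRing.maximalIdeal R :=
    IsLocalRing.ker_residue
  have hgen : ∀ w : IsLocalRing.ResidueField R ⊗[R] U.presheaf.stalk x, ∃ m : U.presheaf.stalk x, w = 1 ⊗ₜ m := by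
    intro w
    induction w using TensorProduct.induction_on with
    | zero => exact ⟨0, (tmul_zero _ _).symm⟩
    | tmul c m =>
      obtain ⟨r, rfl⟩ := hR c
      exact ⟨r • m, by rw [← smul_tmul, Algebra.smul_def, mul_one]⟩
    | add a b ha hb =>
      obtain ⟨m, rfl⟩ := ha
      obtain ⟨m', rfl⟩ := hb
      exact ⟨m + m', (tmul_add _ _ _).symm⟩
  refine (injective_iff_map_eq_zero _).2 fun w hw => ?_
  obtain ⟨m, rfl⟩ := hgen w
  change (1 : IsLocalRing.ResidueField R) ⊗ₜ[R] ψ m = 0 at hw
  exact (CohBC.tmul_one_eq_zero_iff hR m).2 (hker.symm ▸ key m (hker ▸ (CohBC.tmul_one_eq_zero_iff hR (ψ m)).1 hw))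

/-- the hypothesis on fibres -/
def FibMono : Prop := ∀ x : X, Mono ((Scheme.Modules.pullback (X.fromSpecResidueField x)).map ι₀)

variable (hU : CohB1.IsFT U) (hE : FlatMod.IsFinLocFree E) (h : FibMono ι₀)

include hU hE h

theorem split_stalk (x : X) : ∃ l : E.presheaf.stalk x →ₗ[X.presheaf.stalk x] U.presheaf.stalk x,
    l ∘ₗ ((DerSch.stalkFunctor X x).map ι₀).hom = LinearMap.id := by
  haveI := Groth.Agent.CAlgH3.LocFreeFactor.isQCoh_of_finLocFree hE
  haveI := Props12.free_stalk_of_isFinLocFree E hE x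
  haveI := finite_stalk hU x
  haveI : Module.Finite (X.presheaf.stalk x) (E.presheaf.stalk x) :=
    haveI := Props12.isFP_of_isFinLocFree E hE
    finite_stalk (inferInstanceAs (SheafOfModules.IsFiniteType.{u} (R := X.ringCatSheaf) E)) x
  haveI := h x
  exact (IsLocalRing.split_injective_iff_lTensor_residueField_injective _).2 (injective_lTensor ι₀ x)

theorem mono : Mono ι₀ := CohBC.mono_of_injective_stalks ι₀ fun x => by
  obtain ⟨l, hl⟩ := split_stalk ι₀ hU hE h x
  exact Function.LeftInverse.injective (g := l) fun m => LinearMap.congr_fun hl m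

theorem free_coker_stalk (x : X) : Module.Free (X.presheaf.stalk x) ((cokernel ι₀).presheaf.stalk x) := by
  haveI := Groth.Agent.CAlgH3.LocFreeFactor.isQCoh_of_finLocFree hE
  haveI := Props12.free_stalk_of_isFinLocFree E hE x
  haveI := finite_stalk hU x
  haveI : Module.Finite (X.presheaf.stalk x) (E.presheaf.stalk x) :=
    haveI := Props12.isFP_of_isFinLocFree E hE
    finite_stalk (inferInstanceAs (SheafOfModules.IsFiniteType.{u} (R := X.ringCatSheaf) E)) x
  haveI := h x
  let F := DerSch.stalkFunctor X x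
  let g : F.obj E ⟶ F.obj (cokernel ι₀) := F.map (cokernel.π ι₀)
  let hc := isColimitOfPreserves F (cokernelIsCokernel ι₀)
  let sc := ShortComplex.mk (F.map ι₀) g (by rw [← F.map_comp, cokernel.condition, F.map_zero])
  have hexact : sc.Exact := by
    refine sc.exact_of_g_is_cokernel ?_
    exact CokernelCofork.mapIsColimit _ (cokernelIsCokernel ι₀) F
  have hg : Epi g := by
    haveI : Epi (cokernel.π ι₀) := inferInstance
    exact F.map_epi _
  haveI : Module.Finite (X.presheaf.stalk x) (F.obj U) := finite_stalk hU x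
  haveI : Module.Finite (X.presheaf.stalk x) (F.obj E) := inferInstanceAs (Module.Finite (X.presheaf.stalk x) (E.presheaf.stalk x))
  haveI : Module.Free (X.presheaf.stalk x) (F.obj E) := inferInstanceAs (Module.Free (X.presheaf.stalk x) (E.presheaf.stalk x))
  exact Module.free_of_lTensor_residueField_injective (F.map ι₀).hom g.hom ((ModuleCat.epi_iff_surjective _).1 hg)
    ((ShortComplex.moduleCat_exact_iff_range_eq_ker sc).1 hexact |> LinearMap.exact_iff.2 ∘ Eq.symm)
    (injective_lTensor ι₀ x)

theorem isFinLocFree_cokernel : FlatMod.IsFinLocFree (cokernel ι₀) := by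
  refine DQCoh.isFinLocFree_of_local _ fun x => ?_
  obtain ⟨V, I, _, s, hxV, hs⟩ := locallyFinGen_of_isFT U hU x
  obtain ⟨s', hs'⟩ : ∃ s' : I → Γ(U, V.ι ''ᵁ ⊤), GenOn U (V.ι ''ᵁ ⊤) s' := by
    rw [Scheme.Opens.ι_image_top]; exact ⟨s, hs⟩
  haveI := Groth.Agent.CAlgH3.LocFreeFactor.isQCoh_of_finLocFree hE
  let P := Scheme.Modules.pullback V.ι
  let π₀ := freeDesc fun i => unitDesc (U.restrict V.ι) ((U.restrictAppIso V.ι ⊤).inv (s' i))
  haveI : Epi π₀ := epi_of_genOn_top (genOn_restrict_of_genOn V.ι U hs')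
  let π : Coherent.freeMod V.toScheme I ⟶ P.obj U :=
    π₀ ≫ ((Scheme.Modules.restrictFunctorIsoPullback V.ι).app U).hom
  haveI : Epi π := epi_comp _ _
  haveI := isQCoh_freeMod (X := V.toScheme) (I := I)
  have hEV : FlatMod.IsFinLocFree (P.obj E) := FlatMorAdm.isFinLocFree_pullback V.ι hE
  haveI := Groth.Agent.CAlgH3.LocFreeFactor.isQCoh_of_finLocFree hEV
  let f := π ≫ P.map ι₀
  have hFT : CohB1.IsFT (Coherent.freeMod V.toScheme I) :=
    isFT_of_locallyFinGen fun _ => ⟨⊤, I, _, _, trivial, genOn_of_epi (𝟙 _)⟩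
  have hfp := H8Lim.isFP_cokernel f hFT (Props12.isFP_of_isFinLocFree _ hEV)
  haveI : Coh.IsQCoh (cokernel f) := isQCoh_cokernel f
  let e : cokernel f ≅ P.obj (cokernel ι₀) := cokernelEpiComp π (P.map ι₀) ≪≫ (PreservesCokernel.iso P ι₀).symm
  have hfree : ∀ w : V.toScheme, Module.Free (V.toScheme.presheaf.stalk w) ((cokernel f).presheaf.stalk w) := fun w => by
    haveI := free_coker_stalk ι₀ hU hE h (V.ι.base w)
    let _ : Algebra (X.presheaf.stalk (V.ι.base w)) (V.toScheme.presheaf.stalk w) := (V.ι.stalkMap w).hom.toAlgebra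
    haveI : Module.Free (V.toScheme.presheaf.stalk w) ((DerSch.stalkFunctor X (V.ι.base w) ⋙
        ModuleCat.extendScalars (V.ι.stalkMap w).hom).obj (cokernel ι₀)) :=
      inferInstanceAs (Module.Free (V.toScheme.presheaf.stalk w)
        (V.toScheme.presheaf.stalk w ⊗[X.presheaf.stalk (V.ι.base w)] (cokernel ι₀).presheaf.stalk (V.ι.base w)))
    exact Module.Free.of_equiv ((DerSch.stalkFunctor V.toScheme w).mapIso e ≪≫
      (ModStalk.pullbackStalkIso V.ι w).app (cokernel ι₀)).toLinearEquiv.symm
  refine ⟨(V : Scheme), V.ι, inferInstance, by rw [Scheme.Opens.opensRange_ι]; exact hxV, ?_⟩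
  exact FlatMorAdm.isFinLocFree_of_iso (e ≪≫ ((Scheme.Modules.restrictFunctorIsoPullback V.ι).app (cokernel ι₀)).symm)
    (Props12.isFinLocFree_of_isFP_of_free_stalks _ hfp hfree)

omit hU hE h in
/-- universally injective from a locally free cokernel -/
theorem mono_pullback [Mono ι₀] (hE : FlatMod.IsFinLocFree E) (hK : FlatMod.IsFinLocFree (cokernel ι₀))
    {T : Scheme.{u}} (g : T ⟶ X) : Mono ((Scheme.Modules.pullback g).map ι₀) := by
  haveI := Groth.Agent.CAlgH3.LocFreeFactor.isQCoh_of_finLocFree hK
  refine CohBC.mono_of_injective_stalks _ fun t => ?_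
  let F := DerSch.stalkFunctor X (g.base t)
  haveI : Module.Free (X.presheaf.stalk (g.base t)) ((cokernel ι₀).presheaf.stalk (g.base t)) :=
    Props12.free_stalk_of_isFinLocFree _ hK _
  haveI : Projective (F.obj (cokernel ι₀)) := (IsProjective.iff_projective (R := X.presheaf.stalk (g.base t)) ((cokernel ι₀).presheaf.stalk (g.base t))).1
    (inferInstanceAs (Module.Projective (X.presheaf.stalk (g.base t)) ((cokernel ι₀).presheaf.stalk (g.base t))))
  haveI : Mono (F.map ι₀) := inferInstance
  let sc := ShortComplex.mk (F.map ι₀) (F.map (cokernel.π ι₀))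
    (by rw [← F.map_comp, cokernel.condition, F.map_zero])
  haveI : Epi (F.map (cokernel.π ι₀)) := F.map_epi _
  have hse : sc.ShortExact :=
    { exact := sc.exact_of_g_is_cokernel (CokernelCofork.mapIsColimit _ (cokernelIsCokernel ι₀) F)
      mono_f := inferInstance
      epi_g := inferInstance }
  haveI : Projective sc.X₃ := inferInstanceAs (Projective (F.obj (cokernel ι₀)))
  let spl := hse.splittingOfProjective
  haveI : IsSplitMono (F.map ι₀) := IsSplitMono.mk' ⟨spl.r, spl.f_r⟩
  haveI : IsSplitMono ((ModuleCat.extendScalars (g.stalkMap t).hom).map (F.map ι₀)) := inferInstance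
  haveI : Mono ((DerSch.stalkFunctor T t).map ((Scheme.Modules.pullback g).map ι₀)) :=
    ((MorphismProperty.monomorphisms _).arrow_mk_iso_iff
      (Arrow.isoMk ((ModStalk.pullbackStalkIso g t).app U) ((ModStalk.pullbackStalkIso g t).app E)
        ((ModStalk.pullbackStalkIso g t).hom.naturality ι₀).symm)).2
      (inferInstanceAs (Mono ((ModuleCat.extendScalars (g.stalkMap t).hom).map (F.map ι₀))))
  exact (ModuleCat.mono_iff_injective ((DerSch.stalkFunctor T t).map ((Scheme.Modules.pullback g).map ι₀))).1 inferInstance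

end Groth.Agent.AlgSpLib.MonoFibres
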