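import Groth.Agent.AlgSpLib.LfpSpaces
import Groth.Agent.AlgSpLib.MorProper
import Mathlib.CategoryTheory.Filtered.Final

/-!
A morphism between limits is a limit of morphisms between stages.
-/

universe u

open CategoryTheory CategoryTheory.Limits AlgebraicGeometry Opposite
open AlgSp

noncomputable section

namespace Groth.Agent.AlgSpLib.MorApprox

open Groth.Agent.AlgSpLib

set_option backward.isDefEq.respectTransparency.types false
set_option backward.isDefEq.respectTransparency false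

variable {S : Scheme.{u}}
variable {A B : Type u} [Preorder A] [Preorder B] (DX : Aᵒᵖ ⥤ Sp S) (DY : Bᵒᵖ ⥤ Sp S) (cX : Cone DX)
  (cY : Cone DY) (v : cX.pt ⟶ cY.pt)

/-- a morphism between stages compatible with the given morphism -/
structure Stage where
  /-- the source index -/
  a : A
  /-- the target index -/
  b : B
  /-- the morphism -/
  g : DX.obj ⟨a⟩ ⟶ DY.obj ⟨b⟩
  w : cX.π.app ⟨a⟩ ≫ g = v ≫ cY.π.app ⟨b⟩

variable {DX DY cX cY v}

/-- refinement of stages -/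
def Stage.Le (s s' : Stage DX DY cX cY v) : Prop :=
  ∃ (ha : s.a ≤ s'.a) (hb : s.b ≤ s'.b), DX.map (homOfLE ha).op ≫ s.g = s'.g ≫ DY.map (homOfLE hb).op

theorem Stage.Le.refl (s : Stage DX DY cX cY v) : s.Le s := by
  refine ⟨le_rfl, le_rfl, ?_⟩
  rw [show (homOfLE (le_refl s.a)).op = 𝟙 _ from Subsingleton.elim _ _,
    show (homOfLE (le_refl s.b)).op = 𝟙 _ from Subsingleton.elim _ _, DX.map_id, DY.map_id, Category.id_comp,
    Category.comp_id]

variable [QuasiSeparatedSpace ↥S] [IsDirected A (fun a b => a ≤ b)] [Nonempty A] [IsDirected B (fun a b => a ≤ b)]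
  [Nonempty B]
  (hDX : ∀ i, IsAlgSpace (DX.obj i)) (hDXa : ∀ (i j : Aᵒᵖ) (φ : i ⟶ j), IsAffineMor (DX.map φ))
  (hXqc : ∀ i, IsQuasiCompactSp (DX.obj i)) (hXqs : ∀ i, IsQuasiSeparatedSp (DX.obj i)) (hcX : IsLimit cX)
  (hDY : ∀ i, IsAlgSpace (DY.obj i))
  (hYp : ∀ i (q : DY.obj i ⟶ (yon S).obj (Over.mk (𝟙 S))), LocP @LocallyOfFinitePresentation q)

include hDX hDXa hXqc hXqs hcX hDY hYp in
theorem exists_upper {ι : Type u} [Finite ι] (t : ι → Stage DX DY cX cY v) (a₀ : A) (b₀ : B) :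
    ∃ s : Stage DX DY cX cY v, a₀ ≤ s.a ∧ b₀ ≤ s.b ∧ ∀ i, (t i).Le s := by
  classical
  cases nonempty_fintype ι
  obtain ⟨b, hb⟩ := Finset.exists_le (insert b₀ (Finset.univ.image fun i => (t i).b))
  have hb₀ : b₀ ≤ b := hb _ (Finset.mem_insert_self _ _)
  have hbi : ∀ i, (t i).b ≤ b := fun i => hb _ (Finset.mem_insert_of_mem (Finset.mem_image_of_mem _ (Finset.mem_univ i)))
  let Sb : AlgSp.Space S := (AlgSp.ofScheme S).obj (Over.mk (𝟙 S))
  have hT : IsTerminal ((yon S).obj (Over.mk (𝟙 S))) := IsTerminal.isTerminalObj (yon S) _ Over.mkIdTerminal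
  let fY : ∀ i, (⟨DY.obj i, hDY i⟩ : AlgSp.Space S) ⟶ Sb := fun i => ObjectProperty.homMk (hT.from _)
  obtain ⟨a₁, φ₁, g, hg, -⟩ := LfpSpaces.exists_point DX hDX hDXa hXqc hXqs cX hcX (fY ⟨b⟩) (hYp _ _)
    (v ≫ cY.π.app ⟨b⟩) ⟨Classical.arbitrary A⟩ (hT.from _) (hT.hom_ext _ _)
  obtain ⟨a₂, ha₂⟩ := Finset.exists_le (insert a₀ (insert a₁.unop (Finset.univ.image fun i => (t i).a)))
  have ha₀ : a₀ ≤ a₂ := ha₂ _ (Finset.mem_insert_self _ _)
  have ha₁ : a₁.unop ≤ a₂ := ha₂ _ (Finset.mem_insert_of_mem (Finset.mem_insert_self _ _))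
  have hai : ∀ i, (t i).a ≤ a₂ := fun i =>
    ha₂ _ (Finset.mem_insert_of_mem (Finset.mem_insert_of_mem (Finset.mem_image_of_mem _ (Finset.mem_univ i))))
  have key : ∀ i : ι, ∃ (a : Aᵒᵖ) (φ : a ⟶ ⟨a₂⟩), DX.map φ ≫ DX.map (homOfLE (hai i)).op ≫ (t i).g =
      DX.map φ ≫ DX.map (homOfLE ha₁).op ≫ g ≫ DY.map (homOfLE (hbi i)).op := fun i => by
    refine LfpSpaces.exists_eq DX hDX hDXa hXqc cX hcX (fY ⟨(t i).b⟩) ?_ _ _ (hT.hom_ext _ _) ?_
    · exact locP_mono (fun _ _ q hq => by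
        have : LocallyOfFinitePresentation q := hq
        exact inferInstanceAs (LocallyOfFiniteType q)) (hYp _ _)
    · rw [cX.w_assoc, (t i).w, cX.w_assoc, ← Category.assoc (cX.π.app _), hg, Category.assoc, cY.w]
  choose aj φj hj using key
  obtain ⟨a, ha⟩ := Finset.exists_le (insert a₂ (Finset.univ.image fun i => (aj i).unop))
  have ha2 : a₂ ≤ a := ha _ (Finset.mem_insert_self _ _)
  refine ⟨⟨a, b, DX.map (homOfLE (ha₁.trans ha2)).op ≫ g, by rw [cX.w_assoc, hg]⟩, ha₀.trans ha2, hb₀,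
    fun i => ⟨(hai i).trans ha2, hbi i, ?_⟩⟩
  have haj : (aj i).unop ≤ a := ha _ (Finset.mem_insert_of_mem (Finset.mem_image_of_mem _ (Finset.mem_univ _)))
  let ψ : (⟨a⟩ : Aᵒᵖ) ⟶ aj i := (homOfLE haj).op
  have e₁ : (homOfLE ((hai i).trans ha2)).op = ψ ≫ φj i ≫ (homOfLE (hai i)).op := Subsingleton.elim _ _
  have e₂ : (homOfLE (ha₁.trans ha2)).op = ψ ≫ φj i ≫ (homOfLE ha₁).op := Subsingleton.elim _ _
  show DX.map _ ≫ (t i).g = (DX.map (homOfLE (ha₁.trans ha2)).op ≫ g) ≫ DY.map (homOfLE (hbi i)).op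
  rw [e₁, e₂]
  simp only [Functor.map_comp, Category.assoc]
  rw [hj i]

include hDX hDXa hXqc hXqs hcX hDY hYp in
theorem exists_system :
    ∃ (R : Finset (A ⊕ B) → Stage DX DY cX cY v), (∀ F G, F ⊆ G → (R F).Le (R G)) ∧
      (∀ a, a ≤ (R {Sum.inl a}).a) ∧ (∀ b, b ≤ (R {Sum.inr b}).b) := by
  classical
  have hstep : ∀ (F : Finset (A ⊕ B)) (ih : ∀ G, G ⊂ F → Stage DX DY cX cY v),
      ∃ s : Stage DX DY cX cY v, (∀ a, Sum.inl a ∈ F → a ≤ s.a) ∧ (∀ b, Sum.inr b ∈ F → b ≤ s.b) ∧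
        ∀ G (h : G ⊂ F), (ih G h).Le s := by
    intro F ih
    obtain ⟨a₀, ha₀⟩ := Finset.exists_le (F.toLeft)
    obtain ⟨b₀, hb₀⟩ := Finset.exists_le (F.toRight)
    haveI : Finite {G // G ⊂ F} := Finite.of_injective (fun G => (⟨G.1, Finset.mem_powerset.2 G.2.subset⟩ : ↥F.powerset))
      fun G G' e => Subtype.ext (congrArg (fun z : ↥F.powerset => z.1) e)
    obtain ⟨s, hsa, hsb, hs⟩ := exists_upper hDX hDXa hXqc hXqs hcX hDY hYp
      (fun G : {G // G ⊂ F} => ih G.1 G.2) a₀ b₀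
    exact ⟨s, fun a h => (ha₀ a (Finset.mem_toLeft.2 h)).trans hsa, fun b h => (hb₀ b (Finset.mem_toRight.2 h)).trans hsb,
      fun G h => hs ⟨G, h⟩⟩
  let R : Finset (A ⊕ B) → Stage DX DY cX cY v := Finset.strongInduction fun F ih => (hstep F ih).choose
  have hR : ∀ F, R F = (hstep F fun G _ => R G).choose := fun F => Finset.strongInduction_eq _ F
  have spec := fun F => (hstep F fun G _ => R G).choose_spec
  refine ⟨R, fun F G h => ?_, fun a => ?_, fun b => ?_⟩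
  · rcases h.eq_or_ssubset with rfl | h
    · exact Stage.Le.refl _
    · rw [hR G]; exact (spec G).2.2 F h
  · rw [hR]; exact (spec _).1 a (Finset.mem_singleton_self _)
  · rw [hR]; exact (spec _).2.1 b (Finset.mem_singleton_self _)

end Groth.Agent.AlgSpLib.MorApprox
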