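import Groth.Agent.AlgSpLib.FlatAt
import Groth.Agent.AlgSpLib.ElemCofiltered
import Groth.Agent.AlgSpLib.ValuativeDVR
import Groth.Agent.AlgSpLib.IntegralGeneric
import Groth.Agent.Desc19b.Target
import Groth.Agent.Stk19b.EtNbhd

/-!
Locally Noetherian fibres over field valued points.
-/

universe u

open CategoryTheory CategoryTheory.Limits AlgebraicGeometry
open AlgSp

noncomputable section

namespace Groth.Agent.AlgSpLib

set_option backward.isDefEq.respectTransparency.types false

variable {S : Scheme.{u}}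

theorem fpqc_to_field {K : Type u} [Field K] {A : Scheme.{u}} [Nonempty ↥A] [CompactSpace ↥A]
    (m : A ⟶ Spec (CommRingCat.of K)) : Flat m ∧ Surjective m ∧ QuasiCompact m :=
  ⟨inferInstance, ⟨fun _ => ⟨Classical.arbitrary _, Subsingleton.elim _ _⟩⟩, inferInstance⟩

/-- local Noetherianity descends along fpqc coverings of a base scheme -/
theorem isLocNoethSp_descend {P Q : Sp S} {T T' : Over S} (hP : IsAlgSpace P) (hQ : IsAlgSpace Q)
    {g : T' ⟶ T} [Flat g.left] [Surjective g.left] [QuasiCompact g.left] {r : P ⟶ Q} {snd : Q ⟶ (yon S).obj T}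
    {snd' : P ⟶ (yon S).obj T'} (sq : IsPullback r snd' snd ((yon S).map g)) (h : IsLocNoethSp P) :
    IsLocNoethSp Q := by
  obtain ⟨W, a, hae, has⟩ := hQ.atlas
  obtain ⟨π, hπ⟩ := (yon S).map_surjective (a ≫ snd)
  let W' : Over S := Over.mk (pullback.fst π.left g.left ≫ W.hom)
  let pW : W' ⟶ W := Over.homMk (pullback.fst π.left g.left) rfl
  let qW : W' ⟶ T' := Over.homMk (pullback.snd π.left g.left) (by
    show _ ≫ T'.hom = pullback.fst π.left g.left ≫ W.hom
    rw [← Over.w g, ← Category.assoc, ← pullback.condition, Category.assoc, Over.w π])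
  have sqW : IsPullback pW qW π g :=
    IsPullback.of_map (Over.forget S) (Over.OverMorphism.ext pullback.condition)
      (IsPullback.of_hasPullback π.left g.left)
  have sqW' := sqW.map (yon S)
  rw [hπ] at sqW'
  let a' : (yon S).obj W' ⟶ P :=
    sq.lift ((yon S).map pW ≫ a) ((yon S).map qW) (by rw [Category.assoc]; exact sqW'.w)
  have sqa : IsPullback ((yon S).map pW) a' a r :=
    IsPullback.of_bot (by rw [sq.lift_snd]; exact sqW') (sq.lift_fst _ _ _).symm sq
  have := isLocallyNoetherian_of_chart hP h a' (RepWith.baseChange sqa hae)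
  have : IsLocallyNoetherian (pullback π.left g.left) := this
  exact ⟨W, a, hae, has, Desc19b.isLocallyNoetherian_of_fpqc (pullback.fst π.left g.left)⟩

variable {X Y : Sp S}

/-- fibres over dominated field points -/
theorem isLocNoethSp_fibre_of_fac (hX : IsAlgSpace X) (hY : IsAlgSpace Y) (f : X ⟶ Y) (p q : FieldPt Y)
    (g : p.pt ⟶ q.pt) (hg : p.toHom = (yon S).map g ≫ q.toHom)
    (hN : ∀ ⦃P : Sp S⦄ (fst : P ⟶ X) (snd : P ⟶ (yon S).obj p.pt), IsPullback fst snd f p.toHom → IsLocNoethSp P)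
    {Q : Sp S} (qf : Q ⟶ X) (qs : Q ⟶ (yon S).obj q.pt) (hQ : IsPullback qf qs f q.toHom) :
    IsLocNoethSp Q := by
  have hQa := isAlgSpace_of_isPullback hY.diag hX (IsAlgSpace.yon_obj q.pt) hQ
  have sq := IsPullback.of_hasPullback qs ((yon S).map g)
  have sqP := sq.paste_horiz hQ
  rw [← hg] at sqP
  have hP := isAlgSpace_of_isPullback hY.diag hX (IsAlgSpace.yon_obj p.pt) sqP
  have : Nonempty ↥p.pt.left := ⟨IsLocalRing.closedPoint p.K⟩
  have : CompactSpace ↥p.pt.left := inferInstanceAs (CompactSpace ↥(Spec (CommRingCat.of p.K)))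
  obtain ⟨h1, h2, h3⟩ := fpqc_to_field (K := q.K) g.left
  exact isLocNoethSp_descend hP hQa sq (hN _ _ sqP)

theorem isLocNoethSp_fibre_mono (hX : IsAlgSpace X) (hY : IsAlgSpace Y) (f : X ⟶ Y) (p q : FieldPt Y)
    (hpq : Points.mk p = Points.mk q) (hm : Mono q.toHom)
    (hN : ∀ ⦃P : Sp S⦄ (fst : P ⟶ X) (snd : P ⟶ (yon S).obj p.pt), IsPullback fst snd f p.toHom → IsLocNoethSp P)
    {Q : Sp S} (qf : Q ⟶ X) (qs : Q ⟶ (yon S).obj q.pt) (hQ : IsPullback qf qs f q.toHom) :
    IsLocNoethSp Q := by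
  obtain ⟨i, hi⟩ := exists_factor_mono_point hY q.toHom p.toHom
    (by rw [ptOfHom_toHom, ptOfHom_toHom, hpq])
  exact isLocNoethSp_fibre_of_fac hX hY f p q i hi hN qf qs hQ

/-- residue fields of points of schemes locally quasi-finite over a field -/
theorem lft_fromSpecResidueField_comp {K : Type u} [Field K] {A : Scheme.{u}}
    (m : A ⟶ Spec (CommRingCat.of K)) [LocallyQuasiFinite m] (z : A) :
    LocallyOfFiniteType (A.fromSpecResidueField z ≫ m) := by
  have : IsClosedImmersion ((Spec (CommRingCat.of K)).fromSpecResidueField (m z)) :=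
    isClosed_singleton_iff_isClosedImmersion.1 (by
      convert (isClosed_univ : IsClosed (Set.univ : Set ↥(Spec (CommRingCat.of K))))
      exact Set.eq_univ_of_forall fun t => Subsingleton.elim _ _)
  have : LocallyOfFiniteType (Spec.map (m.residueFieldMap z)) :=
    (HasRingHomProperty.Spec_iff (P := @LocallyOfFiniteType)).2
      (FlatMorWeight.residueFieldMap_finite m z).finiteType
  rw [← Scheme.Hom.SpecMap_residueFieldMap_fromSpecResidueField]
  infer_instance

theorem isLocNoethSp_fibre_chart (hX : IsAlgSpace X) (hY : IsAlgSpace Y) (f : X ⟶ Y) (p : FieldPt Y)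
    (hN : ∀ ⦃P : Sp S⦄ (fst : P ⟶ X) (snd : P ⟶ (yon S).obj p.pt), IsPullback fst snd f p.toHom → IsLocNoethSp P)
    (V : Over S) (b : (yon S).obj V ⟶ Y) (hb : RepWith @Etale b) (v : ↥V.left)
    (hv : Points.ofPt b v = Points.mk p)
    {Q : Sp S} (qf : Q ⟶ X) (qs : Q ⟶ (yon S).obj (FieldPt.ofPt b v).pt)
    (hQ : IsPullback qf qs f (FieldPt.ofPt b v).toHom) :
    IsLocNoethSp Q := by
  have hr := hY.representable_from_yon b
  have sq := hr.isPullback' p.toHom
  obtain ⟨z, hz, -⟩ := (ofPt_eq_ofPt_iff sq v (IsLocalRing.closedPoint p.K)).1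
    (hv.trans (Stk19b.EtNbhd.ofPt_toHom p _).symm)
  let m : hr.pullback p.toHom ⟶ p.pt := hr.snd p.toHom
  let n : hr.pullback p.toHom ⟶ V := hr.fst' p.toHom
  have : Etale m.left := hb.property_snd p.toHom
  have := lqf_of_unramified m.left
  have : LocallyQuasiFinite (show (hr.pullback p.toHom).left ⟶ Spec (CommRingCat.of p.K) from m.left) :=
    lqf_of_unramified m.left
  subst hz
  let Z' : Over S := Over.mk ((hr.pullback p.toHom).left.fromSpecResidueField z ≫ (hr.pullback p.toHom).hom)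
  let ι : Z' ⟶ hr.pullback p.toHom := Over.homMk ((hr.pullback p.toHom).left.fromSpecResidueField z) rfl
  let r : FieldPt Y :=
    { K := (hr.pullback p.toHom).left.residueField z, str := Z'.hom,
      val := (J S).uliftYonedaEquiv.{u + 1} ((yon S).map (ι ≫ m) ≫ p.toHom) }
  have hr' : r.toHom = (yon S).map (ι ≫ m) ≫ p.toHom :=
    (J S).uliftYonedaEquiv.{u + 1}.symm_apply_apply _
  let q₁ : Z' ⟶ Over.mk (V.left.fromSpecResidueField (n.left z) ≫ V.hom) :=
    Over.homMk (Spec.map (n.left.residueFieldMap z)) (by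
      show Spec.map _ ≫ V.left.fromSpecResidueField (n.left z) ≫ V.hom = _
      rw [← Category.assoc, Scheme.Hom.SpecMap_residueFieldMap_fromSpecResidueField, Category.assoc, Over.w n]
      rfl)
  refine isLocNoethSp_fibre_of_fac hX hY f r (FieldPt.ofPt b (n.left z)) q₁ ?_ ?_ qf qs hQ
  · show r.toHom = (yon S).map q₁ ≫ _
    rw [hr', toHom_ofPt_eq]
    show _ = (yon S).map q₁ ≫ ((yon S).map (Over.homMk (V.left.fromSpecResidueField (n.left z)) rfl :
      Over.mk (V.left.fromSpecResidueField (n.left z) ≫ V.hom) ⟶ V) ≫ b)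
    rw [← Category.assoc, ← Functor.map_comp]
    have e : q₁ ≫ Over.homMk (V.left.fromSpecResidueField (n.left z)) rfl = ι ≫ n :=
      Over.OverMorphism.ext (Scheme.Hom.SpecMap_residueFieldMap_fromSpecResidueField _ _)
    rw [e, Functor.map_comp, Functor.map_comp, Category.assoc, Category.assoc, sq.w]
  · intro P fst snd hP
    have sqP := IsPullback.of_hasPullback f p.toHom
    have hPa := isAlgSpace_of_isPullback hY.diag hX (IsAlgSpace.yon_obj p.pt) sqP
    have hP' := isAlgSpace_of_isPullback hY.diag hX (IsAlgSpace.yon_obj r.pt) hP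
    let d : P ⟶ pullback f p.toHom := sqP.lift fst (snd ≫ (yon S).map (ι ≫ m))
      (by rw [Category.assoc, ← hr']; exact hP.w)
    have sqd : IsPullback d snd (pullback.snd f p.toHom) ((yon S).map (ι ≫ m)) :=
      IsPullback.of_right (h₁₂ := pullback.fst f p.toHom) (by rw [sqP.lift_fst, ← hr']; exact hP)
        (sqP.lift_snd _ _ _) sqP
    have : LocallyOfFiniteType (ι ≫ m).left := lft_fromSpecResidueField_comp (K := p.K) m.left z
    exact isLocNoethSp_of_lft hP' hPa
      (locP_of_isPullback etLocal_lft (IsAlgSpace.yon_obj _) (IsAlgSpace.yon_obj _) hP' sqd.flip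
        (locP_of_repWith etLocal_lft (IsAlgSpace.yon_obj _) ((repWith_yon_map_iff (P := @LocallyOfFiniteType) (ι ≫ m)).2 this))) (hN _ _ sqP)

theorem isLocNoethSp_fibre_lft (hX : IsAlgSpace X) (hY : IsAlgSpace Y) {f : X ⟶ Y}
    (hf : LocP @LocallyOfFiniteType f) (p : FieldPt Y) {P : Sp S} {fst : P ⟶ X}
    {snd : P ⟶ (yon S).obj p.pt} (sq : IsPullback fst snd f p.toHom) : IsLocNoethSp P := by
  have hP := isAlgSpace_of_isPullback hY.diag hX (IsAlgSpace.yon_obj p.pt) sq
  refine isLocNoethSp_of_lft hP (IsAlgSpace.yon_obj p.pt) (locP_of_isPullback etLocal_lft hX hY hP sq hf) ?_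
  exact ⟨p.pt, 𝟙 _, repWith_id _ p.pt, repWith_id _ p.pt,
    inferInstanceAs (IsLocallyNoetherian (Spec (CommRingCat.of p.K)))⟩

end Groth.Agent.AlgSpLib
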