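import Groth.Agent.AlgSpLib.NormDef
import Mathlib.RingTheory.Smooth.IntegralClosure
import Mathlib.RingTheory.Flat.Equalizer
import Mathlib.RingTheory.Smooth.Flat

/-!
The affine relative normalisation of an algebraic space, and its smooth base change.
-/

universe u

open CategoryTheory CategoryTheory.Limits AlgebraicGeometry Opposite TensorProduct
open AlgSp

noncomputable section

namespace Groth.Agent.AlgSpLib

set_option backward.isDefEq.respectTransparency.types false
set_option backward.isDefEq.respectTransparency false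

section algebra

variable {A B P E : Type u} [CommRing A] [CommRing B] [CommRing P] [CommRing E] [Algebra A B]
  [Algebra A P] [Algebra A E] (r₁ r₂ : P →ₐ[A] E)

/-- functions on the affine normalisation -/
abbrev normRing : Subalgebra A (AlgHom.equalizer r₁ r₂) := integralClosure A (AlgHom.equalizer r₁ r₂)

/-- inclusion into the functions of the chart -/
def normIncl : normRing r₁ r₂ →ₐ[A] P := (AlgHom.equalizer r₁ r₂).val.comp (normRing r₁ r₂).val

theorem normIncl_eq : r₁.comp (normIncl r₁ r₂) = r₂.comp (normIncl r₁ r₂) := AlgHom.ext fun x => x.1.2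

theorem existsUnique_alg_lift [Algebra.Smooth A B] {D : Type u} [CommRing D] [Algebra B D]
    [Algebra.IsIntegral B D] (d : D →ₐ[B] B ⊗[A] P)
    (hd : (Algebra.TensorProduct.map (AlgHom.id B B) r₁).comp d = (Algebra.TensorProduct.map (AlgHom.id B B) r₂).comp d) :
    ∃! h : D →ₐ[B] B ⊗[A] normRing r₁ r₂,
      (Algebra.TensorProduct.map (AlgHom.id B B) (normIncl r₁ r₂)).comp h = d := by
  let C := AlgHom.equalizer r₁ r₂
  let iC : B ⊗[A] C →ₐ[B] B ⊗[A] P := Algebra.TensorProduct.map (AlgHom.id B B) C.val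
  let iI : B ⊗[A] normRing r₁ r₂ →ₐ[B] B ⊗[A] C := Algebra.TensorProduct.map (AlgHom.id B B) (normRing r₁ r₂).val
  have hcomp : Algebra.TensorProduct.map (AlgHom.id B B) (normIncl r₁ r₂) = iC.comp iI := by
    ext
    simp [iC, iI, normIncl, C]
  have hiC : Function.Injective iC :=
    Module.Flat.lTensor_preserves_injective_linearMap (M := B) C.val.toLinearMap Subtype.val_injective
  have hbij := TensorProduct.toIntegralClosure_bijective_of_smooth (R := A) (S := B) (B := C)
  have hiI : Function.Injective iI :=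
    Module.Flat.lTensor_preserves_injective_linearMap (M := B) (normRing r₁ r₂).val.toLinearMap Subtype.val_injective
  let eC := AlgHom.tensorEqualizerEquiv B B r₁ r₂
  let dC : D →ₐ[B] B ⊗[A] C := eC.symm.toAlgHom.comp (d.codRestrict _ fun x => AlgHom.congr_fun hd x)
  have hdC : iC.comp dC = d := AlgHom.ext fun x => by
    have : ∀ z, iC z = (eC z).1 := fun z => (AlgHom.coe_tensorEqualizer B B r₁ r₂ z).symm
    show iC (eC.symm _) = d x
    rw [this, AlgEquiv.apply_symm_apply]
    rfl
  let dI : D →ₐ[B] integralClosure B (B ⊗[A] C) :=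
    dC.codRestrict _ fun x => (Algebra.IsIntegral.isIntegral x).map dC
  let eI := AlgEquiv.ofBijective _ hbij
  refine ⟨eI.symm.toAlgHom.comp dI, ?_, fun h' hh' => ?_⟩
  · show AlgHom.comp _ _ = d
    rw [hcomp, AlgHom.comp_assoc, ← hdC]
    refine AlgHom.ext fun x => congrArg iC ?_
    have : ∀ z, iI z = (eI z).1 := fun z => rfl
    show iI (eI.symm _) = dC x
    rw [this, AlgEquiv.apply_symm_apply]
    rfl
  · refine AlgHom.ext fun x => hiI (hiC ?_)
    have h1 : iC (iI (h' x)) = d x := by rw [← hh', hcomp]; rfl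
    rw [h1, ← hdC]
    refine congrArg iC ?_
    have : ∀ z, iI z = (eI z).1 := fun z => rfl
    show dC x = iI (eI.symm _)
    rw [this, AlgEquiv.apply_symm_apply]
    rfl

end algebra

variable {S : Scheme.{u}} {A : Type u} [CommRing A] (sA : Spec (CommRingCat.of A) ⟶ S)

/-- the affine base -/
abbrev oU : Over S := Over.mk sA

/-- affine schemes over the base -/
abbrev oA (B : Type u) [CommRing B] [Algebra A B] : Over S :=
  Over.mk (Spec.map (CommRingCat.ofHom (algebraMap A B)) ≫ sA)

/-- structure map -/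
def oStr (B : Type u) [CommRing B] [Algebra A B] : oA sA B ⟶ oU sA :=
  Over.homMk (Spec.map (CommRingCat.ofHom (algebraMap A B)))

/-- maps of affine schemes over the base -/
def oMap {B C : Type u} [CommRing B] [CommRing C] [Algebra A B] [Algebra A C] (φ : B →ₐ[A] C) :
    oA sA C ⟶ oA sA B :=
  Over.homMk (Spec.map (CommRingCat.ofHom φ.toRingHom)) (by
    show Spec.map _ ≫ Spec.map _ ≫ sA = Spec.map _ ≫ sA
    rw [← Spec.map_comp_assoc, ← CommRingCat.ofHom_comp, show φ.toRingHom.comp (algebraMap A B) = algebraMap A C from φ.comp_algebraMap])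

section maps

variable {B C D : Type u} [CommRing B] [CommRing C] [CommRing D] [Algebra A B] [Algebra A C] [Algebra A D]

theorem oMap_comp (φ : B →ₐ[A] C) (ψ : C →ₐ[A] D) : oMap sA ψ ≫ oMap sA φ = oMap sA (ψ.comp φ) :=
  Over.OverMorphism.ext (by
    show Spec.map _ ≫ Spec.map _ = Spec.map _
    rw [← Spec.map_comp, ← CommRingCat.ofHom_comp]
    rfl)

theorem oMap_str (φ : B →ₐ[A] C) : oMap sA φ ≫ oStr sA B = oStr sA C :=
  Over.OverMorphism.ext (by
    show Spec.map _ ≫ Spec.map _ = Spec.map _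
    rw [← Spec.map_comp, ← CommRingCat.ofHom_comp, show φ.toRingHom.comp (algebraMap A B) = algebraMap A C from φ.comp_algebraMap])

theorem oMap_injective : Function.Injective (oMap sA : (B →ₐ[A] C) → _) := fun φ ψ h =>
  AlgHom.ext fun x => congrArg (fun m : CommRingCat.of B ⟶ CommRingCat.of C => m.hom x)
    (Spec.map_injective (congrArg (fun m : oA sA C ⟶ oA sA B => m.left) h))

theorem exists_oMap (m : oA sA C ⟶ oA sA B) (h : m ≫ oStr sA B = oStr sA C) : ∃ φ : B →ₐ[A] C, oMap sA φ = m := by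
  obtain ⟨φ, hφ⟩ := Spec.map_surjective m.left
  refine ⟨{ φ.hom with commutes' := fun a => ?_ }, Over.OverMorphism.ext hφ⟩
  have h1 : Spec.map φ ≫ Spec.map (CommRingCat.ofHom (algebraMap A B)) = Spec.map (CommRingCat.ofHom (algebraMap A C)) := by
    rw [hφ]; exact congrArg (fun m => m.left) h
  rw [← Spec.map_comp] at h1
  exact congrArg (fun m : CommRingCat.of A ⟶ CommRingCat.of C => m.hom a) (Spec.map_injective h1)

theorem isPullback_oA : IsPullback (oMap sA (Algebra.TensorProduct.includeLeft : B →ₐ[A] B ⊗[A] C))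
    (oMap sA (Algebra.TensorProduct.includeRight : C →ₐ[A] B ⊗[A] C)) (oStr sA B) (oStr sA C) :=
  IsPullback.of_map (Over.forget S) ((oMap_str sA _).trans (oMap_str sA _).symm)
    (isPullback_SpecMap_of_isPushout _ _ _ _ (CommRingCat.isPushout_tensorProduct A B C))

theorem isPullback_yon_oA : IsPullback ((yon S).map (oMap sA (Algebra.TensorProduct.includeRight : C →ₐ[A] B ⊗[A] C)))
    ((yon S).map (oMap sA (Algebra.TensorProduct.includeLeft : B →ₐ[A] B ⊗[A] C)))
    ((yon S).map (oStr sA C)) ((yon S).map (oStr sA B)) :=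
  (((isPullback_oA (B := B) (C := C) sA).map (yon S))).flip

end maps

theorem univAt_of_iso {G N Y : Sp S} {f : Y ⟶ G} {ν : N ⟶ G} {f' : Y ⟶ N} {T T' : Over S} (e : T' ≅ T)
    {a : (yon S).obj T ⟶ G} (H : UnivAt f ν f' ((yon S).map e.hom ≫ a)) : UnivAt f ν f' a := by
  intro N' Y' nF nS sqN yF yS sqY k hk1 hk2 W w hw g hg
  have h1 : IsPullback nF (nS ≫ (yon S).map e.inv) ν ((yon S).map e.hom ≫ a) :=
    sqN.of_iso (Iso.refl _) (Iso.refl _) ((yon S).mapIso e.symm) (Iso.refl _) (by simp) (by simp) (by simp)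
      (by simp [← Functor.map_comp_assoc])
  have h2 : IsPullback yF (yS ≫ (yon S).map e.inv) f ((yon S).map e.hom ≫ a) :=
    sqY.of_iso (Iso.refl _) (Iso.refl _) ((yon S).mapIso e.symm) (Iso.refl _) (by simp) (by simp) (by simp)
      (by simp [← Functor.map_comp_assoc])
  have : IsIntegralHom (w ≫ e.inv).left :=
    MorphismProperty.comp_mem @IsIntegralHom w.left e.inv.left hw inferInstance
  obtain ⟨h, ⟨a1, a2⟩, hu⟩ := H nF _ h1 yF _ h2 k hk1 (by rw [← Category.assoc, hk2]) (w ≫ e.inv) this g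
    (by rw [Functor.map_comp, ← Category.assoc, hg])
  refine ⟨h, ⟨a1, ?_⟩, fun m hm => hu m ⟨hm.1, by rw [Functor.map_comp, ← Category.assoc, hm.2]⟩⟩
  rw [← cancel_mono ((yon S).map e.inv), Category.assoc, ← Functor.map_comp]
  exact a2

theorem exists_over_iso {B : Type u} [CommRing B] [Algebra A B] {W : Over S} (w : W ⟶ oA sA B)
    (hw : IsIntegralHom w.left) :
    ∃ (D : Type u) (_ : CommRing D) (_ : Algebra A D) (_ : Algebra B D) (_ : IsScalarTower A B D),
      Algebra.IsIntegral B D ∧ ∃ i : oA sA D ≅ W, i.hom ≫ w = oMap sA (IsScalarTower.toAlgHom A B D) := by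
  haveI : IsAffine (oA sA B).left := inferInstanceAs (IsAffine (Spec (CommRingCat.of B)))
  haveI : IsAffine W.left := isAffine_of_isAffineHom w.left
  obtain ⟨φ, hφ⟩ := Spec.map_surjective (W.left.isoSpec.inv ≫ w.left)
  letI := φ.hom.toAlgebra
  letI := (φ.hom.comp (algebraMap A B)).toAlgebra
  haveI : IsScalarTower A B Γ(W.left, ⊤) := IsScalarTower.of_algebraMap_eq fun _ => rfl
  refine ⟨Γ(W.left, ⊤), inferInstance, inferInstance, inferInstance, inferInstance, ?_, Over.isoMk W.left.isoSpec.symm ?_, ?_⟩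
  · have : IsIntegralHom (Spec.map φ) := by
      rw [hφ]; exact MorphismProperty.comp_mem @IsIntegralHom _ _ inferInstance hw
    exact algebraMap_isIntegral_iff.1 (IsIntegralHom.SpecMap_iff.1 this)
  · show W.left.isoSpec.inv ≫ W.hom = Spec.map (CommRingCat.ofHom (φ.hom.comp (algebraMap A B))) ≫ sA
    rw [show CommRingCat.ofHom (φ.hom.comp (algebraMap A B)) = CommRingCat.ofHom (algebraMap A B) ≫ φ from rfl,
      Spec.map_comp, hφ, Category.assoc, Category.assoc]
    exact congrArg (_ ≫ ·) (Over.w w).symm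
  · exact Over.OverMorphism.ext hφ.symm

theorem univAt_oStr {Y : Sp S} (f : Y ⟶ (yon S).obj (oU sA)) {P E : Type u} [CommRing P] [CommRing E]
    [Algebra A P] [Algebra A E] (r₁ r₂ : P →ₐ[A] E) (pV : (yon S).obj (oA sA P) ⟶ Y)
    (hVe : RepWith @Etale pV) (hVs : RepWith @Surjective pV) (hpV : pV ≫ f = (yon S).map (oStr sA P))
    (e : (yon S).obj (oA sA E) ⟶ pullback pV pV)
    (he₁ : e ≫ pullback.fst _ _ = (yon S).map (oMap sA r₁))
    (he₂ : e ≫ pullback.snd _ _ = (yon S).map (oMap sA r₂))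
    (f' : Y ⟶ (yon S).obj (oA sA (normRing r₁ r₂))) (hf' : pV ≫ f' = (yon S).map (oMap sA (normIncl r₁ r₂)))
    (B : Type u) [CommRing B] [Algebra A B] [Algebra.Smooth A B] :
    UnivAt f ((yon S).map (oStr sA (normRing r₁ r₂))) f' ((yon S).map (oStr sA B)) := by
  intro N' Y' nF nS sqN yF yS sqY k hk1 hk2 W w hw g hg
  let I := normRing r₁ r₂
  obtain ⟨D, _, _, _, _, hD, i, hi⟩ := exists_over_iso sA w hw
  -- the chart of the base change
  let qV : (yon S).obj (oA sA (B ⊗[A] P)) ⟶ Y' := sqY.lift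
    ((yon S).map (oMap sA Algebra.TensorProduct.includeRight) ≫ pV)
    ((yon S).map (oMap sA Algebra.TensorProduct.includeLeft))
    (by rw [Category.assoc, hpV, ← Functor.map_comp, ← Functor.map_comp, oMap_str, oMap_str])
  have sqV : IsPullback ((yon S).map (oMap sA (Algebra.TensorProduct.includeRight : P →ₐ[A] B ⊗[A] P))) qV pV yF := by
    refine IsPullback.of_bot ?_ (sqY.lift_fst _ _ _).symm sqY
    rw [hpV, sqY.lift_snd]
    exact isPullback_yon_oA sA
  haveI : Epi qV := epi_of_etale_surjective (RepWith.baseChange sqV hVe) (RepWith.baseChange sqV hVs)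
  -- the coordinates of the normalisation
  let eN := (isPullback_yon_oA sA (B := B) (C := I)).isoIsPullback _ _ sqN
  have eN1 : eN.inv ≫ (yon S).map (oMap sA Algebra.TensorProduct.includeRight) = nF :=
    IsPullback.isoIsPullback_inv_fst _ _ _ _
  have eN2 : eN.inv ≫ (yon S).map (oMap sA Algebra.TensorProduct.includeLeft) = nS :=
    IsPullback.isoIsPullback_inv_snd _ _ _ _
  let ι : B ⊗[A] I →ₐ[B] B ⊗[A] P := Algebra.TensorProduct.map (AlgHom.id B B) (normIncl r₁ r₂)
  have hqk : qV ≫ k ≫ eN.inv = (yon S).map (oMap sA (ι.restrictScalars A)) := by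
    refine (isPullback_yon_oA sA (B := B) (C := I)).hom_ext ?_ ?_
    · rw [Category.assoc, Category.assoc, eN1, hk1, sqY.lift_fst_assoc, Category.assoc, hf', ← Functor.map_comp,
        ← Functor.map_comp, oMap_comp, oMap_comp]
      congr 2
    · rw [Category.assoc, Category.assoc, eN2, hk2, sqY.lift_snd, ← Functor.map_comp, oMap_comp]
      congr 2
  have hstr : ∀ {C : Type u} [CommRing C] [Algebra A C] [Algebra B C] [IsScalarTower A B C]
      (m : oA sA C ⟶ W), m ≫ w = oMap sA (IsScalarTower.toAlgHom A B C) →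
      ∃ d : D →ₐ[B] C, oMap sA (d.restrictScalars A) ≫ i.hom = m := by
    intro C _ _ _ _ m hm
    have h1 : (m ≫ i.inv) ≫ oMap sA (IsScalarTower.toAlgHom A B D) = oMap sA (IsScalarTower.toAlgHom A B C) := by
      rw [← hi, Category.assoc, i.inv_hom_id_assoc, hm]
    obtain ⟨φ, hφ⟩ := exists_oMap sA (m ≫ i.inv) (by
      rw [← oMap_str sA (IsScalarTower.toAlgHom A B D), ← Category.assoc, h1, oMap_str])
    rw [← hφ, oMap_comp] at h1
    refine ⟨{ φ.toRingHom with commutes' := fun b => AlgHom.congr_fun (oMap_injective sA h1) b }, ?_⟩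
    rw [← cancel_mono i.inv, Category.assoc, i.hom_inv_id, Category.comp_id, ← hφ]
    congr 1
  -- the map on charts
  obtain ⟨m, hm⟩ := (yon S).map_surjective (qV ≫ g)
  have hmw : m ≫ w = oMap sA (IsScalarTower.toAlgHom A B (B ⊗[A] P)) := (yon S).map_injective (by
    rw [Functor.map_comp, hm, Category.assoc, hg, sqY.lift_snd]
    rfl)
  obtain ⟨d, hd⟩ := hstr m hmw
  have hde : (Algebra.TensorProduct.map (AlgHom.id B B) r₁).comp d = (Algebra.TensorProduct.map (AlgHom.id B B) r₂).comp d := by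
    have hq : (yon S).map (oMap sA ((Algebra.TensorProduct.map (AlgHom.id B B) r₁).restrictScalars A)) ≫ qV =
        (yon S).map (oMap sA ((Algebra.TensorProduct.map (AlgHom.id B B) r₂).restrictScalars A)) ≫ qV := by
      refine sqY.hom_ext ?_ ?_
      · have hr : ∀ (r : P →ₐ[A] E), ((Algebra.TensorProduct.map (AlgHom.id B B) r).restrictScalars A).comp
            (Algebra.TensorProduct.includeRight : P →ₐ[A] B ⊗[A] P) =
            (Algebra.TensorProduct.includeRight : E →ₐ[A] B ⊗[A] E).comp r := fun r => by ext x; simp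
        simp only [Category.assoc, qV, sqY.lift_fst]
        rw [← Functor.map_comp_assoc, ← Functor.map_comp_assoc, oMap_comp, oMap_comp, hr, hr, ← oMap_comp,
          ← oMap_comp, Functor.map_comp_assoc, Functor.map_comp_assoc, ← he₁, ← he₂, Category.assoc, Category.assoc,
          pullback.condition]
      · have hl : ∀ (r : P →ₐ[A] E), ((Algebra.TensorProduct.map (AlgHom.id B B) r).restrictScalars A).comp
            (Algebra.TensorProduct.includeLeft : B →ₐ[A] B ⊗[A] P) =
            (Algebra.TensorProduct.includeLeft : B →ₐ[A] B ⊗[A] E) := fun r => by ext x; simp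
        simp only [Category.assoc, qV, sqY.lift_snd]
        rw [← Functor.map_comp, ← Functor.map_comp, oMap_comp, oMap_comp, hl, hl]
    have h2 := reassoc_of% hq
    have h3 := h2 g
    rw [← hm, ← Functor.map_comp, ← Functor.map_comp] at h3
    have h4 := (yon S).map_injective h3
    rw [← hd, ← Category.assoc, ← Category.assoc, cancel_mono, oMap_comp, oMap_comp] at h4
    exact AlgHom.ext fun x => AlgHom.congr_fun (oMap_injective sA h4) x
  obtain ⟨h, hh, huniq⟩ := existsUnique_alg_lift r₁ r₂ d hde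
  refine ⟨eN.inv ≫ (yon S).map (oMap sA (h.restrictScalars A) ≫ i.hom), ⟨?_, ?_⟩, fun m' hm' => ?_⟩
  · rw [← cancel_epi qV, reassoc_of% hqk, ← hm, ← hd, ← Functor.map_comp, ← Category.assoc, oMap_comp, ← hh]
    rfl
  · have : oMap sA (h.restrictScalars A) ≫ oMap sA (IsScalarTower.toAlgHom A B D) =
        oMap sA (Algebra.TensorProduct.includeLeft : B →ₐ[A] B ⊗[A] I) := by
      rw [oMap_comp]; congr 1; ext x; exact h.commutes x
    rw [Category.assoc, ← Functor.map_comp, Category.assoc, hi, this, eN2]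
  · obtain ⟨m₀, hm₀⟩ := (yon S).map_surjective (eN.hom ≫ m')
    obtain ⟨h', hh'⟩ := hstr m₀ ((yon S).map_injective (by
      rw [Functor.map_comp, hm₀, Category.assoc, hm'.2, ← eN2, eN.hom_inv_id_assoc]
      rfl))
    have : ι.comp h' = d := by
      refine AlgHom.ext fun x => AlgHom.congr_fun (oMap_injective sA (B := D) (C := B ⊗[A] P) (a₁ := (ι.comp h').restrictScalars A)
        (a₂ := d.restrictScalars A) ?_) x
      rw [← cancel_mono i.hom, hd, show (ι.comp h').restrictScalars A = (ι.restrictScalars A).comp (h'.restrictScalars A) from rfl,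
        ← oMap_comp, Category.assoc, hh']
      refine (yon S).map_injective ?_
      rw [hm, Functor.map_comp, hm₀, ← hqk, Category.assoc, Category.assoc, eN.inv_hom_id_assoc, hm'.1]
    rw [← huniq h' this, hh', hm₀, eN.inv_hom_id_assoc]

theorem locNorm_affine {Y : Sp S} (f : Y ⟶ (yon S).obj (oU sA)) {P E : Type u} [CommRing P] [CommRing E]
    [Algebra A P] [Algebra A E] (r₁ r₂ : P →ₐ[A] E) (pV : (yon S).obj (oA sA P) ⟶ Y)
    (hVe : RepWith @Etale pV) (hVs : RepWith @Surjective pV) (hpV : pV ≫ f = (yon S).map (oStr sA P))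
    (e : (yon S).obj (oA sA E) ⟶ pullback pV pV) [Epi e]
    (he₁ : e ≫ pullback.fst _ _ = (yon S).map (oMap sA r₁))
    (he₂ : e ≫ pullback.snd _ _ = (yon S).map (oMap sA r₂)) :
    ∃ f' : Y ⟶ (yon S).obj (oA sA (normRing r₁ r₂)),
      LocNorm f ((yon S).map (oStr sA (normRing r₁ r₂))) f' := by
  haveI : IsRegularEpiCategory (Sp S) :=
    inferInstanceAs (IsRegularEpiCategory (Sheaf (J S) (Type (u + 1))))
  haveI : Epi pV := epi_of_etale_surjective hVe hVs
  haveI : IsRegularEpi pV := IsRegularEpiCategory.regularEpiOfEpi pV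
  let q := (yon S).map (oMap sA (normIncl r₁ r₂))
  have hq : pullback.fst pV pV ≫ q = pullback.snd pV pV ≫ q := by
    rw [← cancel_epi e, reassoc_of% he₁, reassoc_of% he₂, ← Functor.map_comp, ← Functor.map_comp, oMap_comp,
      oMap_comp, normIncl_eq]
  let f' : Y ⟶ (yon S).obj (oA sA (normRing r₁ r₂)) := EffectiveEpi.desc pV q fun {T} g₁ g₂ h => by
    rw [← pullback.lift_fst g₁ g₂ h, Category.assoc, hq, pullback.lift_snd_assoc]
  have hf' : pV ≫ f' = q := EffectiveEpi.fac _ _ _
  have hfac : f' ≫ (yon S).map (oStr sA _) = f := by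
    rw [← cancel_epi pV, reassoc_of% hf', hpV, ← Functor.map_comp, oMap_str]
  refine ⟨f', hfac, (repWith_yon_map_iff _ _).2 ?_, fun T hT a ha => ?_⟩
  · show IsIntegralHom (Spec.map _)
    rw [IsIntegralHom.SpecMap_iff]
    exact algebraMap_isIntegral_iff.2 inferInstance
  obtain ⟨a₀, rfl⟩ := (yon S).map_surjective a
  obtain ⟨φ, hφ⟩ := Spec.map_surjective (T.left.isoSpec.inv ≫ a₀.left)
  letI := φ.hom.toAlgebra
  have hB : Algebra.Smooth A Γ(T.left, ⊤) := by
    have : Smooth (Spec.map φ) := by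
      have : Smooth a₀.left := (repWith_yon_map_iff _ a₀).1 ha
      rw [hφ]; infer_instance
    exact RingHom.smooth_algebraMap.1 ((HasRingHomProperty.Spec_iff (P := @Smooth)).1 this)
  let eT : oA sA Γ(T.left, ⊤) ≅ T := Over.isoMk T.left.isoSpec.symm (by
    show T.left.isoSpec.inv ≫ T.hom = Spec.map φ ≫ sA
    rw [hφ, Category.assoc]
    exact congrArg (_ ≫ ·) (Over.w a₀).symm)
  refine univAt_of_iso eT ?_
  rw [← Functor.map_comp, show eT.hom ≫ a₀ = oStr sA Γ(T.left, ⊤) from Over.OverMorphism.ext hφ.symm]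
  exact univAt_oStr sA f r₁ r₂ pV hVe hVs hpV e he₁ he₂ f' hf' Γ(T.left, ⊤)

end Groth.Agent.AlgSpLib
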