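import Groth.Agent.AlgSpLib.NormValAlg
import Groth.Agent.AlgSpLib.SepChartAffine
import Groth.Agent.GrpdLib.InvariantAffine

/-!
Affine neighbourhoods on algebraic spaces with a finite cover by an integral scheme: saturated nonvanishing loci are
made by multiplying a function by its conjugates.
-/

universe u

open CategoryTheory CategoryTheory.Limits AlgebraicGeometry Opposite Topology
open AlgSp

noncomputable section

set_option linter.style.haveILetI false

namespace Groth.Agent.AlgSpLib.NormNhd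

open Groth.Agent.AlgSpLib

set_option backward.isDefEq.respectTransparency.types false
set_option backward.isDefEq.respectTransparency false

/-- points of local rings at an affine open come from ring maps -/
theorem exists_ringHom_of_mem {Z : Scheme.{u}} {W : Z.Opens} (hW : IsAffineOpen W) {R : CommRingCat.{u}}
    [IsLocalRing R] (q : Spec R ⟶ Z) (h : q (IsLocalRing.closedPoint R) ∈ W) :
    ∃ ψ : Γ(Z, W) ⟶ R, Spec.map ψ ≫ hW.fromSpec = q := by
  have hr : Set.range q ⊆ Set.range hW.fromSpec := by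
    rw [hW.range_fromSpec]
    rintro _ ⟨r, rfl⟩
    exact ((IsLocalRing.specializes_closedPoint r).map q.continuous).mem_open W.isOpen h
  exact ⟨Spec.preimage (IsOpenImmersion.lift hW.fromSpec q hr), by rw [Spec.map_preimage, IsOpenImmersion.lift_fac]⟩

/-- nonvanishing at the closed point -/
theorem mem_basicOpen_iff_isUnit {Z : Scheme.{u}} {W : Z.Opens} (hW : IsAffineOpen W) {R : CommRingCat.{u}}
    [IsLocalRing R] {q : Spec R ⟶ Z} (ψ : Γ(Z, W) ⟶ R) (h : Spec.map ψ ≫ hW.fromSpec = q) (r : Γ(Z, W)) :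
    q (IsLocalRing.closedPoint R) ∈ Z.basicOpen r ↔ IsUnit (ψ r) := by
  rw [← h, Scheme.Hom.comp_apply]
  show Spec.map ψ _ ∈ hW.fromSpec ⁻¹ᵁ Z.basicOpen r ↔ _
  rw [hW.fromSpec_preimage_basicOpen]
  show ψ r ∉ IsLocalRing.maximalIdeal R ↔ _
  rw [IsLocalRing.mem_maximalIdeal, mem_nonunits_iff, not_not]

/-- field points at the generic point are injective on sections -/
theorem injective_of_generic {Z : Scheme.{u}} [IsIntegral Z] {W : Z.Opens} (hW : IsAffineOpen W) {M : Type u}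
    [Field M] (γ : Γ(Z, W) ⟶ CommRingCat.of M) (b : Spec (CommRingCat.of M) ⟶ Z)
    (hb : Spec.map γ ≫ hW.fromSpec = b) (hη : b (IsLocalRing.closedPoint M) = genericPoint Z) :
    Function.Injective γ := by
  haveI : Nonempty W := ⟨⟨genericPoint Z, by
    rw [← hη, ← hb, Scheme.Hom.comp_apply, ← SetLike.mem_coe, ← hW.range_fromSpec]; exact ⟨_, rfl⟩⟩⟩
  have h1 : hW.fromSpec (Spec.map γ (IsLocalRing.closedPoint M)) = hW.fromSpec (genericPoint (Spec Γ(Z, W))) := by
    rw [genericPoint_eq_of_isOpenImmersion hW.fromSpec, ← Scheme.Hom.comp_apply, hb, hη]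
  have h2 := hW.fromSpec.isOpenEmbedding.injective h1
  rw [genericPoint_eq_bot_of_affine] at h2
  rw [injective_iff_map_eq_zero]
  intro r hr
  have hmem : r ∈ (Spec.map γ (IsLocalRing.closedPoint M) : PrimeSpectrum Γ(Z, W)).asIdeal := by
    show γ r ∈ IsLocalRing.maximalIdeal M
    rw [hr]
    exact zero_mem _
  rw [h2] at hmem
  exact hmem

variable {S : Scheme.{u}}

/-- liftings along finite morphisms of valuation rings -/
theorem exists_lift_val {M : Type u} [Field M] (V : ValuationSubring M) {X : Sp S} {Y : Over S}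
    (π : (yon S).obj Y ⟶ X) (hfin : RepWith @IsFinite π) {strM : Spec (CommRingCat.of M) ⟶ S}
    {strV : Spec (CommRingCat.of V) ⟶ S} (g : (yon S).obj (Over.mk strV) ⟶ X) (b : Over.mk strM ⟶ Y)
    (e : Over.mk strM ⟶ Over.mk strV) (he : e.left = Spec.map (CommRingCat.ofHom V.subtype))
    (h : (yon S).map b ≫ π = (yon S).map e ≫ g) :
    ∃ q : Over.mk strV ⟶ Y, (yon S).map q ≫ π = g ∧ e ≫ q = b := by
  obtain ⟨Q, w, fst, sq, hw⟩ := exists_yon_of_repWith hfin g
  obtain ⟨u, rfl⟩ := (yon S).map_surjective fst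
  haveI : IsFinite w.left := hw
  haveI : IsAffine (Over.mk strV).left := isAffine_Spec _
  haveI : IsAffine Q.left := isAffine_of_isAffineHom w.left
  obtain ⟨m, hm⟩ := (yon S).map_surjective (sq.lift ((yon S).map b) ((yon S).map e) h)
  have hmu : m ≫ u = b := (yon S).map_injective (by rw [Functor.map_comp, hm, sq.lift_fst])
  have hmw : m ≫ w = e := (yon S).map_injective (by rw [Functor.map_comp, hm, sq.lift_snd])
  let wS : Spec Γ(Q.left, ⊤) ⟶ Spec (CommRingCat.of V) := Q.left.isoSpec.inv ≫ w.left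
  haveI : IsFinite wS := inferInstanceAs (IsFinite (_ ≫ _))
  let ω : CommRingCat.of V ⟶ Γ(Q.left, ⊤) := Spec.preimage wS
  have hω : Spec.map ω = wS := Spec.map_preimage _
  have hωfin : ω.hom.Finite := (IsFinite.SpecMap_iff (f := ω)).1 (hω ▸ inferInstance)
  let μ : Γ(Q.left, ⊤) ⟶ CommRingCat.of M := Spec.preimage (m.left ≫ Q.left.isoSpec.hom)
  have hμ : Spec.map μ = m.left ≫ Q.left.isoSpec.hom := Spec.map_preimage _
  have hωμ : ω ≫ μ = CommRingCat.ofHom V.subtype := by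
    refine Spec.map_injective ?_
    rw [Spec.map_comp, hμ, hω, ← he, ← hmw]
    simp [wS]
  have hV : ∀ r, μ r ∈ V := fun r => by
    letI := ω.hom.toAlgebra
    haveI : Module.Finite V Γ(Q.left, ⊤) := hωfin
    let μ' : Γ(Q.left, ⊤) →ₐ[V] M :=
      { μ.hom with commutes' := fun v => congrArg (fun k : CommRingCat.of V ⟶ CommRingCat.of M => k v) hωμ }
    obtain ⟨v, hv⟩ := (IsIntegrallyClosedIn.isIntegral_iff (R := V)).1
      ((Algebra.IsIntegral.isIntegral (R := V) r).map μ')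
    show μ' r ∈ V
    rw [← hv]
    exact v.2
  let μV : Γ(Q.left, ⊤) ⟶ CommRingCat.of V := CommRingCat.ofHom (μ.hom.codRestrict V.toSubring hV)
  have hωV : ω ≫ μV = 𝟙 _ := by
    ext v
    exact congrArg (fun k : CommRingCat.of V ⟶ CommRingCat.of M => k v) hωμ
  have hsec : Spec.map μV ≫ Q.left.isoSpec.inv ≫ w.left = 𝟙 _ := by
    show Spec.map μV ≫ wS = _
    rw [← hω, ← Spec.map_comp, hωV, Spec.map_id]
  let q₀ : Over.mk strV ⟶ Q := Over.homMk (Spec.map μV ≫ Q.left.isoSpec.inv) (by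
    rw [← Over.w w, ← Category.assoc, Category.assoc (Spec.map μV), hsec]
    exact Category.id_comp _)
  have hq₀ : q₀ ≫ w = 𝟙 _ := Over.OverMorphism.ext (by
    show (Spec.map μV ≫ Q.left.isoSpec.inv) ≫ w.left = 𝟙 _
    rw [Category.assoc, hsec])
  refine ⟨q₀ ≫ u, ?_, ?_⟩
  · rw [Functor.map_comp, Category.assoc, sq.w, ← Category.assoc, ← Functor.map_comp, hq₀, (yon S).map_id,
      Category.id_comp]
  · rw [← hmu, ← Category.assoc]
    congr 1
    refine Over.OverMorphism.ext ?_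
    show e.left ≫ Spec.map μV ≫ Q.left.isoSpec.inv = m.left
    rw [he, ← Category.assoc, ← Spec.map_comp, show μV ≫ CommRingCat.ofHom V.subtype = μ from rfl, hμ,
      Category.assoc, Iso.hom_inv_id, Category.comp_id]

/-- algebra maps from a finite algebra to a field form a finite type -/
theorem finite_algHom (A B M : Type u) [CommRing A] [CommRing B] [Field M] [Algebra A B] [Algebra A M]
    [Module.Finite A B] : Finite (B →ₐ[A] M) := by
  classical
  obtain ⟨s, hs⟩ := (Module.Finite.fg_top : (⊤ : Submodule A B).FG)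
  choose p hp hp0 using fun b : B => Algebra.IsIntegral.isIntegral (R := A) b
  let val : (B →ₐ[A] M) → ∀ b : ↥s, {r : M // r ∈ ((p b.1).map (algebraMap A M)).roots.toFinset} := fun φ b =>
    ⟨φ b.1, by
      rw [Multiset.mem_toFinset, Polynomial.mem_roots ((hp b.1).map _).ne_zero, Polynomial.IsRoot,
        Polynomial.eval_map, ← Polynomial.aeval_def, Polynomial.aeval_algHom_apply, Polynomial.aeval_def, hp0,
        map_zero]⟩
  refine Finite.of_injective val fun φ φ' h => AlgHom.toLinearMap_injective ?_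
  exact LinearMap.ext_on (s := (s : Set B)) hs fun b hb => congrArg Subtype.val (congrFun h ⟨b, hb⟩)

/-- if all valuation rings of a field over `R[1/h]` contain an element, a multiple by a power of `h` is integral -/
theorem exists_pow_mul_integral {R M : Type u} [CommRing R] [Field M] [Algebra R M] (h : R)
    (hh : algebraMap R M h ≠ 0) (y : M)
    (H : ∀ V : ValuationSubring M, (∀ r, algebraMap R M r ∈ V) → (algebraMap R M h)⁻¹ ∈ V → y ∈ V) :
    ∃ k : ℕ, IsIntegral R ((algebraMap R M h) ^ k * y) := by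
  have hu : IsUnit (algebraMap R M h) := IsUnit.mk0 _ hh
  letI : Algebra (Localization.Away h) M := (IsLocalization.Away.lift h hu).toAlgebra
  haveI : IsScalarTower R (Localization.Away h) M :=
    IsScalarTower.of_algebraMap_eq fun r => (IsLocalization.Away.lift_eq h hu r).symm
  have hy : IsIntegral (Localization.Away h) y := by
    by_contra hy
    obtain ⟨V, hV, hyV⟩ := Subring.exists_le_valuationSubring_of_isIntegrallyClosedIn
      (R := (integralClosure (Localization.Away h) M).toSubring) (x := y) hy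
    refine hyV (H V (fun r => hV ?_) (hV ?_))
    · exact (IsScalarTower.algebraMap_apply R (Localization.Away h) M r) ▸ isIntegral_algebraMap
    · have e : algebraMap (Localization.Away h) M (IsLocalization.Away.invSelf h) = (algebraMap R M h)⁻¹ := by
        refine eq_inv_of_mul_eq_one_left ?_
        rw [IsScalarTower.algebraMap_apply R (Localization.Away h) M, ← map_mul, mul_comm,
          IsLocalization.Away.mul_invSelf, map_one]
      exact e ▸ isIntegral_algebraMap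
  obtain ⟨⟨_, k, rfl⟩, hk⟩ := hy.exists_multiple_integral_of_isLocalization (Submonoid.powers h) _
  refine ⟨k, ?_⟩
  rwa [Submonoid.smul_def, Algebra.smul_def, map_pow] at hk

/-- an affine neighbourhood made by conjugate functions -/
theorem exists_affine_nhd [QuasiSeparatedSpace ↥S] (X : AlgSp.Space S) {Y : Over S} [IsIntegral Y.left]
    (π : (yon S).obj Y ⟶ X.obj) (hfin : RepWith @IsFinite π) (hsurj : Function.Surjective (Points.ofPt π))
    {T P : Over S} [IsAffine T.left] [IsIntegral T.left] (jT : (yon S).obj T ⟶ X.obj)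
    (hjT : RepWith @IsOpenImmersion jT) (s : P ⟶ T) (t : P ⟶ Y)
    (sqT : IsPullback ((yon S).map t) ((yon S).map s) π jT) [Flat s.left]
    {Z : Sp S} (i₀ : Z ⟶ X.obj) (hi₀ : RepWith @IsClosedImmersion i₀)
    (hZU : Set.range (Points.map i₀) = (Set.range (Points.ofPt jT))ᶜ)
    {T₂ : Over S} [IsAffine T₂.left] (k : (yon S).obj T₂ ⟶ Z) (hk : RepWith @IsOpenImmersion k)
    (x : Points X.obj) (x₂ : ↥T₂.left) (hx₂ : Points.map i₀ (Points.ofPt k x₂) = x)
    (W : Y.left.Opens) (hW : IsAffineOpen W) (hWx : ∀ y, Points.ofPt π y = x → y ∈ W) :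
    ∃ (T' : Over S) (j : (yon S).obj T' ⟶ X.obj), IsAffine T'.left ∧ RepWith @IsOpenImmersion j ∧
      x ∈ Set.range (Points.map j) := by
  classical
  haveI : Mono i₀ := mono_of_repWith (fun _ _ g (_ : IsClosedImmersion g) => (inferInstance : Mono g)) hi₀
  haveI : Mono k := Induct.mono_openImm hk
  have hclosed : ∀ C : Set ↥Y.left, IsClosed C → IsClosed (Points.ofPt π '' C) := fun C hC => by
    have h1 : IsUnivClosedMor π := ChevGen.isUnivClosedMor_of_integral ((isIntegralMor_iff_repWith π).2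
      (RepWith.mono (fun _ _ g (_ : IsFinite g) => (inferInstance : IsIntegralHom g)) hfin))
    have h2 := isClosedMap_of_univClosed X.property h1 _ ((Points.schemeHomeo Y).isClosedMap _ hC)
    rw [Set.image_image] at h2
    convert h2 using 2
    exact Points.ofPt_eq_map_ofScheme π _
  have hiclosed : IsClosedEmbedding (Points.map i₀) :=
    ⟨isEmbedding_map_of_closedImmersion X.property hi₀, isClosed_range_map_of_closedImmersion X.property hi₀⟩
  -- open set cutting out the affine piece of the closed subspace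
  let V : Set (Points X.obj) := (Points.map i₀ '' (Set.range (Points.ofPt k))ᶜ)ᶜ
  have hVo : IsOpen V := (hiclosed.isClosedMap _ ((isOpenMap_ofPt k (RepWith.mono (fun _ _ g (_ : IsOpenImmersion g) => (inferInstance : Etale g)) hk)).isOpen_range.isClosed_compl)).isOpen_compl
  have hVT : ∀ z, Points.map i₀ z ∈ V → z ∈ Set.range (Points.ofPt k) := fun z hz => by
    by_contra h
    exact hz ⟨z, h, rfl⟩
  have hxV : x ∈ V := by
    rintro ⟨z, hz, hzx⟩
    exact hz ⟨x₂, injective_map_of_mono i₀ (hx₂.trans hzx.symm)⟩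
  have hcont : Continuous (Points.ofPt π) := Points.continuous_ofPt π
  have hfib : ({y | Points.ofPt π y = x} : Set ↥Y.left).Finite := by
    obtain ⟨Q, w, fst, sq, hw⟩ := exists_yon_of_repWith hfin π
    obtain ⟨u, rfl⟩ := (yon S).map_surjective fst
    haveI : IsFinite w.left := hw
    obtain ⟨y₀, hy₀⟩ := hsurj x
    refine ((w.left.finite_preimage_singleton y₀).image u.left).subset fun y hy => ?_
    obtain ⟨r, h1, h2⟩ := (ofPt_eq_ofPt_iff sq y y₀).1 (hy.trans hy₀.symm)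
    exact ⟨r, h2, h1⟩
  -- shrink the affine open containing the fibre
  let V₀ : Set (Points X.obj) := V ∩ (Points.ofPt π '' (W : Set ↥Y.left)ᶜ)ᶜ
  have hV₀o : IsOpen V₀ := hVo.inter (hclosed _ W.isOpen.isClosed_compl).isOpen_compl
  haveI : IsAffine W.toScheme := hW
  obtain ⟨a, ha1, ha2⟩ := GrpdLib.exists_basicOpen_of_finite (W.ι ⁻¹' {y | Points.ofPt π y = x})
    (hfib.preimage W.ι.isOpenEmbedding.injective.injOn)
    ⟨W.ι ⁻¹' (Points.ofPt π ⁻¹' V₀), (hV₀o.preimage hcont).preimage W.ι.continuous⟩ fun w hw => by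
      have hw' : Points.ofPt π (W.ι w) = x := hw
      show Points.ofPt π (W.ι w) ∈ V₀
      rw [hw']
      exact ⟨hxV, fun ⟨y, hy, hyx⟩ => hy (hWx y hyx)⟩
  let W₁ : Y.left.Opens := W.ι ''ᵁ W.toScheme.basicOpen a
  have hW₁ : IsAffineOpen W₁ := ((isAffineOpen_top W.toScheme).basicOpen a).image_of_isOpenImmersion W.ι
  have hW₁x : ∀ y, Points.ofPt π y = x → y ∈ W₁ := fun y hy => ⟨⟨y, hWx y hy⟩, ha1 hy, rfl⟩
  have hW₁V : ∀ y ∈ W₁, Points.ofPt π y ∈ V₀ := by
    rintro _ ⟨w, hw, rfl⟩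
    exact ha2 hw
  let V₂ : Set (Points X.obj) := (Points.ofPt π '' (W₁ : Set ↥Y.left)ᶜ)ᶜ
  have hV₂o : IsOpen V₂ := (hclosed _ W₁.isOpen.isClosed_compl).isOpen_compl
  have hV₂W : ∀ y, Points.ofPt π y ∈ V₂ → y ∈ W₁ := fun y hy => by
    by_contra h
    exact hy ⟨y, h, rfl⟩
  have hxV₂ : x ∈ V₂ := fun ⟨y, hy, hyx⟩ => hy (hW₁x y hyx)
  -- the function on the closed subspace
  obtain ⟨f, hf1, hf2⟩ := GrpdLib.exists_basicOpen_of_finite ({x₂} : Set ↥T₂.left) (Set.finite_singleton _)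
    ⟨(fun v => Points.map i₀ (Points.ofPt k v)) ⁻¹' V₂,
      hV₂o.preimage ((Points.continuous_map i₀).comp (Points.continuous_ofPt k))⟩ fun v hv => by
      rw [show v = x₂ from hv]
      show Points.map i₀ (Points.ofPt k x₂) ∈ V₂
      rw [hx₂]
      exact hxV₂
  let Df : Set (Points X.obj) := (fun v => Points.map i₀ (Points.ofPt k v)) '' T₂.left.basicOpen f
  have hDfV : Df ⊆ V₂ := by rintro _ ⟨v, hv, rfl⟩; exact hf2 hv
  let R₁ := Γ(Y.left, W₁)
  let O₁ : Over S := Over.mk (hW₁.fromSpec ≫ Y.hom)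
  let m₁ : O₁ ⟶ Y := Over.homMk hW₁.fromSpec
  let q₁ : (yon S).obj O₁ ⟶ X.obj := (yon S).map m₁ ≫ π
  obtain ⟨Zc, ιc, fst, sqc, hιc⟩ := exists_yon_of_repWith hi₀ q₁
  haveI : IsClosedImmersion ιc.left := hιc
  haveI : IsAffine O₁.left := isAffine_Spec _
  haveI : IsAffine Zc.left := isAffine_of_isAffineHom ιc.left
  obtain ⟨Q, wk, fk, sqk, hwk⟩ := exists_yon_of_repWith hk fst
  haveI : IsOpenImmersion wk.left := hwk
  obtain ⟨φk, rfl⟩ := (yon S).map_surjective fk
  have hptc : ∀ z, Points.map i₀ (Points.ofPt fst z) = Points.ofPt π (hW₁.fromSpec (ιc.left z)) := fun z => by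
    rw [Points.map_ofPt, sqc.w, ofPt_map, ofPt_map]
    rfl
  have hmemW₁ : ∀ w, hW₁.fromSpec w ∈ W₁ := fun w => by
    rw [← SetLike.mem_coe, ← hW₁.range_fromSpec]; exact ⟨w, rfl⟩
  haveI : Surjective wk.left := ⟨fun z => by
    obtain ⟨v, hv⟩ := hVT (Points.ofPt fst z) (by rw [hptc]; exact (hW₁V _ (hmemW₁ _)).1)
    obtain ⟨r, -, hr⟩ := (ofPt_eq_ofPt_iff sqk v z).1 hv
    exact ⟨r, hr⟩⟩
  haveI : IsIso wk.left := (isIso_iff_isOpenImmersion_and_epi_base _).2
    ⟨inferInstance, (TopCat.epi_iff_surjective _).2 wk.left.surjective⟩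
  haveI : IsIso wk := by
    haveI : IsIso ((Over.forget S).map wk) := ‹IsIso wk.left›
    exact isIso_of_reflects_iso _ (Over.forget S)
  let φ : Zc ⟶ T₂ := inv wk ≫ φk
  have hφ : (yon S).map φ ≫ k = fst := by
    rw [Functor.map_comp, Category.assoc, sqk.w, ← Category.assoc, ← Functor.map_comp, IsIso.inv_hom_id,
      (yon S).map_id, Category.id_comp]
  have hptφ : ∀ z, Points.map i₀ (Points.ofPt k (φ.left z)) = Points.ofPt π (hW₁.fromSpec (ιc.left z)) := fun z => by
    rw [← hptc, ← hφ, ofPt_map]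
  -- the lifted function
  obtain ⟨-, hρ⟩ := IsClosedImmersion.isAffine_surjective_of_isAffine ιc.left
  let ρ : R₁ ⟶ Γ(Zc.left, ⊤) := Spec.preimage (Zc.left.isoSpec.inv ≫ ιc.left)
  have hρm : Spec.map ρ = Zc.left.isoSpec.inv ≫ ιc.left := Spec.map_preimage _
  have hρs : Function.Surjective ρ := by
    haveI : IsClosedImmersion (Spec.map ρ) := by
      rw [hρm]
      infer_instance
    obtain ⟨-, h⟩ := IsClosedImmersion.isAffine_surjective_of_isAffine (Spec.map ρ)
    intro z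
    obtain ⟨y, hy⟩ := h ((Scheme.ΓSpecIso _).inv z)
    refine ⟨(Scheme.ΓSpecIso _).hom y, ?_⟩
    have e := congrArg (fun g : Γ(Spec R₁, ⊤) ⟶ Γ(Zc.left, ⊤) => g y) (Scheme.ΓSpecIso_naturality ρ)
    refine (e.symm.trans ?_)
    show (Scheme.ΓSpecIso _).hom ((Spec.map ρ).appTop y) = z
    rw [hy, ← CommRingCat.comp_apply, Iso.inv_hom_id]
    rfl
  let f' : Γ(Zc.left, ⊤) := φ.left.appTop f
  let Cs : Set (PrimeSpectrum R₁) := {p | Points.ofPt π (hW₁.fromSpec p) ∉ V₂}
  have hCs : IsClosed Cs := ((hV₂o.preimage (hcont.comp hW₁.fromSpec.continuous))).isClosed_compl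
  let IC : Ideal R₁ := PrimeSpectrum.vanishingIdeal Cs
  have hIC : PrimeSpectrum.zeroLocus (IC : Set R₁) = Cs := by
    rw [PrimeSpectrum.zeroLocus_vanishingIdeal_eq_closure, hCs.closure_eq]
  have hf' : ∀ p : PrimeSpectrum Γ(Zc.left, ⊤), f' ∉ p.asIdeal ↔
      Points.ofPt π (hW₁.fromSpec (Spec.map ρ p)) ∈ Df := fun p => by
    let z : ↥Zc.left := Zc.left.isoSpec.inv p
    have hz : Zc.left.isoSpec.hom z = p := by
      show (Zc.left.isoSpec.inv ≫ Zc.left.isoSpec.hom) p = p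
      rw [Iso.inv_hom_id]; rfl
    have e2 : Spec.map ρ p = ιc.left z := by rw [hρm]; rfl
    rw [e2, ← hptφ]
    conv_lhs => rw [← hz]
    rw [← GrpdLib.mem_basicOpen_iff, ← Scheme.preimage_basicOpen_top]
    refine ⟨fun h => ⟨φ.left z, h, rfl⟩, fun ⟨v, hv, hvz⟩ => ?_⟩
    show φ.left z ∈ T₂.left.basicOpen f
    have := injective_map_of_mono i₀ hvz
    rw [Points.ofPt_eq_map_ofScheme, Points.ofPt_eq_map_ofScheme] at this
    rw [← (Points.schemeEquiv T₂).injective (injective_map_of_mono k this)]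
    exact hv
  obtain ⟨N, hN⟩ : f' ∈ (IC.map ρ.hom).radical := by
    rw [Ideal.radical_eq_sInf, Ideal.mem_sInf]
    rintro J ⟨hJ, hJp⟩
    by_contra hfJ
    have h1 := hDfV ((hf' ⟨J, hJp⟩).1 hfJ)
    have h2 : Spec.map ρ ⟨J, hJp⟩ ∈ Cs := by
      rw [← hIC, PrimeSpectrum.mem_zeroLocus]
      exact fun r hr => hJ (Ideal.mem_map_of_mem _ hr)
    exact h2 h1
  obtain ⟨h, hhC, hhf⟩ := (Ideal.mem_map_iff_of_surjective ρ.hom hρs).1 (Ideal.mul_mem_right f' _ hN)
  have hh1 : ∀ y ∈ Y.left.basicOpen h, Points.ofPt π y ∈ V₂ := by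
    intro y hy
    obtain ⟨p, rfl⟩ : y ∈ Set.range hW₁.fromSpec := by
      rw [hW₁.range_fromSpec]; exact Y.left.basicOpen_le h hy
    by_contra hn
    have hp : p ∈ Cs := hn
    rw [← hIC, PrimeSpectrum.mem_zeroLocus] at hp
    have hy' : p ∈ hW₁.fromSpec ⁻¹ᵁ Y.left.basicOpen h := hy
    rw [hW₁.fromSpec_preimage_basicOpen] at hy'
    exact hy' (hp hhC)
  have hh2 : ∀ y ∈ W₁, Points.ofPt π y ∉ Set.range (Points.ofPt jT) →
      (y ∈ Y.left.basicOpen h ↔ Points.ofPt π y ∈ Df) := by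
    intro y hy hyU
    obtain ⟨p, rfl⟩ : y ∈ Set.range hW₁.fromSpec := by rw [hW₁.range_fromSpec]; exact hy
    obtain ⟨z₀, hz₀⟩ : Points.ofPt π (hW₁.fromSpec p) ∈ Set.range (Points.map i₀) := hZU.symm ▸ hyU
    obtain ⟨c, -, hc⟩ := exists_point_of_isPullback sqc (x := z₀) (y := Points.ofScheme O₁ p) (by
      rw [hz₀, ← Points.ofPt_eq_map_ofScheme, ofPt_map]
      rfl)
    obtain ⟨z, rfl⟩ := (Points.schemeEquiv Zc).surjective c
    have hzp : ιc.left z = p := (Points.schemeEquiv O₁).injective ((map_yon_map_ofScheme ιc z).symm.trans hc)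
    let p' : PrimeSpectrum Γ(Zc.left, ⊤) := Zc.left.isoSpec.hom z
    have hpp : Spec.map ρ p' = p := by
      rw [hρm, ← hzp]
      show (Zc.left.isoSpec.hom ≫ Zc.left.isoSpec.inv ≫ ιc.left) z = _
      rw [Iso.hom_inv_id_assoc]
    show p ∈ hW₁.fromSpec ⁻¹ᵁ Y.left.basicOpen h ↔ _
    rw [hW₁.fromSpec_preimage_basicOpen, ← hpp, ← hf']
    show ρ h ∉ p'.asIdeal ↔ f' ∉ p'.asIdeal
    rw [show ρ h = f' ^ N * f' from hhf]
    refine not_congr ⟨fun hm => ?_, fun hm => Ideal.mul_mem_left _ _ hm⟩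
    exact (p'.isPrime.mem_or_mem hm).elim (fun h => p'.isPrime.mem_of_pow_mem _ h) id
  let V₃ : Set (Points X.obj) := (Points.ofPt π '' (Y.left.basicOpen h : Set ↥Y.left)ᶜ)ᶜ
  have hV₃o : IsOpen V₃ := (hclosed _ (Y.left.basicOpen h).isOpen.isClosed_compl).isOpen_compl
  have hV₃D : ∀ y, Points.ofPt π y ∈ V₃ → y ∈ Y.left.basicOpen h := fun y hy => by
    by_contra hn
    exact hy ⟨y, hn, rfl⟩
  have hxU : x ∉ Set.range (Points.ofPt jT) := by
    intro hxr
    have : x ∈ Set.range (Points.map i₀) := ⟨_, hx₂⟩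
    rw [hZU] at this
    exact this hxr
  have hxV₃ : x ∈ V₃ := by
    rintro ⟨y, hy, hyx⟩
    refine hy ((hh2 y (hW₁x y hyx) (hyx ▸ hxU)).2 ?_)
    rw [hyx, ← hx₂]
    exact ⟨x₂, hf1 rfl, rfl⟩
  -- the generic algebra
  haveI : IsAffineHom s.left := by
    haveI : IsFinite s.left := hfin.property _ _ _ sqT
    infer_instance
  haveI : IsFinite s.left := hfin.property _ _ _ sqT
  haveI : IsAffine P.left := isAffine_of_isAffineHom s.left
  haveI : IsOpenImmersion t.left := hjT.property _ _ _ sqT.flip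
  haveI : Surjective s.left := ⟨fun v => by
    obtain ⟨y, hy⟩ := hsurj (Points.ofPt jT v)
    obtain ⟨r, -, hr⟩ := (ofPt_eq_ofPt_iff sqT y v).1 hy
    exact ⟨r, hr⟩⟩
  haveI : Nonempty ↥P.left := ⟨(s.left.surjective (genericPoint T.left)).choose⟩
  haveI : IsIntegral P.left := isIntegral_of_isOpenImmersion t.left
  let tB : Spec Γ(P.left, ⊤) ⟶ Y.left := P.left.isoSpec.inv ≫ t.left
  haveI : IsOpenImmersion tB := inferInstanceAs (IsOpenImmersion (_ ≫ _))
  letI : Algebra Γ(T.left, ⊤) Γ(P.left, ⊤) := s.left.appTop.hom.toAlgebra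
  haveI : Module.Finite Γ(T.left, ⊤) Γ(P.left, ⊤) := s.left.finite_appTop
  haveI : Module.Flat Γ(T.left, ⊤) Γ(P.left, ⊤) := HasRingHomProperty.appTop (P := @Flat) s.left inferInstance
  have hinjAB : Function.Injective (algebraMap Γ(T.left, ⊤) Γ(P.left, ⊤)) := by
    rw [injective_iff_map_eq_zero]
    intro c hc
    rw [← basicOpen_eq_bot_iff, eq_bot_iff]
    intro v hv
    obtain ⟨r, rfl⟩ := s.left.surjective v
    have hr : r ∈ s.left ⁻¹ᵁ T.left.basicOpen c := hv
    rw [Scheme.preimage_basicOpen_top, show s.left.appTop c = 0 from hc, Scheme.basicOpen_zero] at hr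
    exact hr
  let M := AlgebraicClosure (FractionRing Γ(P.left, ⊤))
  let ιA : Γ(T.left, ⊤) →+* M := (algebraMap (FractionRing Γ(P.left, ⊤)) M).comp
    ((algebraMap Γ(P.left, ⊤) (FractionRing Γ(P.left, ⊤))).comp (algebraMap Γ(T.left, ⊤) Γ(P.left, ⊤)))
  letI : Algebra Γ(T.left, ⊤) M := ιA.toAlgebra
  have hιA : Function.Injective ιA := (algebraMap (FractionRing Γ(P.left, ⊤)) M).injective.comp
    ((IsFractionRing.injective Γ(P.left, ⊤) (FractionRing Γ(P.left, ⊤))).comp hinjAB)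
  let ι : Γ(P.left, ⊤) →ₐ[Γ(T.left, ⊤)] M :=
    { (algebraMap (FractionRing Γ(P.left, ⊤)) M).comp (algebraMap Γ(P.left, ⊤) (FractionRing Γ(P.left, ⊤))) with
      commutes' := fun c => rfl }
  have hinj : ∀ σ : Γ(P.left, ⊤) →ₐ[Γ(T.left, ⊤)] M, Function.Injective σ := fun σ => by
    rw [injective_iff_map_eq_zero]
    have : RingHom.ker σ.toRingHom = ⊥ := by
      haveI : (RingHom.ker σ.toRingHom).IsPrime := RingHom.ker_isPrime _
      refine Ideal.eq_bot_of_comap_eq_bot (R := Γ(T.left, ⊤)) ?_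
      rw [eq_bot_iff]
      intro c hc
      have : σ (algebraMap _ _ c) = 0 := hc
      rw [σ.commutes] at this
      exact Ideal.mem_bot.2 (hιA (this.trans (map_zero _).symm))
    intro c hc
    exact Ideal.mem_bot.1 (this.le hc)
  haveI : Finite (Γ(P.left, ⊤) →ₐ[Γ(T.left, ⊤)] M) := finite_algHom _ _ _
  let OM : Over S := Over.mk (Spec.map (CommRingCat.ofHom ιA) ≫ T.left.isoSpec.inv ≫ T.hom)
  have hwσ : ∀ σ : Γ(P.left, ⊤) →ₐ[Γ(T.left, ⊤)] M,
      (Spec.map (CommRingCat.ofHom σ.toRingHom) ≫ P.left.isoSpec.inv) ≫ s.left =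
        Spec.map (CommRingCat.ofHom ιA) ≫ T.left.isoSpec.inv := fun σ => by
    rw [Category.assoc, ← Scheme.isoSpec_inv_naturality, ← Category.assoc, ← Spec.map_comp]
    congr 2
    ext c
    exact σ.commutes c
  let pσ : (Γ(P.left, ⊤) →ₐ[Γ(T.left, ⊤)] M) → (OM ⟶ P) := fun σ =>
    Over.homMk (Spec.map (CommRingCat.ofHom σ.toRingHom) ≫ P.left.isoSpec.inv) (by
      rw [← Over.w s, ← Category.assoc, hwσ]
      exact Category.assoc _ _ _)
  have hps : ∀ σ, pσ σ ≫ s = pσ ι ≫ s := fun σ => Over.OverMorphism.ext ((hwσ σ).trans (hwσ ι).symm)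
  let bσ : (Γ(P.left, ⊤) →ₐ[Γ(T.left, ⊤)] M) → (OM ⟶ Y) := fun σ => pσ σ ≫ t
  have hbσ : ∀ σ, (bσ σ).left = Spec.map (CommRingCat.ofHom σ.toRingHom) ≫ tB := fun σ => Category.assoc _ _ _
  have hπb : ∀ σ, (yon S).map (bσ σ) ≫ π = (yon S).map (bσ ι) ≫ π := fun σ => by
    simp only [bσ, Functor.map_comp, Category.assoc, sqT.w]
    rw [← Category.assoc, ← Functor.map_comp, hps, Functor.map_comp, Category.assoc]
  have hgen : ∀ σ, (bσ σ).left (IsLocalRing.closedPoint M) = genericPoint Y.left := fun σ => by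
    rw [hbσ, Scheme.Hom.comp_apply, ← genericPoint_eq_of_isOpenImmersion tB, genericPoint_eq_bot_of_affine]
    congr 1
    refine PrimeSpectrum.ext (eq_bot_iff.2 fun c hc => ?_)
    have hc' : σ c ∈ IsLocalRing.maximalIdeal M := hc
    rw [IsLocalRing.maximalIdeal_eq_bot, Ideal.mem_bot] at hc'
    exact Ideal.mem_bot.2 (hinj σ (hc'.trans (map_zero _).symm))
  haveI : Nonempty W₁ := ⟨⟨_, hW₁x _ (hsurj x).choose_spec⟩⟩
  choose γ hγ using fun σ => exists_ringHom_of_mem hW₁ (R := CommRingCat.of M) (bσ σ).left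
    ((hgen σ).symm ▸ ((genericPoint_spec Y.left).mem_open_set_iff W₁.isOpen).2
      (by simpa using (inferInstance : Nonempty W₁)))
  have hγinj := injective_of_generic hW₁ (γ ι) _ (hγ ι) (hgen ι)
  letI : Algebra R₁ M := (γ ι).hom.toAlgebra
  have hh0 : algebraMap R₁ M h ≠ 0 := fun h0 => by
    obtain ⟨y, hy⟩ := hsurj x
    have := hV₃D y (hy.symm ▸ hxV₃)
    rw [hγinj (h0.trans (map_zero _).symm : γ ι h = γ ι 0), Scheme.basicOpen_zero] at this
    exact this
  -- values at valuations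
  have centre : ∀ (V : ValuationSubring M) (hV : ∀ r, algebraMap R₁ M r ∈ V),
      ∃ (z : Points X.obj) (q₀ : Spec (CommRingCat.of V) ⟶ Y.left),
        Points.ofPt π (q₀ (IsLocalRing.closedPoint V)) = z ∧
        q₀ (IsLocalRing.closedPoint V) ∈ W₁ ∧
        (q₀ (IsLocalRing.closedPoint V) ∈ Y.left.basicOpen h ↔ algebraMap R₁ M h ∉ V.nonunits) ∧
        Spec.map (CommRingCat.ofHom V.subtype) ≫ q₀ = (bσ ι).left ∧
        ∀ σ, ∃ w, Points.ofPt π w = z ∧ (w ∈ W₁ →
          γ σ h ∈ V ∧ (w ∈ Y.left.basicOpen h ↔ γ σ h ∉ V.nonunits)) := by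
    intro V hV
    let ψ₀ : R₁ ⟶ CommRingCat.of V := CommRingCat.ofHom ((γ ι).hom.codRestrict V.toSubring hV)
    let q₀ : Spec (CommRingCat.of V) ⟶ Y.left := Spec.map ψ₀ ≫ hW₁.fromSpec
    have hq₀ : Spec.map (CommRingCat.ofHom V.subtype) ≫ q₀ = (bσ ι).left := by
      rw [← hγ ι, ← Category.assoc, ← Spec.map_comp]
      rfl
    have hmem : q₀ (IsLocalRing.closedPoint V) ∈ W₁ := hmemW₁ _
    let OV : Over S := Over.mk (q₀ ≫ Y.hom)
    let g₀ : OV ⟶ Y := Over.homMk q₀
    let e : OM ⟶ OV := Over.homMk (Spec.map (CommRingCat.ofHom V.subtype)) (by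
      show _ ≫ q₀ ≫ Y.hom = _
      rw [← Category.assoc, hq₀]
      exact Over.w (bσ ι))
    refine ⟨_, q₀, rfl, hmem, ?_, hq₀, fun σ => ?_⟩
    · rw [mem_basicOpen_iff_isUnit hW₁ ψ₀ rfl]
      exact ⟨fun hu hn => ((ValuationSubring.coe_mem_nonunits_iff).1 hn : _) hu,
        fun hn => not_not.1 fun hu => hn ((ValuationSubring.coe_mem_nonunits_iff (a := ψ₀ h)).2 hu)⟩
    · obtain ⟨q, hq, heq⟩ := exists_lift_val V π hfin ((yon S).map g₀ ≫ π) (bσ σ) e rfl (by
        refine (hπb σ).trans ?_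
        rw [← Category.assoc ((yon S).map e), ← Functor.map_comp]
        congr 2
        exact Over.OverMorphism.ext hq₀.symm)
      refine ⟨q.left (IsLocalRing.closedPoint V), ?_, fun hw => ?_⟩
      · rw [← ofPt_map, hq, ofPt_map]
        rfl
      · obtain ⟨ψ, hψ⟩ := exists_ringHom_of_mem hW₁ (R := CommRingCat.of V) q.left hw
        have hψγ : ψ ≫ CommRingCat.ofHom V.subtype = γ σ := by
          refine Spec.map_injective ((cancel_mono hW₁.fromSpec).1 ?_)
          rw [Spec.map_comp, Category.assoc, hψ, hγ σ, ← heq]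
          rfl
        have hval : γ σ h = ((ψ h : V) : M) := by rw [← hψγ]; rfl
        refine ⟨hval ▸ (ψ h).2, ?_⟩
        refine (mem_basicOpen_iff_isUnit (R := CommRingCat.of V) hW₁ ψ hψ h).trans ?_
        rw [hval]
        exact ⟨fun hu hn => ((ValuationSubring.coe_mem_nonunits_iff).1 hn : _) hu,
          fun hn => not_not.1 fun hu => hn ((ValuationSubring.coe_mem_nonunits_iff (a := ψ h)).2 hu)⟩
  have hexp : ∀ σ, ∃ e : ℕ, IsIntegral R₁ ((algebraMap R₁ M h) ^ e * γ σ h) := fun σ => by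
    refine exists_pow_mul_integral h hh0 _ fun V hV hinv => ?_
    obtain ⟨z, q₀, hz, hq₀W, hq₀h, -, hσ⟩ := centre V hV
    have hunit : algebraMap R₁ M h ∉ V.nonunits := fun hn => by
      have h1 := (V.valuation_le_one_iff _).2 hinv
      rw [map_inv₀] at h1
      exact not_lt.2 h1 (one_lt_inv_iff₀.2 ⟨zero_lt_iff.2 ((map_ne_zero _).2 hh0), (V.mem_nonunits_iff).1 hn⟩)
    obtain ⟨w, hw, hw'⟩ := hσ σ
    exact (hw' (hV₂W w (hw ▸ hz ▸ hh1 _ (hq₀h.2 hunit)))).1
  choose e he using hexp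
  haveI := Fintype.ofFinite (Γ(P.left, ⊤) →ₐ[Γ(T.left, ⊤)] M)
  let C := integralClosure R₁ M
  let hh : C := algebraMap R₁ C h * ∏ σ, ⟨_, he σ⟩
  have hhval : (hh : M) = algebraMap R₁ M h * ∏ σ, ((algebraMap R₁ M h) ^ e σ * γ σ h) := by
    simp [hh]
  -- the saturation
  have hsat : ∀ c : PrimeSpectrum C, hh ∉ c.asIdeal ↔
      Points.ofPt π (hW₁.fromSpec (Spec.map (CommRingCat.ofHom (algebraMap R₁ C)) c)) ∈ V₃ := by
    intro c
    obtain ⟨V, hCV, hloc⟩ := IsLocalRing.exists_factor_valuationRing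
      (IsLocalization.lift (M := c.asIdeal.primeCompl) (S := Localization.AtPrime c.asIdeal)
        (g := (C.val : C →ₐ[R₁] M).toRingHom) fun y => IsUnit.mk0 _ fun hy => y.2 (by
          have : (y.1 : M) = 0 := hy
          have h' : y.1 = 0 := Subtype.ext this
          rw [h']
          exact zero_mem _))
    have hCmem : ∀ y : C, (y : M) ∈ V := fun y => by
      have := hCV (algebraMap C _ y)
      rwa [IsLocalization.lift_eq] at this
    have hmax : ∀ y : C, (y : M) ∈ V.nonunits ↔ y ∈ c.asIdeal := fun y => by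
      rw [show (y : M) = ((⟨_, hCV (algebraMap C _ y)⟩ : V) : M) from by simp only [IsLocalization.lift_eq]; rfl,
        ValuationSubring.coe_mem_nonunits_iff]
      rw [← IsLocalization.AtPrime.to_map_mem_maximal_iff (Localization.AtPrime c.asIdeal) c.asIdeal y]
      have := hloc
      refine ⟨fun hn hu => hn ?_, fun hn hu => hn ?_⟩
      · exact hu.map ((IsLocalization.lift _).codRestrict V.toSubring hCV)
      · exact this.map_nonunit _ hu
    have hR : ∀ r, algebraMap R₁ M r ∈ V := fun r => hCmem (algebraMap R₁ C r)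
    obtain ⟨z, q₀, hz, hq₀W, hq₀h, hq₀ι, hσ⟩ := centre V hR
    have hzc : z = Points.ofPt π (hW₁.fromSpec (Spec.map (CommRingCat.ofHom (algebraMap R₁ C)) c)) := by
      rw [← hz]
      congr 1
      obtain ⟨ψ, hψ⟩ := exists_ringHom_of_mem hW₁ (R := CommRingCat.of V) q₀ hq₀W
      have hψγ : ψ ≫ CommRingCat.ofHom V.subtype = γ ι := by
        refine Spec.map_injective ((cancel_mono hW₁.fromSpec).1 ?_)
        rw [Spec.map_comp, Category.assoc, hψ, hγ ι, hq₀ι]
      rw [← hψ, Scheme.Hom.comp_apply]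
      congr 1
      refine PrimeSpectrum.ext (Ideal.ext fun r => ?_)
      show ψ r ∈ IsLocalRing.maximalIdeal V ↔ algebraMap R₁ C r ∈ c.asIdeal
      rw [← hmax, ← ValuationSubring.coe_mem_nonunits_iff,
        show ((ψ r : V) : M) = γ ι r from congrArg (fun k : R₁ ⟶ CommRingCat.of M => k r) hψγ]
      rfl
    rw [← hzc, ← hmax]
    have hfac : ∀ σ, (algebraMap R₁ M h) ^ e σ * γ σ h ∈ V := fun σ => hCmem ⟨_, he σ⟩
    let vh : V := ⟨_, hR h⟩
    let vf : (Γ(P.left, ⊤) →ₐ[Γ(T.left, ⊤)] M) → V := fun σ => ⟨_, hfac σ⟩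
    have hvprod : (hh : M) = ((vh * ∏ σ, vf σ : V) : M) := by
      rw [hhval]
      simp [vh, vf]
    rw [hvprod, ValuationSubring.coe_mem_nonunits_iff, IsLocalRing.mem_maximalIdeal, mem_nonunits_iff, not_not,
      IsUnit.mul_iff, IsUnit.prod_univ_iff]
    constructor
    · rintro ⟨hu, huσ⟩ ⟨w', hw', hw'z⟩
      have hunit : algebraMap R₁ M h ∉ V.nonunits := fun hn =>
        ((ValuationSubring.coe_mem_nonunits_iff (a := vh)).1 hn) hu
      have hzV₂ : z ∈ V₂ := hz ▸ hh1 _ (hq₀h.2 hunit)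
      have hw'W : w' ∈ W₁ := hV₂W _ (hw'z.symm ▸ hzV₂)
      by_cases hzU : z ∈ Set.range (Points.ofPt jT)
      · -- over the flat locus every point of the fibre is a centre of a conjugate
        obtain ⟨v, hv⟩ := hzU
        obtain ⟨r', hr', hr's⟩ := (ofPt_eq_ofPt_iff sqT w' v).1 (hw'z.trans hv.symm)
        obtain ⟨r₀, hr₀, hr₀s⟩ := (ofPt_eq_ofPt_iff sqT (q₀ (IsLocalRing.closedPoint V)) v).1 (hz.trans hv.symm)
        have hr₀' : q₀ (IsLocalRing.closedPoint V) ∈ tB.opensRange :=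
          ⟨P.left.isoSpec.hom r₀, by
            show (P.left.isoSpec.hom ≫ P.left.isoSpec.inv ≫ t.left) r₀ = _
            rw [Iso.hom_inv_id_assoc]; exact hr₀⟩
        have hrange : Set.range q₀ ⊆ Set.range tB := by
          rintro _ ⟨p, rfl⟩
          exact ((IsLocalRing.specializes_closedPoint p).map q₀.continuous).mem_open tB.opensRange.isOpen hr₀'
        let ψB : Γ(P.left, ⊤) ⟶ CommRingCat.of V := Spec.preimage (IsOpenImmersion.lift tB q₀ hrange)
        have hψB : Spec.map ψB ≫ tB = q₀ := by rw [Spec.map_preimage, IsOpenImmersion.lift_fac]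
        have hψι : ψB ≫ CommRingCat.ofHom V.subtype = CommRingCat.ofHom ι.toRingHom := by
          refine Spec.map_injective ((cancel_mono tB).1 ?_)
          rw [Spec.map_comp, Category.assoc, hψB, hq₀ι, hbσ]
        have hιval : ∀ b, ι b = ((ψB b : V) : M) := fun b =>
          congrArg (fun k : Γ(P.left, ⊤) ⟶ CommRingCat.of M => k b) hψι.symm
        let Pw : PrimeSpectrum Γ(P.left, ⊤) := P.left.isoSpec.hom r'
        let Q₀ : PrimeSpectrum Γ(P.left, ⊤) := Spec.map ψB (IsLocalRing.closedPoint V)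
        have hQ₀ : Q₀ = P.left.isoSpec.hom r₀ := by
          refine tB.isOpenEmbedding.injective ?_
          show tB (Spec.map ψB _) = (P.left.isoSpec.hom ≫ P.left.isoSpec.inv ≫ t.left) r₀
          rw [← Scheme.Hom.comp_apply, hψB, Iso.hom_inv_id_assoc]
          exact hr₀.symm
        have hAc : ∀ r (c : Γ(T.left, ⊤)), algebraMap Γ(T.left, ⊤) Γ(P.left, ⊤) c ∈
            (P.left.isoSpec.hom r : PrimeSpectrum Γ(P.left, ⊤)).asIdeal ↔
              s.left r ∉ T.left.basicOpen c := fun r c => by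
          rw [show (s.left r ∈ T.left.basicOpen c) ↔ r ∈ s.left ⁻¹ᵁ T.left.basicOpen c from Iff.rfl,
            Scheme.preimage_basicOpen_top, GrpdLib.mem_basicOpen_iff, not_not]
          rfl
        obtain ⟨φ, hφV, hφP⟩ := exists_conjugate (A := Γ(T.left, ⊤)) (B := Γ(P.left, ⊤)) V
          (fun c => by
            rw [← ι.commutes c, hιval]
            exact Subtype.prop _)
          Pw.asIdeal fun c => by
            rw [hAc, hr's, ← hr₀s, ← hAc, ← hQ₀, ← ι.commutes c, hιval, ValuationSubring.coe_mem_nonunits_iff]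
            rfl
        let ψ₁ : Γ(P.left, ⊤) ⟶ CommRingCat.of V :=
          CommRingCat.ofHom (φ.toRingHom.codRestrict V.toSubring hφV)
        let q' : Spec (CommRingCat.of V) ⟶ Y.left := Spec.map ψ₁ ≫ tB
        have hq'w : q' (IsLocalRing.closedPoint V) = w' := by
          have hPw : Spec.map ψ₁ (IsLocalRing.closedPoint V) = Pw := PrimeSpectrum.ext (Ideal.ext fun b => by
            show ψ₁ b ∈ IsLocalRing.maximalIdeal V ↔ _
            rw [hφP b, ← ValuationSubring.coe_mem_nonunits_iff]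
            rfl)
          show tB (Spec.map ψ₁ _) = w'
          rw [hPw]
          show (P.left.isoSpec.hom ≫ P.left.isoSpec.inv ≫ t.left) r' = w'
          rw [Iso.hom_inv_id_assoc]
          exact hr'
        obtain ⟨ψ, hψ⟩ := exists_ringHom_of_mem hW₁ (R := CommRingCat.of V) q' (hq'w.symm ▸ hw'W)
        have hψγ : ψ ≫ CommRingCat.ofHom V.subtype = γ φ := by
          refine Spec.map_injective ((cancel_mono hW₁.fromSpec).1 ?_)
          rw [Spec.map_comp, Category.assoc, hψ, hγ φ, hbσ, ← Category.assoc, ← Spec.map_comp]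
          rfl
        have hnu : ¬ IsUnit (ψ h) := fun hu' => hw' (hq'w ▸ (mem_basicOpen_iff_isUnit hW₁ ψ hψ h).2 hu')
        have hval : γ φ h = ((ψ h : V) : M) := by rw [← hψγ]; rfl
        refine hnu ?_
        have hvf : vf φ = vh ^ e φ * ψ h := Subtype.ext (by simp [vf, vh, hval])
        exact (IsUnit.mul_iff.1 (hvf ▸ huσ φ)).2
      · -- outside it the function comes from the closed subspace
        have h1 : z ∈ Df := by
          have := (hh2 _ hq₀W (hz.symm ▸ hzU)).1 (hq₀h.2 hunit)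
          rwa [hz] at this
        exact hw' ((hh2 w' hw'W (hw'z.symm ▸ hzU)).2 (hw'z.symm ▸ h1))
    · intro hzV₃
      have hu : IsUnit vh := not_not.1 fun hn =>
        hq₀h.1 (hV₃D _ (hz.symm ▸ hzV₃)) ((ValuationSubring.coe_mem_nonunits_iff (a := vh)).2 hn)
      refine ⟨hu, fun σ => ?_⟩
      obtain ⟨w, hw, hw'⟩ := hσ σ
      have hwD := hV₃D w (hw.symm ▸ hzV₃)
      obtain ⟨hmemV, hiff⟩ := hw' (hV₂W w (hw.symm ▸ hz ▸ hh1 _ (hV₃D _ (hz.symm ▸ hzV₃))))
      have hu2 : IsUnit (⟨_, hmemV⟩ : V) := not_not.1 fun hn =>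
        hiff.1 hwD ((ValuationSubring.coe_mem_nonunits_iff (a := ⟨_, hmemV⟩)).2 hn)
      have hvf : vf σ = vh ^ e σ * ⟨_, hmemV⟩ := Subtype.ext (by simp [vf, vh])
      rw [hvf]
      exact (hu.pow _).mul hu2
  -- the affine open
  let pC : Spec (CommRingCat.of C) ⟶ Spec R₁ := Spec.map (CommRingCat.ofHom (algebraMap R₁ C))
  haveI : IsIntegralHom pC := IsIntegralHom.SpecMap_iff.2 (algebraMap_isIntegral_iff.2 inferInstance)
  haveI : FaithfulSMul R₁ C := (faithfulSMul_iff_algebraMap_injective _ _).2 fun r r' hrr =>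
    hγinj (congrArg Subtype.val hrr)
  haveI : Surjective pC := ⟨(RingHom.IsIntegral.comap_surjective (algebraMap_isIntegral_iff.2 inferInstance)
    (FaithfulSMul.algebraMap_injective R₁ C) :)⟩
  let O₃ : (Spec R₁).Opens := ⟨{p | Points.ofPt π (hW₁.fromSpec p) ∈ V₃},
    hV₃o.preimage (hcont.comp hW₁.fromSpec.continuous)⟩
  have hpre : pC ⁻¹ᵁ O₃ = PrimeSpectrum.basicOpen hh := TopologicalSpace.Opens.ext (Set.ext fun c => (hsat c).symm)
  have hEaff : IsAffineOpen (pC ⁻¹ᵁ O₃) := by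
    rw [hpre]
    exact IsAffineOpen.Spec_basicOpen (R := CommRingCat.of C) hh
  let E : Over S := Over.mk ((pC ∣_ O₃) ≫ O₃.ι ≫ hW₁.fromSpec ≫ Y.hom)
  haveI : IsAffine E.left := hEaff
  let Y₃ : Over S := Over.mk (O₃.ι ≫ hW₁.fromSpec ≫ Y.hom)
  let k₃ : E ⟶ Y₃ := Over.homMk (pC ∣_ O₃)
  let m₃ : Y₃ ⟶ Y := Over.homMk (O₃.ι ≫ hW₁.fromSpec) (Category.assoc _ _ _)
  haveI : IsOpenImmersion m₃.left := inferInstanceAs (IsOpenImmersion (O₃.ι ≫ hW₁.fromSpec))
  haveI : Mono m₃ := (Over.forget S).mono_of_mono_map (inferInstanceAs (Mono m₃.left))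
  let Xo : AlgSp.Space S := ⟨openSubspace X.obj V₃, isAlgSpace_openSubspace X.property hV₃o⟩
  let ι₃ := openSubspaceι X.obj V₃
  haveI : Mono ι₃ := inferInstanceAs (Mono (openSubspaceι X.obj V₃))
  obtain ⟨l₃, hl₃⟩ := (exists_lift_openSubspace_iff V₃ ((yon S).map m₃ ≫ π)).2 fun p => by
    rw [ofPt_map]
    exact p.2
  have sq₃ : IsPullback l₃ ((yon S).map m₃) ι₃ π := by
    refine isPullback_of_yon hl₃ fun K a b hab => ?_
    obtain ⟨v, rfl⟩ := (yon S).map_surjective b
    have hv : Set.range v.left ⊆ Set.range m₃.left := by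
      rintro _ ⟨p, rfl⟩
      have h1 := (exists_lift_openSubspace_iff V₃ _).1 ⟨a, hab⟩ p
      rw [ofPt_map] at h1
      obtain ⟨p₁, hp₁⟩ : v.left p ∈ Set.range hW₁.fromSpec := by
        rw [hW₁.range_fromSpec]
        exact Y.left.basicOpen_le h (hV₃D _ h1)
      exact ⟨⟨p₁, show Points.ofPt π (hW₁.fromSpec p₁) ∈ V₃ by rw [hp₁]; exact h1⟩, hp₁⟩
    let m : K ⟶ Y₃ := Over.homMk (IsOpenImmersion.lift m₃.left v.left hv) (by
      rw [← Over.w m₃, IsOpenImmersion.lift_fac_assoc]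
      exact Over.w v)
    have hm : m ≫ m₃ = v := Over.OverMorphism.ext (IsOpenImmersion.lift_fac _ _ _)
    refine ⟨(yon S).map m, ⟨(cancel_mono ι₃).1 ?_, ?_⟩, ?_⟩
    · rw [Category.assoc, hl₃, ← Functor.map_comp_assoc, hm, hab]
    · rw [← Functor.map_comp, hm]
    · rintro w' ⟨-, hw'⟩
      rw [← cancel_mono ((yon S).map m₃), hw', ← Functor.map_comp, hm]
  haveI : Surjective (pC ∣_ O₃) := IsZariskiLocalAtTarget.restrict ‹Surjective pC› O₃
  haveI : IsIntegralHom (pC ∣_ O₃) := inferInstance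
  let qE : (yon S).obj E ⟶ Xo.obj := (yon S).map k₃ ≫ l₃
  have hqint : RepWith @IsIntegralHom qE := RepWith.comp
    ((repWith_yon_map_iff (P := @IsIntegralHom) k₃).2 (inferInstanceAs (IsIntegralHom (pC ∣_ O₃))))
    (RepWith.mono (fun _ _ g (_ : IsFinite g) => (inferInstance : IsIntegralHom g)) (RepWith.baseChange sq₃.flip hfin))
  have hqs : IsSurjectiveMor qE := fun z => by
    have hz : Points.map ι₃ z ∈ V₃ := (range_openSubspaceι X.obj V₃).subset ⟨z, rfl⟩
    obtain ⟨y, hy⟩ := hsurj (Points.map ι₃ z)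
    obtain ⟨p₁, hp₁⟩ : y ∈ Set.range hW₁.fromSpec := by
      rw [hW₁.range_fromSpec]
      exact Y.left.basicOpen_le h (hV₃D _ (hy.symm ▸ hz))
    obtain ⟨c, hc⟩ := (pC ∣_ O₃).surjective ⟨p₁, show Points.ofPt π (hW₁.fromSpec p₁) ∈ V₃ by rw [hp₁, hy]; exact hz⟩
    refine ⟨Points.ofScheme E c, injective_map_of_mono ι₃ ?_⟩
    rw [← Points.map_comp, ← Points.ofPt_eq_map_ofScheme, Category.assoc, hl₃, ofPt_map, ofPt_map, ← hy, ← hp₁]
    congr 1
    show hW₁.fromSpec (O₃.ι ((pC ∣_ O₃) c)) = _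
    rw [hc]
    rfl
  obtain ⟨T', hT', ⟨i'⟩⟩ := ChevGen.exists_affine_of_univClosed (X := Xo) qE hqs
    (ChevGen.isUnivClosedMor_of_integral ((isIntegralMor_iff_repWith qE).2 hqint))
  have hi' : RepWith @IsOpenImmersion i'.hom := MorphismProperty.of_isIso (RepWith (S := S) @IsOpenImmersion) _
  refine ⟨T', i'.hom ≫ ι₃, hT', RepWith.comp hi' (repWith_openSubspaceι X.obj hV₃o), ?_⟩
  obtain ⟨z, hz⟩ := (range_openSubspaceι X.obj V₃).symm.subset hxV₃
  refine ⟨Points.map i'.inv z, ?_⟩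
  rw [← Points.map_comp, i'.inv_hom_id_assoc]
  exact hz

end Groth.Agent.AlgSpLib.NormNhd
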