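import Groth.Agent.AlgSpLib.NormDescent

/-!
Relative normalisations of quasi-compact quasi-separated morphisms of algebraic spaces are locally universal.
-/

universe u

open CategoryTheory CategoryTheory.Limits AlgebraicGeometry Opposite
open AlgSp

noncomputable section

namespace Groth.Agent.AlgSpLib

set_option backward.isDefEq.respectTransparency.types false
set_option backward.isDefEq.respectTransparency false

variable {S : Scheme.{u}}

theorem LocNorm.of_iso {G N N₂ Y : Sp S} {f : Y ⟶ G} {ν : N ⟶ G} {f' : Y ⟶ N} (H : LocNorm f ν f')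
    (e : N₂ ≅ N) : LocNorm f (e.hom ≫ ν) (f' ≫ e.inv) := by
  refine ⟨by simp [H.fac], RepWith.comp (repWith_of_isIso _ _) H.int, fun T hT a ha N' Y' nF nS sqN yF yS sqY k hk1 hk2 => ?_⟩
  exact H.univ hT a ha (nF ≫ e.hom) nS
    (sqN.of_iso (Iso.refl _) e (Iso.refl _) (Iso.refl _) (by simp) (by simp) (by simp) (by simp))
    yF yS sqY k (by rw [reassoc_of% hk1]; simp) hk2

theorem locNorm_of_isRelNormalization {Y X X' : Space S} (f : Y ⟶ X) (hqc : IsQuasiCompactMor f.hom)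
    (hqs : IsQuasiSeparatedMor f.hom) {ν : X' ⟶ X} {f' : Y ⟶ X'} (hn : IsRelNormalization f.hom ν.hom f'.hom) :
    LocNorm f.hom ν.hom f'.hom := by
  obtain ⟨X₂, ν₂, f₂, H⟩ := exists_locNorm f hqc hqs
  have hn₂ := H.isRelNormalization X.property
  obtain ⟨h, ⟨h1, h2⟩, hu⟩ := hn.2.2 X₂.property ν₂.hom f₂.hom hn₂.2.1 hn₂.1
  obtain ⟨g, ⟨g1, g2⟩, gu⟩ := hn₂.2.2 X'.property ν.hom f'.hom hn.2.1 hn.1
  have e1 : h ≫ g = 𝟙 _ := (hn.2.2 X'.property ν.hom f'.hom hn.2.1 hn.1).unique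
    ⟨by rw [reassoc_of% h1, g1], by rw [Category.assoc, g2, h2]⟩ ⟨Category.comp_id _, Category.id_comp _⟩
  have e2 : g ≫ h = 𝟙 _ := (hn₂.2.2 X₂.property ν₂.hom f₂.hom hn₂.2.1 hn₂.1).unique
    ⟨by rw [reassoc_of% g1, h1], by rw [Category.assoc, h2, g2]⟩ ⟨Category.comp_id _, Category.id_comp _⟩
  have := H.of_iso ⟨h, g, e1, e2⟩
  rwa [show h ≫ ν₂.hom = ν.hom from h2, show f₂.hom ≫ g = f'.hom from g1] at this

end Groth.Agent.AlgSpLib

namespace Groth.Agent.AlgSpLib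

set_option backward.isDefEq.respectTransparency.types false
set_option backward.isDefEq.respectTransparency false

variable {S : Scheme.{u}}

/-- relative normalisation commutes with smooth base change -/
theorem isRelNormalization_baseChange_smooth {X₁ X₂ Y₁ Y₂ X₁' P : Space S}
    (f₁ : Y₁ ⟶ X₁) (φ : X₂ ⟶ X₁) (f₂ : Y₂ ⟶ X₂) (ψ : Y₂ ⟶ Y₁) (hsq : IsPullback ψ.hom f₂.hom f₁.hom φ.hom)
    (hqc : IsQuasiCompactMor f₁.hom) (hqs : IsQuasiSeparatedMor f₁.hom) (hφ : LocP @Smooth φ.hom)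
    {ν₁ : X₁' ⟶ X₁} {f₁' : Y₁ ⟶ X₁'} (hn : IsRelNormalization f₁.hom ν₁.hom f₁'.hom)
    {ν₂ : P ⟶ X₂} {ρ : P ⟶ X₁'} (hP : IsPullback ρ.hom ν₂.hom ν₁.hom φ.hom)
    {f₂' : Y₂ ⟶ P} (w₁ : f₂' ≫ ν₂ = f₂) (w₂ : f₂' ≫ ρ = ψ ≫ f₁') :
    LocNorm f₂.hom ν₂.hom f₂'.hom ∧ IsRelNormalization f₂.hom ν₂.hom f₂'.hom := by
  have H := (locNorm_of_isRelNormalization f₁ hqc hqs hn).baseChange φ.hom (fun T a ha => by
    refine (repWith_iff_locP etLocal_smooth (IsAlgSpace.yon_obj T) X₁.property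
      (X₁.property.representable_from_yon _)).2 ?_
    exact locP_comp etLocal_smooth (IsAlgSpace.yon_obj T) X₂.property X₁.property
      (locP_of_repWith etLocal_smooth (IsAlgSpace.yon_obj T) ha) hφ)
    hP hsq (congrArg (fun m => m.hom) w₂) (congrArg (fun m => m.hom) w₁)
  exact ⟨H, H.isRelNormalization X₂.property⟩

end Groth.Agent.AlgSpLib
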