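import Groth.Agent.AlgSpLib.FpqcBaseAffine2
import Groth.Agent.AlgSpLib.SpacePush
import Groth.Agent.AlgSpLib.RepLocal
import Groth.Agent.AlgSpLib.ClosedSub
import Mathlib.CategoryTheory.Sites.RegularEpi
import Mathlib.AlgebraicGeometry.Morphisms.Smooth

/-!
Relative normalisations which stay universal after smooth base change: definition, gluing, comparison
with `IsRelNormalization`.
-/

universe u

open CategoryTheory CategoryTheory.Limits AlgebraicGeometry Opposite
open AlgSp

noncomputable section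

namespace Groth.Agent.AlgSpLib

set_option backward.isDefEq.respectTransparency.types false
set_option backward.isDefEq.respectTransparency false

variable {S : Scheme.{u}} {G N Y : Sp S}

/-- universality of `(ν, f')` over a point `a` -/
def UnivAt (f : Y ⟶ G) (ν : N ⟶ G) (f' : Y ⟶ N) {T : Over S} (a : (yon S).obj T ⟶ G) : Prop :=
  ∀ ⦃N' Y' : Sp S⦄ (nF : N' ⟶ N) (nS : N' ⟶ (yon S).obj T), IsPullback nF nS ν a →
    ∀ (yF : Y' ⟶ Y) (yS : Y' ⟶ (yon S).obj T), IsPullback yF yS f a →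
    ∀ (k : Y' ⟶ N'), k ≫ nF = yF ≫ f' → k ≫ nS = yS →
    ∀ ⦃W : Over S⦄ (w : W ⟶ T), IsIntegralHom w.left → ∀ (g : Y' ⟶ (yon S).obj W),
      g ≫ (yon S).map w = yS → ∃! h : N' ⟶ (yon S).obj W, k ≫ h = g ∧ h ≫ (yon S).map w = nS

/-- a relative normalisation which stays universal after smooth base change -/
structure LocNorm (f : Y ⟶ G) (ν : N ⟶ G) (f' : Y ⟶ N) : Prop where
  fac : f' ≫ ν = f
  int : RepWith @IsIntegralHom ν
  univ : ∀ ⦃T : Over S⦄, IsAffine T.left → ∀ (a : (yon S).obj T ⟶ G), RepWith @Smooth a →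
    UnivAt f ν f' a

variable {f : Y ⟶ G} {ν : N ⟶ G} {f' : Y ⟶ N}

theorem UnivAt.general {T : Over S} {a : (yon S).obj T ⟶ G} (H : UnivAt f ν f' a)
    {Z B : Sp S} {π : Z ⟶ B} (hπ : RepWith @IsIntegralHom π) (b : (yon S).obj T ⟶ B)
    {N' Y' : Sp S} {nF : N' ⟶ N} {nS : N' ⟶ (yon S).obj T} (sqN : IsPullback nF nS ν a)
    {yF : Y' ⟶ Y} {yS : Y' ⟶ (yon S).obj T} (sqY : IsPullback yF yS f a)
    {k : Y' ⟶ N'} (hk1 : k ≫ nF = yF ≫ f') (hk2 : k ≫ nS = yS)
    (g : Y' ⟶ Z) (hg : g ≫ π = yS ≫ b) :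
    ∃! h : N' ⟶ Z, k ≫ h = g ∧ h ≫ π = nS ≫ b := by
  obtain ⟨W, w, p, sqW, hw⟩ := exists_yon_of_repWith hπ b
  obtain ⟨h, ⟨h1, h2⟩, hu⟩ := H nF nS sqN yF yS sqY k hk1 hk2 w hw (sqW.lift g yS hg) (sqW.lift_snd _ _ _)
  refine ⟨h ≫ p, ⟨?_, ?_⟩, fun m hm => ?_⟩
  · rw [← Category.assoc, h1, sqW.lift_fst]
  · rw [Category.assoc, sqW.w, ← Category.assoc, h2]
  · have : sqW.lift m nS hm.2 = h := hu _ ⟨sqW.hom_ext
      (by rw [Category.assoc, sqW.lift_fst, sqW.lift_fst, hm.1])
      (by rw [Category.assoc, sqW.lift_snd, sqW.lift_snd, hk2]), sqW.lift_snd _ _ _⟩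
    rw [← this, sqW.lift_fst]

/-- restriction of the data along `c` -/
theorem exists_restrict {T T₀ : Over S} {a : (yon S).obj T ⟶ G} (c : T₀ ⟶ T)
    {N' Y' : Sp S} {nF : N' ⟶ N} {nS : N' ⟶ (yon S).obj T} (sqN : IsPullback nF nS ν a)
    {yF : Y' ⟶ Y} {yS : Y' ⟶ (yon S).obj T} (sqY : IsPullback yF yS f a)
    {k : Y' ⟶ N'} (hk1 : k ≫ nF = yF ≫ f') (hk2 : k ≫ nS = yS) :
    ∃ k₀ : pullback yS ((yon S).map c) ⟶ pullback nS ((yon S).map c),
      IsPullback (pullback.fst nS ((yon S).map c) ≫ nF) (pullback.snd _ _) ν ((yon S).map c ≫ a) ∧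
      IsPullback (pullback.fst yS ((yon S).map c) ≫ yF) (pullback.snd _ _) f ((yon S).map c ≫ a) ∧
      k₀ ≫ pullback.fst nS _ ≫ nF = (pullback.fst yS _ ≫ yF) ≫ f' ∧ k₀ ≫ pullback.snd _ _ = pullback.snd _ _ ∧
      k₀ ≫ pullback.fst nS _ = pullback.fst yS _ ≫ k := by
  refine ⟨pullback.lift (pullback.fst _ _ ≫ k) (pullback.snd _ _)
      (by rw [Category.assoc, hk2, pullback.condition]),
    (IsPullback.of_hasPullback nS ((yon S).map c)).paste_horiz sqN,
    (IsPullback.of_hasPullback yS ((yon S).map c)).paste_horiz sqY, ?_, pullback.lift_snd _ _ _,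
    pullback.lift_fst _ _ _⟩
  rw [pullback.lift_fst_assoc, Category.assoc, Category.assoc, hk1]

namespace LocNorm

theorem baseChange (H : LocNorm f ν f') {G' N' Y' : Sp S} (b : G' ⟶ G)
    (hb : ∀ ⦃T : Over S⦄ (a : (yon S).obj T ⟶ G'), RepWith @Smooth a → RepWith @Smooth (a ≫ b))
    {nF : N' ⟶ N} {ν' : N' ⟶ G'} (sqN : IsPullback nF ν' ν b)
    {yF : Y' ⟶ Y} {f₁ : Y' ⟶ G'} (sqY : IsPullback yF f₁ f b) {k : Y' ⟶ N'}
    (hk1 : k ≫ nF = yF ≫ f') (hk2 : k ≫ ν' = f₁) : LocNorm f₁ ν' k := by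
  refine ⟨hk2, RepWith.baseChange sqN H.int, fun T hT a ha N'' Y'' nF' nS' sqN' yF' yS' sqY' m hm1 hm2 => ?_⟩
  exact H.univ hT (a ≫ b) (hb a ha) (nF' ≫ nF) nS' (sqN'.paste_horiz sqN) (yF' ≫ yF) yS'
    (sqY'.paste_horiz sqY) m (by rw [← Category.assoc, hm1, Category.assoc, hk1, Category.assoc]) hm2

/-- universality is local on the test scheme -/
theorem univAt_of_opens {T : Over S} (a : (yon S).obj T ⟶ G) (good : T.left.affineOpens → Prop)
    (hcov : ∀ t : T.left, ∃ O, good O ∧ t ∈ O.1) (hdown : ∀ O P, good O → P.1 ≤ O.1 → good P)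
    (hgood : ∀ O, good O → UnivAt f ν f' ((yon S).map (restrictOverι T O.1) ≫ a)) : UnivAt f ν f' a := by
  intro N' Y' nF nS sqN yF yS sqY k hk1 hk2 W w hw g hg
  let c : ∀ O : {O : T.left.affineOpens // good O}, restrictOver T O.1.1 ⟶ T := fun O => restrictOverι T O.1.1
  have hc' : ∀ O, IsOpenImmersion (c O).left := fun O => inferInstanceAs (IsOpenImmersion O.1.1.ι)
  have hw' : RepWith @IsIntegralHom ((yon S).map w) := (repWith_yon_map_iff _ w).2 hw
  have step : ∀ O : {O : T.left.affineOpens // good O}, ∃! h : pullback nS ((yon S).map (c O)) ⟶ (yon S).obj W,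
      h ≫ (yon S).map w = pullback.snd _ _ ≫ (yon S).map (c O) ∧
      ∀ k₀ : pullback yS ((yon S).map (c O)) ⟶ pullback nS ((yon S).map (c O)),
        k₀ ≫ pullback.fst nS _ = pullback.fst yS _ ≫ k → k₀ ≫ pullback.snd _ _ = pullback.snd _ _ →
        k₀ ≫ h = pullback.fst yS _ ≫ g := by
    intro O
    obtain ⟨k₀, s1, s2, e1, e2, e3⟩ := exists_restrict (c O) sqN sqY hk1 hk2
    obtain ⟨h, ⟨h1, h2⟩, hu⟩ := (hgood O.1 O.2).general hw' ((yon S).map (c O)) s1 s2 e1 e2
      (pullback.fst yS _ ≫ g) (by rw [Category.assoc, hg, pullback.condition])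
    refine ⟨h, ⟨h2, fun k₁ q1 q2 => ?_⟩, fun m hm => hu m ⟨hm.2 k₀ e3 e2, hm.1⟩⟩
    rw [show k₁ = k₀ from pullback.hom_ext (q1.trans e3.symm) (q2.trans e2.symm), h1]
  choose h hh hu using step
  -- the values agree on overlaps
  have hres : ∀ (O P : {O : T.left.affineOpens // good O}) (i : restrictOver T P.1 ⟶ restrictOver T O.1.1) (hi : i ≫ c O = c P),
      pullback.lift (pullback.fst nS _) (pullback.snd nS ((yon S).map (c P)) ≫ (yon S).map i)
        (by rw [pullback.condition, Category.assoc, ← Functor.map_comp]; rw [hi]) ≫ h O = h P := by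
    intro O P i hi
    refine hu P _ ⟨?_, fun k₀ q1 q2 => ?_⟩
    · rw [Category.assoc, (hh O).1, pullback.lift_snd_assoc, Category.assoc, ← Functor.map_comp, hi]
    · let iY : pullback yS ((yon S).map (c P)) ⟶ pullback yS ((yon S).map (c O)) :=
        pullback.lift (pullback.fst _ _) (pullback.snd _ _ ≫ (yon S).map i)
          (by rw [pullback.condition, Category.assoc, ← Functor.map_comp, hi])
      obtain ⟨kO, -, -, -, eO2, eO3⟩ := exists_restrict (c O) sqN sqY hk1 hk2
      have := congrArg (iY ≫ ·) ((hh O).2 kO eO3 eO2)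
      simp only [iY, pullback.lift_fst_assoc] at this
      have q3 : k₀ ≫ pullback.lift (pullback.fst nS _) (pullback.snd nS ((yon S).map (c P)) ≫ (yon S).map i)
          (by rw [pullback.condition, Category.assoc, ← Functor.map_comp, hi]) = iY ≫ kO := by
        refine pullback.hom_ext ?_ ?_ <;> refine (Category.assoc _ _ _).trans (Eq.trans ?_ (Category.assoc _ _ _).symm)
        · rw [pullback.lift_fst, eO3, pullback.lift_fst_assoc, q1]
        · rw [pullback.lift_snd, eO2, pullback.lift_snd, reassoc_of% q2]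
      rw [reassoc_of% q3]
      exact this
  have cov : ∀ {U : Over S} (U' : U ⟶ T) (z : U.left), ∃ O : {O : T.left.affineOpens // good O}, U'.left z ∈ O.1.1 := fun U' z => by
    obtain ⟨O, hO, hz⟩ := hcov (U'.left z)
    exact ⟨⟨O, hO⟩, hz⟩
  have agree : ∀ {Z : Over S} (O O' : {O : T.left.affineOpens // good O}) (x : (yon S).obj Z ⟶ pullback nS ((yon S).map (c O)))
      (x' : (yon S).obj Z ⟶ pullback nS ((yon S).map (c O'))),
      x ≫ pullback.fst _ _ = x' ≫ pullback.fst _ _ → x ≫ h O = x' ≫ h O' := by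
    intro Z O O' x x' e
    obtain ⟨z, hz⟩ := (yon S).map_surjective (x ≫ pullback.snd _ _)
    obtain ⟨z', hz'⟩ := (yon S).map_surjective (x' ≫ pullback.snd _ _)
    have ezz : z ≫ c O = z' ≫ c O' := (yon S).map_injective (by
      rw [Functor.map_comp, Functor.map_comp, hz, hz', Category.assoc, Category.assoc, ← pullback.condition,
        ← pullback.condition, ← Category.assoc, e, Category.assoc])
    let ι := {P : {O : T.left.affineOpens // good O} // P.1.1 ≤ O.1.1 ∧ P.1.1 ≤ O'.1.1}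
    let V : ι → Z.left.Opens := fun P => (z ≫ c O).left ⁻¹ᵁ P.1.1.1
    refine yon_hom_ext_of_cover (fun P => restrictOverι Z (V P)) (fun t => ?_) _ _ fun P => ?_
    · have h1 : (z ≫ c O).left t ∈ O.1.1 := (z.left t).2
      have h2 : (z ≫ c O).left t ∈ O'.1.1 := by rw [ezz]; exact (z'.left t).2
      obtain ⟨P, hP, htP, hsub⟩ := exists_isAffineOpen_mem_and_subset (X := T.left) (U := O.1.1 ⊓ O'.1.1)
        (x := (z ≫ c O).left t) ⟨h1, h2⟩
      exact ⟨⟨⟨⟨P, hP⟩, hdown O.1 ⟨P, hP⟩ O.2 (hsub.trans inf_le_left)⟩, hsub.trans inf_le_left, hsub.trans inf_le_right⟩,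
        by rw [range_restrictOverι]; exact htP⟩
    · let iO : restrictOver T P.1.1.1 ⟶ restrictOver T O.1.1 := Over.homMk (T.left.homOfLE P.2.1) (by
        show T.left.homOfLE P.2.1 ≫ O.1.1.ι ≫ T.hom = P.1.1.1.ι ≫ T.hom
        rw [Scheme.homOfLE_ι_assoc])
      let iO' : restrictOver T P.1.1.1 ⟶ restrictOver T O'.1.1 := Over.homMk (T.left.homOfLE P.2.2) (by
        show T.left.homOfLE P.2.2 ≫ O'.1.1.ι ≫ T.hom = P.1.1.1.ι ≫ T.hom
        rw [Scheme.homOfLE_ι_assoc])
      have hiO : iO ≫ c O = c P.1 := Over.OverMorphism.ext (T.left.homOfLE_ι P.2.1)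
      have hiO' : iO' ≫ c O' = c P.1 := Over.OverMorphism.ext (T.left.homOfLE_ι P.2.2)
      let zP : restrictOver Z (V P) ⟶ restrictOver T P.1.1.1 := Over.homMk ((z ≫ c O).left.resLE P.1.1.1 (V P) le_rfl) (by
        show _ ≫ P.1.1.1.ι ≫ T.hom = (V P).ι ≫ Z.hom
        rw [Scheme.Hom.resLE_comp_ι_assoc, Over.w (z ≫ c O)])
      have hzP : zP ≫ c P.1 = restrictOverι Z (V P) ≫ z ≫ c O :=
        Over.OverMorphism.ext (Scheme.Hom.resLE_comp_ι _ _)
      let y : (yon S).obj (restrictOver Z (V P)) ⟶ pullback nS ((yon S).map (c P.1)) :=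
        pullback.lift ((yon S).map (restrictOverι Z (V P)) ≫ x ≫ pullback.fst _ _) ((yon S).map zP) (by
          rw [Category.assoc, Category.assoc, pullback.condition, ← Category.assoc x, ← hz,
            ← Functor.map_comp, ← Functor.map_comp, ← Functor.map_comp, hzP])
      have mono : ∀ O : {O : T.left.affineOpens // good O}, Mono ((yon S).map (c O)) := fun O => by
        have := hc' O
        haveI : Mono (c O) := Over.mono_of_mono_left _
        infer_instance
      have a1 : (yon S).map (restrictOverι Z (V P)) ≫ x = y ≫ pullback.lift (pullback.fst nS _)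
          (pullback.snd nS ((yon S).map (c P.1)) ≫ (yon S).map iO)
          (by rw [pullback.condition, Category.assoc, ← Functor.map_comp, hiO]) := by
        haveI := mono O
        rw [← cancel_mono (pullback.fst nS ((yon S).map (c O)))]
        simp only [Category.assoc, pullback.lift_fst, y]
      have a2 : (yon S).map (restrictOverι Z (V P)) ≫ x' = y ≫ pullback.lift (pullback.fst nS _)
          (pullback.snd nS ((yon S).map (c P.1)) ≫ (yon S).map iO')
          (by rw [pullback.condition, Category.assoc, ← Functor.map_comp, hiO']) := by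
        haveI := mono O'
        rw [← cancel_mono (pullback.fst nS ((yon S).map (c O')))]
        simp only [Category.assoc, pullback.lift_fst, y, e]
      rw [← Category.assoc, ← Category.assoc, a1, a2]
      exact ((Category.assoc _ _ _).trans (congrArg (y ≫ ·) (hres O P.1 iO hiO))).trans
        ((Category.assoc _ _ _).trans (congrArg (y ≫ ·) (hres O' P.1 iO' hiO'))).symm
  -- glue
  have key : ∀ ⦃Z : Over S⦄ (x : (yon S).obj Z ⟶ N'), ∃! y : (yon S).obj Z ⟶ (yon S).obj W,
      ∀ (Z' : Over S) (v : Z' ⟶ Z) (O : {O : T.left.affineOpens // good O}) (x' : (yon S).obj Z' ⟶ pullback nS ((yon S).map (c O))),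
        x' ≫ pullback.fst _ _ = (yon S).map v ≫ x → x' ≫ h O = (yon S).map v ≫ y := by
    intro Z x
    obtain ⟨z, hz⟩ := (yon S).map_surjective (x ≫ nS)
    let cz : ∀ O : {O : T.left.affineOpens // good O}, restrictOver Z (z.left ⁻¹ᵁ O.1.1) ⟶ Z := fun O => restrictOverι Z _
    let zO : ∀ O : {O : T.left.affineOpens // good O}, restrictOver Z (z.left ⁻¹ᵁ O.1.1) ⟶ restrictOver T O.1.1 := fun O =>
      Over.homMk (z.left.resLE O.1.1 _ le_rfl) (by
        show _ ≫ O.1.1.ι ≫ T.hom = (z.left ⁻¹ᵁ O.1.1).ι ≫ Z.hom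
        rw [Scheme.Hom.resLE_comp_ι_assoc, Over.w z])
    have hzO : ∀ O, zO O ≫ c O = cz O ≫ z := fun O => Over.OverMorphism.ext (Scheme.Hom.resLE_comp_ι _ _)
    let xO : ∀ O, (yon S).obj (restrictOver Z (z.left ⁻¹ᵁ O.1.1)) ⟶ pullback nS ((yon S).map (c O)) := fun O =>
      pullback.lift ((yon S).map (cz O) ≫ x) ((yon S).map (zO O)) (by
        rw [Category.assoc, ← hz, ← Functor.map_comp, ← Functor.map_comp, hzO])
    have hcz : ∀ t : Z.left, ∃ O, t ∈ Set.range (cz O).left := fun t => by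
      obtain ⟨O, hO⟩ := cov z t
      exact ⟨O, by rw [range_restrictOverι]; exact hO⟩
    obtain ⟨y, hy⟩ := yon_exists_glue cz hcz (fun O => xO O ≫ h O) fun O O' V a b e => by
      simp only [← Category.assoc]
      refine agree O O' _ _ ?_
      simp only [Category.assoc, xO, pullback.lift_fst]
      rw [← Category.assoc, ← Category.assoc, ← Functor.map_comp, ← Functor.map_comp, e]
    refine ⟨y, fun Z' v O x' hx' => ?_, fun y' hy' => yon_hom_ext_of_cover cz hcz _ _ fun O =>
      ((hy' _ (cz O) O (xO O) (pullback.lift_fst _ _ _)).symm.trans (hy O).symm)⟩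
    let V : {O : T.left.affineOpens // good O} → Z'.left.Opens := fun P => (v ≫ z).left ⁻¹ᵁ P.1.1
    refine yon_hom_ext_of_cover (fun P => restrictOverι Z' (V P)) (fun t => ?_) _ _ fun P => ?_
    · obtain ⟨P, hP⟩ := cov (v ≫ z) t
      exact ⟨P, by rw [range_restrictOverι]; exact hP⟩
    · let vP : restrictOver Z' (V P) ⟶ restrictOver Z (z.left ⁻¹ᵁ P.1.1) := Over.homMk (v.left.resLE _ (V P) le_rfl) (by
        show _ ≫ (z.left ⁻¹ᵁ P.1.1).ι ≫ Z.hom = (V P).ι ≫ Z'.hom
        rw [Scheme.Hom.resLE_comp_ι_assoc, Over.w v])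
      have hvP : vP ≫ cz P = restrictOverι Z' (V P) ≫ v := Over.OverMorphism.ext (Scheme.Hom.resLE_comp_ι _ _)
      rw [← Category.assoc, agree O P ((yon S).map (restrictOverι Z' (V P)) ≫ x') ((yon S).map vP ≫ xO P) (by
          rw [Category.assoc, Category.assoc, hx', pullback.lift_fst, ← Category.assoc, ← Category.assoc,
            ← Functor.map_comp, ← Functor.map_comp, hvP]),
        Category.assoc, ← hy P, ← Category.assoc, ← Functor.map_comp, hvP, Functor.map_comp, Category.assoc]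
  choose η hη hηu using key
  have hnat : ∀ ⦃Z Z' : Over S⦄ (v : Z' ⟶ Z) (x : (yon S).obj Z ⟶ N'),
      (yon S).map v ≫ η x = η ((yon S).map v ≫ x) := fun Z Z' v x => hηu _ _ fun Z'' v' O x' hx' => by
    rw [hη x Z'' (v' ≫ v) O x' (by rw [hx', Functor.map_comp, Category.assoc]), Functor.map_comp, Category.assoc]
  let hN : N' ⟶ (yon S).obj W := PushSp.homOfNat η hnat
  have hhN : ∀ ⦃Z : Over S⦄ (x : (yon S).obj Z ⟶ N'), x ≫ hN = η x := fun Z x => PushSp.comp_homOfNat hnat x


  have uniq : ∀ (m m' : N' ⟶ (yon S).obj W), k ≫ m = g → k ≫ m' = g → m ≫ (yon S).map w = nS →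
      m' ≫ (yon S).map w = nS → m = m' := by
    intro m m' e e' q q'
    refine hom_ext_of_yon fun Z x => ?_
    obtain ⟨z, hz⟩ := (yon S).map_surjective (x ≫ nS)
    refine yon_hom_ext_of_cover (fun O : {O : T.left.affineOpens // good O} => restrictOverι Z (z.left ⁻¹ᵁ O.1.1)) (fun t => ?_) _ _
      fun O => ?_
    · obtain ⟨O, hO⟩ := cov z t
      exact ⟨O, by rw [range_restrictOverι]; exact hO⟩
    · let zO : restrictOver Z (z.left ⁻¹ᵁ O.1.1) ⟶ restrictOver T O.1.1 :=
        Over.homMk (z.left.resLE O.1.1 _ le_rfl) (by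
          show _ ≫ O.1.1.ι ≫ T.hom = (z.left ⁻¹ᵁ O.1.1).ι ≫ Z.hom
          rw [Scheme.Hom.resLE_comp_ι_assoc, Over.w z])
      have hzO : zO ≫ c O = restrictOverι Z (z.left ⁻¹ᵁ O.1.1) ≫ z :=
        Over.OverMorphism.ext (Scheme.Hom.resLE_comp_ι _ _)
      let xO : (yon S).obj (restrictOver Z (z.left ⁻¹ᵁ O.1.1)) ⟶ pullback nS ((yon S).map (c O)) :=
        pullback.lift ((yon S).map (restrictOverι Z (z.left ⁻¹ᵁ O.1.1)) ≫ x) ((yon S).map zO) (by
          rw [Category.assoc, ← hz, ← Functor.map_comp, ← Functor.map_comp, hzO])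
      have side : ∀ m₀ : N' ⟶ (yon S).obj W, k ≫ m₀ = g → m₀ ≫ (yon S).map w = nS →
          pullback.fst nS ((yon S).map (c O)) ≫ m₀ = h O := fun m₀ e₀ q₀ =>
        hu O _ ⟨by rw [Category.assoc, q₀, pullback.condition], fun k₀ q1 _ => by
          rw [← Category.assoc, q1, Category.assoc, e₀]⟩
      have r : (yon S).map (restrictOverι Z (z.left ⁻¹ᵁ O.1.1)) ≫ x = xO ≫ pullback.fst _ _ :=
        (pullback.lift_fst _ _ _).symm
      simp only [← Category.assoc, r]
      simp only [Category.assoc, side m e q, side m' e' q']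
  have hk : k ≫ hN = g := hom_ext_of_yon fun Z x => by
    obtain ⟨z, hz⟩ := (yon S).map_surjective (x ≫ yS)
    rw [← Category.assoc, hhN]
    refine (hηu _ _ fun Z' v O x' hx' => ?_).symm
    obtain ⟨k₀, -, -, -, e2, e3⟩ := exists_restrict (c O) sqN sqY hk1 hk2
    have hc : ((yon S).map v ≫ x) ≫ yS = (x' ≫ pullback.snd _ _) ≫ (yon S).map (c O) := by
      rw [Category.assoc (obj := _) x', ← pullback.condition, ← Category.assoc x', hx']
      simp only [Category.assoc, hk2]
    let y' := pullback.lift ((yon S).map v ≫ x) (x' ≫ pullback.snd _ _) hc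
    have : y' ≫ k₀ = x' := pullback.hom_ext
      (by rw [Category.assoc, e3, pullback.lift_fst_assoc, hx', Category.assoc])
      (by rw [Category.assoc, e2, pullback.lift_snd])
    rw [← this, Category.assoc, (hh O).2 k₀ e3 e2, pullback.lift_fst_assoc, Category.assoc]
  have hw2 : hN ≫ (yon S).map w = nS := hom_ext_of_yon fun Z x => by
    obtain ⟨z, hz⟩ := (yon S).map_surjective (x ≫ nS)
    rw [← Category.assoc, hhN]
    refine yon_hom_ext_of_cover (fun O : {O : T.left.affineOpens // good O} => restrictOverι Z (z.left ⁻¹ᵁ O.1.1)) (fun t => ?_) _ _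
      fun O => ?_
    · obtain ⟨O, hO⟩ := cov z t
      exact ⟨O, by rw [range_restrictOverι]; exact hO⟩
    · let zO : restrictOver Z (z.left ⁻¹ᵁ O.1.1) ⟶ restrictOver T O.1.1 :=
        Over.homMk (z.left.resLE O.1.1 _ le_rfl) (by
          show _ ≫ O.1.1.ι ≫ T.hom = (z.left ⁻¹ᵁ O.1.1).ι ≫ Z.hom
          rw [Scheme.Hom.resLE_comp_ι_assoc, Over.w z])
      have hzO : zO ≫ c O = restrictOverι Z (z.left ⁻¹ᵁ O.1.1) ≫ z :=
        Over.OverMorphism.ext (Scheme.Hom.resLE_comp_ι _ _)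
      let xO : (yon S).obj (restrictOver Z (z.left ⁻¹ᵁ O.1.1)) ⟶ pullback nS ((yon S).map (c O)) :=
        pullback.lift ((yon S).map (restrictOverι Z (z.left ⁻¹ᵁ O.1.1)) ≫ x) ((yon S).map zO) (by
          rw [Category.assoc, ← hz, ← Functor.map_comp, ← Functor.map_comp, hzO])
      rw [← Category.assoc, ← hη x _ (restrictOverι Z _) O xO (pullback.lift_fst _ _ _), Category.assoc,
        (hh O).1, pullback.lift_snd_assoc, ← Functor.map_comp, hzO, Functor.map_comp, hz]
  exact ⟨hN, ⟨hk, hw2⟩, fun m hm => uniq m hN hm.1 hk hm.2 hw2⟩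

/-- universality over arbitrary schemes -/
theorem univAt (H : LocNorm f ν f') ⦃T : Over S⦄ (a : (yon S).obj T ⟶ G) (ha : RepWith @Smooth a) : UnivAt f ν f' a :=
  univAt_of_opens a (fun _ => True)
    (fun t => by
      obtain ⟨O, hO, hz, -⟩ := exists_isAffineOpen_mem_and_subset (X := T.left) (x := t) (U := ⊤) trivial
      exact ⟨⟨O, hO⟩, trivial, hz⟩)
    (fun _ _ _ _ => trivial) fun O _ => H.univ (T := restrictOver T O.1) O.2 _
      (RepWith.comp ((repWith_yon_map_iff _ (restrictOverι T O.1)).2 (inferInstanceAs (Smooth O.1.ι))) ha)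

/-- `LocNorm` over an algebraic space is a relative normalisation -/
theorem isRelNormalization (H : LocNorm f ν f') (hG : IsAlgSpace G) : IsRelNormalization f ν f' := by
  refine ⟨H.fac, (isIntegralMor_iff_repWith ν).2 H.int, fun Z _ π g hπ hg => ?_⟩
  have hπ' := (isIntegralMor_iff_repWith π).1 hπ
  obtain ⟨U, p, hpe, hps⟩ := hG.atlas
  have hp : RepWith @Smooth p :=
    RepWith.mono (fun _ _ q (hq : Etale q) => (inferInstance : Smooth q)) hpe
  let nU := pullback.fst ν p
  let yU := pullback.fst f p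
  let kU : pullback f p ⟶ pullback ν p := pullback.lift (yU ≫ f') (pullback.snd f p)
    (by rw [Category.assoc, H.fac, pullback.condition])
  have : Epi nU := epi_of_etale_surjective (RepWith.baseChange (IsPullback.of_hasPullback ν p).flip hpe)
    (RepWith.baseChange (IsPullback.of_hasPullback ν p).flip hps)
  have : Epi yU := epi_of_etale_surjective (RepWith.baseChange (IsPullback.of_hasPullback f p).flip hpe)
    (RepWith.baseChange (IsPullback.of_hasPullback f p).flip hps)
  obtain ⟨hU, ⟨h1, h2⟩, hUu⟩ := (H.univAt p hp).general hπ' p (IsPullback.of_hasPullback ν p)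
    (IsPullback.of_hasPullback f p) (pullback.lift_fst _ _ _) (pullback.lift_snd _ _ _) (yU ≫ g)
    (by rw [Category.assoc, hg]; exact pullback.condition)
  obtain ⟨R, r₁, r₂, sqR, hr₁⟩ := exists_yon_of_repWith hpe p
  have hRp : RepWith @Smooth (r₂ ≫ p) := RepWith.comp
    (RepWith.mono (fun _ _ q (hq : Etale q) => (inferInstance : Smooth q)) (RepWith.baseChange sqR.flip hpe)) hp
  let kR : pullback f (r₂ ≫ p) ⟶ pullback ν (r₂ ≫ p) := pullback.lift (pullback.fst _ _ ≫ f') (pullback.snd _ _)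
    (by rw [Category.assoc, H.fac, pullback.condition])
  let ρ₂ : pullback ν (r₂ ≫ p) ⟶ pullback ν p := pullback.lift (pullback.fst _ _) (pullback.snd _ _ ≫ r₂)
    (by rw [Category.assoc, pullback.condition])
  let ρ₁ : pullback ν (r₂ ≫ p) ⟶ pullback ν p := pullback.lift (pullback.fst _ _) (pullback.snd _ _ ≫ (yon S).map r₁)
    (by rw [Category.assoc, ← sqR.w, pullback.condition])
  have e : ρ₂ ≫ hU = ρ₁ ≫ hU := by
    have hkr : ∀ (r : (yon S).obj R ⟶ (yon S).obj U) (hr : r ≫ p = r₂ ≫ p),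
        kR ≫ pullback.lift (pullback.fst ν (r₂ ≫ p)) (pullback.snd _ _ ≫ r)
          (by rw [Category.assoc, hr, pullback.condition]) ≫ hU = pullback.fst f (r₂ ≫ p) ≫ g := by
      intro r hr
      have : kR ≫ pullback.lift (pullback.fst ν (r₂ ≫ p)) (pullback.snd _ _ ≫ r)
          (by rw [Category.assoc, hr, pullback.condition]) =
          pullback.lift (pullback.fst f (r₂ ≫ p)) (pullback.snd _ _ ≫ r)
            (by rw [Category.assoc, hr, pullback.condition]) ≫ kU :=
        pullback.hom_ext (by simp [kR, kU, yU]) (by simp [kR, kU])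
      rw [← Category.assoc, this, Category.assoc, h1, ← Category.assoc, pullback.lift_fst]
    refine ((H.univAt (r₂ ≫ p) hRp).general hπ' (r₂ ≫ p) (IsPullback.of_hasPullback ν _)
      (IsPullback.of_hasPullback f _) (pullback.lift_fst _ _ _) (pullback.lift_snd _ _ _) (pullback.fst _ _ ≫ g)
      (by rw [Category.assoc, hg]; exact pullback.condition)).unique ⟨hkr r₂ rfl, ?_⟩
      ⟨hkr ((yon S).map r₁) sqR.w.symm, ?_⟩
    · rw [Category.assoc, h2, pullback.lift_snd_assoc, Category.assoc]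
    · rw [Category.assoc, h2, pullback.lift_snd_assoc, Category.assoc, ← sqR.w]
  haveI : IsRegularEpiCategory (Sp S) :=
    inferInstanceAs (IsRegularEpiCategory (Sheaf (J S) (Type (u + 1))))
  haveI : IsRegularEpi nU := IsRegularEpiCategory.regularEpiOfEpi nU
  have hcomp : ∀ {T : Sp S} (g₁ g₂ : T ⟶ pullback ν p), g₁ ≫ nU = g₂ ≫ nU → g₁ ≫ hU = g₂ ≫ hU := by
    intro T g₁ g₂ hg₁₂
    have w : (g₁ ≫ pullback.snd _ _) ≫ p = (g₂ ≫ pullback.snd _ _) ≫ p := by
      simp only [Category.assoc, ← pullback.condition]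
      rw [← Category.assoc g₁, hg₁₂, Category.assoc]
    let r := sqR.lift (g₁ ≫ pullback.snd _ _) (g₂ ≫ pullback.snd _ _) w
    have hr : (g₁ ≫ nU) ≫ ν = r ≫ r₂ ≫ p := by
      rw [← Category.assoc r, sqR.lift_fst, Category.assoc, Category.assoc, pullback.condition]
    let l : T ⟶ pullback ν (r₂ ≫ p) := pullback.lift (g₁ ≫ nU) r hr
    have l1 : l ≫ ρ₂ = g₁ := pullback.hom_ext (by simp [l, ρ₂, nU]) (by simp [l, ρ₂, r])
    have l2 : l ≫ ρ₁ = g₂ := pullback.hom_ext (by simpa [l, ρ₁, nU] using hg₁₂) (by simp [l, ρ₁, r])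
    rw [← l1, ← l2, Category.assoc, Category.assoc, e]
  let h : N ⟶ Z := EffectiveEpi.desc nU hU hcomp
  have hfac : nU ≫ h = hU := EffectiveEpi.fac _ _ _
  refine ⟨h, ⟨?_, ?_⟩, fun m hm => ?_⟩
  · have : kU ≫ nU = yU ≫ f' := pullback.lift_fst _ _ _
    rw [← cancel_epi yU]
    exact ((Category.assoc _ _ _).symm.trans (congrArg (· ≫ h) this.symm)).trans
      ((Category.assoc _ _ _).trans ((congrArg (kU ≫ ·) hfac).trans h1))
  · rw [← cancel_epi nU, ← Category.assoc, hfac, h2]
    exact pullback.condition.symm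
  · rw [← cancel_epi nU, hfac]
    refine hUu _ ⟨?_, ?_⟩
    · rw [← Category.assoc, pullback.lift_fst, Category.assoc, hm.1]
    · rw [Category.assoc, hm.2]
      exact pullback.condition

end LocNorm

end Groth.Agent.AlgSpLib
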