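import Groth.Agent.AlgSpLib.NormExist
import Groth.Agent.AlgSpLib.EqvQuot
import Groth.Agent.AlgSpLib.Pres
import Groth.Agent.AlgSpLib.FpqcCov
import Groth.Agent.AlgSpLib.EtLocalInst
import Groth.Agent.AlgSpLib.PointsCompact
import Groth.Agent.AlgSpLib.LocP
import Groth.Agent.AlgSpLib.Points

/-!
Descent of relative normalisations along etale presentations: existence for algebraic spaces.
-/

universe u

open CategoryTheory CategoryTheory.Limits AlgebraicGeometry Opposite
open AlgSp

noncomputable section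

namespace Groth.Agent.AlgSpLib

set_option backward.isDefEq.respectTransparency.types false
set_option backward.isDefEq.respectTransparency false

variable {S : Scheme.{u}}

theorem etale_smooth : (@Etale : MorphismProperty Scheme.{u}) ≤ @Smooth :=
  fun _ _ q (hq : Etale q) => (inferInstance : Smooth q)

/-- universality is etale local on the test scheme -/
theorem univAt_of_cover {G N Y : Sp S} {f : Y ⟶ G} {ν : N ⟶ G} {f' : Y ⟶ N} {T : Over S}
    (a : (yon S).obj T ⟶ G) {T' R : Over S} (c : (yon S).obj T' ⟶ (yon S).obj T)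
    (hce : RepWith @Etale c) (hcs : RepWith @Surjective c) {r₁ r₂ : (yon S).obj R ⟶ (yon S).obj T'}
    (sqR : IsPullback r₁ r₂ c c) (hT' : UnivAt f ν f' (c ≫ a)) (hR : UnivAt f ν f' (r₁ ≫ c ≫ a)) :
    UnivAt f ν f' a := by
  intro N' Y' nF nS sqN yF yS sqY k hk1 hk2 W w hw g hg
  have hw' : RepWith @IsIntegralHom ((yon S).map w) := (repWith_yon_map_iff _ w).2 hw
  haveI : IsRegularEpiCategory (Sp S) :=
    inferInstanceAs (IsRegularEpiCategory (Sheaf (J S) (Type (u + 1))))
  have sN := (IsPullback.of_hasPullback nS c)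
  have sY := (IsPullback.of_hasPullback yS c)
  haveI : Epi (pullback.fst nS c) := epi_of_etale_surjective (RepWith.baseChange sN.flip hce) (RepWith.baseChange sN.flip hcs)
  haveI : Epi (pullback.fst yS c) := epi_of_etale_surjective (RepWith.baseChange sY.flip hce) (RepWith.baseChange sY.flip hcs)
  let k₀ : pullback yS c ⟶ pullback nS c := pullback.lift (pullback.fst _ _ ≫ k) (pullback.snd _ _)
    (by rw [Category.assoc, hk2, pullback.condition])
  obtain ⟨h₀, ⟨h1, h2⟩, hu₀⟩ := hT'.general hw' c (sN.paste_horiz sqN) (sY.paste_horiz sqY) (k := k₀)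
    (by rw [pullback.lift_fst_assoc, Category.assoc, Category.assoc, hk1]) (pullback.lift_snd _ _ _)
    (pullback.fst yS c ≫ g) (by rw [Category.assoc, hg, pullback.condition])
  have sN2 := (IsPullback.of_hasPullback nS (r₁ ≫ c))
  have sY2 := (IsPullback.of_hasPullback yS (r₁ ≫ c))
  let k₂ : pullback yS (r₁ ≫ c) ⟶ pullback nS (r₁ ≫ c) := pullback.lift (pullback.fst _ _ ≫ k) (pullback.snd _ _)
    (by rw [Category.assoc, hk2, pullback.condition])
  let ρ₁ : pullback nS (r₁ ≫ c) ⟶ pullback nS c := pullback.lift (pullback.fst _ _) (pullback.snd _ _ ≫ r₁)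
    (by rw [Category.assoc, pullback.condition])
  let ρ₂ : pullback nS (r₁ ≫ c) ⟶ pullback nS c := pullback.lift (pullback.fst _ _) (pullback.snd _ _ ≫ r₂)
    (by rw [Category.assoc, ← sqR.w, pullback.condition])
  have e : ρ₁ ≫ h₀ = ρ₂ ≫ h₀ := by
    have hkr : ∀ (r : (yon S).obj R ⟶ (yon S).obj T') (hr : r ≫ c = r₁ ≫ c),
        k₂ ≫ pullback.lift (pullback.fst nS (r₁ ≫ c)) (pullback.snd _ _ ≫ r)
          (by rw [Category.assoc, hr, pullback.condition]) ≫ h₀ = pullback.fst yS (r₁ ≫ c) ≫ g := by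
      intro r hr
      have : k₂ ≫ pullback.lift (pullback.fst nS (r₁ ≫ c)) (pullback.snd _ _ ≫ r)
          (by rw [Category.assoc, hr, pullback.condition]) =
          pullback.lift (pullback.fst yS (r₁ ≫ c)) (pullback.snd _ _ ≫ r)
            (by rw [Category.assoc, hr, pullback.condition]) ≫ k₀ :=
        pullback.hom_ext (by simp [k₂, k₀]) (by simp [k₂, k₀])
      rw [← Category.assoc, this, Category.assoc, h1, ← Category.assoc, pullback.lift_fst]
    have hR' : UnivAt f ν f' ((r₁ ≫ c) ≫ a) := by rwa [Category.assoc]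
    refine (hR'.general hw' (r₁ ≫ c) (sN2.paste_horiz sqN) (sY2.paste_horiz sqY) (k := k₂)
      (by rw [pullback.lift_fst_assoc, Category.assoc, Category.assoc, hk1]) (pullback.lift_snd _ _ _)
      (pullback.fst _ _ ≫ g) (by rw [Category.assoc, hg, pullback.condition])).unique ⟨hkr r₁ rfl, ?_⟩
      ⟨hkr r₂ sqR.w.symm, ?_⟩
    · rw [Category.assoc, h2, pullback.lift_snd_assoc, Category.assoc]
    · rw [Category.assoc, h2, pullback.lift_snd_assoc, Category.assoc, ← sqR.w]
  haveI : IsRegularEpi (pullback.fst nS c) := IsRegularEpiCategory.regularEpiOfEpi _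
  let h : N' ⟶ (yon S).obj W := EffectiveEpi.desc (pullback.fst nS c) h₀ fun {T₁} g₁ g₂ hg₁₂ => by
    have w' : (g₁ ≫ pullback.snd _ _) ≫ c = (g₂ ≫ pullback.snd _ _) ≫ c := by
      simp only [Category.assoc, ← pullback.condition]
      rw [reassoc_of% hg₁₂]
    let r := sqR.lift (g₁ ≫ pullback.snd _ _) (g₂ ≫ pullback.snd _ _) w'
    have hr : (g₁ ≫ pullback.fst nS c) ≫ nS = r ≫ r₁ ≫ c := by
      rw [← Category.assoc r, sqR.lift_fst, Category.assoc, Category.assoc, pullback.condition]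
    let l : T₁ ⟶ pullback nS (r₁ ≫ c) := pullback.lift (g₁ ≫ pullback.fst _ _) r hr
    have l1 : l ≫ ρ₁ = g₁ := pullback.hom_ext (by simp [l, ρ₁]) (by simp [l, ρ₁, r])
    have l2 : l ≫ ρ₂ = g₂ := pullback.hom_ext (by simpa [l, ρ₂] using hg₁₂) (by simp [l, ρ₂, r])
    rw [← l1, ← l2, Category.assoc, Category.assoc, e]
  have hfac : pullback.fst nS c ≫ h = h₀ := EffectiveEpi.fac _ _ _
  refine ⟨h, ⟨?_, ?_⟩, fun m hm => ?_⟩
  · have hk0 : k₀ ≫ pullback.fst nS c = pullback.fst yS c ≫ k := pullback.lift_fst _ _ _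
    rw [← cancel_epi (pullback.fst yS c)]
    exact ((Category.assoc _ _ _).symm.trans (congrArg (· ≫ h) hk0.symm)).trans
      ((Category.assoc _ _ _).trans ((congrArg (k₀ ≫ ·) hfac).trans h1))
  · rw [← cancel_epi (pullback.fst nS c), ← Category.assoc, hfac, h2, pullback.condition]
  · rw [← cancel_epi (pullback.fst nS c), hfac]
    refine hu₀ _ ⟨?_, ?_⟩
    · rw [← Category.assoc, pullback.lift_fst, Category.assoc, hm.1]
    · rw [Category.assoc, hm.2, pullback.condition]

section descent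

variable {X Y : Sp S} {f : Y ⟶ X} {U N : Over S} {p : (yon S).obj U ⟶ X} {ν : N ⟶ U}
  {g' : pullback f p ⟶ (yon S).obj N} (H : LocNorm (pullback.snd f p) ((yon S).map ν) g')

/-- the map of sources induced by a lift of a test morphism -/
def yTo {T : Over S} {q : (yon S).obj T ⟶ X} (c : T ⟶ U) (hc : (yon S).map c ≫ p = q) :
    pullback f q ⟶ pullback f p :=
  pullback.lift (pullback.fst _ _) (pullback.snd _ _ ≫ (yon S).map c)
    (by rw [Category.assoc, hc, pullback.condition])

/-- `m` transports the normalisation along `a` to the one along `b` -/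
def IsTau {T : Over S} (q : (yon S).obj T ⟶ X) (a b : T ⟶ U) (ha : (yon S).map a ≫ p = q)
    (hb : (yon S).map b ≫ p = q)
    (m : pullback ((yon S).map ν) ((yon S).map a) ⟶ (yon S).obj N) : Prop :=
  m ≫ (yon S).map ν = pullback.snd _ _ ≫ (yon S).map b ∧
    ∀ (k : pullback f q ⟶ pullback ((yon S).map ν) ((yon S).map a)),
      k ≫ pullback.fst _ _ = yTo a ha ≫ g' → k ≫ pullback.snd _ _ = pullback.snd _ _ →
      k ≫ m = yTo b hb ≫ g'

include H

theorem yTo_fac {T : Over S} {q : (yon S).obj T ⟶ X} (c : T ⟶ U) (hc : (yon S).map c ≫ p = q) :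
    yTo (f := f) c hc ≫ g' ≫ (yon S).map ν = pullback.snd _ _ ≫ (yon S).map c := by
  rw [H.fac]; exact pullback.lift_snd _ _ _

theorem exists_k {T : Over S} {q : (yon S).obj T ⟶ X} (a : T ⟶ U) (ha : (yon S).map a ≫ p = q) :
    ∃ k : pullback f q ⟶ pullback ((yon S).map ν) ((yon S).map a),
      k ≫ pullback.fst _ _ = yTo a ha ≫ g' ∧ k ≫ pullback.snd _ _ = pullback.snd _ _ :=
  ⟨pullback.lift _ _ (by rw [Category.assoc, yTo_fac H]), pullback.lift_fst _ _ _, pullback.lift_snd _ _ _⟩

theorem existsUnique_tau {T : Over S} (q : (yon S).obj T ⟶ X) (a b : T ⟶ U) (ha : (yon S).map a ≫ p = q)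
    (hb : (yon S).map b ≫ p = q) (hsm : Smooth a.left) : ∃! m, IsTau (f := f) (ν := ν) (g' := g') q a b ha hb m := by
  obtain ⟨k, hk1, hk2⟩ := exists_k H a ha
  have sqY : IsPullback (yTo (f := f) a ha) (pullback.snd f q) (pullback.snd f p) ((yon S).map a) :=
    IsPullback.of_right (by rw [yTo, pullback.lift_fst, ha]; exact IsPullback.of_hasPullback f q)
      (pullback.lift_snd _ _ _) (IsPullback.of_hasPullback f p)
  obtain ⟨m, ⟨m1, m2⟩, mu⟩ := (H.univAt ((yon S).map a) ((repWith_yon_map_iff _ a).2 hsm)).general H.int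
    ((yon S).map b) (IsPullback.of_hasPullback _ _) sqY hk1 hk2 (yTo b hb ≫ g')
    (by rw [Category.assoc, yTo_fac H])
  refine ⟨m, ⟨m2, fun k' q1 q2 => ?_⟩, fun m' hm' => mu m' ⟨hm'.2 k hk1 hk2, hm'.1⟩⟩
  rw [show k' = k from pullback.hom_ext (q1.trans hk1.symm) (q2.trans hk2.symm), m1]

omit H in
theorem isTau_refl {T : Over S} (q : (yon S).obj T ⟶ X) (a : T ⟶ U) (ha : (yon S).map a ≫ p = q) :
    IsTau (f := f) (ν := ν) (g' := g') q a a ha ha (pullback.fst _ _) :=
  ⟨pullback.condition, fun _ h _ => h⟩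

omit H in
theorem IsTau.comp {T : Over S} {q : (yon S).obj T ⟶ X} {a b d : T ⟶ U} {ha : (yon S).map a ≫ p = q}
    {hb : (yon S).map b ≫ p = q} {hd : (yon S).map d ≫ p = q} {m m'}
    (h : IsTau (f := f) (ν := ν) (g' := g') q a b ha hb m) (h' : IsTau (f := f) (ν := ν) (g' := g') q b d hb hd m') :
    IsTau (f := f) (ν := ν) (g' := g') q a d ha hd (pullback.lift m (pullback.snd _ _) h.1 ≫ m') :=
  ⟨by rw [Category.assoc, h'.1, pullback.lift_snd_assoc], fun k q1 q2 => by
    rw [← Category.assoc]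
    exact h'.2 _ (by rw [Category.assoc, pullback.lift_fst, h.2 k q1 q2]) (by rw [Category.assoc, pullback.lift_snd, q2])⟩

/-- restriction along `c` -/
theorem IsTau.res {T T' : Over S} {q : (yon S).obj T ⟶ X} {q' : (yon S).obj T' ⟶ X} {a b : T ⟶ U} {a' b' : T' ⟶ U}
    {ha : (yon S).map a ≫ p = q} {hb : (yon S).map b ≫ p = q} {m}
    (h : IsTau (f := f) (ν := ν) (g' := g') q a b ha hb m) (c : T' ⟶ T) (ea : c ≫ a = a') (eb : c ≫ b = b')
    (ha' : (yon S).map a' ≫ p = q') (hb' : (yon S).map b' ≫ p = q') :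
    IsTau (f := f) (ν := ν) (g' := g') q' a' b' ha' hb'
      (pullback.lift (pullback.fst _ _) (pullback.snd _ ((yon S).map a') ≫ (yon S).map c)
        (by rw [Category.assoc, ← Functor.map_comp, ea, pullback.condition]) ≫ m) := by
  have hq : (yon S).map c ≫ q = q' := by rw [← ha, ← ha', ← ea, Functor.map_comp, Category.assoc]
  refine ⟨by rw [Category.assoc, h.1, pullback.lift_snd_assoc, Category.assoc, ← Functor.map_comp, eb],
    fun k q1 q2 => ?_⟩
  let yc : pullback f q' ⟶ pullback f q := pullback.lift (pullback.fst _ _) (pullback.snd _ _ ≫ (yon S).map c)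
    (by rw [Category.assoc, hq, pullback.condition])
  have ya : ∀ {d : T ⟶ U} {d' : T' ⟶ U} (hd : (yon S).map d ≫ p = q) (hd' : (yon S).map d' ≫ p = q'),
      c ≫ d = d' → yc ≫ yTo (f := f) d hd = yTo d' hd' := fun {d d'} hd hd' e => by
    refine pullback.hom_ext ?_ ?_
    · simp [yTo, yc]
    · simp [yTo, yc, ← e]
  obtain ⟨k₀, e1, e2⟩ := exists_k H a ha
  have : k ≫ pullback.lift (pullback.fst _ _) (pullback.snd _ ((yon S).map a') ≫ (yon S).map c)
        (by rw [Category.assoc, ← Functor.map_comp, ea, pullback.condition]) = yc ≫ k₀ := by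
    refine pullback.hom_ext ?_ ?_ <;> refine (Category.assoc _ _ _).trans (Eq.trans ?_ (Category.assoc _ _ _).symm)
    · rw [pullback.lift_fst, q1, e1, ← Category.assoc, ya ha ha' ea]
    · rw [pullback.lift_snd, e2, pullback.lift_snd, reassoc_of% q2]
  rw [← Category.assoc, this, Category.assoc, h.2 k₀ e1 e2, ← Category.assoc, ya hb hb' eb]

theorem exists_locNorm_descent (hX : IsAlgSpace X) (hY : IsAlgSpace Y) (hpe : RepWith @Etale p)
    (hps : RepWith @Surjective p) :
    ∃ (X' : Sp S) (νX : X' ⟶ X) (fX : Y ⟶ X'), IsAlgSpace X' ∧ LocNorm f νX fX := by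
  haveI : IsRegularEpiCategory (Sp S) :=
    inferInstanceAs (IsRegularEpiCategory (Sheaf (J S) (Type (u + 1))))
  obtain ⟨R, s, t₀, sqR₀, hs⟩ := exists_yon_of_repWith hpe p
  haveI : Etale s.left := hs
  obtain ⟨t, rfl⟩ := (yon S).map_surjective t₀
  have sqR : IsPullback ((yon S).map t) ((yon S).map s) p p := sqR₀
  have hte : Etale t.left := (repWith_yon_map_iff _ t).1 (RepWith.baseChange sqR.flip hpe)
  have hR := isEqvRel_of_isPullback sqR
  let q : (yon S).obj R ⟶ X := (yon S).map s ≫ p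
  have hqs : (yon S).map s ≫ p = q := rfl
  have hqt : (yon S).map t ≫ p = q := sqR.w
  obtain ⟨m₀, hm₀, -⟩ := existsUnique_tau H q s t hqs hqt inferInstance
  obtain ⟨m₁, hm₁, -⟩ := existsUnique_tau H q t s hqt hqs inferInstance
  obtain ⟨R', ns, s₀, sqS₀, -⟩ := exists_yon_of_repWith H.int ((yon S).map s)
  obtain ⟨s', rfl⟩ := (yon S).map_surjective s₀
  let eR := sqS₀.isoPullback
  obtain ⟨t', ht'⟩ := (yon S).map_surjective (eR.hom ≫ m₀)
  -- the two compositions are trivial
  have hfl : ∀ {a b : R ⟶ U} {ha : (yon S).map a ≫ p = q} {hb : (yon S).map b ≫ p = q} {m m'},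
      Smooth a.left → (h : IsTau (f := f) (ν := ν) (g' := g') q a b ha hb m) →
      (h' : IsTau (f := f) (ν := ν) (g' := g') q b a hb ha m') →
      pullback.lift m (pullback.snd _ _) h.1 ≫ pullback.lift m' (pullback.snd _ _) h'.1 = 𝟙 _ := by
    intro a b ha hb m m' hsm h h'
    refine pullback.hom_ext ?_ ?_
    · rw [Category.assoc, pullback.lift_fst, Category.id_comp]
      exact (existsUnique_tau H q a a ha ha hsm).unique (h.comp h') (isTau_refl q a ha)
    · simp
  let eT : pullback ((yon S).map ν) ((yon S).map s) ≅ pullback ((yon S).map ν) ((yon S).map t) :=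
    ⟨pullback.lift m₀ (pullback.snd _ _) hm₀.1, pullback.lift m₁ (pullback.snd _ _) hm₁.1,
      hfl inferInstance hm₀ hm₁, hfl inferInstance hm₁ hm₀⟩
  have sqT : IsPullback ((yon S).map t') ((yon S).map ns) ((yon S).map ν) ((yon S).map t) :=
    (IsPullback.of_hasPullback _ _).of_iso (eR ≪≫ eT).symm (Iso.refl _) (Iso.refl _) (Iso.refl _)
      (by
        simp [eT, eR, ht']
        exact ((existsUnique_tau H q t t hqt hqt inferInstance).unique (hm₁.comp hm₀) (isTau_refl q t hqt)).symm)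
      (by simp [eT, eR]) (by simp) (by simp)
  have hs' : Etale s'.left := (repWith_yon_map_iff _ s').1 (RepWith.baseChange sqS₀.flip ((repWith_yon_map_iff _ s).2 hs))
  have ht'e : Etale t'.left := (repWith_yon_map_iff _ t').1 (RepWith.baseChange sqT.flip ((repWith_yon_map_iff _ t).2 hte))
  -- points of the relation
  have hrel : ∀ {T : Over S} (x y : T ⟶ N), (∃ r : T ⟶ R', r ≫ s' = x ∧ r ≫ t' = y) ↔
      ∃ (ρ : T ⟶ R) (hρ : ρ ≫ s = x ≫ ν),
        pullback.lift ((yon S).map x) ((yon S).map ρ) (by rw [← Functor.map_comp, ← Functor.map_comp, hρ]) ≫ m₀ =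
          (yon S).map y := by
    intro T x y
    constructor
    · rintro ⟨r, rfl, rfl⟩
      refine ⟨r ≫ ns, (yon S).map_injective (by simp [← sqS₀.w]), ?_⟩
      rw [(yon S).map_comp r t', ht']
      refine Eq.trans ?_ (Category.assoc _ _ _)
      congr 1
      refine pullback.hom_ext ?_ ?_ <;> simp [eR]
    · rintro ⟨ρ, hρ, e⟩
      have w : (yon S).map x ≫ (yon S).map ν = (yon S).map ρ ≫ (yon S).map s := by
        rw [← Functor.map_comp, ← Functor.map_comp, hρ]
      obtain ⟨r, hr⟩ := (yon S).map_surjective (sqS₀.lift _ _ w)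
      refine ⟨r, (yon S).map_injective (by rw [Functor.map_comp, hr, sqS₀.lift_fst]), (yon S).map_injective ?_⟩
      rw [Functor.map_comp, hr, ht', ← e, ← Category.assoc]
      congr 1
      refine pullback.hom_ext ?_ ?_ <;> simp [eR]
  have hνt : ∀ {T : Over S} (r : T ⟶ R'), r ≫ t' ≫ ν = r ≫ ns ≫ t := fun r => by
    rw [show t' ≫ ν = ns ≫ t from (yon S).map_injective (by simpa using sqT.w)]
  have hrefl : ∀ {T : Over S} (x : T ⟶ N) (ρ : T ⟶ R) (h1 : ρ ≫ s = x ≫ ν), ρ ≫ t = x ≫ ν →
      pullback.lift ((yon S).map x) ((yon S).map ρ) (by rw [← Functor.map_comp, ← Functor.map_comp, h1]) ≫ m₀ =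
        (yon S).map x := by
    intro T x ρ h1 h2
    obtain ⟨e, he1, he2⟩ := (hR.equivalence U).refl (𝟙 U)
    have hρ : ρ = x ≫ ν ≫ e := hR.injective T _ _ (by simp [h2, he1]) (by simp [h1, he2])
    have hu := (existsUnique_tau H p (𝟙 U) (𝟙 U) (by simp) (by simp) (inferInstanceAs (Smooth (𝟙 U.left)))).unique
      (hm₀.res H e he2 he1 (by simp) (by simp)) (isTau_refl p (𝟙 U) (by simp))
    have l : pullback.lift ((yon S).map x) ((yon S).map ρ) (by rw [← Functor.map_comp, ← Functor.map_comp, h1]) =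
        pullback.lift ((yon S).map x) ((yon S).map (x ≫ ν)) (by simp) ≫
          pullback.lift (pullback.fst ((yon S).map ν) ((yon S).map (𝟙 U))) (pullback.snd _ _ ≫ (yon S).map e)
            (by rw [Category.assoc, ← Functor.map_comp, he2, pullback.condition]) := by
      refine pullback.hom_ext ?_ ?_ <;> simp [hρ]
    rw [l, Category.assoc, hu, pullback.lift_fst]
  have hsymm : ∀ {T : Over S} {x y : T ⟶ N}, (∃ r : T ⟶ R', r ≫ s' = x ∧ r ≫ t' = y) →
      ∃ r : T ⟶ R', r ≫ s' = y ∧ r ≫ t' = x := by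
    intro T x y h
    obtain ⟨ρ, h1, e⟩ := (hrel x y).1 h
    obtain ⟨inv, i1, i2⟩ := (hR.equivalence R).symm ⟨𝟙 R, Category.id_comp t, Category.id_comp s⟩
    have hu := (existsUnique_tau H q s s hqs hqs inferInstance).unique
      (hm₀.comp (hm₀.res H inv i2 i1 hqt hqs)) (isTau_refl q s hqs)
    have h2 : ρ ≫ t = y ≫ ν := (yon S).map_injective (by
      rw [Functor.map_comp, Functor.map_comp, ← e, Category.assoc, hm₀.1, pullback.lift_snd_assoc])
    refine (hrel y x).2 ⟨ρ ≫ inv, by rw [Category.assoc, i2, h2], ?_⟩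
    have := congrArg (pullback.lift ((yon S).map x) ((yon S).map ρ)
      (by rw [← Functor.map_comp, ← Functor.map_comp, h1]) ≫ ·) hu
    simp only [pullback.lift_fst] at this
    conv_rhs => rw [← this]
    simp only [← Category.assoc]
    congr 1
    refine pullback.hom_ext ?_ ?_
    · simp [e]
    · simp
  obtain ⟨R₃, c₂, c₁₀, sq₃₀, hc₂⟩ := exists_yon_of_repWith
    (((repWith_yon_map_iff @Etale s).2 hs)) ((yon S).map t)
  obtain ⟨c₁, rfl⟩ := (yon S).map_surjective c₁₀
  have htrans : ∀ {T : Over S} {x y z : T ⟶ N}, (∃ r : T ⟶ R', r ≫ s' = x ∧ r ≫ t' = y) →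
      (∃ r : T ⟶ R', r ≫ s' = y ∧ r ≫ t' = z) → ∃ r : T ⟶ R', r ≫ s' = x ∧ r ≫ t' = z := by
    intro T x y z h h'
    obtain ⟨ρ, h1, e⟩ := (hrel x y).1 h
    obtain ⟨ρ', h1', e'⟩ := (hrel y z).1 h'
    have h2 : ρ ≫ t = y ≫ ν := (yon S).map_injective (by
      rw [Functor.map_comp, Functor.map_comp, ← e, Category.assoc, hm₀.1, pullback.lift_snd_assoc])
    -- `c₂` is the first and `c₁` the second relation
    have w3 : c₁ ≫ s = c₂ ≫ t := (yon S).map_injective (by simpa using sq₃₀.w)
    obtain ⟨c₃, k1, k2⟩ := (hR.equivalence R₃).trans ⟨c₁, rfl, w3⟩ ⟨c₂, rfl, rfl⟩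
    let q₃ : (yon S).obj R₃ ⟶ X := (yon S).map (c₂ ≫ s) ≫ p
    have hb : (yon S).map (c₁ ≫ s) ≫ p = q₃ := by
      simp only [q₃, w3, Functor.map_comp, Category.assoc, sqR.w]
    have hd : (yon S).map (c₁ ≫ t) ≫ p = q₃ := by
      rw [← hb]; simp only [Functor.map_comp, Category.assoc, sqR.w]
    haveI : Etale c₂.left := hc₂
    have hsm : Smooth (c₂ ≫ s).left := by
      show Smooth (c₂.left ≫ s.left); infer_instance
    have hu := (existsUnique_tau H q₃ (c₂ ≫ s) (c₁ ≫ t) rfl hd hsm).unique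
      ((hm₀.res H c₂ rfl w3.symm rfl hb).comp (hm₀.res H c₁ rfl rfl hb hd))
      (hm₀.res H c₃ k2 k1 rfl hd)
    obtain ⟨σ, hσ⟩ := (yon S).map_surjective (sq₃₀.lift ((yon S).map ρ') ((yon S).map ρ)
      (by rw [← Functor.map_comp, ← Functor.map_comp, h1', h2]))
    have σ1 : σ ≫ c₁ = ρ' := (yon S).map_injective (by rw [Functor.map_comp, hσ, sq₃₀.lift_fst])
    have σ2 : σ ≫ c₂ = ρ := (yon S).map_injective (by rw [Functor.map_comp, hσ, sq₃₀.lift_snd])
    refine (hrel x z).2 ⟨σ ≫ c₃, by rw [Category.assoc, k2, ← Category.assoc, σ2, h1], ?_⟩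
    have := congrArg (pullback.lift (f := (yon S).map ν) (g := (yon S).map (c₂ ≫ s)) ((yon S).map x) ((yon S).map σ)
      (by rw [← Functor.map_comp, ← Functor.map_comp, ← Category.assoc, σ2, h1]) ≫ ·) hu
    simp only [← Category.assoc] at this ⊢
    rw [← e']
    refine Eq.trans ?_ (this.symm.trans ?_)
    · congr 1
      refine pullback.hom_ext ?_ ?_ <;> simp
    · congr 1
      refine pullback.hom_ext ?_ ?_
      · simp only [Category.assoc, pullback.lift_fst]
        rw [← e]
        simp only [← Category.assoc]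
        congr 1
        refine pullback.hom_ext ?_ ?_ <;> simp [← σ2]
      · simp [← σ1]
  have hEqv : IsEqvRel s' t' := by
    refine ⟨fun T r r' e1 e2 => ?_, fun T => ?_⟩
    · have en : r ≫ ns = r' ≫ ns := hR.injective T _ _
        (by rw [Category.assoc, Category.assoc, ← hνt, ← hνt, reassoc_of% e1])
        (by
          have : s' ≫ ν = ns ≫ s := (yon S).map_injective (by simpa using sqS₀.w)
          rw [Category.assoc, Category.assoc, ← this, reassoc_of% e2])
      exact (yon S).map_injective (sqS₀.hom_ext (by simp only [← Functor.map_comp, e2])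
        (by simp only [← Functor.map_comp, en]))
    · refine ⟨fun a => ?_, fun {a b} ⟨r, e1, e2⟩ => ?_, fun {a b d} ⟨r, e1, e2⟩ ⟨r', e1', e2'⟩ => ?_⟩
      · obtain ⟨ρ, e1, e2⟩ := (hR.equivalence T).refl (a ≫ ν)
        obtain ⟨r, h1, h2⟩ := (hrel a a).2 ⟨ρ, e2, hrefl a ρ e2 e1⟩
        exact ⟨r, h2, h1⟩
      · obtain ⟨r', h1, h2⟩ := hsymm ⟨r, e2, e1⟩
        exact ⟨r', h2, h1⟩
      · obtain ⟨r'', h1, h2⟩ := htrans ⟨r', e2', e1'⟩ ⟨r, e2, e1⟩
        exact ⟨r'', h2, h1⟩
  have hEt : IsEtaleEqvRel s' t' := ⟨hEqv, hs', ht'e⟩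
  have hX' := isAlgSpace_quotSp hEt
  have hpres := isPresentation_quotSp hEt
  let π := quotSpπ ((yon S).map s') ((yon S).map t')
  haveI : Epi π := epi_of_etale_surjective hpres.etale hpres.surjective
  let νX : quotSp ((yon S).map s') ((yon S).map t') ⟶ X := quotSpDesc ((yon S).map ν ≫ p) (by
    rw [← Category.assoc, ← Category.assoc, sqS₀.w, sqT.w, Category.assoc, Category.assoc, sqR.w])
  have hπ : π ≫ νX = (yon S).map ν ≫ p := quotSpπ_desc _ _ _ _
  -- the square over the chart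
  have s1 : IsPullback ((yon S).map t') ((yon S).map ns ≫ (yon S).map s) (π ≫ νX) p := by
    rw [hπ]; exact (sqT.flip.paste_horiz sqR.flip).flip
  have sqP := IsPullback.of_hasPullback νX p
  let σ : (yon S).obj N ⟶ pullback νX p := pullback.lift π ((yon S).map ν) hπ
  let q' : (yon S).obj R' ⟶ pullback νX p :=
    pullback.lift ((yon S).map t' ≫ π) ((yon S).map ns ≫ (yon S).map s) (by rw [Category.assoc]; exact s1.w)
  have sqq : IsPullback ((yon S).map t') q' π (pullback.fst νX p) :=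
    IsPullback.of_bot (by rw [pullback.lift_snd]; exact s1) (pullback.lift_fst _ _ _).symm sqP
  haveI : Epi q' := epi_of_etale_surjective (RepWith.baseChange sqq hpres.etale) (RepWith.baseChange sqq hpres.surjective)
  have hq' : (yon S).map s' ≫ σ = q' := pullback.hom_ext
    (by rw [Category.assoc, pullback.lift_fst, pullback.lift_fst]; exact quotSp_condition _ _)
    (by rw [Category.assoc, pullback.lift_snd, pullback.lift_snd]; exact sqS₀.w)
  haveI : Epi ((yon S).map s' ≫ σ) := by rw [hq']; infer_instance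
  haveI : Epi σ := epi_of_epi ((yon S).map s') σ
  haveI : Mono σ := ⟨fun {Z} a b h => hom_ext_of_yon fun T z => by
    have h1 := congrArg (z ≫ · ≫ pullback.fst νX p) h
    have h2 := congrArg (z ≫ · ≫ pullback.snd νX p) h
    simp only [σ, Category.assoc, pullback.lift_fst, pullback.lift_snd] at h1 h2
    obtain ⟨x, hx⟩ := (yon S).map_surjective (z ≫ a)
    obtain ⟨y, hy⟩ := (yon S).map_surjective (z ≫ b)
    rw [← Category.assoc z a, ← hx, ← Category.assoc z b, ← hy] at h1 h2
    obtain ⟨r, hr1, hr2⟩ := (exists_of_isPullback_yon hpres.isPullback x y).1 h1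
    obtain ⟨ρ, e1, e⟩ := (hrel y x).1 ⟨r, hr2, hr1⟩
    have e2 : ρ ≫ t = x ≫ ν := (yon S).map_injective (by
      rw [Functor.map_comp, Functor.map_comp, ← e, Category.assoc, hm₀.1, pullback.lift_snd_assoc])
    have hxy : x ≫ ν = y ≫ ν := (yon S).map_injective (by rw [Functor.map_comp, Functor.map_comp]; exact h2)
    rw [← hx, ← hy]
    exact (e.symm.trans (hrefl y ρ e1 (e2.trans hxy)))⟩
  haveI : IsIso σ := isIso_of_mono_of_epi σ
  have sqN : IsPullback π ((yon S).map ν) νX p :=
    IsPullback.of_iso_pullback ⟨hπ⟩ (asIso σ) (pullback.lift_fst _ _ _) (pullback.lift_snd _ _ _)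
  -- the map from the source
  haveI : Epi (pullback.fst f p) := epi_of_etale_surjective
    (RepWith.baseChange (IsPullback.of_hasPullback f p).flip hpe) (RepWith.baseChange (IsPullback.of_hasPullback f p).flip hps)
  haveI : IsRegularEpi (pullback.fst f p) := IsRegularEpiCategory.regularEpiOfEpi _
  let fX : Y ⟶ quotSp ((yon S).map s') ((yon S).map t') :=
    EffectiveEpi.desc (pullback.fst f p) (g' ≫ π) fun {Z} g₁ g₂ hg => by
      let ρ := sqR.lift (g₁ ≫ pullback.snd f p) (g₂ ≫ pullback.snd f p) (by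
        rw [Category.assoc, Category.assoc, ← pullback.condition, reassoc_of% hg])
      let y : Z ⟶ pullback f q := pullback.lift (g₂ ≫ pullback.fst f p) ρ (by
        simp only [q, Category.assoc, ρ, sqR.lift_snd_assoc, pullback.condition])
      have y1 : y ≫ yTo t hqt = g₁ := pullback.hom_ext (by simp [y, yTo, hg]) (by simp [y, yTo, ρ])
      have y2 : y ≫ yTo s hqs = g₂ := pullback.hom_ext (by simp [y, yTo]) (by simp [y, yTo, ρ])
      obtain ⟨k, k1, k2⟩ := exists_k H s hqs
      rw [← y1, ← y2]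
      simp only [Category.assoc]
      rw [← reassoc_of% hm₀.2 k k1 k2, ← reassoc_of% k1]
      have et : m₀ = eR.inv ≫ (yon S).map t' := by rw [ht', Iso.inv_hom_id_assoc]
      have es : pullback.fst _ _ = eR.inv ≫ (yon S).map s' := (sqS₀.isoPullback_inv_fst).symm
      rw [et, es, Category.assoc, Category.assoc]
      congr 3
      exact (quotSp_condition _ _).symm
  have hfX : pullback.fst f p ≫ fX = g' ≫ π := EffectiveEpi.fac _ _ _
  have hfac : fX ≫ νX = f := by
    rw [← cancel_epi (pullback.fst f p), reassoc_of% hfX, hπ, reassoc_of% H.fac, pullback.condition]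
  have hflat : LocP @Flat p ∧ LocP @LocallyOfFinitePresentation p :=
    ⟨locP_of_repWith etLocal_flat (IsAlgSpace.yon_obj U) (RepWith.mono (fun _ _ q (h : Etale q) => (inferInstance : Flat q)) hpe),
      locP_of_repWith etLocal_lfp (IsAlgSpace.yon_obj U) (RepWith.mono (fun _ _ q (h : Etale q) => (inferInstance : LocallyOfFinitePresentation q)) hpe)⟩
  have hcov : IsFppfCover (fun _ : PUnit.{u + 1} => (yon S).obj U) (fun _ => p) :=
    ⟨fun _ => hflat, fun x => ⟨PUnit.unit, surjective_map_of_repWith hps x⟩⟩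
  have hint : RepWith @IsIntegralHom νX := (isIntegralMor_iff_repWith _).1
    ((isLocalOnBase_fpqc_integral (fun _ : PUnit.{u + 1} => (yon S).obj U) (fun _ => p) hX
      (fun _ => IsAlgSpace.yon_obj U) (isFpqcCover_of_isFppfCover hX (fun _ => IsAlgSpace.yon_obj U) hcov) νX hX'
      (fun _ => (yon S).obj N) (fun _ => (yon S).map ν) (fun _ => π) (fun _ => IsAlgSpace.yon_obj N)
      (fun _ => sqN)).2 fun _ => (isIntegralMor_iff_repWith _).2 H.int)
  refine ⟨_, νX, fX, hX', hfac, hint, fun T hT a ha => ?_⟩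
  have trans' : ∀ {T₁ : Over S} (b : (yon S).obj T₁ ⟶ (yon S).obj U), RepWith @Smooth b → UnivAt f νX fX (b ≫ p) := by
    intro T₁ b hb N' Y' nF nS sqN' yF yS sqY' k hk1 hk2
    refine H.univAt b hb (sqN.lift nF (nS ≫ b) (by rw [sqN'.w, Category.assoc])) nS
      (IsPullback.of_right (by rw [sqN.lift_fst]; exact sqN') (sqN.lift_snd _ _ _) sqN)
      (pullback.lift yF (yS ≫ b) (by rw [sqY'.w, Category.assoc])) yS
      (IsPullback.of_right (by rw [pullback.lift_fst]; exact sqY') (pullback.lift_snd _ _ _) (IsPullback.of_hasPullback _ _))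
      k ?_ hk2
    refine sqN.hom_ext ?_ ?_
    · rw [Category.assoc, sqN.lift_fst, hk1, Category.assoc, ← hfX, pullback.lift_fst_assoc]
    · rw [Category.assoc, sqN.lift_snd, reassoc_of% hk2, Category.assoc, H.fac, pullback.lift_snd]
  obtain ⟨T', c, pr, sqT', hc⟩ := exists_yon_of_repWith hpe a
  have hcs : RepWith @Surjective ((yon S).map c) := RepWith.baseChange sqT' hps
  have hce : RepWith @Etale ((yon S).map c) := (repWith_yon_map_iff _ c).2 hc
  have hpr : RepWith @Smooth pr := RepWith.baseChange sqT'.flip ha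
  obtain ⟨R'', w, r₀, sqR'', hw⟩ := exists_yon_of_repWith hce ((yon S).map c)
  refine univAt_of_cover a ((yon S).map c) hce hcs sqR''.flip ?_ ?_
  · rw [← sqT'.w]; exact trans' pr hpr
  · rw [← sqT'.w, ← Category.assoc]
    exact trans' _ (RepWith.comp (RepWith.mono etale_smooth ((repWith_yon_map_iff _ w).2 hw)) hpr)

end descent

theorem exists_locNorm {Y X : Space S} (f : Y ⟶ X) (hqc : IsQuasiCompactMor f.hom) (hqs : IsQuasiSeparatedMor f.hom) :
    ∃ (X' : Space S) (ν : X' ⟶ X) (f' : Y ⟶ X'), LocNorm f.hom ν.hom f'.hom := by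
  obtain ⟨U, p, hpe, hps⟩ := X.property.atlas
  let V : U.left.affineOpens → Over S := fun O => restrictOver U O.1
  haveI : ∀ O, IsAffine (V O).left := fun O => O.2
  let π : sigmaOver V ⟶ U := Over.homMk (Sigma.desc fun O => O.1.ι) (Sigma.hom_ext _ _ fun O => by
    show Sigma.ι (fun O => (V O).left) O ≫ Sigma.desc _ ≫ U.hom = Sigma.ι (fun O => (V O).left) O ≫ Sigma.desc _
    rw [Sigma.ι_desc_assoc, Sigma.ι_desc]
    rfl)
  have hπe : Etale π.left := IsZariskiLocalAtSource.sigmaDesc (P := @Etale) fun O => inferInstanceAs (Etale O.1.ι)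
  have hπs : Surjective π.left := ⟨fun u => by
    obtain ⟨O, hO, hu, -⟩ := exists_isAffineOpen_mem_and_subset (X := U.left) (x := u) (U := ⊤) trivial
    refine ⟨Sigma.ι (fun O => (V O).left) ⟨O, hO⟩ ⟨u, hu⟩, ?_⟩
    show ((Sigma.ι (fun O => (V O).left) ⟨O, hO⟩) ≫ Sigma.desc fun O => O.1.ι) ⟨u, hu⟩ = u
    rw [Sigma.ι_desc]
    rfl⟩
  let p' := (yon S).map π ≫ p
  have hpe' : RepWith @Etale p' := RepWith.comp ((repWith_yon_map_iff _ π).2 hπe) hpe
  have hps' : RepWith @Surjective p' := RepWith.comp ((repWith_yon_map_iff _ π).2 hπs) hps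
  have hYU : IsAlgSpace (pullback f.hom p') :=
    isAlgSpace_pullback (X := Y) (Y := ⟨_, IsAlgSpace.yon_obj _⟩) (Z := X) f.hom p'
  obtain ⟨N, ν, g', H⟩ := exists_locNorm_sigma V hYU (pullback.snd f.hom p')
    (isQuasiCompactMor_of_isPullback Y.property X.property (IsAlgSpace.yon_obj _) (IsPullback.of_hasPullback _ _) hqc)
    (isQuasiSeparatedMor_of_isPullback (IsPullback.of_hasPullback _ _) hqs)
  obtain ⟨X', νX, fX, hX', hH⟩ := exists_locNorm_descent H X.property Y.property hpe' hps'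
  exact ⟨⟨X', hX'⟩, ⟨νX⟩, ⟨fX⟩, hH⟩

end Groth.Agent.AlgSpLib
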