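import Groth.Agent.AlgSpLib.NormCompare
import Groth.Agent.AlgSpLib.MorMore
import Groth.Agent.AlgSpLib.MorQC
import Groth.Agent.AlgSpLib.MorSep
import Groth.Agent.AlgSpLib.LqfScheme
import Groth.Agent.AlgSpLib.FpqcBaseAffine2
import Groth.Agent.S10295
import Groth.Agent.S10300

/-!
Scheme theoretic images in schemes over a relative normalisation: quasi-finite separated ones are open subspaces.
-/

universe u

open CategoryTheory CategoryTheory.Limits AlgebraicGeometry
open AlgSp

noncomputable section

namespace Groth.Agent.AlgSpLib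

set_option backward.isDefEq.respectTransparency.types false
set_option backward.isDefEq.respectTransparency false

variable {S : Scheme.{u}}

/-- the scheme theoretic image over the base -/
def imgOver {U T : Over S} (f : U ⟶ T) : Over S := Over.mk (f.left.imageι ≫ T.hom)

def toImgOver {U T : Over S} (f : U ⟶ T) : U ⟶ imgOver f :=
  Over.homMk f.left.toImage (by
    show f.left.toImage ≫ f.left.imageι ≫ T.hom = U.hom
    rw [Scheme.Hom.toImage_imageι_assoc, Over.w])

def imgOverι {U T : Over S} (f : U ⟶ T) : imgOver f ⟶ T := Over.homMk f.left.imageι rfl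

theorem toImgOver_ι {U T : Over S} (f : U ⟶ T) : toImgOver f ≫ imgOverι f = f :=
  Over.OverMorphism.ext (Scheme.Hom.toImage_imageι _)

/-- morphisms from a scheme theoretic image into a space separated over another are determined by the source -/
theorem hom_eq_of_toImage {U T : Over S} (f : U ⟶ T) {A B : Sp S} {ν : A ⟶ B} (hν : IsSeparatedMor ν)
    {a b : (yon S).obj (imgOver f) ⟶ A} (h : a ≫ ν = b ≫ ν)
    (he : (yon S).map (toImgOver f) ≫ a = (yon S).map (toImgOver f) ≫ b) : a = b := by
  obtain ⟨E, e, fst, sq, he'⟩ := exists_yon_of_repWith (P := @IsClosedImmersion) hν (pullback.lift a b h)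
  haveI : IsClosedImmersion e.left := he'
  have w₁ : fst = (yon S).map e ≫ a := by
    have := congrArg (fun t => t ≫ pullback.fst ν ν) sq.w
    simpa using this
  have w₂ : fst = (yon S).map e ≫ b := by
    have := congrArg (fun t => t ≫ pullback.snd ν ν) sq.w
    simpa using this
  obtain ⟨m, hm⟩ := (yon S).map_surjective (sq.lift ((yon S).map (toImgOver f) ≫ a) ((yon S).map (toImgOver f)) (by
    apply pullback.hom_ext
    · simp
    · simp [he]))
  have hme : m ≫ e = toImgOver f := (yon S).map_injective (by rw [Functor.map_comp, hm, sq.lift_snd])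
  let i : E.left ⟶ T.left := e.left ≫ f.left.imageι
  have hf : m.left ≫ i = f.left := by
    show m.left ≫ e.left ≫ f.left.imageι = _
    rw [← Category.assoc, show m.left ≫ e.left = f.left.toImage from congrArg (fun t => t.left) hme,
      Scheme.Hom.toImage_imageι]
  have hk : i.ker ≤ f.left.imageι.ker := by
    rw [Scheme.IdealSheafData.ker_subschemeι]
    exact (Scheme.Hom.le_ker_comp m.left i).trans (le_of_eq (congrArg Scheme.Hom.ker hf))
  let s := IsClosedImmersion.lift i f.left.imageι hk
  have hs : s ≫ e.left = 𝟙 _ := by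
    rw [← cancel_mono f.left.imageι, Category.assoc, Category.id_comp]
    exact IsClosedImmersion.lift_fac _ _ _
  let s' : imgOver f ⟶ E := Over.homMk s (by
    rw [← Over.w e]
    exact (reassoc_of% hs) _)
  have hs' : s' ≫ e = 𝟙 _ := Over.OverMorphism.ext hs
  have h1 := congrArg (fun t => (yon S).map s' ≫ t) (w₁.symm.trans w₂)
  simpa only [← Functor.map_comp_assoc, hs', CategoryTheory.Functor.map_id, Category.id_comp] using h1

/-- a quasi-finite separated scheme theoretic image over the normalisation is an open subspace -/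
theorem repWith_openImmersion_img {X X' : Space S} {U T : Over S}
    (ρ : (⟨(yon S).obj U, IsAlgSpace.yon_obj U⟩ : Space S) ⟶ X) (ν : X' ⟶ X)
    (f' : (⟨(yon S).obj U, IsAlgSpace.yon_obj U⟩ : Space S) ⟶ X')
    (hn : IsRelNormalization ρ.hom ν.hom f'.hom) (f : U ⟶ T) (p : (yon S).obj T ⟶ X'.obj)
    (hp : RepWith @Etale p) (hpc : RepWith @QuasiCompact p) (hps : IsSeparatedMor p)
    (hf : (yon S).map f ≫ p = f'.hom) :
    RepWith @IsOpenImmersion ((yon S).map (imgOverι f) ≫ p) := by
  let I : Space S := ⟨(yon S).obj (imgOver f), IsAlgSpace.yon_obj _⟩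
  let q : I ⟶ X' := ObjectProperty.homMk ((yon S).map (imgOverι f) ≫ p)
  haveI : IsClosedImmersion (imgOverι f).left := inferInstanceAs (IsClosedImmersion f.left.imageι)
  have hqf : LocP (@LocallyQuasiFinite ⊓ @LocallyOfFiniteType) q.hom :=
    locP_of_repWith etLocal_lqf I.property (RepWith.comp
      ((repWith_yon_map_iff (P := @LocallyQuasiFinite ⊓ @LocallyOfFiniteType) (imgOverι f)).2 ⟨inferInstance, inferInstance⟩)
      (RepWith.mono (fun _ _ g (hg : Etale g) =>
        (⟨locallyQuasiFinite_of_etale g, inferInstance⟩ : (@LocallyQuasiFinite ⊓ @LocallyOfFiniteType : MorphismProperty Scheme.{u}) g)) hp))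
  have hqcr : RepWith @QuasiCompact q.hom :=
    RepWith.comp ((repWith_yon_map_iff (P := @QuasiCompact) (imgOverι f)).2 inferInstance) hpc
  have hqc : IsQuasiCompactMor q.hom := (repWith_quasiCompact_iff I.property X'.property hqcr.1).1 hqcr
  have hsep : IsSeparatedMor q.hom :=
    isSeparatedMor_comp ((isSeparatedMor_yon_map_iff (imgOverι f)).2 inferInstance) hps
  obtain ⟨N, μ, q', hN⟩ := Groth.Agent.S10295.result q hqc (isQuasiSeparatedMor_of_isSeparatedMor hsep)
  have hopen := (Groth.Agent.S10300.result q hqf hqc hsep μ q' hN).1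
  have hμ := (isIntegralMor_iff_repWith _).1 hN.2.1
  have hμν : IsIntegralMor (μ.hom ≫ ν.hom) :=
    (isIntegralMor_iff_repWith _).2 (RepWith.comp hμ ((isIntegralMor_iff_repWith _).1 hn.2.1))
  have hμs : IsSeparatedMor μ.hom := by
    refine repWith_diagonal_of_repWith N.property @IsClosedImmersion hμ.1 fun Z g => ?_
    have : IsIntegralHom (hμ.1.snd g).left := hμ.property_snd g
    exact IsSeparated.diagonal_isClosedImmersion
  have hfq : (yon S).map (toImgOver f) ≫ q.hom = f'.hom := by
    show (yon S).map (toImgOver f) ≫ (yon S).map (imgOverι f) ≫ p = _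
    rw [← Functor.map_comp_assoc, toImgOver_ι, hf]
  obtain ⟨h, ⟨h1, h2⟩, hu⟩ := hn.2.2 N.property (μ.hom ≫ ν.hom) ((yon S).map (toImgOver f) ≫ q'.hom) hμν (by
    rw [Category.assoc, reassoc_of% hN.1, reassoc_of% hfq, hn.1])
  -- the composite back is the identity
  have hid : h ≫ μ.hom = 𝟙 _ := by
    refine (hn.2.2 X'.property ν.hom f'.hom hn.2.1 hn.1).unique ⟨?_, ?_⟩ ⟨Category.comp_id _, Category.id_comp _⟩
    · rw [reassoc_of% h1, hN.1, hfq]
    · rw [Category.assoc, h2]
  have hqh : q.hom ≫ h = q'.hom := hom_eq_of_toImage f hμs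
    (by rw [Category.assoc, hid, Category.comp_id, hN.1])
    (by rw [← Category.assoc, hfq, h1])
  have hid' : μ.hom ≫ h = 𝟙 _ := by
    refine (hN.2.2 N.property μ.hom q'.hom hN.2.1 hN.1).unique ⟨?_, ?_⟩ ⟨Category.comp_id _, Category.id_comp _⟩
    · rw [reassoc_of% hN.1, hqh]
    · rw [Category.assoc, hid, Category.comp_id]
  haveI : IsIso μ.hom := ⟨h, hid', hid⟩
  show RepWith @IsOpenImmersion q.hom
  rw [← hN.1]
  exact RepWith.comp hopen (repWith_of_isIso _ _)

end Groth.Agent.AlgSpLib
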