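import Groth.Agent.AlgSpLib.NormExist
import Groth.Agent.AlgSpLib.NormCompare
import Groth.Agent.AlgSpLib.CodimZeroFibre

/-!
The affine relative normalisation has functions injecting into those of an affine etale chart of the source.
-/

universe u

open CategoryTheory CategoryTheory.Limits AlgebraicGeometry Opposite TensorProduct
open AlgSp

noncomputable section

namespace Groth.Agent.AlgSpLib

set_option backward.isDefEq.respectTransparency.types false
set_option backward.isDefEq.respectTransparency false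

variable {S : Scheme.{u}} {A : Type u} [CommRing A] (sA : Spec (CommRingCat.of A) ⟶ S)

theorem exists_locNorm_affine_inj {Y : Sp S} (hY : IsAlgSpace Y) (f : Y ⟶ (yon S).obj (oU sA))
    (hqc : IsQuasiCompactMor f) (hqs : IsQuasiSeparatedMor f) :
    ∃ (P C : Type u) (_ : CommRing P) (_ : CommRing C) (_ : Algebra A P) (_ : Algebra A C)
      (pV : (yon S).obj (oA sA P) ⟶ Y) (f' : Y ⟶ (yon S).obj (oA sA C)) (φ : C →ₐ[A] P),
      Function.Injective φ ∧ RepWith @Etale pV ∧ RepWith @Surjective pV ∧ pV ≫ f = (yon S).map (oStr sA P) ∧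
      pV ≫ f' = (yon S).map (oMap sA φ) ∧ LocNorm f ((yon S).map (oStr sA C)) f' := by
  haveI : CompactSpace ↥(oU sA).left := inferInstanceAs (CompactSpace ↥(Spec (CommRingCat.of A)))
  haveI : CompactSpace (Points Y) := compactSpace_of_isQuasiCompactMor hqc (g := 𝟙 _) (fst := 𝟙 Y) (snd := f)
    (IsPullback.of_horiz_isIso ⟨by simp⟩)
  obtain ⟨V, p₀, hV, hpe, hps⟩ := exists_affine_chart hY
  haveI := hV
  obtain ⟨v, hv⟩ := (yon S).map_surjective (p₀ ≫ f)
  obtain ⟨P, _, _, iP, hiP⟩ := exists_oA_iso sA v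
  let pV := (yon S).map iP.hom ≫ p₀
  have hVe : RepWith @Etale pV := RepWith.comp ((repWith_yon_map_iff @Etale iP.hom).2 (inferInstanceAs (Etale iP.hom.left))) hpe
  have hVs : RepWith @Surjective pV := RepWith.comp ((repWith_yon_map_iff @Surjective iP.hom).2 (inferInstanceAs (Surjective iP.hom.left))) hps
  have hpV : pV ≫ f = (yon S).map (oStr sA P) := by
    rw [Category.assoc, ← hv, ← Functor.map_comp, hiP]
  obtain ⟨R, w, fst, sqR, -⟩ := exists_yon_of_repWith hVe pV
  -- R is quasi-compact over the product of two copies of the chart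
  have sqD := pullback_map_diagonal_isPullback pV pV f
  have hq : IsPullback ((yon S).map (oMap sA (Algebra.TensorProduct.includeLeft : P →ₐ[A] P ⊗[A] P)))
      ((yon S).map (oMap sA (Algebra.TensorProduct.includeRight : P →ₐ[A] P ⊗[A] P))) (pV ≫ f) (pV ≫ f) := by
    rw [hpV]; exact (isPullback_oA sA).map (yon S)
  let eR := sqR.isoPullback
  obtain ⟨d, hd⟩ := (yon S).map_surjective (eR.hom ≫ pullback.map pV pV (pV ≫ f) (pV ≫ f) (𝟙 _) (𝟙 _) f
    (by simp) (by simp) ≫ hq.isoPullback.inv)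
  have hdq : RepWith @QuasiCompact ((yon S).map d) := by
    rw [hd]
    exact RepWith.comp (repWith_of_isIso _ _) (RepWith.comp (RepWith.baseChange sqD hqs) (repWith_of_isIso _ _))
  haveI : QuasiCompact d.left := (repWith_yon_map_iff _ d).1 hdq
  haveI : CompactSpace ↥R.left := by
    haveI : CompactSpace ↥(oA sA (P ⊗[A] P)).left := inferInstanceAs (CompactSpace ↥(Spec (CommRingCat.of (P ⊗[A] P))))
    exact QuasiCompact.compactSpace_of_compactSpace d.left
  haveI : CompactSpace (Points ((yon S).obj R)) :=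
    compactSpace_points_of_isQuasiCompactSp ⟨R, 𝟙 _, repWith_id _ R, repWith_id _ R, inferInstance⟩
  obtain ⟨R', q, hR', hqe, hqsj⟩ := exists_affine_chart (IsAlgSpace.yon_obj R)
  haveI := hR'
  obtain ⟨q, rfl⟩ := (yon S).map_surjective q
  obtain ⟨E, _, _, iE, hiE⟩ := exists_oA_iso sA (q ≫ d ≫ oStr sA (P ⊗[A] P))
  let e : (yon S).obj (oA sA E) ⟶ pullback pV pV := (yon S).map (iE.hom ≫ q) ≫ eR.hom
  haveI : Epi ((yon S).map q) := epi_of_etale_surjective hqe hqsj
  haveI : Epi e := by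
    simp only [e, Functor.map_comp]
    infer_instance
  have hmap : ∀ (pr : pullback pV pV ⟶ (yon S).obj (oA sA P)), pr ≫ pV = pullback.fst pV pV ≫ pV →
      ∃ r : P →ₐ[A] E, e ≫ pr = (yon S).map (oMap sA r) := by
    intro pr hpr
    obtain ⟨m, hm⟩ := (yon S).map_surjective (e ≫ pr)
    obtain ⟨r, hr⟩ := exists_oMap sA m ((yon S).map_injective (by
      rw [Functor.map_comp, hm, ← hiE, ← hpV, Category.assoc, reassoc_of% hpr]
      simp only [e, Functor.map_comp, Category.assoc, hd, ← hpV]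
      congr 2
      rw [← oMap_str sA (Algebra.TensorProduct.includeLeft : P →ₐ[A] P ⊗[A] P), Functor.map_comp,
        hq.isoPullback_inv_fst_assoc, pullback.lift_fst_assoc, ← hpV]
      simp))
    exact ⟨r, by rw [hr, hm]⟩
  obtain ⟨r₁, he₁⟩ := hmap (pullback.fst pV pV) rfl
  obtain ⟨r₂, he₂⟩ := hmap (pullback.snd pV pV) pullback.condition.symm
  haveI : IsRegularEpiCategory (Sp S) :=
    inferInstanceAs (IsRegularEpiCategory (Sheaf (J S) (Type (u + 1))))
  haveI : Epi pV := epi_of_etale_surjective hVe hVs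
  haveI : IsRegularEpi pV := IsRegularEpiCategory.regularEpiOfEpi pV
  let q := (yon S).map (oMap sA (normIncl r₁ r₂))
  have hq : pullback.fst pV pV ≫ q = pullback.snd pV pV ≫ q := by
    rw [← cancel_epi e, reassoc_of% he₁, reassoc_of% he₂, ← Functor.map_comp, ← Functor.map_comp, oMap_comp,
      oMap_comp, normIncl_eq]
  let f' : Y ⟶ (yon S).obj (oA sA (normRing r₁ r₂)) := EffectiveEpi.desc pV q fun {T} g₁ g₂ h => by
    rw [← pullback.lift_fst g₁ g₂ h, Category.assoc, hq, pullback.lift_snd_assoc]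
  have hf' : pV ≫ f' = q := EffectiveEpi.fac _ _ _
  have hfac : f' ≫ (yon S).map (oStr sA _) = f := by
    rw [← cancel_epi pV, reassoc_of% hf', hpV, ← Functor.map_comp, oMap_str]
  refine ⟨P, normRing r₁ r₂, inferInstance, inferInstance, inferInstance, inferInstance, pV, f', normIncl r₁ r₂,
    fun x y h => Subtype.ext (Subtype.ext h), hVe, hVs, hpV, hf', hfac, (repWith_yon_map_iff _ _).2 ?_, fun T hT a ha => ?_⟩
  · show IsIntegralHom (Spec.map _)
    rw [IsIntegralHom.SpecMap_iff]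
    exact algebraMap_isIntegral_iff.2 inferInstance
  obtain ⟨a₀, rfl⟩ := (yon S).map_surjective a
  obtain ⟨φ, hφ⟩ := Spec.map_surjective (T.left.isoSpec.inv ≫ a₀.left)
  letI := φ.hom.toAlgebra
  have hB : Algebra.Smooth A Γ(T.left, ⊤) := by
    have : Smooth (Spec.map φ) := by
      have : Smooth a₀.left := (repWith_yon_map_iff _ a₀).1 ha
      rw [hφ]; infer_instance
    exact RingHom.smooth_algebraMap.1 ((HasRingHomProperty.Spec_iff (P := @Smooth)).1 this)
  let eT : oA sA Γ(T.left, ⊤) ≅ T := Over.isoMk T.left.isoSpec.symm (by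
    show T.left.isoSpec.inv ≫ T.hom = Spec.map φ ≫ sA
    rw [hφ, Category.assoc]
    exact congrArg (_ ≫ ·) (Over.w a₀).symm)
  refine univAt_of_iso eT ?_
  rw [← Functor.map_comp, show eT.hom ≫ a₀ = oStr sA Γ(T.left, ⊤) from Over.OverMorphism.ext hφ.symm]
  exact univAt_oStr sA f r₁ r₂ pV hVe hVs hpV e he₁ he₂ f' hf' Γ(T.left, ⊤)

theorem exists_injChart {Y N : Space S} {f : Y.obj ⟶ (yon S).obj (oU sA)} {ν : N.obj ⟶ (yon S).obj (oU sA)}
    {f' : Y.obj ⟶ N.obj} (hqc : IsQuasiCompactMor f) (hqs : IsQuasiSeparatedMor f) (H : LocNorm f ν f') :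
    ∃ (P C : Type u) (_ : CommRing P) (_ : CommRing C) (_ : Algebra A P) (_ : Algebra A C)
      (pV : (yon S).obj (oA sA P) ⟶ Y.obj) (e : N.obj ≅ (yon S).obj (oA sA C)) (φ : C →ₐ[A] P),
      Function.Injective φ ∧ Algebra.IsIntegral A C ∧ RepWith @Etale pV ∧ RepWith @Surjective pV ∧
      pV ≫ f = (yon S).map (oStr sA P) ∧
      pV ≫ f' ≫ e.hom = (yon S).map (oMap sA φ) ∧ e.hom ≫ (yon S).map (oStr sA C) = ν := by
  obtain ⟨P, C, _, _, _, _, pV, f₂, φ, hφ, hVe, hVs, hpV, hf₂, H₂⟩ := exists_locNorm_affine_inj sA Y.property f hqc hqs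
  have hn := H.isRelNormalization (IsAlgSpace.yon_obj _)
  have hn₂ := H₂.isRelNormalization (IsAlgSpace.yon_obj _)
  obtain ⟨h, ⟨h1, h2⟩, -⟩ := hn.2.2 (IsAlgSpace.yon_obj _) _ f₂ hn₂.2.1 hn₂.1
  obtain ⟨g, ⟨g1, g2⟩, -⟩ := hn₂.2.2 N.property ν f' hn.2.1 hn.1
  have e1 : h ≫ g = 𝟙 _ := (hn.2.2 N.property ν f' hn.2.1 hn.1).unique
    ⟨by rw [reassoc_of% h1, g1], by rw [Category.assoc, g2, h2]⟩ ⟨Category.comp_id _, Category.id_comp _⟩
  have e2 : g ≫ h = 𝟙 _ := (hn₂.2.2 (IsAlgSpace.yon_obj _) _ f₂ hn₂.2.1 hn₂.1).unique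
    ⟨by rw [reassoc_of% g1, h1], by rw [Category.assoc, h2, g2]⟩ ⟨Category.comp_id _, Category.id_comp _⟩
  refine ⟨P, C, inferInstance, inferInstance, inferInstance, inferInstance, pV, ⟨h, g, e1, e2⟩, φ, hφ, ?_,
    hVe, hVs, hpV, ?_, h2⟩
  · have h : IsIntegralHom (Spec.map (CommRingCat.ofHom (algebraMap A C))) :=
      (repWith_yon_map_iff _ _).1 H₂.int
    rw [IsIntegralHom.SpecMap_iff] at h
    exact algebraMap_isIntegral_iff.1 h
  · show pV ≫ f' ≫ h = _
    rw [h1, hf₂]

end Groth.Agent.AlgSpLib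

namespace Groth.Agent.AlgSpLib

set_option backward.isDefEq.respectTransparency.types false
set_option backward.isDefEq.respectTransparency false

variable {S : Scheme.{u}}

/-- near every point of the normalisation: an affine chart whose functions inject into those of a chart of the source -/
theorem exists_injChart_point {Y X X' : Space S} (f : Y ⟶ X) (hqc : IsQuasiCompactMor f.hom)
    (hqs : IsQuasiSeparatedMor f.hom) (ν : X' ⟶ X) (f' : Y ⟶ X') (hn : IsRelNormalization f.hom ν.hom f'.hom)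
    (x' : Points X'.obj) :
    ∃ (C P : CommRingCat.{u}) (sC : Spec C ⟶ S) (sP : Spec P ⟶ S) (φ : C ⟶ P)
      (cC : (yon S).obj (Over.mk sC) ⟶ X'.obj) (cP : (yon S).obj (Over.mk sP) ⟶ Y.obj) (c : ↥(Spec C))
      (m : Over.mk sP ⟶ Over.mk sC),
      Function.Injective φ.hom ∧ RepWith @Etale cC ∧ RepWith @Etale cP ∧ Points.ofPt cC c = x' ∧
      m.left = Spec.map φ ∧ cP ≫ f'.hom = (yon S).map m ≫ cC := by
  have H := locNorm_of_isRelNormalization f hqc hqs hn
  obtain ⟨U, p, hpe, hps⟩ := X.property.atlas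
  obtain ⟨x₀, hx₀⟩ := surjective_map_of_repWith hps (Points.map ν.hom x')
  obtain ⟨O, hO, hx, -⟩ := exists_isAffineOpen_mem_and_subset (X := U.left) (x := Points.toScheme U x₀) (U := ⊤) trivial
  let sA : Spec Γ(U.left, O) ⟶ S := hO.fromSpec ≫ U.hom
  let ι : oU sA ⟶ U := Over.homMk hO.fromSpec rfl
  let a : (yon S).obj (oU sA) ⟶ X.obj := (yon S).map ι ≫ p
  have hι : IsOpenImmersion ι.left := inferInstanceAs (IsOpenImmersion hO.fromSpec)
  have hae : RepWith @Etale a :=
    RepWith.comp ((repWith_yon_map_iff @Etale ι).2 (inferInstance : Etale ι.left)) hpe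
  obtain ⟨W, w, fst, sq, -⟩ := exists_yon_of_repWith H.int a
  let YT : Space S := ⟨pullback f.hom a,
    isAlgSpace_pullback (X := Y) (Y := ⟨_, IsAlgSpace.yon_obj (oU sA)⟩) (Z := X) f.hom a⟩
  let k : YT.obj ⟶ (yon S).obj W := sq.lift (pullback.fst f.hom a ≫ f'.hom) (pullback.snd f.hom a)
    (by rw [Category.assoc, H.fac, pullback.condition])
  have H' : LocNorm (pullback.snd f.hom a) ((yon S).map w) k := H.baseChange a
    (fun T b hb => RepWith.comp hb (RepWith.mono (fun _ _ q (h : Etale q) => (inferInstance : Smooth q)) hae))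
    sq (IsPullback.of_hasPullback _ _) (sq.lift_fst _ _ _) (sq.lift_snd _ _ _)
  obtain ⟨P, C, _, _, _, _, pV, e, φ, hφ, -, hVe, -, -, hcomp, -⟩ := exists_injChart sA (Y := YT)
    (N := ⟨_, IsAlgSpace.yon_obj W⟩)
    (isQuasiCompactMor_of_isPullback Y.property X.property (IsAlgSpace.yon_obj _) (IsPullback.of_hasPullback f.hom a) hqc)
    (isQuasiSeparatedMor_of_isPullback (IsPullback.of_hasPullback f.hom a) hqs) H'
  have hfst : RepWith @Etale fst := RepWith.baseChange sq.flip hae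
  have hy : Points.map ν.hom x' = Points.map a (Points.ofScheme (oU sA)
      (hO.isoSpec.hom ⟨Points.toScheme U x₀, hx⟩)) := by
    rw [← Points.ofPt_eq_map_ofScheme, ofPt_map, ← hx₀, Points.ofPt_eq_map_ofScheme p]
    congr 1
    refine (Points.ofScheme_toScheme U x₀).symm.trans (congrArg _ ?_)
    have h1 : hO.isoSpec.hom ≫ hO.fromSpec = Scheme.Opens.ι O := hO.isoSpec_hom_fromSpec
    show Points.toScheme U x₀ = (hO.isoSpec.hom ≫ hO.fromSpec) ⟨Points.toScheme U x₀, hx⟩
    rw [h1]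
    rfl
  obtain ⟨z, hz, -⟩ := exists_point_of_isPullback sq hy
  refine ⟨CommRingCat.of C, CommRingCat.of P, _, _, CommRingCat.ofHom φ.toRingHom, e.inv ≫ fst,
    pV ≫ pullback.fst f.hom a, Points.toScheme (oA sA C) (Points.map e.hom z), oMap sA φ, hφ,
    RepWith.comp (repWith_of_isIso _ _) hfst,
    RepWith.comp hVe (RepWith.baseChange (IsPullback.of_hasPullback f.hom a).flip hae), ?_, rfl, ?_⟩
  · rw [Points.ofPt_eq_map_ofScheme]
    erw [Points.ofScheme_toScheme]
    rw [← hz, ← Points.map_comp, ← Category.assoc]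
    simp
  · show (pV ≫ pullback.fst f.hom a) ≫ f'.hom = _
    rw [← hcomp]
    simp [k, sq.lift_fst]

theorem exists_dimZero_over {C P : CommRingCat.{u}} (φ : C ⟶ P) (hφ : Function.Injective φ.hom) (c : ↥(Spec C))
    (hc : ringKrullDim ↥((Spec C).presheaf.stalk c) = 0) :
    ∃ z : ↥(Spec P), Spec.map φ z = c ∧ ringKrullDim ↥((Spec P).presheaf.stalk z) = 0 := by
  have hmin := eq_of_specializes_stalk c hc
  have hp : c.asIdeal ∈ minimalPrimes C := by
    refine ⟨⟨c.2, bot_le⟩, fun q hq hle => ?_⟩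
    have := hmin ⟨q, hq.1⟩ ((PrimeSpectrum.le_iff_specializes (⟨q, hq.1⟩ : PrimeSpectrum C) c).1 hle)
    exact le_of_eq (congrArg PrimeSpectrum.asIdeal this).symm
  obtain ⟨q, hq, hqc⟩ := Ideal.exists_comap_eq_of_mem_minimalPrimes_of_injective hφ c.asIdeal hp
  obtain ⟨z, hz, hzd⟩ := exists_dimZero_generization (U := Spec P) (⟨q, hq⟩ : PrimeSpectrum P)
  refine ⟨z, hmin _ ?_, hzd⟩
  have : Spec.map φ (⟨q, hq⟩ : PrimeSpectrum P) = c := PrimeSpectrum.ext hqc
  rw [← this]
  exact hz.map (Spec.map φ).continuous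

end Groth.Agent.AlgSpLib
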