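import Groth.Agent.AlgSpLib.NormAffineNhd
import Groth.Agent.AlgSpLib.UnivClosedQC
import Groth.Agent.AlgSpLib.OpenFac
import Groth.Agent.AlgSpLib.VCartSpace
import Groth.Agent.FlatMorGeneric.Scheme
import Groth.Agent.Props12.KerReduced
import Groth.Agent.S10049
import Groth.Agent.S10050
import Groth.Agent.S10337

/-!
An algebraic space with a finite cover by a scheme whose fibres lie in affine opens is a scheme.
-/

universe u

open CategoryTheory CategoryTheory.Limits AlgebraicGeometry Opposite Topology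
open AlgSp

noncomputable section

set_option linter.style.haveILetI false

namespace Groth.Agent.AlgSpLib.NormNhd

open Groth.Agent.AlgSpLib

set_option backward.isDefEq.respectTransparency.types false
set_option backward.isDefEq.respectTransparency false

variable {S : Scheme.{u}}

/-- every fibre lies in an affine open -/
def FibAff {X : Sp S} {Y : Over S} (π : (yon S).obj Y ⟶ X) : Prop :=
  ∀ x : Points X, ∃ W : Y.left.Opens, IsAffineOpen W ∧ ∀ y, Points.ofPt π y = x → y ∈ W

theorem fibAff_closed {X : Sp S} {Y Y' : Over S} (π : (yon S).obj Y ⟶ X) (h : FibAff π) {Z : Sp S} (i : Z ⟶ X)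
    (π' : (yon S).obj Y' ⟶ Z) (m : Y' ⟶ Y) [IsClosedImmersion m.left] (w : π' ≫ i = (yon S).map m ≫ π) :
    FibAff π' := fun z => by
  obtain ⟨W, hW, hWz⟩ := h (Points.map i z)
  refine ⟨m.left ⁻¹ᵁ W, hW.preimage m.left, fun y hy => hWz _ ?_⟩
  rw [← hy, Points.map_ofPt, w, ofPt_map]

theorem isClosed_image {X : AlgSp.Space S} {Y : Over S} (π : (yon S).obj Y ⟶ X.obj) (hfin : RepWith @IsFinite π)
    {C : Set ↥Y.left} (hC : IsClosed C) : IsClosed (Points.ofPt π '' C) := by
  have h1 : IsUnivClosedMor π := ChevGen.isUnivClosedMor_of_integral ((isIntegralMor_iff_repWith π).2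
    (RepWith.mono (fun _ _ g (_ : IsFinite g) => (inferInstance : IsIntegralHom g)) hfin))
  have h2 := isClosedMap_of_univClosed X.property h1 _ ((Points.schemeHomeo Y).isClosedMap _ hC)
  rw [Set.image_image] at h2
  convert h2 using 2
  exact Points.ofPt_eq_map_ofScheme π _

theorem isOpenEmbedding_ofPt {X : Sp S} {T : Over S} (j : (yon S).obj T ⟶ X) (hj : RepWith @IsOpenImmersion j) :
    IsOpenEmbedding (Points.ofPt j) := by
  haveI : Mono j := Induct.mono_openImm hj
  refine IsOpenEmbedding.of_continuous_injective_isOpenMap (Points.continuous_ofPt j) (fun a b h => ?_)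
    (isOpenMap_ofPt j (RepWith.mono (fun _ _ g (_ : IsOpenImmersion g) => (inferInstance : Etale g)) hj))
  rw [Points.ofPt_eq_map_ofScheme, Points.ofPt_eq_map_ofScheme] at h
  exact (Points.schemeEquiv T).injective (injective_map_of_mono j h)

/-- a reduced irreducible space with a finite cover by an integral scheme with fibres in affine opens, all whose proper
closed subspaces are schemes, is a scheme -/
theorem isRepresentable_of_integral_cover [QuasiSeparatedSpace ↥S] (X : AlgSp.Space S) {Y : Over S}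
    [IsIntegral Y.left] (π : (yon S).obj Y ⟶ X.obj) (hfin : RepWith @IsFinite π)
    (hsurj : Function.Surjective (Points.ofPt π)) (hfib : FibAff π) {T P : Over S} [IsAffine T.left]
    [IsIntegral T.left] (jT : (yon S).obj T ⟶ X.obj) (hjT : RepWith @IsOpenImmersion jT) (s : P ⟶ T) (t : P ⟶ Y)
    (sqT : IsPullback ((yon S).map t) ((yon S).map s) π jT) [Flat s.left]
    (hmin : ∀ (Z : AlgSp.Space S) (i : Z ⟶ X), RepWith @IsClosedImmersion i.hom → ¬ IsIso i →
      Z.obj.obj.IsRepresentable) :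
    X.obj.obj.IsRepresentable := by
  have hemb := isOpenEmbedding_ofPt jT hjT
  obtain ⟨Z, i, hi⟩ := Groth.Agent.S10192.result X (Set.range (Points.ofPt jT))ᶜ hemb.isOpen_range.isClosed_compl
  have hni : ¬ IsIso i := fun h => by
    haveI : IsIso i.hom := (ObjectProperty.ι AlgSp.IsAlgSpace).map_isIso i
    have hmem : Points.ofPt jT (genericPoint T.left) ∈ Set.range (Points.map i.hom) :=
      ⟨Points.map (inv i.hom) (Points.ofPt jT (genericPoint T.left)), by
        rw [← Points.map_comp, IsIso.inv_hom_id, Points.map_id]⟩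
    rw [hi.2.1] at hmem
    exact hmem ⟨_, rfl⟩
  obtain ⟨G, ⟨eG⟩⟩ := exists_iso_yon_of_isRepresentable (hmin Z i hi.1 hni)
  have hloc : ∀ x : Points X.obj, ∃ (T' : Over S) (j : (yon S).obj T' ⟶ X.obj),
      RepWith @IsOpenImmersion j ∧ x ∈ Set.range (Points.map j) := fun x => by
    by_cases hx : x ∈ Set.range (Points.ofPt jT)
    · obtain ⟨v, rfl⟩ := hx
      exact ⟨T, jT, hjT, _, (Points.ofPt_eq_map_ofScheme jT v).symm⟩
    · rw [← Set.mem_compl_iff, ← hi.2.1] at hx
      obtain ⟨z, rfl⟩ := hx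
      obtain ⟨g, hg⟩ := (Points.schemeEquiv G).surjective (Points.map eG.inv z)
      obtain ⟨_, ⟨O, hO, rfl⟩, hgO, -⟩ :=
        G.left.isBasis_affineOpens.exists_subset_of_mem_open (Set.mem_univ g) isOpen_univ
      let T₂ : Over S := Over.mk (Scheme.Opens.ι O ≫ G.hom)
      let o : T₂ ⟶ G := Over.homMk (Scheme.Opens.ι O)
      haveI : IsAffine T₂.left := hO
      let k : (yon S).obj T₂ ⟶ Z.obj := (yon S).map o ≫ eG.hom
      have hk : RepWith @IsOpenImmersion k := RepWith.comp
        ((repWith_yon_map_iff (P := @IsOpenImmersion) o).2 (inferInstanceAs (IsOpenImmersion (Scheme.Opens.ι O))))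
        (repWith_of_isIso (P := @IsOpenImmersion) eG.hom)
      have hkz : Points.ofPt k (⟨g, hgO⟩ : O) = z := by
        rw [ofPt_map, Points.ofPt_eq_map_ofScheme]
        show Points.map eG.hom (Points.ofScheme G g) = z
        rw [show Points.ofScheme G g = Points.map eG.inv z from hg, ← Points.map_comp, eG.inv_hom_id, Points.map_id]
      obtain ⟨W, hW, hWx⟩ := hfib (Points.map i.hom z)
      obtain ⟨T', j, -, hj, hjx⟩ := exists_affine_nhd X π hfin hsurj jT hjT s t sqT i.hom hi.1 hi.2.1 k hk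
        (Points.map i.hom z) ⟨g, hgO⟩ (by rw [hkz]) W hW hWx
      exact ⟨T', j, hj, hjx⟩
  choose T' j hj hjx using hloc
  obtain ⟨U₀, a, -, has⟩ := X.property.atlas
  obtain ⟨G', ⟨e⟩⟩ := exists_iso_yon_of_openCover (f := fun v : ↥U₀.left => j (Points.ofPt a v))
    (fun v => hj _) fun x => by
      obtain ⟨v, rfl⟩ := surjective_ofPt a has x
      exact ⟨v, hjx _⟩
  exact isRepresentable_of_iso_yon (F := X.obj) e

/-- integral covers and flat loci for reduced irreducible spaces -/
theorem exists_integral_cover [QuasiSeparatedSpace ↥S] (X : AlgSp.Space S) (hqs : IsQuasiSeparatedSp X.obj)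
    (hred : IsReducedSp X.obj) [IrreducibleSpace (Points X.obj)] {Y : Over S}
    (π : (yon S).obj Y ⟶ X.obj) (hfin : RepWith @IsFinite π) (hsurj : Function.Surjective (Points.ofPt π))
    (hfib : FibAff π) :
    ∃ (Y' : Over S) (π' : (yon S).obj Y' ⟶ X.obj) (T P : Over S) (jT : (yon S).obj T ⟶ X.obj) (s : P ⟶ T)
      (t : P ⟶ Y'), IsIntegral Y'.left ∧ RepWith @IsFinite π' ∧ Function.Surjective (Points.ofPt π') ∧ FibAff π' ∧
        IsAffine T.left ∧ IsIntegral T.left ∧ RepWith @IsOpenImmersion jT ∧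
        IsPullback ((yon S).map t) ((yon S).map s) π' jT ∧ Flat s.left := by
  -- an integral open piece
  obtain ⟨X', j, hj, hrep, hdense⟩ := Groth.Agent.S10337.result X (isDecent_of_qsep X.property hqs)
  obtain ⟨T', ⟨e⟩⟩ := exists_iso_yon_of_isRepresentable hrep
  obtain ⟨_, ⟨z', rfl⟩⟩ := hdense.nonempty
  obtain ⟨p, hp⟩ := (Points.schemeEquiv T').surjective (Points.map e.inv z')
  obtain ⟨_, ⟨O, hO, rfl⟩, hpO, -⟩ :=
    T'.left.isBasis_affineOpens.exists_subset_of_mem_open (Set.mem_univ p) isOpen_univ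
  let T : Over S := Over.mk (Scheme.Opens.ι O ≫ T'.hom)
  let o : T ⟶ T' := Over.homMk (Scheme.Opens.ι O)
  haveI : IsAffine T.left := hO
  haveI : Nonempty ↥T.left := ⟨(⟨p, hpO⟩ : O)⟩
  let jT : (yon S).obj T ⟶ X.obj := (yon S).map o ≫ e.hom ≫ j.hom
  have hjT : RepWith @IsOpenImmersion jT := RepWith.comp
    ((repWith_yon_map_iff (P := @IsOpenImmersion) o).2 (inferInstanceAs (IsOpenImmersion (Scheme.Opens.ι O))))
    (RepWith.comp (repWith_of_isIso (P := @IsOpenImmersion) e.hom) hj)
  have hjTe : RepWith @Etale jT :=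
    RepWith.mono (fun _ _ g (_ : IsOpenImmersion g) => (inferInstance : Etale g)) hjT
  haveI : IsReduced T.left := isReduced_chart hred jT hjTe
  have hemb := isOpenEmbedding_ofPt jT hjT
  haveI : PreirreducibleSpace ↥T.left :=
    ⟨by simpa using (PreirreducibleSpace.isPreirreducible_univ (X := Points X.obj)).preimage hemb⟩
  haveI : IrreducibleSpace ↥T.left := { toNonempty := inferInstance }
  haveI : IsIntegral T.left := isIntegral_of_irreducibleSpace_of_isReduced T.left
  -- an integral component of the cover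
  have hξ : closure {Points.ofPt jT (genericPoint T.left)} = (Set.univ : Set (Points X.obj)) := by
    refine Set.univ_subset_iff.1 ?_
    rw [← (hemb.isOpen_range.dense (Set.range_nonempty _)).closure_eq]
    refine closure_minimal ?_ isClosed_closure
    rintro _ ⟨v, rfl⟩
    exact specializes_iff_mem_closure.1 ((genericPoint_specializes v).map hemb.continuous)
  obtain ⟨y₀, hy₀⟩ := hsurj (Points.ofPt jT (genericPoint T.left))
  let C : TopologicalSpace.Closeds Y.left := ⟨closure {y₀}, isClosed_closure⟩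
  let I := Scheme.IdealSheafData.vanishingIdeal C
  let Y' : Over S := Over.mk (I.subschemeι ≫ Y.hom)
  let m : Y' ⟶ Y := Over.homMk I.subschemeι
  haveI : IsClosedImmersion m.left := inferInstanceAs (IsClosedImmersion I.subschemeι)
  have hrm : Set.range m.left = closure {y₀} := by
    show Set.range I.subschemeι = _
    simp [I, C, Scheme.IdealSheafData.range_subschemeι, Scheme.IdealSheafData.coe_support_vanishingIdeal]
  haveI : IrreducibleSpace ↥Y'.left := by
    have hirr : _root_.IsIrreducible (Set.range m.left) := hrm ▸ isIrreducible_singleton.closure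
    have h1 : _root_.IsPreirreducible (Set.univ : Set ↥Y'.left) := by
      intro u v hu hv ⟨a, _, ha⟩ ⟨b, _, hb⟩
      obtain ⟨u', hu', rfl⟩ := m.left.isClosedEmbedding.isInducing.isOpen_iff.1 hu
      obtain ⟨v', hv', rfl⟩ := m.left.isClosedEmbedding.isInducing.isOpen_iff.1 hv
      obtain ⟨_, ⟨w, rfl⟩, hw1, hw2⟩ := hirr.2 u' v' hu' hv' ⟨m.left a, ⟨a, rfl⟩, ha⟩ ⟨m.left b, ⟨b, rfl⟩, hb⟩
      exact ⟨w, trivial, hw1, hw2⟩
    obtain ⟨_, ⟨w, rfl⟩⟩ := hirr.1
    exact { toPreirreducibleSpace := ⟨h1⟩, toNonempty := ⟨w⟩ }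
  haveI : IsReduced Y'.left := Groth.Agent.Props12.isReduced_subscheme_vanishingIdeal C
  haveI : IsIntegral Y'.left := isIntegral_of_irreducibleSpace_of_isReduced Y'.left
  let π' : (yon S).obj Y' ⟶ X.obj := (yon S).map m ≫ π
  have hfin' : RepWith @IsFinite π' :=
    RepWith.comp ((repWith_yon_map_iff (P := @IsFinite) m).2 (inferInstance : IsFinite m.left)) hfin
  have hsurj' : Function.Surjective (Points.ofPt π') := by
    have hc := isClosed_image π' hfin' isClosed_univ
    rw [Set.image_univ] at hc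
    obtain ⟨y₁, hy₁⟩ : y₀ ∈ Set.range m.left := hrm ▸ subset_closure rfl
    have : Set.univ ⊆ Set.range (Points.ofPt π') := by
      rw [← hξ]
      refine closure_minimal ?_ hc
      rw [Set.singleton_subset_iff]
      exact ⟨y₁, by rw [ofPt_map, hy₁, hy₀]⟩
    exact Set.range_eq_univ.1 (Set.univ_subset_iff.1 this)
  have hfib' : FibAff π' := fibAff_closed π hfib (𝟙 _) π' m (Category.comp_id _)
  -- generic flatness
  obtain ⟨Q, w, fst, sq, hw⟩ := exists_yon_of_repWith hfin' jT
  obtain ⟨u', rfl⟩ := (yon S).map_surjective fst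
  haveI : IsFinite w.left := hw
  obtain ⟨U, hU, hflat, -⟩ := Groth.Agent.FlatMorGeneric.exists_dense_flat_lfp w.left
  obtain ⟨v, hv⟩ := hU.nonempty
  obtain ⟨_, ⟨V, hV, rfl⟩, hvV, -⟩ :=
    U.toScheme.isBasis_affineOpens.exists_subset_of_mem_open (Set.mem_univ (⟨v, hv⟩ : U)) isOpen_univ
  let O₂ : T.left.Opens := U.ι ''ᵁ V
  haveI := hflat
  haveI : Flat ((w.left ∣_ U) ∣_ V) := IsZariskiLocalAtTarget.restrict ‹Flat (w.left ∣_ U)› V
  haveI hflat₂ : Flat (w.left ∣_ O₂) :=
    (MorphismProperty.arrow_mk_iso_iff @Flat (morphismRestrictRestrict w.left U V)).1 inferInstance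
  have hO₂ : IsAffineOpen O₂ := hV.image_of_isOpenImmersion U.ι
  let T₁ : Over S := Over.mk (O₂.ι ≫ T.hom)
  let P : Over S := Over.mk ((w.left ⁻¹ᵁ O₂).ι ≫ Q.hom)
  let o₂ : T₁ ⟶ T := Over.homMk O₂.ι
  let pP : P ⟶ Q := Over.homMk (w.left ⁻¹ᵁ O₂).ι
  let s : P ⟶ T₁ := Over.homMk (w.left ∣_ O₂) (by
    show (w.left ∣_ O₂) ≫ O₂.ι ≫ T.hom = (w.left ⁻¹ᵁ O₂).ι ≫ Q.hom
    rw [← Category.assoc, morphismRestrict_ι, Category.assoc, Over.w w])
  haveI : IsAffine T₁.left := hO₂
  haveI : Nonempty ↥T₁.left := ⟨(⟨U.ι ⟨v, hv⟩, ⟨⟨v, hv⟩, hvV, rfl⟩⟩ : O₂)⟩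
  haveI : IsIntegral T₁.left := isIntegral_of_isOpenImmersion O₂.ι
  have sqS := isPullback_over_forget (f := pP) (g := s) (h := w) (i := o₂)
    (isPullback_morphismRestrict w.left O₂).flip
  refine ⟨Y', π', T₁, P, (yon S).map o₂ ≫ jT, s, pP ≫ u', inferInstance, hfin', hsurj', hfib', inferInstance,
    inferInstance, RepWith.comp ((repWith_yon_map_iff (P := @IsOpenImmersion) o₂).2
      (inferInstanceAs (IsOpenImmersion O₂.ι))) hjT, ?_, hflat₂⟩
  rw [Functor.map_comp]
  exact sqS.paste_horiz sq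

/-- **descent of schemes along finite covers**: if all fibres of a finite surjection from a scheme lie in affine
opens, the space is a scheme -/
theorem isRepresentable_of_fibres [QuasiSeparatedSpace ↥S] (X : AlgSp.Space S) (hqc : IsQuasiCompactSp X.obj)
    (hqs : IsQuasiSeparatedSp X.obj) {Y : Over S} (π : (yon S).obj Y ⟶ X.obj)
    (hfin : RepWith @IsFinite π) (hsurj : Function.Surjective (Points.ofPt π)) (hfib : FibAff π) :
    X.obj.obj.IsRepresentable := by
  by_contra hX
  obtain ⟨Z, i, hi, hZ, hmin⟩ := Groth.Agent.S10049.result S X hqc hqs hX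
  have haff : IsAffineMor i.hom := (isAffineMor_iff_repWith _).2
    (RepWith.mono (fun _ _ g (_ : IsClosedImmersion g) => (inferInstance : IsAffineHom g)) hi)
  have hZc : IsQuasiCompactSp Z.obj := OpenFac.isQuasiCompactSp_of_affine X.property haff hqc
  have hZs : IsQuasiSeparatedSp Z.obj := VCart.isQuasiSeparatedSp_of_affineMor haff hqs
  obtain ⟨hred, hirr⟩ := Groth.Agent.S10050.result S Z hZc hZs hZ hmin
  haveI := hirr
  obtain ⟨Q, w, fst, sq, hw⟩ := exists_yon_of_repWith hi π
  haveI : IsClosedImmersion w.left := hw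
  have hfinQ : RepWith @IsFinite fst := RepWith.baseChange sq.flip hfin
  have hsurjQ : Function.Surjective (Points.ofPt fst) := fun z => by
    obtain ⟨y, hy⟩ := hsurj (Points.map i.hom z)
    obtain ⟨c, hc, -⟩ := exists_point_of_isPullback sq (x := z) (y := Points.ofScheme Y y)
      (by rw [← hy, Points.ofPt_eq_map_ofScheme])
    obtain ⟨q, rfl⟩ := (Points.schemeEquiv Q).surjective c
    exact ⟨q, by rw [Points.ofPt_eq_map_ofScheme]; exact hc⟩
  obtain ⟨Y', π', T, P, jT, s, t, hY', hfin', hsurj', hfib', hT, hTi, hjT, sqT, hs⟩ :=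
    exists_integral_cover Z hZs hred fst hfinQ hsurjQ (fibAff_closed π hfib i.hom fst w sq.w)
  haveI := hY'
  haveI := hT
  haveI := hTi
  haveI := hs
  exact hZ (isRepresentable_of_integral_cover Z π' hfin' hsurj' hfib' jT hjT s t sqT hmin)

end Groth.Agent.AlgSpLib.NormNhd
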