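import Groth.Agent.AlgSpLib.NormInj
import Mathlib.FieldTheory.IsSepClosed
import Mathlib.FieldTheory.Separable
import Mathlib.RingTheory.Unramified.LocalRing
import Mathlib.RingTheory.Etale.Basic

/-!
Relative normalisation in a space with a totally disconnected spectrum: idempotents separate the points of the source.
-/

universe u

open CategoryTheory CategoryTheory.Limits AlgebraicGeometry Opposite TensorProduct
open AlgSp

noncomputable section

namespace Groth.Agent.AlgSpLib

set_option backward.isDefEq.respectTransparency.types false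
set_option backward.isDefEq.respectTransparency false

section alg

/-- two field valued points of an etale algebra over a base with separably closed residue fields agree -/
theorem ringHom_eq_of_ker_eq {R P Ω : Type u} [CommRing R] [CommRing P] [Field Ω] [Algebra R P] [Algebra.Etale R P]
    (hres : ∀ p : PrimeSpectrum R, IsSepClosed p.asIdeal.ResidueField) (f g : P →+* Ω)
    (h : f.comp (algebraMap R P) = g.comp (algebraMap R P)) (hk : RingHom.ker f = RingHom.ker g) : f = g := by
  let q := RingHom.ker f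
  haveI : q.IsPrime := RingHom.ker_isPrime f
  let p := q.comap (algebraMap R P)
  haveI : q.LiesOver p := ⟨rfl⟩
  haveI : Algebra.IsUnramifiedAt R q := inferInstance
  letI := Localization.AtPrime.algebraOfLiesOver p q
  haveI : IsSepClosed p.ResidueField := hres ⟨p, inferInstance⟩
  let f₁ : q.ResidueField →+* Ω := Ideal.ResidueField.lift q f le_rfl fun x hx => isUnit_iff_ne_zero.2 hx
  let g₁ : q.ResidueField →+* Ω := Ideal.ResidueField.lift q g (le_of_eq hk) fun x hx =>
    isUnit_iff_ne_zero.2 fun h0 => hx ((le_of_eq hk.symm) h0)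
  letI : Algebra p.ResidueField Ω := (f₁.comp (algebraMap p.ResidueField q.ResidueField)).toAlgebra
  have hcomp : g₁.comp (algebraMap p.ResidueField q.ResidueField) =
      f₁.comp (algebraMap p.ResidueField q.ResidueField) := by
    refine Ideal.ResidueField.ringHom_ext (RingHom.ext fun a => ?_)
    simp only [RingHom.comp_apply, ← IsScalarTower.algebraMap_apply]
    rw [IsScalarTower.algebraMap_apply R P q.ResidueField]
    simp only [f₁, g₁, Ideal.ResidueField.lift_algebraMap]
    exact (RingHom.congr_fun h a).symm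
  let F : q.ResidueField →ₐ[p.ResidueField] Ω := { f₁ with commutes' := fun _ => rfl }
  let G : q.ResidueField →ₐ[p.ResidueField] Ω := { g₁ with commutes' := fun x => RingHom.congr_fun hcomp x }
  have hs : Function.Surjective (algebraMap p.ResidueField q.ResidueField) :=
    IsSepClosed.algebraMap_surjective _ _
  have hFG : f₁ = g₁ := RingHom.ext fun x => by
    obtain ⟨y, rfl⟩ := hs x
    exact (RingHom.congr_fun hcomp y).symm
  refine RingHom.ext fun x => ?_
  have := RingHom.congr_fun hFG (algebraMap P q.ResidueField x)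
  simpa [f₁, g₁] using this

theorem comp_specMap_eq_of_idempotent {X : Scheme.{u}} [IsAffine X] {A P : Type u} [CommRing A] [CommRing P] [Algebra A P]
    (a b : X ⟶ Spec (CommRingCat.of P))
    (hA : a ≫ Spec.map (CommRingCat.ofHom (algebraMap A P)) = b ≫ Spec.map (CommRingCat.ofHom (algebraMap A P)))
    {ε δ : P} (hεε : ε * ε = ε) (hadd : ε + δ = 1) (α : A × A →+* P)
    (hα : ∀ x, α x = algebraMap A P x.1 * ε + algebraMap A P x.2 * δ)
    (hK : ∀ z, a z ∈ PrimeSpectrum.basicOpen ε ↔ b z ∈ PrimeSpectrum.basicOpen ε) :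
    a ≫ Spec.map (CommRingCat.ofHom α) = b ≫ Spec.map (CommRingCat.ofHom α) := by
  rw [← cancel_epi X.isoSpec.inv]
  obtain ⟨u₁, hu₁⟩ := Spec.map_surjective (X.isoSpec.inv ≫ a)
  obtain ⟨u₂, hu₂⟩ := Spec.map_surjective (X.isoSpec.inv ≫ b)
  have e := congrArg (X.isoSpec.inv ≫ ·) hA
  simp only [← Category.assoc, ← hu₁, ← hu₂, ← Spec.map_comp] at e ⊢
  refine congrArg _ (CommRingCat.hom_ext (RingHom.ext fun x => ?_))
  have hA' : ∀ r, u₁.hom (algebraMap A P r) = u₂.hom (algebraMap A P r) := fun r =>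
    RingHom.congr_fun (congrArg CommRingCat.Hom.hom (Spec.map_injective e)) r
  have hε : u₁.hom ε = u₂.hom ε := by
    refine PrimeSpectrum.basicOpen_injOn_isIdempotentElem (IsIdempotentElem.map hεε u₁.hom)
      (IsIdempotentElem.map hεε u₂.hom) (TopologicalSpace.Opens.ext (Set.ext fun z => ?_))
    have := hK (X.isoSpec.inv z)
    have e1 : a (X.isoSpec.inv z) = Spec.map u₁ z := by rw [hu₁]; rfl
    have e2 : b (X.isoSpec.inv z) = Spec.map u₂ z := by rw [hu₂]; rfl
    rw [e1, e2] at this
    exact this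
  show u₁.hom (α x) = u₂.hom (α x)
  have hδ : δ = 1 - ε := by linear_combination hadd
  simp only [hα, hδ, map_add, map_mul, map_sub, map_one, hε, hA']

end alg

variable {S : Scheme.{u}} {A : Type u} [CommRing A] (sA : Spec (CommRingCat.of A) ⟶ S)

theorem not_specializes_of_ne {Y N : Space S} {f : Y.obj ⟶ (yon S).obj (oU sA)} {ν : N.obj ⟶ (yon S).obj (oU sA)}
    {f' : Y.obj ⟶ N.obj} (hqs : IsQuasiSeparatedMor f) (H : LocNorm f ν f')
    {P C : Type u} [CommRing P] [CommRing C] [Algebra A P] [Algebra A C]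
    (pV : (yon S).obj (oA sA P) ⟶ Y.obj) (hVe : RepWith @Etale pV) (hVs : RepWith @Surjective pV)
    (hpV : pV ≫ f = (yon S).map (oStr sA P)) (e : N.obj ≅ (yon S).obj (oA sA C)) (φ : C →ₐ[A] P)
    (hcomp : pV ≫ f' ≫ e.hom = (yon S).map (oMap sA φ)) (he : e.hom ≫ (yon S).map (oStr sA C) = ν)
    [T2Space (PrimeSpectrum P)] (p p' : PrimeSpectrum P)
    (hne : Points.ofPt pV (p : ↥(oA sA P).left) ≠ Points.ofPt pV (p' : ↥(oA sA P).left))
    (c : PrimeSpectrum C) :
    ¬ (PrimeSpectrum.comap φ.toRingHom p ⤳ c ∧ PrimeSpectrum.comap φ.toRingHom p' ⤳ c) := by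
  obtain ⟨R, w, fst, sqR, -⟩ := exists_yon_of_repWith hVe pV
  obtain ⟨t, rfl⟩ := (yon S).map_surjective fst
  -- R is quasi-compact
  have sqD := pullback_map_diagonal_isPullback pV pV f
  have hq : IsPullback ((yon S).map (oMap sA (Algebra.TensorProduct.includeLeft : P →ₐ[A] P ⊗[A] P)))
      ((yon S).map (oMap sA (Algebra.TensorProduct.includeRight : P →ₐ[A] P ⊗[A] P))) (pV ≫ f) (pV ≫ f) := by
    rw [hpV]; exact (isPullback_oA sA).map (yon S)
  obtain ⟨d, hd⟩ := (yon S).map_surjective (sqR.isoPullback.hom ≫ pullback.map pV pV (pV ≫ f) (pV ≫ f) (𝟙 _) (𝟙 _) f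
    (by simp) (by simp) ≫ hq.isoPullback.inv)
  have hdq : RepWith @QuasiCompact ((yon S).map d) := by
    rw [hd]
    exact RepWith.comp (repWith_of_isIso _ _) (RepWith.comp (RepWith.baseChange sqD hqs) (repWith_of_isIso _ _))
  haveI : QuasiCompact d.left := (repWith_yon_map_iff _ d).1 hdq
  haveI : CompactSpace ↥R.left := by
    haveI : CompactSpace ↥(oA sA (P ⊗[A] P)).left := inferInstanceAs (CompactSpace ↥(Spec (CommRingCat.of (P ⊗[A] P))))
    exact QuasiCompact.compactSpace_of_compactSpace d.left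
  have hwe : Etale w.left := (repWith_yon_map_iff _ w).1 (RepWith.baseChange sqR hVe)
  have hte : Etale t.left := (repWith_yon_map_iff _ t).1 (RepWith.baseChange sqR.flip hVe)
  let pt : PrimeSpectrum P → Points Y.obj := fun z => Points.ofPt pV (z : ↥(oA sA P).left)
  have hrel : ∀ x y : PrimeSpectrum P, pt x = pt y ↔ ∃ r : ↥R.left, t.left r = x ∧ w.left r = y :=
    fun x y => ofPt_eq_ofPt_iff sqR _ _
  have hclass : ∀ Z : Set (PrimeSpectrum P), pt ⁻¹' (pt '' Z) = t.left '' (w.left ⁻¹' Z) := fun Z => by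
    ext x
    constructor
    · rintro ⟨y, hy, e⟩
      obtain ⟨r, rfl, rfl⟩ := (hrel x y).1 e.symm
      exact ⟨r, hy, rfl⟩
    · rintro ⟨r, hr, rfl⟩
      exact ⟨_, hr, ((hrel _ _).2 ⟨r, rfl, rfl⟩).symm⟩
  have hclosed : ∀ Z : Set (PrimeSpectrum P), IsClosed Z → IsClosed (pt ⁻¹' (pt '' Z)) := fun Z hZ => by
    rw [hclass]
    exact IsCompact.isClosed (((hZ.preimage w.left.continuous).isCompact).image t.left.continuous)
  -- a saturated clopen containing p' but not p
  have hp' : p' ∈ (pt ⁻¹' (pt '' {p}))ᶜ := by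
    rintro ⟨y, rfl, e⟩
    exact hne e
  obtain ⟨_, ⟨g₀, rfl⟩, hp'g, hg⟩ := PrimeSpectrum.isTopologicalBasis_basic_opens.exists_subset_of_mem_open hp'
    (hclosed _ isClosed_singleton).isOpen_compl
  let K := pt ⁻¹' (pt '' (PrimeSpectrum.basicOpen g₀ : Set (PrimeSpectrum P)))
  have hK : IsClopen K := by
    refine ⟨hclosed _ (PrimeSpectrum.isCompact_basicOpen g₀).isClosed, ?_⟩
    show IsOpen (pt ⁻¹' _)
    rw [hclass]
    exact t.left.isOpenMap _ ((PrimeSpectrum.basicOpen g₀).isOpen.preimage w.left.continuous)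
  have hp'K : p' ∈ K := ⟨p', hp'g, rfl⟩
  have hpK : p ∉ K := by
    rintro ⟨y, hy, ey⟩
    exact hg hy ⟨p, rfl, ey.symm⟩
  obtain ⟨ε, δ, hmul, hadd, hKε⟩ := PrimeSpectrum.isClopen_iff_mul_add.1 hK
  have hεε : ε * ε = ε := by linear_combination ε * hadd - hmul
  let α : (A × A) →ₐ[A] P :=
    { toFun := fun x => algebraMap A P x.1 * ε + algebraMap A P x.2 * δ
      map_one' := by simp [hadd]
      map_zero' := by simp
      map_mul' := fun x y => by
        simp only [Prod.fst_mul, Prod.snd_mul, map_mul]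
        have hδδ : δ * δ = δ := by linear_combination δ * hadd - hmul
        linear_combination (-(algebraMap A P x.1 * algebraMap A P y.1)) * hεε
          - (algebraMap A P x.2 * algebraMap A P y.2) * hδδ
          - (algebraMap A P x.1 * algebraMap A P y.2 + algebraMap A P x.2 * algebraMap A P y.1) * hmul
      map_add' := fun x y => by
        simp only [Prod.fst_add, Prod.snd_add, map_add]
        ring
      commutes' := fun a => by
        show algebraMap A P a * ε + algebraMap A P a * δ = _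
        rw [← mul_add, hadd, mul_one] }
  let q := (yon S).map (oMap sA α)
  haveI : IsRegularEpiCategory (Sp S) :=
    inferInstanceAs (IsRegularEpiCategory (Sheaf (J S) (Type (u + 1))))
  haveI : Epi pV := epi_of_etale_surjective hVe hVs
  haveI : IsRegularEpi pV := IsRegularEpiCategory.regularEpiOfEpi pV
  have htw : (yon S).map t ≫ q = (yon S).map w ≫ q := by
    refine yon_hom_ext_of_cover (fun O : R.left.affineOpens => restrictOverι R O.1) (fun z => ?_) _ _ fun O => ?_
    · obtain ⟨O, hO, hz, -⟩ := exists_isAffineOpen_mem_and_subset (X := R.left) (x := z) (U := ⊤) trivial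
      exact ⟨⟨O, hO⟩, by rw [range_restrictOverι]; exact hz⟩
    · rw [← Functor.map_comp, ← Functor.map_comp, ← Functor.map_comp, ← Functor.map_comp]
      refine congrArg _ (Over.OverMorphism.ext ?_)
      haveI : IsAffine O.1.toScheme := O.2
      have e1 : t ≫ oStr sA P = w ≫ oStr sA P := (yon S).map_injective (by
        rw [Functor.map_comp, Functor.map_comp, ← hpV, reassoc_of% sqR.w])
      have e1' : t.left ≫ Spec.map (CommRingCat.ofHom (algebraMap A P)) =
          w.left ≫ Spec.map (CommRingCat.ofHom (algebraMap A P)) := congrArg (fun m => m.left) e1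
      have key := comp_specMap_eq_of_idempotent (X := O.1.toScheme) (O.1.ι ≫ t.left) (O.1.ι ≫ w.left)
        (by rw [Category.assoc, Category.assoc, e1']) hεε hadd α.toRingHom (fun _ => rfl) (fun z => by
          have hz : pt (t.left (O.1.ι z)) = pt (w.left (O.1.ι z)) := (hrel _ _).2 ⟨O.1.ι z, rfl, rfl⟩
          have : t.left (O.1.ι z) ∈ K ↔ w.left (O.1.ι z) ∈ K := by
            show pt _ ∈ pt '' _ ↔ pt _ ∈ pt '' _
            rw [hz]
          rw [hKε] at this
          exact this)
      simp only [Category.assoc] at key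
      exact key
  let g : Y.obj ⟶ (yon S).obj (oA sA (A × A)) := EffectiveEpi.desc pV q fun {T} g₁ g₂ h => by
    rw [← sqR.lift_fst g₁ g₂ h, Category.assoc, htw, ← Category.assoc, sqR.lift_snd]
  have hg' : pV ≫ g = q := EffectiveEpi.fac _ _ _
  have hgπ : g ≫ (yon S).map (oStr sA (A × A)) = f := by
    rw [← cancel_epi pV, reassoc_of% hg', hpV, ← Functor.map_comp, oMap_str]
  have hint : RepWith @IsIntegralHom ((yon S).map (oStr sA (A × A))) := by
    refine (repWith_yon_map_iff _ _).2 ?_
    show IsIntegralHom (Spec.map _)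
    rw [IsIntegralHom.SpecMap_iff]
    haveI : Module.Finite A (A × A) := inferInstance
    exact algebraMap_isIntegral_iff.2 inferInstance
  obtain ⟨h, ⟨h1, h2⟩, -⟩ := (H.isRelNormalization (IsAlgSpace.yon_obj _)).2.2 (IsAlgSpace.yon_obj _) _ g
    ((isIntegralMor_iff_repWith _).2 hint) hgπ
  obtain ⟨h₀, hh₀⟩ := (yon S).map_surjective (e.inv ≫ h)
  obtain ⟨β, hβ⟩ := exists_oMap sA h₀ ((yon S).map_injective (by
    rw [Functor.map_comp, hh₀, Category.assoc, h2, ← he, e.inv_hom_id_assoc]))
  have hαβ : φ.comp β = α := oMap_injective sA ((yon S).map_injective (by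
    rw [← oMap_comp, Functor.map_comp, ← hcomp, hβ, hh₀]
    simp only [Category.assoc, e.hom_inv_id_assoc, h1, hg', q]))
  rintro ⟨s1, s2⟩
  have hτ : φ (β (1, 0)) = ε := by
    rw [show φ (β (1, 0)) = α (1, 0) from AlgHom.congr_fun hαβ _]
    show algebraMap A P 1 * ε + algebraMap A P 0 * δ = ε
    simp
  have hclo : IsClopen (PrimeSpectrum.basicOpen (β (1, 0)) : Set (PrimeSpectrum C)) :=
    PrimeSpectrum.isClopen_iff_mul_add.2 ⟨β (1, 0), β (0, 1), by rw [← map_mul, show ((1 : A), (0 : A)) * (0, 1) = 0 from Prod.ext (by simp) (by simp), map_zero],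
      by rw [← map_add, show ((1 : A), (0 : A)) + (0, 1) = 1 from Prod.ext (by simp) (by simp), map_one], rfl⟩
  have key : ∀ z : PrimeSpectrum P, PrimeSpectrum.comap φ.toRingHom z ∈ PrimeSpectrum.basicOpen (β (1, 0)) ↔ z ∈ K := fun z => by
    rw [hKε]
    show β (1, 0) ∉ z.asIdeal.comap φ.toRingHom ↔ ε ∉ z.asIdeal
    rw [Ideal.mem_comap, show φ.toRingHom (β (1, 0)) = ε from hτ]
  exact hpK ((key p).1 (s1.mem_open hclo.2 (s2.mem_closed hclo.1 ((key p').2 hp'K))))

end Groth.Agent.AlgSpLib
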