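import Mathlib

/-!
Conjugates through valuation rings of flat integral extensions.
-/

set_option autoImplicit false

universe u

open TensorProduct

noncomputable section

namespace Groth.Agent.AlgSpLib.NormNhd

set_option backward.isDefEq.respectTransparency false
set_option backward.isDefEq.respectTransparency.types false
set_option linter.style.haveILetI false

/-- for a flat integral extension every prime over the centre of a valuation is the centre of an extension of the
valuation -/
theorem exists_conjugate {A B : Type u} [CommRing A] [CommRing B] [Algebra A B] [Module.Flat A B]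
    [Algebra.IsIntegral A B] {M : Type u} [Field M] [IsAlgClosed M] [Algebra A M] (V : ValuationSubring M)
    (hA : ∀ a, algebraMap A M a ∈ V) (P : Ideal B) [P.IsPrime]
    (hP : ∀ a, algebraMap A B a ∈ P ↔ algebraMap A M a ∈ V.nonunits) :
    ∃ φ : B →ₐ[A] M, (∀ b, φ b ∈ V) ∧ ∀ b, b ∈ P ↔ φ b ∈ V.nonunits := by
  letI : Algebra A V := ((algebraMap A M).codRestrict V.toSubring hA).toAlgebra
  haveI : IsScalarTower A V M := IsScalarTower.of_algebraMap_eq fun a => rfl
  let R := V ⊗[A] B
  haveI : Algebra.IsIntegral V R := ⟨fun r => by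
    induction r using TensorProduct.induction_on with
    | zero => exact isIntegral_zero
    | tmul v b =>
      rw [show v ⊗ₜ[A] b = algebraMap V R v * Algebra.TensorProduct.includeRight b by simp [R, Algebra.TensorProduct.algebraMap_apply]]
      refine IsIntegral.mul isIntegral_algebraMap ?_
      exact ((Algebra.IsIntegral.isIntegral (R := A) b).map
        (Algebra.TensorProduct.includeRight : B →ₐ[A] R)).tower_top
    | add x y hx hy => exact hx.add hy⟩
  -- a point over the given ones
  let p : Ideal A := P.comap (algebraMap A B)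
  let κ := IsLocalRing.ResidueField V
  let Ω := AlgebraicClosure κ
  letI : Algebra (A ⧸ p) Ω := (Ideal.Quotient.lift p ((algebraMap κ Ω).comp ((IsLocalRing.residue V).comp
    (algebraMap A V))) fun a ha => by
      have h : algebraMap A V a ∈ IsLocalRing.maximalIdeal V := by
        rw [← ValuationSubring.coe_mem_nonunits_iff]
        exact (hP a).1 ha
      show algebraMap κ Ω (IsLocalRing.residue V (algebraMap A V a)) = 0
      rw [(IsLocalRing.residue_eq_zero_iff _).2 h, map_zero]).toAlgebra
  have hinjΩ : Function.Injective (algebraMap (A ⧸ p) Ω) := by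
    rw [injective_iff_map_eq_zero]
    intro x hx
    obtain ⟨a, rfl⟩ := Ideal.Quotient.mk_surjective x
    have h : algebraMap κ Ω (IsLocalRing.residue V (algebraMap A V a)) = 0 := hx
    rw [map_eq_zero, IsLocalRing.residue_eq_zero_iff, ← ValuationSubring.coe_mem_nonunits_iff] at h
    exact Ideal.Quotient.eq_zero_iff_mem.2 ((hP a).2 h)
  haveI : FaithfulSMul (A ⧸ p) Ω := (faithfulSMul_iff_algebraMap_injective _ _).2 hinjΩ
  haveI : FaithfulSMul (A ⧸ p) (B ⧸ P) :=
    (faithfulSMul_iff_algebraMap_injective _ _).2 Ideal.algebraMap_quotient_injective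
  haveI : Algebra.IsIntegral A (B ⧸ P) := ⟨fun x => by
    obtain ⟨b, rfl⟩ := Ideal.Quotient.mk_surjective x
    exact (Algebra.IsIntegral.isIntegral (R := A) b).map (Ideal.Quotient.mkₐ A P)⟩
  haveI : Algebra.IsIntegral (A ⧸ p) (B ⧸ P) := ⟨fun x => (Algebra.IsIntegral.isIntegral (R := A) x).tower_top⟩
  let χP : (B ⧸ P) →ₐ[A ⧸ p] Ω := IsAlgClosed.lift
  letI : Algebra A Ω := ((algebraMap κ Ω).comp ((IsLocalRing.residue V).comp (algebraMap A V))).toAlgebra
  let χV : V →ₐ[A] Ω := { (algebraMap κ Ω).comp (IsLocalRing.residue V) with commutes' := fun a => rfl }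
  let χB : B →ₐ[A] Ω := { (χP.toRingHom).comp (Ideal.Quotient.mk P) with
    commutes' := fun a => χP.commutes (Ideal.Quotient.mk p a) }
  let χ : R →ₐ[A] Ω := Algebra.TensorProduct.lift χV χB fun _ _ => mul_comm _ _
  let q : Ideal R := RingHom.ker χ.toRingHom
  haveI : q.IsPrime := RingHom.ker_isPrime _
  have hqV : ∀ v : V, algebraMap V R v ∈ q ↔ v ∈ IsLocalRing.maximalIdeal V := fun v => by
    show χ (v ⊗ₜ[A] (1 : B)) = 0 ↔ _
    rw [Algebra.TensorProduct.lift_tmul, map_one, mul_one]
    show algebraMap κ Ω (IsLocalRing.residue V v) = 0 ↔ _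
    rw [map_eq_zero, IsLocalRing.residue_eq_zero_iff]
  have hqB : ∀ b : B, (1 : V) ⊗ₜ[A] b ∈ q ↔ b ∈ P := fun b => by
    show χ ((1 : V) ⊗ₜ[A] b) = 0 ↔ _
    rw [Algebra.TensorProduct.lift_tmul, map_one, one_mul]
    show χP (Ideal.Quotient.mk P b) = 0 ↔ _
    have hχ : Function.Injective χP := by
      rw [injective_iff_map_eq_zero]
      have : RingHom.ker χP.toRingHom = ⊥ := by
        haveI : (RingHom.ker χP.toRingHom).IsPrime := RingHom.ker_isPrime _
        refine Ideal.eq_bot_of_comap_eq_bot (R := A ⧸ p) ?_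
        rw [eq_bot_iff]
        intro x hx
        have : χP (algebraMap (A ⧸ p) (B ⧸ P) x) = 0 := hx
        rw [χP.commutes] at this
        exact hinjΩ (this.trans (map_zero _).symm)
      intro x hx
      exact (Ideal.mem_bot).1 (this.le hx)
    rw [map_eq_zero_iff _ hχ, Ideal.Quotient.eq_zero_iff_mem]
  -- going down
  haveI : q.LiesOver (IsLocalRing.maximalIdeal V) := ⟨Ideal.ext fun v => (hqV v).symm⟩
  haveI : (⊥ : Ideal V).IsPrime := Ideal.isPrime_bot
  obtain ⟨q0, hq0q, hq0, hq0o⟩ := Ideal.exists_ideal_le_liesOver_of_le (R := V) (S := R)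
    (p := ⊥) (q := IsLocalRing.maximalIdeal V) q bot_le
  haveI := hq0
  have hq0V : ∀ v : V, algebraMap V R v ∈ q0 → v = 0 := fun v hv =>
    Ideal.mem_bot.1 ((Ideal.mem_of_liesOver q0 (⊥ : Ideal V) v).2 hv)
  haveI : FaithfulSMul V (R ⧸ q0) := (faithfulSMul_iff_algebraMap_injective _ _).2 (by
    rw [injective_iff_map_eq_zero]
    intro v hv
    exact hq0V v (Ideal.Quotient.eq_zero_iff_mem.1 hv))
  haveI : Algebra.IsIntegral V (R ⧸ q0) := ⟨fun x => by
    obtain ⟨r, rfl⟩ := Ideal.Quotient.mk_surjective x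
    exact (Algebra.IsIntegral.isIntegral (R := V) r).map (Ideal.Quotient.mkₐ V q0)⟩
  haveI : FaithfulSMul V M := (faithfulSMul_iff_algebraMap_injective _ _).2 Subtype.val_injective
  let ψ : (R ⧸ q0) →ₐ[V] M := IsAlgClosed.lift
  have hψ : Function.Injective ψ := by
    rw [injective_iff_map_eq_zero]
    have : RingHom.ker ψ.toRingHom = ⊥ := by
      haveI : (RingHom.ker ψ.toRingHom).IsPrime := RingHom.ker_isPrime _
      refine Ideal.eq_bot_of_comap_eq_bot (R := V) ?_
      rw [eq_bot_iff]
      intro x hx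
      have : ψ (algebraMap V (R ⧸ q0) x) = 0 := hx
      rw [ψ.commutes] at this
      exact Ideal.mem_bot.2 (Subtype.val_injective this)
    intro x hx
    exact (Ideal.mem_bot).1 (this.le hx)
  have hint : ∀ r : R ⧸ q0, ψ r ∈ V := fun r => by
    obtain ⟨v, hv⟩ := (IsIntegrallyClosedIn.isIntegral_iff (R := V)).1
      ((Algebra.IsIntegral.isIntegral (R := V) r).map ψ)
    rw [← hv]
    exact v.2
  let φ : B →ₐ[A] M :=
    { (ψ.toRingHom.comp (Ideal.Quotient.mk q0)).comp (Algebra.TensorProduct.includeRight : B →ₐ[A] R).toRingHom with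
      commutes' := fun a => by
        show ψ (Ideal.Quotient.mk q0 ((1 : V) ⊗ₜ[A] algebraMap A B a)) = _
        rw [← Algebra.TensorProduct.algebraMap_apply']
        exact (ψ.commutes (algebraMap A V a)) }
  refine ⟨φ, fun b => hint _, fun b => ?_⟩
  let v : V := ⟨φ b, hint _⟩
  have hd : (1 : V) ⊗ₜ[A] b - algebraMap V R v ∈ q0 := by
    rw [← Ideal.Quotient.eq]
    exact hψ (show φ b = ψ (algebraMap V (R ⧸ q0) v) by rw [ψ.commutes]; rfl)
  rw [← hqB b, show φ b = ((v : V) : M) from rfl, ValuationSubring.coe_mem_nonunits_iff, ← hqV v]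
  exact ⟨fun h => by simpa using q.sub_mem h (hq0q hd), fun h => by simpa using q.add_mem (hq0q hd) h⟩

end Groth.Agent.AlgSpLib.NormNhd
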