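import Groth.Agent.AlgSpLib.QCohEtPush
import Groth.Prelude.Def_AlgSpPerf

/-!
# Modules attached to modules on an affine object: exactness; cohomology of restrictions
-/

universe u

open CategoryTheory CategoryTheory.Limits AlgebraicGeometry Opposite TensorProduct
open AlgSp

noncomputable section

set_option linter.style.haveILetI false

namespace Groth.Agent.AlgSpLib.QCohEt

set_option backward.isDefEq.respectTransparency.types false
set_option backward.isDefEq.respectTransparency false

/-- cohomology commutes with exact functors -/
def hdMapIso {A : Type*} [Category A] [Abelian A] [HasDerivedCategory A] {B : Type*} [Category B] [Abelian B]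
    [HasDerivedCategory B] (F : A ⥤ B) [F.Additive] [PreservesFiniteLimits F] [PreservesFiniteColimits F]
    (K : DerivedCategory A) (i : ℤ) :
    (DerivedCategory.homologyFunctor B i).obj (F.mapDerivedCategory.obj K) ≅
      F.obj ((DerivedCategory.homologyFunctor A i).obj K) :=
  (DerivedCategory.homologyFunctor B i).mapIso
    (F.mapDerivedCategory.mapIso (DerivedCategory.Q.objObjPreimageIso K).symm ≪≫
      F.mapDerivedCategoryFactors.app (DerivedCategory.Q.objPreimage K)) ≪≫
    (DerivedCategory.homologyFunctorFactors B i).app _ ≪≫
    ((DerivedCategory.Q.objPreimage K).sc i).mapHomologyIso F ≪≫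
    F.mapIso (((DerivedCategory.homologyFunctorFactors A i).app _).symm ≪≫
      (DerivedCategory.homologyFunctor A i).mapIso (DerivedCategory.Q.objObjPreimageIso K))

variable {S : Scheme.{u}} {X : Sp S}

section affine

variable (c : EtOver X) [IsAff c]

theorem preservesMono_L : (L c).PreservesMonomorphisms := ⟨fun {N N'} f hf => by
  have hinj : Function.Injective f := (ModuleCat.mono_iff_injective f).1 hf
  have key : ∀ (W : Over c) [IsAff W.left], Function.Injective (((L c).map f).val.app (op W)) := by
    intro W hW
    have hnat : η N ≫ ((L c).map f).val = (preEquiv N (LObj c N')).symm (f ≫ (adj c).unit.app N') := by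
      refine (preEquiv N (LObj c N')).injective ?_
      rw [Equiv.apply_symm_apply]
      refine (?_ : preEquiv N (LObj c N') (η N ≫ ((L c).map f).val) = LEquiv c N (LObj c N') ((L c).map f)).trans ?_
      · exact congrArg (preEquiv N (LObj c N'))
          ((PresheafOfModules.sheafificationAdjunction (𝟙 ((OEtRing X).over c).obj)).homEquiv_unit (pre (c := c) N)
            (LObj c N') ((L c).map f)).symm
      · exact ((adj c).homEquiv_unit N (LObj c N') ((L c).map f)).trans ((adj c).unit.naturality f).symm
    have he : ∀ x, ((L c).map f).val.app (op W) ((η N).app (op W) x) =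
        (η N').app (op W) (LinearMap.lTensor (ΓE W.left) f.hom x) := by
      intro x
      change (η N ≫ ((L c).map f).val).app (op W) x = _
      rw [hnat]
      induction x using TensorProduct.induction_on with
      | zero => simp
      | tmul a n =>
        rw [LinearMap.lTensor_tmul]
        refine (preDesc_app _ _ W a n).trans ?_
        have h1 : η N' = (preEquiv N' (LObj c N')).symm ((adj c).unit.app N') := by
          refine (preEquiv N' (LObj c N')).injective ?_
          rw [Equiv.apply_symm_apply]
          exact (congrArg (preEquiv N' (LObj c N'))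
            ((PresheafOfModules.sheafificationAdjunction (𝟙 ((OEtRing X).over c).obj)).homEquiv_id
              (pre (c := c) N'))).symm
        rw [h1]
        exact (preDesc_app (c := c) (G := (LObj c N').val) (N := N')
          ⟨⟨fun n => ((adj c).unit.app N') n, map_zero ((adj c).unit.app N').hom⟩,
            map_add ((adj c).unit.app N').hom⟩
          (fun b n => ((adj c).unit.app N').hom.map_smul b n) W a (f n)).symm
      | add x y hx hy => rw [map_add, map_add, map_add, hx, hy]
    haveI : Module.Flat (ΓE c) (ΓE W.left) := flat_ΓMap W.hom
    intro z z' hz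
    obtain ⟨x, rfl⟩ := (bijective_app (η N) W).surjective z
    obtain ⟨x', rfl⟩ := (bijective_app (η N) W).surjective z'
    rw [he, he] at hz
    exact congrArg _ (Module.Flat.lTensor_preserves_injective_linearMap f.hom hinj
      ((bijective_app (η N') W).injective hz))
  haveI : Mono (((L c).map f).val) := PresheafOfModules.mono_of_injective fun {U} z z' hz =>
    eq_of_affine (LObj c N) U.unop z z' fun V v hV => @key V hV _ _
      ((PresheafOfModules.naturality_apply ((L c).map f).val v.op z).trans
        ((congrArg _ hz).trans (PresheafOfModules.naturality_apply ((L c).map f).val v.op z').symm))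
  exact (SheafOfModules.forget _).mono_of_mono_map (inferInstanceAs (Mono (((L c).map f).val)))⟩

omit [IsAff c] in
theorem additive_Γtop : (Γtop c).Additive where
  map_add := by intros; rfl

attribute [instance] additive_Γtop

instance additive_L : (L c).Additive := (adj c).left_adjoint_additive

theorem preservesHomology_L : (L c).PreservesHomology := by
  haveI := preservesMono_L c
  haveI : PreservesFiniteColimits (L c) := inferInstance
  exact (L c).preservesHomology_of_preservesMonos_and_cokernels

theorem essImage_zero {F : SheafOfModules.{u + 1} ((OEtRing X).over c)} (hF : IsZero F) : (L c).essImage F := by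
  haveI : (L c).PreservesZeroMorphisms := Functor.preservesZeroMorphisms_of_isLeftAdjoint _
  exact ⟨ModuleCat.of (ΓE c) PUnit.{u + 2}, ⟨((L c).map_isZero (ModuleCat.isZero_of_subsingleton _)).iso hF⟩⟩

theorem essImage_of_retract {F G : SheafOfModules.{u + 1} ((OEtRing X).over c)} (hG : (L c).essImage G)
    (i : F ⟶ G) (p : G ⟶ F) (h : i ≫ p = 𝟙 F) : (L c).essImage F := by
  have hG' : IsIso ((adj c).counit.app G) := (adj c).isIso_counit_app_iff_mem_essImage.2 hG
  refine (adj c).isIso_counit_app_iff_mem_essImage.1 ?_
  refine ⟨i ≫ inv ((adj c).counit.app G) ≫ (L c).map ((Γtop c).map p), ?_, ?_⟩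
  · rw [← Category.assoc, ← Category.assoc]
    have := (adj c).counit.naturality i
    dsimp at this
    rw [← this, Category.assoc _ _ (inv _), IsIso.hom_inv_id, Category.comp_id, ← Functor.map_comp,
      ← Functor.map_comp, h]
    exact (congrArg _ ((Γtop c).map_id F)).trans ((L c).map_id _)
  · rw [Category.assoc, Category.assoc]
    have := (adj c).counit.naturality p
    dsimp at this
    rw [this, IsIso.inv_hom_id_assoc, h]
    rfl

/-- cohomology of complexes of attached modules is attached -/
theorem essImage_homology (K : CochainComplex (SheafOfModules.{u + 1} ((OEtRing X).over c)) ℤ)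
    (hK : ∀ j, (L c).essImage (K.X j)) (i : ℤ) : (L c).essImage (K.homology i) := by
  haveI := preservesHomology_L c
  haveI : ∀ j, IsIso ((adj c).counit.app (K.X j)) := fun j => (adj c).isIso_counit_app_iff_mem_essImage.2 (hK j)
  let M := ((Γtop c).mapHomologicalComplex (ComplexShape.up ℤ)).obj K
  let e : ((L c).mapHomologicalComplex (ComplexShape.up ℤ)).obj M ≅ K :=
    HomologicalComplex.Hom.isoOfComponents (fun j => asIso ((adj c).counit.app (K.X j)))
      (fun j k _ => ((adj c).counit.naturality (K.d j k)).symm)
  exact ⟨(M.sc i).homology, ⟨((M.sc i).mapHomologyIso (L c)).symm ≪≫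
    (HomologicalComplex.homologyFunctor _ _ i).mapIso e⟩⟩

end affine

section overMap

variable {V W : EtOver X} (g : W ⟶ V)

instance additive_overMap : (SheafOfModules.overMap.{u + 1} (OEtRing X) g).Additive where
  map_add := by intros; rfl

instance preservesFiniteLimits_overMap : PreservesFiniteLimits (SheafOfModules.overMap.{u + 1} (OEtRing X) g) := by
  have h1 : PreservesFiniteLimits (SheafOfModules.overMap (OEtRing X) g ⋙ SheafOfModules.toSheaf.{u + 1} ((OEtRing X).over W)) := by
    rw [show SheafOfModules.overMap (OEtRing X) g ⋙ SheafOfModules.toSheaf.{u + 1} ((OEtRing X).over W) =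
      SheafOfModules.toSheaf.{u + 1} ((OEtRing X).over V) ⋙ (Over.map g).sheafPushforwardContinuous AddCommGrpCat.{u + 1}
        ((etTop X).over W) ((etTop X).over V) from rfl]
    infer_instance
  have h2 : ReflectsFiniteLimits (SheafOfModules.toSheaf.{u + 1} ((OEtRing X).over W)) := inferInstance
  exact preservesFiniteLimits_of_reflects_of_preserves (SheafOfModules.overMap (OEtRing X) g)
    (SheafOfModules.toSheaf.{u + 1} _)

/-- restriction to an affine object over `V` of a summand of a finite free module -/
theorem essImage_overMap_summand [IsAff W] {F : ModEtOn V} (hF : DCoh.IsFinFreeSummandMod (OEtOn V) F) :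
    (L W).essImage ((SheafOfModules.overMap (OEtRing X) g).obj F) := by
  obtain ⟨n, i, p, h⟩ := hF
  let Φ := SheafOfModules.overMap (OEtRing X) g
  refine essImage_of_retract W ?_ (Φ.map i) (Φ.map p) (by rw [← Φ.map_comp, h, Φ.map_id])
  haveI : PreservesColimitsOfSize.{u + 1, u + 1} Φ :=
    (SheafOfModules.overMapPushforwardAdj (OEtRing X) g).leftAdjoint_preservesColimits
  exact Functor.essImage.ofIso (PreservesCoproduct.iso Φ (fun _ : ULift.{u + 1} (Fin n) =>
      SheafOfModules.unit (OEtOn V)) ≪≫ Sigma.mapIso fun _ => SheafOfModules.overMapUnitIso g).symm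
    (essImage_free W (ULift.{u + 1} (Fin n)))

end overMap

end Groth.Agent.AlgSpLib.QCohEt
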