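import Groth.Prelude.Def_AlgSpPerf
import Groth.Agent.AlgSpLib.QCohEtExact
import Groth.Agent.AlgSpLib.QCohEtPush
import Groth.Agent.AlgSpLib.SerreChevVanish

/-!
Perfect objects on quasi-compact algebraic spaces have cohomology bounded above, and the elementary vanishing
following from this by degree.
-/

universe u

open CategoryTheory CategoryTheory.Limits AlgebraicGeometry Opposite
open CategoryTheory.Pretriangulated
attribute [local instance] HasDerivedCategory.standard
open AlgSp

noncomputable section

set_option linter.style.haveILetI false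

namespace Groth.Agent.AlgSpLib.PerfBounded

open Groth.Agent.AlgSpLib Groth.Agent.AlgSpLib.QCohEt Groth.Agent.AlgSpLib.SerreChev

set_option backward.isDefEq.respectTransparency.types false
set_option backward.isDefEq.respectTransparency false

variable {S : Scheme.{u}}

/-- a module with vanishing restriction to a member of a cover has no sections there -/
theorem sec_eq_zero_of_isZero_over {X : Sp S} {M : ModEt X} {V Z : EtOver X} (h : IsZero (M.over V)) (g : Z ⟶ V)
    (s : Sec M Z) : s = 0 := by
  have h1 : IsZero ((SheafOfModules.forget _ ⋙ PresheafOfModules.evaluation _ (op (Over.mk g))).obj (M.over V)) :=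
    Functor.map_isZero _ h
  haveI := ModuleCat.subsingleton_of_isZero h1
  exact @Subsingleton.elim ((SheafOfModules.forget _ ⋙ PresheafOfModules.evaluation _ (op (Over.mk g))).obj
    (M.over V) : Type (u + 1)) _ s 0

/-- vanishing of a module is tested on a jointly surjective family -/
theorem isZero_of_cover {X : Sp S} (hX : IsAlgSpace X) (M : ModEt X) {ι : Type*} (V : ι → EtOver X)
    (hV : ∀ i, IsZero (M.over (V i))) (hc : ∀ x : Points X, ∃ i, x ∈ Set.range (Points.ofPt (V i).obj.hom)) :
    IsZero M := by
  refine isZero_of_forall M fun E hE s => ?_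
  have key : ∀ e : E.obj.left.left, ∃ (W : EtOver X) (g : W ⟶ E) (i : ι) (_ : W ⟶ V i),
      e ∈ Set.range g.hom.left.left := fun e => by
    obtain ⟨i, v, hv⟩ := hc (Points.ofPt E.obj.hom e)
    obtain ⟨W, hW, g, q, w, hg, -⟩ := exists_common_refinement hX hv.symm
    exact ⟨W, g, i, q, w, hg⟩
  choose W g i q hq using key
  refine mapSec_ext M g (fun e => ⟨e, hq e⟩) s 0 fun e => ?_
  rw [map_zero]
  exact sec_eq_zero_of_isZero_over (hV (i e)) (q e) _

/-- perfect objects on quasi-compact spaces are bounded above -/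
theorem exists_isLE {X : AlgSp.Space S} (hXc : IsQuasiCompactSp X.obj) (K : DModEt X.obj) (hK : IsPerfectEtD K) :
    ∃ c : ℤ, K.IsLE c := by
  classical
  haveI := compactSpace_points_of_isQuasiCompactSp hXc
  obtain ⟨T, a, hT, he, hs⟩ := AlgSpLib.exists_affine_chart X.property
  obtain ⟨ι, V, g, hg, hV⟩ := hK (EtOver.mk a he)
  have hop : ∀ j, IsOpen (Set.range (g j).hom.left.left) := fun j => by
    haveI : Etale (g j).hom.left.left := EtOver.etale_left (g j)
    exact (g j).hom.left.left.isOpenMap.isOpen_range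
  obtain ⟨t, ht⟩ := (isCompact_univ (X := T.left)).elim_finite_subcover
    (fun j => Set.range (g j).hom.left.left) hop fun x _ => Set.mem_iUnion.2 ((ofArrows_mem_etPre_iff V g).1 hg x)
  choose E hE hα using hV
  choose lo hi hb using fun j => (hE j).1
  obtain ⟨c, hc⟩ : ∃ c : ℤ, ∀ j ∈ t, hi j ≤ c := (t.finite_toSet.image hi).bddAbove.imp fun c h j hj =>
    h ⟨j, hj, rfl⟩
  refine ⟨c, (DerivedCategory.isLE_iff K c).2 fun i hi' => ?_⟩
  refine isZero_of_cover X.property _ (fun j : t => V j.1) (fun j => ?_) fun x => ?_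
  · obtain ⟨α⟩ := hα j.1
    have hz : IsZero ((DerivedCategory.homologyFunctor (ModEtOn (V j.1)) i).obj
        (DCoh.toDMod (OEtOn (V j.1)) (E j.1))) := by
      refine IsZero.of_iso ?_ ((DerivedCategory.homologyFunctorFactors (ModEtOn (V j.1)) i).app (E j.1))
      exact ShortComplex.isZero_homology_of_isZero_X₂ _ (hb j.1 i (Or.inr ((hc j.1 j.2).trans_lt hi')))
    exact IsZero.of_iso hz ((hdMapIso (resModEt (V j.1)) K i).symm ≪≫
      (DerivedCategory.homologyFunctor (ModEtOn (V j.1)) i).mapIso α)
  · obtain ⟨w, hw⟩ := surjective_ofPt a hs x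
    obtain ⟨j, hj, v, hv⟩ := Set.mem_iUnion₂.1 (ht (Set.mem_univ w))
    refine ⟨⟨j, hj⟩, v, ?_⟩
    rw [← ofPt_hom (g j) v, hv]
    exact hw

/-- morphisms from a bounded above object into a truncation above vanish by degree -/
theorem eq_zero_of_shift {X : AlgSp.Space S} (K L : DModEt X.obj) (c : ℤ) (hK : K.IsLE c) (i d : ℤ) (hL : L.IsGE d)
    (h : c + i < d) (φ : K⟦-i⟧ ⟶ L) : φ = 0 := by
  haveI := hK
  haveI := hL
  haveI := DerivedCategory.TStructure.t.isLE_shift K c (-i) (c + i) (by omega)
  exact DerivedCategory.TStructure.t.zero_of_isLE_of_isGE φ (c + i) d h inferInstance inferInstance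

end Groth.Agent.AlgSpLib.PerfBounded
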