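import Groth.Prelude.Def_AlgSpOX
import Groth.Agent.Stk19b.StalkPoint
import Mathlib.AlgebraicGeometry.Morphisms.Flat
import Mathlib.Algebra.Category.Ring.Constructions

/-!
Affine objects of the small etale site: refinements of coverings, rings of pullbacks.
-/

universe u

open CategoryTheory CategoryTheory.Limits AlgebraicGeometry Opposite TensorProduct
open AlgSp

noncomputable section

set_option linter.style.haveILetI false

namespace Groth.Agent.AlgSpLib.QCohEt

set_option backward.isDefEq.respectTransparency.types false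
set_option backward.isDefEq.respectTransparency false

variable {S : Scheme.{u}} {X : Sp S}

/-- the ring of an object -/
abbrev ΓE (E : EtOver X) : CommRingCat.{u + 1} := (OEt X).obj.obj (op E)

/-- the map of rings of a morphism -/
abbrev ΓMap {E E' : EtOver X} (g : E' ⟶ E) : ΓE E ⟶ ΓE E' := (OEt X).obj.map g.op

/-- objects with affine underlying scheme -/
abbrev IsAff (E : EtOver X) : Prop := IsAffine E.obj.left.left

theorem isAff_pullbackObj {E₁ E₂ E : EtOver X} (g₁ : E₁ ⟶ E) (g₂ : E₂ ⟶ E) [IsAff E₁] [IsAff E₂] [IsAff E] :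
    IsAff (EtOver.pullbackObj g₁ g₂) := by
  haveI : IsAffine ((Over.forget S).obj E₁.obj.left) := (inferInstance : IsAff E₁)
  haveI : IsAffine ((Over.forget S).obj E₂.obj.left) := (inferInstance : IsAff E₂)
  haveI : IsAffine ((Over.forget S).obj E.obj.left) := (inferInstance : IsAff E)
  exact IsAffine.of_isPullback ((IsPullback.of_hasPullback g₁.hom.left g₂.hom.left).map (Over.forget S))

theorem ΓMap_eq {E E' : EtOver X} (g : E' ⟶ E) :
    (ΓMap g).hom = (ULift.ringEquiv.symm.toRingHom.comp g.hom.left.left.appTop.hom).comp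
      ULift.ringEquiv.toRingHom := rfl

theorem flat_ΓMap {E E' : EtOver X} (g : E' ⟶ E) [IsAff E] [IsAff E'] : (ΓMap g).hom.Flat := by
  have := EtOver.etale_left g
  have h : g.hom.left.left.appTop.hom.Flat :=
    (HasRingHomProperty.iff_of_isAffine (P := @Flat)).1 inferInstance
  rw [ΓMap_eq g]
  exact RingHom.Flat.comp (RingHom.Flat.of_bijective ULift.ringEquiv.bijective)
    (h.comp (RingHom.Flat.of_bijective ULift.ringEquiv.symm.bijective))

theorem exists_comap_eq {E : EtOver X} [IsAff E] {ι : Type*} {W : ι → EtOver X} (g : ∀ i, W i ⟶ E)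
    (hg : ∀ x, ∃ i, x ∈ Set.range (g i).hom.left.left) (p : Ideal (ΓE E)) (hp : p.IsPrime) :
    ∃ (i : ι) (q : Ideal (ΓE (W i))), q.IsPrime ∧ q.comap (ΓMap (g i)).hom = p := by
  let e : Γ(E.obj.left.left, ⊤) →+* ΓE E := ULift.ringEquiv.symm.toRingHom
  obtain ⟨x, hx⟩ := E.obj.left.left.toSpecΓ.homeomorph.surjective ⟨p.comap e, Ideal.IsPrime.comap e⟩
  obtain ⟨i, w, hw⟩ := hg x
  let q₀ : PrimeSpectrum Γ((W i).obj.left.left, ⊤) := (W i).obj.left.left.toSpecΓ w
  refine ⟨i, q₀.asIdeal.comap (ULift.ringEquiv (R := Γ((W i).obj.left.left, ⊤))).toRingHom, Ideal.IsPrime.comap _, ?_⟩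
  have h := congrArg (fun f : (W i).obj.left.left ⟶ Spec Γ(E.obj.left.left, ⊤) => f w)
    (Scheme.toSpecΓ_naturality (g i).hom.left.left)
  have h' : (PrimeSpectrum.comap (g i).hom.left.left.appTop.hom q₀).asIdeal = p.comap e := by
    have h2 : E.obj.left.left.toSpecΓ ((g i).hom.left.left w) = PrimeSpectrum.comap (g i).hom.left.left.appTop.hom q₀ := h
    rw [← h2, hw]
    exact congrArg PrimeSpectrum.asIdeal hx
  ext a
  obtain ⟨b, rfl⟩ := (ULift.ringEquiv (R := Γ(E.obj.left.left, ⊤))).symm.surjective a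
  exact SetLike.ext_iff.1 h' b

theorem exists_finite_affine_refinement {E : EtOver X} [IsAff E] {R : Sieve E} (hR : R ∈ etTop X E) :
    ∃ (ι : Type) (_ : Finite ι) (W : ι → EtOver X) (g : ∀ i, W i ⟶ E),
      (∀ i, IsAff (W i)) ∧ (∀ i, R (g i)) ∧ ∀ x, ∃ i, x ∈ Set.range (g i).hom.left.left := by
  obtain ⟨R', hR', hle⟩ := (Precoverage.mem_toGrothendieck_iff_of_isStableUnderComposition).1 hR
  obtain ⟨ι, Z, g, rfl⟩ := R'.exists_eq_ofArrows
  have key : ∀ x : E.obj.left.left, ∃ (W : EtOver X) (h : W ⟶ E), IsAff W ∧ R h ∧ x ∈ Set.range h.hom.left.left := by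
    intro x
    obtain ⟨i, z, rfl⟩ := (ofArrows_mem_etPre_iff Z g).1 hR' x
    obtain ⟨O, hO, hzO, -⟩ := exists_isAffineOpen_mem_and_subset (x := z) (U := ⊤) trivial
    let T : Over S := Over.mk (O.ι ≫ (Z i).obj.left.hom)
    let j : T ⟶ (Z i).obj.left := Over.homMk O.ι
    let W : EtOver X := EtOver.mk ((yon S).map j ≫ (Z i).obj.hom)
      ((repWith_isMultiplicative (S := S) @Etale).comp_mem _ _
        ((repWith_yon_map_iff _ _).2 (inferInstanceAs (Etale O.ι))) (Z i).property)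
    let h : W ⟶ Z i := EtOver.homMk j rfl
    exact ⟨W, h ≫ g i, hO, R.downward_closed (hle _ _ (Presieve.ofArrows.mk i)) h,
      (⟨z, hzO⟩ : O.toScheme), rfl⟩
  choose W h hW hR hx using key
  have hop : ∀ x, IsOpen (Set.range (h x).hom.left.left) := fun x => by
    have := EtOver.etale_left (h x)
    exact (h x).hom.left.left.isOpenMap.isOpen_range
  obtain ⟨t, ht⟩ := (isCompact_univ (X := E.obj.left.left)).elim_finite_subcover
    (fun x => Set.range (h x).hom.left.left) hop fun x _ => Set.mem_iUnion.2 ⟨x, hx x⟩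
  refine ⟨Fin t.card, inferInstance, fun i => W (t.equivFin.symm i), fun i => h (t.equivFin.symm i),
    fun i => hW _, fun i => hR _, fun x => ?_⟩
  obtain ⟨y, hy, hxy⟩ := Set.mem_iUnion₂.1 (ht (Set.mem_univ x))
  exact ⟨t.equivFin ⟨y, hy⟩, (congrArg (fun v : ↥t => x ∈ Set.range (h v.1).hom.left.left)
    (t.equivFin.symm_apply_apply ⟨y, hy⟩)).mpr hxy⟩

/-- the ring of a fibre product of affine objects is the tensor product -/
theorem bijective_productMap {E₁ E₂ E : EtOver X} (g₁ : E₁ ⟶ E) (g₂ : E₂ ⟶ E) [IsAff E₁] [IsAff E₂] [IsAff E] :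
    letI := (ΓMap g₁).hom.toAlgebra
    letI := (ΓMap g₂).hom.toAlgebra
    letI := (ΓMap (EtOver.pullbackFst g₁ g₂ ≫ g₁)).hom.toAlgebra
    ∀ (l : ΓE E₁ →ₐ[ΓE E] ΓE (EtOver.pullbackObj g₁ g₂)) (r : ΓE E₂ →ₐ[ΓE E] ΓE (EtOver.pullbackObj g₁ g₂)),
      l.toRingHom = (ΓMap (EtOver.pullbackFst g₁ g₂)).hom → r.toRingHom = (ΓMap (EtOver.pullbackSnd g₁ g₂)).hom →
      Function.Bijective (Algebra.TensorProduct.productMap l r) := by
  letI := (ΓMap g₁).hom.toAlgebra
  letI := (ΓMap g₂).hom.toAlgebra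
  letI := (ΓMap (EtOver.pullbackFst g₁ g₂ ≫ g₁)).hom.toAlgebra
  intro l r hl hr
  haveI : IsAffine ((Over.forget S).obj E₁.obj.left) := (inferInstance : IsAff E₁)
  haveI : IsAffine ((Over.forget S).obj E₂.obj.left) := (inferInstance : IsAff E₂)
  haveI : IsAffine ((Over.forget S).obj E.obj.left) := (inferInstance : IsAff E)
  let R := Γ(E.obj.left.left, ⊤)
  let A := Γ(E₁.obj.left.left, ⊤)
  let B := Γ(E₂.obj.left.left, ⊤)
  let φ₁ : R ⟶ A := g₁.hom.left.left.appTop
  let φ₂ : R ⟶ B := g₂.hom.left.left.appTop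
  letI := φ₁.hom.toAlgebra
  letI := φ₂.hom.toAlgebra
  have sq : IsPushout φ₁ φ₂ (EtOver.pullbackFst g₁ g₂).hom.left.left.appTop
      (EtOver.pullbackSnd g₁ g₂).hom.left.left.appTop :=
    isPushout_appTop_of_isPullback ((IsPullback.of_hasPullback g₁.hom.left g₂.hom.left).map (Over.forget S))
  have sqT := CommRingCat.isPushout_tensorProduct R A B
  let χ := (sqT.isoIsPushout _ _ sq).hom
  have hχ : Function.Bijective χ.hom := ConcreteCategory.bijective_of_isIso χ
  letI : Algebra R (ΓE E₁ ⊗[ΓE E] ΓE E₂) :=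
    ((algebraMap (ΓE E) (ΓE E₁ ⊗[ΓE E] ΓE E₂)).comp ULift.ringEquiv.symm.toRingHom).toAlgebra
  let i₁ : A →ₐ[R] ΓE E₁ ⊗[ΓE E] ΓE E₂ :=
    { ((Algebra.TensorProduct.includeLeftRingHom (R := ΓE E) (A := ΓE E₁) (B := ΓE E₂)).comp
        ((ULift.ringEquiv (R := A)).symm.toRingHom : A →+* ΓE E₁)) with
      commutes' := fun x => rfl }
  let i₂ : B →ₐ[R] ΓE E₁ ⊗[ΓE E] ΓE E₂ :=
    { ((Algebra.TensorProduct.includeRight (R := ΓE E) (A := ΓE E₁) (B := ΓE E₂)).toRingHom.comp
        (ULift.ringEquiv (R := B)).symm.toRingHom) with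
      commutes' := fun x => (Algebra.TensorProduct.includeRight (R := ΓE E) (A := ΓE E₁) (B := ΓE E₂)).commutes
        (ULift.up x) }
  let κ := Algebra.TensorProduct.productMap i₁ i₂
  have hκ : ∀ t, ∃ y, κ y = t := fun t => by
    induction t with
    | zero => exact ⟨0, map_zero _⟩
    | tmul a b =>
      refine ⟨(show A from a.down) ⊗ₜ[R] (show B from b.down), ?_⟩
      rw [Algebra.TensorProduct.productMap_apply_tmul]
      show (a ⊗ₜ[ΓE E] (1 : ΓE E₂)) * ((1 : ΓE E₁) ⊗ₜ[ΓE E] b) = _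
      rw [Algebra.TensorProduct.tmul_mul_tmul, mul_one, one_mul]
    | add x y hx hy =>
      obtain ⟨x', rfl⟩ := hx; obtain ⟨y', rfl⟩ := hy
      exact ⟨x' + y', map_add _ _ _⟩
  have key : ∀ y, Algebra.TensorProduct.productMap l r (κ y) = ULift.up (χ.hom y) := fun y => by
    induction y with
    | zero => simp only [map_zero]; rfl
    | tmul a b =>
      rw [Algebra.TensorProduct.productMap_apply_tmul, map_mul]
      change Algebra.TensorProduct.productMap l r ((ULift.up a : ΓE E₁) ⊗ₜ 1) *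
        Algebra.TensorProduct.productMap l r ((1 : ΓE E₁) ⊗ₜ (ULift.up b : ΓE E₂)) = _
      rw [Algebra.TensorProduct.productMap_apply_tmul, Algebra.TensorProduct.productMap_apply_tmul, map_one,
        map_one, mul_one, one_mul, show l (ULift.up a) = (ΓMap (EtOver.pullbackFst g₁ g₂)).hom (ULift.up a) from
          DFunLike.congr_fun hl _, show r (ULift.up b) = (ΓMap (EtOver.pullbackSnd g₁ g₂)).hom (ULift.up b) from
          DFunLike.congr_fun hr _, show a ⊗ₜ[R] b = (a ⊗ₜ 1) * ((1 : A) ⊗ₜ b) by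
            rw [Algebra.TensorProduct.tmul_mul_tmul, mul_one, one_mul], map_mul]
      exact congrArg ULift.up (congrArg₂ (· * ·) (ConcreteCategory.congr_hom (sqT.inl_isoIsPushout_hom _ _ sq) a).symm
        (ConcreteCategory.congr_hom (sqT.inr_isoIsPushout_hom _ _ sq) b).symm)
    | add x y hx hy => simp only [map_add, hx, hy]; rfl
  refine ⟨(injective_iff_map_eq_zero _).2 fun x hx => ?_, fun c => ?_⟩
  · obtain ⟨y, rfl⟩ := hκ x
    rw [key] at hx
    rw [hχ.1 ((congrArg ULift.down hx).trans (map_zero χ.hom).symm), map_zero]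
  · obtain ⟨y, hy⟩ := hχ.2 c.down
    exact ⟨κ y, (key y).trans (congrArg ULift.up hy)⟩

end Groth.Agent.AlgSpLib.QCohEt
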