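import Groth.Agent.AlgSpLib.PushEtale
import Groth.Agent.AlgSpLib.QCohEtSite
import Groth.Agent.AlgSpLib.EqvQuot
import Groth.Agent.AlgSpLib.Pres
import Groth.Agent.AlgSpLib.ClosedSub
import Groth.Agent.AlgSpLib.YonCoprod
import Groth.Agent.AlgSpLib.WeakAssEtGlobal
import Groth.Agent.AlgSpLib.QuotSpLemmas
import Groth.Agent.AlgSpLib.SpacePush
import Groth.Agent.AlgSpLib.FpqcBaseAffine2
import Groth.Prelude.Def_AlgSpOX2

/-!
A cartesian family of schemes over the affine objects of the small etale site of an algebraic space is the family of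
fibres of an algebraic space over it (relative spectrum).
-/

universe u

open CategoryTheory CategoryTheory.Limits AlgebraicGeometry Opposite
open AlgSp

noncomputable section

namespace Groth.Agent.AlgSpLib.RelSpecSp

set_option backward.isDefEq.respectTransparency.types false
set_option backward.isDefEq.respectTransparency false

open Groth.Agent.AlgSpLib.QCohEt

variable {S : Scheme.{u}} {Y : Sp S}

/-- a cartesian family of schemes on the affine objects -/
structure CartData (Y : Sp S) where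
  /-- the members -/
  V : ∀ E : EtOver Y, IsAff E → Over S
  /-- the projections -/
  v : ∀ (E : EtOver Y) (hE : IsAff E), V E hE ⟶ E.obj.left
  /-- the transition maps -/
  map : ∀ {W E : EtOver Y} (g : W ⟶ E) (hW : IsAff W) (hE : IsAff E), V W hW ⟶ V E hE
  map_comp : ∀ {Z W E : EtOver Y} (f : Z ⟶ W) (g : W ⟶ E) (hZ : IsAff Z) (hW : IsAff W) (hE : IsAff E),
    map (f ≫ g) hZ hE = map f hZ hW ≫ map g hW hE
  cart : ∀ {W E : EtOver Y} (g : W ⟶ E) (hW : IsAff W) (hE : IsAff E),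
    IsPullback (map g hW hE) (v W hW) (v E hE) g.hom.left

variable (D : CartData Y)

theorem CartData.hom_ext {W E : EtOver Y} (g : W ⟶ E) (hW : IsAff W) (hE : IsAff E) {T : Over S}
    {a b : T ⟶ D.V W hW} (h1 : a ≫ D.map g hW hE = b ≫ D.map g hW hE) (h2 : a ≫ D.v W hW = b ≫ D.v W hW) : a = b :=
  (D.cart g hW hE).hom_ext h1 h2

theorem CartData.map_v {W E : EtOver Y} (g : W ⟶ E) (hW : IsAff W) (hE : IsAff E) :
    D.map g hW hE ≫ D.v E hE = D.v W hW ≫ g.hom.left := (D.cart g hW hE).w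

/-- the points of the relative spectrum -/
structure Sec (T : Over S) where
  /-- the point of the base -/
  g : (yon S).obj T ⟶ Y
  /-- the lifts -/
  φ : ∀ ⦃T' : Over S⦄ (k : T' ⟶ T) (E : EtOver Y) (hE : IsAff E) (e : T' ⟶ E.obj.left),
    (yon S).map e ≫ E.obj.hom = (yon S).map k ≫ g → (T' ⟶ D.V E hE)
  hv : ∀ ⦃T' : Over S⦄ (k : T' ⟶ T) (E : EtOver Y) (hE : IsAff E) (e : T' ⟶ E.obj.left)
    (w : (yon S).map e ≫ E.obj.hom = (yon S).map k ≫ g), φ k E hE e w ≫ D.v E hE = e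
  nat : ∀ ⦃T' T'' : Over S⦄ (m : T'' ⟶ T') (k : T' ⟶ T) {E E' : EtOver Y} (f : E' ⟶ E) (hE : IsAff E)
    (hE' : IsAff E') (e : T' ⟶ E.obj.left) (e' : T'' ⟶ E'.obj.left)
    (w : (yon S).map e ≫ E.obj.hom = (yon S).map k ≫ g)
    (w' : (yon S).map e' ≫ E'.obj.hom = (yon S).map (m ≫ k) ≫ g), e' ≫ f.hom.left = m ≫ e →
    φ (m ≫ k) E' hE' e' w' ≫ D.map f hE' hE = m ≫ φ k E hE e w

variable {D}

theorem Sec.φ_congr {T : Over S} {s s' : Sec D T} (e : s = s') {T' : Over S} {k k' : T' ⟶ T}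
    {E : EtOver Y} {hE : IsAff E} {a : T' ⟶ E.obj.left} (ek : k = k')
    (w : (yon S).map a ≫ E.obj.hom = (yon S).map k ≫ s.g) :
    s.φ k E hE a w = s'.φ k' E hE a (by subst e ek; exact w) := by
  subst e ek; rfl

theorem Sec.ext' {T : Over S} {s s' : Sec D T} (hg : s.g = s'.g)
    (hφ : ∀ ⦃T' : Over S⦄ (k : T' ⟶ T) (E : EtOver Y) (hE : IsAff E) (e : T' ⟶ E.obj.left)
      (w : (yon S).map e ≫ E.obj.hom = (yon S).map k ≫ s.g), s.φ k E hE e w = s'.φ k E hE e (hg ▸ w)) :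
    s = s' := by
  obtain ⟨g, φ, hv, nat⟩ := s
  obtain ⟨g', φ', hv', nat'⟩ := s'
  change g = g' at hg
  subst hg
  congr
  funext T' k E hE e w
  exact hφ k E hE e w

/-- restriction of points -/
def Sec.res {T T₁ : Over S} (s : Sec D T) (a : T₁ ⟶ T) : Sec D T₁ where
  g := (yon S).map a ≫ s.g
  φ T' k E hE e w := s.φ (k ≫ a) E hE e (by rw [w, Functor.map_comp, Category.assoc])
  hv T' k E hE e w := s.hv _ _ _ _ _
  nat T' T'' m k E E' f hE hE' e e' w w' h := by
    have := s.nat m (k ≫ a) f hE hE' e e' (by rw [w, Functor.map_comp, Category.assoc])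
      (by rw [w']; simp only [Functor.map_comp, Category.assoc]) h
    exact (congrArg (· ≫ D.map f hE' hE) (Sec.φ_congr rfl (Category.assoc _ _ _) _)).trans this

variable (D)

/-- the presheaf of points -/
def presheaf : (Over S)ᵒᵖ ⥤ Type (u + 1) where
  obj T := Sec D T.unop
  map a := TypeCat.ofHom fun s => s.res a.unop
  map_id T := by
    ext s
    refine Sec.ext' ?_ fun T' k E hE e w => ?_
    · show (yon S).map (𝟙 T.unop) ≫ s.g = s.g
      rw [(yon S).map_id, Category.id_comp]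
    · exact Sec.φ_congr rfl (Category.comp_id _) _
  map_comp {T₁ T₂ T₃} a a' := by
    ext s
    refine Sec.ext' ?_ fun T' k E hE e w => ?_
    · show (yon S).map (a'.unop ≫ a.unop) ≫ s.g = (yon S).map a'.unop ≫ (yon S).map a.unop ≫ s.g
      rw [Functor.map_comp, Category.assoc]
    · exact Sec.φ_congr rfl (Category.assoc _ _ _).symm _

/-- morphisms of schemes glue along coverings -/
theorem exists_glue_hom {T X : Over S} {C : Sieve T} (hC : C ∈ AlgSp.J S T)
    (x : ∀ ⦃T' : Over S⦄ (m : T' ⟶ T), C m → (T' ⟶ X))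
    (hx : ∀ ⦃T' T'' : Over S⦄ (v : T'' ⟶ T') (m : T' ⟶ T) (hm : C m),
      v ≫ x m hm = x (v ≫ m) (C.downward_closed hm v)) :
    ∃ a : T ⟶ X, ∀ ⦃T' : Over S⦄ (m : T' ⟶ T) (hm : C m), m ≫ a = x m hm := by
  obtain ⟨a, ha⟩ := PushSp.exists_glue_covering hC (fun T' m hm => (yon S).map (x m hm)) fun T' T'' v m hm => by
    rw [← Functor.map_comp, hx]
  obtain ⟨b, rfl⟩ := (yon S).map_surjective a
  exact ⟨b, fun T' m hm => (yon S).map_injective (by rw [Functor.map_comp, ha])⟩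

theorem hom_ext_covering {T X : Over S} {C : Sieve T} (hC : C ∈ AlgSp.J S T) {a b : T ⟶ X}
    (h : ∀ ⦃T' : Over S⦄ (m : T' ⟶ T), C m → m ≫ a = m ≫ b) : a = b :=
  (yon S).map_injective (eq_of_covering hC fun T' m hm => by rw [← Functor.map_comp, ← Functor.map_comp, h m hm])

theorem isSheaf : Presieve.IsSheaf (AlgSp.J S) (presheaf D) := by
  intro T C hC fam hfam
  rw [Presieve.compatible_iff_sieveCompatible] at hfam
  have hcomp : ∀ ⦃T' T'' : Over S⦄ (v : T'' ⟶ T') (m : T' ⟶ T) (hm : C m),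
      fam (v ≫ m) (C.downward_closed hm v) = (fam m hm).res v := fun T' T'' v m hm => hfam m v hm
  obtain ⟨g, hg⟩ := PushSp.exists_glue_covering hC (fun T' m hm => (fam m hm).g) fun T' T'' v m hm => by
    rw [hcomp v m hm]; rfl
  have hw : ∀ ⦃T' : Over S⦄ (k : T' ⟶ T) (E : EtOver Y) (e : T' ⟶ E.obj.left),
      (yon S).map e ≫ E.obj.hom = (yon S).map k ≫ g → ∀ ⦃T'' : Over S⦄ (v : T'' ⟶ T') (hv : C (v ≫ k)),
      (yon S).map (v ≫ e) ≫ E.obj.hom = (yon S).map (𝟙 T'') ≫ (fam (v ≫ k) hv).g := by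
    intro T' k E e w T'' v hv
    rw [← hg _ hv, (yon S).map_id, Category.id_comp, Functor.map_comp, Functor.map_comp, Category.assoc,
      Category.assoc, w]
  have key : ∀ ⦃T' : Over S⦄ (k : T' ⟶ T) (E : EtOver Y) (hE : IsAff E) (e : T' ⟶ E.obj.left)
      (w : (yon S).map e ≫ E.obj.hom = (yon S).map k ≫ g), ∃ a : T' ⟶ D.V E hE, ∀ ⦃T'' : Over S⦄ (v : T'' ⟶ T')
        (hv : C (v ≫ k)), v ≫ a = (fam (v ≫ k) hv).φ (𝟙 T'') E hE (v ≫ e) (hw k E e w v hv) := by
    intro T' k E hE e w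
    obtain ⟨a, ha⟩ := exists_glue_hom (C := C.pullback k) ((AlgSp.J S).pullback_stable k hC)
      (fun T'' v hv => (fam (v ≫ k) hv).φ (𝟙 T'') E hE (v ≫ e) (hw k E e w v hv)) fun T₂ T₃ v' v hv => by
        have hv' : C ((v' ≫ v) ≫ k) := by rw [Category.assoc]; exact C.downward_closed hv v'
        have e1 : fam ((v' ≫ v) ≫ k) hv' = (fam (v ≫ k) hv).res v' := by
          rw [← hcomp v' (v ≫ k) hv]
          congr 1
        rw [Sec.φ_congr e1 rfl]
        have h := (fam (v ≫ k) hv).nat v' (𝟙 T₂) (𝟙 E) hE hE (v ≫ e) ((v' ≫ v) ≫ e) (hw k E e w v hv) (by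
          rw [Category.comp_id]
          have := hw k E e w (v' ≫ v) hv'
          rw [e1] at this
          exact this.trans (by rw [(yon S).map_id, Category.id_comp]; rfl))
          ((Category.comp_id _).trans (Category.assoc _ _ _))
        rw [← h, show D.map (𝟙 E) hE hE = 𝟙 _ from (D.cart (𝟙 E) hE hE).hom_ext (by
          rw [← D.map_comp, Category.comp_id, Category.id_comp]) (by
          rw [D.map_v, Category.id_comp]; exact Category.comp_id _), Category.comp_id]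
        exact Sec.φ_congr rfl (by rw [Category.comp_id, Category.id_comp]) _
    exact ⟨a, fun T'' v hv => ha v hv⟩
  choose φ hφ using key
  refine ⟨⟨g, φ, fun T' k E hE e w => hom_ext_covering ((AlgSp.J S).pullback_stable k hC) fun T'' v hv => ?_,
    fun T' T'' m k E E' f hE hE' e e' w w' hef => ?_⟩, ?_, ?_⟩
  · rw [← Category.assoc, hφ k E hE e w v hv, Sec.hv]
  · refine hom_ext_covering ((AlgSp.J S).pullback_stable (m ≫ k) hC) fun T₃ v hv => ?_
    have hv2 : C ((v ≫ m) ≫ k) := by rw [Category.assoc]; exact hv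
    rw [← Category.assoc, ← Category.assoc, hφ (m ≫ k) E' hE' e' w' v hv, hφ k E hE e w (v ≫ m) hv2]
    have e1 : fam (v ≫ m ≫ k) hv = fam ((v ≫ m) ≫ k) hv2 := by congr 1 <;> simp
    rw [Sec.φ_congr e1 rfl]
    have h := (fam ((v ≫ m) ≫ k) hv2).nat (𝟙 T₃) (𝟙 T₃) f hE hE' ((v ≫ m) ≫ e) (v ≫ e')
      (hw k E e w (v ≫ m) hv2) (by
        rw [Category.id_comp, ← e1]
        exact hw (m ≫ k) E' e' w' v hv) (by rw [Category.assoc, hef, Category.id_comp, Category.assoc])
    refine Eq.trans ?_ (h.trans (Category.id_comp _))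
    exact congrArg (· ≫ D.map f hE' hE) (Sec.φ_congr rfl (Category.id_comp _).symm _)
  · intro T' m hm
    refine Sec.ext' (hg m hm) fun T'' k E hE e w => ?_
    have hk : C (k ≫ m) := C.downward_closed hm k
    show φ (k ≫ m) E hE e _ = (fam m hm).φ k E hE e _
    have hid : C (𝟙 T'' ≫ k ≫ m) := by rwa [Category.id_comp]
    have h1 := hφ (k ≫ m) E hE e (by rw [Functor.map_comp, Category.assoc]; exact w) (𝟙 T'') hid
    rw [Category.id_comp] at h1
    refine h1.trans ?_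
    have e1 : fam (𝟙 T'' ≫ k ≫ m) hid = (fam m hm).res k := by
      rw [← hcomp k m hm]
      congr 1 <;> simp
    rw [Sec.φ_congr e1 rfl]
    have := (fam m hm).nat (𝟙 T'') k (𝟙 E) hE hE e (𝟙 T'' ≫ e) ?_ ?_ (Category.comp_id _)
    rotate_left
    · exact w.trans (congrArg ((yon S).map k ≫ ·) (hg m hm))
    · rw [Category.id_comp, Category.id_comp]; exact w.trans (congrArg ((yon S).map k ≫ ·) (hg m hm))
    rw [show D.map (𝟙 E) hE hE = 𝟙 _ from (D.cart (𝟙 E) hE hE).hom_ext (by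
      rw [← D.map_comp, Category.comp_id, Category.id_comp]) (by
      rw [D.map_v, Category.id_comp]; exact Category.comp_id _), Category.comp_id] at this
    refine Eq.trans ?_ (this.trans (Category.id_comp _))
    exact Sec.φ_congr rfl (Category.id_comp _).symm _
  · intro s hs
    have hgs : s.g = g := eq_of_covering hC fun T' m hm => by
      rw [hg m hm, ← hs m hm]; rfl
    refine Sec.ext' hgs fun T' k E hE e w =>
      hom_ext_covering ((AlgSp.J S).pullback_stable k hC) fun T'' v hv => ?_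
    rw [hφ k E hE e (hgs ▸ w) v hv, Sec.φ_congr (hs _ hv).symm rfl]
    have := s.nat v k (𝟙 E) hE hE e (v ≫ e) w (by rw [Functor.map_comp, Functor.map_comp, Category.assoc, w, Category.assoc])
      (Category.comp_id _)
    rw [show D.map (𝟙 E) hE hE = 𝟙 _ from (D.cart (𝟙 E) hE hE).hom_ext (by
      rw [← D.map_comp, Category.comp_id, Category.id_comp]) (by
      rw [D.map_v, Category.id_comp]; exact Category.comp_id _), Category.comp_id] at this
    rw [← this]
    exact Sec.φ_congr rfl (Category.id_comp _).symm _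

/-- the relative spectrum -/
def obj : Sp S := ⟨presheaf D, (isSheaf_iff_isSheaf_of_type _ _).2 (isSheaf D)⟩

variable {D}

/-- the data of a map into the relative spectrum -/
def sec {T : Over S} (l : (yon S).obj T ⟶ obj D) : Sec D T :=
  GrothendieckTopology.uliftYonedaEquiv.{u + 1} (AlgSp.J S) l

/-- the map of a point -/
def ofSec {T : Over S} (s : Sec D T) : (yon S).obj T ⟶ obj D :=
  (GrothendieckTopology.uliftYonedaEquiv.{u + 1} (AlgSp.J S) (F := obj D) (X := T)).symm s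

theorem sec_ofSec {T : Over S} (s : Sec D T) : sec (ofSec s) = s := Equiv.apply_symm_apply _ _

theorem sec_injective {T : Over S} : Function.Injective (sec (D := D) (T := T)) :=
  Equiv.injective _

theorem sec_comp {T T' : Over S} (a : T' ⟶ T) (l : (yon S).obj T ⟶ obj D) :
    sec ((yon S).map a ≫ l) = (sec l).res a :=
  (GrothendieckTopology.uliftYonedaEquiv_naturality (AlgSp.J S) l a).symm

variable (D)

/-- the structure map -/
def str : obj D ⟶ Y :=
  ⟨{ app := fun T => TypeCat.ofHom fun s => GrothendieckTopology.uliftYonedaEquiv.{u + 1} (AlgSp.J S) s.g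
     naturality := fun T T' a => by
       ext s
       exact (GrothendieckTopology.uliftYonedaEquiv_naturality (AlgSp.J S) s.g a.unop).symm }⟩

variable {D}

theorem comp_str {T : Over S} (l : (yon S).obj T ⟶ obj D) : l ≫ str D = (sec l).g := by
  apply (GrothendieckTopology.uliftYonedaEquiv.{u + 1} (AlgSp.J S)).injective
  rw [GrothendieckTopology.uliftYonedaEquiv_comp]
  rfl

/-- local data of a value -/
def Datum {E₀ E : EtOver Y} (h₀ : IsAff E₀) (hE : IsAff E) {T : Over S} (s : T ⟶ D.V E₀ h₀) (e : T ⟶ E.obj.left)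
    {T' : Over S} (m : T' ⟶ T) (x : T' ⟶ D.V E hE) : Prop :=
  ∃ (Z : EtOver Y) (hZ : IsAff Z) (g : Z ⟶ E) (h : Z ⟶ E₀) (y : T' ⟶ D.V Z hZ),
    (y ≫ D.v Z hZ) ≫ g.hom.left = m ≫ e ∧ y ≫ D.map h hZ h₀ = m ≫ s ∧ x = y ≫ D.map g hZ hE

theorem datum_unique {E₀ E : EtOver Y} (h₀ : IsAff E₀) (hE : IsAff E) {T : Over S} {s : T ⟶ D.V E₀ h₀}
    {e : T ⟶ E.obj.left} {T' : Over S} {m : T' ⟶ T} {x x' : T' ⟶ D.V E hE}
    (hx : Datum h₀ hE s e m x) (hx' : Datum h₀ hE s e m x') : x = x' := by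
  obtain ⟨Z₁, hZ₁, g₁, h₁, y₁, hg₁, hh₁, rfl⟩ := hx
  obtain ⟨Z₂, hZ₂, g₂, h₂, y₂, hg₂, hh₂, rfl⟩ := hx'
  let l₁ : Z₁ ⟶ EtOver.prodObj E E₀ := (EtOver.prodIsLimit E E₀).lift (BinaryFan.mk g₁ h₁)
  let l₂ : Z₂ ⟶ EtOver.prodObj E E₀ := (EtOver.prodIsLimit E E₀).lift (BinaryFan.mk g₂ h₂)
  have f₁ : l₁ ≫ EtOver.prodFst E E₀ = g₁ := (EtOver.prodIsLimit E E₀).fac _ ⟨WalkingPair.left⟩
  have f₂ : l₂ ≫ EtOver.prodFst E E₀ = g₂ := (EtOver.prodIsLimit E E₀).fac _ ⟨WalkingPair.left⟩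
  have s₁ : l₁ ≫ EtOver.prodSnd E E₀ = h₁ := (EtOver.prodIsLimit E E₀).fac _ ⟨WalkingPair.right⟩
  have s₂ : l₂ ≫ EtOver.prodSnd E E₀ = h₂ := (EtOver.prodIsLimit E E₀).fac _ ⟨WalkingPair.right⟩
  have hs₁ : (y₁ ≫ D.v Z₁ hZ₁) ≫ h₁.hom.left = m ≫ s ≫ D.v E₀ h₀ := by
    rw [Category.assoc, ← D.map_v h₁ hZ₁ h₀, reassoc_of% hh₁]
  have hs₂ : (y₂ ≫ D.v Z₂ hZ₂) ≫ h₂.hom.left = m ≫ s ≫ D.v E₀ h₀ := by
    rw [Category.assoc, ← D.map_v h₂ hZ₂ h₀, reassoc_of% hh₂]
  have hl : (y₁ ≫ D.v Z₁ hZ₁) ≫ l₁.hom.left = (y₂ ≫ D.v Z₂ hZ₂) ≫ l₂.hom.left := by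
    refine Functor.relativelyRepresentable.hom_ext' _ ?_ ?_
    · have a1 : l₁.hom.left ≫ (EtOver.prodSnd E E₀).hom.left = h₁.hom.left := congrArg (fun k => k.hom.left) s₁
      have a2 : l₂.hom.left ≫ (EtOver.prodSnd E E₀).hom.left = h₂.hom.left := congrArg (fun k => k.hom.left) s₂
      show _ ≫ (EtOver.prodSnd E E₀).hom.left = _ ≫ (EtOver.prodSnd E E₀).hom.left
      refine (Category.assoc _ _ _).trans ((congrArg _ a1).trans (hs₁.trans (hs₂.symm.trans ?_)))
      exact ((Category.assoc _ _ _).trans (congrArg _ a2)).symm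
    · have a1 : l₁.hom.left ≫ (EtOver.prodFst E E₀).hom.left = g₁.hom.left := congrArg (fun k => k.hom.left) f₁
      have a2 : l₂.hom.left ≫ (EtOver.prodFst E E₀).hom.left = g₂.hom.left := congrArg (fun k => k.hom.left) f₂
      show _ ≫ (EtOver.prodFst E E₀).hom.left = _ ≫ (EtOver.prodFst E E₀).hom.left
      refine (Category.assoc _ _ _).trans ((congrArg _ a1).trans (hg₁.trans (hg₂.symm.trans ?_)))
      exact ((Category.assoc _ _ _).trans (congrArg _ a2)).symm
  let l : T' ⟶ (EtOver.pullbackObj l₁ l₂).obj.left := pullback.lift _ _ hl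
  obtain ⟨ι, Z, g, hZ, hc⟩ := QCohEt.exists_affine_cover (EtOver.pullbackObj l₁ l₂)
  haveI : ∀ i, Flat (pullback.fst l (g i).hom.left).left := fun i => by
    haveI : Etale (g i).hom.left.left := EtOver.etale_left _
    exact MorphismProperty.of_isPullback (P := @Flat)
      ((IsPullback.of_hasPullback l (g i).hom.left).map (Over.forget S)).flip (inferInstanceAs (Flat (g i).hom.left.left))
  haveI : ∀ i, LocallyOfFinitePresentation (pullback.fst l (g i).hom.left).left := fun i => by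
    haveI : Etale (g i).hom.left.left := EtOver.etale_left _
    exact MorphismProperty.of_isPullback (P := @LocallyOfFinitePresentation)
      ((IsPullback.of_hasPullback l (g i).hom.left).map (Over.forget S)).flip
      (inferInstanceAs (LocallyOfFinitePresentation (g i).hom.left.left))
  have hcov := ofArrows_mem_J (fun i => pullback.fst l (g i).hom.left) fun t => by
    obtain ⟨i, z, hz⟩ := hc (l.left t)
    have sq := (IsPullback.of_hasPullback l (g i).hom.left).map (Over.forget S)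
    obtain ⟨p, hp, -⟩ := Scheme.exists_preimage_of_isPullback sq t z hz.symm
    exact ⟨i, p, hp⟩
  refine hom_ext_covering hcov fun T'' n hn => ?_
  obtain ⟨_, b, _, ⟨i⟩, rfl⟩ := hn
  rw [Category.assoc, Category.assoc]
  congr 1
  let a₁ : Z i ⟶ Z₁ := g i ≫ EtOver.pullbackFst l₁ l₂
  let a₂ : Z i ⟶ Z₂ := g i ≫ EtOver.pullbackSnd l₁ l₂
  let n : pullback l (g i).hom.left ⟶ T' := pullback.fst l (g i).hom.left
  let d : pullback l (g i).hom.left ⟶ (Z i).obj.left := pullback.snd l (g i).hom.left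
  have hd₁ : d ≫ a₁.hom.left = n ≫ y₁ ≫ D.v Z₁ hZ₁ := by
    show d ≫ (g i).hom.left ≫ pullback.fst _ _ = _
    rw [← Category.assoc, ← pullback.condition, Category.assoc, pullback.lift_fst]
  have hd₂ : d ≫ a₂.hom.left = n ≫ y₂ ≫ D.v Z₂ hZ₂ := by
    show d ≫ (g i).hom.left ≫ pullback.snd _ _ = _
    rw [← Category.assoc, ← pullback.condition, Category.assoc, pullback.lift_snd]
  let z := (D.cart a₁ (hZ i) hZ₁).lift (n ≫ y₁) d (by rw [Category.assoc, hd₁])
  have z1 : z ≫ D.map a₁ (hZ i) hZ₁ = n ≫ y₁ := IsPullback.lift_fst _ _ _ _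
  have z0 : z ≫ D.v (Z i) (hZ i) = d := IsPullback.lift_snd _ _ _ _
  have hah : a₁ ≫ h₁ = a₂ ≫ h₂ := by
    rw [Category.assoc, Category.assoc, ← s₁, ← s₂, reassoc_of% (EtOver.pullback_condition l₁ l₂)]
  have hag : a₁ ≫ g₁ = a₂ ≫ g₂ := by
    rw [Category.assoc, Category.assoc, ← f₁, ← f₂, reassoc_of% (EtOver.pullback_condition l₁ l₂)]
  have z2 : z ≫ D.map a₂ (hZ i) hZ₂ = n ≫ y₂ := D.hom_ext h₂ hZ₂ h₀ (by
      rw [Category.assoc, Category.assoc, ← D.map_comp, ← hah, D.map_comp _ _ _ hZ₁, reassoc_of% z1, hh₁, hh₂]) (by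
      rw [Category.assoc, Category.assoc, D.map_v, reassoc_of% z0, hd₂])
  rw [← reassoc_of% z1, ← reassoc_of% z2, ← D.map_comp, ← D.map_comp]
  simp only [hag]

theorem datum_comp {E₀ E : EtOver Y} (h₀ : IsAff E₀) (hE : IsAff E) {T : Over S} {s : T ⟶ D.V E₀ h₀}
    {e : T ⟶ E.obj.left} {T' T'' : Over S} (n : T'' ⟶ T') {m : T' ⟶ T} {x : T' ⟶ D.V E hE}
    (hx : Datum h₀ hE s e m x) : Datum h₀ hE s e (n ≫ m) (n ≫ x) := by
  obtain ⟨Z, hZ, g, h, y, hg, hh, rfl⟩ := hx
  refine ⟨Z, hZ, g, h, n ≫ y, ?_, ?_, (Category.assoc _ _ _).symm⟩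
  · rw [Category.assoc, Category.assoc, Category.assoc, ← Category.assoc y, hg]
  · rw [Category.assoc, hh, Category.assoc]

/-- the sieve of arrows carrying data -/
def dataSieve {E₀ E : EtOver Y} (h₀ : IsAff E₀) (hE : IsAff E) {T : Over S} (s : T ⟶ D.V E₀ h₀)
    (e : T ⟶ E.obj.left) : Sieve T where
  arrows T' m := ∃ x, Datum h₀ hE s e m x
  downward_closed {T' T'' m} hm n := ⟨n ≫ hm.choose, datum_comp h₀ hE n hm.choose_spec⟩

theorem dataSieve_mem {E₀ E : EtOver Y} (h₀ : IsAff E₀) (hE : IsAff E) {T : Over S} (s : T ⟶ D.V E₀ h₀)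
    (e : T ⟶ E.obj.left) (w : (yon S).map e ≫ E.obj.hom = (yon S).map (s ≫ D.v E₀ h₀) ≫ E₀.obj.hom) :
    dataSieve h₀ hE s e ∈ AlgSp.J S T := by
  let P := EtOver.prodObj E E₀
  let l : T ⟶ P.obj.left := E₀.property.1.lift' (s ≫ D.v E₀ h₀) e w.symm
  have l2 : l ≫ (EtOver.prodSnd E E₀).hom.left = s ≫ D.v E₀ h₀ := Functor.relativelyRepresentable.lift'_fst _ _ _ _
  have l1 : l ≫ (EtOver.prodFst E E₀).hom.left = e := Functor.relativelyRepresentable.lift'_snd _ _ _ _
  obtain ⟨ι, Z, g, hZ, hc⟩ := QCohEt.exists_affine_cover P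
  haveI : ∀ i, Flat (pullback.fst l (g i).hom.left).left := fun i => by
    haveI : Etale (g i).hom.left.left := EtOver.etale_left _
    exact MorphismProperty.of_isPullback (P := @Flat)
      ((IsPullback.of_hasPullback l (g i).hom.left).map (Over.forget S)).flip (inferInstanceAs (Flat (g i).hom.left.left))
  haveI : ∀ i, LocallyOfFinitePresentation (pullback.fst l (g i).hom.left).left := fun i => by
    haveI : Etale (g i).hom.left.left := EtOver.etale_left _
    exact MorphismProperty.of_isPullback (P := @LocallyOfFinitePresentation)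
      ((IsPullback.of_hasPullback l (g i).hom.left).map (Over.forget S)).flip
      (inferInstanceAs (LocallyOfFinitePresentation (g i).hom.left.left))
  have hcov := ofArrows_mem_J (fun i => pullback.fst l (g i).hom.left) fun t => by
    obtain ⟨i, z, hz⟩ := hc (l.left t)
    have sq := (IsPullback.of_hasPullback l (g i).hom.left).map (Over.forget S)
    obtain ⟨p, hp, -⟩ := Scheme.exists_preimage_of_isPullback sq t z hz.symm
    exact ⟨i, p, hp⟩
  refine GrothendieckTopology.superset_covering _ ?_ hcov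
  rintro T' _ ⟨_, b, _, ⟨i⟩, rfl⟩
  refine (dataSieve h₀ hE s e).downward_closed ?_ b
  let n : pullback l (g i).hom.left ⟶ T := pullback.fst l (g i).hom.left
  let d : pullback l (g i).hom.left ⟶ (Z i).obj.left := pullback.snd l (g i).hom.left
  have hd : d ≫ (g i).hom.left = n ≫ l := pullback.condition.symm
  let h : Z i ⟶ E₀ := g i ≫ EtOver.prodSnd E E₀
  refine ⟨_, Z i, hZ i, g i ≫ EtOver.prodFst E E₀, h,
    (D.cart h (hZ i) h₀).lift (n ≫ s) d (by
      show (n ≫ s) ≫ D.v E₀ h₀ = d ≫ (g i).hom.left ≫ (EtOver.prodSnd E E₀).hom.left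
      rw [reassoc_of% hd, l2, Category.assoc]), ?_, IsPullback.lift_fst _ _ _ _, rfl⟩
  rw [IsPullback.lift_snd]
  show d ≫ (g i).hom.left ≫ (EtOver.prodFst E E₀).hom.left = _
  rw [reassoc_of% hd, l1]

/-- the value determined by a point of a member -/
theorem exists_value {E₀ E : EtOver Y} (h₀ : IsAff E₀) (hE : IsAff E) {T : Over S} (s : T ⟶ D.V E₀ h₀)
    (e : T ⟶ E.obj.left) (w : (yon S).map e ≫ E.obj.hom = (yon S).map (s ≫ D.v E₀ h₀) ≫ E₀.obj.hom) :
    ∃ x : T ⟶ D.V E hE, x ≫ D.v E hE = e ∧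
      ∀ ⦃T' : Over S⦄ (m : T' ⟶ T) (x' : T' ⟶ D.V E hE), Datum h₀ hE s e m x' → m ≫ x = x' := by
  let C := dataSieve h₀ hE s e
  have hC : C ∈ AlgSp.J S T := dataSieve_mem h₀ hE s e w
  obtain ⟨x, hx⟩ := exists_glue_hom hC (fun T' m hm => Exists.choose hm) fun T' T'' n m hm =>
    datum_unique h₀ hE (datum_comp h₀ hE n hm.choose_spec) (C.downward_closed hm n).choose_spec
  refine ⟨x, hom_ext_covering hC fun T' m hm => ?_, fun T' m x' hx' => ?_⟩
  · obtain ⟨Z', hZ', g', h', y, hg', -, e'⟩ := hm.choose_spec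
    rw [← Category.assoc, hx m hm]
    exact ((congrArg (· ≫ D.v E hE) e').trans (Category.assoc _ _ _)).trans
      (((congrArg (y ≫ ·) (D.map_v g' hZ' hE)).trans (Category.assoc _ _ _).symm).trans hg')
  · exact (hx m ⟨x', hx'⟩).trans (datum_unique h₀ hE (Exists.choose_spec (⟨x', hx'⟩ : ∃ x, Datum h₀ hE s e m x)) hx')

/-- the value determined by a point of a member, chosen -/
def value {E₀ E : EtOver Y} (h₀ : IsAff E₀) (hE : IsAff E) {T : Over S} (s : T ⟶ D.V E₀ h₀) (e : T ⟶ E.obj.left)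
    (w : (yon S).map e ≫ E.obj.hom = (yon S).map (s ≫ D.v E₀ h₀) ≫ E₀.obj.hom) : T ⟶ D.V E hE :=
  (exists_value h₀ hE s e w).choose

theorem value_v {E₀ E : EtOver Y} (h₀ : IsAff E₀) (hE : IsAff E) {T : Over S} (s : T ⟶ D.V E₀ h₀)
    (e : T ⟶ E.obj.left) (w : (yon S).map e ≫ E.obj.hom = (yon S).map (s ≫ D.v E₀ h₀) ≫ E₀.obj.hom) :
    value h₀ hE s e w ≫ D.v E hE = e :=
  (exists_value h₀ hE s e w).choose_spec.1

theorem value_eq {E₀ E : EtOver Y} (h₀ : IsAff E₀) (hE : IsAff E) {T : Over S} (s : T ⟶ D.V E₀ h₀)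
    (e : T ⟶ E.obj.left) (w : (yon S).map e ≫ E.obj.hom = (yon S).map (s ≫ D.v E₀ h₀) ≫ E₀.obj.hom)
    {T' : Over S} (m : T' ⟶ T) (x : T' ⟶ D.V E hE) (hx : Datum h₀ hE s e m x) : m ≫ value h₀ hE s e w = x :=
  (exists_value h₀ hE s e w).choose_spec.2 m x hx

variable (D)

theorem chart_w {E₀ : EtOver Y} {h₀ : IsAff E₀} {E : EtOver Y} {T' : Over S} {k : T' ⟶ D.V E₀ h₀}
    {e : T' ⟶ E.obj.left}
    (w : (yon S).map e ≫ E.obj.hom = (yon S).map k ≫ (yon S).map (D.v E₀ h₀) ≫ E₀.obj.hom) :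
    (yon S).map e ≫ E.obj.hom = (yon S).map (k ≫ D.v E₀ h₀) ≫ E₀.obj.hom := by
  rw [w, Functor.map_comp, Category.assoc]

/-- the universal point of a member -/
def chartSec (E₀ : EtOver Y) (h₀ : IsAff E₀) : Sec D (D.V E₀ h₀) where
  g := (yon S).map (D.v E₀ h₀) ≫ E₀.obj.hom
  φ T' k E hE e w := value h₀ hE k e (chart_w D w)
  hv T' k E hE e w := value_v _ _ _ _ _
  nat T' T'' m k E E' f hE hE' e e' w w' hef := by
    refine hom_ext_covering (dataSieve_mem h₀ hE' (m ≫ k) e' (chart_w D w')) fun T₃ n hn => ?_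
    obtain ⟨x', hx'⟩ := hn
    obtain ⟨Z, hZ, g, h, y, hg, hh, rfl⟩ := hx'
    rw [← Category.assoc, ← Category.assoc, value_eq h₀ hE' (m ≫ k) e' (chart_w D w') n _
      ⟨Z, hZ, g, h, y, hg, hh, rfl⟩]
    refine ((value_eq h₀ hE k e (chart_w D w) (n ≫ m) _ ⟨Z, hZ, g ≫ f, h, y, ?_, ?_, rfl⟩).trans ?_).symm
    · show (y ≫ D.v Z hZ) ≫ g.hom.left ≫ f.hom.left = _
      rw [← Category.assoc, hg, Category.assoc, hef, Category.assoc]
    · rw [hh, Category.assoc]
    · rw [D.map_comp g f hZ hE' hE, Category.assoc]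

/-- the charts of the relative spectrum -/
def q (E₀ : EtOver Y) (h₀ : IsAff E₀) : (yon S).obj (D.V E₀ h₀) ⟶ obj D := ofSec (chartSec D E₀ h₀)

theorem sec_q (E₀ : EtOver Y) (h₀ : IsAff E₀) : sec (q D E₀ h₀) = chartSec D E₀ h₀ := sec_ofSec _

theorem q_str (E₀ : EtOver Y) (h₀ : IsAff E₀) : q D E₀ h₀ ≫ str D = (yon S).map (D.v E₀ h₀) ≫ E₀.obj.hom := by
  rw [comp_str, sec_q]; rfl

theorem map_q {W E₀ : EtOver Y} (f : W ⟶ E₀) (hW : IsAff W) (h₀ : IsAff E₀) :
    (yon S).map (D.map f hW h₀) ≫ q D E₀ h₀ = q D W hW := by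
  apply sec_injective
  rw [sec_comp, sec_q, sec_q]
  refine Sec.ext' ?_ fun T' k E hE e w => ?_
  · show (yon S).map (D.map f hW h₀) ≫ (yon S).map (D.v E₀ h₀) ≫ E₀.obj.hom =
      (yon S).map (D.v W hW) ≫ W.obj.hom
    rw [← Functor.map_comp_assoc, D.map_v, Functor.map_comp, Category.assoc, EtOver.w]
  · have w1 : (yon S).map e ≫ E.obj.hom = (yon S).map k ≫ (yon S).map (D.v W hW) ≫ W.obj.hom := by
      refine w.trans ?_
      show (yon S).map k ≫ (yon S).map (D.map f hW h₀) ≫ (yon S).map (D.v E₀ h₀) ≫ E₀.obj.hom = _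
      rw [← Functor.map_comp_assoc (yon S) (D.map f hW h₀), D.map_v, Functor.map_comp, Category.assoc, EtOver.w]
    refine hom_ext_covering (dataSieve_mem hW hE k e (chart_w D w1)) fun T₃ n hn => ?_
    obtain ⟨x, Z, hZ, g, h, y, hg, hh, rfl⟩ := hn
    refine (value_eq h₀ hE (k ≫ D.map f hW h₀) e (by
      rw [w1, Category.assoc, D.map_v, Functor.map_comp, Functor.map_comp, Category.assoc, Category.assoc, EtOver.w])
      n _ ⟨Z, hZ, g, h ≫ f, y, hg, ?_, rfl⟩).trans
      (value_eq hW hE k e (chart_w D w1) n _ ⟨Z, hZ, g, h, y, hg, hh, rfl⟩).symm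
    rw [D.map_comp h f hZ hW h₀, reassoc_of% hh]

theorem isPullback_q (E₀ : EtOver Y) (h₀ : IsAff E₀) :
    IsPullback (q D E₀ h₀) ((yon S).map (D.v E₀ h₀)) (str D) E₀.obj.hom := by
  have key : ∀ {T : Over S} (l : (yon S).obj T ⟶ obj D) (u : T ⟶ E₀.obj.left),
      l ≫ str D = (yon S).map u ≫ E₀.obj.hom →
      ∃ a : T ⟶ D.V E₀ h₀, (yon S).map a ≫ q D E₀ h₀ = l ∧ a ≫ D.v E₀ h₀ = u ∧
        ∀ b : T ⟶ D.V E₀ h₀, (yon S).map b ≫ q D E₀ h₀ = l → b ≫ D.v E₀ h₀ = u → b = a := by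
    intro T l u hu
    have hgu : (sec l).g = (yon S).map u ≫ E₀.obj.hom := (comp_str l).symm.trans hu
    have w₀ : (yon S).map u ≫ E₀.obj.hom = (yon S).map (𝟙 T) ≫ (sec l).g := by
      rw [hgu, (yon S).map_id, Category.id_comp]
    let a := (sec l).φ (𝟙 T) E₀ h₀ u w₀
    have ha : a ≫ D.v E₀ h₀ = u := (sec l).hv _ _ _ _ _
    refine ⟨a, sec_injective ?_, ha, fun b hb hbu => ?_⟩
    · rw [sec_comp, sec_q]
      refine Sec.ext' ?_ fun T' k E hE e w => ?_
      · show (yon S).map a ≫ (yon S).map (D.v E₀ h₀) ≫ E₀.obj.hom = (sec l).g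
        rw [hgu, ← Functor.map_comp_assoc, ha]
      · have w' : (yon S).map e ≫ E.obj.hom = (yon S).map k ≫ (sec l).g := by
          refine w.trans ?_
          show (yon S).map k ≫ (yon S).map a ≫ (yon S).map (D.v E₀ h₀) ≫ E₀.obj.hom = _
          rw [hgu, ← Functor.map_comp_assoc (yon S) a, ha]
        have w'' : (yon S).map e ≫ E.obj.hom = (yon S).map ((k ≫ a) ≫ D.v E₀ h₀) ≫ E₀.obj.hom := by
          rw [w', hgu, Category.assoc, ha, Functor.map_comp, Category.assoc]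
        refine hom_ext_covering (dataSieve_mem h₀ hE (k ≫ a) e w'') fun T₃ n hn => ?_
        obtain ⟨x, Z, hZ, g, h, y, hg, hh, rfl⟩ := hn
        refine (value_eq h₀ hE (k ≫ a) e w'' n _ ⟨Z, hZ, g, h, y, hg, hh, rfl⟩).trans ?_
        have hy : (y ≫ D.v Z hZ) ≫ h.hom.left = (n ≫ k) ≫ u := by
          rw [Category.assoc, ← D.map_v h hZ h₀, reassoc_of% hh, ha, Category.assoc]
        have wZ : (yon S).map (y ≫ D.v Z hZ) ≫ Z.obj.hom = (yon S).map (n ≫ k) ≫ (sec l).g := by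
          rw [← EtOver.w h, ← Functor.map_comp_assoc, hy, hgu, ← Functor.map_comp_assoc]
        have e1 := (sec l).nat n k g hE hZ e (y ≫ D.v Z hZ) w' wZ hg
        have e2 := (sec l).nat (n ≫ k) (𝟙 T) h h₀ hZ u (y ≫ D.v Z hZ) w₀ (by rw [Category.comp_id]; exact wZ) hy
        have e3 : (sec l).φ (n ≫ k) Z hZ (y ≫ D.v Z hZ) wZ = y := by
          refine D.hom_ext h hZ h₀ ?_ ((sec l).hv _ _ _ _ _)
          refine ((congrArg (· ≫ D.map h hZ h₀) (Sec.φ_congr rfl (Category.comp_id _).symm wZ)).trans e2).trans ?_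
          rw [hh, Category.assoc]
        exact (congrArg (· ≫ D.map g hZ hE) e3).symm.trans e1
    · have hb' := congrArg sec hb
      rw [sec_comp, sec_q] at hb'
      have wb : (yon S).map u ≫ E₀.obj.hom = (yon S).map (b ≫ D.v E₀ h₀) ≫ E₀.obj.hom := by rw [hbu]
      show b = (sec l).φ (𝟙 T) E₀ h₀ u w₀
      rw [Sec.φ_congr hb'.symm rfl]
      have hd : Datum h₀ h₀ (𝟙 T ≫ b) u (𝟙 T) b :=
        ⟨E₀, h₀, 𝟙 E₀, 𝟙 E₀, b, (Category.comp_id _).trans (by rw [Category.id_comp, hbu]),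
          (by rw [Category.id_comp, Category.id_comp, show D.map (𝟙 E₀) h₀ h₀ = 𝟙 _ from (D.cart (𝟙 E₀) h₀ h₀).hom_ext
            (by rw [← D.map_comp, Category.comp_id, Category.id_comp])
            (by rw [D.map_v, Category.id_comp]; exact Category.comp_id _), Category.comp_id]),
          (by rw [show D.map (𝟙 E₀) h₀ h₀ = 𝟙 _ from (D.cart (𝟙 E₀) h₀ h₀).hom_ext
            (by rw [← D.map_comp, Category.comp_id, Category.id_comp])
            (by rw [D.map_v, Category.id_comp]; exact Category.comp_id _), Category.comp_id])⟩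
      have := value_eq h₀ h₀ (𝟙 T ≫ b) u (by rw [Category.id_comp, hbu]) (𝟙 T) b hd
      exact this.symm.trans (Category.id_comp _)
  let sn : ∀ (c : PullbackCone (str D) E₀.obj.hom) {T : Over S}, ((yon S).obj T ⟶ c.pt) → (T ⟶ E₀.obj.left) :=
    fun c T z => ((yon S).map_surjective (z ≫ c.snd)).choose
  have hsn : ∀ (c : PullbackCone (str D) E₀.obj.hom) {T : Over S} (z : (yon S).obj T ⟶ c.pt),
      (yon S).map (sn c z) = z ≫ c.snd := fun c T z => ((yon S).map_surjective (z ≫ c.snd)).choose_spec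
  have key' : ∀ (c : PullbackCone (str D) E₀.obj.hom) {T : Over S} (z : (yon S).obj T ⟶ c.pt),
      ∃ a : T ⟶ D.V E₀ h₀, (yon S).map a ≫ q D E₀ h₀ = z ≫ c.fst ∧ a ≫ D.v E₀ h₀ = sn c z ∧
        ∀ b : T ⟶ D.V E₀ h₀, (yon S).map b ≫ q D E₀ h₀ = z ≫ c.fst → b ≫ D.v E₀ h₀ = sn c z → b = a :=
    fun c T z => key (z ≫ c.fst) (sn c z) (by rw [Category.assoc, c.condition, ← Category.assoc, hsn])
  choose L hL1 hL2 hL3 using key'
  refine ⟨⟨q_str D E₀ h₀⟩, ⟨PullbackCone.IsLimit.mk _ (fun c => PushSp.homOfNat (fun T z => (yon S).map (L c z))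
    fun T T' a z => ?_) (fun c => ?_) (fun c => ?_) (fun c m h1 h2 => ?_)⟩⟩
  · rw [← Functor.map_comp]
    refine congrArg _ (hL3 c _ _ ?_ ?_)
    · rw [Functor.map_comp, Category.assoc, hL1, Category.assoc]
    · refine (yon S).map_injective ?_
      rw [hsn, Category.assoc a, hL2, Functor.map_comp, hsn, Category.assoc]
  all_goals
    refine hom_ext_of_yon fun T z => ?_
  · rw [← Category.assoc, PushSp.comp_homOfNat, hL1]
  · rw [← Category.assoc, PushSp.comp_homOfNat, ← Functor.map_comp, hL2, hsn]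
  · obtain ⟨b, hb⟩ := (yon S).map_surjective (z ≫ m)
    rw [PushSp.comp_homOfNat, ← hb]
    refine congrArg _ (hL3 c z b ?_ ((yon S).map_injective ?_))
    · rw [hb, Category.assoc, h1]
    · rw [Functor.map_comp, hb, Category.assoc, h2, hsn]

/-- the relative spectrum is an algebraic space -/
theorem isAlgSpace_obj (hY : IsAlgSpace Y) (hcov : ∃ E₀ : EtOver Y, IsAff E₀ ∧ RepWith @Surjective E₀.obj.hom) :
    IsAlgSpace (obj D) := by
  obtain ⟨E₀, h₀, hs₀⟩ := hcov
  have sq := isPullback_q D E₀ h₀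
  have hqe := RepWith.baseChange sq.flip E₀.property
  have hqs := RepWith.baseChange sq.flip hs₀
  haveI : Epi (q D E₀ h₀) := epi_of_etale_surjective hqe hqs
  obtain ⟨t, ht⟩ := (yon S).map_surjective (hqe.1.fst (q D E₀ h₀))
  have sqR : IsPullback ((yon S).map t) ((yon S).map (hqe.1.snd (q D E₀ h₀))) (q D E₀ h₀) (q D E₀ h₀) :=
    ht ▸ hqe.1.isPullback (q D E₀ h₀)
  have hs : Etale (hqe.1.snd (q D E₀ h₀)).left := hqe.property _ _ _ sqR
  have hEt : IsEtaleEqvRel (hqe.1.snd (q D E₀ h₀)) t :=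
    ⟨isEqvRel_of_isPullback sqR, hs, hqe.property _ _ _ sqR.flip⟩
  haveI : IsIso (pullback.lift ((yon S).map t) ((yon S).map (hqe.1.snd (q D E₀ h₀))) sqR.w :
      (yon S).obj _ ⟶ pullback (q D E₀ h₀) (q D E₀ h₀)) := by
    rw [show pullback.lift ((yon S).map t) ((yon S).map (hqe.1.snd (q D E₀ h₀))) sqR.w = sqR.isoPullback.hom from
      pullback.hom_ext (by simp [pullback.lift_fst]) (by simp [pullback.lift_snd])]
    infer_instance
  haveI := isIso_quotSpDesc (s := (yon S).map (hqe.1.snd (q D E₀ h₀))) (t := (yon S).map t) (q D E₀ h₀) sqR.w.symm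
  exact (isAlgSpace_quotSp hEt).of_iso (asIso (quotSpDesc (q D E₀ h₀) sqR.w.symm))

/-- affine members give an affine morphism -/
theorem isAffineMor_str (hY : IsAlgSpace Y) {E₀ : EtOver Y} (h₀ : IsAff E₀) (hs₀ : RepWith @Surjective E₀.obj.hom)
    (hV : IsAffine (D.V E₀ h₀).left) : IsAffineMor (str D) := by
  have hA : IsAlgSpace (obj D) := isAlgSpace_obj D hY ⟨E₀, h₀, hs₀⟩
  haveI := hV
  haveI : IsAffine E₀.obj.left.left := h₀
  refine (isAffineMor_iff_isLocal (fun _ : PUnit.{u + 1} => (yon S).obj E₀.obj.left) (fun _ => E₀.obj.hom) hY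
    (fun _ => IsAlgSpace.yon_obj _)
    (isFpqcCover_of_etale hY _ _ (fun _ => E₀.property) fun x => ⟨⟨⟩, surjective_map_of_repWith hs₀ x⟩)
    (str D) hA (fun _ => (yon S).obj (D.V E₀ h₀)) (fun _ => (yon S).map (D.v E₀ h₀)) (fun _ => q D E₀ h₀)
    (fun _ => IsAlgSpace.yon_obj _) (fun _ => isPullback_q D E₀ h₀)).2 fun _ => ?_
  rw [isAffineMor_iff_repWith]
  exact (repWith_yon_map_iff _ _).2 (isAffineHom_of_isAffine _)

/-- compatible maps on the fibres give a map into the relative spectrum -/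
theorem exists_hom {X : Sp S} {ν : X ⟶ Y} (hr : Representable ν)
    (n : ∀ (E : EtOver Y) (hE : IsAff E), (EtOver.bcObj hr E).obj.left ⟶ D.V E hE)
    (hn : ∀ (E : EtOver Y) (hE : IsAff E), n E hE ≫ D.v E hE = hr.snd E.obj.hom)
    (hnat : ∀ {W E : EtOver Y} (g : W ⟶ E) (hW : IsAff W) (hE : IsAff E),
      (EtOver.bcMap hr g).hom.left ≫ n E hE = n W hW ≫ D.map g hW hE) :
    ∃ i : X ⟶ obj D, i ≫ str D = ν ∧
      ∀ (E : EtOver Y) (hE : IsAff E), hr.fst E.obj.hom ≫ i = (yon S).map (n E hE) ≫ q D E hE := by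
  let pt : ∀ {T : Over S}, ((yon S).obj T ⟶ X) → Sec D T := fun {T} x =>
    { g := x ≫ ν
      φ := fun T' k E hE e w => hr.lift ((yon S).map k ≫ x) e (by rw [Category.assoc, w]) ≫ n E hE
      hv := fun T' k E hE e w => by rw [Category.assoc, hn, hr.lift_snd]
      nat := fun T' T'' m k E E' f hE hE' e e' w w' hef => by
        refine (Category.assoc _ _ _).trans ((congrArg (_ ≫ ·) (hnat f hE' hE).symm).trans
          ((Category.assoc _ _ _).symm.trans (Eq.trans ?_ (Category.assoc _ _ _))))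
        refine congrArg (· ≫ n E hE) (hr.hom_ext ?_ ?_)
        · show (yon S).map (_ ≫ hr.lift _ _ _) ≫ hr.fst E.obj.hom = _
          simp only [Functor.map_comp, Category.assoc, hr.lift_fst, EtOver.bcMap_hom_left]
        · show (_ ≫ hr.lift _ _ _) ≫ hr.snd E.obj.hom = _
          simp only [Category.assoc, hr.lift_snd, EtOver.bcMap_hom_left]
          rw [← Category.assoc, hr.lift_snd, hef] }
  refine ⟨PushSp.homOfNat (fun T x => ofSec (pt x)) fun T T' a x => ?_, hom_ext_of_yon fun T x => ?_,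
    fun E hE => hom_ext_of_yon fun T z => ?_⟩
  · apply sec_injective
    rw [sec_comp, sec_ofSec, sec_ofSec]
    refine Sec.ext' (Category.assoc _ _ _).symm fun T' k E hE e w => ?_
    refine congrArg (· ≫ n E hE) (hr.hom_ext ?_ ?_)
    · rw [hr.lift_fst, hr.lift_fst, Functor.map_comp, Category.assoc]
    · rw [hr.lift_snd, hr.lift_snd]
  · rw [← Category.assoc, PushSp.comp_homOfNat, comp_str, sec_ofSec]
  · obtain ⟨a, rfl⟩ := (yon S).map_surjective z
    rw [← Category.assoc, PushSp.comp_homOfNat]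
    have h1 : (ofSec (pt ((yon S).map a ≫ hr.fst E.obj.hom))) ≫ str D =
        (yon S).map (a ≫ hr.snd E.obj.hom) ≫ E.obj.hom := by
      rw [comp_str, sec_ofSec, Functor.map_comp, Category.assoc]
      show ((yon S).map a ≫ hr.fst E.obj.hom) ≫ ν = _
      rw [Category.assoc, hr.w]
    obtain ⟨b, hb⟩ := (yon S).map_surjective ((isPullback_q D E hE).lift _ _ h1)
    have hb1 : (yon S).map b ≫ q D E hE = ofSec (pt ((yon S).map a ≫ hr.fst E.obj.hom)) := by
      rw [hb]; exact IsPullback.lift_fst _ _ _ _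
    have hb2 : b ≫ D.v E hE = a ≫ hr.snd E.obj.hom := (yon S).map_injective (by
      rw [Functor.map_comp, hb]; exact IsPullback.lift_snd _ _ _ _)
    rw [← hb1, ← Category.assoc, ← Functor.map_comp]
    refine congrArg (fun k => (yon S).map k ≫ q D E hE) ?_
    have hs := congrArg sec hb1
    rw [sec_comp, sec_q, sec_ofSec] at hs
    have w0 : (yon S).map (a ≫ hr.snd E.obj.hom) ≫ E.obj.hom =
        (yon S).map (𝟙 T) ≫ ((chartSec D E hE).res b).g := by
      rw [hs, (yon S).map_id, Category.id_comp, Functor.map_comp, Category.assoc]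
      show _ = ((yon S).map a ≫ hr.fst E.obj.hom) ≫ ν
      rw [Category.assoc, hr.w]
    have e2 := Sec.φ_congr (hE := hE) (a := a ≫ hr.snd E.obj.hom) hs (rfl : 𝟙 T = 𝟙 T) w0
    have hid : D.map (𝟙 E) hE hE = 𝟙 _ := (D.cart (𝟙 E) hE hE).hom_ext
      (by rw [← D.map_comp, Category.comp_id, Category.id_comp])
      (by rw [D.map_v, Category.id_comp]; exact Category.comp_id _)
    have e3 : value hE hE (𝟙 T ≫ b) (a ≫ hr.snd E.obj.hom) (by rw [Category.id_comp, hb2]) = b := by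
      have := value_eq hE hE (𝟙 T ≫ b) (a ≫ hr.snd E.obj.hom) (by rw [Category.id_comp, hb2]) (𝟙 T) b
        ⟨E, hE, 𝟙 E, 𝟙 E, b, (Category.comp_id _).trans (by rw [Category.id_comp, hb2]),
          by rw [hid, Category.comp_id, Category.id_comp, Category.id_comp], by rw [hid, Category.comp_id]⟩
      exact (Category.id_comp _).symm.trans this
    refine e3.symm.trans (e2.trans ?_)
    refine (congrArg (· ≫ n E hE) (hr.hom_ext (b := a) ?_ ?_))
    · rw [hr.lift_fst, (yon S).map_id, Category.id_comp]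
    · rw [hr.lift_snd]

end Groth.Agent.AlgSpLib.RelSpecSp
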