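import Groth.Agent.AlgSpLib.FibreProdBC
import Groth.Agent.AlgSpLib.RelSpecSp
import Groth.Agent.AlgSpLib.FpqcBaseIso
import Groth.Agent.AlgSpLib.FpqcBaseAffine2
import Groth.Agent.Stk19b.Fppf.Bootstrap

/-!
Pinching the fibre of an integral morphism over a closed subspace: the fibre products of rings on the affine objects
form a cartesian family.
-/

universe u

open CategoryTheory CategoryTheory.Limits AlgebraicGeometry Opposite
open AlgSp

noncomputable section

namespace Groth.Agent.AlgSpLib.PointPinch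

set_option autoImplicit false
set_option backward.isDefEq.respectTransparency.types false
set_option backward.isDefEq.respectTransparency false
set_option linter.style.haveILetI false

open Groth.Agent.AlgSpLib Groth.Agent.AlgSpLib.QCohEt FibreProdBC

variable {S : Scheme.{u}} {X Y : Sp S} {f : X ⟶ Y} {K : Over S} {s : (yon S).obj K ⟶ Y}

/-- the map on base changes over a map of etale objects is cartesian -/
theorem isPullback_bc {F : Sp S} {a : F ⟶ Y} (hr : Representable a) {W E : EtOver Y} (g : W ⟶ E) :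
    IsPullback (EtOver.bcMap hr g).hom.left.left (EtOver.bcπ hr W).left (EtOver.bcπ hr E).left g.hom.left.left := by
  refine ((IsPullback.of_map_of_faithful (yon S) ?_).map (Over.forget S))
  refine IsPullback.of_right ?_ (by rw [← Functor.map_comp, EtOver.bcMap_snd, Functor.map_comp])
    (hr.isPullback E.obj.hom)
  have := hr.isPullback W.obj.hom
  rw [EtOver.map_bcMap_fst, EtOver.w g]
  exact this

variable (hf : Representable f) (hs : Representable s)

/-- the base change of `f` -/
abbrev XE (E : EtOver Y) : Scheme.{u} := (EtOver.bcObj hf E).obj.left.left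

/-- its projection -/
abbrev πX (E : EtOver Y) : XE hf E ⟶ E.obj.left.left := (EtOver.bcπ hf E).left

/-- its transition maps -/
abbrev xm {W E : EtOver Y} (g : W ⟶ E) : XE hf W ⟶ XE hf E := (EtOver.bcMap hf g).hom.left.left

/-- the fibre of `f` over `s` -/
abbrev ZE (E : EtOver Y) : Scheme.{u} := Limits.pullback (πX hf E) (πX hs E)

/-- its transition maps -/
def zm {W E : EtOver Y} (g : W ⟶ E) : ZE hf hs W ⟶ ZE hf hs E :=
  pullback.map _ _ _ _ (xm hf g) (xm hs g) g.hom.left.left (isPullback_bc hf g).w.symm (isPullback_bc hs g).w.symm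

@[reassoc]
theorem zm_fst {W E : EtOver Y} (g : W ⟶ E) :
    zm hf hs g ≫ pullback.fst _ _ = pullback.fst _ _ ≫ xm hf g := pullback.lift_fst _ _ _

@[reassoc]
theorem zm_snd {W E : EtOver Y} (g : W ⟶ E) :
    zm hf hs g ≫ pullback.snd _ _ = pullback.snd _ _ ≫ xm hs g := pullback.lift_snd _ _ _

theorem isPullback_zm {W E : EtOver Y} (g : W ⟶ E) :
    IsPullback (zm hf hs g) (pullback.fst _ _ ≫ πX hf W) (pullback.fst _ _ ≫ πX hf E) g.hom.left.left := by
  refine IsPullback.paste_vert ?_ (isPullback_bc hf g)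
  refine (IsPullback.of_right ?_ (zm_fst hf hs g) (IsPullback.of_hasPullback (πX hf E) (πX hs E)).flip)
  rw [zm_snd hf hs g, (isPullback_bc hf g).w]
  exact (IsPullback.of_hasPullback (πX hf W) (πX hs W)).flip.paste_horiz (isPullback_bc hs g)

/-- the functions on the pinching -/
abbrev R (E : EtOver Y) : Subring (Γ(XE hf E, ⊤) × Γ(XE hs E, ⊤)) :=
  fp (pullback.fst (πX hf E) (πX hs E)).appTop.hom (pullback.snd (πX hf E) (πX hs E)).appTop.hom

/-- the structure map -/
def str' (E : EtOver Y) : Γ(E.obj.left.left, ⊤) →+* R hf hs E :=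
  lift _ _ (πX hf E).appTop.hom (πX hs E).appTop.hom (RingHom.ext fun x => by
    have h := congrArg (fun m => m.hom x) (congrArg (fun a : ZE hf hs E ⟶ E.obj.left.left => a.appTop)
      (pullback.condition (f := πX hf E) (g := πX hs E)))
    simpa [Scheme.Hom.comp_appTop] using h)

/-- the transition map -/
def trans {W E : EtOver Y} (g : W ⟶ E) : R hf hs E →+* R hf hs W :=
  lift _ _ ((xm hf g).appTop.hom.comp (p₁ _ _)) ((xm hs g).appTop.hom.comp (p₂ _ _)) (RingHom.ext fun x => by
    have h1 := congrArg (fun m => m.hom x.1.1) (congrArg (fun a : ZE hf hs W ⟶ XE hf E => a.appTop) (zm_fst hf hs g))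
    have h2 := congrArg (fun m => m.hom x.1.2) (congrArg (fun a : ZE hf hs W ⟶ XE hs E => a.appTop) (zm_snd hf hs g))
    simp only [Scheme.Hom.comp_appTop, CommRingCat.hom_comp, RingHom.comp_apply] at h1 h2
    exact h1.symm.trans ((congrArg (zm hf hs g).appTop.hom x.2).trans h2))

theorem trans_str' {W E : EtOver Y} (g : W ⟶ E) :
    (trans hf hs g).comp (str' hf hs E) = (str' hf hs W).comp g.hom.left.left.appTop.hom := by
  have key : ∀ {F : Sp S} {a : F ⟶ Y} (ha : Representable a), (xm ha g).appTop.hom.comp (πX ha E).appTop.hom =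
      (πX ha W).appTop.hom.comp g.hom.left.left.appTop.hom := fun ha => by
    rw [← CommRingCat.hom_comp, ← CommRingCat.hom_comp, ← Scheme.Hom.comp_appTop, ← Scheme.Hom.comp_appTop,
      (isPullback_bc ha g).w]
  exact FibreProdBC.hom_ext _ _ (key hf) (key hs)

theorem trans_comp {Z W E : EtOver Y} (a : Z ⟶ W) (b : W ⟶ E) :
    trans hf hs (a ≫ b) = (trans hf hs a).comp (trans hf hs b) := by
  have key : ∀ {F : Sp S} {c : F ⟶ Y} (hc : Representable c), (xm hc (a ≫ b)).appTop.hom =
      (xm hc a).appTop.hom.comp (xm hc b).appTop.hom := fun {F c} hc => by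
    rw [← CommRingCat.hom_comp, ← Scheme.Hom.comp_appTop, show xm hc (a ≫ b) = xm hc a ≫ xm hc b from
      congrArg (fun e => e.hom.left.left) ((EtOver.bc hc).map_comp a b)]
  exact FibreProdBC.hom_ext _ _ (congrArg (fun r => r.comp (p₁ (pullback.fst (πX hf E) (πX hs E)).appTop.hom
      (pullback.snd (πX hf E) (πX hs E)).appTop.hom)) (key hf))
    (congrArg (fun r => r.comp (p₂ (pullback.fst (πX hf E) (πX hs E)).appTop.hom
      (pullback.snd (πX hf E) (πX hs E)).appTop.hom)) (key hs))

/-- the member over an affine object -/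
def V (E : EtOver Y) (hE : IsAff E) : Over S :=
  haveI : IsAffine E.obj.left.left := hE
  Over.mk (Spec.map (CommRingCat.ofHom (str' hf hs E)) ≫ E.obj.left.left.isoSpec.inv ≫ E.obj.left.hom)

/-- its projection -/
def vproj (E : EtOver Y) (hE : IsAff E) : V hf hs E hE ⟶ E.obj.left :=
  haveI : IsAffine E.obj.left.left := hE
  Over.homMk (Spec.map (CommRingCat.ofHom (str' hf hs E)) ≫ E.obj.left.left.isoSpec.inv) (Category.assoc _ _ _)

theorem spec_trans {W E : EtOver Y} (g : W ⟶ E) [IsAffine W.obj.left.left] [IsAffine E.obj.left.left] :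
    Spec.map (CommRingCat.ofHom (trans hf hs g)) ≫ Spec.map (CommRingCat.ofHom (str' hf hs E)) ≫
        E.obj.left.left.isoSpec.inv =
      (Spec.map (CommRingCat.ofHom (str' hf hs W)) ≫ W.obj.left.left.isoSpec.inv) ≫ g.hom.left.left := by
  rw [Category.assoc, ← Scheme.isoSpec_inv_naturality, ← Spec.map_comp_assoc, ← Spec.map_comp_assoc]
  congr 2
  exact CommRingCat.hom_ext (trans_str' hf hs g)

/-- the transition morphism -/
def vmap {W E : EtOver Y} (g : W ⟶ E) (hW : IsAff W) (hE : IsAff E) : V hf hs W hW ⟶ V hf hs E hE :=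
  haveI : IsAffine W.obj.left.left := hW
  haveI : IsAffine E.obj.left.left := hE
  Over.homMk (Spec.map (CommRingCat.ofHom (trans hf hs g))) (by
    show _ ≫ Spec.map _ ≫ _ ≫ _ = Spec.map _ ≫ _ ≫ _
    rw [← Category.assoc (Spec.map (CommRingCat.ofHom (str' hf hs E))), ← Category.assoc, spec_trans,
      Category.assoc, Category.assoc, Over.w])

section affine

variable (hfa : RepWith @IsAffineHom f) (hsa : RepWith @IsAffineHom s)

theorem cart {W E : EtOver Y} (g : W ⟶ E) (hW : IsAff W) (hE : IsAff E) :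
    IsPullback (vmap hfa.1 hsa.1 g hW hE) (vproj hfa.1 hsa.1 W hW) (vproj hfa.1 hsa.1 E hE) g.hom.left := by
  haveI : IsAffine W.obj.left.left := hW
  haveI : IsAffine E.obj.left.left := hE
  haveI : IsAffineHom (πX hfa.1 E) := hfa.property _ _ _ (hfa.1.isPullback _)
  haveI : IsAffineHom (πX hsa.1 E) := hsa.property _ _ _ (hsa.1.isPullback _)
  haveI : IsAffine (XE hfa.1 E) := isAffine_of_isAffineHom (πX hfa.1 E)
  haveI : IsAffine (XE hsa.1 E) := isAffine_of_isAffineHom (πX hsa.1 E)
  haveI : IsAffine (ZE hfa.1 hsa.1 E) := isAffine_of_isAffineHom (pullback.fst (πX hfa.1 E) (πX hsa.1 E))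
  haveI : Etale g.hom.left.left := EtOver.etale_left g
  have hr : g.hom.left.left.appTop.hom.Flat :=
    (HasRingHomProperty.iff_of_isAffine (P := @Flat) (f := g.hom.left.left)).1 inferInstance
  have hp := isPushout_fp (A := Γ(E.obj.left.left, ⊤)) g.hom.left.left.appTop hr
    (isPushout_appTop_of_isPullback (isPullback_bc hfa.1 g).flip)
    (isPushout_appTop_of_isPullback (isPullback_bc hsa.1 g).flip)
    (isPushout_appTop_of_isPullback (isPullback_zm hfa.1 hsa.1 g).flip)
    (pullback.fst (πX hfa.1 E) (πX hsa.1 E)).appTop (pullback.snd (πX hfa.1 E) (πX hsa.1 E)).appTop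
    (pullback.fst (πX hfa.1 W) (πX hsa.1 W)).appTop (pullback.snd (πX hfa.1 W) (πX hsa.1 W)).appTop
    (Scheme.Hom.comp_appTop _ _).symm
    (by rw [← Scheme.Hom.comp_appTop, ← pullback.condition])
    (Scheme.Hom.comp_appTop _ _).symm
    (by rw [← Scheme.Hom.comp_appTop, ← pullback.condition])
    (by rw [← Scheme.Hom.comp_appTop, ← Scheme.Hom.comp_appTop, zm_fst])
    (by rw [← Scheme.Hom.comp_appTop, ← Scheme.Hom.comp_appTop, zm_snd])
    (str' hfa.1 hsa.1 E) (fun _ => rfl) (str' hfa.1 hsa.1 W) (fun _ => rfl) (trans hfa.1 hsa.1 g) (fun _ => rfl)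
  refine IsPullback.of_map_of_faithful (Over.forget S) ?_
  show IsPullback (Spec.map (CommRingCat.ofHom (trans hfa.1 hsa.1 g)))
    (Spec.map (CommRingCat.ofHom (str' hfa.1 hsa.1 W)) ≫ W.obj.left.left.isoSpec.inv)
    (Spec.map (CommRingCat.ofHom (str' hfa.1 hsa.1 E)) ≫ E.obj.left.left.isoSpec.inv) g.hom.left.left
  exact (isPullback_SpecMap_of_isPushout _ _ _ _ hp).flip.paste_vert
    (IsPullback.of_vert_isIso ⟨Scheme.isoSpec_inv_naturality _⟩)

/-- the cartesian family -/
def data : RelSpecSp.CartData Y where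
  V := V hfa.1 hsa.1
  v := vproj hfa.1 hsa.1
  map g hW hE := vmap hfa.1 hsa.1 g hW hE
  map_comp a b hZ hW hE := by
    apply Over.OverMorphism.ext
    show Spec.map _ = Spec.map _ ≫ Spec.map _
    rw [← Spec.map_comp]
    exact congrArg (fun r => Spec.map (CommRingCat.ofHom r)) (trans_comp _ _ a b)
  cart g hW hE := cart hfa hsa g hW hE

end affine

end Groth.Agent.AlgSpLib.PointPinch
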