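import Groth.Agent.AlgSpLib.PointPinch

/-!
The charts of a pinching: the closed fibre, the open complement, integrality and finiteness.
-/

universe u

open CategoryTheory CategoryTheory.Limits AlgebraicGeometry Opposite
open AlgSp

noncomputable section

namespace Groth.Agent.AlgSpLib.PointPinch

set_option autoImplicit false
set_option backward.isDefEq.respectTransparency.types false
set_option backward.isDefEq.respectTransparency false
set_option linter.style.haveILetI false

open Groth.Agent.AlgSpLib Groth.Agent.AlgSpLib.QCohEt FibreProdBC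

/-- a property local on the target, checked on opens covering the image of the base change -/
theorem property_snd_of_opens (P : MorphismProperty Scheme.{u}) [IsZariskiLocalAtTarget P]
    [P.IsStableUnderBaseChange] {Q X T V : Scheme.{u}} {a : Q ⟶ X} {b : Q ⟶ T} {n : X ⟶ V} {w : T ⟶ V}
    (sq : IsPullback a b n w) (h : ∀ t : T, ∃ D : V.Opens, w t ∈ D ∧ P (n ∣_ D)) : P b := by
  choose D hD hP using h
  refine (IsZariskiLocalAtTarget.iff_of_iSup_eq_top (fun t => w ⁻¹ᵁ D t) ?_).2 fun t => ?_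
  · exact top_le_iff.1 fun t _ => TopologicalSpace.Opens.mem_iSup.2 ⟨t, hD t⟩
  have big := (isPullback_morphismRestrict b (w ⁻¹ᵁ D t)).flip.paste_horiz sq
  rw [← morphismRestrict_ι w (D t)] at big
  have R := (isPullback_morphismRestrict n (D t)).flip
  let l := R.lift ((b ⁻¹ᵁ w ⁻¹ᵁ D t).ι ≫ a) ((b ∣_ w ⁻¹ᵁ D t) ≫ (w ∣_ D t))
    (big.w.trans (Category.assoc _ _ _).symm)
  rw [← show l ≫ (n ⁻¹ᵁ D t).ι = (b ⁻¹ᵁ w ⁻¹ᵁ D t).ι ≫ a from R.lift_fst _ _ _] at big
  exact P.of_isPullback (IsPullback.of_right big (R.lift_snd _ _ _) R) (hP t)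

section rings

variable {A B C D : Type u} [CommRing A] [CommRing B] [CommRing C] [CommRing D]
  (φ : B →+* D) (ψ : C →+* D) (i : A →+* fp φ ψ)

theorem exists_comap_p₂_eq (hc : Function.Surjective ((p₂ φ ψ).comp i))
    (hker : ∀ b, φ b = 0 → b ∈ (RingHom.ker ((p₂ φ ψ).comp i)).map ((p₁ φ ψ).comp i))
    (q : PrimeSpectrum (fp φ ψ)) (hq : RingHom.ker ((p₂ φ ψ).comp i) ≤ q.asIdeal.comap i) :
    ∃ c : PrimeSpectrum C, PrimeSpectrum.comap (p₂ φ ψ) c = q := by
  let J : Ideal B :=
    { carrier := {b | ∃ h : (b, (0 : C)) ∈ fp φ ψ, (⟨(b, 0), h⟩ : fp φ ψ) ∈ q.asIdeal}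
      zero_mem' := ⟨(fp φ ψ).zero_mem, q.asIdeal.zero_mem⟩
      add_mem' := by
        rintro x y ⟨hx, hx'⟩ ⟨hy, hy'⟩
        have e : ((x + y, 0) : B × C) = (x, 0) + (y, 0) := Prod.ext rfl (zero_add 0).symm
        refine ⟨e ▸ (fp φ ψ).add_mem hx hy, ?_⟩
        convert q.asIdeal.add_mem hx' hy' using 1
        exact Subtype.ext e
      smul_mem' := by
        rintro c x ⟨hx, hx'⟩
        have hx0 : φ x = 0 := ((mem_fp φ ψ).1 hx).trans (map_zero ψ)
        have hm : ∀ d : B, (d * x, (0 : C)) ∈ fp φ ψ := fun d => by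
          rw [mem_fp, map_mul, hx0, mul_zero, map_zero]
        show ∃ h : (c * x, (0 : C)) ∈ fp φ ψ, (⟨(c * x, 0), h⟩ : fp φ ψ) ∈ q.asIdeal
        refine ⟨hm c, (q.isPrime.mem_or_mem ?_).elim id id⟩
        have e : (⟨(c * x, 0), hm c⟩ * ⟨(c * x, 0), hm c⟩ : fp φ ψ) = ⟨(c * c * x, 0), hm _⟩ * ⟨(x, 0), hx⟩ :=
          Subtype.ext (Prod.ext (by show c * x * (c * x) = c * c * x * x; ring) rfl)
        rw [e]
        exact q.asIdeal.mul_mem_left _ hx' }
  have hJ : (RingHom.ker ((p₂ φ ψ).comp i)).map ((p₁ φ ψ).comp i) ≤ J := Ideal.map_le_iff_le_comap.2 fun a ha => by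
    have e : i a = ⟨((p₁ φ ψ) (i a), 0), by rw [← show (i a).1.2 = 0 from ha]; exact (i a).2⟩ :=
      Subtype.ext (Prod.ext rfl ha)
    have h' : i a ∈ q.asIdeal := hq ha
    rw [e] at h'
    exact ⟨_, h'⟩
  have hle : RingHom.ker (p₂ φ ψ) ≤ q.asIdeal := fun x hx => by
    have hx' : x.1.2 = 0 := hx
    obtain ⟨h, h'⟩ := hJ (hker x.1.1 (((mem_fp φ ψ).1 x.2).trans (by rw [hx', map_zero])))
    convert h'
  have hs : Function.Surjective (p₂ φ ψ) := fun c => by
    obtain ⟨a, rfl⟩ := hc c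
    exact ⟨i a, rfl⟩
  exact (Set.ext_iff.1 (range_comap_of_surjective _ _ hs) q).2 hle

theorem isIntegral_fp (h₁ : ((p₁ φ ψ).comp i).IsIntegral) (h₂ : ((p₂ φ ψ).comp i).IsIntegral) : i.IsIntegral :=
  fun x => by
  obtain ⟨P, hPm, hP⟩ := h₁ x.1.1
  obtain ⟨Q, hQm, hQ⟩ := h₂ x.1.2
  refine ⟨P * Q, hPm.mul hQm, ?_⟩
  refine Subtype.ext (Prod.ext ?_ ?_)
  · show p₁ φ ψ ((P * Q).eval₂ i x) = 0
    rw [Polynomial.hom_eval₂, Polynomial.eval₂_mul]
    exact (congrArg (· * _) hP).trans (zero_mul _)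
  · show p₂ φ ψ ((P * Q).eval₂ i x) = 0
    rw [Polynomial.hom_eval₂, Polynomial.eval₂_mul]
    exact (congrArg (_ * ·) hQ).trans (mul_zero _)

theorem finite_fp [IsNoetherianRing A] (h₁ : ((p₁ φ ψ).comp i).Finite) (h₂ : ((p₂ φ ψ).comp i).Finite) :
    i.Finite := by
  letI := ((p₁ φ ψ).comp i).toAlgebra
  letI := ((p₂ φ ψ).comp i).toAlgebra
  letI := i.toAlgebra
  haveI : Module.Finite A B := h₁
  haveI : Module.Finite A C := h₂
  let f : fp φ ψ →ₗ[A] B × C :=
    { toFun := fun x => x.1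
      map_add' := fun _ _ => rfl
      map_smul' := fun a x => by rw [Algebra.smul_def, Algebra.smul_def]; rfl }
  exact Module.Finite.of_injective f Subtype.val_injective

end rings

theorem isIntegral_appTop {U W : Scheme.{u}} (p : U ⟶ W) [IsAffine W] [IsIntegralHom p] :
    p.appTop.hom.IsIntegral := IsIntegralHom.isIntegral_app p ⊤ (isAffineOpen_top W)

variable {S : Scheme.{u}} {X Y : Sp S} {f : X ⟶ Y} {K : Over S} {s : (yon S).obj K ⟶ Y}

/-- the map from the base change -/
def nX (hf : Representable f) (hs : Representable s) (hfa : RepWith @IsAffineHom f) (E : EtOver Y) (hE : IsAff E) :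
    (EtOver.bcObj hf E).obj.left ⟶ V hf hs E hE :=
  haveI : IsAffine E.obj.left.left := hE
  haveI : IsAffineHom (πX hf E) := hfa.property _ _ _ (hf.isPullback _)
  haveI : IsAffine (XE hf E) := isAffine_of_isAffineHom (πX hf E)
  Over.homMk ((XE hf E).isoSpec.hom ≫ Spec.map (CommRingCat.ofHom (p₁ _ _))) (by
    show (_ ≫ _) ≫ Spec.map _ ≫ E.obj.left.left.isoSpec.inv ≫ E.obj.left.hom = _
    rw [Category.assoc, ← Spec.map_comp_assoc]
    show _ ≫ Spec.map (πX hf E).appTop ≫ _ ≫ _ = _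
    rw [Scheme.isoSpec_hom_naturality_assoc, Iso.hom_inv_id_assoc]
    exact Over.w (EtOver.bcπ hf E))

/-- the map from the fibre of the subspace -/
def nK (hf : Representable f) (hs : Representable s) (hsa : RepWith @IsAffineHom s) (E : EtOver Y) (hE : IsAff E) :
    (EtOver.bcObj hs E).obj.left ⟶ V hf hs E hE :=
  haveI : IsAffine E.obj.left.left := hE
  haveI : IsAffineHom (πX hs E) := hsa.property _ _ _ (hs.isPullback _)
  haveI : IsAffine (XE hs E) := isAffine_of_isAffineHom (πX hs E)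
  Over.homMk ((XE hs E).isoSpec.hom ≫ Spec.map (CommRingCat.ofHom (p₂ _ _))) (by
    show (_ ≫ _) ≫ Spec.map _ ≫ E.obj.left.left.isoSpec.inv ≫ E.obj.left.hom = _
    rw [Category.assoc, ← Spec.map_comp_assoc]
    show _ ≫ Spec.map (πX hs E).appTop ≫ _ ≫ _ = _
    rw [Scheme.isoSpec_hom_naturality_assoc, Iso.hom_inv_id_assoc]
    exact Over.w (EtOver.bcπ hs E))

variable {hf : Representable f} {hs : Representable s} (hfa : RepWith @IsAffineHom f) (hsa : RepWith @IsAffineHom s)
  (E : EtOver Y) (hE : IsAff E)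

theorem nX_v : nX hf hs hfa E hE ≫ vproj hf hs E hE = EtOver.bcπ hf E := by
  apply Over.OverMorphism.ext
  haveI : IsAffine E.obj.left.left := hE
  haveI : IsAffineHom (πX hf E) := hfa.property _ _ _ (hf.isPullback _)
  haveI : IsAffine (XE hf E) := isAffine_of_isAffineHom (πX hf E)
  show ((XE hf E).isoSpec.hom ≫ Spec.map _) ≫ Spec.map _ ≫ _ = _
  rw [Category.assoc, ← Spec.map_comp_assoc]
  show _ ≫ Spec.map (πX hf E).appTop ≫ _ = _
  rw [Scheme.isoSpec_hom_naturality_assoc, Iso.hom_inv_id, Category.comp_id]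

theorem nK_v : nK hf hs hsa E hE ≫ vproj hf hs E hE = EtOver.bcπ hs E := by
  apply Over.OverMorphism.ext
  haveI : IsAffine E.obj.left.left := hE
  haveI : IsAffineHom (πX hs E) := hsa.property _ _ _ (hs.isPullback _)
  haveI : IsAffine (XE hs E) := isAffine_of_isAffineHom (πX hs E)
  show ((XE hs E).isoSpec.hom ≫ Spec.map _) ≫ Spec.map _ ≫ _ = _
  rw [Category.assoc, ← Spec.map_comp_assoc]
  show _ ≫ Spec.map (πX hs E).appTop ≫ _ = _
  rw [Scheme.isoSpec_hom_naturality_assoc, Iso.hom_inv_id, Category.comp_id]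

theorem nX_nat {W : EtOver Y} (g : W ⟶ E) (hW : IsAff W) :
    (EtOver.bcMap hf g).hom.left ≫ nX hf hs hfa E hE = nX hf hs hfa W hW ≫ vmap hf hs g hW hE := by
  apply Over.OverMorphism.ext
  show xm hf g ≫ _ ≫ _ = (_ ≫ _) ≫ Spec.map _
  haveI : IsAffine E.obj.left.left := hE
  haveI : IsAffine W.obj.left.left := hW
  haveI : IsAffineHom (πX hf E) := hfa.property _ _ _ (hf.isPullback _)
  haveI : IsAffine (XE hf E) := isAffine_of_isAffineHom (πX hf E)
  haveI : IsAffineHom (πX hf W) := hfa.property _ _ _ (hf.isPullback _)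
  haveI : IsAffine (XE hf W) := isAffine_of_isAffineHom (πX hf W)
  rw [← Scheme.isoSpec_hom_naturality_assoc, Category.assoc, ← Spec.map_comp, ← Spec.map_comp]
  rfl

theorem nK_nat {W : EtOver Y} (g : W ⟶ E) (hW : IsAff W) :
    (EtOver.bcMap hs g).hom.left ≫ nK hf hs hsa E hE = nK hf hs hsa W hW ≫ vmap hf hs g hW hE := by
  apply Over.OverMorphism.ext
  show xm hs g ≫ _ ≫ _ = (_ ≫ _) ≫ Spec.map _
  haveI : IsAffine E.obj.left.left := hE
  haveI : IsAffine W.obj.left.left := hW
  haveI : IsAffineHom (πX hs E) := hsa.property _ _ _ (hs.isPullback _)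
  haveI : IsAffine (XE hs E) := isAffine_of_isAffineHom (πX hs E)
  haveI : IsAffineHom (πX hs W) := hsa.property _ _ _ (hs.isPullback _)
  haveI : IsAffine (XE hs W) := isAffine_of_isAffineHom (πX hs W)
  rw [← Scheme.isoSpec_hom_naturality_assoc, Category.assoc, ← Spec.map_comp, ← Spec.map_comp]
  rfl

theorem isIntegralHom_v [IsIntegralHom (πX hf E)] [IsIntegralHom (πX hs E)] :
    IsIntegralHom (vproj hf hs E hE).left := by
  haveI : IsAffine E.obj.left.left := hE
  show IsIntegralHom (Spec.map (CommRingCat.ofHom (str' hf hs E)) ≫ E.obj.left.left.isoSpec.inv)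
  refine (MorphismProperty.cancel_right_of_respectsIso @IsIntegralHom _ _).2 (IsIntegralHom.SpecMap_iff.2 ?_)
  exact isIntegral_fp _ _ _ (isIntegral_appTop (πX hf E)) (isIntegral_appTop (πX hs E))

theorem isFinite_v [IsFinite (πX hf E)] [IsFinite (πX hs E)] [IsLocallyNoetherian E.obj.left.left] :
    IsFinite (vproj hf hs E hE).left := by
  haveI : IsAffine E.obj.left.left := hE
  haveI : IsNoetherianRing Γ(E.obj.left.left, ⊤) :=
    IsLocallyNoetherian.component_noetherian ⟨⊤, isAffineOpen_top _⟩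
  show IsFinite (Spec.map (CommRingCat.ofHom (str' hf hs E)) ≫ E.obj.left.left.isoSpec.inv)
  refine (MorphismProperty.cancel_right_of_respectsIso @IsFinite _ _).2 ((IsFinite.SpecMap_iff _).2 ?_)
  exact finite_fp _ _ _ ((πX hf E).finite_app ⊤ (isAffineOpen_top _)) ((πX hs E).finite_app ⊤ (isAffineOpen_top _))

include hfa in
theorem exists_nK_eq [IsClosedImmersion (πX hs E)] (q : (V hf hs E hE).left)
    (hq : (vproj hf hs E hE).left q ∈ Set.range (πX hs E)) :
    ∃ k, (nK hf hs hsa E hE).left k = q := by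
  haveI : IsAffine E.obj.left.left := hE
  haveI : IsAffineHom (πX hf E) := hfa.property _ _ _ (hf.isPullback _)
  haveI : IsAffine (XE hf E) := isAffine_of_isAffineHom (πX hf E)
  haveI : IsAffineHom (πX hs E) := hsa.property _ _ _ (hs.isPullback _)
  haveI : IsAffine (XE hs E) := isAffine_of_isAffineHom (πX hs E)
  have hc : Function.Surjective ((p₂ _ _).comp (str' hf hs E)) :=
    (IsClosedImmersion.isAffine_surjective_of_isAffine (πX hs E)).2
  obtain ⟨k₀, hk₀⟩ := hq
  have hk : Spec.map (πX hs E).appTop ((XE hs E).isoSpec.hom k₀) = Spec.map (CommRingCat.ofHom (str' hf hs E)) q := by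
    have h1 : E.obj.left.left.isoSpec.hom ((πX hs E) k₀) = Spec.map (πX hs E).appTop ((XE hs E).isoSpec.hom k₀) := by
      rw [← Scheme.Hom.comp_apply, ← Scheme.Hom.comp_apply, Scheme.isoSpec_hom_naturality]
    rw [← h1, hk₀]
    show (((vproj hf hs E hE).left ≫ E.obj.left.left.isoSpec.hom) q) = _
    show ((Spec.map (CommRingCat.ofHom (str' hf hs E)) ≫ E.obj.left.left.isoSpec.inv) ≫ _) q = _
    rw [Category.assoc, Iso.inv_hom_id, Category.comp_id]
    rfl
  obtain ⟨c, hc'⟩ := exists_comap_p₂_eq _ _ (str' hf hs E) hc (fun b hb => by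
    have po := isPushout_appTop_of_isPullback (IsPullback.of_hasPullback (πX hf E) (πX hs E))
    let J := (RingHom.ker (πX hs E).appTop.hom).map (πX hf E).appTop.hom
    have hc' : Function.Surjective (πX hs E).appTop.hom := hc
    let χ : { g : Γ(E.obj.left.left, ⊤) →+* Γ(XE hf E, ⊤) ⧸ J // RingHom.ker (πX hs E).appTop.hom ≤ RingHom.ker g } :=
      ⟨(Ideal.Quotient.mk J).comp (πX hf E).appTop.hom, fun a ha =>
        Ideal.Quotient.eq_zero_iff_mem.2 (Ideal.mem_map_of_mem _ ha)⟩
    let γ := RingHom.liftOfRightInverse (πX hs E).appTop.hom (Function.surjInv hc')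
      (Function.rightInverse_surjInv hc') χ
    have w : (πX hf E).appTop ≫ CommRingCat.ofHom (Ideal.Quotient.mk J) = (πX hs E).appTop ≫ CommRingCat.ofHom γ :=
      CommRingCat.hom_ext (RingHom.ext fun a => by
        show χ.1 a = γ ((πX hs E).appTop.hom a)
        exact (RingHom.liftOfRightInverse_comp_apply (πX hs E).appTop.hom (Function.surjInv hc')
          (Function.rightInverse_surjInv hc') χ a).symm)
    have h := congrArg (fun m : Γ(XE hf E, ⊤) ⟶ _ => m.hom b) (po.inl_desc _ _ w)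
    refine Ideal.Quotient.eq_zero_iff_mem.1 (h.symm.trans ?_)
    show (po.desc _ _ w).hom ((pullback.fst (πX hf E) (πX hs E)).appTop.hom b) = 0
    rw [hb, map_zero])
    q (fun a ha => by
      have h : PrimeSpectrum.comap (πX hs E).appTop.hom ((XE hs E).isoSpec.hom k₀) =
          PrimeSpectrum.comap (str' hf hs E) q := hk
      have : a ∈ (PrimeSpectrum.comap (πX hs E).appTop.hom ((XE hs E).isoSpec.hom k₀)).asIdeal := by
        rw [PrimeSpectrum.comap_asIdeal]
        refine Ideal.mem_comap.2 ?_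
        rw [show (πX hs E).appTop.hom a = 0 from ha]
        exact Ideal.zero_mem _
      rw [h] at this
      exact this)
  refine ⟨(XE hs E).isoSpec.inv c, ?_⟩
  show ((XE hs E).isoSpec.hom ≫ Spec.map (CommRingCat.ofHom (p₂ _ _))) ((XE hs E).isoSpec.inv c) = q
  rw [← Scheme.Hom.comp_apply, Iso.inv_hom_id_assoc]
  exact hc'

theorem exists_open_iso [IsClosedImmersion (πX hs E)] (q : (V hf hs E hE).left)
    (hq : q ∉ Set.range (nK hf hs hsa E hE).left) :
    ∃ D : (V hf hs E hE).left.Opens, q ∈ D ∧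
      MorphismProperty.isomorphisms Scheme.{u} ((nX hf hs hfa E hE).left ∣_ D) := by
  haveI : IsAffine E.obj.left.left := hE
  haveI : IsAffineHom (πX hf E) := hfa.property _ _ _ (hf.isPullback _)
  haveI : IsAffine (XE hf E) := isAffine_of_isAffineHom (πX hf E)
  haveI : IsAffineHom (πX hs E) := hsa.property _ _ _ (hs.isPullback _)
  haveI : IsAffine (XE hs E) := isAffine_of_isAffineHom (πX hs E)
  let φ := (pullback.fst (πX hf E) (πX hs E)).appTop.hom
  let ψ := (pullback.snd (πX hf E) (πX hs E)).appTop.hom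
  have hsurj : Function.Surjective (p₂ φ ψ) := fun c => by
    obtain ⟨a, rfl⟩ := (IsClosedImmersion.isAffine_surjective_of_isAffine (πX hs E)).2 c
    exact ⟨str' hf hs E a, rfl⟩
  have hle : ¬RingHom.ker (p₂ φ ψ) ≤ PrimeSpectrum.asIdeal (R := fp φ ψ) q := fun hle => hq (by
    obtain ⟨c, hc⟩ := (Set.ext_iff.1 (range_comap_of_surjective _ _ hsurj) q).2 hle
    refine ⟨(XE hs E).isoSpec.inv c, ?_⟩
    show ((XE hs E).isoSpec.hom ≫ Spec.map (CommRingCat.ofHom (p₂ _ _))) ((XE hs E).isoSpec.inv c) = q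
    rw [← Scheme.Hom.comp_apply, Iso.inv_hom_id_assoc]
    exact hc)
  obtain ⟨h, hh, hhq⟩ := SetLike.not_le_iff_exists.1 hle
  let g := Spec.map (CommRingCat.ofHom (algebraMap (fp φ ψ) (Localization.Away h)))
  have hrange : Set.range g = (PrimeSpectrum.basicOpen h : Set (PrimeSpectrum (fp φ ψ))) := PrimeSpectrum.localization_away_comap_range _ h
  refine ⟨g.opensRange, ?_, ?_⟩
  · show q ∈ Set.range g
    rw [hrange]
    exact hhq
  refine ((MorphismProperty.isomorphisms Scheme.{u}).arrow_mk_iso_iff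
    (morphismRestrictOpensRange (nX hf hs hfa E hE).left g)).2 ?_
  letI := (p₁ φ ψ).toAlgebra
  let ρ := IsLocalization.Away.map (Localization.Away h) (Localization.Away (p₁ φ ψ h)) (p₁ φ ψ) h
  letI := ρ.toAlgebra
  haveI : IsScalarTower (fp φ ψ) (Localization.Away h) (Localization.Away (p₁ φ ψ h)) :=
    .of_algebraMap_eq fun x => by
      show algebraMap Γ(XE hf E, ⊤) (Localization.Away (p₁ φ ψ h)) (p₁ φ ψ x) = ρ (algebraMap _ _ x)
      exact (IsLocalization.map_eq _ x).symm
  haveI : IsLocalization (Algebra.algebraMapSubmonoid Γ(XE hf E, ⊤) (Submonoid.powers h))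
      (Localization.Away (p₁ φ ψ h)) := by
    rw [Algebra.algebraMapSubmonoid_powers]
    exact Localization.isLocalization
  have po : Algebra.IsPushout (fp φ ψ) (Localization.Away h) Γ(XE hf E, ⊤) (Localization.Away (p₁ φ ψ h)) :=
    (Algebra.IsPushout.comm _ _ _ _).1 (Algebra.isPushout_of_isLocalization (Submonoid.powers h) (Localization.Away h) _ _)
  have sq := isPullback_SpecMap_of_isPushout _ _ _ _ (CommRingCat.isPushout_iff_isPushout.2 po)
  have big : IsPullback (Spec.map (CommRingCat.ofHom (algebraMap Γ(XE hf E, ⊤) (Localization.Away (p₁ φ ψ h)))) ≫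
      (XE hf E).isoSpec.inv) (Spec.map (CommRingCat.ofHom ρ)) (nX hf hs hfa E hE).left g := by
    have t : IsPullback (XE hf E).isoSpec.inv (Spec.map (CommRingCat.ofHom (p₁ φ ψ))) (nX hf hs hfa E hE).left (𝟙 _) :=
      IsPullback.of_horiz_isIso ⟨by
        show (XE hf E).isoSpec.inv ≫ (XE hf E).isoSpec.hom ≫ Spec.map (CommRingCat.ofHom (p₁ φ ψ)) = _ ≫ 𝟙 _
        rw [Iso.inv_hom_id_assoc, Category.comp_id]⟩
    have H := sq.flip.paste_horiz t
    rw [Category.comp_id] at H
    exact H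
  rw [show pullback.snd (nX hf hs hfa E hE).left g = big.isoPullback.inv ≫ Spec.map (CommRingCat.ofHom ρ) by simp]
  haveI : IsIso (CommRingCat.ofHom ρ) :=
    (ConcreteCategory.isIso_iff_bijective _).2 (isLocalization_away φ ψ h hh)
  exact MorphismProperty.isomorphisms.infer_property _

end Groth.Agent.AlgSpLib.PointPinch
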