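import Groth.Agent.AlgSpLib.MorProper
import Groth.Agent.AlgSpLib.MorSep
import Groth.Agent.AlgSpLib.FibreDimFun

/-!
Properness of a morphism between representable sheaves.
-/

universe u

open CategoryTheory CategoryTheory.Limits AlgebraicGeometry
open AlgSp

noncomputable section

namespace Groth.Agent.AlgSpLib

set_option backward.isDefEq.respectTransparency.types false

variable {S : Scheme.{u}}

theorem isProperMor_yon_map_iff' {U V : Over S} (g : U ⟶ V) : IsProperMor ((yon S).map g) ↔ IsProper g.left := by
  have hU := IsAlgSpace.yon_obj U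
  have hV := IsAlgSpace.yon_obj V
  have hr : Representable ((yon S).map g) := hV.representable_from_yon _
  have hq : RepWith @QuasiCompact ((yon S).map g) ↔ IsQuasiCompactMor ((yon S).map g) :=
    repWith_quasiCompact_iff hU hV hr
  have hu : RepWith @UniversallyClosed ((yon S).map g) ↔ IsUnivClosedMor ((yon S).map g) :=
    repWith_universallyClosed_iff hr
  constructor
  · rintro ⟨hs, ⟨hl, hc⟩, hcl⟩
    have : IsSeparated g.left := (isSeparatedMor_yon_map_iff _).1 hs
    have : LocallyOfFiniteType g.left := locP_yon_map hl
    have : QuasiCompact g.left := (repWith_yon_map_iff _ _).1 (hq.2 hc)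
    have : UniversallyClosed g.left := (repWith_yon_map_iff _ _).1 (hu.2 hcl)
    exact {}
  · intro h
    exact ⟨(isSeparatedMor_yon_map_iff _).2 inferInstance,
      ⟨locP_of_repWith etLocal_lft hU ((repWith_yon_map_iff _ _).2 inferInstance),
        hq.1 ((repWith_yon_map_iff _ _).2 inferInstance)⟩, hu.1 ((repWith_yon_map_iff _ _).2 inferInstance)⟩

end Groth.Agent.AlgSpLib
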