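import Groth.Agent.AlgSpLib.QCohEtFP

/-!
Extensions of coherent modules on the small etale site; isomorphisms tested on affine objects.
-/

universe u

open CategoryTheory CategoryTheory.Limits AlgebraicGeometry Opposite TensorProduct
open AlgSp

noncomputable section

set_option linter.style.haveILetI false

namespace Groth.Agent.AlgSpLib.QCohEt

set_option backward.isDefEq.respectTransparency.types false
set_option backward.isDefEq.respectTransparency false

variable {S : Scheme.{u}} {X : Sp S}

/-- morphisms of modules bijective on affine objects are isomorphisms -/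
theorem isIso_of_bijective_aff {A B : ModEt X} (f : A ⟶ B) (h : ∀ E, IsAff E → Function.Bijective (secMap f E)) :
    IsIso f := by
  have hb : ∀ E : EtOver X, Function.Bijective (f.val.app (op E)) := fun E => by
    haveI : IsIso ((SheafOfModules.overFunctor (OEtRing X) E).map f) :=
      isIso_of_bijective_affine _ fun W hW => h W.left hW
    haveI : IsIso ((SheafOfModules.forget _ ⋙ PresheafOfModules.evaluation _ (op (top E))).map
      ((SheafOfModules.overFunctor (OEtRing X) E).map f)) := inferInstance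
    exact ConcreteCategory.bijective_of_isIso
      ((SheafOfModules.forget _ ⋙ PresheafOfModules.evaluation _ (op (top E))).map
        ((SheafOfModules.overFunctor (OEtRing X) E).map f))
  have : ∀ W, IsIso (((PresheafOfModules.toPresheaf _).map f.val).app W) := fun W => by
    rw [ConcreteCategory.isIso_iff_bijective]
    exact hb W.unop
  have := NatIso.isIso_of_isIso_app ((PresheafOfModules.toPresheaf _).map f.val)
  haveI : IsIso f.val := isIso_of_reflects_iso f.val (PresheafOfModules.toPresheaf _)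
  haveI : IsIso ((SheafOfModules.forget _).map f) := ‹IsIso f.val›
  exact isIso_of_reflects_iso f (SheafOfModules.forget _)

theorem mapSec_secMap {A B : ModEt X} (f : A ⟶ B) {E E' : EtOver X} (g : E' ⟶ E) (m : Sec A E) :
    mapSec B g (secMap f E m) = secMap f E' (mapSec A g m) :=
  (PresheafOfModules.naturality_apply f.val g.op m).symm

theorem surjective_lTensor_secMap {A B : ModEt X} (f : A ⟶ B) {E : EtOver X} (W : Over E)
    (hB : Function.Surjective (bcMap B E W)) (h : Function.Surjective (secMap f E)) :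
    Function.Surjective (secMap f W.left) := fun y => by
  obtain ⟨z, rfl⟩ := hB y
  obtain ⟨x, rfl⟩ := LinearMap.lTensor_surjective (ΓE W.left) h z
  exact ⟨bcMap A E W x, bcMap_natural f E W x⟩

/-- middle terms of exact sequences -/
theorem isBC_middle {A B C : ModEt X} {f : A ⟶ B} {g : B ⟶ C} (w : f ≫ g = 0) (hk : IsLimit (KernelFork.ofι f w))
    (E : EtOver X) [IsAff E] (hA : IsBC A E) (hC : IsBC C E) (hg : Function.Surjective (secMap g E)) :
    IsBC B E := by
  intro W hW
  haveI := hW
  haveI : Module.Flat (ΓE E) (ΓE W.left) := flat_ΓMap W.hom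
  obtain ⟨-, heE⟩ := ker_sec w hk E
  obtain ⟨hiW, heW⟩ := ker_sec w hk W.left
  have hx : Function.Exact (LinearMap.lTensor (ΓE W.left) (secMap f E)) (LinearMap.lTensor (ΓE W.left) (secMap g E)) :=
    Module.Flat.lTensor_exact (ΓE W.left) heE
  refine ⟨(injective_iff_map_eq_zero _).2 fun x hx0 => ?_, fun y => ?_⟩
  · obtain ⟨a, rfl⟩ := (hx x).1 ((hC W hW).injective (by rw [← bcMap_natural, hx0, map_zero, map_zero]))
    rw [← bcMap_natural] at hx0
    have : bcMap A E W a = 0 := hiW (hx0.trans (map_zero _).symm)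
    rw [(hA W hW).injective (this.trans (map_zero _).symm), map_zero]
  · obtain ⟨z, hz⟩ := (hC W hW).surjective (secMap g W.left y)
    obtain ⟨x, rfl⟩ := LinearMap.lTensor_surjective (ΓE W.left) hg z
    rw [← bcMap_natural] at hz
    obtain ⟨a, ha⟩ := (heW (y - bcMap B E W x)).1 (by
      change secMap g W.left (y - bcMap B E W x) = 0
      rw [map_sub, hz, sub_self])
    obtain ⟨a', rfl⟩ := (hA W hW).surjective a
    refine ⟨x + LinearMap.lTensor (ΓE W.left) (secMap f E) a', ?_⟩
    rw [map_add, ← bcMap_natural]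
    exact (congrArg _ ha).trans (add_sub_cancel _ _)

theorem imageSieve_secMap {A B : ModEt X} (g : A ⟶ B) [Epi g] {E : EtOver X} (m : Sec B E) :
    ∃ R ∈ etTop X E, ∀ (E' : EtOver X) (k : E' ⟶ E), R k → ∃ a, secMap g E' a = mapSec B k m := by
  haveI : Epi ((SheafOfModules.toSheaf _).map g) := inferInstance
  haveI : Sheaf.IsLocallySurjective ((SheafOfModules.toSheaf (OEtRing X)).map g) :=
    (Sheaf.isLocallySurjective_iff_epi' _ _).2 inferInstance
  have h := Presheaf.imageSieve_mem (etTop X) ((SheafOfModules.toSheaf (OEtRing X)).map g).hom (U := op E) m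
  refine ⟨_, h, fun E' k hk => ?_⟩
  obtain ⟨a, ha⟩ := hk
  exact ⟨a, ha⟩

/-- an affine covering on which an epimorphism is surjective on sections -/
theorem exists_cover_surjective {A B : ModEt X} (g : A ⟶ B) [Epi g] (E : EtOver X) [IsAff E] (hB : IsBC B E)
    [hfin : Module.Finite (ΓE E) (Sec B E)] :
    ∃ (ι : Type) (Z : ι → EtOver X) (k : ∀ i, Z i ⟶ E),
      (∀ x, ∃ i, x ∈ Set.range (k i).hom.left.left) ∧ ∀ i, IsAff (Z i) ∧ Function.Surjective (secMap g (Z i)) := by
  classical
  obtain ⟨T, hT⟩ := hfin.fg_top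
  choose R hR hR' using fun m : Sec B E => imageSieve_secMap g m
  let R₀ : Sieve E := T.inf R
  have hR₀ : R₀ ∈ etTop X E := Finset.inf_induction ((etTop X).top_mem E)
    (fun _ h₁ _ h₂ => (etTop X).intersection_covering h₁ h₂) fun m _ => hR m
  obtain ⟨ι, hι, Z, k, hZ, hk, hcov⟩ := exists_finite_affine_refinement hR₀
  refine ⟨ι, Z, k, hcov, fun i => ⟨hZ i, fun y => ?_⟩⟩
  let W : Over E := Over.mk (k i)
  obtain ⟨z, rfl⟩ := (hB W (hZ i)).surjective y
  suffices h : ∀ m : Sec B E, ∃ a, secMap g W.left a = mapSec B W.hom m by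
    induction z using TensorProduct.induction_on with
    | zero => exact ⟨0, (map_zero _).trans (map_zero _).symm⟩
    | tmul r m =>
      obtain ⟨a, ha⟩ := h m
      exact ⟨(r • a : Sec A W.left), (map_smul (secMap g W.left) r a).trans (by rw [ha, bcMap_tmul])⟩
    | add x y hx hy =>
      obtain ⟨a, ha⟩ := hx
      obtain ⟨b, hb⟩ := hy
      exact ⟨a + b, (map_add _ _ _).trans ((congrArg₂ (· + ·) ha hb).trans (map_add _ _ _).symm)⟩
  intro m
  have hm : m ∈ Submodule.span (ΓE E) (T : Set (Sec B E)) := hT ▸ Submodule.mem_top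
  induction hm using Submodule.span_induction with
  | mem t ht => exact hR' t _ _ (Finset.inf_le (f := R) (Finset.mem_coe.1 ht) _ (hk i))
  | zero => exact ⟨0, (map_zero _).trans (map_zero _).symm⟩
  | add x y _ _ hx hy =>
    obtain ⟨a, ha⟩ := hx
    obtain ⟨b, hb⟩ := hy
    exact ⟨a + b, by rw [map_add, map_add, ha, hb]⟩
  | smul r x _ hx =>
    obtain ⟨a, ha⟩ := hx
    exact ⟨(ΓMap W.hom).hom r • a, by rw [map_smul, ha, mapSec_smul]⟩

theorem exists_mapSec_eq' (M : ModEt X) {E : EtOver X} {ι : Type*} {Z : ι → EtOver X} (g : ∀ j, Z j ⟶ E)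
    (hcov : ∀ x, ∃ j, x ∈ Set.range (g j).hom.left.left) (y : ∀ j, Sec M (Z j))
    (hy : ∀ j k, mapSec M (EtOver.pullbackFst (g j) (g k)) (y j) = mapSec M (EtOver.pullbackSnd (g j) (g k)) (y k)) :
    ∃ x, ∀ j, mapSec M (g j) x = y j := by
  have h1 := (isSheaf_iff_isSheaf_of_type _ _).1
    ((Presheaf.isSheaf_iff_isSheaf_forget (etTop X) M.val.presheaf (forget AddCommGrpCat.{u + 1})).1 M.isSheaf)
  have h2 := (Presieve.isSheafFor_iff_generate _).2 (h1 _ (ofArrows_mem_etTop Z g hcov))
  obtain ⟨x, hx, -⟩ := (Presieve.isSheafFor_arrows_iff _ _).1 h2 y fun i j V gi gj e => by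
    have hl := (EtOver.isPullback (g i) (g j)).lift_fst gi gj e
    have hr := (EtOver.isPullback (g i) (g j)).lift_snd gi gj e
    change mapSec M gi (y i) = mapSec M gj (y j)
    refine (congrArg (fun t => mapSec M t (y i)) hl.symm).trans (Eq.trans ?_ (congrArg (fun t => mapSec M t (y j)) hr))
    rw [mapSec_comp, mapSec_comp, hy i j]
  exact ⟨x, hx⟩

end Groth.Agent.AlgSpLib.QCohEt
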