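import Groth.Agent.AlgSpLib.QCohEtFinite
import Mathlib.Algebra.Module.FinitePresentation
import Mathlib.Algebra.Homology.ShortComplex.ModuleCat

/-!
Finitely presented modules on the small etale site from finitely presented sections on affine objects.
-/

universe u

open CategoryTheory CategoryTheory.Limits AlgebraicGeometry Opposite TensorProduct
open AlgSp

noncomputable section

set_option linter.style.haveILetI false

namespace Groth.Agent.AlgSpLib.QCohEt

set_option backward.isDefEq.respectTransparency.types false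
set_option backward.isDefEq.respectTransparency false

section general

theorem exists_coproduct_iso_finsupp (R : Type u) [CommRing R] (I : Type u) :
    Nonempty ((∐ fun _ : I => ModuleCat.of R R) ≅ ModuleCat.of R (I →₀ R)) := by
  let t : Cofan (fun _ : I => ModuleCat.of R R) :=
    Cofan.mk (ModuleCat.of R (I →₀ R)) (fun i => ModuleCat.ofHom (Finsupp.lsingle i))
  let ht : IsColimit t := Cofan.IsColimit.mk t
    (fun s => ModuleCat.ofHom (Finsupp.lsum R fun i => (s.inj i).hom))
    (fun s i => by ext; simp [t])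
    (fun s m hm => by
      refine ModuleCat.hom_ext (Finsupp.lhom_ext fun i x => ?_)
      have hx : m.hom (Finsupp.single i x) = (s.inj i).hom x := DFunLike.congr_fun (congrArg ModuleCat.Hom.hom (hm i)) x
      exact hx.trans (Finsupp.lsum_single R (fun j => (s.inj j).hom) i x).symm)
  exact ⟨(coproductIsCoproduct _).coconePointUniqueUpToIso ht⟩

end general

variable {S : Scheme.{u}} {X : Sp S} {c : EtOver X}

variable (c) in
theorem exists_iso_free [IsAff c] (I : Type (u + 1)) :
    Nonempty ((L c).obj (ModuleCat.of (ΓE c) (I →₀ ΓE c)) ≅ SheafOfModules.free (R := (OEtRing X).over c) I) := by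
  obtain ⟨e⟩ := exists_coproduct_iso_finsupp (ΓE c) I
  obtain ⟨N, ⟨u⟩⟩ := essImage_unit c
  haveI : IsIso ((adj c).unit.app N) := inferInstance
  let v : ModuleCat.of (ΓE c) (ΓE c) ≅ N :=
    (show ModuleCat.of (ΓE c) (ΓE c) ≅ (Γtop c).obj (SheafOfModules.unit ((OEtRing X).over c)) from
      LinearEquiv.toModuleIso
        { toFun := fun a => (show ((OEtRing X).over c).obj.obj (op (top c)) from (show ΓE c from a))
          invFun := fun a => a
          map_add' := fun _ _ => rfl
          map_smul' := fun _ _ => rfl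
          left_inv := fun _ => rfl
          right_inv := fun _ => rfl }) ≪≫ (Γtop c).mapIso u.symm ≪≫ (asIso ((adj c).unit.app N)).symm
  exact ⟨(L c).mapIso e.symm ≪≫ PreservesCoproduct.iso (L c) _ ≪≫
    Sigma.mapIso fun _ => (L c).mapIso v ≪≫ u⟩

/-- a finitely presented module gives a finitely presented sheaf -/
theorem exists_finite_presentation [IsAff c] (N : ModuleCat.{u + 1} (ΓE c)) [hN : Module.FinitePresentation (ΓE c) N] :
    ∃ P : ((L c).obj N).Presentation, P.IsFinite := by
  obtain ⟨s, hs, hker⟩ := hN.out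
  obtain ⟨t, ht⟩ := hker
  let π : (↥(s : Set N) →₀ ΓE c) →ₗ[ΓE c] N := Finsupp.linearCombination (ΓE c) Subtype.val
  let ρ : (↥(t : Set _) →₀ ΓE c) →ₗ[ΓE c] (↥(s : Set N) →₀ ΓE c) := Finsupp.linearCombination (ΓE c) Subtype.val
  have hπ : Function.Surjective π := by
    rw [← LinearMap.range_eq_top, Finsupp.range_linearCombination]
    simpa using hs
  have hρ : LinearMap.range ρ = LinearMap.ker π := by
    rw [Finsupp.range_linearCombination]
    rw [Subtype.range_coe]
    exact ht
  let C : ShortComplex (ModuleCat.{u + 1} (ΓE c)) :=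
    ShortComplex.moduleCatMkOfKerLERange (ModuleCat.ofHom ρ) (ModuleCat.ofHom π) hρ.le
  have hC : C.Exact := (ShortComplex.ShortExact.moduleCat_exact_iff_function_exact C).2 (LinearMap.exact_iff.2 hρ.symm)
  haveI : Epi C.g := (ModuleCat.epi_iff_surjective _).2 hπ
  haveI : (L c).PreservesZeroMorphisms := Functor.preservesZeroMorphisms_of_isLeftAdjoint _
  have hL := CokernelCofork.mapIsColimit _ hC.gIsCokernel (L c)
  obtain ⟨e₁⟩ := exists_iso_free c (↥(t : Set (↥(s : Set N) →₀ ΓE c)))
  obtain ⟨e₂⟩ := exists_iso_free c (↥(s : Set N))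
  refine ⟨SheafOfModules.presentationOfIsCokernelFree (e₁.inv ≫ (L c).map C.f ≫ e₂.hom) (e₂.inv ≫ (L c).map C.g)
    (by rw [Category.assoc, Category.assoc, Iso.hom_inv_id_assoc, ← Functor.map_comp, C.zero, Functor.map_zero,
      comp_zero]) ?_, ?_⟩
  · refine IsColimit.equivOfNatIsoOfIso
      (parallelPairIsoMk e₁ e₂ (by simp) (by simp)) _ _ ?_ hL
    exact Cocone.ext (Iso.refl _) (by rintro (_ | _) <;> simp)
  · exact @SheafOfModules.Presentation.IsFinite.mk _ _ _ _ _ _ _ _ (⟨inferInstanceAs (Finite ↥(s : Set N))⟩)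
      (⟨inferInstanceAs (Finite ↥(t : Set (↥(s : Set N) →₀ ΓE c)))⟩)

theorem coverSieve_mem {W : Over c} {ι : Type*} {Z : ι → EtOver X} (g : ∀ j, Z j ⟶ W.left)
    (hcov : ∀ x, ∃ j, x ∈ Set.range (g j).hom.left.left) :
    (Sieve.overEquiv W).symm (Sieve.ofArrows Z g) ∈ (etTop X).over c W := by
  refine (GrothendieckTopology.mem_over_iff _ _).2 ?_
  exact (congrArg (fun T => T ∈ etTop X W.left) ((Sieve.overEquiv W).apply_symm_apply _)).mpr
    (ofArrows_mem_etTop Z g hcov)

theorem factor_of_mem_coverSieve {W V : Over c} {ι : Type*} {Z : ι → EtOver X} {g : ∀ j, Z j ⟶ W.left} {f : V ⟶ W}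
    (hf : ((Sieve.overEquiv W).symm (Sieve.ofArrows Z g)) f) :
    ∃ (j : ι) (k : V ⟶ below (g j)), k ≫ belowι (g j) = f := by
  obtain ⟨_, k, _, ⟨j⟩, e⟩ := (Sieve.overEquiv_symm_iff _ _).1 hf
  exact ⟨j, Over.homMk k (by
    change k ≫ g j ≫ W.hom = V.hom
    rw [← Category.assoc, e, Over.w f]), Over.OverMorphism.ext e⟩

theorem eq_of_below' (F : SheafOfModules.{u + 1} ((OEtRing X).over c)) {W : Over c} {ι : Type*} {Z : ι → EtOver X}
    (g : ∀ j, Z j ⟶ W.left) (hcov : ∀ x, ∃ j, x ∈ Set.range (g j).hom.left.left) (s t : F.val.obj (op W))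
    (h : ∀ j, F.val.map (belowι (g j)).op s = F.val.map (belowι (g j)).op t) : s = t := by
  have hsep : ∀ (V : Over c) (f : V ⟶ W), ((Sieve.overEquiv W).symm (Sieve.ofArrows Z g)) f →
      F.val.presheaf.map f.op s = F.val.presheaf.map f.op t := fun V f hf => ?_
  · exact F.isSheaf.isSeparated W _ (coverSieve_mem g hcov) s t hsep
  obtain ⟨j, k, rfl⟩ := factor_of_mem_coverSieve hf
  rw [op_comp, Functor.map_comp, ConcreteCategory.comp_apply, ConcreteCategory.comp_apply]
  exact congrArg _ (h j)

theorem eq_of_affine (F : SheafOfModules.{u + 1} ((OEtRing X).over c)) (U : Over c) (s t : F.val.obj (op U))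
    (h : ∀ (V : Over c) (v : V ⟶ U), IsAff V.left → F.val.map v.op s = F.val.map v.op t) : s = t := by
  obtain ⟨ι, Z, g, hZ, hcov⟩ := exists_affine_cover U.left
  exact eq_of_below' F g hcov s t fun j => h _ _ (hZ j)

theorem exists_of_below (F : SheafOfModules.{u + 1} ((OEtRing X).over c)) {W : Over c} {ι : Type*} {Z : ι → EtOver X}
    (g : ∀ j, Z j ⟶ W.left) (hcov : ∀ x, ∃ j, x ∈ Set.range (g j).hom.left.left)
    (x : ∀ j, F.val.obj (op (below (g j))))
    (hx : ∀ j k (U : Over c) (pl : U ⟶ below (g j)) (pr : U ⟶ below (g k)),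
      pl ≫ belowι (g j) = pr ≫ belowι (g k) → F.val.map pl.op (x j) = F.val.map pr.op (x k)) :
    ∃ z, ∀ j, F.val.map (belowι (g j)).op z = x j := by
  have h1 := (isSheaf_iff_isSheaf_of_type _ _).1
    ((Presheaf.isSheaf_iff_isSheaf_forget ((etTop X).over c) F.val.presheaf (forget AddCommGrpCat.{u + 1})).1 F.isSheaf)
  have hS : Sieve.ofArrows _ (fun j => belowι (g j)) ∈ (etTop X).over c W := by
    refine GrothendieckTopology.superset_covering _ (fun V f hf => ?_) (coverSieve_mem g hcov)
    obtain ⟨j, k, rfl⟩ := factor_of_mem_coverSieve hf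
    exact Sieve.downward_closed _ (Sieve.ofArrows_mk (fun j => below (g j)) (fun j => belowι (g j)) j) k
  obtain ⟨z, hz, -⟩ := (Presieve.isSheafFor_arrows_iff _ _).1 ((Presieve.isSheafFor_iff_generate _).2 (h1 _ hS))
    x fun i j U gi gj e => hx i j U gi gj e
  exact ⟨z, hz⟩

/-- morphisms bijective on affine objects are isomorphisms -/
theorem isIso_of_bijective_affine {F G : SheafOfModules.{u + 1} ((OEtRing X).over c)} (φ : F ⟶ G)
    (h : ∀ W : Over c, IsAff W.left → Function.Bijective (φ.val.app (op W))) : IsIso φ := by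
  have hbij : ∀ W : Over c, Function.Bijective (φ.val.app (op W)) := by
    intro W
    obtain ⟨ι, Z, g, hZ, hcov⟩ := exists_affine_cover W.left
    have hnat : ∀ (j : ι) (x : F.val.obj (op W)),
        φ.val.app (op (below (g j))) (F.val.map (belowι (g j)).op x) =
          G.val.map (belowι (g j)).op (φ.val.app (op W) x) := fun j x =>
      PresheafOfModules.naturality_apply φ.val _ x
    refine ⟨fun x y hxy => eq_of_below' F g hcov x y fun j => (h (below (g j)) (hZ j)).injective ?_, fun y => ?_⟩
    · rw [hnat, hnat, hxy]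
    · choose x hx using fun j => (h (below (g j)) (hZ j)).surjective (G.val.map (belowι (g j)).op y)
      obtain ⟨z, hz⟩ := exists_of_below F g hcov x fun j k U pl pr e => by
        refine eq_of_affine F U _ _ fun V v hV => (h _ hV).injective ?_
        rw [← PresheafOfModules.map_comp_apply, ← PresheafOfModules.map_comp_apply, PresheafOfModules.naturality_apply,
          PresheafOfModules.naturality_apply, hx, hx, ← PresheafOfModules.map_comp_apply,
          ← PresheafOfModules.map_comp_apply, ← op_comp, ← op_comp, ← op_comp, ← op_comp,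
          Category.assoc, Category.assoc, e]
      exact ⟨z, eq_of_below' G g hcov _ _ fun j => by rw [← hnat, hz, hx]⟩
  have : ∀ W, IsIso (((PresheafOfModules.toPresheaf _).map φ.val).app W) := fun W => by
    rw [ConcreteCategory.isIso_iff_bijective]
    exact hbij W.unop
  have := NatIso.isIso_of_isIso_app ((PresheafOfModules.toPresheaf _).map φ.val)
  haveI : IsIso φ.val := isIso_of_reflects_iso φ.val (PresheafOfModules.toPresheaf _)
  haveI : IsIso ((SheafOfModules.forget _).map φ) := ‹IsIso φ.val›
  exact isIso_of_reflects_iso φ (SheafOfModules.forget _)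

variable (c) in
theorem preDesc_id_eq (F : SheafOfModules.{u + 1} ((OEtRing X).over c)) :
    preDesc (G := F.val) (N := (Γtop c).obj F) (AddMonoidHom.id _) (fun _ _ => rfl) =
      η ((Γtop c).obj F) ≫ ((adj c).counit.app F).val := by
  refine pre_hom_ext fun n => ?_
  refine (evalTop_preDesc (G := F.val) (N := (Γtop c).obj F) (AddMonoidHom.id _) (fun _ _ => rfl) n).trans ?_
  refine Eq.trans ?_ (congrArg (fun z => ((adj c).counit.app F).val.app (op (top c)) z)
    (unit_app_apply c ((Γtop c).obj F) n))
  exact (DFunLike.congr_fun (congrArg ModuleCat.Hom.hom ((adj c).right_triangle_components F)) n).symm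

variable (M : ModEt X)

theorem isBC_of_essImage [IsAff c] (h : (L c).essImage (M.over c)) : IsBC M c := fun W hW => by
  haveI := hW
  haveI : IsIso ((adj c).counit.app (M.over c)) := (adj c).isIso_counit_app_iff_mem_essImage.2 h
  change Function.Bijective ((preDesc (G := (M.over c).val) (N := Sec M c) (AddMonoidHom.id _)
    (fun _ _ => rfl)).app (op W))
  rw [preDesc_id_eq c (M.over c)]
  haveI : IsIso (((adj c).counit.app (M.over c)).val.app (op W)) :=
    (inferInstance : IsIso ((SheafOfModules.forget _ ⋙ PresheafOfModules.evaluation _ (op W)).map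
      ((adj c).counit.app (M.over c))))
  have h2 : Function.Bijective (((adj c).counit.app (M.over c)).val.app (op W)) :=
    ConcreteCategory.bijective_of_isIso _
  exact h2.comp (bijective_app (η (Sec M c)) W)

/-- restriction over an affine object of a module with base change is attached to its sections -/
theorem isIso_counit_of_isBC [IsAff c] (h : IsBC M c) : IsIso ((adj c).counit.app (M.over c)) := by
  refine isIso_of_bijective_affine _ fun W hW => ?_
  haveI := hW
  have h1 : Function.Bijective ((preDesc (G := (M.over c).val) (N := Sec M c) (AddMonoidHom.id _)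
    (fun _ _ => rfl)).app (op W)) := h W hW
  rw [preDesc_id_eq c (M.over c)] at h1
  exact (Function.Bijective.of_comp_iff _ (bijective_app (η (Sec M c)) W)).1 h1

/-- finitely presented sections on enough affine objects give a finitely presented module -/
theorem isFinitePresentation_of_sec
    (h : ∀ E : EtOver X, IsAff E → ∃ (ι : Type (u + 1)) (Z : ι → EtOver X) (g : ∀ i, Z i ⟶ E),
      (∀ x, ∃ i, x ∈ Set.range (g i).hom.left.left) ∧
        ∀ i, IsAff (Z i) ∧ IsBC M (Z i) ∧ Module.FinitePresentation (ΓE (Z i)) (Sec M (Z i))) :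
    M.IsFinitePresentation := by
  let I : Type (u + 1) := {E : EtOver X // IsAff E ∧ IsBC M E ∧ Module.FinitePresentation (ΓE E) (Sec M E)}
  have hcov : (etTop X).CoversTop (fun i : I => i.1) := fun U => by
    obtain ⟨ι, Z, g, hZ, hc⟩ := exists_affine_cover U
    refine GrothendieckTopology.transitive _ (ofArrows_mem_etTop Z g hc) _ fun V f hf => ?_
    obtain ⟨_, k, _, ⟨j⟩, rfl⟩ := hf
    rw [Sieve.pullback_comp]
    refine GrothendieckTopology.pullback_stable _ k ?_
    obtain ⟨κ, W, g', hc', hW⟩ := h (Z j) (hZ j)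
    refine GrothendieckTopology.superset_covering _ ?_ (ofArrows_mem_etTop W g' hc')
    rintro V' f' ⟨_, k', _, ⟨i⟩, rfl⟩
    exact (Sieve.mem_ofObjects_iff ..).2 ⟨⟨W i, hW i⟩, ⟨k'⟩⟩
  have hP : ∀ i : I, ∃ P : (M.over i.1).Presentation, P.IsFinite := fun i => by
    haveI := i.2.1
    haveI := i.2.2.2
    haveI := isIso_counit_of_isBC M i.2.2.1
    obtain ⟨P, hP⟩ := exists_finite_presentation (Sec M i.1)
    exact ⟨P.ofIsIso ((adj i.1).counit.app (M.over i.1)),
      inferInstanceAs ((P.ofIsIso ((adj i.1).counit.app (M.over i.1))).IsFinite)⟩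
  choose P hP using hP
  exact @SheafOfModules.IsFinitePresentation.mk _ _ _ (OEtRing X) _ _ M
    ⟨@SheafOfModules.QuasicoherentData.mk _ _ _ (OEtRing X) _ _ M I (fun i => i.1) hcov P,
      @SheafOfModules.QuasicoherentData.IsFinitePresentation.mk _ _ _ (OEtRing X) _ _ M _ fun i => hP i⟩

/-- finitely presented sections on all affine objects give a finitely presented module -/
theorem isFinitePresentation_of_forall (hb : ∀ E, IsAff E → IsBC M E)
    (hf : ∀ E, IsAff E → Module.FinitePresentation (ΓE E) (Sec M E)) : M.IsFinitePresentation :=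
  isFinitePresentation_of_sec M fun E hE =>
    ⟨PUnit, fun _ => E, fun _ => 𝟙 E, fun x => ⟨⟨⟩, x, rfl⟩, fun _ => ⟨hE, hb E hE, hf E hE⟩⟩

/-- on a locally Noetherian space quasi-coherent modules of finite type are finitely presented -/
theorem isFinitePresentation_of_finiteType (hN : IsLocNoethSp X) [M.IsQuasicoherent] [M.IsFiniteType] :
    M.IsFinitePresentation :=
  isFinitePresentation_of_forall M (fun E hE => by haveI := hE; exact isBC M E) fun E hE => by
    haveI := hE
    haveI := isNoetherianRing_ΓE hN E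
    haveI := finite_sec M E
    exact Module.finitePresentation_of_finite _ _

variable {M}

/-- kernels on sections -/
theorem ker_sec {K A B : ModEt X} {i : K ⟶ A} {f : A ⟶ B} (w : i ≫ f = 0) (hk : IsLimit (KernelFork.ofι i w))
    (E : EtOver X) :
    Function.Injective ((Γtop E).map ((SheafOfModules.overFunctor (OEtRing X) E).map i)).hom ∧
      Function.Exact ((Γtop E).map ((SheafOfModules.overFunctor (OEtRing X) E).map i)).hom
        ((Γtop E).map ((SheafOfModules.overFunctor (OEtRing X) E).map f)).hom := by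
  let C : ShortComplex (ModEt X) := ShortComplex.mk i f w
  haveI : Mono C.f := mono_of_isLimit_fork hk
  have hC : C.Exact := C.exact_of_f_is_kernel hk
  let T := SheafOfModules.forget (OEtRing X) ⋙ PresheafOfModules.evaluation _ (op E)
  haveI : Mono (C.map T).f := Functor.map_mono T C.f
  exact ⟨(ModuleCat.mono_iff_injective _).1 (inferInstanceAs (Mono (C.map T).f)),
    (ShortComplex.ShortExact.moduleCat_exact_iff_function_exact _).1
      (hC.map_of_mono_of_preservesKernel T inferInstance inferInstance)⟩

/-- the value of a map of modules as a linear map -/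
abbrev secMap {A B : ModEt X} (f : A ⟶ B) (E : EtOver X) : Sec A E →ₗ[ΓE E] Sec B E :=
  ((Γtop E).map ((SheafOfModules.overFunctor (OEtRing X) E).map f)).hom

theorem bcMap_natural {A B : ModEt X} (f : A ⟶ B) (E : EtOver X) (W : Over E) (x : ΓE W.left ⊗[ΓE E] Sec A E) :
    secMap f W.left (bcMap A E W x) = bcMap B E W (LinearMap.lTensor (ΓE W.left) (secMap f E) x) := by
  induction x using TensorProduct.induction_on with
  | zero => simp only [map_zero]
  | tmul a m =>
    rw [LinearMap.lTensor_tmul, bcMap_tmul, bcMap_tmul, map_smul]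
    congr 1
    exact PresheafOfModules.naturality_apply f.val W.hom.op m
  | add x y hx hy => simp only [map_add, hx, hy]

/-- base change passes to kernels -/
theorem isBC_kernel {K A B : ModEt X} {i : K ⟶ A} {f : A ⟶ B} (w : i ≫ f = 0) (hk : IsLimit (KernelFork.ofι i w))
    (E : EtOver X) [IsAff E] (hA : IsBC A E) (hB : IsBC B E) : IsBC K E := by
  intro W hW
  haveI := hW
  haveI : Module.Flat (ΓE E) (ΓE W.left) := flat_ΓMap W.hom
  obtain ⟨hiE, heE⟩ := ker_sec w hk E
  obtain ⟨hiW, heW⟩ := ker_sec w hk W.left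
  have hj : Function.Injective (LinearMap.lTensor (ΓE W.left) (secMap i E)) :=
    Module.Flat.lTensor_preserves_injective_linearMap _ hiE
  have hx := Module.Flat.lTensor_exact (ΓE W.left) heE
  refine ⟨(injective_iff_map_eq_zero _).2 fun x hx0 => ?_, fun y => ?_⟩
  · refine hj ((hA W hW).injective ?_)
    rw [← bcMap_natural, hx0, map_zero, map_zero, map_zero]
  · obtain ⟨a, ha⟩ := (hA W hW).surjective (secMap i W.left y)
    obtain ⟨x, hxa⟩ := (hx a).1 ((hB W hW).injective (by
      rw [← bcMap_natural, ha, map_zero]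
      exact (heW _).2 ⟨y, rfl⟩))
    exact ⟨x, hiW ((bcMap_natural i E W x).trans ((congrArg _ hxa).trans ha))⟩

/-- base change passes to cokernels -/
theorem cokernel_sec {A B : ModEt X} (f : A ⟶ B) (E : EtOver X) [IsAff E] (hA : IsBC A E) (hB : IsBC B E) :
    IsBC (cokernel f) E ∧ Function.Surjective (secMap (cokernel.π f) E) := by
  let F := SheafOfModules.overFunctor.{u + 1} (OEtRing X) E
  haveI : F.IsLeftAdjoint := (SheafOfModules.overPushforwardOverAdj E).isLeftAdjoint
  haveI : F.PreservesZeroMorphisms := Functor.preservesZeroMorphisms_of_isLeftAdjoint _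
  haveI : (L E).PreservesZeroMorphisms := Functor.preservesZeroMorphisms_of_isLeftAdjoint _
  haveI := isIso_counit_of_isBC A hA
  haveI := isIso_counit_of_isBC B hB
  let g : Sec A E ⟶ Sec B E := (Γtop E).map (F.map f)
  have hc := CokernelCofork.mapIsColimit _ (cokernelIsCokernel f) F
  have hg := CokernelCofork.mapIsColimit _ (cokernelIsCokernel g) (L E)
  have hn : (L E).map g ≫ (adj E).counit.app (B.over E) = (adj E).counit.app (A.over E) ≫ F.map f :=
    (adj E).counit.naturality (F.map f)
  let e : (L E).obj (cokernel g) ≅ F.obj (cokernel f) :=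
    CokernelCofork.mapIsoOfIsColimit hg hc (Arrow.isoMk (asIso ((adj E).counit.app (A.over E)))
      (asIso ((adj E).counit.app (B.over E))) hn.symm)
  have he : (L E).map (cokernel.π g) ≫ e.hom = (adj E).counit.app (B.over E) ≫ F.map (cokernel.π f) := by
    exact CokernelCofork.π_mapOfIsColimit hg _ _
  refine ⟨isBC_of_essImage _ ⟨_, ⟨e⟩⟩, ?_⟩
  have he2 : secMap (cokernel.π f) E = ((Γtop E).map (F.map (cokernel.π f))).hom := rfl
  haveI : (Γtop E).IsRightAdjoint := (adj E).isRightAdjoint
  have h2 : (Γtop E).map (F.map (cokernel.π f)) =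
      inv ((Γtop E).map ((adj E).counit.app (B.over E))) ≫ (Γtop E).map ((L E).map (cokernel.π g)) ≫ (Γtop E).map e.hom := by
    rw [← Functor.map_comp, he, Functor.map_comp, IsIso.inv_hom_id_assoc]
  have h3 : (Γtop E).map ((L E).map (cokernel.π g)) =
      inv ((adj E).unit.app (Sec B E)) ≫ cokernel.π g ≫ (adj E).unit.app (cokernel g) := by
    rw [IsIso.eq_inv_comp]
    exact ((adj E).unit.naturality (cokernel.π g)).symm
  haveI : Epi ((Γtop E).map (F.map (cokernel.π f))) := by rw [h2, h3]; infer_instance
  exact he2 ▸ (ModuleCat.epi_iff_surjective _).1 ‹_›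

end Groth.Agent.AlgSpLib.QCohEt
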