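import Groth.Agent.AlgSpLib.PscStep
import Groth.Agent.AlgSpLib.QCohEtExact
import Groth.Agent.AlgSpLib.QCohEtFP
import Groth.Agent.AlgSpLib.QCohEtExt
import Groth.Agent.AlgSpLib.EtShriekSlice
import Groth.Agent.AlgSpLib.PerfBounded

/-!
Pseudo-coherence on locally Noetherian spaces through coherence of cohomology.
-/

set_option autoImplicit false

universe u

open CategoryTheory CategoryTheory.Limits AlgebraicGeometry Opposite HomologicalComplex ZeroObject
attribute [local instance] HasDerivedCategory.standard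
open AlgSp Groth.Agent.AlgSpLib Groth.Agent.AlgSpLib.QCohEt Groth.Agent.AlgSpLib.EtSmall

noncomputable section

set_option linter.style.haveILetI false

namespace Groth.Agent.AlgSpLib.PscNoeth

set_option backward.isDefEq.respectTransparency.types false
set_option backward.isDefEq.respectTransparency false

variable {S : Scheme.{u}} {X : Sp S}

instance preservesHomology_overMap {V W : EtOver X} (g : W ⟶ V) :
    (SheafOfModules.overMap.{u + 1} (OEtRing X) g).PreservesHomology := by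
  haveI : PreservesFiniteColimits (SheafOfModules.overMap.{u + 1} (OEtRing X) g) := by
    haveI := (SheafOfModules.overMapPushforwardAdj (OEtRing X) g).leftAdjoint_preservesColimits
    infer_instance
  infer_instance

/-- restriction along a map sends summands of finite free modules to such -/
theorem summand_overMap {V W : EtOver X} (g : W ⟶ V) {F : ModEtOn V} (hF : DCoh.IsFinFreeSummandMod (OEtOn V) F) :
    DCoh.IsFinFreeSummandMod (OEtOn W) ((SheafOfModules.overMap (OEtRing X) g).obj F) := by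
  obtain ⟨n, i, p, h⟩ := hF
  let Φ := SheafOfModules.overMap (OEtRing X) g
  haveI : PreservesColimitsOfSize.{u + 1, u + 1} Φ :=
    (SheafOfModules.overMapPushforwardAdj (OEtRing X) g).leftAdjoint_preservesColimits
  let e : Φ.obj (SheafOfModules.free (R := OEtOn V) (ULift.{u + 1} (Fin n))) ≅
      SheafOfModules.free (R := OEtOn W) (ULift.{u + 1} (Fin n)) :=
    PreservesCoproduct.iso Φ (fun _ : ULift.{u + 1} (Fin n) =>
      SheafOfModules.unit (OEtOn V)) ≪≫ Sigma.mapIso fun _ => SheafOfModules.overMapUnitIso g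
  exact ⟨n, Φ.map i ≫ e.hom, e.inv ≫ Φ.map p, by
    rw [Category.assoc, e.hom_inv_id_assoc, ← Φ.map_comp, h, Φ.map_id]⟩

theorem summand_iso {V : EtOver X} {A B : ModEtOn V} (h : Nonempty (A ≅ B))
    (hA : DCoh.IsFinFreeSummandMod (OEtOn V) A) : DCoh.IsFinFreeSummandMod (OEtOn V) B := by
  obtain ⟨e⟩ := h
  obtain ⟨n, i, p, hip⟩ := hA
  exact ⟨n, e.inv ≫ i, p ≫ e.hom, by rw [Category.assoc, reassoc_of% hip, e.inv_hom_id]⟩

theorem summand_zero {V : EtOver X} {A : ModEtOn V} (h : IsZero A) : DCoh.IsFinFreeSummandMod (OEtOn V) A :=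
  ⟨0, 0, 0, h.eq_of_src _ _⟩

theorem summand_biprod {V : EtOver X} {A B : ModEtOn V} (hA : DCoh.IsFinFreeSummandMod (OEtOn V) A)
    (hB : DCoh.IsFinFreeSummandMod (OEtOn V) B) : DCoh.IsFinFreeSummandMod (OEtOn V) (A ⊞ B) := by
  obtain ⟨n, i, p, hp⟩ := hA
  obtain ⟨m, j, q, hq⟩ := hB
  let U : ModEtOn V := SheafOfModules.unit (OEtOn V)
  let il : (∐ fun _ : ULift.{u + 1} (Fin n) => U) ⟶ ∐ fun _ : ULift.{u + 1} (Fin (n + m)) => U :=
    Sigma.desc fun k => Sigma.ι (fun _ : ULift.{u + 1} (Fin (n + m)) => U) ⟨Fin.castAdd m k.down⟩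
  let ir : (∐ fun _ : ULift.{u + 1} (Fin m) => U) ⟶ ∐ fun _ : ULift.{u + 1} (Fin (n + m)) => U :=
    Sigma.desc fun k => Sigma.ι (fun _ : ULift.{u + 1} (Fin (n + m)) => U) ⟨Fin.natAdd n k.down⟩
  let out : (∐ fun _ : ULift.{u + 1} (Fin (n + m)) => U) ⟶ A ⊞ B :=
    Sigma.desc fun k => Fin.addCases
      (fun k => Sigma.ι (fun _ : ULift.{u + 1} (Fin n) => U) ⟨k⟩ ≫ p ≫ biprod.inl)
      (fun k => Sigma.ι (fun _ : ULift.{u + 1} (Fin m) => U) ⟨k⟩ ≫ q ≫ biprod.inr) k.down
  have hl : il ≫ out = p ≫ biprod.inl := by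
    refine Sigma.hom_ext _ _ fun k => ?_
    simp [il, out]
  have hr : ir ≫ out = q ≫ biprod.inr := by
    refine Sigma.hom_ext _ _ fun k => ?_
    simp [ir, out]
  refine ⟨n + m, biprod.desc (i ≫ il) (j ≫ ir), out, biprod.hom_ext' _ _ ?_ ?_⟩
  · rw [biprod.inl_desc_assoc, Category.assoc, hl, reassoc_of% hp, Category.comp_id]
  · rw [biprod.inr_desc_assoc, Category.assoc, hr, reassoc_of% hq, Category.comp_id]

theorem finite_Γtop_free {c : EtOver X} [IsAff c] (I : Type (u + 1)) [Finite I] :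
    Module.Finite (ΓE c) ((Γtop c).obj (SheafOfModules.free (R := (OEtRing X).over c) I)) := by
  obtain ⟨e⟩ := exists_iso_free c I
  haveI : IsIso ((adj c).unit.app (ModuleCat.of (ΓE c) (I →₀ ΓE c))) := inferInstance
  let e' : ModuleCat.of (ΓE c) (I →₀ ΓE c) ≅ (Γtop c).obj (SheafOfModules.free (R := (OEtRing X).over c) I) :=
    asIso ((adj c).unit.app (ModuleCat.of (ΓE c) (I →₀ ΓE c))) ≪≫ (Γtop c).mapIso e
  exact Module.Finite.equiv e'.toLinearEquiv

theorem summand_ess {c : EtOver X} [IsAff c] {F : ModEtOn c} (hF : DCoh.IsFinFreeSummandMod (OEtOn c) F) :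
    (L c).essImage F ∧ Module.Finite (ΓE c) ((Γtop c).obj F) := by
  obtain ⟨n, i, p, h⟩ := hF
  refine ⟨essImage_of_retract c (essImage_free c _) i p h, ?_⟩
  haveI := finite_Γtop_free (c := c) (ULift.{u + 1} (Fin n))
  refine Module.Finite.of_surjective ((Γtop c).map p).hom fun x => ⟨((Γtop c).map i).hom x, ?_⟩
  show ((Γtop c).map i ≫ (Γtop c).map p).hom x = x
  rw [← Functor.map_comp, h]
  exact congr($((Γtop c).map_id F) x)

/-- cohomology of a complex of finite attached modules over a Noetherian ring is finite -/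
theorem homology_ess {c : EtOver X} [IsAff c] [IsNoetherianRing (ΓE c)] (K : CochainComplex (ModEtOn c) ℤ)
    (hK : ∀ j, (L c).essImage (K.X j) ∧ Module.Finite (ΓE c) ((Γtop c).obj (K.X j))) (i : ℤ) :
    (L c).essImage (K.homology i) ∧ Module.Finite (ΓE c) ((Γtop c).obj (K.homology i)) := by
  haveI := preservesHomology_L c
  haveI : ∀ j, IsIso ((adj c).counit.app (K.X j)) := fun j => (adj c).isIso_counit_app_iff_mem_essImage.2 (hK j).1
  let M := ((Γtop c).mapHomologicalComplex (ComplexShape.up ℤ)).obj K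
  let e : ((L c).mapHomologicalComplex (ComplexShape.up ℤ)).obj M ≅ K :=
    HomologicalComplex.Hom.isoOfComponents (fun j => asIso ((adj c).counit.app (K.X j)))
      (fun j k _ => ((adj c).counit.naturality (K.d j k)).symm)
  let e' : (L c).obj (M.sc i).homology ≅ K.homology i := ((M.sc i).mapHomologyIso (L c)).symm ≪≫
    (HomologicalComplex.homologyFunctor _ _ i).mapIso e
  refine ⟨⟨_, ⟨e'⟩⟩, ?_⟩
  haveI : Module.Finite (ΓE c) (M.sc i).X₂ := (hK i).2
  haveI : Module.Finite (ΓE c) (M.sc i).cycles :=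
    Module.Finite.of_injective (M.sc i).iCycles.hom ((ModuleCat.mono_iff_injective _).1 inferInstance)
  haveI : Module.Finite (ΓE c) (M.sc i).homology :=
    Module.Finite.of_surjective (M.sc i).homologyπ.hom ((ModuleCat.epi_iff_surjective _).1 inferInstance)
  haveI : IsIso ((adj c).unit.app (M.sc i).homology) := inferInstance
  let e'' : (M.sc i).homology ≅ (Γtop c).obj (K.homology i) :=
    asIso ((adj c).unit.app (M.sc i).homology) ≪≫ (Γtop c).mapIso e'
  exact Module.Finite.equiv e''.toLinearEquiv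

/-- a finite free module mapping onto the kernel of a map of attached modules -/
theorem exists_free_exact {c : EtOver X} [IsAff c] [IsNoetherianRing (ΓE c)] {A B : ModEtOn c} (f : A ⟶ B)
    (hA : (L c).essImage A) [Module.Finite (ΓE c) ((Γtop c).obj A)] (hB : (L c).essImage B) :
    ∃ (r : ℕ) (q : SheafOfModules.free (R := OEtOn c) (ULift.{u + 1} (Fin r)) ⟶ A) (w : q ≫ f = 0),
      (ShortComplex.mk q f w).Exact := by
  haveI := preservesHomology_L c
  haveI : IsIso ((adj c).counit.app A) := (adj c).isIso_counit_app_iff_mem_essImage.2 hA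
  haveI : IsIso ((adj c).counit.app B) := (adj c).isIso_counit_app_iff_mem_essImage.2 hB
  let γ := ((Γtop c).map f).hom
  obtain ⟨r, s, hs⟩ := Module.Finite.exists_fin (R := ΓE c) (M := LinearMap.ker γ)
  let I := ULift.{u + 1} (Fin r)
  let π : (I →₀ ΓE c) →ₗ[ΓE c] (Γtop c).obj A :=
    (LinearMap.ker γ).subtype ∘ₗ Finsupp.linearCombination (ΓE c) (fun k : I => s k.down)
  have hπ : LinearMap.range π = LinearMap.ker γ := by
    rw [LinearMap.range_comp, Finsupp.range_linearCombination,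
      show Set.range (fun k : I => s k.down) = Set.range s from
        Set.ext fun x => ⟨fun ⟨k, hk⟩ => ⟨k.down, hk⟩, fun ⟨k, hk⟩ => ⟨⟨k⟩, hk⟩⟩, hs, Submodule.map_top,
      Submodule.range_subtype]
  let C : ShortComplex (ModuleCat.{u + 1} (ΓE c)) :=
    ShortComplex.moduleCatMkOfKerLERange (ModuleCat.ofHom π) ((Γtop c).map f) hπ.le
  have hC : C.Exact := (ShortComplex.ShortExact.moduleCat_exact_iff_function_exact C).2 (LinearMap.exact_iff.2 hπ.symm)
  obtain ⟨e⟩ := exists_iso_free c I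
  have hn : (L c).map ((Γtop c).map f) ≫ (adj c).counit.app B = (adj c).counit.app A ≫ f :=
    (adj c).counit.naturality f
  have hz : (L c).map C.f ≫ (L c).map C.g = 0 := by rw [← Functor.map_comp, C.zero, Functor.map_zero]
  refine ⟨r, e.inv ≫ (L c).map C.f ≫ (adj c).counit.app A, ?_, ?_⟩
  · rw [Category.assoc, Category.assoc, ← hn, ← Category.assoc ((L c).map C.f)]
    erw [hz]
    rw [zero_comp, comp_zero]
  · refine ShortComplex.exact_of_iso ?_ (hC.map (L c))
    exact ShortComplex.isoMk e (asIso ((adj c).counit.app A)) (asIso ((adj c).counit.app B))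
      (by simp) hn.symm

/-- the sieve of objects where a value at the top lifts along an epimorphism -/
theorem exists_lift_sieve {V : EtOver X} {A B : ModEtOn V} (p : A ⟶ B) [Epi p]
    (b : (B.val.obj (op (Over.mk (𝟙 V))) : Type (u + 1))) :
    ∃ R ∈ etTop X V, ∀ (E : EtOver X) (k : E ⟶ V), R k → ∃ a : (A.val.obj (op (Over.mk k)) : Type (u + 1)),
      p.val.app (op (Over.mk k)) a = B.val.map (Over.homMk k : Over.mk k ⟶ Over.mk (𝟙 V)).op b := by
  let φ := ((SheafOfModules.toSheaf (OEtOn V)).map p).hom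
  haveI : Epi ((SheafOfModules.toSheaf (OEtOn V)).map p) := inferInstance
  haveI : Sheaf.IsLocallySurjective ((SheafOfModules.toSheaf (OEtOn V)).map p) :=
    (Sheaf.isLocallySurjective_iff_epi' _ _).2 inferInstance
  let T : Sieve (Over.mk (𝟙 V)) := Presheaf.imageSieve φ (U := Over.mk (𝟙 V)) b
  have h : T ∈ (etTop X).over V (Over.mk (𝟙 V)) :=
    Presheaf.imageSieve_mem ((etTop X).over V) φ (U := op (Over.mk (𝟙 V))) b
  refine ⟨_, (GrothendieckTopology.mem_over_iff _ _).1 h, fun E k hk => ?_⟩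
  have h' := T.downward_closed ((Sieve.overEquiv_iff T k).1 hk)
    (Over.homMk (𝟙 E) (by simp) : Over.mk k ⟶ Over.mk (k ≫ (Over.mk (𝟙 V)).hom))
  rw [show (Over.homMk (𝟙 E) (by simp) : Over.mk k ⟶ Over.mk (k ≫ (Over.mk (𝟙 V)).hom)) ≫
    (Over.homMk k : Over.mk (k ≫ (Over.mk (𝟙 V)).hom) ⟶ Over.mk (𝟙 V)) =
    (Over.homMk k : Over.mk k ⟶ Over.mk (𝟙 V)) from Over.OverMorphism.ext (Category.id_comp _)] at h'
  obtain ⟨x, hx⟩ := h'
  exact ⟨x, hx⟩

/-- generators lift along an epimorphism after restriction to an affine covering -/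
theorem exists_cover_lift {V : EtOver X} [IsAff V] {A B A' B' : ModEtOn V} (p : A ⟶ B) [Epi p] (p' : A' ⟶ B') [Epi p']
    {r r' : ℕ} (f : SheafOfModules.free (R := OEtOn V) (ULift.{u + 1} (Fin r)) ⟶ B)
    (f' : SheafOfModules.free (R := OEtOn V) (ULift.{u + 1} (Fin r')) ⟶ B') :
    ∃ (ι : Type) (W : ι → EtOver X) (g : ∀ i, W i ⟶ V), (∀ i, IsAff (W i)) ∧
      (∀ x, ∃ i, x ∈ Set.range (g i).hom.left.left) ∧ ∀ i,
        (∃ l, l ≫ (SheafOfModules.overMap (OEtRing X) (g i)).map p = (SheafOfModules.overMap (OEtRing X) (g i)).map f) ∧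
        (∃ l', l' ≫ (SheafOfModules.overMap (OEtRing X) (g i)).map p' = (SheafOfModules.overMap (OEtRing X) (g i)).map f') := by
  classical
  let U := SheafOfModules.unit (OEtOn V)
  choose R hR hR' using fun k : ULift.{u + 1} (Fin r) =>
    exists_lift_sieve p (unitVal V (Sigma.ι (fun _ : ULift.{u + 1} (Fin r) => U) k ≫ f))
  choose R₁ hR₁ hR₁' using fun k : ULift.{u + 1} (Fin r') =>
    exists_lift_sieve p' (unitVal V (Sigma.ι (fun _ : ULift.{u + 1} (Fin r') => U) k ≫ f'))
  let R₀ : Sieve V := Finset.univ.inf R ⊓ Finset.univ.inf R₁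
  have hR₀ : R₀ ∈ etTop X V := (etTop X).intersection_covering
    (Finset.inf_induction ((etTop X).top_mem V) (fun _ h₁ _ h₂ => (etTop X).intersection_covering h₁ h₂) fun k _ => hR k)
    (Finset.inf_induction ((etTop X).top_mem V) (fun _ h₁ _ h₂ => (etTop X).intersection_covering h₁ h₂) fun k _ => hR₁ k)
  obtain ⟨ι, hι, W, g, hW, hg, hcov⟩ := exists_finite_affine_refinement hR₀
  refine ⟨ι, W, g, hW, hcov, fun i => ?_⟩
  let Φ := SheafOfModules.overMap (OEtRing X) (g i)
  have main : ∀ {A B : ModEtOn V} (p : A ⟶ B) {n : ℕ} (f : SheafOfModules.free (R := OEtOn V) (ULift.{u + 1} (Fin n)) ⟶ B),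
      (∀ k, ∃ a : (A.val.obj (op (Over.mk (g i))) : Type (u + 1)), p.val.app (op (Over.mk (g i))) a =
        B.val.map (Over.homMk (g i) : Over.mk (g i) ⟶ Over.mk (𝟙 V)).op
          (unitVal V (Sigma.ι (fun _ : ULift.{u + 1} (Fin n) => U) k ≫ f))) →
      ∃ l, l ≫ Φ.map p = Φ.map f := by
    intro A B p n f ha
    choose a ha using ha
    haveI : PreservesColimitsOfSize.{u + 1, u + 1} Φ :=
      (SheafOfModules.overMapPushforwardAdj (OEtRing X) (g i)).leftAdjoint_preservesColimits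
    let hc := isColimitCofanMkObjOfIsColimit Φ _ _ (coproductIsCoproduct (fun _ : ULift.{u + 1} (Fin n) => U))
    let τ : (Over.map (g i)).obj (Over.mk (𝟙 (W i))) ⟶ Over.mk (g i) := Over.homMk (𝟙 (W i)) (by simp)
    choose m hm using fun k => (bijective_unitVal (W i) (Φ.obj A)).2 (A.val.map τ.op (a k))
    refine ⟨Cofan.IsColimit.desc hc fun k => (SheafOfModules.overMapUnitIso (g i)).hom ≫ m k,
      Cofan.IsColimit.hom_ext hc _ _ fun k => ?_⟩
    rw [Cofan.IsColimit.fac_assoc, Category.assoc]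
    show (SheafOfModules.overMapUnitIso (g i)).hom ≫ m k ≫ Φ.map p = Φ.map (Sigma.ι (fun _ => U) k) ≫ Φ.map f
    rw [← Φ.map_comp, ← cancel_epi (SheafOfModules.overMapUnitIso (g i)).inv, Iso.inv_hom_id_assoc]
    apply (bijective_unitVal (W i) (Φ.obj B)).1
    rw [unitVal_comp, hm]
    show p.val.app (op ((Over.map (g i)).obj (Over.mk (𝟙 (W i))))) (A.val.map τ.op (a k)) = _
    rw [PresheafOfModules.naturality_apply, ha, ← PresheafOfModules.map_comp_apply]
    exact (B.unitHomEquiv (Sigma.ι (fun _ => U) k ≫ f)).2 _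
  exact ⟨main p f fun k => hR' k _ _ (Finset.inf_le (f := R) (Finset.mem_univ k) _ (hg i).1),
    main p' f' fun k => hR₁' k _ _ (Finset.inf_le (f := R₁) (Finset.mem_univ k) _ (hg i).2)⟩

theorem map_lift_eq {C D : Type*} [Category C] [Category D] (Φ : C ⥤ D) {G₀ G A K Y Z M : C} (e : G₀ ⟶ G)
    (p : A ⟶ K) (i : K ⟶ Y) (j : Y ⟶ Z) (l : Φ.obj G ⟶ Φ.obj A) (c : G ⟶ K) (hl : l ≫ Φ.map p = Φ.map c)
    (d : A ⟶ Z) (hd : d = p ≫ i ≫ j) (u : G₀ ⟶ M) (v : M ⟶ Z) (huv : e ≫ c ≫ i ≫ j = u ≫ v) :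
    (Φ.map e ≫ l) ≫ Φ.map d = Φ.map u ≫ Φ.map v := by
  rw [hd, Φ.map_comp p, Category.assoc, reassoc_of% hl, ← Φ.map_comp, ← Φ.map_comp, ← Φ.map_comp, huv]

/-- an approximation in degrees `≥ n` of a complex over an object -/
def Approx (F : CochainComplex (ModEt X) ℤ) (n : ℤ) (V : EtOver X) : Prop :=
  ∃ (E : CochainComplex (ModEtOn V) ℤ) (α : E ⟶ ((resModEt V).mapHomologicalComplex (ComplexShape.up ℤ)).obj F),
    DCoh.IsStrictlyPerfectMod (OEtOn V) E ∧ (∀ i, i < n → IsZero (E.X i)) ∧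
      (∀ j, n < j → IsIso (homologyMap α j)) ∧ Epi (homologyMap α n)

/-- restriction of a complex to a smaller object -/
def resCxIso (F : CochainComplex (ModEt X) ℤ) {V W : EtOver X} (g : W ⟶ V) :
    ((SheafOfModules.overMap.{u + 1} (OEtRing X) g).mapHomologicalComplex (ComplexShape.up ℤ)).obj
        (((resModEt V).mapHomologicalComplex (ComplexShape.up ℤ)).obj F) ≅
      ((resModEt W).mapHomologicalComplex (ComplexShape.up ℤ)).obj F :=
  HomologicalComplex.Hom.isoOfComponents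
    (fun i => (SheafOfModules.overFunctorMap.{u + 1} (OEtRing X) g).app (F.X i))
    (fun i j _ => ((SheafOfModules.overFunctorMap.{u + 1} (OEtRing X) g).hom.naturality (F.d i j)).symm)

theorem Approx.res {F : CochainComplex (ModEt X) ℤ} {n : ℤ} {V W : EtOver X} (h : Approx F n V) (g : W ⟶ V) :
    Approx F n W := by
  obtain ⟨E, α, ⟨⟨a, b, hab⟩, hE⟩, hlow, hiso, hepi⟩ := h
  let Φ := SheafOfModules.overMap.{u + 1} (OEtRing X) g
  haveI : PreservesFiniteColimits Φ := by
    haveI := (SheafOfModules.overMapPushforwardAdj (OEtRing X) g).leftAdjoint_preservesColimits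
    infer_instance
  refine ⟨(Φ.mapHomologicalComplex _).obj E, (Φ.mapHomologicalComplex _).map α ≫ (resCxIso F g).hom,
    ⟨⟨a, b, fun i hi => Φ.map_isZero (hab i hi)⟩, fun i => summand_overMap g (hE i)⟩,
    fun i hi => Φ.map_isZero (hlow i hi), fun j hj => ?_, ?_⟩
  · haveI := PscStep.isIso_map Φ α j (hiso j hj)
    rw [homologyMap_comp]
    infer_instance
  · haveI := PscStep.epi_map Φ α n hepi
    rw [homologyMap_comp]
    infer_instance

/-- one step down over an affine object -/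
theorem approx_step (F : CochainComplex (ModEt X) ℤ) (n : ℤ) {V : EtOver X} [IsAff V] [IsNoetherianRing (ΓE V)]
    (hq : ∀ j, n - 1 ≤ j → (F.homology j).IsQuasicoherent)
    (hft : (F.homology (n - 1)).IsFiniteType) (h : Approx F n V) :
    ∃ (ι : Type) (W : ι → EtOver X) (g : ∀ i, W i ⟶ V), (∀ i, IsAff (W i)) ∧
      (∀ x, ∃ i, x ∈ Set.range (g i).hom.left.left) ∧ ∀ i, Approx F (n - 1) (W i) := by
  obtain ⟨E, α, ⟨⟨a, b, hab⟩, hE⟩, hlow, hiso, hepi⟩ := h
  let FV := ((resModEt V).mapHomologicalComplex (ComplexShape.up ℤ)).obj F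
  have hF : ∀ j, n - 1 ≤ j → (L V).essImage (FV.homology j) := fun j hj => by
    haveI := hq j hj
    haveI := isIso_counit_of_isBC (F.homology j) (isBC (F.homology j) V)
    refine Functor.essImage.ofIso ((F.sc j).mapHomologyIso (resModEt V)).symm ?_
    exact (adj V).isIso_counit_app_iff_mem_essImage.1 this
  haveI : Module.Finite (ΓE V) ((Γtop V).obj (FV.homology (n - 1))) := by
    haveI := hq (n - 1) le_rfl
    haveI := hft
    haveI : Module.Finite (ΓE V) ((Γtop V).obj ((resModEt V).obj (F.sc (n - 1)).homology)) := finite_sec (F.homology (n - 1)) V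
    exact Module.Finite.equiv ((Γtop V).mapIso ((F.sc (n - 1)).mapHomologyIso (resModEt V)).symm).toLinearEquiv
  obtain ⟨hEn, hEf⟩ := homology_ess E (fun j => summand_ess (hE j)) n
  haveI := hEf
  -- generators of the kernel in degree `n`
  obtain ⟨r, q, w, hqex⟩ := exists_free_exact (homologyMap α n) hEn (hF n (by omega))
  -- generators of cohomology in degree `n - 1`
  obtain ⟨r', q', w', hq'ex⟩ := exists_free_exact (0 : FV.homology (n - 1) ⟶ FV.homology (n - 1)) (hF _ le_rfl) (hF _ le_rfl)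
  haveI : Epi q' := hq'ex.epi_f rfl
  let I := ULift.{u + 1} (Fin r)
  let G : ModEtOn V := SheafOfModules.free (R := OEtOn V) I
  haveI : IsIso (E.homologyπ n) := E.isIso_homologyπ (n - 1) n (by simp) ((hlow (n - 1) (by omega)).eq_of_src _ _)
  let s₀ : G ⟶ E.cycles n := q ≫ inv (E.homologyπ n)
  let s : G ⟶ E.X n := s₀ ≫ E.iCycles n
  let β : G ⟶ FV.cycles n := s₀ ≫ cyclesMap α n
  have hβ : β ≫ FV.homologyπ n = 0 := by
    simp only [β, s₀, Category.assoc]
    rw [← homologyπ_naturality, IsIso.inv_hom_id_assoc, w]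
  let S₁ : ShortComplex (ModEtOn V) := ShortComplex.mk (FV.toCycles (n - 1) n) (FV.homologyπ n) (toCycles_comp_homologyπ _ _ _)
  have hS₁ : S₁.Exact := S₁.exact_of_g_is_cokernel (FV.homologyIsCokernel (n - 1) n (by simp))
  let p : FV.X (n - 1) ⟶ kernel (FV.homologyπ n) := kernel.lift _ (FV.toCycles (n - 1) n) (toCycles_comp_homologyπ _ _ _)
  haveI : Epi p := hS₁.epi_kernelLift
  obtain ⟨ι, W, g, hW, hcov, hl⟩ := exists_cover_lift p (FV.homologyπ (n - 1)) (kernel.lift _ β hβ) q'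
  refine ⟨ι, W, g, hW, hcov, fun i => ?_⟩
  obtain ⟨⟨l, hl₁⟩, ⟨l', hl₂⟩⟩ := hl i
  let Φ := SheafOfModules.overMap.{u + 1} (OEtRing X) (g i)
  haveI : PreservesFiniteColimits Φ := by
    haveI := (SheafOfModules.overMapPushforwardAdj (OEtRing X) (g i)).leftAdjoint_preservesColimits
    infer_instance
  let Sg := (HomologicalComplex.single (ModEtOn V) (ComplexShape.up ℤ) n).obj G
  let σ : Sg ⟶ E := mkHomFromSingle s fun k _ => by simp [s]
  have hσ : homologyMap σ n = (singleObjHomologySelfIso (ComplexShape.up ℤ) n G).hom ≫ q := by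
    rw [← cancel_epi (singleObjHomologySelfIso (ComplexShape.up ℤ) n G).inv, Iso.inv_hom_id_assoc]
    have hc : (singleObjCyclesSelfIso (ComplexShape.up ℤ) n G).inv ≫ cyclesMap σ n = s₀ := by
      rw [← cancel_mono (E.iCycles n), Category.assoc, cyclesMap_i, singleObjCyclesSelfIso_inv_iCycles_assoc]
      simp [σ, s]
    rw [← singleObjCyclesSelfIso_inv_homologyπ, Category.assoc, homologyπ_naturality, reassoc_of% hc]
    simp [s₀]
  have hex : ∃ w' : homologyMap σ n ≫ homologyMap α n = 0, (ShortComplex.mk _ _ w').Exact := by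
    refine ⟨by rw [hσ, Category.assoc, w, comp_zero], ShortComplex.exact_of_iso ?_ hqex⟩
    exact ShortComplex.isoMk (singleObjHomologySelfIso (ComplexShape.up ℤ) n G).symm (Iso.refl _) (Iso.refl _)
      (by simp [hσ]) (by simp)
  let FW := (Φ.mapHomologicalComplex (ComplexShape.up ℤ)).obj FV
  have hk : ((Φ.map (singleObjXSelf (ComplexShape.up ℤ) n G).hom ≫ l) : (Φ.obj (Sg.X n)) ⟶ FW.X (n - 1)) ≫ FW.d (n - 1) n =
      ((Φ.mapHomologicalComplex (ComplexShape.up ℤ)).map σ ≫ (Φ.mapHomologicalComplex (ComplexShape.up ℤ)).map α).f n := by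
    exact map_lift_eq Φ (singleObjXSelf (ComplexShape.up ℤ) n G).hom p (kernel.ι (FV.homologyπ n)) (FV.iCycles n)
      l (kernel.lift _ β hβ) hl₁ (FV.d (n - 1) n) (by simp [p]) (σ.f n) (α.f n) (by
        simp only [σ, mkHomFromSingle_f, Category.assoc, β, s, kernel.lift_ι_assoc]
        exact congrArg (fun t => (singleObjXSelf (ComplexShape.up ℤ) n G).hom ≫ s₀ ≫ t) (cyclesMap_i α n))
  have hSg : ∀ j, j ≠ n → IsZero (Sg.X j) := fun j hj => isZero_single_obj_X _ _ _ _ hj
  obtain ⟨H⟩ := PscStep.nonempty_homotopy ((Φ.mapHomologicalComplex (ComplexShape.up ℤ)).map σ ≫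
    (Φ.mapHomologicalComplex (ComplexShape.up ℤ)).map α) n (fun j hj => Φ.map_isZero (hSg j hj)) _ hk
  let G' : ModEtOn (W i) := Φ.obj (SheafOfModules.free (R := OEtOn V) (ULift.{u + 1} (Fin r')))
  obtain ⟨ζ, hζ⟩ := PscStep.exists_epi_single Φ (n - 1) (G := G') l' (by rw [hl₂]; infer_instance)
  have hfree : ∀ m : ℕ, DCoh.IsFinFreeSummandMod (OEtOn V) (SheafOfModules.free (R := OEtOn V) (ULift.{u + 1} (Fin m))) :=
    fun m => ⟨m, 𝟙 _, 𝟙 _, Category.comp_id _⟩
  obtain ⟨E', α', hP, hz, hz', hi, he⟩ := PscStep.step (DCoh.IsFinFreeSummandMod (OEtOn (W i)))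
    summand_iso summand_biprod n ((Φ.mapHomologicalComplex (ComplexShape.up ℤ)).map α)
    ((Φ.mapHomologicalComplex (ComplexShape.up ℤ)).map σ) ζ (fun j hj => Φ.map_isZero (hSg j hj))
    (fun j hj => isZero_single_obj_X _ _ _ _ hj) (fun j => summand_overMap _ (hE j))
    (fun j => summand_overMap _ (by
      by_cases hj : j = n
      · subst hj; exact summand_iso ⟨(singleObjXSelf (ComplexShape.up ℤ) j G).symm⟩ (hfree r)
      · exact summand_zero (hSg j hj)))
    (fun j => by
      by_cases hj : j = n - 1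
      · subst hj; exact summand_iso ⟨(singleObjXSelf (ComplexShape.up ℤ) (n - 1) G').symm⟩ (summand_overMap _ (hfree r'))
      · exact summand_zero (isZero_single_obj_X _ _ _ _ hj))
    H (PscStep.exact_map Φ σ α n hex) hζ (fun j hj => PscStep.isIso_map Φ α j (hiso j hj)) (PscStep.epi_map Φ α n hepi)
    a b (fun j hj => Φ.map_isZero (hab j hj)) (fun j hj => Φ.map_isZero (hlow j hj))
  refine ⟨E', α' ≫ (resCxIso F (g i)).hom, ⟨⟨n - 1, max b n, fun j hj => hj.elim (hz j) (hz' j)⟩, hP⟩, hz,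
    fun j hj => ?_, ?_⟩
  · haveI := hi j hj
    rw [homologyMap_comp]
    infer_instance
  · haveI := he
    rw [homologyMap_comp]
    infer_instance

theorem locallyEt_of_affine {P : EtOver X → Prop} (U : EtOver X)
    (h : ∀ V : EtOver X, IsAff V → (V ⟶ U) → LocallyEt P V) : LocallyEt P U := by
  obtain ⟨κ, Z, z, hZ, hc⟩ := exists_affine_cover U
  choose ι V g hg hP using fun k => h (Z k) (hZ k) (z k)
  refine ⟨Σ k, ι k, fun q => V q.1 q.2, fun q => g q.1 q.2 ≫ z q.1, ?_, fun q => hP q.1 q.2⟩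
  refine (ofArrows_mem_etPre_iff _ _).2 fun x => ?_
  obtain ⟨k, y, hy⟩ := hc x
  obtain ⟨j, w, hw⟩ := (ofArrows_mem_etPre_iff _ _).1 (hg k) y
  exact ⟨⟨k, j⟩, w, show (z k).hom.left.left ((g k j).hom.left.left w) = x by rw [hw, hy]⟩

/-- approximations exist locally in every degree down to the coherent range -/
theorem locallyEt_approx (hN : IsLocNoethSp X) (F : CochainComplex (ModEt X) ℤ) (m b : ℤ)
    (hq : ∀ j, (F.homology j).IsQuasicoherent) (hft : ∀ j, m ≤ j → (F.homology j).IsFiniteType)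
    (hb : ∀ j, b < j → IsZero (F.homology j)) (k : ℕ) (hk : m ≤ max m (b + 1) - k) (U : EtOver X) :
    LocallyEt (fun V => IsAff V ∧ Approx F (max m (b + 1) - k) V) U := by
  induction k with
  | zero =>
    refine locallyEt_of_affine U fun V hV _ => ⟨PUnit, fun _ => V, fun _ => 𝟙 V,
      (ofArrows_mem_etPre_iff _ _).2 fun x => ⟨⟨⟩, x, rfl⟩, fun _ => ⟨hV, 0, 0, ?_, ?_, ?_, ?_⟩⟩
    · exact ⟨⟨0, 0, fun i _ => (HomologicalComplex.eval _ _ i).map_isZero (isZero_zero _)⟩,
        fun i => summand_zero ((HomologicalComplex.eval _ _ i).map_isZero (isZero_zero _))⟩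
    · exact fun i _ => (HomologicalComplex.eval _ _ i).map_isZero (isZero_zero _)
    · intro j hj
      haveI := hV
      have h1 : IsZero ((((resModEt V).mapHomologicalComplex (ComplexShape.up ℤ)).obj F).homology j) :=
        IsZero.of_iso ((resModEt V).map_isZero (hb j (by omega))) ((F.sc j).mapHomologyIso (resModEt V))
      exact ⟨0, (PscStep.isZero_homology ((HomologicalComplex.eval _ _ j).map_isZero (isZero_zero _))).eq_of_src _ _, h1.eq_of_src _ _⟩
    · have h1 : IsZero ((((resModEt V).mapHomologicalComplex (ComplexShape.up ℤ)).obj F).homology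
          (max m (b + 1) - (0 : ℕ))) :=
        IsZero.of_iso ((resModEt V).map_isZero (hb _ (by omega))) ((F.sc _).mapHomologyIso (resModEt V))
      exact ⟨fun f g _ => h1.eq_of_src f g⟩
  | succ k ih =>
    obtain ⟨ι, V, g, hg, hV⟩ := ih (by omega)
    have key : ∀ j, ∃ (κ : Type) (W : κ → EtOver X) (f : ∀ i, W i ⟶ V j), (∀ i, IsAff (W i)) ∧
        (∀ x, ∃ i, x ∈ Set.range (f i).hom.left.left) ∧ ∀ i, Approx F (max m (b + 1) - k - 1) (W i) := fun j => by
      haveI := (hV j).1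
      haveI := isNoetherianRing_ΓE hN (V j)
      exact approx_step F _ (fun l _ => hq l) (hft _ (by omega)) (hV j).2
    choose κ W f hf hcov hA using key
    refine ⟨Σ j, κ j, fun q => W q.1 q.2, fun q => f q.1 q.2 ≫ g q.1, ?_, fun q => ⟨hf q.1 q.2, ?_⟩⟩
    · refine (ofArrows_mem_etPre_iff _ _).2 fun x => ?_
      obtain ⟨j, y, hy⟩ := (ofArrows_mem_etPre_iff _ _).1 hg x
      obtain ⟨i, w, hw⟩ := hcov j y
      exact ⟨⟨j, i⟩, w, show (g j).hom.left.left ((f j i).hom.left.left w) = x by rw [hw, hy]⟩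
    · have e : max m (b + 1) - ((k + 1 : ℕ) : ℤ) = max m (b + 1) - k - 1 := by omega
      rw [e]
      exact hA q.1 q.2

end Groth.Agent.AlgSpLib.PscNoeth
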