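import Mathlib.Algebra.Homology.HomotopyCofiber
import Mathlib.Algebra.Homology.HomologicalComplexBiprod
import Mathlib.Algebra.Homology.HomologicalComplexAbelian
import Mathlib.Algebra.Homology.SingleHomology
import Mathlib.Algebra.Homology.ShortComplex.PreservesHomology
import Mathlib.Algebra.Homology.ShortComplex.Abelian
import Mathlib.Algebra.Homology.ShortComplex.ExactFunctor
import Mathlib.CategoryTheory.Abelian.Basic

/-!
One step of the construction of a strictly perfect approximation of a complex in an abelian category,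
and compatibility of homology with exact functors.
-/

set_option autoImplicit false

universe v v' w w'

open CategoryTheory CategoryTheory.Limits HomologicalComplex

noncomputable section

namespace Groth.Agent.AlgSpLib.PscStep

set_option backward.isDefEq.respectTransparency false
set_option backward.isDefEq.respectTransparency.types false

variable {C : Type w} [Category.{v} C] [Abelian C]

theorem isIso_homologyMap_of_window {K L : CochainComplex C ℤ} (f : K ⟶ L) (j : ℤ)
    (h₁ : Epi (f.f (j - 1))) (h₂ : IsIso (f.f j)) (h₃ : Mono (f.f (j + 1))) :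
    IsIso (homologyMap f j) := by
  haveI : IsIso ((shortComplexFunctor C (ComplexShape.up ℤ) j).map f).τ₂ := h₂
  have e₁ : ∀ i, i = j - 1 → Epi (f.f i) := by rintro i rfl; exact h₁
  have e₃ : ∀ i, i = j + 1 → Mono (f.f i) := by rintro i rfl; exact h₃
  haveI : Epi ((shortComplexFunctor C (ComplexShape.up ℤ) j).map f).τ₁ := e₁ _ (CochainComplex.prev ℤ j)
  haveI : Mono ((shortComplexFunctor C (ComplexShape.up ℤ) j).map f).τ₃ := e₃ _ (CochainComplex.next ℤ j)
  exact ShortComplex.isIso_homologyMap_of_epi_of_isIso_of_mono ((shortComplexFunctor C (ComplexShape.up ℤ) j).map f)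

theorem epi_homologyMap_of_window {K L : CochainComplex C ℤ} (f : K ⟶ L) (j : ℤ)
    (h₂ : IsIso (f.f j)) (h₃ : Mono (f.f (j + 1))) : Epi (homologyMap f j) := by
  haveI : IsSplitEpi (cyclesMap f j) := IsSplitEpi.mk' ⟨K.liftCycles (L.iCycles j ≫ inv (f.f j)) (j + 1) (by simp) (by
      rw [← cancel_mono (f.f (j + 1)), Category.assoc, Category.assoc, ← f.comm, IsIso.inv_hom_id_assoc,
        iCycles_d, zero_comp]), by
    rw [← cancel_mono (L.iCycles j)]
    simp⟩
  have : K.homologyπ j ≫ homologyMap f j = cyclesMap f j ≫ L.homologyπ j := homologyπ_naturality f j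
  haveI : Epi (K.homologyπ j ≫ homologyMap f j) := by rw [this]; infer_instance
  exact epi_of_epi (K.homologyπ j) _

theorem isZero_homology {K : CochainComplex C ℤ} {j : ℤ} (h : IsZero (K.X j)) : IsZero (K.homology j) :=
  ShortComplex.isZero_homology_of_isZero_X₂ _ h

/-- the inclusion into the cofibre is an isomorphism in degrees where the source vanishes above -/
theorem isIso_inr {K L : CochainComplex C ℤ} (φ : K ⟶ L) [HasHomotopyCofiber φ] (j : ℤ)
    (h : IsZero (K.X (j + 1))) : IsIso ((homotopyCofiber.inr φ).f j) := by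
  refine ⟨homotopyCofiber.sndX φ j, homotopyCofiber.inrX_sndX φ j, ?_⟩
  refine homotopyCofiber.ext_to_X φ j (j + 1) (by simp) (h.eq_of_tgt _ _) ?_
  show (homotopyCofiber.sndX φ j ≫ homotopyCofiber.inrX φ j) ≫ homotopyCofiber.sndX φ j = _
  rw [Category.assoc, homotopyCofiber.inrX_sndX]
  simp

/-- one step: kill the kernel in degree `n` and make degree `n - 1` surjective on homology -/
theorem step (P : C → Prop) (hPiso : ∀ {A B : C}, Nonempty (A ≅ B) → P A → P B)
    (hPsum : ∀ {A B : C}, P A → P B → P (A ⊞ B))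
    {E F Sg Sg' : CochainComplex C ℤ} (n : ℤ) (α : E ⟶ F) (σ : Sg ⟶ E) (ζ : Sg' ⟶ F)
    (hSg : ∀ i, i ≠ n → IsZero (Sg.X i)) (hSg' : ∀ i, i ≠ n - 1 → IsZero (Sg'.X i))
    (hPE : ∀ i, P (E.X i)) (hPS : ∀ i, P (Sg.X i)) (hPS' : ∀ i, P (Sg'.X i))
    (h : Homotopy (σ ≫ α) 0)
    (hex : ∃ w : homologyMap σ n ≫ homologyMap α n = 0, (ShortComplex.mk _ _ w).Exact)
    (hepi : Epi (homologyMap ζ (n - 1))) (hα : ∀ j, n < j → IsIso (homologyMap α j))
    (hαn : Epi (homologyMap α n)) (a b : ℤ) (hb : ∀ i, i < a ∨ b < i → IsZero (E.X i))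
    (hlow : ∀ i, i < n → IsZero (E.X i)) :
    ∃ (E' : CochainComplex C ℤ) (α' : E' ⟶ F), (∀ i, P (E'.X i)) ∧
      (∀ i, i < n - 1 → IsZero (E'.X i)) ∧ (∀ i, max b n < i → IsZero (E'.X i)) ∧
      (∀ j, n - 1 < j → IsIso (homologyMap α' j)) ∧ Epi (homologyMap α' (n - 1)) := by
  haveI : HasHomotopyCofiber σ := ⟨fun i j _ => inferInstance⟩
  let Cn := homotopyCofiber σ
  let α₁ : Cn ⟶ F := homotopyCofiber.desc σ α h
  let ι : E ⟶ Cn := homotopyCofiber.inr σ
  have hια : ι ≫ α₁ = α := homotopyCofiber.inr_desc σ α h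
  have hσι : homologyMap σ n ≫ homologyMap ι n = 0 := by
    rw [← homologyMap_comp, (homotopyCofiber.inrCompHomotopy σ (fun j => ⟨j - 1, by simp⟩)).homologyMap_eq n,
      homologyMap_zero]
  have hι : ∀ j, n ≤ j → IsIso (ι.f j) := fun j hj => isIso_inr σ j (hSg _ (by omega))
  haveI hιn : Epi (homologyMap ι n) :=
    epi_homologyMap_of_window ι n (hι n le_rfl) (by haveI := hι (n + 1) (by omega); infer_instance)
  have h1 : ∀ j, n ≤ j → IsIso (homologyMap α₁ j) := by
    intro j hj
    rcases hj.eq_or_lt with rfl | hj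
    · obtain ⟨w, hw⟩ := hex
      haveI : Epi (homologyMap ι n ≫ homologyMap α₁ n) := by rw [← homologyMap_comp, hια]; exact hαn
      haveI : Epi (homologyMap α₁ n) := epi_of_epi (homologyMap ι n) _
      haveI : Mono (homologyMap α₁ n) := by
        haveI : Epi (ShortComplex.mk _ _ w).g := hαn
        let d := hw.desc (homologyMap ι n) hσι
        have hd : homologyMap α n ≫ d = homologyMap ι n := hw.g_desc _ _
        haveI : Epi (homologyMap α n) := hαn
        have hd' : d ≫ homologyMap α₁ n = 𝟙 _ := by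
          rw [← cancel_epi (homologyMap α n), reassoc_of% hd, ← homologyMap_comp, hια, Category.comp_id]
        haveI : Epi d := by
          haveI : Epi (homologyMap α n ≫ d) := by rw [hd]; exact hιn
          exact epi_of_epi (homologyMap α n) d
        haveI : IsSplitMono d := IsSplitMono.mk' ⟨_, hd'⟩
        haveI : IsIso d := isIso_of_epi_of_isSplitMono d
        rw [← IsIso.inv_eq_of_hom_inv_id hd']
        infer_instance
      exact isIso_of_mono_of_epi _
    · haveI := isIso_homologyMap_of_window ι j (by haveI := hι (j - 1) (by omega); infer_instance)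
        (hι j (by omega)) (by haveI := hι (j + 1) (by omega); infer_instance)
      haveI : IsIso (homologyMap ι j ≫ homologyMap α₁ j) := by rw [← homologyMap_comp, hια]; exact hα j hj
      exact IsIso.of_isIso_comp_left (homologyMap ι j) _
  refine ⟨Cn ⊞ Sg', biprod.desc α₁ ζ, fun i => ?_, fun i hi => ?_, fun i hi => ?_, fun j hj => ?_, ?_⟩
  · refine hPiso ⟨(biprodXIso Cn Sg' i).symm⟩ (hPsum ?_ (hPS' i))
    exact hPiso ⟨(homotopyCofiber.XIsoBiprod σ i (i + 1) (by simp)).symm⟩ (hPsum (hPS _) (hPE _))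
  · refine IsZero.of_iso ?_ (biprodXIso Cn Sg' i)
    rw [biprod_isZero_iff]
    refine ⟨IsZero.of_iso ?_ (homotopyCofiber.XIsoBiprod σ i (i + 1) (by simp)), hSg' i (by omega)⟩
    rw [biprod_isZero_iff]
    exact ⟨hSg _ (by omega), hlow _ (by omega)⟩
  · refine IsZero.of_iso ?_ (biprodXIso Cn Sg' i)
    rw [biprod_isZero_iff]
    refine ⟨IsZero.of_iso ?_ (homotopyCofiber.XIsoBiprod σ i (i + 1) (by simp)), hSg' i (by omega)⟩
    rw [biprod_isZero_iff]
    exact ⟨hSg _ (by omega), hb _ (Or.inr (by omega))⟩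
  · haveI := h1 j (by omega)
    have hz : IsZero (Sg'.homology j) := isZero_homology (hSg' j (by omega))
    haveI : IsIso (homologyMap (biprod.inl : Cn ⟶ Cn ⊞ Sg') j) := by
      refine ⟨homologyMap (biprod.fst : Cn ⊞ Sg' ⟶ Cn) j, by rw [← homologyMap_comp, biprod.inl_fst, homologyMap_id], ?_⟩
      have e := congrArg (fun g => homologyMap g j) (biprod.total (X := Cn) (Y := Sg'))
      simp only [homologyMap_add, homologyMap_comp, homologyMap_id] at e
      rw [hz.eq_of_src (homologyMap (biprod.inr : Sg' ⟶ Cn ⊞ Sg') j) 0, comp_zero, add_zero] at e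
      exact e
    haveI : IsIso (homologyMap (biprod.inl : Cn ⟶ Cn ⊞ Sg') j ≫ homologyMap (biprod.desc α₁ ζ) j) := by
      rw [← homologyMap_comp, biprod.inl_desc]; infer_instance
    exact IsIso.of_isIso_comp_left (homologyMap (biprod.inl : Cn ⟶ Cn ⊞ Sg') j) _
  · haveI : Epi (homologyMap (biprod.inr : Sg' ⟶ Cn ⊞ Sg') (n - 1) ≫ homologyMap (biprod.desc α₁ ζ) (n - 1)) := by
      rw [← homologyMap_comp, biprod.inr_desc]; exact hepi
    exact epi_of_epi (homologyMap (biprod.inr : Sg' ⟶ Cn ⊞ Sg') (n - 1)) _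

/-- a homotopy to zero from a complex concentrated in one degree -/
theorem nonempty_homotopy {Sg F : CochainComplex C ℤ} (φ : Sg ⟶ F) (n : ℤ)
    (hSg : ∀ i, i ≠ n → IsZero (Sg.X i)) (k : Sg.X n ⟶ F.X (n - 1)) (hk : k ≫ F.d (n - 1) n = φ.f n) :
    Nonempty (Homotopy φ 0) := by
  refine ⟨{ hom := fun i j => if e : i = n ∧ j = n - 1 then (Sg.XIsoOfEq e.1).hom ≫ k ≫ (F.XIsoOfEq e.2.symm).hom else 0
            zero := fun i j hij => dif_neg ?_
            comm := fun i => ?_ }⟩
  · rintro ⟨rfl, rfl⟩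
    exact hij (by simp)
  · by_cases hi : i = n
    · subst hi
      rw [dNext_eq _ (show (ComplexShape.up ℤ).Rel i (i + 1) by simp),
        prevD_eq _ (show (ComplexShape.up ℤ).Rel (i - 1) i by simp),
        (hSg (i + 1) (by omega)).eq_of_tgt (Sg.d i (i + 1)) 0, zero_comp, zero_add, dif_pos ⟨rfl, rfl⟩]
      simp [hk]
    · exact (hSg i hi).eq_of_src _ _

section functor

variable {D : Type w'} [Category.{v'} D] [Abelian D] (Φ : C ⥤ D) [Φ.Additive] [Φ.PreservesHomology]

/-- homology of the image of a map of complexes -/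
theorem homologyMap_map {K L : CochainComplex C ℤ} (f : K ⟶ L) (i : ℤ) :
    homologyMap ((Φ.mapHomologicalComplex (ComplexShape.up ℤ)).map f) i ≫ ((L.sc i).mapHomologyIso Φ).hom =
      ((K.sc i).mapHomologyIso Φ).hom ≫ Φ.map (homologyMap f i) :=
  ShortComplex.mapHomologyIso_hom_naturality ((shortComplexFunctor C (ComplexShape.up ℤ) i).map f) Φ

theorem isIso_map {K L : CochainComplex C ℤ} (f : K ⟶ L) (i : ℤ) (h : IsIso (homologyMap f i)) :
    IsIso (homologyMap ((Φ.mapHomologicalComplex (ComplexShape.up ℤ)).map f) i) := by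
  rw [(Iso.eq_comp_inv _).2 (homologyMap_map Φ f i)]
  infer_instance

theorem epi_map [PreservesFiniteColimits Φ] {K L : CochainComplex C ℤ} (f : K ⟶ L) (i : ℤ)
    (h : Epi (homologyMap f i)) :
    Epi (homologyMap ((Φ.mapHomologicalComplex (ComplexShape.up ℤ)).map f) i) := by
  rw [(Iso.eq_comp_inv _).2 (homologyMap_map Φ f i)]
  infer_instance

theorem exact_map {K L M : CochainComplex C ℤ} (f : K ⟶ L) (g : L ⟶ M) (i : ℤ)
    (h : ∃ w : homologyMap f i ≫ homologyMap g i = 0, (ShortComplex.mk _ _ w).Exact) :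
    ∃ w : homologyMap ((Φ.mapHomologicalComplex (ComplexShape.up ℤ)).map f) i ≫
        homologyMap ((Φ.mapHomologicalComplex (ComplexShape.up ℤ)).map g) i = 0,
      (ShortComplex.mk _ _ w).Exact := by
  obtain ⟨w, hw⟩ := h
  have h1 := homologyMap_map Φ f i
  have h2 := homologyMap_map Φ g i
  have w' : homologyMap ((Φ.mapHomologicalComplex (ComplexShape.up ℤ)).map f) i ≫
      homologyMap ((Φ.mapHomologicalComplex (ComplexShape.up ℤ)).map g) i = 0 := by
    rw [← cancel_mono ((M.sc i).mapHomologyIso Φ).hom, Category.assoc, h2, reassoc_of% h1, ← Φ.map_comp, w,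
      Φ.map_zero, comp_zero, zero_comp]
  refine ⟨w', ?_⟩
  refine (ShortComplex.exact_iff_of_iso ?_).2 (hw.map Φ)
  exact ShortComplex.isoMk ((K.sc i).mapHomologyIso Φ) ((L.sc i).mapHomologyIso Φ)
    ((M.sc i).mapHomologyIso Φ) h1.symm h2.symm

theorem homologyπ_map (S : ShortComplex C) :
    (S.map Φ).homologyπ ≫ (S.mapHomologyIso Φ).hom = (S.mapCyclesIso Φ).hom ≫ Φ.map S.homologyπ := by
  let hl := S.leftHomologyData
  rw [hl.mapHomologyIso_eq Φ, hl.mapCyclesIso_eq Φ]
  simp only [Iso.trans_hom, Functor.mapIso_hom, Iso.symm_hom, Category.assoc, ← Φ.map_comp,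
    ShortComplex.LeftHomologyData.homologyπ_comp_homologyIso_hom_assoc]
  congr 1
  show Φ.map hl.π ≫ Φ.map hl.homologyIso.inv = _
  rw [← Φ.map_comp, hl.π_comp_homologyIso_inv]

/-- lifts of generators of homology to cycles of the image give a map with surjective homology -/
theorem exists_epi_single {K : CochainComplex C ℤ} (n : ℤ) {G : D} (ψ : G ⟶ Φ.obj (K.cycles n))
    (h : Epi (ψ ≫ Φ.map (K.homologyπ n))) :
    ∃ ζ : (HomologicalComplex.single D (ComplexShape.up ℤ) n).obj G ⟶
        (Φ.mapHomologicalComplex (ComplexShape.up ℤ)).obj K, Epi (homologyMap ζ n) := by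
  let K' := (Φ.mapHomologicalComplex (ComplexShape.up ℤ)).obj K
  let z : G ⟶ K'.X n := ψ ≫ Φ.map (K.iCycles n)
  have hz : ∀ k, (ComplexShape.up ℤ).Rel n k → z ≫ K'.d n k = 0 := fun k _ => by
    show (ψ ≫ Φ.map (K.iCycles n)) ≫ Φ.map (K.d n k) = 0
    rw [Category.assoc, ← Φ.map_comp, iCycles_d, Φ.map_zero, comp_zero]
  let ζ := mkHomFromSingle z hz
  refine ⟨ζ, ?_⟩
  let e : K'.cycles n ≅ Φ.obj (K.cycles n) := (K.sc n).mapCyclesIso Φ
  have hl : K'.liftCycles z _ rfl (hz _ (by simp)) = ψ ≫ e.inv := by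
    rw [← cancel_mono (K'.iCycles n), liftCycles_i, Category.assoc,
      show e.inv ≫ K'.iCycles n = Φ.map (K.iCycles n) from by
        rw [Iso.inv_comp_eq]; exact ((K.sc n).mapCyclesIso_hom_iCycles Φ).symm]
  have hc : (singleObjCyclesSelfIso (ComplexShape.up ℤ) n G).inv ≫ cyclesMap ζ n = ψ ≫ e.inv := by
    rw [← hl, ← cancel_mono (K'.iCycles n), liftCycles_i, Category.assoc, cyclesMap_i,
      singleObjCyclesSelfIso_inv_iCycles_assoc]
    simp [ζ]
  have key : (singleObjCyclesSelfIso (ComplexShape.up ℤ) n G).inv ≫ homologyπ _ n ≫ homologyMap ζ n ≫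
      ((K.sc n).mapHomologyIso Φ).hom = ψ ≫ Φ.map (K.homologyπ n) := by
    have hp : K'.homologyπ n ≫ ((K.sc n).mapHomologyIso Φ).hom = e.hom ≫ Φ.map (K.homologyπ n) :=
      homologyπ_map Φ (K.sc n)
    rw [homologyπ_naturality_assoc, reassoc_of% hc, hp, e.inv_hom_id_assoc]
  haveI : Epi ((singleObjCyclesSelfIso (ComplexShape.up ℤ) n G).inv ≫ homologyπ _ n ≫ homologyMap ζ n ≫
      ((K.sc n).mapHomologyIso Φ).hom) := by rw [key]; exact h
  haveI : Epi (homologyMap ζ n ≫ ((K.sc n).mapHomologyIso Φ).hom) := by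
    have := epi_of_epi (singleObjCyclesSelfIso (ComplexShape.up ℤ) n G).inv
      (homologyπ _ n ≫ homologyMap ζ n ≫ ((K.sc n).mapHomologyIso Φ).hom)
    exact epi_of_epi (homologyπ _ n) _
  have e2 : homologyMap ζ n = (homologyMap ζ n ≫ ((K.sc n).mapHomologyIso Φ).hom) ≫
      ((K.sc n).mapHomologyIso Φ).inv := by simp
  rw [e2]
  infer_instance

end functor

end Groth.Agent.AlgSpLib.PscStep
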