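import Groth.Agent.AlgSpLib.DecentTop
import Groth.Agent.AlgSpLib.DecentPoints
import Groth.Agent.AlgSpLib.FlatAt

/-!
The space of proper generizations of a point of a decent locally Noetherian space.
-/

universe u

open CategoryTheory CategoryTheory.Limits AlgebraicGeometry TopologicalSpace Topology
open AlgSp

noncomputable section

namespace Groth.Agent.AlgSpLib

set_option backward.isDefEq.respectTransparency.types false

/-- between a prime and the maximal ideal of a Noetherian local ring there are primes avoiding a given element -/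
theorem exists_prime_between_notMem {R : Type u} [CommRing R] [IsNoetherianRing R] [IsLocalRing R]
    {p q : PrimeSpectrum R} {f : R}
    (hpq : p < q) (hq : q < IsLocalRing.closedPoint R) (hf : f ∉ p.asIdeal) :
    ∃ Q : PrimeSpectrum R, p < Q ∧ Q ≠ IsLocalRing.closedPoint R ∧ f ∉ Q.asIdeal := by
  classical
  let A := R ⧸ p.asIdeal
  let π : R →+* A := Ideal.Quotient.mk p.asIdeal
  have : IsLocalRing A := IsLocalRing.of_surjective' π Ideal.Quotient.mk_surjective
  have hmax : (IsLocalRing.maximalIdeal A).comap π = IsLocalRing.maximalIdeal R :=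
    IsLocalRing.eq_maximalIdeal (Ideal.comap_isMaximal_of_surjective π Ideal.Quotient.mk_surjective)
  have hf0 : π f ≠ 0 := fun h => hf (Ideal.Quotient.eq_zero_iff_mem.1 h)
  let q₀ : Ideal A := q.asIdeal.map π
  have hker : RingHom.ker π ≤ q.asIdeal := by rw [Ideal.mk_ker]; exact hpq.le
  have : q₀.IsPrime := Ideal.map_isPrime_of_surjective Ideal.Quotient.mk_surjective hker
  have hq₀c : q₀.comap π = q.asIdeal :=
    (Ideal.comap_map_of_surjective' π Ideal.Quotient.mk_surjective _).trans (sup_eq_left.2 hker)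
  have hq₀b : q₀ ≠ ⊥ := fun h => hpq.ne (PrimeSpectrum.ext (by
    rw [← hq₀c, h, ← RingHom.ker_eq_comap_bot, Ideal.mk_ker]))
  have hq₀m : q₀ < IsLocalRing.maximalIdeal A := by
    refine lt_of_le_of_ne (IsLocalRing.le_maximalIdeal this.ne_top) fun h => hq.ne (PrimeSpectrum.ext ?_)
    rw [← hq₀c, h, hmax]; rfl
  have hne2 : ¬ (2 : ℕ∞) ≤ 1 := by decide
  have hht : ¬ (IsLocalRing.maximalIdeal A).height ≤ 1 := fun h => hne2 (by
    have h0 := Ideal.height_add_one_le_of_lt_of_isPrime (bot_lt_iff_ne_bot.2 hq₀b)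
    have h1 := Ideal.height_add_one_le_of_lt_of_isPrime hq₀m
    rw [Ideal.height_bot, zero_add] at h0
    calc (2 : ℕ∞) = 1 + 1 := by norm_num
      _ ≤ q₀.height + 1 := by gcongr
      _ ≤ 1 := h1.trans h)
  let s := (Ideal.span {π f}).minimalPrimes
  have hsfin : s.Finite := Ideal.finite_minimalPrimes_of_isNoetherianRing A _
  have hms : IsLocalRing.maximalIdeal A ∉ s := fun h =>
    hht (Ideal.height_le_one_of_isPrincipal_of_mem_minimalPrimes _ _ h)
  have hsp : ∀ I ∈ s, I.IsPrime := fun I h => h.1.1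
  have hcov : ¬ (IsLocalRing.maximalIdeal A : Set A) ⊆ ⋃ I ∈ insert ⊥ s, (I : Set A) := by
    rw [Ideal.subset_iUnion_iff_mem_of_isMaximal_of_finite (hsfin.insert ⊥) ⊥ ⊥
      (fun I h h' _ => hsp I ((Set.mem_insert_iff.1 h).resolve_left h')) bot_ne_top bot_ne_top]
    rintro (h | h)
    · exact (bot_le.trans_lt hq₀m).ne' h
    · exact hms h
  obtain ⟨g, hgm, hg⟩ := Set.not_subset.1 hcov
  simp only [Set.mem_iUnion, not_exists] at hg
  have hg0 : g ≠ 0 := fun h => hg ⊥ (Set.mem_insert _ _) (h ▸ zero_mem _)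
  have hgle : Ideal.span {g} ≤ IsLocalRing.maximalIdeal A := (Ideal.span_singleton_le_iff_mem _).2 hgm
  obtain ⟨Q, hQ, -⟩ := Ideal.exists_minimalPrimes_le hgle
  have := hQ.1.1
  have hQh := Ideal.height_le_one_of_isPrincipal_of_mem_minimalPrimes _ _ hQ
  have hgQ : g ∈ Q := hQ.1.2 (Ideal.mem_span_singleton_self g)
  have hQ0 : Q ≠ ⊥ := fun h => hg0 (by simpa [h] using hgQ)
  have hfQ : π f ∉ Q := fun h => by
    obtain ⟨P, hP, hPQ⟩ := Ideal.exists_minimalPrimes_le ((Ideal.span_singleton_le_iff_mem _).2 h)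
    have := hsp P hP
    have hP0 : P ≠ ⊥ := fun h' => hf0 (by simpa [h'] using hP.1.2 (Ideal.mem_span_singleton_self (π f)))
    rcases hPQ.lt_or_eq with hlt | rfl
    · refine hne2 ?_
      have h0 := Ideal.height_add_one_le_of_lt_of_isPrime (bot_lt_iff_ne_bot.2 hP0)
      have h1 := Ideal.height_add_one_le_of_lt_of_isPrime hlt
      rw [Ideal.height_bot, zero_add] at h0
      calc (2 : ℕ∞) = 1 + 1 := by norm_num
        _ ≤ P.height + 1 := by gcongr
        _ ≤ 1 := h1.trans hQh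
    · exact hg P (Set.mem_insert_of_mem _ hP) hgQ
  refine ⟨⟨Q.comap π, inferInstance⟩, lt_of_le_of_ne ?_ ?_, ?_, hfQ⟩
  · show p.asIdeal ≤ Q.comap π
    intro r hr
    rw [Ideal.mem_comap, show π r = 0 from Ideal.Quotient.eq_zero_iff_mem.2 hr]
    exact zero_mem _
  · intro h
    apply hQ0
    have h' : p.asIdeal = Q.comap π := congrArg PrimeSpectrum.asIdeal h
    rw [← Ideal.map_comap_of_surjective π Ideal.Quotient.mk_surjective Q, ← h']
    exact Ideal.map_quotient_self _
  · intro h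
    have h' : Q.comap π = IsLocalRing.maximalIdeal R := congrArg PrimeSpectrum.asIdeal h
    rw [← hmax] at h'
    exact hht ((Ideal.comap_injective_of_surjective π Ideal.Quotient.mk_surjective h') ▸ hQh)

/-- a Noetherian T0 space has a singleton in every nonempty locally closed set -/
theorem exists_isLocallyClosed_singleton {W : Type*} [TopologicalSpace W] [NoetherianSpace W] [T0Space W]
    {L : Set W} (hL : IsLocallyClosed L) (hne : L.Nonempty) :
    ∃ z ∈ L, IsLocallyClosed ({z} : Set W) := by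
  obtain ⟨O, C, hO, hC, rfl⟩ := hL
  obtain ⟨C', ⟨hC', hC'O⟩, hmin⟩ := wellFounded_lt.has_min
    {D : Closeds W | (D : Set W) ⊆ C ∧ ((D : Set W) ∩ O).Nonempty}
    ⟨⟨C, hC⟩, subset_rfl, by obtain ⟨z, h1, h2⟩ := hne; exact ⟨z, h2, h1⟩⟩
  obtain ⟨z, hzC, hzO⟩ := hC'O
  have hcl : ∀ y ∈ (C' : Set W) ∩ O, closure {y} = (C' : Set W) := fun y hy => by
    have hsub : closure {y} ⊆ (C' : Set W) := closure_minimal (Set.singleton_subset_iff.2 hy.1) C'.isClosed
    refine hsub.antisymm ?_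
    by_contra hne'
    refine hmin ⟨closure {y}, isClosed_closure⟩ ⟨hsub.trans hC', y, subset_closure rfl, hy.2⟩ ?_
    exact lt_of_le_of_ne hsub fun e => hne' (congrArg (fun D : Closeds W => (D : Set W)) e).ge
  refine ⟨z, ⟨hzO, hC' hzC⟩, O, C', hO, C'.isClosed, ?_⟩
  refine Set.eq_of_subset_of_subset (Set.singleton_subset_iff.2 ⟨hzO, hzC⟩) ?_
  rintro y ⟨hyO, hyC⟩
  exact inseparable_iff_closure_eq.2 ((hcl y ⟨hyC, hyO⟩).trans (hcl z ⟨hzC, hzO⟩).symm) |>.eq

/-- Jacobson criterion for Noetherian T0 spaces -/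
theorem jacobsonSpace_of_noetherian {W : Type*} [TopologicalSpace W] [NoetherianSpace W] [T0Space W]
    (h : ∀ z : W, IsLocallyClosed ({z} : Set W) → IsClosed ({z} : Set W)) : JacobsonSpace W :=
  jacobsonSpace_iff_locallyClosed.2 fun L hne hL => by
    obtain ⟨z, hz, hzl⟩ := exists_isLocallyClosed_singleton hL hne
    exact ⟨z, hz, h z hzl⟩

/-- continuous images of Noetherian sober spaces -/
theorem quasiSober_of_surjective {α β : Type*} [TopologicalSpace α] [TopologicalSpace β]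
    [NoetherianSpace α] [QuasiSober α] {f : α → β} (hf : Continuous f) (hs : Function.Surjective f) :
    QuasiSober β := by
  refine ⟨fun {Z} hZi hZc => ?_⟩
  obtain ⟨S, hSfin, hSclosed, hSirr, hSun⟩ :=
    NoetherianSpace.exists_finite_set_isClosed_irreducible (hZc.preimage hf)
  choose η hη using fun s : S => QuasiSober.sober (hSirr s.1 s.2) (hSclosed s.1 s.2)
  have := hSfin.to_subtype
  have := Fintype.ofFinite S
  have hsub : Z ⊆ ⋃ s : S, closure {f (η s)} := fun z hz => by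
    obtain ⟨a, rfl⟩ := hs z
    have : a ∈ ⋃₀ S := hSun ▸ hz
    obtain ⟨s, hsS, has⟩ := this
    refine Set.mem_iUnion.2 ⟨⟨s, hsS⟩, ?_⟩
    exact ((hη ⟨s, hsS⟩).specializes has).map hf |>.mem_closure
  obtain ⟨s, hsz⟩ : ∃ s : S, Z ⊆ closure {f (η s)} := by
    classical
    obtain ⟨t, ht, hZt⟩ := isIrreducible_iff_sUnion_isClosed.1 hZi
      (Finset.univ.image fun s : S => closure {f (η s)})
      (by rintro z hz; obtain ⟨s, -, rfl⟩ := Finset.mem_image.1 hz; exact isClosed_closure)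
      (by simpa [Set.sUnion_image] using hsub)
    obtain ⟨s, -, rfl⟩ := Finset.mem_image.1 ht
    exact ⟨s, hZt⟩
  refine ⟨f (η s), ?_⟩
  have hmem : f (η s) ∈ Z := by
    have : η s ∈ s.1 := (hη s).mem
    exact (hSun ▸ Set.mem_sUnion_of_mem this s.2 : η s ∈ f ⁻¹' Z)
  exact (closure_minimal (Set.singleton_subset_iff.2 hmem) hZc).antisymm hsz

variable {S : Scheme.{u}} {X : Sp S}

theorem punctured_generizations (hX : IsAlgSpace X) (hd : IsDecent X) (hN : IsLocNoethSp X) (x : Points X) :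
    NoetherianSpace {x' : Points X // x' ⤳ x ∧ x' ≠ x} ∧
      SpectralSpace {x' : Points X // x' ⤳ x ∧ x' ≠ x} ∧
      QuasiSober {x' : Points X // x' ⤳ x ∧ x' ≠ x} ∧
      JacobsonSpace {x' : Points X // x' ⤳ x ∧ x' ≠ x} := by
  have := t0Space_points hX hd
  obtain ⟨U, a, hae, has⟩ := hX.atlas
  have : IsLocallyNoetherian U.left := isLocallyNoetherian_of_chart hX hN a hae
  obtain ⟨u, hu⟩ := surjective_ofPt a has x
  let R := U.left.presheaf.stalk u
  let φ : PrimeSpectrum R → U.left := fun c => U.left.fromSpecStalk u c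
  have hφe : IsEmbedding φ := (U.left.fromSpecStalk u).isEmbedding
  have hφc : φ (IsLocalRing.closedPoint R) = u := U.left.fromSpecStalk_closedPoint
  have hφr : ∀ v, v ⤳ u → ∃ c, φ c = v := fun v hv => by
    have : v ∈ Set.range (U.left.fromSpecStalk u) := by rw [Scheme.range_fromSpecStalk]; exact hv
    exact this
  have hφs : ∀ c, φ c ⤳ u := fun c => by
    have : φ c ∈ Set.range (U.left.fromSpecStalk u) := ⟨c, rfl⟩
    rwa [Scheme.range_fromSpecStalk] at this
  have hle : ∀ c d : PrimeSpectrum R, φ c ⤳ φ d ↔ c ≤ d := fun c d =>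
    hφe.isInducing.specializes_iff.trans (PrimeSpectrum.le_iff_specializes c d).symm
  have hinj : ∀ v v' : U.left, Points.ofPt a v = Points.ofPt a v' → v' ⤳ v → v = v' :=
    fun v v' => eq_of_specializes_of_locNoeth hN a hae v v'
  have hne : ∀ c, c ≠ IsLocalRing.closedPoint R → Points.ofPt a (φ c) ≠ x := fun c hc e => by
    apply hc
    refine hφe.injective ?_
    rw [hφc]
    exact (hinj u (φ c) (hu.trans e.symm) (hφs c)).symm
  let G := ({IsLocalRing.closedPoint R}ᶜ : Set (PrimeSpectrum R))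
  let π : G → {x' : Points X // x' ⤳ x ∧ x' ≠ x} := fun c =>
    ⟨Points.ofPt a (φ c.1), hu ▸ (hφs c.1).map (Points.continuous_ofPt a), hne c.1 c.2⟩
  have hπc : Continuous π := by
    refine Continuous.subtype_mk ?_ _
    exact (Points.continuous_ofPt a).comp ((hφe.continuous).comp continuous_subtype_val)
  have hlift : ∀ (y : Points X) (v : U.left), y ⤳ Points.ofPt a v → ∃ w, w ⤳ v ∧ Points.ofPt a w = y :=
    fun y v h => exists_specializes_chart (FiniteFibres.of_mk (hd y)).1 a hae v h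
  have hπs : Function.Surjective π := fun y => by
    obtain ⟨w, hw, hwy⟩ := hlift y.1 u (hu.symm ▸ y.2.1)
    obtain ⟨c, rfl⟩ := hφr w hw
    refine ⟨⟨c, fun e => y.2.2 ?_⟩, Subtype.ext hwy⟩
    rw [← hwy, show c = IsLocalRing.closedPoint R from e, hφc, hu]
  have : NoetherianSpace G := inferInstance
  have hGo : IsOpen G := (IsLocalRing.isClosed_singleton_closedPoint R).isOpen_compl
  have : QuasiSober G := hGo.isOpenEmbedding_subtypeVal.quasiSober
  have hNW : NoetherianSpace {x' : Points X // x' ⤳ x ∧ x' ≠ x} :=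
    noetherianSpace_of_surjective π hπc hπs
  have hQW : QuasiSober {x' : Points X // x' ⤳ x ∧ x' ≠ x} := quasiSober_of_surjective hπc hπs
  have : QuasiSeparatedSpace {x' : Points X // x' ⤳ x ∧ x' ≠ x} :=
    ⟨fun _ _ _ _ _ _ => NoetherianSpace.isCompact _⟩
  refine ⟨hNW, {}, hQW, jacobsonSpace_of_noetherian fun z hz => ?_⟩
  refine closure_subset_iff_isClosed.1 fun y hy => ?_
  by_contra hyz
  have hzy : z ⤳ y := specializes_iff_mem_closure.2 hy
  obtain ⟨⟨d, hd'⟩, rfl⟩ := hπs y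
  obtain ⟨w, hw, hwz⟩ := hlift z.1 (φ d) (hzy.map continuous_subtype_val)
  obtain ⟨c, rfl⟩ := hφr w (hw.trans (hφs d))
  have hcd : c < d := lt_of_le_of_ne ((hle c d).1 hw) (by
    rintro rfl
    exact hyz (Subtype.ext hwz))
  have hdm : d < IsLocalRing.closedPoint R :=
    lt_of_le_of_ne (IsLocalRing.le_maximalIdeal d.isPrime.ne_top) hd'
  have hc : c ≠ IsLocalRing.closedPoint R := (hcd.trans hdm).ne
  have hcz : π ⟨c, hc⟩ = z := Subtype.ext hwz
  obtain ⟨O, C, hO, hC, hzOC⟩ := hz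
  have hzmem : z ∈ O ∩ C := hzOC ▸ rfl
  obtain ⟨O', hO', hO'e⟩ := IsInducing.subtypeVal.isOpen_iff.1 (hO.preimage hπc)
  have hcO : c ∈ O' := by
    have : (⟨c, hc⟩ : G) ∈ π ⁻¹' O := by rw [Set.mem_preimage, hcz]; exact hzmem.1
    rwa [← hO'e] at this
  obtain ⟨D, ⟨f, rfl⟩, hcf, hDO⟩ :=
    PrimeSpectrum.isTopologicalBasis_basic_opens.exists_subset_of_mem_open hcO hO'
  obtain ⟨Q, hcQ, hQm, hfQ⟩ := exists_prime_between_notMem (R := R) hcd hdm
    (show f ∉ c.asIdeal from hcf)
  have hQO : π ⟨Q, hQm⟩ ∈ O := by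
    have : (⟨Q, hQm⟩ : G) ∈ Subtype.val ⁻¹' O' := hDO hfQ
    rwa [hO'e] at this
  have hzQ : z ⤳ π ⟨Q, hQm⟩ :=
    hcz ▸ ((subtype_specializes_iff _ _).2 ((PrimeSpectrum.le_iff_specializes c Q).1 hcQ.le)).map hπc
  have : π ⟨Q, hQm⟩ ∈ ({z} : Set _) := by
    rw [hzOC]
    exact ⟨hQO, hzQ.mem_closed hC hzmem.2⟩
  have e : Points.ofPt a (φ Q) = Points.ofPt a (φ c) := (congrArg Subtype.val this).trans hwz.symm
  exact hcQ.ne (hφe.injective (hinj (φ Q) (φ c) e ((hle c Q).2 hcQ.le)).symm)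

end Groth.Agent.AlgSpLib
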