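import Groth.Agent.AlgSpLib.PushEtStalk
import Groth.Agent.Et18.FinitePush
import Mathlib.Algebra.Homology.ShortComplex.ExactFunctor

/-!
Direct images on small etale sites along integral morphisms of spaces are exact.
-/

set_option autoImplicit false

universe u

open CategoryTheory CategoryTheory.Limits AlgebraicGeometry Opposite
open AlgSp

noncomputable section

namespace Groth.Agent.AlgSpLib.PushEtExact

set_option backward.isDefEq.respectTransparency.types false
set_option backward.isDefEq.respectTransparency false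

open Groth.Agent.Stk19b

variable {S : Scheme.{u}} {X Y : Sp S}

/-- an open piece of an object of the small etale site -/
abbrev piece (P : EtOver X) (W : P.obj.left.left.Opens) : EtOver X :=
  (EtOver.ofChart P.obj.hom P.property).obj (Scheme.Etale.mk W.ι)

/-- the inclusion of an open piece -/
abbrev pieceHom (P : EtOver X) (W : P.obj.left.left.Opens) : piece P W ⟶ P :=
  EtOver.homMk (EtOver.homOfEtale (Scheme.Etale.mk W.ι)) rfl

theorem pieceHom_left (P : EtOver X) (W : P.obj.left.left.Opens) : (pieceHom P W).hom.left.left = W.ι := rfl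

theorem subsingleton_of_isEmpty {F : (EtOver X)ᵒᵖ ⥤ Type (u + 1)} (hF : Presieve.IsSheaf (etTop X) F)
    (Z : EtOver X) (h : IsEmpty ↥Z.obj.left.left) : Subsingleton (F.obj (op Z)) := by
  have hb : (⊥ : Sieve Z) ∈ etTop X Z := StalkPoint.mem_etTop_of_forall _ fun e => isEmptyElim e
  exact ⟨fun a b => (hF _ hb).isSeparatedFor.ext fun _ _ hf => False.elim hf⟩

theorem isSheafFor_pieces {F : (EtOver X)ᵒᵖ ⥤ Type (u + 1)} (hF : Presieve.IsSheaf (etTop X) F)
    (P : EtOver X) {μ : Type u} (W : μ → P.obj.left.left.Opens) (hcov : (⨆ a, W a) = ⊤) :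
    (Presieve.ofArrows _ fun a => pieceHom P (W a)).IsSheafFor F := by
  rw [Presieve.isSheafFor_iff_generate]
  refine hF _ (ofArrows_mem_etTop _ _ fun x => ?_)
  obtain ⟨a, ha⟩ := TopologicalSpace.Opens.mem_iSup.mp (hcov ▸ TopologicalSpace.Opens.mem_top x)
  exact ⟨a, ⟨x, ha⟩, rfl⟩

/-- sections on disjoint open pieces glue -/
theorem exists_glue_pieces {F : (EtOver X)ᵒᵖ ⥤ Type (u + 1)} (hF : Presieve.IsSheaf (etTop X) F)
    (P : EtOver X) {μ : Type u} (W : μ → P.obj.left.left.Opens) (hdis : ∀ a b, a ≠ b → Disjoint (W a) (W b))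
    (hcov : (⨆ a, W a) = ⊤) (x : ∀ a, F.obj (op (piece P (W a)))) :
    ∃ t : F.obj (op P), ∀ a, F.map (pieceHom P (W a)).op t = x a := by
  obtain ⟨t, ht, -⟩ := (Presieve.isSheafFor_arrows_iff _ _).mp
    (isSheafFor_pieces hF P W hcov) x (fun a b Z ga gb hab => by
      have h : ga.hom.left.left ≫ (W a).ι = gb.hom.left.left ≫ (W b).ι :=
        congrArg (fun k => k.hom.left.left) hab
      rcases eq_or_ne a b with rfl | hne
      · obtain rfl : ga = gb := EtOver.hom_ext _ _ (Over.OverMorphism.ext ((cancel_mono (W a).ι).mp h))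
        rfl
      · have : IsEmpty ↥Z.obj.left.left := ⟨fun z => by
          have h1 : (ga.hom.left.left z).1 = (gb.hom.left.left z).1 :=
            congrArg (fun k : Z.obj.left.left ⟶ P.obj.left.left => k z) h
          exact Set.disjoint_left.mp (TopologicalSpace.Opens.coe_disjoint.mpr (hdis a b hne)) (ga.hom.left.left z).2
            (h1 ▸ (gb.hom.left.left z).2)⟩
        exact (subsingleton_of_isEmpty hF Z this).elim _ _)
  exact ⟨t, ht⟩

/-- local surjectivity is kept by direct images along integral morphisms -/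
theorem imageSieve_mem {f : X ⟶ Y} (hi : RepWith @IsIntegralHom f) {F G : (EtOver X)ᵒᵖ ⥤ Type (u + 1)}
    (hF : Presieve.IsSheaf (etTop X) F) (hG : Presieve.IsSheaf (etTop X) G) (φ : F ⟶ G)
    [Presheaf.IsLocallySurjective (etTop X) φ] (V : EtOver Y) (s : G.obj (op ((EtOver.bc hi.1).obj V))) :
    Presheaf.imageSieve (Functor.whiskerLeft (EtOver.bc hi.1).op φ) s ∈ etTop Y V := by
  have hI : IsIntegralHom (hi.1.snd V.obj.hom).left := hi.property_snd _
  let iU : ((EtOver.bc hi.1).obj V).obj.left.left ⟶ V.obj.left.left := (hi.1.snd V.obj.hom).left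
  have : IsIntegralHom iU := hI
  obtain ⟨R', hR', hle⟩ := (Precoverage.mem_toGrothendieck_iff_of_isStableUnderComposition).1
    (Presheaf.imageSieve_mem (etTop X) φ (U := op ((EtOver.bc hi.1).obj V)) s)
  obtain ⟨J, U₀, b₀, rfl⟩ := Presieve.exists_eq_ofArrows R'
  have hcov := (ofArrows_mem_etPre_iff U₀ b₀).1 hR'
  choose idx w hw using hcov
  choose t₀ ht₀ using fun j => hle _ _ (Presieve.ofArrows.mk (f := b₀) j)
  let σ : ((EtOver.bc hi.1).obj V).obj.left.left ⟶ pullback iU (𝟙 V.obj.left.left) :=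
    pullback.lift (𝟙 _) iU (by simp)
  have hσ : σ ≫ pullback.fst iU (𝟙 V.obj.left.left) = 𝟙 _ := pullback.lift_fst _ _ _
  have : IsIso σ := by
    have : IsIso (σ ≫ pullback.fst iU (𝟙 V.obj.left.left)) := by rw [hσ]; infer_instance
    exact IsIso.of_isIso_comp_right σ (pullback.fst iU (𝟙 V.obj.left.left))
  let g := fun x => (b₀ (idx x)).hom.left.left ≫ σ
  have hg : ∀ x, Etale (g x) := fun x => by
    have : Etale (b₀ (idx x)).hom.left.left := EtOver.etale_left _
    exact inferInstanceAs (Etale ((b₀ (idx x)).hom.left.left ≫ σ))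
  obtain ⟨κ, V', v', hv', hsur, hsplit⟩ := Et18.propB_of_integral iU V.obj.left.left (𝟙 _) _
    (fun x => (U₀ (idx x)).obj.left.left) g hg fun z =>
    ⟨pullback.fst iU (𝟙 _) z, w (pullback.fst iU (𝟙 _) z), by
      change σ ((b₀ _).hom.left.left (w _)) = z
      rw [hw, ← Scheme.Hom.comp_apply, IsIso.eq_inv_of_hom_inv_id hσ, IsIso.inv_hom_id]
      rfl⟩
  refine StalkPoint.mem_etTop_of_forall _ fun y => ?_
  obtain ⟨j, y', hy'⟩ := hsur y
  have := hv' j
  let V₂ : EtOver Y := (EtOver.ofChart V.obj.hom V.property).obj (Scheme.Etale.mk (v' j ≫ 𝟙 _))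
  let a : V₂ ⟶ V := EtOver.homMk (EtOver.homOfEtale (Scheme.Etale.mk (v' j ≫ 𝟙 _))) rfl
  refine ⟨V₂, a, ?_, y', ?_⟩
  swap
  · show (v' j ≫ 𝟙 _) y' = y
    rw [Category.comp_id]
    exact hy'
  obtain ⟨μ, W, hdis, hcov, hfac⟩ := hsplit j
  choose i h hh using hfac
  let P := (EtOver.bc hi.1).obj V₂
  have sq : IsPullback (EtOver.bcMap hi.1 a).hom.left.left (hi.1.snd V₂.obj.hom).left iU (v' j ≫ 𝟙 _) :=
    EtOver.isPullback_bcMap_left hi.1 a
  let e : P.obj.left.left ⟶ pullback iU (v' j ≫ 𝟙 _) := sq.isoPullback.hom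
  let W' : μ → P.obj.left.left.Opens := fun k => e ⁻¹ᵁ W k
  have hcov' : (⨆ k, W' k) = ⊤ := by
    rw [← Scheme.Hom.preimage_iSup, hcov]
    rfl
  have he : e ≫ pullback.map iU (v' j ≫ 𝟙 _) iU (𝟙 _) (𝟙 _) (v' j) (𝟙 _) (by simp) (by simp) ≫
      pullback.fst iU (𝟙 _) = (EtOver.bcMap hi.1 a).hom.left.left := by
    exact (congrArg (e ≫ ·) ((pullback.lift_fst _ _ _).trans (Category.comp_id _))).trans sq.isoPullback_hom_fst
  let l : ∀ k, (piece P (W' k)).obj.left.left ⟶ (U₀ (idx (i k))).obj.left.left := fun k => (e ∣_ W k) ≫ h k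
  have hl : ∀ k, l k ≫ (b₀ (idx (i k))).hom.left.left = (W' k).ι ≫ (EtOver.bcMap hi.1 a).hom.left.left := fun k => by
    have h1 : h k ≫ (b₀ (idx (i k))).hom.left.left = (W k).ι ≫
        pullback.map iU (v' j ≫ 𝟙 _) iU (𝟙 _) (𝟙 _) (v' j) (𝟙 _) (by simp) (by simp) ≫ pullback.fst iU (𝟙 _) := by
      rw [← Category.assoc, ← hh k]
      simp only [g, Category.assoc, hσ, Category.comp_id]
    rw [← he]
    simp only [l, Category.assoc, h1]
    exact morphismRestrict_ι_assoc e (W k) _
  let c₀ : ∀ k, (piece P (W' k)).obj.left ⟶ (U₀ (idx (i k))).obj.left := fun k => Over.homMk (l k) (by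
    rw [← Over.w (b₀ (idx (i k))).hom.left, ← Category.assoc, hl, Category.assoc]
    exact congrArg ((W' k).ι ≫ ·) (Over.w (EtOver.bcMap hi.1 a).hom.left))
  have hc₀ : ∀ k, c₀ k ≫ (b₀ (idx (i k))).hom.left = (pieceHom P (W' k) ≫ EtOver.bcMap hi.1 a).hom.left := fun k =>
    Over.OverMorphism.ext (hl k)
  let c : ∀ k, piece P (W' k) ⟶ U₀ (idx (i k)) := fun k => EtOver.homMk (c₀ k) (by
    rw [← EtOver.w (b₀ (idx (i k))), ← Category.assoc, ← Functor.map_comp, hc₀]
    exact EtOver.w _)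
  have hc : ∀ k, c k ≫ b₀ (idx (i k)) = pieceHom P (W' k) ≫ (EtOver.bc hi.1).map a := fun k =>
    EtOver.hom_ext _ _ (hc₀ k)
  obtain ⟨t, ht⟩ := exists_glue_pieces hF P W'
    (fun k k' hk => TopologicalSpace.Opens.coe_disjoint.mp
      (Disjoint.preimage e (TopologicalSpace.Opens.coe_disjoint.mpr (hdis k k' hk)))) hcov'
    fun k => F.map (c k).op (t₀ (idx (i k)))
  refine ⟨t, (isSheafFor_pieces hG P W' hcov').isSeparatedFor.ext ?_⟩
  rintro Z - ⟨k⟩
  change G.map _ (φ.app _ t) = G.map _ (G.map ((EtOver.bc hi.1).map a).op s)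
  rw [← NatTrans.naturality_apply φ, ht, NatTrans.naturality_apply φ, ht₀]
  simp only [← Functor.map_comp_apply, ← op_comp, hc]

/-- direct image along an integral morphism preserves epimorphisms -/
theorem preservesEpimorphisms {f : X ⟶ Y} (hi : RepWith @IsIntegralHom f) :
    (pushEt hi.1 AddCommGrpCat.{u + 1}).PreservesEpimorphisms where
  preserves {F G} φ hφ := by
    have h1 : Sheaf.IsLocallySurjective φ := (Sheaf.isLocallySurjective_iff_epi' (φ := φ) ..).mpr hφ
    have h2 : ∀ (H : AbEt X), Presieve.IsSheaf (etTop X) (H.obj ⋙ forget AddCommGrpCat.{u + 1}) := fun H =>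
      (isSheaf_iff_isSheaf_of_type _ _).mp ((sheafCompose _ (forget AddCommGrpCat.{u + 1})).obj H).property
    have h3 : Presheaf.IsLocallySurjective (etTop X)
        (Functor.whiskerRight φ.hom (forget AddCommGrpCat.{u + 1})) :=
      (Presheaf.isLocallySurjective_iff_whisker_forget _ φ.hom).mp h1
    have : Sheaf.IsLocallySurjective ((pushEt hi.1 AddCommGrpCat.{u + 1}).map φ) :=
      ⟨fun {V} s => imageSieve_mem hi (h2 F) (h2 G)
        (Functor.whiskerRight φ.hom (forget AddCommGrpCat.{u + 1})) V s⟩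
    infer_instance

theorem preservesHomology {f : X ⟶ Y} (hi : RepWith @IsIntegralHom f) :
    (pushEt hi.1 AddCommGrpCat.{u + 1}).PreservesHomology :=
  haveI := preservesEpimorphisms hi
  haveI : (pushEt hi.1 AddCommGrpCat.{u + 1}).IsRightAdjoint := ⟨_, ⟨pullPushAdjEt hi.1 AddCommGrpCat.{u + 1}⟩⟩
  Functor.preservesHomology_of_preservesEpis_and_kernels _

end Groth.Agent.AlgSpLib.PushEtExact
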