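import Groth.Agent.AlgSpLib.PushEtStalk
import Mathlib.CategoryTheory.Adjunction.FullyFaithful

/-!
Full faithfulness of direct images on small etale sites along integral universally injective morphisms.
-/

set_option autoImplicit false

universe v' u' u

open CategoryTheory CategoryTheory.Limits AlgebraicGeometry Opposite
open AlgSp

noncomputable section

namespace Groth.Agent.AlgSpLib.PushEtStalk

set_option backward.isDefEq.respectTransparency.types false
set_option backward.isDefEq.respectTransparency false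

open Groth.Agent.Stk19b

variable {S : Scheme.{u}} {X Y : Sp S} {f : X ⟶ Y} {A : Type u'} [Category.{v'} A] [HasColimitsOfSize.{u, u} A]
  {FA : A → A → Type*} {CA : A → Type (u + 1)} [∀ P Q, FunLike (FA P Q) (CA P) (CA Q)]
  [cc : ConcreteCategory.{u + 1} A FA] [pfc : PreservesFilteredColimitsOfSize.{u, u} (forget A)]
  [hsc : (etTop X).HasSheafCompose (forget A)]
  (hX : IsAlgSpace X) (hY : IsAlgSpace Y) (hi : RepWith @IsIntegralHom f) (hu : RepWith @UniversallyInjective f)

/-- the germ of a section -/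
abbrev germ (F : EtSh X A) {p : FieldPt X} (hp : p.IsGeometric) {W : EtOver X} (x : (FieldPt.liftsTo p).obj W)
    (s : ToType (F.obj.obj (op W))) : ToType ((EtNbhd.point hX p hp).presheafFiber.obj F.obj) :=
  (EtNbhd.point hX p hp).toPresheafFiber W x F.obj s

/-- sections with the same germs are equal -/
theorem eq_of_germs (F : EtSh X A) {W : EtOver X} {s t : ToType (F.obj.obj (op W))}
    (h : ∀ (p : FieldPt X) (hp : p.IsGeometric) (x : (FieldPt.liftsTo p).obj W),
      germ hX F hp x s = germ hX F hp x t) : s = t := by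
  have hsep : Presieve.IsSeparated (etTop X) (F.obj ⋙ forget A) := by
    apply Presieve.IsSheaf.isSeparated
    rw [← isSheaf_iff_isSheaf_of_type]
    exact ((sheafCompose (etTop X) (forget A)).obj F).2
  refine (hsep _ (StalkPoint.mem_etTop_of_forall (Presheaf.equalizerSieve s t) fun e => ?_)).ext
    fun V g hg => hg
  obtain ⟨p, x, hp, hx, -⟩ := StalkPoint.exists_point_through W e
  obtain ⟨V, g, y, hy, hg⟩ := ((EtNbhd.point hX p hp).toPresheafFiber_eq_iff' W x s t).1 (h p hp x)
  exact ⟨V, g, hg, hx ▸ StalkPoint.range_of_map g hy⟩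

variable {F G : EtSh X A} (ψ : (pushEt hi.1 A).obj F ⟶ (pushEt hi.1 A).obj G)

/-- two sections correspond under a map of direct images -/
def Rel (W : EtOver X) (s : ToType (F.obj.obj (op W))) (t : ToType (G.obj.obj (op W))) : Prop :=
  ∀ (p : FieldPt X) (hp : p.IsGeometric) (x : (FieldPt.liftsTo p).obj W)
    (z : ToType ((EtNbhd.point hY (p.map f) hp).presheafFiber.obj ((pushEt hi.1 A).obj F).obj)),
    pushStalk hi.1 hX hY p hp F z = germ hX F hp x s →
      pushStalk hi.1 hX hY p hp G ((EtNbhd.point hY (p.map f) hp).presheafFiber.map ψ.hom z) = germ hX G hp x t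

omit [PreservesFilteredColimitsOfSize.{u, u} (forget A)] [(etTop X).HasSheafCompose (forget A)] in
theorem Rel.map {W W' : EtOver X} (k : W' ⟶ W) {s : ToType (F.obj.obj (op W))} {t : ToType (G.obj.obj (op W))}
    (h : Rel hX hY hi ψ W s t) : Rel hX hY hi ψ W' (F.obj.map k.op s) (G.obj.map k.op t) := by
  intro p hp x z hz
  rw [germ, GrothendieckTopology.Point.toPresheafFiber_w_apply] at hz
  rw [germ, GrothendieckTopology.Point.toPresheafFiber_w_apply]
  exact h p hp _ z hz

include hu in
omit [(etTop X).HasSheafCompose (forget A)] in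
theorem rel_bc (E : EtOver Y) (s : ToType (F.obj.obj (op ((EtOver.bc hi.1).obj E)))) :
    Rel hX hY hi ψ _ s (ψ.hom.app (op E) s) := by
  intro p hp x z hz
  have hz' : z = (EtNbhd.point hY (p.map f) hp).toPresheafFiber E (ofBc hi.1 x) ((pushEt hi.1 A).obj F).obj s := by
    refine (pushStalk_bijective hX hY p hp hi hu F).1 (hz.trans ?_)
    rw [pushStalk_apply hi.1 hX hY p hp F E (ofBc hi.1 x) s, toBc_ofBc]
  rw [hz', GrothendieckTopology.Point.toPresheafFiber_naturality_apply]
  refine (pushStalk_apply hi.1 hX hY p hp G E (ofBc hi.1 x) _).trans ?_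
  rw [toBc_ofBc]

include hu in
theorem rel_unique {W : EtOver X} {s : ToType (F.obj.obj (op W))} {t t' : ToType (G.obj.obj (op W))}
    (h : Rel hX hY hi ψ W s t) (h' : Rel hX hY hi ψ W s t') : t = t' :=
  eq_of_germs hX G fun p hp x => by
    obtain ⟨z, hz⟩ := (pushStalk_bijective hX hY p hp hi hu F).2 (germ hX F hp x s)
    rw [← h p hp x z hz, h' p hp x z hz]

include hu in
theorem rel_exists (W : EtOver X) (s : ToType (F.obj.obj (op W))) : ∃ t, Rel hX hY hi ψ W s t := by
  let R : Sieve W :=
    { arrows := fun V k => ∃ t, Rel hX hY hi ψ V (F.obj.map k.op s) t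
      downward_closed := fun {V V'} k ⟨t, ht⟩ l => ⟨G.obj.map l.op t, by
        have := Rel.map hX hY hi ψ l ht
        rwa [op_comp, Functor.map_comp, ConcreteCategory.comp_apply]⟩ }
  have hR : R ∈ etTop X W := StalkPoint.mem_etTop_of_forall R fun e => by
    obtain ⟨p, x, hp, hx, -⟩ := StalkPoint.exists_point_through W e
    obtain ⟨E, y, h, hy⟩ := exists_nbhd_bc hi hu hY hp W x
    exact ⟨_, h, ⟨_, rel_bc hX hY hi hu ψ E _⟩, hx ▸ StalkPoint.range_of_map h hy⟩
  have hsheaf : Presieve.IsSheaf (etTop X) (G.obj ⋙ forget A) := by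
    rw [← isSheaf_iff_isSheaf_of_type]
    exact ((sheafCompose (etTop X) (forget A)).obj G).2
  let fam : Presieve.FamilyOfElements (G.obj ⋙ forget A) R.arrows := fun V k hk => hk.choose
  have hfam : fam.Compatible := by
    rw [Presieve.compatible_iff_sieveCompatible]
    intro V V' k l hk
    show _ = G.obj.map l.op hk.choose
    refine rel_unique hX hY hi hu ψ (R.downward_closed hk l).choose_spec ?_
    have := Rel.map hX hY hi ψ l hk.choose_spec
    rwa [← ConcreteCategory.comp_apply, ← Functor.map_comp, ← op_comp] at this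
  obtain ⟨t, ht, -⟩ := hsheaf R hR fam hfam
  refine ⟨t, fun p hp x z hz => ?_⟩
  obtain ⟨V, k, hk, y, hy⟩ := EtNbhd.exists_lift_sieve p hp R hR x
  have h1 := hk.choose_spec p hp y z (by
    rw [germ, GrothendieckTopology.Point.toPresheafFiber_w_apply, hz]
    exact congrArg (fun r => germ hX F hp r s) hy.symm)
  rw [h1, ← show G.obj.map k.op t = hk.choose from ht k hk, germ, GrothendieckTopology.Point.toPresheafFiber_w_apply]
  exact congrArg (fun r => germ hX G hp r t) hy

/-- the map underlying a map of direct images -/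
def preimageFun (W : EtOver X) (s : ToType (F.obj.obj (op W))) : ToType (G.obj.obj (op W)) :=
  (rel_exists hX hY hi hu ψ W s).choose

theorem rel_preimageFun (W : EtOver X) (s : ToType (F.obj.obj (op W))) :
    Rel hX hY hi ψ W s (preimageFun hX hY hi hu ψ W s) := (rel_exists hX hY hi hu ψ W s).choose_spec

theorem preimageFun_map {W W' : EtOver X} (k : W' ⟶ W) (s : ToType (F.obj.obj (op W))) :
    preimageFun hX hY hi hu ψ W' (F.obj.map k.op s) = G.obj.map k.op (preimageFun hX hY hi hu ψ W s) :=
  rel_unique hX hY hi hu ψ (rel_preimageFun hX hY hi hu ψ W' _)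
    (Rel.map hX hY hi ψ k (rel_preimageFun hX hY hi hu ψ W s))

theorem preimageFun_bc (E : EtOver Y) (s : ToType (F.obj.obj (op ((EtOver.bc hi.1).obj E)))) :
    preimageFun hX hY hi hu ψ _ s = ψ.hom.app (op E) s :=
  rel_unique hX hY hi hu ψ (rel_preimageFun hX hY hi hu ψ _ s) (rel_bc hX hY hi hu ψ E s)

include cc pfc hsc hX hY hu in
theorem faithful : (pushEt hi.1 A).Faithful :=
  ⟨fun {F G} => @fun a a' h => Sheaf.hom_ext (NatTrans.ext (funext fun W => ConcreteCategory.hom_ext _ _ fun s =>
    eq_of_germs hX G fun p hp x => by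
      have e1 := pushStalk_naturality hi.1 hX hY p hp a
      have e2 := pushStalk_naturality hi.1 hX hY p hp a'
      obtain ⟨z, hz⟩ := (pushStalk_bijective hX hY p hp hi hu F).2 (germ hX F hp x s)
      show (EtNbhd.point hX p hp).toPresheafFiber W.unop x G.obj (a.hom.app W s) = _
      rw [← GrothendieckTopology.Point.toPresheafFiber_naturality_apply,
        show (EtNbhd.point hX p hp).toPresheafFiber W.unop x F.obj s = pushStalk hi.1 hX hY p hp F z from hz.symm,
        ← ConcreteCategory.comp_apply, ← e1, h, e2, ConcreteCategory.comp_apply, hz]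
      exact (EtNbhd.point hX p hp).toPresheafFiber_naturality_apply a'.hom W.unop x s))⟩

include cc pfc hsc hX hY hu in
theorem full_of (mk : ∀ {F G : EtSh X A} (φ : ∀ W, ToType (F.obj.obj (op W)) → ToType (G.obj.obj (op W)))
    (_ : ∀ ⦃W W' : EtOver X⦄ (k : W' ⟶ W) (s), φ W' (F.obj.map k.op s) = G.obj.map k.op (φ W s))
    (ψ : (pushEt hi.1 A).obj F ⟶ (pushEt hi.1 A).obj G)
    (_ : ∀ W s t, Rel hX hY hi ψ W s t ↔ φ W s = t),
    ∃ a : F ⟶ G, ∀ W (s : ToType (F.obj.obj (op W))), a.hom.app (op W) s = φ W s)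
    : (pushEt hi.1 A).Full := ⟨fun {F G} ψ => by
  obtain ⟨a, ha⟩ := mk (preimageFun hX hY hi hu ψ) (fun W W' k s => preimageFun_map hX hY hi hu ψ k s) ψ
    fun W s t => ⟨fun h => rel_unique hX hY hi hu ψ (rel_preimageFun hX hY hi hu ψ W s) h,
      fun h => h ▸ rel_preimageFun hX hY hi hu ψ W s⟩
  exact ⟨a, Sheaf.hom_ext (NatTrans.ext (funext fun E => ConcreteCategory.hom_ext _ _ fun s =>
    (ha _ s).trans (preimageFun_bc hX hY hi hu ψ E.unop s)))⟩⟩

end Groth.Agent.AlgSpLib.PushEtStalk

namespace Groth.Agent.AlgSpLib.PushEtStalk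

set_option backward.isDefEq.respectTransparency.types false
set_option backward.isDefEq.respectTransparency false

open Groth.Agent.Stk19b

variable {S : Scheme.{u}} {X Y : Sp S} {f : X ⟶ Y}
  (hX : IsAlgSpace X) (hY : IsAlgSpace Y) (hi : RepWith @IsIntegralHom f) (hu : RepWith @UniversallyInjective f)

include hX hY hu

theorem fullyFaithful_type : (pushEt hi.1 (Type (u + 1))).Full ∧ (pushEt hi.1 (Type (u + 1))).Faithful :=
  ⟨full_of hX hY hi hu (fun {F G} φ hφ _ _ => ⟨⟨{
      app := fun W => TypeCat.ofHom (φ W.unop)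
      naturality := fun W W' k => by ext s; exact hφ k.unop s }⟩, fun W s => rfl⟩),
    faithful hX hY hi hu⟩

theorem fullyFaithful_ab :
    (pushEt hi.1 AddCommGrpCat.{u + 1}).Full ∧ (pushEt hi.1 AddCommGrpCat.{u + 1}).Faithful := by
  refine ⟨full_of hX hY hi hu (fun {F G} φ hφ ψ hrel => ?_), faithful hX hY hi hu⟩
  have hadd : ∀ W (s s' : ToType (F.obj.obj (op W))), φ W (s + s') = φ W s + φ W s' := fun W s s' => by
    refine (hrel _ _ _).1 fun p hp x z hz => ?_
    obtain ⟨z₁, hz₁⟩ := (pushStalk_bijective hX hY p hp hi hu F).2 (germ hX F hp x s)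
    obtain ⟨z₂, hz₂⟩ := (pushStalk_bijective hX hY p hp hi hu F).2 (germ hX F hp x s')
    have : z = z₁ + z₂ := (pushStalk_bijective hX hY p hp hi hu F).1 (by rw [hz, map_add, hz₁, hz₂, germ, map_add])
    rw [this, map_add, map_add, (hrel W s _).2 rfl p hp x z₁ hz₁, (hrel W s' _).2 rfl p hp x z₂ hz₂]
    exact (map_add _ _ _).symm
  exact ⟨⟨{
    app := fun W => AddCommGrpCat.ofHom (AddMonoidHom.mk' (φ W.unop) (hadd W.unop))
    naturality := fun W W' k => by ext s; exact hφ k.unop s }⟩, fun W s => rfl⟩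

theorem isIso_counit : IsIso (pullPushAdjEt hi.1 (Type (u + 1))).counit := by
  obtain ⟨_, _⟩ := fullyFaithful_type hX hY hi hu
  infer_instance

end Groth.Agent.AlgSpLib.PushEtStalk
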