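import Groth.Agent.AlgSpLib.SchemeDescent
import Groth.Agent.AlgSpLib.QuotSpLemmas
import Groth.Agent.AlgSpLib.Pres
import Groth.Agent.AlgSpLib.PointsTop
import Groth.Agent.FEtLib.Section

/-!
The pushforward of a sheaf over `X` along `f : X ⟶ X'`, given by its sections: a section over
`g : h_T ⟶ X'` is a compatible family of lifts of all `h_T' ⟶ X` over `g`.
-/

universe u

open CategoryTheory CategoryTheory.Limits AlgebraicGeometry Opposite
open AlgSp

noncomputable section

namespace Groth.Agent.AlgSpLib.PushSp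

set_option backward.isDefEq.respectTransparency.types false

variable {S : Scheme.{u}} {X X' E : Sp S} (f : X ⟶ X') (b : E ⟶ X)

/-- sections of the pushforward -/
structure Sec (T : Over S) where
  g : (yon S).obj T ⟶ X'
  φ : ∀ ⦃T' : Over S⦄ (u : T' ⟶ T) (h : (yon S).obj T' ⟶ X), h ≫ f = (yon S).map u ≫ g → ((yon S).obj T' ⟶ E)
  hb : ∀ ⦃T' : Over S⦄ (u : T' ⟶ T) (h : (yon S).obj T' ⟶ X) (w : h ≫ f = (yon S).map u ≫ g), φ u h w ≫ b = h
  nat : ∀ ⦃T' T'' : Over S⦄ (v : T'' ⟶ T') (u : T' ⟶ T) (h : (yon S).obj T' ⟶ X)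
    (w : h ≫ f = (yon S).map u ≫ g),
    (yon S).map v ≫ φ u h w = φ (v ≫ u) ((yon S).map v ≫ h)
      (by rw [Category.assoc, w, Functor.map_comp, Category.assoc])

variable {f b}

theorem Sec.φ_congr {T : Over S} {s s' : Sec f b T} (e : s = s') {T' : Over S} {u u' : T' ⟶ T}
    {h h' : (yon S).obj T' ⟶ X} (eu : u = u') (eh : h = h') (w : h ≫ f = (yon S).map u ≫ s.g) :
    s.φ u h w = s'.φ u' h' (by subst e eu eh; exact w) := by
  subst e eu eh; rfl

theorem Sec.ext' {T : Over S} {s s' : Sec f b T} (hg : s.g = s'.g)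
    (hφ : ∀ ⦃T' : Over S⦄ (u : T' ⟶ T) (h : (yon S).obj T' ⟶ X) (w : h ≫ f = (yon S).map u ≫ s.g),
      s.φ u h w = s'.φ u h (hg ▸ w)) : s = s' := by
  obtain ⟨g, φ, hb, nat⟩ := s
  obtain ⟨g', φ', hb', nat'⟩ := s'
  change g = g' at hg
  subst hg
  congr
  funext T' u h w
  exact hφ u h w

/-- restriction of a section -/
def Sec.res {T T₁ : Over S} (s : Sec f b T) (a : T₁ ⟶ T) : Sec f b T₁ where
  g := (yon S).map a ≫ s.g
  φ T' u h w := s.φ (u ≫ a) h (by rw [w, Functor.map_comp, Category.assoc])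
  hb T' u h w := s.hb _ h _
  nat T' T'' v u h w := by
    rw [s.nat]
    exact Sec.φ_congr rfl (Category.assoc _ _ _).symm rfl _

variable (f b)

/-- the pushforward presheaf -/
def presheaf : (Over S)ᵒᵖ ⥤ Type (u + 1) where
  obj T := Sec f b T.unop
  map a := TypeCat.ofHom fun s => s.res a.unop
  map_id T := by
    ext s
    refine Sec.ext' ?_ fun T' u h w => ?_
    · show (yon S).map (𝟙 T.unop) ≫ s.g = s.g
      rw [(yon S).map_id, Category.id_comp]
    · exact Sec.φ_congr rfl (Category.comp_id _) rfl _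
  map_comp {T₁ T₂ T₃} a a' := by
    ext s
    refine Sec.ext' ?_ fun T' u h w => ?_
    · show (yon S).map (a'.unop ≫ a.unop) ≫ s.g = (yon S).map a'.unop ≫ (yon S).map a.unop ≫ s.g
      rw [Functor.map_comp, Category.assoc]
    · exact Sec.φ_congr rfl (Category.assoc _ _ _).symm rfl _

/-- compatible maps on a covering glue -/
theorem exists_glue_covering {F : Sp S} {T : Over S} {C : Sieve T} (hC : C ∈ AlgSp.J S T)
    (x : ∀ ⦃T' : Over S⦄ (u : T' ⟶ T), C u → ((yon S).obj T' ⟶ F))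
    (hx : ∀ ⦃T' T'' : Over S⦄ (v : T'' ⟶ T') (u : T' ⟶ T) (hu : C u),
      (yon S).map v ≫ x u hu = x (v ≫ u) (C.downward_closed hu v)) :
    ∃ a : (yon S).obj T ⟶ F, ∀ ⦃T' : Over S⦄ (u : T' ⟶ T) (hu : C u), (yon S).map u ≫ a = x u hu := by
  let E := fun (K : Over S) => GrothendieckTopology.uliftYonedaEquiv.{u + 1} (J := AlgSp.J S) (F := F) (X := K)
  let fam : Presieve.FamilyOfElements F.obj C.arrows := fun T' u hu => E T' (x u hu)
  have hfam : fam.Compatible := by
    rw [Presieve.compatible_iff_sieveCompatible]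
    intro T' T'' u v hu
    show E T'' (x (v ≫ u) _) = F.obj.map v.op (E T' (x u hu))
    rw [GrothendieckTopology.uliftYonedaEquiv_naturality, hx]
  obtain ⟨s, hs, -⟩ := (isSheaf_iff_isSheaf_of_type _ _).1 F.property C hC fam hfam
  refine ⟨(E T).symm s, fun T' u hu => (E T').injective ?_⟩
  rw [← GrothendieckTopology.uliftYonedaEquiv_naturality, Equiv.apply_symm_apply]
  exact hs u hu

theorem isSheaf : Presieve.IsSheaf (AlgSp.J S) (presheaf f b) := by
  intro T C hC fam hfam
  rw [Presieve.compatible_iff_sieveCompatible] at hfam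
  have hcomp : ∀ ⦃T' T'' : Over S⦄ (v : T'' ⟶ T') (u : T' ⟶ T) (hu : C u),
      fam (v ≫ u) (C.downward_closed hu v) = (fam u hu).res v := fun T' T'' v u hu => hfam u v hu
  obtain ⟨g, hg⟩ := exists_glue_covering hC (fun T' u hu => (fam u hu).g) fun T' T'' v u hu => by
    rw [hcomp v u hu]; rfl
  have key : ∀ ⦃T' : Over S⦄ (u : T' ⟶ T) (h : (yon S).obj T' ⟶ X), h ≫ f = (yon S).map u ≫ g →
      ∃ e : (yon S).obj T' ⟶ E, ∀ ⦃T'' : Over S⦄ (v : T'' ⟶ T') (hv : C (v ≫ u))
        (w' : ((yon S).map v ≫ h) ≫ f = (yon S).map (𝟙 T'') ≫ (fam (v ≫ u) hv).g),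
        (yon S).map v ≫ e = (fam (v ≫ u) hv).φ (𝟙 T'') ((yon S).map v ≫ h) w' := fun T' u h w => by
    have hw : ∀ ⦃T'' : Over S⦄ (v : T'' ⟶ T') (hv : C (v ≫ u)),
        ((yon S).map v ≫ h) ≫ f = (yon S).map (𝟙 T'') ≫ (fam (v ≫ u) hv).g := fun T'' v hv => by
      rw [Category.assoc, w, ← Category.assoc, ← Functor.map_comp, hg _ hv, (yon S).map_id, Category.id_comp]
    obtain ⟨e, he⟩ := exists_glue_covering (C := C.pullback u) ((AlgSp.J S).pullback_stable u hC)
      (fun T'' v hv => (fam (v ≫ u) hv).φ (𝟙 T'') ((yon S).map v ≫ h) (hw v hv)) fun T₂ T₃ v' v hv => by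
        rw [Sec.nat]
        have hv' : C ((v' ≫ v) ≫ u) := by rw [Category.assoc]; exact C.downward_closed hv v'
        have e1 : fam ((v' ≫ v) ≫ u) hv' = (fam (v ≫ u) hv).res v' := by
          rw [← hcomp v' (v ≫ u) hv]
          congr 1
        have w2 : ((yon S).map (v' ≫ v) ≫ h) ≫ f = (yon S).map (𝟙 T₃) ≫ (fam ((v' ≫ v) ≫ u) hv').g := hw _ _
        show _ = (fam ((v' ≫ v) ≫ u) hv').φ (𝟙 T₃) ((yon S).map (v' ≫ v) ≫ h) w2
        rw [Sec.φ_congr e1 rfl rfl]
        exact Sec.φ_congr rfl (by rw [Category.comp_id, Category.id_comp]) (by rw [Functor.map_comp, Category.assoc]) _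
    exact ⟨e, fun T'' v hv w' => he v hv⟩
  choose e he using key
  refine ⟨⟨g, e, fun T' u h w => eq_of_covering ((AlgSp.J S).pullback_stable u hC) fun T'' v hv => ?_,
    fun T' T'' v u h w => eq_of_covering ((AlgSp.J S).pullback_stable (v ≫ u) hC) fun T₃ v' hv' => ?_⟩, ?_, ?_⟩
  · have w' : ((yon S).map v ≫ h) ≫ f = (yon S).map (𝟙 T'') ≫ (fam (v ≫ u) hv).g := by
      rw [Category.assoc, w, ← Category.assoc, ← Functor.map_comp, hg _ hv, (yon S).map_id, Category.id_comp]
    rw [← Category.assoc, he u h w v hv w', Sec.hb]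
  · have hC' : C ((v' ≫ v) ≫ u) := by rw [Category.assoc]; exact hv'
    rw [← Category.assoc, ← Functor.map_comp]
    have w1 : ((yon S).map (v' ≫ v) ≫ h) ≫ f = (yon S).map (𝟙 T₃) ≫ (fam ((v' ≫ v) ≫ u) hC').g := by
      rw [Category.assoc, w, ← Category.assoc, ← Functor.map_comp, hg _ hC', (yon S).map_id, Category.id_comp]
    have w2 : ((yon S).map v' ≫ (yon S).map v ≫ h) ≫ f = (yon S).map (𝟙 T₃) ≫ (fam (v' ≫ v ≫ u) hv').g := by
      rw [Category.assoc, Category.assoc, w, ← Category.assoc, ← Category.assoc, ← Functor.map_comp,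
        ← Functor.map_comp, Category.assoc, hg _ hv', (yon S).map_id, Category.id_comp]
    rw [he u h w _ hC' w1, he (v ≫ u) _ _ v' hv' w2]
    exact Sec.φ_congr (by congr 1) rfl (by rw [Functor.map_comp, Category.assoc]) _
  · intro T' u hu
    refine Sec.ext' (hg u hu) fun T'' v h w => ?_
    have hv : C (v ≫ u) := C.downward_closed hu v
    show e (v ≫ u) h _ = (fam u hu).φ v h _
    have hid : C (𝟙 T'' ≫ v ≫ u) := by rwa [Category.id_comp]
    have w : h ≫ f = (yon S).map v ≫ (yon S).map u ≫ g := w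
    have w' : ((yon S).map (𝟙 T'') ≫ h) ≫ f = (yon S).map (𝟙 T'') ≫ (fam (𝟙 T'' ≫ v ≫ u) hid).g := by
      rw [(yon S).map_id, Category.id_comp, Category.id_comp, ← hg _ hid, Category.id_comp, Functor.map_comp,
        Category.assoc]
      exact w
    have h1 := he (v ≫ u) h (by rw [Functor.map_comp, Category.assoc]; exact w) (𝟙 T'') hid w'
    refine Eq.trans ?_ (h1.trans ?_)
    · rw [(yon S).map_id, Category.id_comp]
    have e1 : fam (𝟙 T'' ≫ v ≫ u) hid = (fam u hu).res v := by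
      rw [← hcomp v u hu]
      congr 1
    rw [Sec.φ_congr e1 rfl rfl]
    exact Sec.φ_congr rfl (Category.id_comp _) (by rw [(yon S).map_id, Category.id_comp]) _
  · intro s hs
    have hgs : s.g = g := eq_of_covering hC fun T' u hu => by
      rw [hg u hu, ← hs u hu]; rfl
    refine Sec.ext' hgs fun T' u h w => eq_of_covering ((AlgSp.J S).pullback_stable u hC) fun T'' v hv => ?_
    have w' : ((yon S).map v ≫ h) ≫ f = (yon S).map (𝟙 T'') ≫ (fam (v ≫ u) hv).g := by
      rw [Category.assoc, w, hgs, ← Category.assoc, ← Functor.map_comp, hg _ hv, (yon S).map_id, Category.id_comp]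
    rw [he u h (hgs ▸ w) v hv w', s.nat, Sec.φ_congr (hs _ hv).symm rfl rfl]
    exact Sec.φ_congr rfl (Category.id_comp _).symm rfl _

/-- the pushforward sheaf -/
def obj : Sp S := ⟨presheaf f b, (isSheaf_iff_isSheaf_of_type _ _).2 (isSheaf f b)⟩

variable {f b}

/-- the section of a map into the pushforward -/
def sec {T : Over S} (l : (yon S).obj T ⟶ obj f b) : Sec f b T :=
  GrothendieckTopology.uliftYonedaEquiv.{u + 1} (AlgSp.J S) l

/-- the map of a section -/
def ofSec {T : Over S} (s : Sec f b T) : (yon S).obj T ⟶ obj f b :=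
  (GrothendieckTopology.uliftYonedaEquiv.{u + 1} (AlgSp.J S) (F := obj f b) (X := T)).symm s

theorem sec_ofSec {T : Over S} (s : Sec f b T) : sec (ofSec s) = s := Equiv.apply_symm_apply _ _

theorem sec_injective {T : Over S} : Function.Injective (sec (f := f) (b := b) (T := T)) :=
  Equiv.injective _

theorem sec_comp {T T' : Over S} (u : T' ⟶ T) (l : (yon S).obj T ⟶ obj f b) :
    sec ((yon S).map u ≫ l) = (sec l).res u :=
  (GrothendieckTopology.uliftYonedaEquiv_naturality (AlgSp.J S) l u).symm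

variable (f b)

/-- the structure map of the pushforward -/
def str : obj f b ⟶ X' :=
  ⟨{ app := fun T => TypeCat.ofHom fun s => GrothendieckTopology.uliftYonedaEquiv.{u + 1} (AlgSp.J S) s.g
     naturality := fun T T' a => by
       ext s
       exact (GrothendieckTopology.uliftYonedaEquiv_naturality (AlgSp.J S) s.g a.unop).symm }⟩

variable {f b}

theorem comp_str {T : Over S} (l : (yon S).obj T ⟶ obj f b) : l ≫ str f b = (sec l).g := by
  apply (GrothendieckTopology.uliftYonedaEquiv.{u + 1} (AlgSp.J S) (F := X') (X := T)).injective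
  rw [GrothendieckTopology.uliftYonedaEquiv_comp]
  rfl

end Groth.Agent.AlgSpLib.PushSp
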