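import Mathlib.AlgebraicGeometry.Morphisms.FinitePresentation
import Mathlib.AlgebraicGeometry.Morphisms.QuasiSeparated
import Mathlib.AlgebraicGeometry.QuasiAffine
import Mathlib.RingTheory.FinitePresentation
import Mathlib.AlgebraicGeometry.Morphisms.OpenImmersion

/-!
A scheme covered by basic affine opens, whose limit is an open of an affine scheme, embeds as an open subscheme of an
affine scheme of finite presentation compatibly with that open.
-/

universe u

open CategoryTheory CategoryTheory.Limits AlgebraicGeometry TopologicalSpace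

noncomputable section

set_option linter.style.haveILetI false

namespace Groth.Agent.AlgSpLib.QAEmbed

set_option backward.isDefEq.respectTransparency.types false
set_option backward.isDefEq.respectTransparency false

/-- elements of the kernel of a map into a localisation, moved into a smaller ideal, generate it -/
theorem exists_fg_away {R B A : Type u} [CommRing R] [CommRing B] [CommRing A] [Algebra R B] [Algebra R A]
    [Algebra.FinitePresentation R B] [Algebra.FinitePresentation R A] (ψ : B →ₐ[R] A) (x : B) (hx : IsUnit (ψ x))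
    (hsurj : ∀ a : A, ∃ (n : ℕ) (e : B), a * ψ x ^ n = ψ e) (J : Ideal B)
    (hJ : ∀ e, ψ e = 0 → ∃ n : ℕ, x ^ n * e ∈ J) :
    ∃ J0 : Ideal B, J0.FG ∧ J0 ≤ J ∧ ∀ e, ψ e = 0 → ∃ n : ℕ, x ^ n * e ∈ J0 := by
  classical
  let ψ' : Localization.Away x →ₐ[R] A :=
    IsLocalization.liftAlgHom (M := Submonoid.powers x) (f := ψ) (by
      rintro ⟨_, n, rfl⟩
      show IsUnit (ψ (x ^ n))
      rw [map_pow]
      exact hx.pow n)
  have hψ' : ∀ e : B, ψ' (algebraMap B _ e) = ψ e := fun e => IsLocalization.lift_eq _ e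
  haveI : Algebra.FinitePresentation B (Localization.Away x) := IsLocalization.Away.finitePresentation x
  haveI : Algebra.FinitePresentation R (Localization.Away x) := Algebra.FinitePresentation.trans R B _
  have hs : Function.Surjective ψ' := fun a => by
    obtain ⟨n, e, he⟩ := hsurj a
    refine ⟨IsLocalization.mk' (Localization.Away x) e (⟨x ^ n, n, rfl⟩ : Submonoid.powers x), (hx.pow n).mul_left_injective ?_⟩
    show ψ' _ * ψ x ^ n = a * ψ x ^ n
    rw [he, ← map_pow, ← hψ', ← hψ', ← map_mul, IsLocalization.mk'_spec]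
  obtain ⟨t, ht⟩ := Algebra.FinitePresentation.ker_fG_of_surjective ψ' hs
  have hnum : ∀ k : (t : Set (Localization.Away x)), ∃ (e : B) (m : ℕ), e ∈ J ∧
      k.1 * algebraMap B _ x ^ m = algebraMap B _ e := fun k => by
    obtain ⟨m, e, he⟩ := IsLocalization.Away.surj x k.1
    have hk : ψ' k.1 = 0 := RingHom.mem_ker.1 (ht ▸ Ideal.subset_span k.2)
    have : ψ e = 0 := by rw [← hψ', ← he, map_mul, hk, zero_mul]
    obtain ⟨n, hn⟩ := hJ e this
    refine ⟨x ^ n * e, m + n, hn, ?_⟩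
    rw [map_mul, map_pow, ← he]
    ring
  choose e m heJ he using hnum
  refine ⟨Ideal.span (Set.range e), Submodule.fg_span (Set.finite_range e),
    Ideal.span_le.2 (by rintro _ ⟨k, rfl⟩; exact heJ k), fun f hf => ?_⟩
  have hle : RingHom.ker ψ'.toRingHom ≤ (Ideal.span (Set.range e)).map (algebraMap B (Localization.Away x)) := by
    rw [← ht]
    refine Ideal.span_le.2 fun k hk => ?_
    have hu : IsUnit (algebraMap B (Localization.Away x) x ^ m ⟨k, hk⟩) :=
      (IsLocalization.Away.algebraMap_isUnit x).pow _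
    obtain ⟨w, hw⟩ := hu
    have : k = algebraMap B _ (e ⟨k, hk⟩) * ↑w⁻¹ := by
      rw [← he ⟨k, hk⟩, ← hw, mul_assoc, Units.mul_inv, mul_one]
    rw [this]
    exact Ideal.mul_mem_right _ _ (Ideal.mem_map_of_mem _ (Ideal.subset_span ⟨_, rfl⟩))
  have hfm : algebraMap B (Localization.Away x) f ∈ (Ideal.span (Set.range e)).map (algebraMap B _) :=
    hle (RingHom.mem_ker.2 ((hψ' f).trans hf))
  obtain ⟨_, ⟨n, rfl⟩, hn⟩ := (IsLocalization.algebraMap_mem_map_algebraMap_iff (Submonoid.powers x) _ _ _).1 hfm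
  exact ⟨n, hn⟩

/-- a surjection with torsion kernel onto a ring where an element is invertible is a localisation -/
theorem isAway_of {Q A : Type u} [CommRing Q] [CommRing A] [Algebra Q A] (q : Q) (hu : IsUnit (algebraMap Q A q))
    (hs : ∀ a : A, ∃ (n : ℕ) (e : Q), a * algebraMap Q A q ^ n = algebraMap Q A e)
    (hk : ∀ e : Q, algebraMap Q A e = 0 → ∃ n : ℕ, q ^ n * e = 0) : IsLocalization.Away q A := by
  refine IsLocalization.Away.mk q hu (fun a => hs a) fun e e' h => ?_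
  obtain ⟨n, hn⟩ := hk (e - e') (by rw [map_sub, h, sub_self])
  exact ⟨n, by rw [← sub_eq_zero, ← mul_sub, hn]⟩

variable {R : CommRingCat.{u}}

set_option maxHeartbeats 1600000 in
/-- the embedding -/
theorem exists_model {W Z V : Scheme.{u}} [IsAffine V] [CompactSpace W] [QuasiSeparatedSpace W] [CompactSpace Z]
    [QuasiSeparatedSpace Z] (j : W ⟶ V) [IsOpenImmersion j] (p : W ⟶ Z) (z : Z ⟶ Spec R)
    [LocallyOfFinitePresentation z] (v : V ⟶ Spec R) (w : p ≫ z = j ≫ v) {ι : Type u} [Finite ι]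
    (h : ι → Γ(V, ⊤)) (h' : ι → Γ(Z, ⊤)) (hh : ∀ a, p.appTop (h' a) = j.appTop (h a))
    (hcov : ∀ x : V, x ∈ j.opensRange ↔ ∃ a, x ∈ V.basicOpen (h a))
    (hZ : ∀ x : Z, ∃ a, x ∈ Z.basicOpen (h' a)) (haff : ∀ a, IsAffineOpen (Z.basicOpen (h' a))) :
    ∃ (V0 : Scheme.{u}) (_ : IsAffine V0) (v0 : V0 ⟶ Spec R) (b : V ⟶ V0) (κ : Z ⟶ V0),
      LocallyOfFinitePresentation v0 ∧ IsOpenImmersion κ ∧ b ≫ v0 = v ∧ κ ≫ v0 = z ∧ p ≫ κ = j ≫ b ∧
      b ⁻¹' Set.range κ = Set.range j := by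
  classical
  letI algZ : Algebra R Γ(Z, ⊤) := ((Scheme.ΓSpecIso R).inv ≫ z.appTop).hom.toAlgebra
  letI algV : Algebra R Γ(V, ⊤) := ((Scheme.ΓSpecIso R).inv ≫ v.appTop).hom.toAlgebra
  letI algW : Algebra R Γ(W, ⊤) := ((Scheme.ΓSpecIso R).inv ≫ v.appTop ≫ j.appTop).hom.toAlgebra
  let pA : Γ(Z, ⊤) →ₐ[R] Γ(W, ⊤) :=
    { p.appTop.hom with
      commutes' := fun r => by
        show p.appTop.hom (z.appTop.hom ((Scheme.ΓSpecIso R).inv.hom r)) =
          j.appTop.hom (v.appTop.hom ((Scheme.ΓSpecIso R).inv.hom r))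
        exact congrArg (fun φ => φ.hom ((Scheme.ΓSpecIso R).inv.hom r)) (congrArg Scheme.Hom.appTop w) }
  let jA : Γ(V, ⊤) →ₐ[R] Γ(W, ⊤) := { j.appTop.hom with commutes' := fun r => rfl }
  let ρ : ∀ a, Γ(Z, ⊤) →+* Γ(Z, Z.basicOpen (h' a)) := fun a => (Z.presheaf.map (homOfLE le_top).op).hom
  letI algA : ∀ a, Algebra R Γ(Z, Z.basicOpen (h' a)) := fun a => ((ρ a).comp (algebraMap R Γ(Z, ⊤))).toAlgebra
  have hfpA : ∀ a, Algebra.FinitePresentation R Γ(Z, Z.basicOpen (h' a)) := fun a => by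
    have h1 := z.finitePresentation_appLE (isAffineOpen_top _) (haff a) (e := le_top)
    have h2 : (Scheme.ΓSpecIso R).inv.hom.FinitePresentation :=
      RingHom.FinitePresentation.of_bijective (ConcreteCategory.bijective_of_isIso (Scheme.ΓSpecIso R).inv)
    exact h1.comp h2
  have hlocZ : ∀ a, @IsLocalization.Away _ _ (h' a) Γ(Z, Z.basicOpen (h' a)) _ (ρ a).toAlgebra := fun a =>
    isLocalization_basicOpen_of_qcqs isCompact_univ isQuasiSeparated_univ (h' a)
  have hsubset : ∀ a, (V.basicOpen (h a) : Set V) ⊆ j.opensRange := fun a x hx => (hcov x).2 ⟨a, hx⟩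
  -- functions on the open come from the affine scheme after multiplying
  have key : ∀ a (β : Γ(W, ⊤)), ∃ (n : ℕ) (q : Γ(V, ⊤)), β * jA (h a) ^ n = jA q := fun a β => by
    let ρW : Γ(W, ⊤) →+* Γ(W, W.basicOpen (j.appTop.hom (h a))) := (W.presheaf.map (homOfLE le_top).op).hom
    have hpre : j ⁻¹ᵁ V.basicOpen (h a) = W.basicOpen (j.appTop.hom (h a)) := Scheme.preimage_basicOpen_top _ _
    let θ : Γ(V, V.basicOpen (h a)) ⟶ Γ(W, W.basicOpen (j.appTop.hom (h a))) :=
      j.app (V.basicOpen (h a)) ≫ W.presheaf.map (eqToHom hpre.symm).op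
    haveI : IsIso (j.app (V.basicOpen (h a))) := j.isIso_app _ (hsubset a)
    have hθ : Function.Bijective θ.hom := ConcreteCategory.bijective_of_isIso θ
    have hθr : ∀ q : Γ(V, ⊤), θ.hom ((V.presheaf.map (homOfLE le_top).op).hom q) = ρW (jA q) := fun q => by
      show (V.presheaf.map (homOfLE le_top).op ≫ j.app (V.basicOpen (h a)) ≫ W.presheaf.map (eqToHom hpre.symm).op).hom q = _
      rw [j.naturality_assoc, ← Functor.map_comp]
      rfl
    obtain ⟨q₁, hq₁⟩ := hθ.2 (ρW β)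
    obtain ⟨n, q, hq⟩ := IsLocalization.Away.surj (S := Γ(V, V.basicOpen (h a))) (h a) q₁
    have hq' : ρW β * ρW (jA (h a)) ^ n = ρW (jA q) := by
      rw [← hq₁, ← hθr, ← hθr, ← map_pow, ← map_mul]
      exact congrArg θ.hom hq
    letI := ρW.toAlgebra
    haveI : IsLocalization.Away (j.appTop.hom (h a)) Γ(W, W.basicOpen (j.appTop.hom (h a))) :=
      isLocalization_basicOpen_of_qcqs isCompact_univ isQuasiSeparated_univ _
    obtain ⟨⟨_, m, rfl⟩, hm⟩ := IsLocalization.exists_of_eq (M := Submonoid.powers (j.appTop.hom (h a)))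
      (S := Γ(W, W.basicOpen (j.appTop.hom (h a)))) (x := β * jA (h a) ^ n) (y := jA q) (by
        show ρW _ = ρW _
        rw [map_mul, map_pow]; exact hq')
    refine ⟨n + m, h a ^ m * q, ?_⟩
    rw [map_mul jA, map_pow]
    show β * jA (h a) ^ (n + m) = jA (h a) ^ m * jA q
    have hm' : jA (h a) ^ m * (β * jA (h a) ^ n) = jA (h a) ^ m * jA q := hm
    rw [← hm', pow_add]
    ring
  have key0 : ∀ a (q : Γ(V, ⊤)), jA q = 0 → ∃ n : ℕ, h a ^ n * q = 0 := fun a q hq => by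
    haveI : IsIso (j.app (V.basicOpen (h a))) := j.isIso_app _ (hsubset a)
    have h0 : (V.presheaf.map (homOfLE (le_top : V.basicOpen (h a) ≤ ⊤)).op).hom q = 0 := by
      apply (ConcreteCategory.bijective_of_isIso (j.app (V.basicOpen (h a)))).1
      rw [map_zero]
      show (V.presheaf.map (homOfLE (le_top : V.basicOpen (h a) ≤ ⊤)).op ≫ j.app (V.basicOpen (h a))).hom q = 0
      rw [j.naturality, CommRingCat.hom_comp, RingHom.comp_apply, show (CommRingCat.Hom.hom (j.app ⊤)) q = 0 from hq, map_zero]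
    obtain ⟨⟨_, n, rfl⟩, hn⟩ := IsLocalization.exists_of_eq (M := Submonoid.powers (h a))
      (S := Γ(V, V.basicOpen (h a))) (x := q) (y := 0) (by rw [map_zero]; exact h0)
    exact ⟨n, by simpa using hn⟩
  -- generators
  choose G hG using fun a => (Algebra.FiniteType.out : (⊤ : Subalgebra R Γ(Z, Z.basicOpen (h' a))).FG)
  have hnum : ∀ (s : Σ a, ↥(G a)), ∃ (b : Γ(Z, ⊤)) (q : Γ(V, ⊤)) (N : ℕ),
      pA b = jA q ∧ s.2.1 * ρ s.1 (h' s.1) ^ N = ρ s.1 b := fun s => by
    letI := (ρ s.1).toAlgebra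
    haveI := hlocZ s.1
    obtain ⟨N, b, hb⟩ := IsLocalization.Away.surj (S := Γ(Z, Z.basicOpen (h' s.1))) (h' s.1) s.2.1
    obtain ⟨K, q, hq⟩ := key s.1 (pA b)
    refine ⟨b * h' s.1 ^ K, q, N + K, ?_, ?_⟩
    · rw [map_mul, map_pow, ← hq]
      exact congrArg (fun y => pA b * y ^ K) (hh s.1)
    · rw [map_mul, map_pow, pow_add, ← mul_assoc]
      exact congrArg (· * ρ s.1 (h' s.1) ^ K) hb
  choose bb qq NN hcomp hbb using hnum
  let σ := ι ⊕ Σ a, ↥(G a)
  haveI : Finite σ := inferInstance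
  let φZ : MvPolynomial σ R →ₐ[R] Γ(Z, ⊤) := MvPolynomial.aeval (Sum.elim h' bb)
  let φV : MvPolynomial σ R →ₐ[R] Γ(V, ⊤) := MvPolynomial.aeval (Sum.elim h qq)
  have hφ : ∀ e, pA (φZ e) = jA (φV e) := fun e => by
    have : pA.comp φZ = jA.comp φV := MvPolynomial.algHom_ext (by
      rintro (a | s)
      · show pA (φZ _) = jA (φV _)
        simp only [φZ, φV, MvPolynomial.aeval_X, Sum.elim_inl]
        exact hh a
      · show pA (φZ _) = jA (φV _)
        simp only [φZ, φV, MvPolynomial.aeval_X, Sum.elim_inr]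
        exact hcomp s)
    exact congrArg (fun φ : MvPolynomial σ R →ₐ[R] Γ(W, ⊤) => φ e) this
  let X : ι → MvPolynomial σ R := fun a => MvPolynomial.X (Sum.inl a)
  have hXZ : ∀ a, φZ (X a) = h' a := fun a => by simp [φZ, X]
  have hXV : ∀ a, φV (X a) = h a := fun a => by simp [φV, X]
  let ψ : ∀ a, MvPolynomial σ R →ₐ[R] Γ(Z, Z.basicOpen (h' a)) := fun a =>
    { (ρ a).comp φZ.toRingHom with
      commutes' := fun r => by
        show ρ a (φZ (algebraMap R _ r)) = _
        rw [AlgHom.commutes]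
        rfl }
  have hψu : ∀ a, IsUnit (ψ a (X a)) := fun a => by
    show IsUnit (ρ a (φZ (X a)))
    rw [hXZ]
    letI := (ρ a).toAlgebra
    haveI := hlocZ a
    exact IsLocalization.Away.algebraMap_isUnit (S := Γ(Z, Z.basicOpen (h' a))) (h' a)
  have hψs : ∀ a (y : Γ(Z, Z.basicOpen (h' a))), ∃ (n : ℕ) (e : MvPolynomial σ R), y * ψ a (X a) ^ n = ψ a e := by
    intro a y
    have hy : y ∈ Algebra.adjoin R (G a : Set Γ(Z, Z.basicOpen (h' a))) := (hG a).symm ▸ Algebra.mem_top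
    induction hy using Algebra.adjoin_induction with
    | mem y hy =>
      refine ⟨NN ⟨a, y, hy⟩, MvPolynomial.X (Sum.inr ⟨a, y, hy⟩), ?_⟩
      show y * ρ a (φZ (X a)) ^ _ = ρ a (φZ _)
      rw [hXZ, show φZ (MvPolynomial.X (Sum.inr ⟨a, y, hy⟩)) = bb ⟨a, y, hy⟩ by simp [φZ]]
      exact hbb ⟨a, y, hy⟩
    | algebraMap r => exact ⟨0, algebraMap R _ r, by rw [pow_zero, mul_one, AlgHom.commutes]⟩
    | add y y' _ _ hy hy' =>
      obtain ⟨n, e, he⟩ := hy
      obtain ⟨n', e', he'⟩ := hy'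
      refine ⟨n + n', e * X a ^ n' + e' * X a ^ n, ?_⟩
      rw [map_add, map_mul, map_mul, map_pow, map_pow, ← he, ← he']
      ring
    | mul y y' _ _ hy hy' =>
      obtain ⟨n, e, he⟩ := hy
      obtain ⟨n', e', he'⟩ := hy'
      refine ⟨n + n', e * e', ?_⟩
      rw [map_mul, ← he, ← he']
      ring
  let J : Ideal (MvPolynomial σ R) := RingHom.ker φZ.toRingHom ⊓ RingHom.ker φV.toRingHom
  have hψJ : ∀ a e, ψ a e = 0 → ∃ n : ℕ, X a ^ n * e ∈ J := fun a e he => by
    letI := (ρ a).toAlgebra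
    haveI := hlocZ a
    obtain ⟨⟨_, n, rfl⟩, hn⟩ := IsLocalization.exists_of_eq (M := Submonoid.powers (h' a))
      (S := Γ(Z, Z.basicOpen (h' a))) (x := φZ e) (y := 0) (by rw [map_zero]; exact he)
    have hn' : φZ (X a ^ n * e) = 0 := by
      rw [map_mul, map_pow, hXZ]
      simpa using hn
    obtain ⟨m, hm⟩ := key0 a (φV (X a ^ n * e)) (by rw [← hφ, hn', map_zero])
    refine ⟨m + n, ?_, ?_⟩
    · show φZ _ = 0
      rw [pow_add, mul_assoc, map_mul, hn', mul_zero]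
    · show φV _ = 0
      rw [pow_add, mul_assoc, map_mul, map_pow, hXV, hm]
  choose J0 hJ0fg hJ0le hJ0 using fun a =>
    haveI := hfpA a
    exists_fg_away (ψ a) (X a) (hψu a) (hψs a) J (hψJ a)
  let I : Ideal (MvPolynomial σ R) := ⨆ a, J0 a
  have hIfg : I.FG := Submodule.fg_iSup J0 hJ0fg
  have hIle : I ≤ J := iSup_le hJ0le
  let B0 := MvPolynomial σ R ⧸ I
  let φZ' : B0 →+* Γ(Z, ⊤) := Ideal.Quotient.lift I φZ.toRingHom fun e he => (hIle he).1
  let φV' : B0 →+* Γ(V, ⊤) := Ideal.Quotient.lift I φV.toRingHom fun e he => (hIle he).2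
  let v0 : Spec (CommRingCat.of B0) ⟶ Spec R := Spec.map (CommRingCat.ofHom (algebraMap R B0))
  let b : V ⟶ Spec (CommRingCat.of B0) := V.toSpecΓ ≫ Spec.map (CommRingCat.ofHom φV')
  let κ : Z ⟶ Spec (CommRingCat.of B0) := Z.toSpecΓ ≫ Spec.map (CommRingCat.ofHom φZ')
  let xb : ι → B0 := fun a => Ideal.Quotient.mk I (X a)
  have hto : ∀ {X : Scheme.{u}} (f : X ⟶ Spec R), X.toSpecΓ ≫ Spec.map ((Scheme.ΓSpecIso R).inv ≫ f.appTop) = f :=
    fun f => by
      rw [Spec.map_comp, ← Category.assoc, ← Scheme.toSpecΓ_naturality, Category.assoc,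
        toSpecΓ_SpecMap_ΓSpecIso_inv, Category.comp_id]
  have hκpre : ∀ a, κ ⁻¹ᵁ PrimeSpectrum.basicOpen (xb a) = Z.basicOpen (h' a) := fun a => by
    show Z.toSpecΓ ⁻¹ᵁ (Spec.map (CommRingCat.ofHom φZ') ⁻¹ᵁ PrimeSpectrum.basicOpen (xb a)) = _
    rw [show Spec.map (CommRingCat.ofHom φZ') ⁻¹ᵁ PrimeSpectrum.basicOpen (xb a) =
      PrimeSpectrum.basicOpen (φZ' (xb a)) from rfl, Scheme.toSpecΓ_preimage_basicOpen]
    exact congrArg Z.basicOpen (hXZ a)
  have hbpre : ∀ a, b ⁻¹ᵁ PrimeSpectrum.basicOpen (xb a) = V.basicOpen (h a) := fun a => by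
    show V.toSpecΓ ⁻¹ᵁ (Spec.map (CommRingCat.ofHom φV') ⁻¹ᵁ PrimeSpectrum.basicOpen (xb a)) = _
    rw [show Spec.map (CommRingCat.ofHom φV') ⁻¹ᵁ PrimeSpectrum.basicOpen (xb a) =
      PrimeSpectrum.basicOpen (φV' (xb a)) from rfl, Scheme.toSpecΓ_preimage_basicOpen]
    exact congrArg V.basicOpen (hXV a)
  have hpiece : ∀ a, IsOpenImmersion ((Z.basicOpen (h' a)).ι ≫ κ) ∧
      (PrimeSpectrum.basicOpen (xb a) : Set (PrimeSpectrum B0)) ⊆ Set.range κ := fun a => by
    letI := ((ρ a).comp φZ').toAlgebra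
    haveI : IsLocalization.Away (xb a) Γ(Z, Z.basicOpen (h' a)) := isAway_of (xb a) (hψu a) (fun y => by
        obtain ⟨n, e, he⟩ := hψs a y
        exact ⟨n, Ideal.Quotient.mk I e, he⟩) (fun e he => by
        obtain ⟨e, rfl⟩ := Ideal.Quotient.mk_surjective e
        obtain ⟨n, hn⟩ := hJ0 a e he
        refine ⟨n, ?_⟩
        show Ideal.Quotient.mk I (X a) ^ n * Ideal.Quotient.mk I e = 0
        rw [← map_pow, ← map_mul, Ideal.Quotient.eq_zero_iff_mem]
        exact le_iSup J0 a hn)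
    let m : Spec Γ(Z, Z.basicOpen (h' a)) ⟶ Spec (CommRingCat.of B0) :=
      Spec.map (CommRingCat.ofHom (algebraMap B0 Γ(Z, Z.basicOpen (h' a))))
    have e : (Z.basicOpen (h' a)).ι ≫ κ = (haff a).isoSpec.hom ≫ m := by
      show _ ≫ Z.toSpecΓ ≫ _ = (Z.basicOpen (h' a)).toSpecΓ ≫ _
      rw [← Category.assoc, ← Scheme.Opens.toSpecΓ_SpecMap_presheaf_map_top, Category.assoc, ← Spec.map_comp]
      rfl
    haveI hm : IsOpenImmersion m := IsOpenImmersion.of_isLocalization (xb a)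
    refine ⟨by rw [e]; infer_instance, ?_⟩
    rw [← PrimeSpectrum.localization_away_comap_range Γ(Z, Z.basicOpen (h' a)) (xb a)]
    rintro _ ⟨t, rfl⟩
    refine ⟨(Z.basicOpen (h' a)).ι ((haff a).isoSpec.inv t), ?_⟩
    rw [← Scheme.Hom.comp_apply, ← Scheme.Hom.comp_apply, e, Iso.inv_hom_id_assoc]
    rfl
  have hκ : IsOpenImmersion κ := by
    refine IsZariskiLocalAtTarget.of_forall_source_exists_preimage _ fun x => ?_
    obtain ⟨a, ha⟩ := hZ x
    refine ⟨PrimeSpectrum.basicOpen (xb a), (hκpre a).ge ha, ?_⟩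
    rw [hκpre]
    exact (hpiece a).1
  refine ⟨Spec (CommRingCat.of B0), inferInstance, v0, b, κ, ?_, hκ, ?_, ?_, ?_, ?_⟩
  · haveI : Algebra.FinitePresentation R B0 := Algebra.FinitePresentation.quotient hIfg
    exact (HasRingHomProperty.Spec_iff (P := @LocallyOfFinitePresentation)).2
      (RingHom.finitePresentation_algebraMap.2 inferInstance)
  · show (V.toSpecΓ ≫ Spec.map _) ≫ Spec.map _ = v
    rw [Category.assoc, ← Spec.map_comp]
    refine Eq.trans (congrArg (fun k => V.toSpecΓ ≫ Spec.map k) ?_) (hto v)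
    exact CommRingCat.hom_ext (RingHom.ext fun r => φV.commutes r)
  · show (Z.toSpecΓ ≫ Spec.map _) ≫ Spec.map _ = z
    rw [Category.assoc, ← Spec.map_comp]
    refine Eq.trans (congrArg (fun k => Z.toSpecΓ ≫ Spec.map k) ?_) (hto z)
    exact CommRingCat.hom_ext (RingHom.ext fun r => φZ.commutes r)
  · show p ≫ Z.toSpecΓ ≫ Spec.map _ = j ≫ V.toSpecΓ ≫ Spec.map _
    rw [← Category.assoc, ← Category.assoc, Scheme.toSpecΓ_naturality, Scheme.toSpecΓ_naturality,
      Category.assoc, Category.assoc, ← Spec.map_comp, ← Spec.map_comp]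
    refine congrArg (fun k => W.toSpecΓ ≫ Spec.map k) (CommRingCat.hom_ext (Ideal.Quotient.ringHom_ext ?_))
    exact RingHom.ext fun e => hφ e
  · ext x
    constructor
    · rintro ⟨y, hy⟩
      obtain ⟨a, ha⟩ := hZ y
      have hy' : b x ∈ (PrimeSpectrum.basicOpen (xb a) : Set (PrimeSpectrum B0)) := hy ▸ (hκpre a).ge ha
      exact (hcov x).2 ⟨a, (hbpre a).le hy'⟩
    · intro hx
      obtain ⟨a, ha⟩ := (hcov x).1 hx
      exact (hpiece a).2 ((hbpre a).ge ha)

end Groth.Agent.AlgSpLib.QAEmbed
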