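import Mathlib.RingTheory.Flat.FaithfullyFlat.Basic
import Mathlib.RingTheory.Ideal.Over
import Mathlib.RingTheory.TensorProduct.Pi
import Mathlib.RingTheory.Spectrum.Prime.Topology
import Mathlib.RingTheory.IsTensorProduct
import Mathlib.LinearAlgebra.TensorProduct.Tower

/-!
Descent of a base-changed module along a finite jointly surjective family of flat algebras.
-/

universe u

open TensorProduct

namespace Groth.Agent.AlgSpLib.QCohEt

set_option backward.isDefEq.respectTransparency.types false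
set_option backward.isDefEq.respectTransparency false

variable {A : Type u} [CommRing A] {ι : Type} (B : ι → Type u) [∀ j, CommRing (B j)] [∀ j, Algebra A (B j)]
  [∀ j, Module.Flat A (B j)]

/-- an element killed by a jointly surjective family of flat algebras is zero -/
theorem eq_zero_of_forall_one_tmul
    (hB : ∀ p : Ideal A, p.IsPrime → ∃ (j : ι) (q : Ideal (B j)), q.IsPrime ∧ q.comap (algebraMap A (B j)) = p)
    {M : Type u} [AddCommGroup M] [Module A M] (x : M) (h : ∀ j, (1 : B j) ⊗ₜ[A] x = 0) : x = 0 := by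
  by_contra hx
  let I : Ideal A := LinearMap.ker (LinearMap.toSpanSingleton A M x)
  have hI : I ≠ ⊤ := fun e => hx (by
    have h1 : (1 : A) ∈ I := e ▸ Submodule.mem_top
    simpa [I] using h1)
  obtain ⟨m, hm, hIm⟩ := Ideal.exists_le_maximal I hI
  obtain ⟨j, q, hq, hqm⟩ := hB m hm.isPrime
  have hinj := Module.Flat.lTensor_preserves_injective_linearMap (M := B j)
    (Submodule.liftQ I (LinearMap.toSpanSingleton A M x) le_rfl)
    (LinearMap.ker_eq_bot.1 (Submodule.ker_liftQ_eq_bot _ _ le_rfl le_rfl))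
  have h0 : (1 : B j) ⊗ₜ[A] (Submodule.Quotient.mk 1 : A ⧸ I) = 0 := hinj (by
    rw [LinearMap.lTensor_tmul, map_zero]
    exact (congrArg ((1 : B j) ⊗ₜ[A] ·) (show Submodule.liftQ I (LinearMap.toSpanSingleton A M x) le_rfl (Submodule.Quotient.mk 1) = x from (Submodule.liftQ_apply _ _ _).trans (one_smul A x))).trans (h j))
  have h1 : (1 : B j) ∈ I.map (algebraMap A (B j)) := by
    have := congrArg (TensorProduct.tensorQuotEquivQuotSMul (B j) I) h0
    rw [map_zero] at this
    have h2 : (Submodule.Quotient.mk (1 : B j) : B j ⧸ I • (⊤ : Submodule A (B j))) = 0 := by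
      rw [← this, show (Submodule.Quotient.mk 1 : A ⧸ I) = Ideal.Quotient.mk I 1 from rfl,
        TensorProduct.tensorQuotEquivQuotSMul_tmul_mk, one_smul]
    rw [Submodule.Quotient.mk_eq_zero, Ideal.smul_top_eq_map] at h2
    exact h2
  exact hq.ne_top ((Ideal.eq_top_iff_one _).2 (Ideal.map_le_iff_le_comap.2 (hIm.trans hqm.ge) h1))

variable {A₀ : Type u} [CommRing A₀] [Algebra A₀ A] [∀ j, Algebra A₀ (B j)] [∀ j, IsScalarTower A₀ A (B j)]
  {N : Type u} [AddCommGroup N] [Module A₀ N]

/-- restriction to a member of the family -/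
noncomputable def resTo (j : ι) : A ⊗[A₀] N →ₗ[A] B j ⊗[A₀] N :=
  AlgebraTensorModule.map (Algebra.linearMap A (B j)) (LinearMap.id : N →ₗ[A₀] N)

omit [∀ j, Module.Flat A (B j)] in
@[simp] theorem resTo_tmul (j : ι) (a : A) (n : N) :
    resTo B (A₀ := A₀) j (a ⊗ₜ n) = algebraMap A (B j) a ⊗ₜ n := rfl

/-- sections of a base change are separated -/
theorem separated
    (hB : ∀ p : Ideal A, p.IsPrime → ∃ (j : ι) (q : Ideal (B j)), q.IsPrime ∧ q.comap (algebraMap A (B j)) = p)
    (x : A ⊗[A₀] N) (h : ∀ j, resTo B (A₀ := A₀) j x = 0) : x = 0 := by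
  refine eq_zero_of_forall_one_tmul B hB x fun j => ?_
  refine (AlgebraTensorModule.cancelBaseChange A₀ A (B j) (B j) N).injective ?_
  rw [map_zero, ← h j]
  clear h
  induction x with
  | zero => simp
  | tmul a n =>
    rw [AlgebraTensorModule.cancelBaseChange_tmul, resTo_tmul, Algebra.smul_def, mul_one]
  | add y z hy hz => rw [tmul_add, map_add, map_add, hy, hz]

/-- sections of a base change glue -/
theorem glue [Finite ι]
    (hB : ∀ p : Ideal A, p.IsPrime → ∃ (j : ι) (q : Ideal (B j)), q.IsPrime ∧ q.comap (algebraMap A (B j)) = p)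
    (C : ι → ι → Type u) [∀ j k, CommRing (C j k)] [∀ j k, Algebra A (C j k)]
    [∀ j k, Algebra A₀ (C j k)] [∀ j k, IsScalarTower A₀ A (C j k)]
    (l : ∀ j k, B j →ₐ[A] C j k) (r : ∀ j k, B k →ₐ[A] C j k)
    (hC : ∀ j k, Function.Bijective (Algebra.TensorProduct.productMap (l j k) (r j k)))
    (y : ∀ j, B j ⊗[A₀] N)
    (hy : ∀ j k, LinearMap.rTensor N ((l j k).restrictScalars A₀).toLinearMap (y j) =
      LinearMap.rTensor N ((r j k).restrictScalars A₀).toLinearMap (y k)) :
    ∃ x : A ⊗[A₀] N, ∀ j, resTo B (A₀ := A₀) j x = y j := by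
  classical
  have := Fintype.ofFinite ι
  let d : A ⊗[A₀] N →ₗ[A] (∀ j, B j ⊗[A₀] N) := LinearMap.pi fun j => resTo B (A₀ := A₀) j
  suffices h : Submodule.Quotient.mk (p := LinearMap.range d) y = 0 by
    obtain ⟨x, hx⟩ := (Submodule.Quotient.mk_eq_zero _).1 h
    exact ⟨x, fun j => congrFun hx j⟩
  refine eq_zero_of_forall_one_tmul B hB (M := (∀ j, B j ⊗[A₀] N) ⧸ LinearMap.range d) _ fun k => ?_
  let z : B k ⊗[A] (A ⊗[A₀] N) := (AlgebraTensorModule.cancelBaseChange A₀ A (B k) (B k) N).symm (y k)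
  suffices hz : LinearMap.lTensor (B k) d z = (1 : B k) ⊗ₜ[A] y by
    calc (1 : B k) ⊗ₜ[A] Submodule.Quotient.mk (p := LinearMap.range d) y
        = LinearMap.lTensor (B k) (LinearMap.range d).mkQ ((1 : B k) ⊗ₜ[A] y) := rfl
      _ = LinearMap.lTensor (B k) ((LinearMap.range d).mkQ ∘ₗ d) z := by
          rw [← hz, LinearMap.lTensor_comp]; rfl
      _ = 0 := by
          rw [LinearMap.range_mkQ_comp, LinearMap.lTensor_zero]; rfl
  refine (TensorProduct.piRight A A (B k) (fun j => B j ⊗[A₀] N)).injective ?_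
  funext j
  -- the component in `C k j ⊗ N`
  let e : B k ⊗[A] (B j ⊗[A₀] N) ≃ₗ[A] (B k ⊗[A] B j) ⊗[A₀] N :=
    (AlgebraTensorModule.assoc A₀ A A (B k) (B j) N).symm
  let ψ : B k ⊗[A] (B j ⊗[A₀] N) →ₗ[A] C k j ⊗[A₀] N :=
    (AlgebraTensorModule.map (Algebra.TensorProduct.productMap (l k j) (r k j)).toLinearMap
      (LinearMap.id : N →ₗ[A₀] N)) ∘ₗ e.toLinearMap
  have hψ : Function.Injective ψ := by
    let π : (B k ⊗[A] B j) ≃ₗ[A] C k j :=
      LinearEquiv.ofBijective (Algebra.TensorProduct.productMap (l k j) (r k j)).toLinearMap (hC k j)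
    exact ((AlgebraTensorModule.congr π (LinearEquiv.refl A₀ N)).injective).comp e.injective
  refine hψ ?_
  have hψt : ∀ (b : B k) (c : B j) (n : N), ψ (b ⊗ₜ (c ⊗ₜ n)) = (l k j b * r k j c) ⊗ₜ n := fun b c n => by
    simp [ψ, e]
  rw [TensorProduct.piRight_apply, TensorProduct.piRight_apply, TensorProduct.piRightHom_tmul]
  have h1 : ∀ w : B j ⊗[A₀] N, ψ ((1 : B k) ⊗ₜ w) =
      LinearMap.rTensor N ((r k j).restrictScalars A₀).toLinearMap w := fun w => by
    induction w with
    | zero => simp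
    | tmul c n => rw [hψt, map_one, one_mul]; rfl
    | add w w' hw hw' => rw [tmul_add, map_add, map_add, hw, hw']
  rw [h1, ← hy]
  have h2 : ∀ z : B k ⊗[A] (A ⊗[A₀] N),
      ψ (TensorProduct.piRightHom A A (B k) (fun j => B j ⊗[A₀] N) (LinearMap.lTensor (B k) d z) j) =
        LinearMap.rTensor N ((l k j).restrictScalars A₀).toLinearMap
          (AlgebraTensorModule.cancelBaseChange A₀ A (B k) (B k) N z) := fun z => by
    induction z with
    | zero => simp
    | tmul b w =>
      induction w with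
      | zero => simp
      | tmul a n =>
        rw [LinearMap.lTensor_tmul, TensorProduct.piRightHom_tmul, AlgebraTensorModule.cancelBaseChange_tmul]
        show ψ (b ⊗ₜ (algebraMap A (B j) a ⊗ₜ n)) = (l k j (a • b)) ⊗ₜ n
        rw [hψt, map_smul, AlgHom.commutes, Algebra.smul_def, mul_comm]
      | add w w' hw hw' =>
        simp only [tmul_add, map_add, Pi.add_apply] at hw hw' ⊢
        rw [hw, hw']
    | add z z' hz hz' => simp only [map_add, Pi.add_apply] at hz hz' ⊢; rw [hz, hz']
  exact (h2 z).trans (congrArg _ (LinearEquiv.apply_symm_apply _ _))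

end Groth.Agent.AlgSpLib.QCohEt
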