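import Mathlib.RingTheory.Flat.Basic
import Mathlib.LinearAlgebra.TensorProduct.Pi
import Mathlib.RingTheory.TensorProduct.Maps

/-!
Equalisers of finite families commute with flat base change; base change in two steps.
-/

universe u

open TensorProduct

namespace Groth.Agent.AlgSpLib.QCohEt

variable {A : Type u} [CommRing A] {R : Type u} [AddCommGroup R] [Module A R] [Module.Flat A R]
  {ι : Type} [Finite ι] {M₀ : Type u} [AddCommGroup M₀] [Module A M₀]
  {M₁ : ι → Type u} [∀ j, AddCommGroup (M₁ j)] [∀ j, Module A (M₁ j)]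
  {M₂ : ι → ι → Type u} [∀ j k, AddCommGroup (M₂ j k)] [∀ j k, Module A (M₂ j k)]
  (a : ∀ j, M₀ →ₗ[A] M₁ j) (l : ∀ j k, M₁ j →ₗ[A] M₂ j k) (r : ∀ j k, M₁ k →ₗ[A] M₂ j k)

theorem flat_separated (ha : ∀ x, (∀ j, a j x = 0) → x = 0) (x : R ⊗[A] M₀)
    (h : ∀ j, LinearMap.lTensor R (a j) x = 0) : x = 0 := by
  classical
  have := Fintype.ofFinite ι
  have hd : Function.Injective (LinearMap.lTensor R (LinearMap.pi a)) :=
    Module.Flat.lTensor_preserves_injective_linearMap _
      ((injective_iff_map_eq_zero _).2 fun y hy => ha y fun j => congrFun hy j)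
  refine hd ((TensorProduct.piRight A A R M₁).injective ?_)
  rw [map_zero, map_zero]
  funext j
  refine Eq.trans ?_ (h j)
  clear h
  induction x using TensorProduct.induction_on with
  | zero => simp
  | tmul t m => simp
  | add y z hy hz => simp only [map_add, Pi.add_apply, hy, hz]

theorem flat_glue (ha : ∀ y : ∀ j, M₁ j, (∀ j k, l j k (y j) = r j k (y k)) → ∃ x, ∀ j, a j x = y j)
    (ha' : ∀ j k x, l j k (a j x) = r j k (a k x))
    (y : ∀ j, R ⊗[A] M₁ j) (hy : ∀ j k, LinearMap.lTensor R (l j k) (y j) = LinearMap.lTensor R (r j k) (y k)) :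
    ∃ x : R ⊗[A] M₀, ∀ j, LinearMap.lTensor R (a j) x = y j := by
  classical
  have := Fintype.ofFinite ι
  let d₀ : M₀ →ₗ[A] ∀ j, M₁ j := LinearMap.pi a
  let d₁ : (∀ j, M₁ j) →ₗ[A] ∀ p : ι × ι, M₂ p.1 p.2 :=
    LinearMap.pi fun p => (l p.1 p.2).comp (LinearMap.proj p.1) - (r p.1 p.2).comp (LinearMap.proj p.2)
  have he : Function.Exact d₀ d₁ := fun v => by
    constructor
    · intro hv
      obtain ⟨x, hx⟩ := ha v fun j k => sub_eq_zero.1 (congrFun hv (j, k))
      exact ⟨x, funext hx⟩
    · rintro ⟨x, rfl⟩
      exact funext fun p => sub_eq_zero.2 (ha' p.1 p.2 x)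
  let v : R ⊗[A] (∀ j, M₁ j) := (TensorProduct.piRight A A R M₁).symm y
  have key : ∀ (w : R ⊗[A] (∀ j, M₁ j)) (p : ι × ι),
      TensorProduct.piRight A A R (fun q : ι × ι => M₂ q.1 q.2) (LinearMap.lTensor R d₁ w) p =
        LinearMap.lTensor R (l p.1 p.2) (TensorProduct.piRight A A R M₁ w p.1) -
          LinearMap.lTensor R (r p.1 p.2) (TensorProduct.piRight A A R M₁ w p.2) := fun w p => by
    induction w using TensorProduct.induction_on with
    | zero => simp
    | tmul t m => simp [d₁, tmul_sub]
    | add y z hy hz => simp only [map_add, Pi.add_apply, hy, hz]; abel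
  have hv : LinearMap.lTensor R d₁ v = 0 := by
    refine (TensorProduct.piRight A A R (fun q : ι × ι => M₂ q.1 q.2)).injective ?_
    rw [map_zero]
    funext p
    rw [key, LinearEquiv.apply_symm_apply]
    exact sub_eq_zero.2 (hy p.1 p.2)
  obtain ⟨x, hx⟩ := (Module.Flat.lTensor_exact R he v).1 hv
  refine ⟨x, fun j => ?_⟩
  have := congrArg (fun w => TensorProduct.piRight A A R M₁ w j) hx
  simp only [v, LinearEquiv.apply_symm_apply] at this
  rw [← this]
  clear hx this
  induction x using TensorProduct.induction_on with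
  | zero => simp
  | tmul t m => simp [d₀]
  | add y z hy hz => simp only [map_add, Pi.add_apply, hy, hz]

/-- base change in two steps along a tensor product of algebras -/
theorem bijective_twoStep {A B R P : Type u} [CommRing A] [CommRing B] [CommRing R] [CommRing P]
    [Algebra A B] [Algebra A R] [Algebra A P] [Algebra B P] [IsScalarTower A B P]
    (l : R →ₐ[A] P) (hb : Function.Bijective (Algebra.TensorProduct.productMap l (IsScalarTower.toAlgHom A B P)))
    {M : Type u} [AddCommGroup M] [Module A M] [Module B M] [IsScalarTower A B M]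
    (f : R ⊗[A] M →+ P ⊗[B] M) (hf : ∀ t m, f (t ⊗ₜ m) = l t ⊗ₜ m) : Function.Bijective f := by
  let e : R ⊗[A] B ≃ₐ[A] P :=
    AlgEquiv.ofBijective (Algebra.TensorProduct.productMap l (IsScalarTower.toAlgHom A B P)) hb
  let κ : (R ⊗[A] B) →+ M →+ R ⊗[A] M := TensorProduct.liftAddHom
    { toFun := fun t =>
        { toFun := fun b =>
            { toFun := fun m => t ⊗ₜ[A] (b • m)
              map_zero' := by simp
              map_add' := fun x y => by simp [smul_add, tmul_add] }
          map_zero' := by ext m; simp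
          map_add' := fun x y => by ext m; simp [add_smul, tmul_add] }
      map_zero' := by ext b m; simp
      map_add' := fun x y => by ext b m; simp [add_tmul] }
    fun s t b => by ext m; simp [smul_tmul]
  have hκ : ∀ t b m, κ (t ⊗ₜ b) m = t ⊗ₜ[A] (b • m) := fun _ _ _ => rfl
  let g : P ⊗[B] M →+ R ⊗[A] M := TensorProduct.liftAddHom (κ.comp e.symm.toLinearMap.toAddMonoidHom)
    fun b p m => by
      obtain ⟨w, rfl⟩ := e.surjective p
      change κ (e.symm (b • e w)) m = κ (e.symm (e w)) (b • m)
      have hw : e.symm (b • e w) = (1 : R) ⊗ₜ[A] b * w := by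
        refine e.injective ?_
        rw [AlgEquiv.apply_symm_apply, map_mul, Algebra.smul_def]
        congr 1
        simp [e]
      rw [hw, AlgEquiv.symm_apply_apply]
      clear hw
      induction w using TensorProduct.induction_on with
      | zero => simp
      | tmul t c => rw [Algebra.TensorProduct.tmul_mul_tmul, one_mul, hκ, hκ, mul_comm, mul_smul]
      | add x y hx hy => simp only [mul_add, map_add, AddMonoidHom.add_apply, hx, hy]
  refine Function.bijective_iff_has_inverse.2 ⟨g, fun x => ?_, fun x => ?_⟩
  · induction x using TensorProduct.induction_on with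
    | zero => simp
    | tmul t m =>
      rw [hf]
      change κ (e.symm (l t)) m = _
      rw [show e.symm (l t) = t ⊗ₜ[A] (1 : B) from e.injective (by rw [AlgEquiv.apply_symm_apply]; simp [e]),
        hκ, one_smul]
    | add y z hy hz => simp only [map_add, hy, hz]
  · induction x using TensorProduct.induction_on with
    | zero => simp
    | tmul p m =>
      obtain ⟨w, rfl⟩ := e.surjective p
      change f (κ (e.symm (e w)) m) = _
      rw [AlgEquiv.symm_apply_apply]
      induction w using TensorProduct.induction_on with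
      | zero => simp
      | tmul t c =>
        rw [hκ, hf, ← smul_tmul, Algebra.smul_def]
        congr 1
        simp [e, mul_comm]
      | add x y hx hy => simp only [map_add, AddMonoidHom.add_apply, add_tmul, hx, hy]
    | add y z hy hz => simp only [map_add, hy, hz]

end Groth.Agent.AlgSpLib.QCohEt
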