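import Groth.Agent.AlgSpLib.QCohEtPre
import Mathlib.Algebra.Category.ModuleCat.Sheaf.Quasicoherent
import Mathlib.CategoryTheory.Adjunction.FullyFaithful
import Mathlib.CategoryTheory.Adjunction.Limits

/-!
On an affine object of the small etale site, modules with a presentation are the sheaves attached to modules.
-/

universe u

open CategoryTheory CategoryTheory.Limits AlgebraicGeometry Opposite TensorProduct
open AlgSp

noncomputable section

set_option linter.style.haveILetI false

namespace Groth.Agent.AlgSpLib.QCohEt

set_option backward.isDefEq.respectTransparency.types false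
set_option backward.isDefEq.respectTransparency false

theorem essImage_coker {C D : Type*} [Category C] [Category D] [HasZeroMorphisms C] [HasZeroMorphisms D]
    [HasCokernels C] [HasCokernels D] (F : C ⥤ D) [F.Full] [F.IsLeftAdjoint] [F.PreservesZeroMorphisms]
    {A B : D} (hA : F.essImage A) (hB : F.essImage B) (f : A ⟶ B) {c : CokernelCofork f} (hc : IsColimit c) :
    F.essImage c.pt := by
  obtain ⟨N₁, ⟨e₁⟩⟩ := hA
  obtain ⟨N₂, ⟨e₂⟩⟩ := hB
  obtain ⟨f', hf'⟩ := F.map_surjective (e₁.hom ≫ f ≫ e₂.inv)
  refine ⟨cokernel f', ⟨PreservesCokernel.iso F f' ≪≫ cokernel.mapIso _ f e₁ e₂ ?_ ≪≫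
    (cokernelIsCokernel f).coconePointUniqueUpToIso hc⟩⟩
  rw [hf', Category.assoc, Category.assoc, Iso.inv_hom_id, Category.comp_id]

variable {S : Scheme.{u}} {X : Sp S} (c : EtOver X)

/-- the ring of the base as the ring of the terminal object of the slice -/
def topRing : ΓE c →+* ((OEtRing X).over c).obj.obj (op (top c)) where
  toFun a := a
  map_one' := rfl
  map_mul' _ _ := rfl
  map_zero' := rfl
  map_add' _ _ := rfl

/-- sections over the terminal object -/
def Γtop : SheafOfModules.{u + 1} ((OEtRing X).over c) ⥤ ModuleCat.{u + 1} (ΓE c) :=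
  SheafOfModules.forget _ ⋙ PresheafOfModules.evaluation _ (op (top c)) ⋙ ModuleCat.restrictScalars (topRing c)

/-- the sheaf attached to a module -/
def LObj (N : ModuleCat.{u + 1} (ΓE c)) : SheafOfModules.{u + 1} ((OEtRing X).over c) :=
  (PresheafOfModules.sheafification (𝟙 ((OEtRing X).over c).obj)).obj (pre (c := c) N)

variable {c}

/-- the canonical map to the attached sheaf -/
def η (N : ModuleCat.{u + 1} (ΓE c)) : pre (c := c) N ⟶ (LObj c N).val :=
  (PresheafOfModules.sheafificationAdjunction (𝟙 ((OEtRing X).over c).obj)).unit.app (pre (c := c) N)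

instance (N : ModuleCat.{u + 1} (ΓE c)) :
    Presheaf.IsLocallyInjective ((etTop X).over c) ((PresheafOfModules.toPresheaf _).map (η N)) :=
  inferInstanceAs (Presheaf.IsLocallyInjective _ (CategoryTheory.toSheafify _ _))

instance (N : ModuleCat.{u + 1} (ΓE c)) :
    Presheaf.IsLocallySurjective ((etTop X).over c) ((PresheafOfModules.toPresheaf _).map (η N)) :=
  inferInstanceAs (Presheaf.IsLocallySurjective _ (CategoryTheory.toSheafify _ _))

variable {G : PresheafOfModules.{u + 1} ((OEtRing X).over c).obj} {N : Type (u + 1)} [AddCommGroup N]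
  [Module (ΓE c) N]

/-- the value on generators of a map out of the attached presheaf -/
def evalTop (φ : pre N ⟶ G) : N →+ G.obj (op (top c)) where
  toFun n := φ.app (op (top c)) ((1 : ΓE (top c).left) ⊗ₜ[ΓE c] n)
  map_zero' := (congrArg (φ.app (op (top c))) (TensorProduct.tmul_zero N (1 : ΓE (top c).left))).trans (map_zero _)
  map_add' x y := (congrArg (φ.app (op (top c))) (TensorProduct.tmul_add (1 : ΓE (top c).left) x y)).trans
    (map_add _ _ _)

theorem evalTop_smul (φ : pre N ⟶ G) (a : ΓE c) (n : N) :
    evalTop φ (a • n) = act (top c) a (evalTop φ n) := by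
  refine Eq.trans ?_ ((φ.app (op (top c))).hom.map_smul _ _)
  refine congrArg (φ.app (op (top c))) ?_
  change (1 : ΓE (top c).left) ⊗ₜ[ΓE c] (a • n) = (a : ΓE (top c).left) • ((1 : ΓE (top c).left) ⊗ₜ[ΓE c] n)
  rw [TensorProduct.tmul_smul, TensorProduct.smul_tmul', Algebra.smul_def, algebraMap_top]

theorem resTop_top : resTop (top c) = 𝟙 (top c) := Over.OverMorphism.ext rfl

theorem evalTop_preDesc (f : N →+ G.obj (op (top c))) (hf : ∀ (a : ΓE c) (n : N), f (a • n) = act (top c) a (f n))
    (n : N) : evalTop (preDesc f hf) n = f n := by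
  refine (preDesc_app f hf (top c) 1 n).trans ?_
  refine ((one_smul (((OEtRing X).over c).obj.obj (op (top c))) _)).trans ?_
  rw [resTop_top, resG_apply]
  exact ConcreteCategory.congr_hom (G.map_id (op (top c))) (f n)

/-- maps out of the attached presheaf are maps of modules -/
def preEquiv (N : ModuleCat.{u + 1} (ΓE c)) (F : SheafOfModules.{u + 1} ((OEtRing X).over c)) :
    (pre (c := c) N ⟶ F.val) ≃ (N ⟶ (Γtop c).obj F) where
  toFun φ := ModuleCat.ofHom (Y := (Γtop c).obj F)
    { toFun := evalTop φ
      map_add' := map_add _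
      map_smul' := fun a n => evalTop_smul φ a n }
  invFun f := preDesc (G := F.val) (N := N)
    { toFun := fun n => f n
      map_zero' := map_zero f.hom
      map_add' := map_add f.hom } (fun a n => f.hom.map_smul a n)
  left_inv φ := pre_hom_ext fun n => evalTop_preDesc (G := F.val) (N := N)
    ⟨⟨fun n => evalTop φ n, map_zero (evalTop φ)⟩, map_add (evalTop φ)⟩ (fun a n => evalTop_smul φ a n) n
  right_inv f := by
    ext n
    exact evalTop_preDesc (G := F.val) (N := N) ⟨⟨fun n => f n, map_zero f.hom⟩, map_add f.hom⟩
      (fun a n => f.hom.map_smul a n) n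

variable (c)

/-- the corepresenting bijection -/
def LEquiv (N : ModuleCat.{u + 1} (ΓE c)) (F : SheafOfModules.{u + 1} ((OEtRing X).over c)) :
    (LObj c N ⟶ F) ≃ (N ⟶ (Γtop c).obj F) :=
  ((PresheafOfModules.sheafificationAdjunction (𝟙 ((OEtRing X).over c).obj)).homEquiv _ F).trans
    (preEquiv N F)

theorem LEquiv_naturality (N : ModuleCat.{u + 1} (ΓE c)) {F F' : SheafOfModules.{u + 1} ((OEtRing X).over c)}
    (g : F ⟶ F') (h : LObj c N ⟶ F) : LEquiv c N F' (h ≫ g) = LEquiv c N F h ≫ (Γtop c).map g := by
  refine (congrArg (preEquiv N F') ((PresheafOfModules.sheafificationAdjunction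
    (𝟙 ((OEtRing X).over c).obj)).homEquiv_naturality_right h g)).trans ?_
  ext n
  rfl

/-- the functor attaching a sheaf to a module -/
def L : ModuleCat.{u + 1} (ΓE c) ⥤ SheafOfModules.{u + 1} ((OEtRing X).over c) :=
  Adjunction.leftAdjointOfEquiv (LEquiv c) (fun N _ _ g h => LEquiv_naturality c N g h)

/-- attaching a sheaf is left adjoint to taking sections -/
def adj : L c ⊣ Γtop c :=
  Adjunction.adjunctionOfEquivLeft (LEquiv c) (fun N _ _ g h => LEquiv_naturality c N g h)

theorem unit_app_apply (N : ModuleCat.{u + 1} (ΓE c)) (n : N) :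
    (adj c).unit.app N n = (η N).app (op (top c)) ((1 : ΓE (top c).left) ⊗ₜ[ΓE c] n) := by
  have h : (adj c).unit.app N = preEquiv N (LObj c N) (η N) :=
    congrArg (preEquiv N (LObj c N))
      ((PresheafOfModules.sheafificationAdjunction (𝟙 ((OEtRing X).over c).obj)).homEquiv_id (pre (c := c) N))
  rw [h]
  rfl

theorem bijective_tmul_one (N : Type (u + 1)) [AddCommGroup N] [Module (ΓE c) N] :
    Function.Bijective (fun n : N => (1 : ΓE (top c).left) ⊗ₜ[ΓE c] n) := by
  let m : ΓE (top c).left →+ N →+ N :=
    { toFun := fun a => DistribSMul.toAddMonoidHom N (show ΓE c from a)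
      map_zero' := AddMonoidHom.ext fun n => zero_smul (ΓE c) n
      map_add' := fun a b => AddMonoidHom.ext fun n => add_smul (show ΓE c from a) b n }
  let e : ΓE (top c).left ⊗[ΓE c] N →+ N := TensorProduct.liftAddHom m fun r a n => by
    change (show ΓE c from r • a) • n = (show ΓE c from a) • r • n
    rw [smul_smul, Algebra.smul_def, algebraMap_top, mul_comm]
  have he : ∀ n : N, e ((1 : ΓE (top c).left) ⊗ₜ[ΓE c] n) = n := fun n => one_smul (ΓE c) n
  have hs : ∀ x, (1 : ΓE (top c).left) ⊗ₜ[ΓE c] e x = x := fun x => by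
    induction x using TensorProduct.induction_on with
    | zero => rw [map_zero, TensorProduct.tmul_zero]
    | tmul a n =>
      change (1 : ΓE (top c).left) ⊗ₜ[ΓE c] ((show ΓE c from a) • n) = _
      rw [TensorProduct.tmul_smul, TensorProduct.smul_tmul', Algebra.smul_def, algebraMap_top, mul_one]
    | add x y hx hy => rw [map_add, TensorProduct.tmul_add, hx, hy]
  exact Function.bijective_iff_has_inverse.2 ⟨e, he, hs⟩

variable [IsAff c]

instance isAff_top : IsAff (top c).left := (inferInstance : IsAff c)

instance isIso_unit (N : ModuleCat.{u + 1} (ΓE c)) : IsIso ((adj c).unit.app N) := by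
  rw [ConcreteCategory.isIso_iff_bijective]
  rw [show ⇑(ConcreteCategory.hom ((adj c).unit.app N)) = _ from funext (unit_app_apply c N)]
  exact (bijective_app (η N) (top c)).comp (bijective_tmul_one c N)

instance isIso_adj_unit : IsIso (adj c).unit := NatIso.isIso_of_isIso_app _

instance full_L : (L c).Full := (adj c).fullyFaithfulLOfIsIsoUnit.full

instance faithful_L : (L c).Faithful := (adj c).fullyFaithfulLOfIsIsoUnit.faithful

instance isLeftAdjoint_L : (L c).IsLeftAdjoint := (adj c).isLeftAdjoint

/-- the structure sheaf is attached to the ring -/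
theorem essImage_unit : (L c).essImage (SheafOfModules.unit ((OEtRing X).over c)) := by
  let G : PresheafOfModules.{u + 1} ((OEtRing X).over c).obj := (SheafOfModules.unit ((OEtRing X).over c)).val
  let f : ΓE c →+ G.obj (op (top c)) :=
    { toFun := fun a => a, map_zero' := rfl, map_add' := fun _ _ => rfl }
  let φ := preDesc (G := G) f (fun a n => rfl)
  have hφ : ∀ W : Over c, Function.Bijective (φ.app (op W)) := fun W => by
    have h : ∀ x : ΓE W.left ⊗[ΓE c] ΓE c,
        φ.app (op W) x = TensorProduct.AlgebraTensorModule.rid (ΓE c) (ΓE W.left) (ΓE W.left) x := fun x => by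
      induction x using TensorProduct.induction_on with
      | zero => exact (map_zero _).trans (map_zero _).symm
      | tmul a n =>
        refine (preDesc_app (G := G) f _ W a n).trans ?_
        rw [TensorProduct.AlgebraTensorModule.rid_tmul, Algebra.smul_def, mul_comm]
        rfl
      | add x y hx hy => exact (map_add _ _ _).trans ((congrArg₂ (· + ·) hx hy).trans (map_add _ _ _).symm)
    exact (funext h : ⇑(φ.app (op W)) = _) ▸ (LinearEquiv.bijective _)
  have : IsIso φ := by
    have : ∀ W, IsIso (((PresheafOfModules.toPresheaf _).map φ).app W) := fun W => by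
      rw [ConcreteCategory.isIso_iff_bijective]
      exact hφ W.unop
    have := NatIso.isIso_of_isIso_app ((PresheafOfModules.toPresheaf _).map φ)
    exact isIso_of_reflects_iso φ (PresheafOfModules.toPresheaf _)
  exact ⟨ModuleCat.of (ΓE c) (ΓE c),
    ⟨(PresheafOfModules.sheafification (𝟙 ((OEtRing X).over c).obj)).mapIso (asIso φ) ≪≫
      asIso ((PresheafOfModules.sheafificationAdjunction (𝟙 ((OEtRing X).over c).obj)).counit.app
        (SheafOfModules.unit ((OEtRing X).over c)))⟩⟩

/-- free modules are attached to modules -/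
theorem essImage_free (I : Type (u + 1)) :
    (L c).essImage (SheafOfModules.free (R := (OEtRing X).over c) I) := by
  obtain ⟨N, ⟨e⟩⟩ := essImage_unit c
  exact ⟨∐ fun _ : I => N, ⟨PreservesCoproduct.iso (L c) (fun _ => N) ≪≫ Sigma.mapIso fun _ => e⟩⟩

/-- modules with a presentation are attached to modules -/
theorem essImage_of_presentation {F : SheafOfModules.{u + 1} ((OEtRing X).over c)} (P : F.Presentation) :
    (L c).essImage F :=
  haveI : (L c).PreservesZeroMorphisms := Functor.preservesZeroMorphisms_of_isLeftAdjoint _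
  essImage_coker (L c) (essImage_free c P.relations.I) (essImage_free c P.generators.I)
    ((SheafOfModules.freeHomEquiv _).symm P.relations.s ≫ kernel.ι _) P.isColimit

/-- values on affine objects of a module with a presentation -/
theorem bijective_preDesc_of_presentation {F : SheafOfModules.{u + 1} ((OEtRing X).over c)}
    (P : F.Presentation) (W : Over c) [IsAff W.left] :
    Function.Bijective ((preDesc (G := F.val) (N := (Γtop c).obj F) (AddMonoidHom.id _) (fun _ _ => rfl)).app (op W)) := by
  have : IsIso ((adj c).counit.app F) := (adj c).isIso_counit_app_iff_mem_essImage.2 (essImage_of_presentation c P)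
  have e : preDesc (G := F.val) (N := (Γtop c).obj F) (AddMonoidHom.id _) (fun _ _ => rfl) =
      η ((Γtop c).obj F) ≫ ((adj c).counit.app F).val := by
    refine pre_hom_ext fun n => ?_
    refine (evalTop_preDesc (G := F.val) (N := (Γtop c).obj F) (AddMonoidHom.id _) (fun _ _ => rfl) n).trans ?_
    refine Eq.trans ?_ (congrArg (fun z => ((adj c).counit.app F).val.app (op (top c)) z)
      (unit_app_apply c ((Γtop c).obj F) n))
    exact (DFunLike.congr_fun (congrArg ModuleCat.Hom.hom ((adj c).right_triangle_components F)) n).symm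
  rw [e]
  have h1 := bijective_app (η ((Γtop c).obj F)) W
  haveI : IsIso (((adj c).counit.app F).val.app (op W)) :=
    (inferInstance : IsIso ((SheafOfModules.forget _ ⋙ PresheafOfModules.evaluation _ (op W)).map
      ((adj c).counit.app F)))
  have h2 : Function.Bijective (((adj c).counit.app F).val.app (op W)) :=
    ConcreteCategory.bijective_of_isIso _
  exact h2.comp h1

end Groth.Agent.AlgSpLib.QCohEt
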