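import Groth.Agent.AlgSpLib.QCohEtStalk
import Groth.Agent.AlgSpLib.PushEtFF
import Groth.Agent.AlgSpLib.QCohEtPush

/-!
Direct images of modules along closed immersions: full faithfulness.
-/

universe u

open CategoryTheory CategoryTheory.Limits AlgebraicGeometry Opposite TensorProduct
open AlgSp

noncomputable section

set_option linter.style.haveILetI false

namespace Groth.Agent.AlgSpLib.QCohEt

set_option backward.isDefEq.respectTransparency.types false
set_option backward.isDefEq.respectTransparency false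

open Groth.Agent.Stk19b Groth.Agent.AlgSpLib.PushEtStalk

variable {S : Scheme.{u}} {X Y : Sp S} {f : X ⟶ Y} (hi : RepWith @IsClosedImmersion f)

theorem repWith_integral (hi : RepWith @IsClosedImmersion f) : RepWith @IsIntegralHom f :=
  ⟨hi.1, fun _ _ g a b sq => by
    haveI : IsClosedImmersion b.left := hi.2 g a b sq
    show IsIntegralHom b.left
    infer_instance⟩

theorem repWith_univInj (hi : RepWith @IsClosedImmersion f) : RepWith @UniversallyInjective f :=
  ⟨hi.1, fun _ _ g a b sq => by
    haveI : IsClosedImmersion b.left := hi.2 g a b sq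
    show UniversallyInjective b.left
    infer_instance⟩

theorem isAff_bcObj_closed (E : EtOver Y) [IsAff E] : IsAff (EtOver.bcObj hi.1 E) := by
  haveI : IsAffine E.obj.left.left := (inferInstance : IsAff E)
  haveI : IsClosedImmersion (hi.1.snd E.obj.hom).left := hi.property_snd E.obj.hom
  exact isAffine_of_isAffineHom (hi.1.snd E.obj.hom).left

theorem surjective_bcΓ_closed (E : EtOver Y) [IsAff E] : Function.Surjective (bcΓ hi.1 E) := fun a => by
  haveI : IsAffine E.obj.left.left := (inferInstance : IsAff E)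
  haveI : IsClosedImmersion (hi.1.snd E.obj.hom).left := hi.property_snd E.obj.hom
  obtain ⟨b, hb⟩ := (hi.1.snd E.obj.hom).left.app_surjective ⊤ (isAffineOpen_top _) a.down
  exact ⟨ULift.up b, congrArg ULift.up hb⟩

variable (hX : IsAlgSpace X) (hY : IsAlgSpace Y)

include hY in
/-- neighbourhoods given by base changes of affine objects -/
theorem exists_affine_bc_nbhd {p : FieldPt X} (hp : p.IsGeometric) {W : EtOver X} (w : (FieldPt.liftsTo p).obj W) :
    ∃ (E : EtOver Y) (v : (FieldPt.liftsTo (p.map f)).obj E) (h : (EtOver.bc hi.1).obj E ⟶ W),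
      IsAff E ∧ (FieldPt.liftsTo p).map h (toBc hi.1 v) = w := by
  obtain ⟨E₀, x, h, hx⟩ := exists_nbhd_bc (repWith_integral hi) (repWith_univInj hi) hY hp W w
  have hp' : (p.map f).IsGeometric := hp
  obtain ⟨E, g, v, hE, hv⟩ := exists_affine_refine hp' (ofBc hi.1 x)
  refine ⟨E, v, (EtOver.bc hi.1).map g ≫ h, hE, ?_⟩
  rw [Functor.map_comp_apply, toBc_map, hv, toBc_ofBc]
  exact hx

include hY in
/-- every object is covered by base changes of affine objects -/
theorem exists_bc_cover (W : EtOver X) : ∃ (ι : Type u) (E : ι → EtOver Y)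
    (h : ∀ j, (EtOver.bc hi.1).obj (E j) ⟶ W), (∀ j, IsAff (E j)) ∧
      ∀ e, ∃ j, e ∈ Set.range (h j).hom.left.left := by
  have key : ∀ e : W.obj.left.left, ∃ (E : EtOver Y) (h : (EtOver.bc hi.1).obj E ⟶ W),
      IsAff E ∧ e ∈ Set.range h.hom.left.left := fun e => by
    obtain ⟨p, x, hp, hx, -⟩ := StalkPoint.exists_point_through W e
    obtain ⟨E, v, h, hE, hv⟩ := exists_affine_bc_nbhd hi hY hp x
    exact ⟨E, h, hE, hx ▸ StalkPoint.range_of_map h hv⟩
  choose E h hE he using key
  exact ⟨W.obj.left.left, E, h, hE, fun e => ⟨e, he e⟩⟩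

theorem mapSec_ext_bc (M : ModEt X) {W : EtOver X} {ι : Type u} {E : ι → EtOver Y}
    (h : ∀ j, (EtOver.bc hi.1).obj (E j) ⟶ W) (hc : ∀ e, ∃ j, e ∈ Set.range (h j).hom.left.left) (s t : Sec M W)
    (he : ∀ j, mapSec M (h j) s = mapSec M (h j) t) : s = t := mapSec_ext M h hc s t he

include hX hY in
theorem faithful_pushModEt : (pushModEt hi.1).Faithful := ⟨fun {F G} => @fun a b e => by
  haveI := (fullyFaithful_ab hX hY (repWith_integral hi) (repWith_univInj hi)).2
  have h1 : (pushEt hi.1 AddCommGrpCat.{u + 1}).map ((toAbEt X).map a) =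
      (pushEt hi.1 AddCommGrpCat.{u + 1}).map ((toAbEt X).map b) := congrArg ((toAbEt Y).map ·) e
  exact (toAbEt X).map_injective ((pushEt hi.1 AddCommGrpCat.{u + 1}).map_injective h1)⟩

include hY in
theorem linear_of_push {F G : ModEt X} (ψ : (pushModEt hi.1).obj F ⟶ (pushModEt hi.1).obj G)
    (a : F.val.presheaf ⟶ G.val.presheaf)
    (ha : ∀ (E : EtOver Y) (s : Sec F (EtOver.bcObj hi.1 E)),
      a.app (op (EtOver.bcObj hi.1 E)) s = secMap ψ E (show Sec ((pushModEt hi.1).obj F) E from s))
    (W : EtOver X) (r : ΓE W) (s : Sec F W) :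
    (show Sec G W from a.app (op W) (r • s)) = r • (show Sec G W from a.app (op W) s) := by
  obtain ⟨ι, E, h, hE, hc⟩ := exists_bc_cover hi hY W
  refine mapSec_ext_bc hi G h hc (show Sec G W from a.app (op W) (r • s))
    (r • (show Sec G W from a.app (op W) s)) fun j => ?_
  haveI := hE j
  obtain ⟨r', hr'⟩ := surjective_bcΓ_closed hi (E j) ((ΓMap (h j)).hom r)
  have nat : ∀ t : Sec F W, mapSec G (h j) (show Sec G W from a.app (op W) t) =
      (show Sec G _ from a.app (op ((EtOver.bc hi.1).obj (E j))) (mapSec F (h j) t)) := fun t =>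
    (NatTrans.naturality_apply a (h j).op t).symm
  rw [nat, mapSec_smul, mapSec_smul, nat]
  refine (congrArg (fun z => (show Sec G (EtOver.bcObj hi.1 (E j)) from
    a.app (op (EtOver.bcObj hi.1 (E j))) (z • mapSec F (h j) s))) hr'.symm).trans ?_
  refine (ha (E j) (bcΓ hi.1 (E j) r' • mapSec F (h j) s)).trans ?_
  refine ((secMap ψ (E j)).map_smul r' (show Sec ((pushModEt hi.1).obj F) (E j) from mapSec F (h j) s)).trans ?_
  refine (congrArg (fun z : Sec ((pushModEt hi.1).obj G) (E j) => r' • z) (ha (E j) (mapSec F (h j) s)).symm).trans ?_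
  exact congrArg (· • (show Sec G (EtOver.bcObj hi.1 (E j)) from
    a.app (op (EtOver.bcObj hi.1 (E j))) (mapSec F (h j) s))) hr'

include hX hY in
theorem full_pushModEt : (pushModEt hi.1).Full := ⟨fun {F G} ψ => by
  haveI := (fullyFaithful_ab hX hY (repWith_integral hi) (repWith_univInj hi)).1
  obtain ⟨a, ha⟩ := (pushEt hi.1 AddCommGrpCat.{u + 1}).map_surjective (X := (toAbEt X).obj F)
    (Y := (toAbEt X).obj G) ((toAbEt Y).map ψ)
  have ha' : ∀ (E : EtOver Y) (s : Sec F (EtOver.bcObj hi.1 E)),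
      a.hom.app (op (EtOver.bcObj hi.1 E)) s = secMap ψ E (show Sec ((pushModEt hi.1).obj F) E from s) :=
    fun E s => congrArg (fun φ => (φ.hom.app (op E)) s) ha
  refine ⟨⟨PresheafOfModules.homMk a.hom fun U r m => linear_of_push hi hY ψ a.hom ha' U.unop r m⟩, ?_⟩
  refine SheafOfModules.hom_ext (PresheafOfModules.hom_ext fun E => ModuleCat.hom_ext (LinearMap.ext fun s => ?_))
  exact ha' E.unop s⟩

end Groth.Agent.AlgSpLib.QCohEt
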