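import Mathlib.RingTheory.Flat.Basic
import Mathlib.RingTheory.Finiteness.Basic
import Mathlib.RingTheory.TensorProduct.Finite
import Mathlib.Algebra.Module.FinitePresentation

/-!
Approximating a module by a finitely presented one with the same localisations.
-/

universe v

open TensorProduct

noncomputable section

set_option linter.style.haveILetI false

namespace Groth.Agent.AlgSpLib.FPApprox

variable {R : Type v} [CommRing R] (M : Type v) [AddCommGroup M] [Module R M]

/-- finitely many elements generate a base change of finite type -/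
theorem exists_finset_span (B : Type v) [CommRing B] [Algebra R B] [Module.Finite B (B ⊗[R] M)] :
    ∃ t : Finset M, Submodule.span B ((fun m => (1 : B) ⊗ₜ[R] m) '' (t : Set M)) = ⊤ := by
  classical
  have key : ∀ y : B ⊗[R] M, ∃ t : Finset M, y ∈ Submodule.span B ((fun m => (1 : B) ⊗ₜ[R] m) '' (t : Set M)) := by
    intro y
    induction y using TensorProduct.induction_on with
    | zero => exact ⟨∅, zero_mem _⟩
    | tmul b m =>
      refine ⟨{m}, ?_⟩
      rw [show b ⊗ₜ[R] m = b • ((1 : B) ⊗ₜ[R] m) by rw [TensorProduct.smul_tmul', smul_eq_mul, mul_one]]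
      exact Submodule.smul_mem _ _ (Submodule.subset_span ⟨m, Finset.mem_singleton_self m, rfl⟩)
    | add a b ha hb =>
      obtain ⟨T, hT⟩ := ha
      obtain ⟨T', hT'⟩ := hb
      exact ⟨T ∪ T', add_mem (Submodule.span_mono (Set.image_mono (by simp)) hT)
        (Submodule.span_mono (Set.image_mono (by simp)) hT')⟩
  obtain ⟨G, hG⟩ := (Module.Finite.fg_top : (⊤ : Submodule B (B ⊗[R] M)).FG)
  choose t ht using key
  refine ⟨G.biUnion t, top_le_iff.1 (hG ▸ Submodule.span_le.2 fun y hy => ?_)⟩
  exact Submodule.span_mono (Set.image_mono (Finset.coe_subset.2 (Finset.subset_biUnion_of_mem t hy))) (ht y)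

/-- finitely presented approximation -/
theorem exists_fp_approx {κ : Type*} [Finite κ] (B : κ → Type v) [∀ k, CommRing (B k)] [∀ k, Algebra R (B k)]
    [∀ k, Module.Flat R (B k)] (h : ∀ k, Module.FinitePresentation (B k) (B k ⊗[R] M)) (s : Finset M) :
    ∃ (N : Type v) (_ : AddCommGroup N) (_ : Module R N) (_ : Module.FinitePresentation R N) (g : N →ₗ[R] M),
      (↑s : Set M) ⊆ Set.range g ∧ ∀ k, Function.Bijective (LinearMap.lTensor (B k) g) := by
  classical
  haveI := Fintype.ofFinite κ
  haveI : ∀ k, Module.FinitePresentation (B k) (B k ⊗[R] M) := h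
  choose t ht using fun k => exists_finset_span M (B k) (R := R)
  let T : Finset M := s ∪ Finset.univ.biUnion t
  let f : (↥T → R) →ₗ[R] M := Fintype.linearCombination R (fun m : ↥T => (m : M))
  have hTf : ∀ m ∈ T, m ∈ Set.range f := fun m hm => ⟨Pi.single ⟨m, hm⟩ 1, by
    simp [f, Fintype.linearCombination_apply_single]⟩
  have hsurj : ∀ k, Function.Surjective (f.baseChange (B k)) := fun k => by
    rw [← LinearMap.range_eq_top, ← top_le_iff, ← ht k, Submodule.span_le]
    rintro _ ⟨m, hm, rfl⟩
    obtain ⟨x, hx⟩ := hTf m (Finset.mem_union_right _ (Finset.mem_biUnion.2 ⟨k, Finset.mem_univ k, hm⟩))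
    exact ⟨(1 : B k) ⊗ₜ[R] x, by rw [LinearMap.baseChange_tmul, hx]⟩
  have hker : ∀ k, ∃ G : Finset ↥(LinearMap.ker f),
      (LinearMap.ker (f.baseChange (B k)) : Submodule (B k) _) ≤
        Submodule.span (B k) ((fun x : ↥(LinearMap.ker f) => (1 : B k) ⊗ₜ[R] (x : ↥T → R)) '' (G : Set _)) := by
    intro k
    obtain ⟨gens, hgens⟩ := Module.FinitePresentation.fg_ker (f.baseChange (B k)) (hsurj k)
    have key : ∀ y : B k ⊗[R] ↥(LinearMap.ker f), ∃ G : Finset ↥(LinearMap.ker f),
        LinearMap.lTensor (B k) (LinearMap.ker f).subtype y ∈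
          Submodule.span (B k) ((fun x : ↥(LinearMap.ker f) => (1 : B k) ⊗ₜ[R] (x : ↥T → R)) '' (G : Set _)) := by
      intro y
      induction y using TensorProduct.induction_on with
      | zero => exact ⟨∅, by rw [map_zero]; exact zero_mem _⟩
      | tmul b x =>
        refine ⟨{x}, ?_⟩
        rw [LinearMap.lTensor_tmul, Submodule.subtype_apply,
          show b ⊗ₜ[R] (x : ↥T → R) = b • ((1 : B k) ⊗ₜ[R] (x : ↥T → R)) by
            rw [TensorProduct.smul_tmul', smul_eq_mul, mul_one]]
        exact Submodule.smul_mem _ _ (Submodule.subset_span ⟨x, Finset.mem_singleton_self x, rfl⟩)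
      | add a b ha hb =>
        obtain ⟨A, hA⟩ := ha
        obtain ⟨A', hA'⟩ := hb
        exact ⟨A ∪ A', by
          rw [map_add]
          exact add_mem (Submodule.span_mono (Set.image_mono (by simp)) hA)
            (Submodule.span_mono (Set.image_mono (by simp)) hA')⟩
    have hz : ∀ z ∈ gens, ∃ G : Finset ↥(LinearMap.ker f),
        z ∈ Submodule.span (B k) ((fun x : ↥(LinearMap.ker f) => (1 : B k) ⊗ₜ[R] (x : ↥T → R)) '' (G : Set _)) := by
      intro z hz
      have h0 : f.baseChange (B k) z = 0 := by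
        rw [← LinearMap.mem_ker, ← hgens]
        exact Submodule.subset_span hz
      rw [LinearMap.baseChange_eq_ltensor] at h0
      obtain ⟨y, rfl⟩ := (Module.Flat.lTensor_exact (B k) (LinearMap.exact_subtype_ker_map f) z).1 h0
      exact key y
    choose G hG using hz
    refine ⟨gens.attach.biUnion fun z => G z.1 z.2, hgens ▸ Submodule.span_le.2 fun z hz => ?_⟩
    exact Submodule.span_mono (Set.image_mono (Finset.coe_subset.2
      (Finset.subset_biUnion_of_mem (fun z : ↥gens => G z.1 z.2) (Finset.mem_attach gens ⟨z, hz⟩)))) (hG z hz)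
  choose G hG using hker
  let K' : Submodule R (↥T → R) := Submodule.span R ↑((Finset.univ.biUnion G).image Subtype.val)
  have hK' : K' ≤ LinearMap.ker f := Submodule.span_le.2 fun x hx => by
    obtain ⟨y, -, rfl⟩ := Finset.mem_image.1 (Finset.mem_coe.1 hx)
    exact y.2
  let g : ((↥T → R) ⧸ K') →ₗ[R] M := K'.liftQ f hK'
  haveI : Module.FinitePresentation R ((↥T → R) ⧸ K') :=
    Module.finitePresentation_of_surjective K'.mkQ K'.mkQ_surjective (by rw [Submodule.ker_mkQ]; exact ⟨_, rfl⟩)
  refine ⟨_, inferInstance, inferInstance, inferInstance, g, fun m hm => ?_, fun k => ?_⟩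
  · obtain ⟨x, hx⟩ := hTf m (Finset.mem_union_left _ hm)
    exact ⟨K'.mkQ x, hx⟩
  have hq := LinearMap.lTensor_surjective (B k) K'.mkQ_surjective
  have hcomp : ∀ y, LinearMap.lTensor (B k) g (LinearMap.lTensor (B k) K'.mkQ y) = f.baseChange (B k) y := fun y => by
    rw [← LinearMap.comp_apply, ← LinearMap.lTensor_comp, show g.comp K'.mkQ = f from K'.liftQ_mkQ f hK']
    exact (congrFun (LinearMap.baseChange_eq_ltensor (A := B k) f) y).symm
  refine ⟨(injective_iff_map_eq_zero _).2 fun x hx => ?_, fun z => ?_⟩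
  · obtain ⟨y, rfl⟩ := hq x
    have hy : y ∈ LinearMap.ker (f.baseChange (B k)) := LinearMap.mem_ker.2 ((hcomp y).symm.trans hx)
    have h0 : Submodule.span (B k) ((fun x : ↥(LinearMap.ker f) => (1 : B k) ⊗ₜ[R] (x : ↥T → R)) '' (G k : Set _)) ≤
        LinearMap.ker (K'.mkQ.baseChange (B k)) := Submodule.span_le.2 (by
      rintro _ ⟨x, hx, rfl⟩
      have : K'.mkQ (x : ↥T → R) = 0 := (Submodule.Quotient.mk_eq_zero _).2 (Submodule.subset_span
        (Finset.mem_coe.2 (Finset.mem_image.2 ⟨x, Finset.mem_biUnion.2 ⟨k, Finset.mem_univ k, hx⟩, rfl⟩)))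
      simp only [SetLike.mem_coe, LinearMap.mem_ker, LinearMap.baseChange_tmul, this, TensorProduct.tmul_zero])
    exact (congrFun (LinearMap.baseChange_eq_ltensor (A := B k) K'.mkQ) y).symm.trans
      (LinearMap.mem_ker.1 (h0 (hG k hy)))
  · obtain ⟨y, hy⟩ := hsurj k z
    exact ⟨_, (hcomp y).trans hy⟩

end Groth.Agent.AlgSpLib.FPApprox
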