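import Groth.Agent.AlgSpLib.SerreAffineRel
import Groth.Agent.AlgSpLib.ProperImage
import Groth.Agent.AlgSpLib.MorProper

/-!
The ring of invariant functions on an affine atlas and functions on fibre products with the atlas.
-/

universe u

open CategoryTheory CategoryTheory.Limits AlgebraicGeometry Opposite TensorProduct
open AlgSp

noncomputable section

set_option linter.style.haveILetI false

namespace Groth.Agent.AlgSpLib.SerreAff

open Groth.Agent.AlgSpLib Groth.Agent.AlgSpLib.QCohEt

set_option backward.isDefEq.respectTransparency.types false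
set_option backward.isDefEq.respectTransparency false

variable {S : Scheme.{u}}

section general

variable {X : Sp S} (E₀ : EtOver X)

/-- functions on the atlas -/
abbrev chartRing : Type u := Γ(E₀.obj.left.left, ⊤)

/-- the invariant functions on the atlas -/
def invRing : Subring (chartRing E₀) :=
  RingHom.eqLocus (EtOver.prodFst E₀ E₀).hom.left.left.appTop.hom (EtOver.prodSnd E₀ E₀).hom.left.left.appTop.hom

variable {E₀}

theorem mapSec_eq_of_compat (M : ModEt X) (t : Sec M E₀)
    (ht : mapSec M (EtOver.prodFst E₀ E₀) t = mapSec M (EtOver.prodSnd E₀ E₀) t) {P : EtOver X}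
    (a b : P ⟶ E₀) : mapSec M a t = mapSec M b t := by
  let l : P ⟶ EtOver.prodObj E₀ E₀ := (EtOver.prodIsLimit E₀ E₀).lift (BinaryFan.mk a b)
  have h1 : l ≫ EtOver.prodFst E₀ E₀ = a :=
    (EtOver.prodIsLimit E₀ E₀).fac (BinaryFan.mk a b) ⟨WalkingPair.left⟩
  have h2 : l ≫ EtOver.prodSnd E₀ E₀ = b :=
    (EtOver.prodIsLimit E₀ E₀).fac (BinaryFan.mk a b) ⟨WalkingPair.right⟩
  rw [← h1, ← h2, mapSec_comp, mapSec_comp, ht]

variable (hs : RepWith @Surjective E₀.obj.hom)

include hs in
theorem cover_prodFst (E : EtOver X) (x : E.obj.left.left) :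
    ∃ _ : PUnit.{1}, x ∈ Set.range (EtOver.prodFst E E₀).hom.left.left := by
  haveI : Surjective (E₀.property.1.snd E.obj.hom).left :=
    hs.property _ _ _ (E₀.property.1.isPullback E.obj.hom)
  exact ⟨⟨⟩, (E₀.property.1.snd E.obj.hom).left.surjective x⟩

include hs in
/-- global sections are the invariant sections on the atlas -/
theorem exists_glob_of_compat (M : ModEt X) (t : Sec M E₀)
    (ht : mapSec M (EtOver.prodFst E₀ E₀) t = mapSec M (EtOver.prodSnd E₀ E₀) t) :
    ∃ s : Glob M, s.1 E₀ = t := by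
  choose s hs' using fun E : EtOver X => exists_mapSec_eq M (fun _ : PUnit.{1} => EtOver.prodFst E E₀)
    (cover_prodFst hs E) (fun _ => mapSec M (EtOver.prodSnd E E₀) t) (fun _ _ => by
      rw [← mapSec_comp, ← mapSec_comp]
      exact mapSec_eq_of_compat M t ht _ _)
  have key : ∀ (E P : EtOver X) (a : P ⟶ E) (b : P ⟶ E₀), mapSec M a (s E) = mapSec M b t := fun E P a b => by
    refine mapSec_ext M (fun _ : PUnit.{1} => EtOver.prodFst P E₀) (cover_prodFst hs P) _ _ fun _ => ?_
    let k : EtOver.prodObj P E₀ ⟶ EtOver.prodObj E E₀ :=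
      (EtOver.prodIsLimit E E₀).lift (BinaryFan.mk (EtOver.prodFst P E₀ ≫ a) (EtOver.prodSnd P E₀))
    have hk : k ≫ EtOver.prodFst E E₀ = EtOver.prodFst P E₀ ≫ a :=
      (EtOver.prodIsLimit E E₀).fac _ ⟨WalkingPair.left⟩
    rw [← mapSec_comp, ← mapSec_comp, ← hk, mapSec_comp, hs' E ⟨⟩, ← mapSec_comp]
    exact mapSec_eq_of_compat M t ht _ _
  refine ⟨⟨s, fun E E' g => ?_⟩, ?_⟩
  · refine mapSec_ext M (fun _ : PUnit.{1} => EtOver.prodFst E' E₀) (cover_prodFst hs E') _ _ fun _ => ?_
    rw [← mapSec_comp, key E _ _ (EtOver.prodSnd E' E₀), key E' _ _ (EtOver.prodSnd E' E₀)]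
  · exact (mapSec_id M E₀ (s E₀)).symm.trans ((key E₀ E₀ (𝟙 _) (𝟙 _)).trans (mapSec_id M E₀ t))

include hs in
theorem glob_ext_atlas {M : ModEt X} {s t : Glob M} (h : s.1 E₀ = t.1 E₀) : s = t :=
  Subtype.ext (funext fun E => mapSec_ext M (fun _ : PUnit.{1} => EtOver.prodFst E E₀) (cover_prodFst hs E) _ _
    fun _ => by rw [mapSec_glob, mapSec_glob, ← mapSec_glob s (EtOver.prodSnd E E₀),
      ← mapSec_glob t (EtOver.prodSnd E E₀), h])

theorem gval_mem_invRing (r : Glob (unitModEt X)) : (gval r E₀).down ∈ invRing E₀ :=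
  (congrArg ULift.down ((mapSec_glob r (EtOver.prodFst E₀ E₀)).trans
    (mapSec_glob r (EtOver.prodSnd E₀ E₀)).symm) :)

include hs in
theorem exists_gval_eq (a : invRing E₀) : ∃ r : Glob (unitModEt X), gval r E₀ = ULift.up a.1 :=
  exists_glob_of_compat hs (unitModEt X) (ULift.up a.1) (congrArg ULift.up a.2)

variable {V : Over S} {h : (yon S).obj V ⟶ X} (hh : Representable h)

/-- the scheme of the fibre product with the atlas -/
abbrev chartFib : Scheme.{u} := (EtOver.bcObj hh E₀).obj.left.left

/-- functions on the scheme as functions on the fibre product -/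
def pV : Γ(V.left, ⊤) →+* Γ(chartFib (E₀ := E₀) hh, ⊤) :=
  (toT0 (EtOver.bcObj hh E₀)).hom.left.left.appTop.hom

/-- functions on the atlas as functions on the fibre product -/
def qU : chartRing E₀ →+* Γ(chartFib (E₀ := E₀) hh, ⊤) := (EtOver.bcπ hh E₀).left.appTop.hom

include hs in
theorem injective_pV : Function.Injective (pV (E₀ := E₀) hh) := fun a b hab =>
  congrArg ULift.down (mapSec_ext (unitModEt ((yon S).obj V))
    (fun _ : PUnit.{1} => toT0 (EtOver.bcObj hh E₀)) (fun x => cover_toT0 hh hs x)
    (ULift.up a) (ULift.up b) fun _ => congrArg ULift.up hab)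

include hs in
theorem exists_alpha (a : invRing E₀) : ∃ v, pV (E₀ := E₀) hh v = qU hh a.1 := by
  obtain ⟨r, hr⟩ := exists_gval_eq hs a
  let t : Glob ((pushModEt hh).obj (unitModEt ((yon S).obj V))) :=
    ⟨fun E => bcΓ hh E (gval r E), fun E E' g =>
      (ConcreteCategory.congr_hom ((bcRingHom hh).hom.naturality g.op) (gval r E)).symm.trans
        (congrArg (bcΓ hh E') (mapSec_glob r g))⟩
  obtain ⟨t₀, ht₀⟩ := (bijective_pushGlob hh (unitModEt ((yon S).obj V)) (E₀ := E₀) hs).2 t
  refine ⟨(show ΓE (T0 V) from t₀).down, ?_⟩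
  refine congrArg ULift.down ((congrArg (fun n : Glob _ => n.1 E₀) ht₀).trans ?_)
  exact congrArg (bcΓ hh E₀) hr

/-- invariant functions as functions on any scheme over the space -/
def alpha : invRing E₀ →+* Γ(V.left, ⊤) where
  toFun a := (exists_alpha hs hh a).choose
  map_one' := injective_pV hs hh (by rw [(exists_alpha hs hh 1).choose_spec, map_one]; exact map_one _)
  map_mul' a b := injective_pV hs hh (by
    rw [map_mul, (exists_alpha hs hh (a * b)).choose_spec, (exists_alpha hs hh a).choose_spec,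
      (exists_alpha hs hh b).choose_spec]
    exact map_mul _ _ _)
  map_zero' := injective_pV hs hh (by rw [(exists_alpha hs hh 0).choose_spec, map_zero]; exact map_zero _)
  map_add' a b := injective_pV hs hh (by
    rw [map_add, (exists_alpha hs hh (a + b)).choose_spec, (exists_alpha hs hh a).choose_spec,
      (exists_alpha hs hh b).choose_spec]
    exact map_add _ _ _)

theorem pV_alpha (a : invRing E₀) : pV (E₀ := E₀) hh (alpha hs hh a) = qU hh a.1 :=
  (exists_alpha hs hh a).choose_spec

end general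

section space

variable [QuasiSeparatedSpace ↥S] (X : AlgSp.Space S) (hqc : IsQuasiCompactSp X.obj)
  (hqs : IsQuasiSeparatedSp X.obj) (h1 : H1Vanish X.obj) (E₀ : EtOver X.obj) [IsAff E₀]
  (hs : RepWith @Surjective E₀.obj.hom) {V : Over S} [IsAffine V.left] (h : (yon S).obj V ⟶ X.obj)

omit [QuasiSeparatedSpace ↥S] in
theorem isSeparatedMor_chart : IsSeparatedMor h := by
  have hT : IsTerminal ((yon S).obj (Over.mk (𝟙 S))) := IsTerminal.isTerminalObj (yon S) _ Over.mkIdTerminal
  refine isSeparatedMor_of_comp (q := hT.from X.obj) ?_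
  let l : V ⟶ Over.mk (𝟙 S) := Over.homMk V.hom
  rw [show h ≫ hT.from X.obj = (yon S).map l from hT.hom_ext _ _]
  exact (isSeparatedMor_yon_map_iff l).2 (inferInstanceAs (IsSeparated V.hom))

include hqs in
theorem isQuasiCompactMor_chart : IsQuasiCompactMor h := by
  have hT : IsTerminal ((yon S).obj (Over.mk (𝟙 S))) := IsTerminal.isTerminalObj (yon S) _ Over.mkIdTerminal
  refine isQuasiCompactMor_cancel (IsAlgSpace.yon_obj V) X.property (IsAlgSpace.yon_obj _)
    (g := hT.from X.obj) ?_ ((isQuasiSeparatedMor_iff_sp _).2 hqs)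
  exact isQuasiCompactMor_to_terminal (IsAlgSpace.yon_obj V)
    ⟨V, 𝟙 _, repWith_id _ V, repWith_id _ V, inferInstance⟩ _

include hqc hqs in
theorem isQuasicoherent_push_unit :
    ((pushModEt (X.property.representable_from_yon h)).obj (unitModEt ((yon S).obj V))).IsQuasicoherent :=
  isQuasicoherent_of_forall _ fun E hE =>
    haveI := hE
    isBC_push_qcqs (X.property.representable_from_yon h) (M := unitModEt ((yon S).obj V))
      (isQuasiCompactMor_chart X hqs h) (isQuasiSeparatedMor_of_isSeparatedMor (isSeparatedMor_chart X h)) E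

include hqc hqs h1 hs in
/-- functions on the fibre product are sums of products -/
theorem exists_sum_eq (w : Γ(chartFib (E₀ := E₀) (X.property.representable_from_yon h), ⊤)) :
    ∃ (n : ℕ) (v : Fin n → Γ(V.left, ⊤)) (b : Fin n → chartRing E₀),
      w = ∑ i, pV (X.property.representable_from_yon h) (v i) * qU (X.property.representable_from_yon h) (b i) := by
  let hh := X.property.representable_from_yon h
  let F := (pushModEt hh).obj (unitModEt ((yon S).obj V))
  haveI : F.IsQuasicoherent := isQuasicoherent_push_unit X hqc hqs h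
  obtain ⟨n, c, t, ht⟩ := Submodule.mem_span_set'.1
    ((span_glob_eq_top X hqc hqs h1 F E₀).symm ▸ Submodule.mem_top (x := (show Sec F E₀ from ULift.up w)))
  choose s hs' using fun i : Fin n => (t i).2
  choose v hv using fun i : Fin n => (bijective_pushGlob hh (unitModEt ((yon S).obj V)) hs).2 (s i)
  refine ⟨n, fun i => (show ΓE (T0 V) from v i).down, fun i => (c i).down, ?_⟩
  let D : ΓE (EtOver.bcObj hh E₀) →+* Γ(chartFib (E₀ := E₀) hh, ⊤) := ULift.ringEquiv.toRingHom
  refine (congrArg D ht.symm).trans ((map_sum D.toAddMonoidHom _ _).trans (Finset.sum_congr rfl fun i _ => ?_))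
  rw [← hs' i, ← hv i]
  exact mul_comm _ _

include hqc hqs h1 in
/-- the relations on the fibre product come from the invariant functions -/
theorem sum_tmul_eq_zero {n : ℕ} (v : Fin n → Γ(V.left, ⊤)) (b : Fin n → chartRing E₀)
    (he : ∑ i, pV (X.property.representable_from_yon h) (v i) * qU (X.property.representable_from_yon h) (b i) = 0) :
    letI := (alpha hs (X.property.representable_from_yon h)).toAlgebra
    ∑ i, v i ⊗ₜ[invRing E₀] b i = 0 := by
  let hh := X.property.representable_from_yon h
  letI := (alpha hs hh).toAlgebra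
  let F := (pushModEt hh).obj (unitModEt ((yon S).obj V))
  haveI : F.IsQuasicoherent := isQuasicoherent_push_unit X hqc hqs h
  let g : Fin n → Glob F := fun i => pushGlob hh (unitModEt ((yon S).obj V)) (ULift.up (v i))
  let D : ΓE (EtOver.bcObj hh E₀) →+* Γ(chartFib (E₀ := E₀) hh, ⊤) := ULift.ringEquiv.toRingHom
  have hval : ∀ (e : Fin n → ΓE E₀),
      D (∑ i, e i • (g i).1 E₀ : Sec F E₀) = ∑ i, pV hh (v i) * qU hh (e i).down := fun e =>
    (map_sum D.toAddMonoidHom _ _).trans (Finset.sum_congr rfl fun i _ => mul_comm _ _)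
  obtain ⟨m, c, r, hr, hb⟩ := exists_relations X hqc hqs h1 F g E₀ (fun i => ULift.up (b i))
    (ULift.ext _ _ ((hval _).trans he))
  let a : Fin m → Fin n → invRing E₀ := fun k i => ⟨(gval (r k i) E₀).down, gval_mem_invRing (r k i)⟩
  have ha : ∀ k, ∑ i, a k i • v i = 0 := fun k => injective_pV hs hh (by
    rw [map_zero, map_sum]
    refine Eq.trans (Finset.sum_congr rfl fun i _ => ?_)
      ((hval fun i => gval (r k i) E₀).symm.trans ((congrArg D (hr k E₀)).trans (map_zero D)))
    rw [Algebra.smul_def, map_mul, mul_comm]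
    exact congrArg (pV hh (v i) * ·) (pV_alpha hs hh (a k i)))
  let c' : Fin m → chartRing E₀ := fun k => (c k).down
  have hb' : ∀ i, b i = ∑ k, a k i • c' k := fun i => by
    refine (congrArg (ULift.ringEquiv : ΓE E₀ ≃+* chartRing E₀) (hb i)).trans ?_
    rw [map_sum]
    exact Finset.sum_congr rfl fun k _ => (map_mul _ _ _).trans (mul_comm _ _)
  simp only [hb', TensorProduct.tmul_sum, ← TensorProduct.smul_tmul]
  rw [Finset.sum_comm]
  simp only [← TensorProduct.sum_tmul, ha, TensorProduct.zero_tmul, Finset.sum_const_zero]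

end space

end Groth.Agent.AlgSpLib.SerreAff
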