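import Groth.Agent.AlgSpLib.QCohEtFPQuot
import Groth.Agent.AlgSpLib.SerreAffineChart

/-!
Replacing a module by a finitely presented one on an etale chart: the third step.
-/

universe u

open CategoryTheory CategoryTheory.Limits AlgebraicGeometry Opposite TensorProduct
open AlgSp

noncomputable section

set_option linter.style.haveILetI false

namespace Groth.Agent.AlgSpLib.QCohEt

open Groth.Agent.AlgSpLib.SerreAff LocMod

set_option backward.isDefEq.respectTransparency.types false
set_option backward.isDefEq.respectTransparency false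

variable {S : Scheme.{u}}

section

variable {X : Sp S} {V : Over S} {f : (yon S).obj V ⟶ X} (hje : IsEtaleMor f)

/-- sections of a restriction, as sections on the big space -/
def resEquiv (G : ModEt X) (W : EtOver ((yon S).obj V)) :
    Sec G ((EtOver.postcomp f hje).obj W) ≃+ Sec ((resPost hje).obj G) W :=
  { resMk hje G W with
    invFun := fun m => m
    left_inv := fun _ => rfl
    right_inv := fun _ => rfl }

theorem finitePresentation_resPost (G : ModEt X) (W : EtOver ((yon S).obj V))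
    (h : Module.FinitePresentation (ΓE ((EtOver.postcomp f hje).obj W)) (Sec G ((EtOver.postcomp f hje).obj W))) :
    Module.FinitePresentation (ΓE W) (Sec ((resPost hje).obj G) W) := by
  haveI : Module.FinitePresentation (ΓE W) (Sec G ((EtOver.postcomp f hje).obj W)) := h
  exact Module.FinitePresentation.of_equiv
    ({ resEquiv hje G W with map_smul' := fun r m => resMk_smul hje G W r m } :
      Sec G ((EtOver.postcomp f hje).obj W) ≃ₗ[ΓE W] Sec ((resPost hje).obj G) W)

theorem finitePresentation_chart [IsAffine V.left] {G : ModEt X} {N : ModuleCat.{u + 1} (ΓE (T0 V))}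
    (e : Sec G ((EtOver.postcomp f hje).obj (T0 V)) →+ Sec (mod N) (T0 V)) (he : Function.Bijective e)
    (he1 : ∀ (r : ΓE ((EtOver.postcomp f hje).obj (T0 V))) x, e (r • x) = (show ΓE (T0 V) from r) • e x)
    (hN : Module.FinitePresentation (ΓE (T0 V)) N) :
    Module.FinitePresentation (ΓE ((EtOver.postcomp f hje).obj (T0 V))) (Sec G ((EtOver.postcomp f hje).obj (T0 V))) := by
  have e' : ∀ a : ΓE (T0 V), (ΓMap (toT0 (T0 V))).hom a = a := fun a => by
    rw [hom_T0_ext (toT0 (T0 V)) (𝟙 _)]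
    exact ConcreteCategory.congr_hom ((OEt ((yon S).obj V)).obj.map_id (op (T0 V))) a
  let ε : ↑N ≃ₗ[ΓE (T0 V)] Sec (mod N) (T0 V) := LinearEquiv.ofBijective
    { toFun := gen (T0 V)
      map_add' := map_add (gen (T0 V))
      map_smul' := fun r n => (gen_smul (T0 V) r n).trans (congrArg (· • gen (T0 V) n) (e' r)) } bijective_gen
  haveI := hN
  haveI : Module.FinitePresentation (ΓE (T0 V)) (Sec (mod N) (T0 V)) := Module.FinitePresentation.of_equiv ε
  letI : Module (ΓE (T0 V)) (Sec G ((EtOver.postcomp f hje).obj (T0 V))) :=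
    inferInstanceAs (Module (ΓE ((EtOver.postcomp f hje).obj (T0 V))) (Sec G ((EtOver.postcomp f hje).obj (T0 V))))
  exact Module.FinitePresentation.of_equiv (R := ΓE (T0 V))
    (LinearEquiv.ofBijective ({ e with map_smul' := he1 } :
      Sec G ((EtOver.postcomp f hje).obj (T0 V)) →ₗ[ΓE (T0 V)] Sec (mod N) (T0 V)) he).symm

end

/-- bijectivity of a map out of an attached module, from its base change -/
theorem bijective_secMap_of_lTensor {V : Over S} [IsAffine V.left] {M : ModEt ((yon S).obj V)} [M.IsQuasicoherent]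
    {N : ModuleCat.{u + 1} (ΓE (T0 V))} (g : ↑N →ₗ[ΓE (T0 V)] Sec M (T0 V)) (πV : mod N ⟶ M)
    (h : ∀ n, secMap πV (T0 V) (gen (T0 V) n) = g n) (W : Over (T0 V)) [IsAff W.left]
    (hb : Function.Bijective (LinearMap.lTensor (ΓE W.left) g)) : Function.Bijective (secMap πV W.left) := by
  haveI hT : IsAff (T0 V) := ‹IsAffine V.left›
  haveI := isQuasicoherent_mod (N := N)
  have e : ∀ a : ΓE (T0 V), (ΓMap (toT0 (T0 V))).hom a = a := fun a => by
    rw [hom_T0_ext (toT0 (T0 V)) (𝟙 _)]
    exact ConcreteCategory.congr_hom ((OEt ((yon S).obj V)).obj.map_id (op (T0 V))) a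
  let ε : ↑N ≃ₗ[ΓE (T0 V)] Sec (mod N) (T0 V) := LinearEquiv.ofBijective
    { toFun := gen (T0 V)
      map_add' := map_add (gen (T0 V))
      map_smul' := fun r n => (gen_smul (T0 V) r n).trans (congrArg (· • gen (T0 V) n) (e r)) } bijective_gen
  have hg : (secMap πV (T0 V)).comp ε.toLinearMap = g := LinearMap.ext h
  have hl : Function.Bijective (LinearMap.lTensor (ΓE W.left) (secMap πV (T0 V))) := by
    rw [← hg, LinearMap.lTensor_comp, LinearMap.coe_comp] at hb
    exact (Function.Bijective.of_comp_iff _ (ε.lTensor (ΓE W.left)).bijective).1 hb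
  have hbc : ⇑(secMap πV W.left) ∘ ⇑(bcMap (mod N) (T0 V) W) =
      ⇑(bcMap M (T0 V) W) ∘ ⇑(LinearMap.lTensor (ΓE W.left) (secMap πV (T0 V))) :=
    funext fun x => bcMap_natural πV (T0 V) W x
  refine (Function.Bijective.of_comp_iff _ (isBC (mod N) (T0 V) W inferInstance)).1 ?_
  rw [hbc]
  exact (isBC M (T0 V) W inferInstance).comp hl

/-- bijectivity from an affine covering -/
theorem bijective_secMap_of_cover {X : Sp S} {A B : ModEt X} [A.IsQuasicoherent] [B.IsQuasicoherent] (φ : A ⟶ B)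
    {E : EtOver X} [IsAff E] {ι : Type} [Finite ι] {Z : ι → EtOver X} [∀ j, IsAff (Z j)] (g : ∀ j, Z j ⟶ E)
    (hc : ∀ x, ∃ j, x ∈ Set.range (g j).hom.left.left) (h : ∀ j, Function.Bijective (secMap φ (Z j))) :
    Function.Bijective (secMap φ E) :=
  ⟨fun a b hab => mapSec_ext A g hc a b fun j => (h j).1 (by rw [← mapSec_secMap, ← mapSec_secMap, hab]),
    surjective_secMap_of_cover φ g hc fun j => (h j).2⟩

/-- the locus of a chart, on the site of the chart -/
theorem exists_chart_cover [QuasiSeparatedSpace ↥S] {X : Sp S} (hX : IsAlgSpace X) (hs : IsQuasiSeparatedSp X)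
    {O : Set (Points X)} (hOo : IsOpen O) (hOc : IsCompact O) {V : Over S} [IsAffine V.left]
    {f : (yon S).obj V ⟶ X} (hje : IsEtaleMor f) :
    ∃ (κ : Type) (_ : Finite κ) (D : κ → EtOver ((yon S).obj V)), (∀ k, IsAff (D k)) ∧
      (∀ k, Over' O ((EtOver.postcomp f hje).obj (D k))) ∧
      ∀ (Z : EtOver ((yon S).obj V)), Over' O ((EtOver.postcomp f hje).obj Z) → IsAff Z → ∀ z : Z.obj.left.left,
        ∃ k, z ∈ Set.range (EtOver.pullbackFst (toT0 Z) (toT0 (D k))).hom.left.left := by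
  let Vo := (EtOver.postcomp f hje).obj (T0 V)
  haveI : IsAff Vo := ‹IsAffine V.left›
  obtain ⟨κ, hκ, D, d, hD, cD, hdc⟩ := coversLocus_over hX hs hOo hOc Vo
  let D' : κ → EtOver ((yon S).obj V) := fun k => EtOver.mk ((yon S).map (d k).hom.left) (by
    haveI := EtOver.etale_left (d k)
    exact (repWith_yon_map_iff (P := @Etale) _).2 inferInstance)
  have hD' : ∀ k, (toT0 (D' k)).hom.left = (d k).hom.left := fun k =>
    (yon S).map_injective (map_toT0 (D' k))
  let c : ∀ k, (EtOver.postcomp f hje).obj (D' k) ⟶ D k := fun k => EtOver.homMk (𝟙 (D k).obj.left) (by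
    refine (congrArg (· ≫ (D k).obj.hom) ((yon S).map_id _)).trans ((Category.id_comp _).trans ?_)
    refine (EtOver.w (d k)).symm.trans ?_
    exact congrArg ((yon S).map (d k).hom.left ≫ ·) (Category.id_comp f))
  refine ⟨κ, hκ, D', hD, fun k => down_over O (c k) (cD k), fun Z cZ hZ z => ?_⟩
  obtain ⟨k, t, ht⟩ := hdc _ hZ cZ ((EtOver.postcomp f hje).map (toT0 Z)) z
  refine ⟨k, exists_mem_range_pullbackFst (toT0 Z) (toT0 (D' k)) z ⟨t, ?_⟩⟩
  exact (congrArg (fun q : (D k).obj.left ⟶ V => q.left t) (hD' k)).trans ht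

/-- a finitely presented approximation on an affine scheme -/
theorem exists_fp_module {V : Over S} [IsAffine V.left] (M : ModEt ((yon S).obj V)) [M.IsQuasicoherent]
    {κ : Type} [Finite κ] (D : κ → EtOver ((yon S).obj V)) [∀ k, IsAff (D k)]
    (h : ∀ k, Module.FinitePresentation (ΓE (D k)) (Sec M (D k))) (s : Finset (Sec M (T0 V))) :
    ∃ (N : ModuleCat.{u + 1} (ΓE (T0 V))) (_ : Module.FinitePresentation (ΓE (T0 V)) N)
      (g : ↑N →ₗ[ΓE (T0 V)] Sec M (T0 V)) (πV : mod N ⟶ M), (↑s : Set (Sec M (T0 V))) ⊆ Set.range g ∧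
      (∀ n, secMap πV (T0 V) (gen (T0 V) n) = g n) ∧ ∀ k, Function.Bijective (secMap πV (D k)) := by
  haveI hT : IsAff (T0 V) := ‹IsAffine V.left›
  let W : κ → Over (T0 V) := fun k => Over.mk (toT0 (D k))
  haveI hW : ∀ k, IsAff (W k).left := fun k => (inferInstance : IsAff (D k))
  haveI : ∀ k, Module.Flat (ΓE (T0 V)) (ΓE (W k).left) := fun k => flat_ΓMap (W k).hom
  obtain ⟨N, _, _, hN, g, hsg, hgb⟩ := FPApprox.exists_fp_approx (Sec M (T0 V)) (fun k => (ΓE (W k).left : Type (u + 1)))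
    (fun k => by
      haveI : Module.FinitePresentation (ΓE (W k).left) (Sec M (W k).left) := h k
      exact Module.FinitePresentation.of_equiv (bcEquiv M (T0 V) (W k)).symm) s
  obtain ⟨πV, hπ⟩ := LocMod.exists_desc (N := ModuleCat.of (ΓE (T0 V)) N) M g
  have hπ0 : ∀ n, secMap πV (T0 V) (gen (T0 V) n) = g n := fun n => (hπ (T0 V) hT n).trans
    ((congrArg (fun t => mapSec M t (g n)) (hom_T0_ext (toT0 (T0 V)) (𝟙 (T0 V)))).trans (QCohEt.mapSec_id M (T0 V) (g n)))
  refine ⟨ModuleCat.of (ΓE (T0 V)) N, hN, g, πV, hsg, hπ0, fun k => ?_⟩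
  exact bijective_secMap_of_lTensor (N := ModuleCat.of (ΓE (T0 V)) N) (M := M) g πV hπ0 (W k) (hgb k)

/-- finite presentation on a chart -/
theorem exists_fp_chart [QuasiSeparatedSpace ↥S] {X : AlgSp.Space S} (hqs : IsQuasiSeparatedSp X.obj)
    {G F : ModEt X.obj} [G.IsQuasicoherent] [F.IsQuasicoherent] [F.IsFiniteType] (φ : G ⟶ F)
    {O : Set (Points X.obj)} (hOo : IsOpen O) (hOc : IsCompact O) {V : Over S} [IsAffine V.left]
    {f : (yon S).obj V ⟶ X.obj} (hje : IsEtaleMor f) (hu : Induct.Uniq O f) (hφ : FPSurj φ O)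
    (hs : Function.Surjective (secMap φ ((EtOver.postcomp f hje).obj (T0 V)))) :
    ∃ (G₃ : ModEt X.obj) (_ : G₃.IsQuasicoherent) (φ₃ : G₃ ⟶ F), FPSurj φ₃ O ∧
      Module.FinitePresentation (ΓE ((EtOver.postcomp f hje).obj (T0 V)))
        (Sec G₃ ((EtOver.postcomp f hje).obj (T0 V))) ∧
      Function.Surjective (secMap φ₃ ((EtOver.postcomp f hje).obj (T0 V))) := by
  classical
  haveI hT : IsAff (T0 V) := ‹IsAffine V.left›
  haveI : IsAff ((EtOver.postcomp f hje).obj (T0 V)) := ‹IsAffine V.left›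
  haveI := isQuasicoherent_resPost hje G
  obtain ⟨κ, hκ, D, hD, cD, hDc⟩ := exists_chart_cover X.property hqs hOo hOc hje
  haveI := hD
  let M := (resPost hje).obj G
  -- generators
  haveI := finite_sec F ((EtOver.postcomp f hje).obj (T0 V))
  obtain ⟨T, hT'⟩ := (Module.Finite.fg_top :
    (⊤ : Submodule (ΓE ((EtOver.postcomp f hje).obj (T0 V))) (Sec F ((EtOver.postcomp f hje).obj (T0 V)))).FG)
  choose v hv using hs
  let s : Finset (Sec M (T0 V)) := T.image fun t => resMk hje G (T0 V) (v t)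
  haveI := hκ
  obtain ⟨NN, hNN, g, πV, hsg, hπ0, hb⟩ := exists_fp_module M D
    (fun k => finitePresentation_resPost hje G (D k) (hφ _ (hD k) (cD k)).1) s
  haveI := isQuasicoherent_mod (N := NN)
  have hiso : ∀ Z, IsAff Z → Over' O ((EtOver.postcomp f hje).obj Z) → Function.Bijective (secMap πV Z) := by
    intro Z hZ cZ
    haveI := hZ
    haveI := fun k => isAff_pullbackObj (toT0 Z) (toT0 (D k))
    exact bijective_secMap_of_cover πV (fun k => EtOver.pullbackFst (toT0 Z) (toT0 (D k))) (hDc Z cZ hZ) fun k =>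
      ⟨injective_of_hom πV (EtOver.pullbackSnd (toT0 Z) (toT0 (D k))) (hb k).1,
        surjective_of_hom πV (EtOver.pullbackSnd (toT0 Z) (toT0 (D k))) (hb k).2⟩
  obtain ⟨G₃, hG₃, ψ, hψ, e, he, he1, he2⟩ := exists_modify hje (X.property.representable_from_yon f) πV
    (isQuasiCompactMor_chart X hqs f) (isQuasiSeparatedMor_of_isSeparatedMor (isSeparatedMor_chart X f)) hOo hu hiso
  refine ⟨G₃, hG₃, ψ ≫ φ, fun E hE cE => ?_, ?_, ?_⟩
  · haveI := hE
    haveI := (hφ E hE cE).1
    have hb := hψ E hE cE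
    refine ⟨Module.FinitePresentation.of_equiv (LinearEquiv.ofBijective (secMap ψ E) hb).symm, fun m => ?_⟩
    obtain ⟨w, rfl⟩ := (hφ E hE cE).2 m
    obtain ⟨x, rfl⟩ := hb.2 w
    exact ⟨x, secMap_comp ψ φ E x⟩
  · exact finitePresentation_chart hje e he he1 hNN
  · rw [← LinearMap.range_eq_top, ← top_le_iff, ← hT', Submodule.span_le]
    intro t ht
    obtain ⟨n, hn⟩ := hsg (Finset.mem_coe.2 (Finset.mem_image_of_mem (fun t => resMk hje G (T0 V) (v t)) ht))
    obtain ⟨x, hx⟩ := he.2 (gen (T0 V) n)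
    refine ⟨x, (secMap_comp ψ φ _ x).trans ((congrArg (secMap φ _) ?_).trans (hv t))⟩
    exact (he2 x).symm.trans ((congrArg (secMap πV (T0 V)) hx).trans ((hπ0 n).trans hn))

end Groth.Agent.AlgSpLib.QCohEt
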