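import Groth.Agent.AlgSpLib.QCohEtFPMain

/-!
Finite type quasi-coherent modules as colimits of finitely presented modules with surjective transition maps.
-/

universe u

open CategoryTheory CategoryTheory.Limits AlgebraicGeometry Opposite TensorProduct
open AlgSp

noncomputable section

set_option linter.style.haveILetI false

namespace Groth.Agent.AlgSpLib.QCohEt

open Groth.Agent.AlgSpLib.SerreAff

set_option backward.isDefEq.respectTransparency.types false
set_option backward.isDefEq.respectTransparency false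

variable {S : Scheme.{u}} {X : Sp S}

theorem QSub.ext_P {F : ModEt X} {Q Q' : QSub F} (h : Q.P = Q'.P) : Q = Q' := by
  cases Q
  cases Q'
  cases h
  rfl

variable {G : ModEt X} {K : ModEt X} (ι : K ⟶ G) [K.IsQuasicoherent]

/-- the quotient by a submodule of the relations -/
abbrev relObj (Q : QSub K) : ModEt X := cokernel (Q.incl ≫ ι)

theorem relObj_le_condition (Q Q' : QSub K) (h : ∀ E hE, Q.P E hE ≤ Q'.P E hE) :
    (Q.incl ≫ ι) ≫ cokernel.π (Q'.incl ≫ ι) = 0 := by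
  obtain ⟨l, hl⟩ := exists_lift Q.incl Q'.incl fun E hE => by
    rintro _ ⟨a, rfl⟩
    exact (Q'.range_incl hE).symm.subset (h E hE ((Q.range_incl hE).subset ⟨a, rfl⟩))
  rw [← hl, Category.assoc, Category.assoc, ← Category.assoc Q'.incl, cokernel.condition, comp_zero]

/-- the transition maps -/
def relMap (Q Q' : QSub K) (h : ∀ E hE, Q.P E hE ≤ Q'.P E hE) : relObj ι Q ⟶ relObj ι Q' :=
  cokernel.desc _ (cokernel.π _) (relObj_le_condition ι Q Q' h)

theorem π_relMap (Q Q' : QSub K) (h : ∀ E hE, Q.P E hE ≤ Q'.P E hE) :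
    cokernel.π (Q.incl ≫ ι) ≫ relMap ι Q Q' h = cokernel.π (Q'.incl ≫ ι) :=
  cokernel.π_desc _ _ _

theorem epi_relMap (Q Q' : QSub K) (h : ∀ E hE, Q.P E hE ≤ Q'.P E hE) : Epi (relMap ι Q Q' h) :=
  haveI : Epi (cokernel.π (Q.incl ≫ ι) ≫ relMap ι Q Q' h) := by rw [π_relMap]; infer_instance
  epi_of_epi (cokernel.π (Q.incl ≫ ι)) _

/-- finitely generated submodules of relations -/
def RelIdx (K : ModEt X) : Type (u + 1) := {Q : QSub K // ∀ E hE, (Q.P E hE).FG}

/-- the sections, as an ordered family -/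
def RelIdx.fam {K : ModEt X} (q : RelIdx K) (E : EtOver X) (h : PLift (IsAff E)) : Submodule (ΓE E) (Sec K E) :=
  q.1.P E h.down

instance (K : ModEt X) : PartialOrder (RelIdx K) :=
  PartialOrder.lift RelIdx.fam fun a b h => Subtype.ext (QSub.ext_P (funext fun E => funext fun hE =>
    congrFun (congrFun h E) ⟨hE⟩))

omit [K.IsQuasicoherent] in
theorem RelIdx.le_P {K : ModEt X} {a b : RelIdx K} (h : a ≤ b) (E : EtOver X) (hE : IsAff E) :
    a.1.P E hE ≤ b.1.P E hE := h E ⟨hE⟩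

omit [K.IsQuasicoherent] in
instance instDirectedRelIdx (K : ModEt X) : IsDirected (RelIdx K) (· ≤ ·) := ⟨fun a b =>
  ⟨⟨QSub.iSup fun t : Bool => bif t then a.1 else b.1, fun E hE => by
      show (⨆ t : Bool, (bif t then a.1 else b.1).P E hE).FG
      rw [iSup_bool_eq]
      exact (a.2 E hE).sup (b.2 E hE)⟩,
    fun E hE => le_iSup (fun t : Bool => (bif t then a.1 else b.1).P E hE.down) true,
    fun E hE => le_iSup (fun t : Bool => (bif t then a.1 else b.1).P E hE.down) false⟩⟩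

/-- the system of quotients -/
def relD : RelIdx K ⥤ ModEt X where
  obj q := relObj ι q.1
  map {a b} h := relMap ι a.1 b.1 (RelIdx.le_P (leOfHom h))
  map_id a := (cancel_epi (cokernel.π (a.1.incl ≫ ι))).1 (by rw [π_relMap]; exact (Category.comp_id _).symm)
  map_comp {a b c} h h' := (cancel_epi (cokernel.π (a.1.incl ≫ ι))).1 (by
    rw [π_relMap, ← Category.assoc, π_relMap, π_relMap])

variable {M : ModEt X} {φ : G ⟶ M} (hφ : ι ≫ φ = 0)

/-- the cocone to the quotient by all relations -/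
def relC : relD ι ⟶ (Functor.const (RelIdx K)).obj M where
  app q := cokernel.desc (q.1.incl ≫ ι) φ (by rw [Category.assoc, hφ, comp_zero])
  naturality a b h := (cancel_epi (cokernel.π (a.1.incl ≫ ι))).1 (by
    show cokernel.π (a.1.incl ≫ ι) ≫ relMap ι a.1 b.1 (RelIdx.le_P (leOfHom h)) ≫ cokernel.desc (b.1.incl ≫ ι) φ _ =
      cokernel.π (a.1.incl ≫ ι) ≫ cokernel.desc (a.1.incl ≫ ι) φ _ ≫ 𝟙 M
    rw [← Category.assoc, π_relMap, cokernel.π_desc, Category.comp_id, cokernel.π_desc])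

theorem nonempty_isColimit_relC [Epi φ] [Nonempty (RelIdx K)]
    (hker : ∀ {Y : ModEt X} (g : G ⟶ Y), ι ≫ g = 0 → ∃ f : M ⟶ Y, φ ≫ f = g)
    (hex : ∀ E (hE : IsAff E) (z : Sec K E), ∃ q : RelIdx K, z ∈ q.1.P E hE) :
    Nonempty (IsColimit (Cocone.mk M (relC ι hφ))) := by
  obtain ⟨q₀⟩ := (inferInstance : Nonempty (RelIdx K))
  have key : ∀ s : Cocone (relD ι), ∃ f : M ⟶ s.pt, ∀ q, (relC ι hφ).app q ≫ f = s.ι.app q := by
    intro s
    obtain ⟨g, hg₀⟩ : ∃ g : G ⟶ s.pt, g = cokernel.π (q₀.1.incl ≫ ι) ≫ s.ι.app q₀ := ⟨_, rfl⟩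
    have hg : ∀ q : RelIdx K, cokernel.π (q.1.incl ≫ ι) ≫ s.ι.app q = g := by
      intro q
      obtain ⟨r, hr1, hr2⟩ := (instDirectedRelIdx K).directed q q₀
      have e : ∀ {a : RelIdx K} (h : a ≤ r), cokernel.π (a.1.incl ≫ ι) ≫ s.ι.app a =
          cokernel.π (r.1.incl ≫ ι) ≫ s.ι.app r := fun {a} h => by
        rw [← s.w (homOfLE h), ← Category.assoc]
        exact congrArg (· ≫ s.ι.app r) (π_relMap ι a.1 r.1 (RelIdx.le_P h))
      exact (e hr1).trans ((e hr2).symm.trans hg₀.symm)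
    have hz : ι ≫ g = 0 := SerreChev.eq_zero_of_affine _ fun E hE z => by
      obtain ⟨q, hq⟩ := hex E hE z
      obtain ⟨w, hw⟩ := (q.1.range_incl hE).symm.subset hq
      have h0 : (q.1.incl ≫ ι) ≫ g = 0 := by rw [← hg q, ← Category.assoc, cokernel.condition, zero_comp]
      exact (congrArg (secMap (ι ≫ g) E) hw.symm).trans ((secMap_comp q.1.incl (ι ≫ g) E w).symm.trans
        ((secMap_eq ((Category.assoc _ _ _).symm.trans h0) E w).trans (secMap_zero_hom E w)))
    obtain ⟨f, hf⟩ := hker g hz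
    refine ⟨f, fun q => (cancel_epi (cokernel.π (q.1.incl ≫ ι))).1 ?_⟩
    show cokernel.π (q.1.incl ≫ ι) ≫ cokernel.desc (q.1.incl ≫ ι) φ _ ≫ f = _
    rw [← Category.assoc, cokernel.π_desc, hf]
    exact (hg q).symm
  choose f hf using key
  refine ⟨{ desc := f, fac := hf, uniq := fun s m hm => (cancel_epi φ).1 ?_ }⟩
  have h1 : φ = cokernel.π (q₀.1.incl ≫ ι) ≫ (relC ι hφ).app q₀ := (cokernel.π_desc _ _ _).symm
  rw [h1, Category.assoc, Category.assoc, hf s q₀]
  exact congrArg (cokernel.π (q₀.1.incl ≫ ι) ≫ ·) (hm _)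

/-- finite type modules are colimits of finitely presented ones along surjections -/
theorem exists_fp_colimit [QuasiSeparatedSpace ↥S] {X : AlgSp.Space S} (hqc : IsQuasiCompactSp X.obj)
    (hqs : IsQuasiSeparatedSp X.obj) (M : ModEt X.obj) [M.IsQuasicoherent] [M.IsFiniteType] :
    ∃ (J : Type (u + 1)) (_ : PartialOrder J) (_ : IsDirected J (· ≤ ·)) (_ : Nonempty J)
      (D : J ⥤ ModEt X.obj) (ι : D ⟶ (Functor.const J).obj M),
      Nonempty (IsColimit (Cocone.mk M ι)) ∧ (∀ j, (D.obj j).IsFinitePresentation) ∧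
        ∀ (j j' : J) (h : j ⟶ j'), Epi (D.map h) := by
  obtain ⟨G, hG, hGfp, φ, hfp, hsurj, hepi⟩ := exists_fp_quotient hqc hqs M
  haveI := hepi
  haveI := isQuasicoherent_kernel φ
  obtain ⟨Q₀, hQ₀, -⟩ := exists_fg_containing hqc hqs (kernel φ) (ι := PEmpty.{1})
    (fun i => i.elim) (fun i => i.elim) (fun i => i.elim)
  haveI : Nonempty (RelIdx (kernel φ)) := ⟨⟨Q₀, hQ₀⟩⟩
  have hex : ∀ E (hE : IsAff E) (z : Sec (kernel φ) E), ∃ q : RelIdx (kernel φ), z ∈ q.1.P E hE := fun E hE z => by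
    obtain ⟨Q, hQ, hQz⟩ := exists_fg_containing hqc hqs (kernel φ) (ι := PUnit.{1}) (fun _ => E) (fun _ => hE)
      (fun _ => z)
    exact ⟨⟨Q, hQ⟩, hQz ⟨⟩⟩
  refine ⟨RelIdx (kernel φ), inferInstance, inferInstance, inferInstance, relD (kernel.ι φ),
    relC (kernel.ι φ) (kernel.condition φ),
    nonempty_isColimit_relC (kernel.ι φ) (kernel.condition φ) (fun g hg => ⟨Abelian.epiDesc φ g hg, Abelian.comp_epiDesc φ g hg⟩) hex,
    fun q => ?_, fun a b h => epi_relMap (kernel.ι φ) a.1 b.1 (RelIdx.le_P (leOfHom h))⟩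
  haveI := q.1.isQuasicoherent_obj
  haveI : ((relD (kernel.ι φ)).obj q).IsQuasicoherent := isQuasicoherent_cokernel (q.1.incl ≫ kernel.ι φ)
  refine isFinitePresentation_of_forall _ (fun E hE => by haveI := hE; exact isBC _ E) fun E hE => ?_
  haveI := hE
  haveI := hfp E hE
  haveI := QSub.finite_obj q.1 E (q.2 E hE)
  exact finitePresentation_coker (q.1.incl ≫ kernel.ι φ) E

end Groth.Agent.AlgSpLib.QCohEt
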