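import Groth.Agent.AlgSpLib.QCohEtFPColim

/-!
Quasi-coherent modules as filtered colimits of finitely presented modules.
-/

universe u

open CategoryTheory CategoryTheory.Limits AlgebraicGeometry Opposite TensorProduct
open AlgSp

noncomputable section

set_option linter.style.haveILetI false

namespace Groth.Agent.AlgSpLib.QCohEt

open Groth.Agent.AlgSpLib.SerreAff

set_option backward.isDefEq.respectTransparency.types false
set_option backward.isDefEq.respectTransparency false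

variable {S : Scheme.{u}} {X : Sp S}

section biproduct

variable {ι : Type (u + 1)} [Fintype ι] (f : ι → ModEt X)

theorem isQuasicoherent_biproduct' [∀ i, (f i).IsQuasicoherent] : (⨁ f).IsQuasicoherent := by
  let e := (Fintype.equivFin ι).symm
  haveI : ∀ i, ((f ∘ e) i).IsQuasicoherent := fun i => inferInstanceAs ((f (e i)).IsQuasicoherent)
  exact ObjectProperty.prop_of_iso (SheafOfModules.isQuasicoherent (OEtRing X)) (biproduct.whiskerEquiv e (g := f) (fun i => Iso.refl ((f ∘ e) i)))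
    (isQuasicoherent_biproduct (f ∘ e))

theorem sum_secMap_ι_π' (E : EtOver X) (x : Sec (⨁ f) E) :
    ∑ i, secMap (biproduct.ι f i) E (secMap (biproduct.π f i) E x) = x := by
  have h1 : ∀ i, secMap (biproduct.ι f i) E (secMap (biproduct.π f i) E x) =
      secMap (biproduct.π f i ≫ biproduct.ι f i) E x := fun i => (secMap_comp _ _ E x).symm
  rw [Finset.sum_congr rfl fun i _ => h1 i, ← secMap_sum_hom]
  have h2 : (∑ i, biproduct.π f i ≫ biproduct.ι f i) = 𝟙 (⨁ f) := by
    classical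
    refine biproduct.hom_ext' _ _ fun j => ?_
    rw [Preadditive.comp_sum, Finset.sum_eq_single j]
    · rw [biproduct.ι_π_self_assoc]; exact (Category.comp_id _).symm
    · exact fun i _ hi => by rw [biproduct.ι_π_ne_assoc f (Ne.symm hi), zero_comp]
    · exact fun h => absurd (Finset.mem_univ j) h
  rw [h2]
  exact secMap_id' E x

theorem secMap_π_ι_self (E : EtOver X) (i : ι) (a : Sec (f i) E) :
    secMap (biproduct.π f i) E (secMap (biproduct.ι f i) E a) = a :=
  (secMap_comp (biproduct.ι f i) (biproduct.π f i) E a).symm.trans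
    ((secMap_eq (biproduct.ι_π_self f i) E a).trans (secMap_id' E a))

theorem secMap_π_ι_ne (E : EtOver X) {i j : ι} (h : i ≠ j) (a : Sec (f i) E) :
    secMap (biproduct.π f j) E (secMap (biproduct.ι f i) E a) = 0 :=
  (secMap_comp (biproduct.ι f i) (biproduct.π f j) E a).symm.trans
    ((secMap_eq (biproduct.ι_π_ne f h) E a).trans (secMap_zero_hom E a))

theorem bijective_pi_π (E : EtOver X) : Function.Bijective (LinearMap.pi fun i => secMap (biproduct.π f i) E) := by
  classical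
  refine ⟨fun x y h => ?_, fun v => ⟨∑ i, secMap (biproduct.ι f i) E (v i), funext fun j => ?_⟩⟩
  · rw [← sum_secMap_ι_π' f E x, ← sum_secMap_ι_π' f E y]
    exact Finset.sum_congr rfl fun i _ => congrArg (secMap (biproduct.ι f i) E) (congrFun h i)
  · show secMap (biproduct.π f j) E (∑ i, secMap (biproduct.ι f i) E (v i)) = v j
    rw [map_sum, Finset.sum_eq_single j (fun i _ hi => secMap_π_ι_ne f E hi (v i))
      (fun h => absurd (Finset.mem_univ j) h)]
    exact secMap_π_ι_self f E j (v j)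

theorem finitePresentation_biproduct (E : EtOver X) [∀ i, Module.FinitePresentation (ΓE E) (Sec (f i) E)] :
    Module.FinitePresentation (ΓE E) (Sec (⨁ f) E) :=
  Module.FinitePresentation.of_equiv (LinearEquiv.ofBijective _ (bijective_pi_π f E)).symm

end biproduct

/-- a chosen presentation of a finitely generated submodule -/
structure FPCover (M : ModEt X) where
  G : RelIdx M → ModEt X
  qc : ∀ a, (G a).IsQuasicoherent
  fp : ∀ a E, IsAff E → Module.FinitePresentation (ΓE E) (Sec (G a) E)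
  p : ∀ a, G a ⟶ M
  surj : ∀ a E (hE : IsAff E) (m : Sec M E), m ∈ a.1.P E hE → ∃ v, secMap (p a) E v = m

namespace FPCover

variable {M : ModEt X} (C : FPCover M)

instance (a : RelIdx M) : (C.G a).IsQuasicoherent := C.qc a

/-- the finite sums -/
def GA (A : Finset (RelIdx M)) : ModEt X := ⨁ fun a : A => C.G a.1

instance (A : Finset (RelIdx M)) : (C.GA A).IsQuasicoherent := isQuasicoherent_biproduct' _

/-- the map to the module -/
def pA (A : Finset (RelIdx M)) : C.GA A ⟶ M := biproduct.desc fun a => C.p a.1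

/-- the inclusions of finite sums -/
def tA {A B : Finset (RelIdx M)} (h : A ⊆ B) : C.GA A ⟶ C.GA B :=
  biproduct.desc fun a => biproduct.ι (fun b : B => C.G b.1) ⟨a.1, h a.2⟩

theorem tA_pA {A B : Finset (RelIdx M)} (h : A ⊆ B) : C.tA h ≫ C.pA B = C.pA A :=
  biproduct.hom_ext' _ _ fun a => by simp [tA, pA]

theorem tA_comp {A B D : Finset (RelIdx M)} (h : A ⊆ B) (h' : B ⊆ D) : C.tA h ≫ C.tA h' = C.tA (h.trans h') :=
  biproduct.hom_ext' _ _ fun a => by simp [tA]

theorem tA_refl (A : Finset (RelIdx M)) : C.tA (subset_refl A) = 𝟙 (C.GA A) :=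
  biproduct.hom_ext' _ _ fun a => by simp [tA, GA]

/-- the relations -/
abbrev KA (A : Finset (RelIdx M)) : ModEt X := kernel (C.pA A)

/-- the inclusions of relations -/
def sA {A B : Finset (RelIdx M)} (h : A ⊆ B) : C.KA A ⟶ C.KA B :=
  kernel.lift _ (kernel.ι (C.pA A) ≫ C.tA h) (by rw [Category.assoc, tA_pA, kernel.condition])

/-- indices: a finite family and finitely many relations -/
def Idx : Type (u + 1) := Σ A : Finset (RelIdx M), RelIdx (C.KA A)

variable [M.IsQuasicoherent]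

instance (A : Finset (RelIdx M)) : (C.KA A).IsQuasicoherent := isQuasicoherent_kernel _

/-- the order on indices -/
def Le (i j : C.Idx) : Prop :=
  ∃ h : i.1 ⊆ j.1, ((i.2.1.incl ≫ kernel.ι (C.pA i.1)) ≫ C.tA h) ≫ cokernel.π (j.2.1.incl ≫ kernel.ι (C.pA j.1)) = 0

theorem le_refl' (i : C.Idx) : C.Le i i :=
  ⟨subset_refl _, by rw [tA_refl, Category.comp_id]; exact cokernel.condition _⟩

/-- the transition maps -/
def mapD {i j : C.Idx} (h : C.Le i j) : relObj (kernel.ι (C.pA i.1)) i.2.1 ⟶ relObj (kernel.ι (C.pA j.1)) j.2.1 :=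
  cokernel.desc _ (C.tA h.1 ≫ cokernel.π _) (by rw [← Category.assoc]; exact h.2)

theorem π_mapD {i j : C.Idx} (h : C.Le i j) :
    cokernel.π (i.2.1.incl ≫ kernel.ι (C.pA i.1)) ≫ C.mapD h =
      C.tA h.1 ≫ cokernel.π (j.2.1.incl ≫ kernel.ι (C.pA j.1)) :=
  cokernel.π_desc _ _ _

theorem le_trans' {i j k : C.Idx} (h : C.Le i j) (h' : C.Le j k) : C.Le i k := by
  refine ⟨h.1.trans h'.1, ?_⟩
  rw [← tA_comp C h.1 h'.1, Category.assoc, Category.assoc, Category.assoc, ← π_mapD C h', ← Category.assoc (C.tA h.1),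
    ← π_mapD C h, ← Category.assoc, ← Category.assoc, ← Category.assoc, cokernel.condition, zero_comp, zero_comp]

instance : Preorder C.Idx where
  le := C.Le
  le_refl := C.le_refl'
  le_trans _ _ _ := C.le_trans'

/-- the system -/
def D : C.Idx ⥤ ModEt X where
  obj i := relObj (kernel.ι (C.pA i.1)) i.2.1
  map {i j} h := C.mapD (leOfHom h)
  map_id i := (cancel_epi (cokernel.π (i.2.1.incl ≫ kernel.ι (C.pA i.1)))).1 (by
    rw [π_mapD, tA_refl, Category.id_comp]; exact (Category.comp_id _).symm)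
  map_comp {i j k} h h' := (cancel_epi (cokernel.π (i.2.1.incl ≫ kernel.ι (C.pA i.1)))).1 (by
    rw [π_mapD, ← Category.assoc, π_mapD, Category.assoc, π_mapD, ← Category.assoc, tA_comp])

/-- the components of the cocone -/
def cApp (i : C.Idx) : relObj (kernel.ι (C.pA i.1)) i.2.1 ⟶ M :=
  cokernel.desc (i.2.1.incl ≫ kernel.ι (C.pA i.1)) (C.pA i.1) (by
    rw [Category.assoc, kernel.condition, comp_zero])

theorem π_cApp (i : C.Idx) : cokernel.π (i.2.1.incl ≫ kernel.ι (C.pA i.1)) ≫ C.cApp i = C.pA i.1 :=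
  cokernel.π_desc _ _ _

theorem mapD_cApp {i j : C.Idx} (h : C.Le i j) : C.mapD h ≫ C.cApp j = C.cApp i :=
  (cancel_epi (cokernel.π (i.2.1.incl ≫ kernel.ι (C.pA i.1)))).1
    ((Category.assoc _ _ _).symm.trans ((congrArg (· ≫ C.cApp j) (C.π_mapD h)).trans
      ((Category.assoc _ _ _).trans ((congrArg (C.tA h.1 ≫ ·) (C.π_cApp j)).trans
        ((C.tA_pA h.1).trans (C.π_cApp i).symm)))))

/-- the cocone -/
def c : C.D ⟶ (Functor.const C.Idx).obj M where
  app i := C.cApp i
  naturality i j h := (C.mapD_cApp (leOfHom h)).trans (Category.comp_id _).symm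

theorem isFinitePresentation_D (i : C.Idx) : (C.D.obj i).IsFinitePresentation := by
  haveI := i.2.1.isQuasicoherent_obj
  haveI : (C.D.obj i).IsQuasicoherent := isQuasicoherent_cokernel (i.2.1.incl ≫ kernel.ι (C.pA i.1))
  refine isFinitePresentation_of_forall _ (fun E hE => by haveI := hE; exact isBC _ E) fun E hE => ?_
  haveI := hE
  haveI := fun a : i.1 => C.fp a.1 E hE
  haveI : Module.FinitePresentation (ΓE E) (Sec (C.GA i.1) E) := finitePresentation_biproduct _ E
  haveI := QSub.finite_obj i.2.1 E (i.2.2 E hE)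
  exact finitePresentation_coker (i.2.1.incl ≫ kernel.ι (C.pA i.1)) E

theorem isDirected_Idx : IsDirected C.Idx (· ≤ ·) := by
  classical
  refine ⟨fun i j => ?_⟩
  haveI := i.2.1.isQuasicoherent_obj
  haveI := j.2.1.isQuasicoherent_obj
  haveI := QSub.isFiniteType_obj i.2.1 i.2.2
  haveI := QSub.isFiniteType_obj j.2.1 j.2.2
  have hi : i.1 ⊆ i.1 ∪ j.1 := Finset.subset_union_left
  have hj : j.1 ⊆ i.1 ∪ j.1 := Finset.subset_union_right
  let R₁ := QSub.image (i.2.1.incl ≫ C.sA hi)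
  let R₂ := QSub.image (j.2.1.incl ≫ C.sA hj)
  let R : RelIdx (C.KA (i.1 ∪ j.1)) := ⟨QSub.iSup fun t : Bool => bif t then R₁ else R₂, fun E hE => by
      show (⨆ t : Bool, (bif t then R₁ else R₂).P E hE).FG
      rw [iSup_bool_eq]
      exact (QSub.fg_image _ E hE).sup (QSub.fg_image _ E hE)⟩
  have key : ∀ {A : Finset (RelIdx M)} (h : A ⊆ i.1 ∪ j.1) (Q : QSub (C.KA A)) (_ : Q.obj.IsQuasicoherent),
      (∀ E hE, LinearMap.range (secMap (Q.incl ≫ C.sA h) E) ≤ R.1.P E hE) →
      ((Q.incl ≫ kernel.ι (C.pA A)) ≫ C.tA h) ≫ cokernel.π (R.1.incl ≫ kernel.ι (C.pA (i.1 ∪ j.1))) = 0 := by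
    intro A h Q _ hle
    obtain ⟨l, hl⟩ := exists_lift (Q.incl ≫ C.sA h) R.1.incl fun E hE => by
      rintro _ ⟨a, rfl⟩
      exact (R.1.range_incl hE).symm.subset (hle E hE ⟨a, rfl⟩)
    have e : (Q.incl ≫ kernel.ι (C.pA A)) ≫ C.tA h = l ≫ R.1.incl ≫ kernel.ι (C.pA (i.1 ∪ j.1)) := by
      rw [← Category.assoc l, hl, Category.assoc, Category.assoc, sA, kernel.lift_ι]
    rw [e, Category.assoc, cokernel.condition, comp_zero]
  exact ⟨⟨_, R⟩, ⟨hi, key hi i.2.1 inferInstance fun E hE => le_iSup (fun t : Bool => (bif t then R₁ else R₂).P E hE) true⟩,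
    ⟨hj, key hj j.2.1 inferInstance fun E hE => le_iSup (fun t : Bool => (bif t then R₁ else R₂).P E hE) false⟩⟩

end FPCover

section space

variable [QuasiSeparatedSpace ↥S] {X : AlgSp.Space S} (hqc : IsQuasiCompactSp X.obj)
  (hqs : IsQuasiSeparatedSp X.obj) {M : ModEt X.obj} [M.IsQuasicoherent]

include hqc hqs

theorem exists_fpCover : Nonempty (FPCover M) := by
  have h : ∀ a : RelIdx M, ∃ (G : ModEt X.obj) (_ : G.IsQuasicoherent) (p : G ⟶ M),
      (∀ E, IsAff E → Module.FinitePresentation (ΓE E) (Sec G E)) ∧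
      ∀ E (hE : IsAff E) (m : Sec M E), m ∈ a.1.P E hE → ∃ v, secMap p E v = m := fun a => by
    haveI := a.1.isQuasicoherent_obj
    haveI := QSub.isFiniteType_obj a.1 a.2
    obtain ⟨G, hG, -, φ, hfp, hs, -⟩ := exists_fp_quotient hqc hqs a.1.obj
    refine ⟨G, hG, φ ≫ a.1.incl, hfp, fun E hE m hm => ?_⟩
    obtain ⟨w, rfl⟩ := (a.1.range_incl hE).symm.subset hm
    obtain ⟨v, rfl⟩ := hs E hE w
    exact ⟨v, secMap_comp _ _ E v⟩
  choose G hG p hfp hs using h
  exact ⟨⟨G, hG, hfp, p, hs⟩⟩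

theorem exists_mem_relIdx (E : EtOver X.obj) (hE : IsAff E) (m : Sec M E) : ∃ a : RelIdx M, m ∈ a.1.P E hE := by
  obtain ⟨Q, hQ, hQm⟩ := exists_fg_containing hqc hqs M (ι := PUnit.{1}) (fun _ => E) (fun _ => hE) (fun _ => m)
  exact ⟨⟨Q, hQ⟩, hQm ⟨⟩⟩

theorem FPCover.exists_idx (C : FPCover M) (A : Finset (RelIdx M)) : Nonempty (RelIdx (C.KA A)) := by
  obtain ⟨Q, hQ, -⟩ := exists_fg_containing hqc hqs (C.KA A) (ι := PEmpty.{1})
    (fun i => i.elim) (fun i => i.elim) (fun i => i.elim)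
  exact ⟨⟨Q, hQ⟩⟩

theorem FPCover.exists_glob (C : FPCover M) (s : Cocone C.D) :
    ∃ g : ∀ A, C.GA A ⟶ s.pt, (∀ i : C.Idx, cokernel.π (i.2.1.incl ≫ kernel.ι (C.pA i.1)) ≫ s.ι.app i = g i.1) ∧
      (∀ {A B} (h : A ⊆ B), C.tA h ≫ g B = g A) ∧
      ∀ A (E : EtOver X.obj) (v : Sec (C.GA A) E), IsAff E → secMap (C.pA A) E v = 0 → secMap (g A) E v = 0 := by
  let r := fun A => C.exists_idx hqc hqs A
  let g : ∀ A, C.GA A ⟶ s.pt := fun A =>
    cokernel.π ((r A).some.1.incl ≫ kernel.ι (C.pA A)) ≫ s.ι.app ⟨A, (r A).some⟩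
  haveI := C.isDirected_Idx
  have hcomp : ∀ {i k : C.Idx} (h : i ≤ k), cokernel.π (i.2.1.incl ≫ kernel.ι (C.pA i.1)) ≫ s.ι.app i =
      C.tA h.1 ≫ cokernel.π (k.2.1.incl ≫ kernel.ι (C.pA k.1)) ≫ s.ι.app k := fun {i k} h => by
    rw [← s.w (homOfLE h), ← Category.assoc, ← Category.assoc]
    exact congrArg (· ≫ s.ι.app k) (C.π_mapD h)
  have hsame : ∀ i : C.Idx, cokernel.π (i.2.1.incl ≫ kernel.ι (C.pA i.1)) ≫ s.ι.app i = g i.1 := fun i => by
    obtain ⟨k, h1, h2⟩ := C.isDirected_Idx.directed i ⟨i.1, (r i.1).some⟩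
    exact (hcomp h1).trans (hcomp (i := ⟨i.1, (r i.1).some⟩) h2).symm
  refine ⟨g, hsame, fun {A B} h => ?_, fun A E v hE hv => ?_⟩
  · obtain ⟨k, h1, h2⟩ := C.isDirected_Idx.directed ⟨A, (r A).some⟩ ⟨B, (r B).some⟩
    rw [← hsame ⟨B, (r B).some⟩, hcomp h2, ← Category.assoc, tA_comp]
    exact ((hsame ⟨A, (r A).some⟩).symm.trans (hcomp h1)).symm
  · obtain ⟨z, hz⟩ := exists_kernel_lift (C.pA A) E v hv
    obtain ⟨Q, hQ, hQz⟩ := exists_fg_containing hqc hqs (C.KA A) (ι := PUnit.{1}) (fun _ => E) (fun _ => hE)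
      (fun _ => z)
    obtain ⟨w, hw⟩ := (Q.range_incl hE).symm.subset (hQz ⟨⟩)
    have h0 : (Q.incl ≫ kernel.ι (C.pA A)) ≫ g A = 0 := by
      rw [← hsame ⟨A, ⟨Q, hQ⟩⟩, ← Category.assoc, cokernel.condition, zero_comp]
    have hv' : secMap (Q.incl ≫ kernel.ι (C.pA A)) E w = v :=
      (secMap_comp _ _ E w).trans ((congrArg (secMap (kernel.ι (C.pA A)) E) hw).trans hz)
    exact (congrArg (secMap (g A) E) hv'.symm).trans ((secMap_comp _ _ E w).symm.trans
      ((secMap_eq h0 E w).trans (secMap_zero_hom E w)))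

theorem FPCover.exists_rep (C : FPCover M) (E : EtOver X.obj) (hE : IsAff E) (m : Sec M E) :
    ∃ (A : Finset (RelIdx M)) (v : Sec (C.GA A) E), secMap (C.pA A) E v = m := by
  classical
  obtain ⟨a, ha⟩ := exists_mem_relIdx hqc hqs E hE m
  obtain ⟨v, hv⟩ := C.surj a E hE m ha
  let a' : ({a} : Finset (RelIdx M)) := ⟨a, Finset.mem_singleton_self a⟩
  refine ⟨{a}, secMap (biproduct.ι (fun b : ({a} : Finset (RelIdx M)) => C.G b.1) a') E v, ?_⟩
  exact (secMap_comp _ _ E v).symm.trans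
    ((secMap_eq (biproduct.ι_desc (fun b : ({a} : Finset (RelIdx M)) => C.p b.1) a') E v).trans hv)

theorem FPCover.exists_descend (C : FPCover M) (s : Cocone C.D) :
    ∃ f : M ⟶ s.pt, ∀ i, C.c.app i ≫ f = s.ι.app i := by
  classical
  obtain ⟨g, hg, hgt, hg0⟩ := C.exists_glob hqc hqs s
  have wd : ∀ (E : EtOver X.obj), IsAff E → ∀ (A B : Finset (RelIdx M)) (v : Sec (C.GA A) E) (w : Sec (C.GA B) E),
      secMap (C.pA A) E v = secMap (C.pA B) E w → secMap (g A) E v = secMap (g B) E w := by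
    intro E hE A B v w h
    have e : ∀ {A' : Finset (RelIdx M)} (h' : A' ⊆ A ∪ B) (x : Sec (C.GA A') E),
        secMap (g A') E x = secMap (g (A ∪ B)) E (secMap (C.tA h') E x) ∧
          secMap (C.pA A') E x = secMap (C.pA (A ∪ B)) E (secMap (C.tA h') E x) := fun {A'} h' x =>
      ⟨(secMap_eq (hgt h').symm E x).trans (secMap_comp _ _ E x),
        (secMap_eq (C.tA_pA h').symm E x).trans (secMap_comp _ _ E x)⟩
    obtain ⟨e1, e1'⟩ := e Finset.subset_union_left v
    obtain ⟨e2, e2'⟩ := e Finset.subset_union_right w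
    rw [e1, e2, ← sub_eq_zero, ← map_sub]
    exact hg0 _ E _ hE (by rw [map_sub, ← e1', ← e2', h, sub_self])
  choose A v hv using fun (E : EtOver X.obj) (hE : IsAff E) (m : Sec M E) => C.exists_rep hqc hqs E hE m
  obtain ⟨f, hf⟩ := exists_hom_of_affine (A := M) (B := s.pt)
    (fun E hE =>
      { toFun := fun m => secMap (g (A E hE m)) E (v E hE m)
        map_add' := fun m m' => by
          let U := A E hE m ∪ A E hE m'
          have h₁ : A E hE m ⊆ U := Finset.subset_union_left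
          have h₂ : A E hE m' ⊆ U := Finset.subset_union_right
          refine (wd E hE _ U _ (secMap (C.tA h₁) E (v E hE m) + secMap (C.tA h₂) E (v E hE m')) ?_).trans ?_
          · rw [hv, map_add, ← secMap_comp, ← secMap_comp, secMap_eq (C.tA_pA h₁), secMap_eq (C.tA_pA h₂), hv, hv]
          · rw [map_add, ← secMap_comp, ← secMap_comp, secMap_eq (hgt h₁), secMap_eq (hgt h₂)]
        map_smul' := fun r m => (wd E hE _ _ _ (r • v E hE m) (by rw [hv, map_smul, hv])).trans (map_smul _ _ _) })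
    (fun {E W} hE hW k m => by
      show mapSec s.pt k (secMap (g (A E hE m)) E (v E hE m)) = secMap (g (A W hW _)) W (v W hW _)
      rw [mapSec_secMap]
      refine wd W hW _ _ _ _ ?_
      rw [← mapSec_secMap, hv, hv])
  refine ⟨f, fun i => (cancel_epi (cokernel.π (i.2.1.incl ≫ kernel.ι (C.pA i.1)))).1 ?_⟩
  show cokernel.π _ ≫ C.cApp i ≫ f = _
  rw [← Category.assoc, π_cApp, hg i]
  refine sub_eq_zero.1 (SerreChev.eq_zero_of_affine _ fun E hE x => ?_)
  have h1 : secMap (C.pA i.1 ≫ f) E x = secMap (g i.1) E x :=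
    (secMap_comp _ f E x).trans ((hf E hE _).trans (wd E hE _ _ _ x (hv E hE _)))
  show secMap (C.pA i.1 ≫ f - g i.1) E x = 0
  rw [sub_eq_add_neg, secMap_add_hom, h1, ← secMap_add_hom, add_neg_cancel]
  exact secMap_zero_hom E x

theorem FPCover.nonempty_isColimit (C : FPCover M) : Nonempty (IsColimit (Cocone.mk M C.c)) := by
  choose f hf using fun s : Cocone C.D => C.exists_descend hqc hqs s
  refine ⟨{ desc := f, fac := hf, uniq := fun s m hm => ?_ }⟩
  refine sub_eq_zero.1 (SerreChev.eq_zero_of_affine _ fun E hE x => ?_)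
  obtain ⟨A, v, rfl⟩ := C.exists_rep hqc hqs E hE x
  obtain ⟨r⟩ := C.exists_idx hqc hqs A
  have h0 : C.pA A ≫ (m - f s) = 0 := by
    have h1 : C.pA A = cokernel.π (r.1.incl ≫ kernel.ι (C.pA A)) ≫ C.c.app ⟨A, r⟩ := (C.π_cApp ⟨A, r⟩).symm
    rw [h1, Preadditive.comp_sub, Category.assoc, Category.assoc, hf s ⟨A, r⟩]
    exact sub_eq_zero.2 (congrArg (cokernel.π (r.1.incl ≫ kernel.ι (C.pA A)) ≫ ·) (hm _))
  exact secMap_comp_zero h0 E v

/-- quasi-coherent modules are filtered colimits of finitely presented ones -/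
theorem exists_filtered_fp_colimit :
    ∃ (J : Type (u + 1)) (_ : SmallCategory J) (_ : IsFiltered J) (D : J ⥤ ModEt X.obj)
      (ι : D ⟶ (Functor.const J).obj M),
      (∀ j, (D.obj j).IsFinitePresentation) ∧ Nonempty (IsColimit (Cocone.mk M ι)) := by
  obtain ⟨C⟩ := exists_fpCover hqc hqs (M := M)
  haveI := C.isDirected_Idx
  obtain ⟨r⟩ := C.exists_idx hqc hqs ∅
  haveI : Nonempty C.Idx := ⟨⟨∅, r⟩⟩
  exact ⟨C.Idx, inferInstance, inferInstance, C.D, C.c, C.isFinitePresentation_D, C.nonempty_isColimit hqc hqs⟩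

end space

end Groth.Agent.AlgSpLib.QCohEt
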