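import Groth.Agent.AlgSpLib.QCohEtFPQuot

/-!
Extending sections from a compact open: the second step.
-/

universe u

open CategoryTheory CategoryTheory.Limits AlgebraicGeometry Opposite TensorProduct
open AlgSp

noncomputable section

set_option linter.style.haveILetI false

namespace Groth.Agent.AlgSpLib.QCohEt

open Groth.Agent.AlgSpLib.SerreAff

set_option backward.isDefEq.respectTransparency.types false
set_option backward.isDefEq.respectTransparency false

variable {S : Scheme.{u}} {X : Sp S}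

/-- glueing compatible sections over an object of the locus -/
theorem exists_glue_over {G F : ModEt X} (φ : G ⟶ F) {O : Set (Points X)} {Vo W : EtOver X} (pr : W ⟶ Vo)
    (cW : Over' O W) {κ : Type} {D : κ → EtOver X} (d : ∀ k, D k ⟶ Vo)
    (hdc : ∀ (T : EtOver X), IsAff T → Over' O T → ∀ (h : T ⟶ Vo) (t : T.obj.left.left),
      ∃ k, h.hom.left.left t ∈ Set.range (d k).hom.left.left)
    (x : Sec F Vo) (y : ∀ k, Sec G (D k)) (hy : Compat d y) (hx : ∀ k, secMap φ (D k) (y k) = mapSec F (d k) x) :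
    ∃ u : Sec G W, secMap φ W u = mapSec F pr x := by
  have hcov : ∀ w, ∃ k, w ∈ Set.range (EtOver.pullbackFst pr (d k)).hom.left.left := fun w => by
    obtain ⟨ι, Z, g, hZ, hc⟩ := exists_affine_cover W
    obtain ⟨i, t, rfl⟩ := hc w
    obtain ⟨k, hk⟩ := hdc (Z i) (hZ i) (down_over O (g i) cW) (g i ≫ pr) t
    exact ⟨k, exists_mem_range_pullbackFst pr (d k) _ hk⟩
  obtain ⟨u, hu⟩ := exists_mapSec_eq' G (fun k => EtOver.pullbackFst pr (d k)) hcov
    (fun k => mapSec G (EtOver.pullbackSnd pr (d k)) (y k)) fun i k => by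
      let a := EtOver.pullbackFst (EtOver.pullbackFst pr (d i)) (EtOver.pullbackFst pr (d k)) ≫
        EtOver.pullbackSnd pr (d i)
      let b := EtOver.pullbackSnd (EtOver.pullbackFst pr (d i)) (EtOver.pullbackFst pr (d k)) ≫
        EtOver.pullbackSnd pr (d k)
      have hab : a ≫ d i = b ≫ d k := by
        simp only [a, b]
        rw [Category.assoc, Category.assoc, ← EtOver.pullback_condition pr (d i), ← EtOver.pullback_condition pr (d k),
          ← Category.assoc, ← Category.assoc, EtOver.pullback_condition]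
      obtain ⟨l, hl1, hl2⟩ := (EtOver.isPullback (d i) (d k)).exists_lift a b hab
      refine (mapSec_comp G _ _ (y i)).symm.trans (Eq.trans ?_ (mapSec_comp G _ _ (y k)))
      show mapSec G a (y i) = mapSec G b (y k)
      rw [← hl1, ← hl2]
      exact (mapSec_comp G l _ (y i)).trans ((congrArg (mapSec G l) (hy i k)).trans (mapSec_comp G l _ (y k)).symm)
  refine ⟨u, mapSec_ext F (fun k => EtOver.pullbackFst pr (d k)) hcov _ _ fun k => ?_⟩
  refine (mapSec_secMap φ _ u).trans ((congrArg (secMap φ _) (hu k)).trans ?_)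
  refine (mapSec_secMap φ _ (y k)).symm.trans ((congrArg (mapSec F _) (hx k)).trans ?_)
  rw [← mapSec_comp, ← mapSec_comp, EtOver.pullback_condition]

section

variable {U : Sp S} {j : U ⟶ X} (hje : IsEtaleMor j) (hh : Representable j)

/-- naturality of the unit on sections -/
theorem uMap_natural {G F : ModEt X} (φ : G ⟶ F) (E : EtOver X) (m : Sec G E) :
    secMap ((pushModEt hh).map ((resPost hje).map φ)) E (uMap hje hh G E m) = uMap hje hh F E (secMap φ E m) := by
  show secMap φ ((EtOver.postcomp j hje).obj (EtOver.bcObj hh E)) (mapSec G (prE hje hh E) m) =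
    mapSec F (prE hje hh E) (secMap φ E m)
  exact (mapSec_secMap φ (prE hje hh E) m).symm

theorem bijective_pushMk (M : ModEt U) (E : EtOver X) : Function.Bijective (pushMk hh M E) :=
  ⟨fun _ _ h => h, fun y => ⟨y, rfl⟩⟩

theorem bijective_resMk (M : ModEt X) (W : EtOver U) : Function.Bijective (resMk hje M W) :=
  ⟨fun _ _ h => h, fun y => ⟨y, rfl⟩⟩

theorem bijective_uMap (hj : RepWith @IsOpenImmersion j) {E : EtOver X} (cE : Over' (Set.range (Points.map j)) E)
    (M : ModEt X) : Function.Bijective (uMap hje hh M E) := by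
  have h := ((bijective_pushMk hh ((resPost hje).obj M) E).comp (bijective_resMk hje M (EtOver.bcObj hh E))).comp
    (bijective_mapSec_prE hje hj hh cE M)
  have e : ⇑(uMap hje hh M E) = (⇑(pushMk hh ((resPost hje).obj M) E) ∘ ⇑(resMk hje M (EtOver.bcObj hh E))) ∘
      ⇑(mapSec M (prE hje hh E)) := funext fun m => uMap_apply hje hh M E m
  rw [e]
  exact h

theorem secMap_push_resPost {G F : ModEt X} (φ : G ⟶ F) (E : EtOver X)
    (u : Sec G ((EtOver.postcomp j hje).obj (EtOver.bcObj hh E))) :
    secMap ((pushModEt hh).map ((resPost hje).map φ)) E (pushMk hh _ E (resMk hje G (EtOver.bcObj hh E) u)) =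
      pushMk hh _ E (resMk hje F (EtOver.bcObj hh E) (secMap φ _ u)) := rfl

end

/-- enlarging to make lifts global on a chart -/
theorem exists_fill [QuasiSeparatedSpace ↥S] {X : AlgSp.Space S}
    (hqs : IsQuasiSeparatedSp X.obj) {G F : ModEt X.obj} [G.IsQuasicoherent] [F.IsQuasicoherent] (φ : G ⟶ F)
    {O : Set (Points X.obj)} (hOo : IsOpen O) (hOc : IsCompact O) (hφ : FPSurj φ O) {Vo : EtOver X.obj} [IsAff Vo]
    {κ : Type} {D : κ → EtOver X.obj} (d : ∀ k, D k ⟶ Vo)
    (hdc : ∀ (T : EtOver X.obj), IsAff T → Over' O T → ∀ (h : T ⟶ Vo) (t : T.obj.left.left),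
      ∃ k, h.hom.left.left t ∈ Set.range (d k).hom.left.left)
    {n : ℕ} (x : Fin n → Sec F Vo) (hx : Submodule.span (ΓE Vo) (Set.range x) = ⊤)
    (hl : ∀ l, ∃ y : ∀ k, Sec G (D k), Compat d y ∧ ∀ k, secMap φ (D k) (y k) = mapSec F (d k) (x l)) :
    ∃ (G₂ : ModEt X.obj) (_ : G₂.IsQuasicoherent) (φ₂ : G₂ ⟶ F), FPSurj φ₂ O ∧
      Function.Surjective (secMap φ₂ Vo) := by
  let U := openSubspace X.obj O
  let j : U ⟶ X.obj := openSubspaceι X.obj O
  have hal : IsAlgSpace U := isAlgSpace_openSubspace X.property hOo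
  have hj : RepWith @IsOpenImmersion j := repWith_openSubspaceι X.obj hOo
  have hje : IsEtaleMor j := fun _ φ' h' =>
    RepWith.comp h' (RepWith.mono (fun _ _ g (_ : IsOpenImmersion g) => (inferInstance : Etale g)) hj)
  have hr : Set.range (Points.map j) = O := range_openSubspaceι X.obj O
  have hU : IsQuasiCompactSp U := Induct.isQuasiCompactSp_openImm hal X.property hj (hr.symm ▸ hOc)
  have hqcj : IsQuasiCompactMor j := isQuasiCompactMor_of_qc_qs hal X.property j hU hqs
  haveI := Induct.mono_openImm hj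
  have hqsj : IsQuasiSeparatedMor j := isQuasiSeparatedMor_of_mono j
  have hh : Representable j := hj.1
  haveI := isQuasicoherent_resPost hje G
  haveI := isQuasicoherent_resPost hje F
  haveI : ((pushModEt hh).obj ((resPost hje).obj G)).IsQuasicoherent :=
    isQuasicoherent_of_forall _ fun E hE => by haveI := hE; exact isBC_push_qcqs hh _ hqcj hqsj E
  haveI : ((pushModEt hh).obj ((resPost hje).obj F)).IsQuasicoherent :=
    isQuasicoherent_of_forall _ fun E hE => by haveI := hE; exact isBC_push_qcqs hh _ hqcj hqsj E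
  obtain ⟨ηF, hηF⟩ := exists_unit hje hh F
  obtain ⟨G₂, hG₂, p, q, hw, hinj, hsur⟩ := exists_fibre ((pushModEt hh).map ((resPost hje).map φ)) ηF
  have hw' : ∀ E, IsAff E → ∀ s : Sec G₂ E,
      secMap ((pushModEt hh).map ((resPost hje).map φ)) E (secMap p E s) = uMap hje hh F E (secMap q E s) :=
    fun E hE s => ((secMap_comp p _ E s).symm.trans ((secMap_eq hw E s).trans (secMap_comp q ηF E s))).trans
      (hηF E hE _)
  have hsur' : ∀ E, IsAff E → ∀ (t : Sec ((pushModEt hh).obj ((resPost hje).obj G)) E) (v : Sec F E),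
      secMap ((pushModEt hh).map ((resPost hje).map φ)) E t = uMap hje hh F E v →
      ∃ s : Sec G₂ E, secMap p E s = t ∧ secMap q E s = v :=
    fun E hE t v h => hsur E t v (h.trans (hηF E hE v).symm)
  refine ⟨G₂, hG₂, q, fun E hE cE => ?_, ?_⟩
  · haveI := hE
    have cE' : Over' (Set.range (Points.map j)) E := hr.symm ▸ cE
    have bF := bijective_uMap hje hh hj cE' F
    have bG := bijective_uMap hje hh hj cE' G
    have bp : Function.Bijective (secMap p E) := by
      refine ⟨fun s t hst => hinj E s t hst (bF.1 ?_), fun t => ?_⟩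
      · exact (hw' E hE s).symm.trans ((congrArg _ hst).trans (hw' E hE t))
      · obtain ⟨v, hv⟩ := bF.2 (secMap ((pushModEt hh).map ((resPost hje).map φ)) E t)
        obtain ⟨s, hs, -⟩ := hsur' E hE t v hv.symm
        exact ⟨s, hs⟩
    haveI := (hφ E hE cE).1
    refine ⟨Module.FinitePresentation.of_equiv
      ((LinearEquiv.ofBijective (uMap hje hh G E) bG).trans (LinearEquiv.ofBijective (secMap p E) bp).symm),
      fun m => ?_⟩
    obtain ⟨v, rfl⟩ := (hφ E hE cE).2 m
    obtain ⟨s, -, hs⟩ := hsur' E hE (uMap hje hh G E v) (secMap φ E v) (uMap_natural hje hh φ E v)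
    exact ⟨s, hs⟩
  · have cW : Over' O ((EtOver.postcomp j hje).obj (EtOver.bcObj hh Vo)) :=
      hr ▸ over_postcomp hje hj (EtOver.bcObj hh Vo)
    rw [← LinearMap.range_eq_top, ← top_le_iff, ← hx, Submodule.span_le]
    rintro _ ⟨l, rfl⟩
    obtain ⟨y, hy, hyx⟩ := hl l
    obtain ⟨t, ht⟩ := exists_glue_over φ (prE hje hh Vo) cW d hdc (x l) y hy hyx
    obtain ⟨s, -, hs⟩ := hsur' Vo inferInstance (pushMk hh _ Vo (resMk hje G (EtOver.bcObj hh Vo) t)) (x l)
      ((secMap_push_resPost hje hh φ Vo t).trans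
        (congrArg (fun z => pushMk hh _ Vo (resMk hje F (EtOver.bcObj hh Vo) z)) ht))
    exact ⟨s, hs⟩

end Groth.Agent.AlgSpLib.QCohEt
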