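import Groth.Agent.AlgSpLib.SerreChevStep
import Groth.Agent.Stk19b.RedInd
import Groth.Agent.Stk19b.ZarQs
import Groth.Agent.AlgSpLib.NormNagata
import Groth.Agent.AlgSpLib.DenseScheme
import Groth.Agent.AlgSpLib.PointsCompact
import Groth.Agent.AlgSpLib.RedUniv

/-!
Chevalley's theorem: the target of a finite surjective morphism from an affine scheme is affine.
-/

universe u

open CategoryTheory CategoryTheory.Limits AlgebraicGeometry Opposite TopologicalSpace
open AlgSp

noncomputable section

set_option linter.style.haveILetI false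
set_option linter.unusedSectionVars false

namespace Groth.Agent.AlgSpLib.SerreChev

open Groth.Agent.AlgSpLib Groth.Agent.AlgSpLib.QCohEt Groth.Agent.AlgSpLib.SerreAff

set_option backward.isDefEq.respectTransparency.types false
set_option backward.isDefEq.respectTransparency false

variable {S : Scheme.{u}} [QuasiSeparatedSpace ↥S]

theorem epi_of_surjective {X : Sp S} {A B : ModEt X} (f : A ⟶ B)
    (h : ∀ E, IsAff E → Function.Surjective (secMap f E)) : Epi f :=
  Preadditive.epi_of_cancel_zero _ fun g hg => eq_zero_of_affine g fun E hE b => by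
    obtain ⟨a, rfl⟩ := h E hE b
    exact secMap_comp_zero hg E a

/-- enough generic sections with vanishing cohomology give vanishing for all coherent modules -/
theorem v1_of_steps {X : AlgSp.Space S} (hN : IsLocNoethSp X.obj) {E₀ : EtOver X.obj} [IsAff E₀]
    (hs : RepWith @Surjective E₀.obj.hom)
    (hstep : ∀ (C : ModEt X.obj) [C.IsFinitePresentation], ¬ V1 C →
      ∃ Q : QSub C, V1 Q.obj ∧ ∃ (E : EtOver X.obj) (hE : IsAff E) (m : Sec C E), m ≠ 0 ∧ m ∈ Q.P E hE)
    (M : ModEt X.obj) [M.IsFinitePresentation] : V1 M := by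
  haveI := isNoetherianRing_ΓE hN E₀
  haveI := finite_sec_of_fp M E₀
  let s : Set (Submodule (ΓE E₀) (Sec M E₀)) := {N | ∃ (A : ModEt X.obj) (i : A ⟶ M), Mono i ∧
    A.IsFinitePresentation ∧ V1 A ∧ LinearMap.range (secMap i E₀) = N}
  have hne : s.Nonempty := by
    let Q : QSub M := QSub.iSup (fun e : Empty => e.elim)
    have hbot : ∀ (E : EtOver X.obj) (hE : IsAff E), Q.P E hE = ⊥ := fun E hE => by
      show (⨆ e : Empty, (e.elim : QSub M).P E hE) = ⊥
      exact iSup_of_empty _
    obtain ⟨hQ, -⟩ := isFinitePresentation_quotient hN Q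
    refine ⟨_, Q.obj, Q.incl, inferInstance, hQ, v1_of_isZero (isZero_of_forall _ fun E hE a => ?_), rfl⟩
    refine Q.injective_incl E ?_
    have h2 : secMap Q.incl E a ∈ Q.P E hE := (Q.range_incl hE).subset ⟨a, rfl⟩
    rw [hbot E hE, Submodule.mem_bot] at h2
    rw [h2, map_zero]
  obtain ⟨N, ⟨A, i, hi, hA, hA1, hAN⟩, hmax⟩ :=
    set_has_maximal_iff_noetherian.2 (inferInstance : IsNoetherian (ΓE E₀) (Sec M E₀)) s hne
  haveI := hi
  haveI := hA
  haveI : (cokernel i).IsFinitePresentation := isFinitePresentation_cokernel i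
  by_cases hC : V1 (cokernel i)
  · exact v1_of_mono i hA1 hC
  exfalso
  obtain ⟨Q, hQ1, E, hE, m, hm, hmQ⟩ := hstep _ hC
  haveI := Q.isQuasicoherent_obj
  haveI : (cokernel Q.incl).IsQuasicoherent := isQuasicoherent_cokernel Q.incl
  let π := cokernel.π i
  let A' := kernel (π ≫ cokernel.π Q.incl)
  haveI : A'.IsQuasicoherent := isQuasicoherent_kernel _
  let ι : A' ⟶ M := kernel.ι _
  haveI : A'.IsFinitePresentation := fp_of_finite hN A' fun F hF => by
    haveI := hF
    haveI := isNoetherianRing_ΓE hN F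
    haveI := finite_sec_of_fp M F
    exact Module.Finite.of_injective (secMap ι F) (injective_secMap_of_mono ι F)
  let σ : A' ⟶ Q.obj := Abelian.monoLift Q.incl (ι ≫ π) (by rw [Category.assoc]; exact kernel.condition _)
  have hσ : σ ≫ Q.incl = ι ≫ π := Abelian.monoLift_comp ..
  haveI : Epi σ := epi_of_surjective σ fun F hF q => by
    haveI := hF
    obtain ⟨x, hx⟩ := surjective_cokernel_π i F (secMap Q.incl F q)
    have h0 : secMap (π ≫ cokernel.π Q.incl) F x = 0 := by
      rw [secMap_comp, hx]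
      exact secMap_comp_zero (cokernel.condition Q.incl) F q
    obtain ⟨y, hy⟩ := ((ker_sec (kernel.condition (π ≫ cokernel.π Q.incl)) (kernelIsKernel _) F).2 x).1 h0
    refine ⟨y, Q.injective_incl F ?_⟩
    rw [← secMap_comp, secMap_eq hσ, secMap_comp]
    exact (congrArg (secMap π F) hy).trans hx
  let j : A ⟶ A' := kernel.lift _ i (by rw [← Category.assoc, cokernel.condition, zero_comp])
  have hj : j ≫ ι = i := kernel.lift_ι ..
  haveI : Mono (j ≫ ι) := by rw [hj]; infer_instance
  haveI : Mono j := mono_of_mono j ι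
  have hjσ : j ≫ σ = 0 := by
    rw [← cancel_mono Q.incl, Category.assoc, hσ, ← Category.assoc, hj, cokernel.condition, zero_comp]
  have hker : IsLimit (KernelFork.ofι j hjσ) := KernelFork.IsLimit.ofι' j hjσ fun g hg =>
    ⟨Abelian.monoLift i (g ≫ ι) (by rw [Category.assoc, ← hσ, ← Category.assoc, hg, zero_comp]), by
      rw [← cancel_mono ι, Category.assoc, hj, Abelian.monoLift_comp]⟩
  have hA'1 : V1 A' := v1_mid (T := ShortComplex.mk j σ hjσ)
    (ShortComplex.ShortExact.mk (ShortComplex.exact_of_f_is_kernel _ hker)) hA1 hQ1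
  have hle : N ≤ LinearMap.range (secMap ι E₀) := by
    rw [← hAN]
    rintro _ ⟨a, rfl⟩
    exact ⟨secMap j E₀ a, (secMap_comp j ι E₀ a).symm.trans (secMap_eq hj E₀ a)⟩
  refine hmax _ ⟨A', ι, inferInstance, inferInstance, hA'1, rfl⟩ (lt_of_le_of_ne hle fun heq => hm ?_)
  have hσ0 : σ = 0 := eq_zero_of_chart X.property σ hs fun a => Q.injective_incl E₀ (by
    obtain ⟨b, hb⟩ : secMap ι E₀ a ∈ LinearMap.range (secMap i E₀) := by
      rw [hAN, heq]; exact ⟨a, rfl⟩
    rw [map_zero, ← secMap_comp, secMap_eq hσ, secMap_comp, ← hb]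
    exact secMap_comp_zero (cokernel.condition i) E₀ b)
  obtain ⟨q, hq⟩ : m ∈ Set.range (secMap Q.incl E) := by rw [Q.range_incl hE]; exact hmQ
  obtain ⟨y, rfl⟩ : ∃ y, secMap σ E y = q := by
    haveI := hE
    exact surjective_secMap_of_epi σ E q
  rw [← hq, secMap_eq hσ0, secMap_zero_hom, map_zero]

/-- a finite morphism composed with a closed immersion is finite -/
theorem isFiniteMor_comp_closed {F G H : Sp S} {i : F ⟶ G} (hi : RepWith @IsClosedImmersion i) {f : G ⟶ H}
    (hf : IsFiniteMor f) : IsFiniteMor (i ≫ f) := fun Z hZ g => by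
  obtain ⟨W, w, fst, sq, hW, hwf⟩ := hf hZ g
  haveI := hwf
  haveI := hW
  haveI : IsClosedImmersion (hi.1.snd fst).left := hi.property_snd fst
  refine ⟨hi.1.pullback fst, hi.1.snd fst ≫ w, hi.1.fst fst, ?_, isAffine_of_isAffineHom (hi.1.snd fst).left,
    inferInstanceAs (IsFinite ((hi.1.snd fst).left ≫ w.left))⟩
  rw [Functor.map_comp]
  exact (hi.1.isPullback fst).paste_vert sq

/-- base change of finite morphisms to closed subspaces -/
theorem isFiniteMor_of_isPullback {P F G H : Sp S} {fst : P ⟶ F} {snd : P ⟶ G} {f : F ⟶ H} {i : G ⟶ H}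
    (sq : IsPullback fst snd f i) (hf : IsFiniteMor f) : IsFiniteMor snd :=
  (isFiniteMor_iff_repWith snd).2 (RepWith.baseChange sq ((isFiniteMor_iff_repWith f).1 hf))

/-- Chevalley's theorem on a reduced space all whose proper reduced closed subspaces are affine -/
theorem exists_iso_affine_of_reduced {X : AlgSp.Space S} (hqc : IsQuasiCompactSp X.obj)
    (hqs : IsQuasiSeparatedSp X.obj) (hN : IsLocNoethSp X.obj) (hred : IsReducedSp X.obj)
    {T : Over S} [IsAffine T.left] {f : (yon S).obj T ⟶ X.obj} (hfin : IsFiniteMor f)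
    (hsurj : IsSurjectiveMor f)
    (hsub : ∀ Z : Set (Points X.obj), IsClosed Z → Z ≠ Set.univ → ∃ (T' : Over S)
      (i : (yon S).obj T' ⟶ X.obj), IsAffine T'.left ∧ RepWith @IsClosedImmersion i ∧ Set.range (Points.map i) = Z) :
    ∀ (M : ModEt X.obj), M.IsFinitePresentation → V1 M := by
  intro M hM
  haveI := hM
  haveI := compactSpace_points_of_isQuasiCompactSp hqc
  obtain ⟨A, a, hA, hae, has⟩ := exists_affine_chart X.property
  let E₀ : EtOver X.obj := EtOver.mk a hae
  haveI : IsAff E₀ := hA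
  have hsmall : ∀ (N : ModEt X.obj), N.IsFinitePresentation → ∀ Z, IsClosed Z → Z ≠ Set.univ →
      SuppIn N Z → V1 N := fun N hN' Z hZ hZ' hsupp => by
    haveI := hN'
    obtain ⟨T', i, hT', hi, hr⟩ := hsub Z hZ hZ'
    haveI := hT'
    exact v1_of_suppIn_affine hN (E₀ := E₀) has hi N (by rw [hr]; exact hsupp)
  rcases isEmpty_or_nonempty (Points X.obj) with hemp | ⟨⟨x⟩⟩
  · refine v1_of_isZero (isZero_of_forall M fun E hE s => ?_)
    by_contra hs'
    obtain ⟨e, -⟩ := exists_inSupp M hs'
    exact isEmptyElim (Points.ofPt E.obj.hom e)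
  have hd := isDecent_of_qsep X.property hqs
  haveI := t0Space_points X.property hd
  haveI := quasiSober_points X.property hd
  let z : Points X.obj := (isIrreducible_irreducibleComponent (x := x)).genericPoint
  have hzc : closure {z} = irreducibleComponent x := by
    have h := (isIrreducible_irreducibleComponent (x := x)).genericPoint_closure_eq
    rwa [isClosed_irreducibleComponent.closure_eq] at h
  have hmax : ∀ y, y ⤳ z → y = z := fun y hy => by
    have h1 : irreducibleComponent x ⊆ closure {y} := hzc ▸ hy.closure_subset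
    have h2 := eq_irreducibleComponent (isIrreducible_singleton.closure).isPreirreducible h1
    refine (hy.antisymm (specializes_iff_closure_subset.2 ?_)).eq
    rw [h2, hzc]
  obtain ⟨C₁, k₁, hC₁, hk₁, hz₁⟩ := exists_affine_nbhd_of_maximal X.property hqs z hmax
  rw [Induct.range_map_yon] at hz₁
  obtain ⟨u, hu⟩ := hz₁
  have hk₁e : RepWith @Etale k₁ :=
    RepWith.mono (fun _ _ g (_ : IsOpenImmersion g) => (inferInstance : Etale g)) hk₁
  haveI : IsReduced C₁.left := isReduced_chart hred k₁ hk₁e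
  haveI := hC₁
  let E₁ : EtOver X.obj := EtOver.mk k₁ hk₁e
  haveI : IsAff E₁ := hC₁
  haveI := isNoetherianRing_ΓE hN E₁
  haveI : IsNoetherianRing Γ(C₁.left, ⊤) :=
    isNoetherianRing_of_ringEquiv (ΓE E₁) (ULift.ringEquiv (R := Γ(C₁.left, ⊤)))
  haveI : NoetherianSpace C₁.left := noetherianSpace_of_isAffine
  let D : Set C₁.left := ⋃ Z ∈ irreducibleComponents C₁.left \ {irreducibleComponent u}, Z
  have hD : IsClosed D := NoetherianSpace.finite_irreducibleComponents.sdiff.isClosed_biUnion fun Z hZ =>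
    isClosed_of_mem_irreducibleComponents Z hZ.1
  haveI := Induct.mono_openImm hk₁
  have hinj : Function.Injective (Points.ofPt k₁) := fun p q h => by
    rw [Points.ofPt_eq_map_ofScheme, Points.ofPt_eq_map_ofScheme] at h
    exact (Points.schemeEquiv C₁).injective (injective_map_of_mono k₁ h)
  have humax : ∀ p : C₁.left, p ⤳ u → p = u := fun p hp =>
    hinj ((hmax _ (hu ▸ hp.map (Points.continuous_ofPt k₁))).trans hu.symm)
  have huD : u ∉ D := by
    intro h
    obtain ⟨Z, ⟨hZ, hZne⟩, huZ⟩ := Set.mem_iUnion₂.1 h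
    obtain ⟨p, hp⟩ := QuasiSober.sober hZ.1 (isClosed_of_mem_irreducibleComponents Z hZ)
    rw [humax p (hp.specializes huZ)] at hp
    have h1 : Z ⊆ irreducibleComponent u := fun r hr =>
      closure_minimal (Set.singleton_subset_iff.2 mem_irreducibleComponent) isClosed_irreducibleComponent
        (hp.symm.subset hr : r ∈ closure ({u} : Set C₁.left))
    exact hZne (Set.Subset.antisymm h1 (hZ.2 isIrreducible_irreducibleComponent h1))
  obtain ⟨V, hV, huV, hVD⟩ := exists_isAffineOpen_mem_and_subset (x := u) (U := ⟨Dᶜ, hD.isOpen_compl⟩) huD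
  have hVirr : IsIrreducible (V : Set C₁.left) := by
    refine ⟨⟨u, huV⟩, ?_⟩
    have hsubset : (V : Set C₁.left) ⊆ irreducibleComponent u := fun q hq => by
      by_contra hne
      refine hVD hq (Set.mem_iUnion₂.2 ⟨irreducibleComponent q,
        ⟨irreducibleComponent_mem_irreducibleComponents q, fun h => hne (h ▸ mem_irreducibleComponent)⟩,
        mem_irreducibleComponent⟩)
    intro U₁ U₂ h₁ h₂ ⟨a₁, ha₁V, ha₁⟩ ⟨a₂, ha₂V, ha₂⟩
    obtain ⟨b, hb, hb1, hb2⟩ := isIrreducible_irreducibleComponent.2 _ _ (V.2.inter h₁) (V.2.inter h₂)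
      ⟨a₁, hsubset ha₁V, ha₁V, ha₁⟩ ⟨a₂, hsubset ha₂V, ha₂V, ha₂⟩
    exact ⟨b, hb1.1, hb1.2, hb2.2⟩
  haveI : IrreducibleSpace (V.toScheme) := Subtype.irreducibleSpace hVirr
  haveI : IsReduced V.toScheme := isReduced_of_isOpenImmersion V.ι
  haveI : IsIntegral V.toScheme := isIntegral_of_irreducibleSpace_of_isReduced _
  let C : Over S := Over.mk (V.ι ≫ C₁.hom)
  haveI hC : IsAffine C.left := hV
  haveI : IsIntegral C.left := ‹IsIntegral V.toScheme›
  let k : (yon S).obj C ⟶ X.obj := (yon S).map (Over.homMk V.ι) ≫ k₁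
  have hk : RepWith @IsOpenImmersion k :=
    RepWith.comp ((repWith_yon_map_iff (P := @IsOpenImmersion) _).2 (inferInstanceAs (IsOpenImmersion V.ι))) hk₁
  have hkpt : ∀ c : C.left, Points.ofPt k c = Points.ofPt k₁ (V.ι c) := fun c =>
    ofPt_map (Over.homMk V.ι : C ⟶ C₁) k₁ c
  haveI : IsDomain (ΓE (EU hk)) :=
    haveI : Nonempty C.left := ⟨⟨u, huV⟩⟩
    MulEquiv.isDomain _ (ULift.ringEquiv (R := Γ(C.left, ⊤))).toMulEquiv
  have hgen : ∀ c : C.left, Points.ofPt k c = z → primeE (EU hk) c = ⊥ := fun c hc => by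
    refine (Submodule.eq_bot_iff _).2 fun g hg => ?_
    by_contra hg0
    have hc' : V.ι c = u := hinj ((hkpt c).symm.trans (hc.trans hu.symm))
    have hgc : genericPoint C.left = c := by
      refine V.ι.isOpenEmbedding.injective ?_
      rw [hc']
      exact humax _ (hc' ▸ (genericPoint_specializes c).map V.ι.continuous)
    have hne : C.left.basicOpen (g.down : Γ(C.left, ⊤)) ≠ ⊥ := fun h =>
      hg0 (ULift.ext _ _ ((basicOpen_eq_bot_iff (X := C.left) (U := ⊤) g.down).1 h))
    obtain ⟨p, hp⟩ : (C.left.basicOpen (g.down : Γ(C.left, ⊤)) : Set C.left).Nonempty :=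
      Set.nonempty_iff_ne_empty.2 fun h' => hne (Opens.ext (h'.trans Opens.coe_bot.symm))
    have hcg := (genericPoint_specializes p).mem_open (C.left.basicOpen (g.down : Γ(C.left, ⊤))).2 hp
    rw [hgc] at hcg
    exact (mem_basicOpen_iff (EU hk) g c).1 hcg hg
  obtain ⟨t, ht⟩ : ∃ t : T.left, Points.ofPt f t = z := by
    obtain ⟨p, hp⟩ := hsurj z
    obtain ⟨t, rfl⟩ := (Points.schemeEquiv T).surjective p
    exact ⟨t, (Points.ofPt_eq_map_ofScheme f t).trans hp⟩
  let I := Scheme.IdealSheafData.vanishingIdeal (X := T.left) ⟨closure {t}, isClosed_closure⟩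
  haveI : IsReduced I.subscheme := Props12.isReduced_subscheme_vanishingIdeal _
  have hIr : Set.range I.subschemeι = closure {t} := by
    rw [Scheme.IdealSheafData.range_subschemeι, Scheme.IdealSheafData.coe_support_vanishingIdeal]
    rfl
  obtain ⟨t', ht'⟩ : t ∈ Set.range I.subschemeι := hIr.symm ▸ subset_closure rfl
  have ht'gen : ∀ q, t' ⤳ q := fun q =>
    I.subschemeι.isClosedEmbedding.isInducing.specializes_iff.1 (by
      rw [ht']
      exact specializes_iff_mem_closure.2 (hIr ▸ ⟨q, rfl⟩))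
  haveI : IrreducibleSpace I.subscheme := by
    have h : (Set.univ : Set I.subscheme) = closure {t'} :=
      (Set.eq_univ_of_forall fun q => (ht'gen q).mem_closure).symm
    have h2 : IsIrreducible (Set.univ : Set I.subscheme) := h ▸ isIrreducible_singleton.closure
    exact { isPreirreducible_univ := h2.2, toNonempty := ⟨t'⟩ }
  haveI : IsIntegral I.subscheme := isIntegral_of_irreducibleSpace_of_isReduced _
  let T' : Over S := Over.mk (I.subschemeι ≫ T.hom)
  haveI : IsAffine T'.left := isAffine_of_isAffineHom I.subschemeι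
  haveI : IsIntegral T'.left := ‹IsIntegral I.subscheme›
  let ι' : T' ⟶ T := Over.homMk I.subschemeι
  let f' : (yon S).obj T' ⟶ X.obj := (yon S).map ι' ≫ f
  have hfin' : IsFiniteMor f' := isFiniteMor_comp_closed
    ((repWith_yon_map_iff (P := @IsClosedImmersion) ι').2 (inferInstanceAs (IsClosedImmersion I.subschemeι))) hfin
  have hη0 : genericPoint T'.left = t' :=
    ((genericPoint_specializes t').antisymm (ht'gen _)).eq
  have hη1 : Points.ofPt f' (genericPoint T'.left) = z := by
    rw [hη0]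
    exact (ofPt_map ι' f t').trans ((congrArg (Points.ofPt f) ht').trans ht)
  have hη : Points.ofPt f' (genericPoint T'.left) ∈ OU (k := k) := by
    rw [hη1, OU, Induct.range_map_yon]
    exact ⟨⟨u, huV⟩, (hkpt _).trans hu⟩
  have hmin : ∀ c : C.left, Points.ofPt k c = Points.ofPt f' (genericPoint T'.left) → primeE (EU hk) c = ⊥ :=
    fun c hc => hgen c (hc.trans hη1)
  have hfr : Representable f' := ((isFiniteMor_iff_repWith f').1 hfin').1
  refine v1_of_steps hN (E₀ := E₀) has (fun Cm _ hnot => ?_) M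
  obtain ⟨m, hm⟩ : ∃ m : Sec Cm (EU hk), ∀ c : ΓE (EU hk), c • m = 0 → c = 0 := by
    by_contra hcon
    push_neg at hcon
    exact hnot (v1_of_torsion hk hN hsmall Cm fun m => (hcon m).imp fun c hc => ⟨hc.2, hc.1⟩)
  obtain ⟨Q, hQ, hmQ⟩ := exists_v1_sub hk hqs hN (E₀ := E₀) has hfr hfin' hη hmin hsmall Cm m hm
  exact ⟨Q, hQ, EU hk, inferInstance, m, fun h => one_ne_zero (hm 1 (by rw [h, smul_zero])), hmQ⟩

/-- Chevalley's theorem for algebraic spaces -/
theorem exists_iso_yon_affine_of_finite {X : AlgSp.Space S} (hqc : IsQuasiCompactSp X.obj)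
    (hqs : IsQuasiSeparatedSp X.obj) (hN : IsLocNoethSp X.obj) {T : Over S} [IsAffine T.left]
    {f : (yon S).obj T ⟶ X.obj} (hfin : IsFiniteMor f) (hsurj : IsSurjectiveMor f) :
    ∃ T' : Over S, IsAffine T'.left ∧ Nonempty ((yon S).obj T' ≅ X.obj) := by
  haveI := compactSpace_points_of_isQuasiCompactSp hqc
  haveI := noetherianSpace_points hN
  obtain ⟨A, a, hA, hae, has⟩ := exists_affine_chart X.property
  let E₀ : EtOver X.obj := EtOver.mk a hae
  haveI : IsAff E₀ := hA
  have key : ∀ (Z : Closeds (Points X.obj)) (Y : AlgSp.Space S) (i : Y ⟶ X), IsRedInduced (Z : Set (Points X.obj)) i.hom →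
      ∃ T' : Over S, IsAffine T'.left ∧ Nonempty ((yon S).obj T' ≅ Y.obj) := by
    intro Z
    induction Z using WellFoundedLT.induction with
    | ind Z ih =>
      intro Y i ⟨hi, hir, hY⟩
      haveI := mono_closedImmersion hi
      haveI : IsClosedImmersion (hi.1.snd a).left := hi.property_snd a
      haveI : IsAffine (hi.1.pullback a).left := isAffine_of_isAffineHom (hi.1.snd a).left
      haveI : IsNoetherianRing Γ(A.left, ⊤) :=
        haveI := isNoetherianRing_ΓE hN E₀
        isNoetherianRing_of_ringEquiv (ΓE E₀) (ULift.ringEquiv (R := Γ(A.left, ⊤)))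
      have hYe : RepWith @Etale (hi.1.fst a) := RepWith.baseChange (hi.1.isPullback a).flip hae
      have hYs : RepWith @Surjective (hi.1.fst a) := RepWith.baseChange (hi.1.isPullback a).flip has
      haveI : IsAffine A.left := hA
      haveI : IsLocallyNoetherian A.left := isLocallyNoetherian_of_isOpenImmersion A.left.isoSpec.hom
      have hNY : IsLocNoethSp Y.obj := ⟨hi.1.pullback a, hi.1.fst a, hYe, hYs,
        LocallyOfFiniteType.isLocallyNoetherian (hi.1.snd a).left⟩
      have hqcY : IsQuasiCompactSp Y.obj :=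
        ⟨hi.1.pullback a, hi.1.fst a, hYe, hYs, inferInstance⟩
      have hqsY : IsQuasiSeparatedSp Y.obj := Stk19b.ZarQs.isQuasiSeparatedSp_of_mono i.hom hqs
      have hfr : Representable f := ((isFiniteMor_iff_repWith f).1 hfin).1
      haveI : IsClosedImmersion (hi.1.snd f).left := hi.property_snd f
      haveI : IsAffine (hi.1.pullback f).left := isAffine_of_isAffineHom (hi.1.snd f).left
      have hgfin : IsFiniteMor (hi.1.fst f) := isFiniteMor_of_isPullback (hi.1.isPullback f).flip hfin
      have hgsurj : IsSurjectiveMor (hi.1.fst f) := fun y => by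
        obtain ⟨p, hp⟩ := hsurj (Points.map i.hom y)
        obtain ⟨w, hw, -⟩ := exists_point_of_isPullback (hi.1.isPullback f) hp.symm
        exact ⟨w, hw⟩
      refine exists_iso_yon_affine Y hqcY hqsY (h1Vanish_of_coherent hqcY hqsY hNY
        (exists_iso_affine_of_reduced hqcY hqsY hNY hY hgfin hgsurj fun W hW hWu => ?_))
      let W' : Closeds (Points X.obj) := ⟨Points.map i.hom '' W, by
        obtain ⟨Y', i', hi'⟩ := Stk19b.RedInd.exists_isRedInduced Y W hW
        rw [← hi'.2.1, ← Set.range_comp]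
        have h := isClosed_range_map_of_closedImmersion X.property
          (RepWith.comp hi'.1 hi : RepWith @IsClosedImmersion (i'.hom ≫ i.hom))
        have e : Points.map i.hom ∘ Points.map i'.hom = Points.map (i'.hom ≫ i.hom) :=
          funext fun p => (Points.map_comp i'.hom i.hom p).symm
        rw [e]
        exact h⟩
      obtain ⟨Y', i', hi'⟩ := Stk19b.RedInd.exists_isRedInduced Y W hW
      have hlt : W' < Z := lt_of_le_of_ne
        (fun p ⟨q, _, hq⟩ => hir.subset ⟨q, hq⟩) fun h => hWu (Set.eq_univ_of_forall fun q => by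
          have hq : Points.map i.hom q ∈ (W' : Set (Points X.obj)) := by rw [h, ← hir]; exact ⟨q, rfl⟩
          obtain ⟨q', hq', he⟩ := hq
          exact injective_map_of_mono i.hom he ▸ hq')
      obtain ⟨T', hT', ⟨e⟩⟩ := ih W' hlt Y' (i' ≫ i) ⟨RepWith.comp hi'.1 hi, by
        show Set.range (Points.map (i'.hom ≫ i.hom)) = Points.map i.hom '' W
        rw [← hi'.2.1, ← Set.range_comp]
        exact congrArg Set.range (funext fun p => Points.map_comp i'.hom i.hom p), hi'.2.2⟩
      haveI : IsClosedImmersion (𝟙 T'.left) := inferInstance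
      refine ⟨T', e.hom ≫ i'.hom, hT', RepWith.comp (MorphismProperty.of_isIso (RepWith (S := S) @IsClosedImmersion) e.hom) hi'.1, ?_⟩
      rw [← hi'.2.1]
      refine Set.Subset.antisymm ?_ ?_
      · rintro _ ⟨p, rfl⟩
        exact ⟨Points.map e.hom p, (Points.map_comp e.hom i'.hom p).symm⟩
      · rintro _ ⟨p, rfl⟩
        refine ⟨Points.map e.inv p, ?_⟩
        rw [← Points.map_comp, Iso.inv_hom_id_assoc]
  obtain ⟨Y, i, hi⟩ := Stk19b.RedInd.exists_isRedInduced X Set.univ isClosed_univ
  obtain ⟨T', hT', ⟨e⟩⟩ := key ⊤ Y i hi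
  haveI := hT'
  have hi' : RepWith @IsClosedImmersion (e.hom ≫ i.hom) :=
    RepWith.comp (MorphismProperty.of_isIso (RepWith (S := S) @IsClosedImmersion) e.hom) hi.1
  refine exists_iso_yon_affine X hqc hqs (h1Vanish_of_coherent hqc hqs hN fun M hM => ?_)
  haveI := hM
  refine v1_of_suppIn_affine hN (E₀ := E₀) has hi' M fun E hE p _ => ?_
  obtain ⟨q, hq⟩ : Points.ofPt E.obj.hom p ∈ Set.range (Points.map i.hom) := by rw [hi.2.1]; trivial
  exact ⟨Points.map e.inv q, by rw [← Points.map_comp, Iso.inv_hom_id_assoc, hq]⟩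

end Groth.Agent.AlgSpLib.SerreChev
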