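import Groth.Agent.AlgSpLib.QCohEtFPFill
import Groth.Agent.AlgSpLib.QCohEtFPChart
import Groth.Agent.AlgSpLib.SerreChevMain

/-!
Quasi-coherent modules of finite type are quotients of finitely presented ones.
-/

universe u

open CategoryTheory CategoryTheory.Limits AlgebraicGeometry Opposite TensorProduct
open AlgSp

noncomputable section

set_option linter.style.haveILetI false

namespace Groth.Agent.AlgSpLib.QCohEt

open Groth.Agent.AlgSpLib.SerreAff

set_option backward.isDefEq.respectTransparency.types false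
set_option backward.isDefEq.respectTransparency false

variable {S : Scheme.{u}}

/-- the induction predicate -/
def QuotFP {X : Sp S} (F : ModEt X) (O : Set (Points X)) : Prop :=
  ∃ (G : ModEt X) (_ : G.IsQuasicoherent) (φ : G ⟶ F), FPSurj φ O

theorem quotFP_empty {X : Sp S} (F : ModEt X) [hF : F.IsQuasicoherent] : QuotFP F (∅ : Set (Points X)) := by
  refine ⟨F, hF, 𝟙 F, fun E hE cE => ⟨?_, fun m => ⟨m, secMap_id' E m⟩⟩⟩
  have h0 : ∀ z : Sec F E, z = 0 := fun z =>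
    mapSec_ext F (Z := fun i : PEmpty.{1} => (i.elim : EtOver X)) (fun i => i.elim)
      (fun x => (cE ⟨x, rfl⟩).elim) z 0 fun i => i.elim
  haveI : Subsingleton (Sec F E) := ⟨fun a b => (h0 a).trans (h0 b).symm⟩
  infer_instance

/-- pieces over an open and a chart -/
theorem exists_pieces_union {X : Sp S} {O : Set (Points X)} (hOo : IsOpen O) (Vo : EtOver X) (E : EtOver X) [IsAff E]
    (cE : Over' (O ∪ Set.range (Points.ofPt Vo.obj.hom)) E) :
    ∃ (κ : Type) (_ : Finite κ) (Z : κ → EtOver X) (g : ∀ j, Z j ⟶ E), (∀ j, IsAff (Z j)) ∧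
      (∀ j, Over' O (Z j) ∨ Nonempty (Z j ⟶ Vo)) ∧ ∀ x : E.obj.left.left, ∃ j, x ∈ Set.range (g j).hom.left.left := by
  haveI : IsAffine E.obj.left.left := (inferInstance : IsAff E)
  obtain ⟨κ, hκ, Z, g, hZ, hR, hc⟩ := exists_finite_pieces E isCompact_univ
    (fun Z _ => Over' O Z ∨ Nonempty (Z ⟶ Vo)) fun e _ => by
      by_cases he : Points.ofPt E.obj.hom e ∈ O
      · obtain ⟨Z, g, hZ, hg, heg⟩ := exists_piece_mem E (hOo.preimage (Points.continuous_ofPt E.obj.hom)) he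
        exact ⟨Z, g, hZ, Or.inl (by rintro _ ⟨z, rfl⟩; rw [← ofPt_edge_hom g z]; exact hg ⟨z, rfl⟩), heg⟩
      · obtain ⟨v, hv⟩ := (cE ⟨e, rfl⟩).resolve_left he
        rw [Points.ofPt_eq_map_ofScheme, Points.ofPt_eq_map_ofScheme] at hv
        obtain ⟨z, -, hz⟩ := exists_point_of_isPullback (Vo.property.1.isPullback E.obj.hom) hv
        obtain ⟨p, rfl⟩ := (Points.schemeEquiv _).surjective z
        obtain ⟨Z, g, hZ, -, ⟨q, hq⟩⟩ := exists_piece_mem (EtOver.prodObj E Vo) isOpen_univ (Set.mem_univ p)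
        refine ⟨Z, g ≫ EtOver.prodFst E Vo, hZ, Or.inr ⟨g ≫ EtOver.prodSnd E Vo⟩, q, ?_⟩
        show (EtOver.prodFst E Vo).hom.left.left (g.hom.left.left q) = e
        rw [hq]
        exact (Points.schemeEquiv E.obj.left).injective ((map_yon_map_ofScheme _ p).symm.trans hz)
  exact ⟨κ, hκ, Z, g, hZ, hR, fun x => hc x trivial⟩

theorem quotFP_step [QuasiSeparatedSpace ↥S] {X : AlgSp.Space S} (hqc : IsQuasiCompactSp X.obj)
    (hqs : IsQuasiSeparatedSp X.obj) (F : ModEt X.obj) [F.IsQuasicoherent] [F.IsFiniteType]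
    {O : Set (Points X.obj)} (hOo : IsOpen O) (hOc : IsCompact O) {V : Over S} [IsAffine V.left]
    (f : (yon S).obj V ⟶ X.obj) (hf : RepWith @Etale f) (hu : Induct.Uniq O f) (hQ : QuotFP F O) :
    QuotFP F (O ∪ Set.range (Points.ofPt f)) := by
  have hje : IsEtaleMor f := fun _ φ' h' => RepWith.comp h' hf
  let Vo := (EtOver.postcomp f hje).obj (T0 V)
  haveI hVo : IsAff Vo := ‹IsAffine V.left›
  have hVf : Vo.obj.hom = f := Category.id_comp f
  obtain ⟨G, hG, φ, hφ⟩ := hQ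
  obtain ⟨κ, hκ, D, d, hD, cD, hdc⟩ := coversLocus_over X.property hqs hOo hOc Vo
  haveI := hκ
  haveI := hD
  haveI := finite_sec F Vo
  obtain ⟨n, x, hx⟩ := Submodule.fg_iff_exists_fin_generating_family.1 (Module.Finite.fg_top (R := ΓE Vo) (M := Sec F Vo))
  obtain ⟨G₁, hG₁, φ₁, hφ₁, hl⟩ := exists_kill hqc hqs φ hφ d cD x
  obtain ⟨G₂, hG₂, φ₂, hφ₂, hs₂⟩ := exists_fill hqs φ₁ hOo hOc hφ₁ d hdc x hx hl
  obtain ⟨G₃, hG₃, φ₃, hφ₃, hfp₃, hs₃⟩ := exists_fp_chart hqs φ₂ hOo hOc hje hu hφ₂ hs₂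
  refine ⟨G₃, hG₃, φ₃, fun E hE cE => ?_⟩
  haveI := hE
  obtain ⟨ι, hι, Z, g, hZ, hR, hc⟩ := exists_pieces_union hOo Vo E (by rw [hVf]; exact cE)
  haveI := hι
  haveI := hZ
  haveI := hfp₃
  have hZ' : ∀ j, Module.FinitePresentation (ΓE (Z j)) (Sec G₃ (Z j)) ∧ Function.Surjective (secMap φ₃ (Z j)) :=
    fun j => (hR j).elim (hφ₃ (Z j) (hZ j)) fun ⟨t⟩ =>
      ⟨finitePresentation_of_hom G₃ t, surjective_of_hom φ₃ t hs₃⟩
  exact ⟨finitePresentation_of_cover_sec G₃ g hc fun j => (hZ' j).1,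
    surjective_secMap_of_cover φ₃ g hc fun j => (hZ' j).2⟩

/-- modules of finite type are quotients of finitely presented modules -/
theorem exists_fp_quotient [QuasiSeparatedSpace ↥S] {X : AlgSp.Space S} (hqc : IsQuasiCompactSp X.obj)
    (hqs : IsQuasiSeparatedSp X.obj) (F : ModEt X.obj) [F.IsQuasicoherent] [F.IsFiniteType] :
    ∃ (G : ModEt X.obj) (_ : G.IsQuasicoherent) (_ : G.IsFinitePresentation) (φ : G ⟶ F),
      (∀ E, IsAff E → Module.FinitePresentation (ΓE E) (Sec G E)) ∧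
      (∀ E, IsAff E → Function.Surjective (secMap φ E)) ∧ Epi φ := by
  have key : QuotFP F (Set.univ : Set (Points X.obj)) :=
    Induct.opens_induction X hqc hqs (QuotFP F) (quotFP_empty F) fun O V f hV hf hOo hOc hu hQ =>
      haveI := hV
      quotFP_step hqc hqs F hOo hOc f hf hu hQ
  obtain ⟨G, hG, φ, hφ⟩ := key
  have h1 : ∀ E, IsAff E → Module.FinitePresentation (ΓE E) (Sec G E) := fun E hE => (hφ E hE (Set.subset_univ _)).1
  have h2 : ∀ E, IsAff E → Function.Surjective (secMap φ E) := fun E hE => (hφ E hE (Set.subset_univ _)).2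
  exact ⟨G, hG, isFinitePresentation_of_forall G (fun E hE => by haveI := hE; exact isBC G E) h1, φ, h1, h2,
    SerreChev.epi_of_surjective φ h2⟩

end Groth.Agent.AlgSpLib.QCohEt
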