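import Groth.Agent.AlgSpLib.SerreAffineGlob

/-!
Global sections of direct images from a scheme, and direct images from affine schemes.
-/

universe u

open CategoryTheory CategoryTheory.Limits AlgebraicGeometry Opposite TensorProduct
open AlgSp

noncomputable section

set_option linter.style.haveILetI false

namespace Groth.Agent.AlgSpLib.SerreAff

open Groth.Agent.AlgSpLib.QCohEt

set_option backward.isDefEq.respectTransparency.types false
set_option backward.isDefEq.respectTransparency false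

variable {S : Scheme.{u}}

/-- the final object of the small etale site of a scheme -/
def T0 (V : Over S) : EtOver ((yon S).obj V) := EtOver.mk (𝟙 ((yon S).obj V)) (repWith_id @Etale V)

/-- the map to the final object -/
def toT0 {V : Over S} (W : EtOver ((yon S).obj V)) : W ⟶ T0 V :=
  EtOver.homMk ((yon S).preimage W.obj.hom)
    ((congrArg (· ≫ 𝟙 _) ((yon S).map_preimage W.obj.hom)).trans (Category.comp_id _))

theorem map_toT0 {V : Over S} (W : EtOver ((yon S).obj V)) : (yon S).map (toT0 W).hom.left = W.obj.hom :=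
  (yon S).map_preimage W.obj.hom

theorem hom_T0_ext {V : Over S} {W : EtOver ((yon S).obj V)} (a b : W ⟶ T0 V) : a = b :=
  EtOver.hom_ext _ _ ((yon S).map_injective
    (((Category.comp_id _).symm.trans (EtOver.w a)).trans ((EtOver.w b).symm.trans (Category.comp_id _))))

variable {X : Sp S} {V : Over S} {h : (yon S).obj V ⟶ X} (hh : Representable h) (M : ModEt ((yon S).obj V))

/-- a section over the scheme as a global section of the direct image -/
def pushGlob : Sec M (T0 V) →+ Glob ((pushModEt hh).obj M) where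
  toFun t := ⟨fun E => mapSec M (toT0 (EtOver.bcObj hh E)) t, fun E E' g => by
    change mapSec M (EtOver.bcMap hh g) (mapSec M (toT0 (EtOver.bcObj hh E)) t) =
      mapSec M (toT0 (EtOver.bcObj hh E')) t
    exact (mapSec_comp M _ _ t).symm.trans (congrArg (fun q => mapSec M q t) (hom_T0_ext _ _))⟩
  map_zero' := Subtype.ext (funext fun E => map_zero (mapSec M (toT0 (EtOver.bcObj hh E))))
  map_add' a b := Subtype.ext (funext fun E => map_add (mapSec M (toT0 (EtOver.bcObj hh E))) a b)

theorem pushGlob_apply (t : Sec M (T0 V)) (E : EtOver X) :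
    (pushGlob hh M t).1 E = mapSec M (toT0 (EtOver.bcObj hh E)) t := rfl

variable {E₀ : EtOver X} (hs : RepWith @Surjective E₀.obj.hom)

include hs in
theorem cover_toT0 (x : (T0 V).obj.left.left) :
    ∃ _ : PUnit.{1}, x ∈ Set.range (toT0 (EtOver.bcObj hh E₀)).hom.left.left := by
  have h1 : RepWith @Surjective (hh.fst E₀.obj.hom) := RepWith.baseChange (hh.isPullback E₀.obj.hom).flip hs
  have h2 : RepWith @Surjective ((yon S).map (toT0 (EtOver.bcObj hh E₀)).hom.left) := by
    rw [map_toT0]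
    exact h1
  exact ⟨⟨⟩, ((repWith_yon_map_iff (P := @Surjective) _).1 h2).surj x⟩

include hs in
/-- global sections of the direct image are the sections over the scheme -/
theorem bijective_pushGlob : Function.Bijective (pushGlob hh M) := by
  refine ⟨fun s t hst => mapSec_ext M (fun _ : PUnit.{1} => toT0 (EtOver.bcObj hh E₀))
    (fun x => cover_toT0 hh hs x) s t fun _ => congrArg (fun n => n.1 E₀) hst, fun n => ?_⟩
  let P := EtOver.pullbackObj (toT0 (EtOver.bcObj hh E₀)) (toT0 (EtOver.bcObj hh E₀))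
  let q₁ : P ⟶ EtOver.bcObj hh E₀ := EtOver.pullbackFst _ _
  let q₂ : P ⟶ EtOver.bcObj hh E₀ := EtOver.pullbackSnd _ _
  let a₁ := q₁.hom.left ≫ hh.snd E₀.obj.hom
  let a₂ := q₂.hom.left ≫ hh.snd E₀.obj.hom
  have ha : ∀ q : P ⟶ EtOver.bcObj hh E₀,
      (yon S).map (q.hom.left ≫ hh.snd E₀.obj.hom) ≫ E₀.obj.hom = P.obj.hom ≫ h := fun q => by
    rw [Functor.map_comp, Category.assoc, ← hh.w E₀.obj.hom, ← Category.assoc]
    exact congrArg (· ≫ h) (EtOver.w q)
  let l := E₀.property.1.lift' a₂ a₁ ((ha q₂).trans (ha q₁).symm)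
  have hl1 : l ≫ (EtOver.prodFst E₀ E₀).hom.left = a₁ :=
    Functor.relativelyRepresentable.lift'_snd _ _ _ _
  have hl2 : l ≫ (EtOver.prodSnd E₀ E₀).hom.left = a₂ :=
    Functor.relativelyRepresentable.lift'_fst _ _ _ _
  have hlh : P.obj.hom ≫ h = (yon S).map l ≫ (EtOver.prodObj E₀ E₀).obj.hom := by
    refine (ha q₁).symm.trans ?_
    change (yon S).map a₁ ≫ E₀.obj.hom = _
    rw [← hl1, Functor.map_comp, Category.assoc, EtOver.w (EtOver.prodFst E₀ E₀)]
  let m : P ⟶ EtOver.bcObj hh (EtOver.prodObj E₀ E₀) :=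
    EtOver.homMk (hh.lift P.obj.hom l hlh) (hh.lift_fst _ _ _)
  have hm : ∀ (π : EtOver.prodObj E₀ E₀ ⟶ E₀) (q : P ⟶ EtOver.bcObj hh E₀),
      l ≫ π.hom.left = q.hom.left ≫ hh.snd E₀.obj.hom → m ≫ EtOver.bcMap hh π = q := fun π q hπ => by
    refine EtOver.hom_ext _ _ (hh.hom_ext ?_ ?_)
    · exact (EtOver.w (m ≫ EtOver.bcMap hh π)).trans (EtOver.w q).symm
    · change (hh.lift P.obj.hom l hlh ≫ (EtOver.bcMap hh π).hom.left) ≫ hh.snd E₀.obj.hom = _
      rw [Category.assoc, EtOver.bcMap_snd, ← Category.assoc, hh.lift_snd]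
      exact hπ
  have hnat : ∀ π : EtOver.prodObj E₀ E₀ ⟶ E₀, mapSec M (EtOver.bcMap hh π) (n.1 E₀) =
      n.1 (EtOver.prodObj E₀ E₀) := fun π => mapSec_glob n π
  obtain ⟨t, ht⟩ := exists_mapSec_eq M (fun _ : PUnit.{1} => toT0 (EtOver.bcObj hh E₀))
    (fun x => cover_toT0 hh hs x) (fun _ => n.1 E₀) (fun _ _ => by
      change mapSec M q₁ (n.1 E₀) = mapSec M q₂ (n.1 E₀)
      rw [← hm _ q₁ hl1, ← hm _ q₂ hl2, mapSec_comp, mapSec_comp, hnat, hnat])
  refine ⟨t, ?_⟩
  have key : ∀ E : EtOver X, (pushGlob hh M t).1 E = n.1 E := fun E => by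
    refine mapSec_ext ((pushModEt hh).obj M) (fun _ : PUnit.{1} => EtOver.prodFst E E₀)
      (fun x => ⟨⟨⟩, ?_⟩) _ _ fun _ => ?_
    · haveI : Surjective (E₀.property.1.snd E.obj.hom).left :=
        hs.property _ _ _ (E₀.property.1.isPullback E.obj.hom)
      exact (E₀.property.1.snd E.obj.hom).left.surjective x
    · rw [mapSec_glob, mapSec_glob, ← mapSec_glob (pushGlob hh M t) (EtOver.prodSnd E E₀),
        ← mapSec_glob n (EtOver.prodSnd E E₀)]
      exact congrArg (mapSec ((pushModEt hh).obj M) (EtOver.prodSnd E E₀)) (ht ⟨⟩)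
  exact Subtype.ext (funext key)

end Groth.Agent.AlgSpLib.SerreAff
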