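import Groth.Agent.AlgSpLib.QCohEtFP
import Groth.Agent.AlgSpLib.QCohEtPush
import Groth.Agent.AlgSpLib.QCohEtExt
import Groth.Agent.AlgSpLib.SerreAffinePush
import Groth.Agent.AlgSpLib.QCohEtSubColim

/-!
The module on the small etale site of an affine scheme attached to a module over its ring.
-/

universe u

open CategoryTheory CategoryTheory.Limits AlgebraicGeometry Opposite TensorProduct
open AlgSp

noncomputable section

set_option linter.style.haveILetI false

namespace Groth.Agent.AlgSpLib.QCohEt.LocMod

open Groth.Agent.AlgSpLib.SerreAff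

set_option backward.isDefEq.respectTransparency.types false
set_option backward.isDefEq.respectTransparency false

variable {S : Scheme.{u}} {V : Over S}

/-- the objects over the final object -/
def toTop : EtOver ((yon S).obj V) ⥤ Over (T0 V) where
  obj W := Over.mk (toT0 W)
  map g := Over.homMk g (hom_T0_ext _ _)

/-- forgetting is left adjoint to the comparison with the slice over the final object -/
def forgetAdjToTop : Over.forget (T0 V) ⊣ toTop (V := V) :=
  Adjunction.mkOfHomEquiv
    { homEquiv := fun A W =>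
        { toFun := fun g => Over.homMk g (hom_T0_ext _ _)
          invFun := fun g => g.left
          left_inv := fun g => rfl
          right_inv := fun g => Over.OverMorphism.ext rfl }
      homEquiv_naturality_left_symm := fun f g => rfl
      homEquiv_naturality_right := fun f g => Over.OverMorphism.ext rfl }

instance : (toTop (V := V)).IsContinuous (etTop ((yon S).obj V)) ((etTop ((yon S).obj V)).over (T0 V)) :=
  haveI : (Over.forget (T0 V)).IsCocontinuous ((etTop ((yon S).obj V)).over (T0 V)) (etTop ((yon S).obj V)) :=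
    inferInstance
  Adjunction.isContinuous_of_isCocontinuous _ _ forgetAdjToTop

/-- the identity of structure sheaves -/
def topψ : OEtRing ((yon S).obj V) ⟶
    ((toTop (V := V)).sheafPushforwardContinuous RingCat.{u + 1} (etTop ((yon S).obj V))
      ((etTop ((yon S).obj V)).over (T0 V))).obj ((OEtRing ((yon S).obj V)).over (T0 V)) :=
  ObjectProperty.homMk
    { app := fun W => 𝟙 _
      naturality := fun _ _ g => (Category.comp_id _).trans (Category.id_comp _).symm }

variable (N : ModuleCat.{u + 1} (ΓE (T0 V)))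

/-- the attached module -/
def mod : ModEt ((yon S).obj V) := (SheafOfModules.pushforward.{u + 1} topψ).obj (LObj (T0 V) N)

variable {N}

/-- the comparison on an object -/
def α (W : EtOver ((yon S).obj V)) :
    ΓE (toTop.obj W).left ⊗[ΓE (T0 V)] N →+ Sec (mod N) W :=
  { toFun := fun x => (η N).app (op (toTop.obj W)) x
    map_zero' := map_zero ((η N).app (op (toTop.obj W))).hom
    map_add' := map_add ((η N).app (op (toTop.obj W))).hom }

/-- the canonical generators -/
def gen (W : EtOver ((yon S).obj V)) : N →+ Sec (mod N) W where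
  toFun n := α W ((1 : ΓE (toTop.obj W).left) ⊗ₜ[ΓE (T0 V)] n)
  map_zero' := (congrArg (α W) (TensorProduct.tmul_zero N _)).trans (map_zero (α W))
  map_add' a b := (congrArg (α W) (TensorProduct.tmul_add _ a b)).trans (map_add (α W) _ _)

theorem bijective_α (W : EtOver ((yon S).obj V)) [hW : IsAff W] : Function.Bijective (α (N := N) W) :=
  haveI : IsAff (toTop.obj W).left := hW
  bijective_app (η N) (toTop.obj W)

theorem α_tmul (W : EtOver ((yon S).obj V)) (a : ΓE (toTop.obj W).left) (n : N) :
    α (N := N) W (a ⊗ₜ n) = (show ΓE W from a) • gen W n := by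
  refine Eq.trans ?_ (((η N).app (op (toTop.obj W))).hom.map_smul a ((1 : ΓE (toTop.obj W).left) ⊗ₜ[ΓE (T0 V)] n))
  refine congrArg ((η N).app (op (toTop.obj W))) ?_
  change a ⊗ₜ[ΓE (T0 V)] n = (a * 1) ⊗ₜ[ΓE (T0 V)] n
  rw [mul_one]

theorem mapSec_gen {W W' : EtOver ((yon S).obj V)} (g : W' ⟶ W) (n : N) :
    mapSec (mod N) g (gen W n) = gen W' n := by
  refine (PresheafOfModules.naturality_apply (η N) (toTop.map g).op _).symm.trans ?_
  refine congrArg ((η N).app (op (toTop.obj W'))) ?_
  change (resAlg (toTop.map g) 1) ⊗ₜ[ΓE (T0 V)] n = _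
  rw [map_one]

theorem gen_smul (W : EtOver ((yon S).obj V)) (r : ΓE (T0 V)) (n : N) :
    gen W (r • n) = (ΓMap (toT0 W)).hom r • gen (N := N) W n := by
  refine Eq.trans (congrArg (α W) ?_) (α_tmul W _ n)
  show (1 : ΓE (toTop.obj W).left) ⊗ₜ[ΓE (T0 V)] (r • n) = _
  rw [← TensorProduct.smul_tmul, Algebra.smul_def, mul_one]
  rfl

/-- the sections on the final object -/
theorem bijective_gen [IsAffine V.left] : Function.Bijective (gen (N := N) (T0 V)) := by
  haveI hT : IsAff (T0 V) := ‹IsAffine V.left›
  have h := bijective_α (N := N) (T0 V)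
  have e : ∀ a : ΓE (T0 V), (ΓMap (toT0 (T0 V))).hom a = a := fun a => by
    rw [hom_T0_ext (toT0 (T0 V)) (𝟙 _)]
    exact ConcreteCategory.congr_hom ((OEt ((yon S).obj V)).obj.map_id (op (T0 V))) a
  refine ⟨fun a b hab => ?_, fun y => ?_⟩
  · let m : ΓE (toTop.obj (T0 V)).left →ₗ[ΓE (T0 V)] ΓE (T0 V) :=
      { toFun := fun x => x
        map_add' := fun _ _ => rfl
        map_smul' := fun r x => (Algebra.smul_def r x).trans (congrArg (fun q : ΓE (T0 V) => q * (show ΓE (T0 V) from x)) (e r)) }
    have := congrArg (fun z => TensorProduct.lid (ΓE (T0 V)) N (m.rTensor N z)) (h.1 hab)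
    simpa [m, TensorProduct.lid_tmul] using this
  · obtain ⟨x, rfl⟩ := h.2 y
    induction x using TensorProduct.induction_on with
    | zero => exact ⟨0, by rw [map_zero, map_zero]⟩
    | tmul r n => exact ⟨r • n, by rw [α_tmul, gen_smul, e]⟩
    | add x y hx hy =>
      obtain ⟨a, ha⟩ := hx
      obtain ⟨b, hb⟩ := hy
      exact ⟨a + b, by rw [map_add, ha, hb, map_add]⟩

theorem isQuasicoherent_mod : (mod N).IsQuasicoherent :=
  isQuasicoherent_of_forall _ fun E hE W hW => by
    haveI := hE
    haveI := hW
    letI : Algebra (ΓE (T0 V)) (ΓE W.left) := algOver (toTop.obj W.left)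
    letI : Algebra (ΓE (T0 V)) (ΓE E) := algOver (toTop.obj E)
    letI : Algebra (ΓE E) (ΓE W.left) := algOver W
    haveI : IsScalarTower (ΓE (T0 V)) (ΓE E) (ΓE W.left) := IsScalarTower.of_algebraMap_eq fun r => by
      show (ΓMap (toT0 W.left)).hom r = (ΓMap W.hom).hom ((ΓMap (toT0 E)).hom r)
      rw [← CommRingCat.comp_apply, ← Functor.map_comp, ← op_comp, hom_T0_ext (W.hom ≫ toT0 E) (toT0 W.left)]
    let cb := TensorProduct.AlgebraTensorModule.cancelBaseChange (ΓE (T0 V)) (ΓE E) (ΓE W.left) (ΓE W.left) N
    let αL : ΓE E ⊗[ΓE (T0 V)] N →ₗ[ΓE E] Sec (mod N) E :=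
      { toFun := α E
        map_add' := map_add (α E)
        map_smul' := fun r x => ((η N).app (op (toTop.obj E))).hom.map_smul r x }
    have hα : Function.Surjective (LinearMap.lTensor (ΓE W.left) αL) :=
      LinearMap.lTensor_surjective _ (bijective_α E).2
    have key : ∀ z, bcMap (mod N) E W (LinearMap.lTensor (ΓE W.left) αL z) = α W.left (cb z) := by
      intro z
      induction z using TensorProduct.induction_on with
      | zero => simp only [map_zero]
      | add x y hx hy => simp only [map_add, hx, hy]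
      | tmul a x =>
        induction x using TensorProduct.induction_on with
        | zero => simp only [TensorProduct.tmul_zero, map_zero]
        | add x y hx hy => simp only [TensorProduct.tmul_add, map_add, hx, hy]
        | tmul b n =>
          rw [LinearMap.lTensor_tmul, bcMap_tmul, TensorProduct.AlgebraTensorModule.cancelBaseChange_tmul]
          show a • mapSec (mod N) W.hom (α E (b ⊗ₜ n)) = _
          rw [α_tmul, mapSec_smul, mapSec_gen, α_tmul, smul_smul]
          congr 1
          rw [Algebra.smul_def, mul_comm]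
          rfl
    refine ⟨fun x y hxy => ?_, fun z => ?_⟩
    · obtain ⟨a, rfl⟩ := hα x
      obtain ⟨b, rfl⟩ := hα y
      rw [key, key] at hxy
      rw [cb.injective ((bijective_α W.left).1 hxy)]
    · obtain ⟨a, rfl⟩ := (bijective_α W.left).2 z
      exact ⟨LinearMap.lTensor (ΓE W.left) αL (cb.symm a), (key _).trans (congrArg _ (cb.apply_symm_apply a))⟩

/-- morphisms out of the attached module -/
theorem exists_desc (M : ModEt ((yon S).obj V)) (g : ↑N →ₗ[ΓE (T0 V)] Sec M (T0 V)) :
    ∃ f : mod N ⟶ M, ∀ W, IsAff W → ∀ n, secMap f W (gen W n) = mapSec M (toT0 W) (g n) := by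
  let φ : pre (c := T0 V) N ⟶ (M.over (T0 V)).val :=
    preDesc (G := (M.over (T0 V)).val) (N := N) g.toAddMonoidHom (fun a n => g.map_smul a n)
  let φ' : LObj (T0 V) N ⟶ M.over (T0 V) :=
    ((PresheafOfModules.sheafificationAdjunction (𝟙 ((OEtRing ((yon S).obj V)).over (T0 V)).obj)).homEquiv _ _).symm φ
  have hφ : η N ≫ φ'.val = φ := by
    exact ((PresheafOfModules.sheafificationAdjunction
      (𝟙 ((OEtRing ((yon S).obj V)).over (T0 V)).obj)).homEquiv_unit _ _ φ').symm.trans (Equiv.apply_symm_apply _ _)
  obtain ⟨f, hf⟩ := exists_hom_of_affine (A := mod N) (B := M) (fun W _ =>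
      { toFun := fun m => φ'.val.app (op (toTop.obj W)) m
        map_add' := map_add (φ'.val.app (op (toTop.obj W))).hom
        map_smul' := fun r m => (φ'.val.app (op (toTop.obj W))).hom.map_smul r m })
    (fun {E W} hE hW k m => (PresheafOfModules.naturality_apply φ'.val (toTop.map k).op m).symm)
  refine ⟨f, fun W hW n => (hf W hW _).trans ?_⟩
  refine (show φ'.val.app (op (toTop.obj W)) ((η N).app (op (toTop.obj W)) ((1 : ΓE (toTop.obj W).left) ⊗ₜ[ΓE (T0 V)] n)) =
    φ.app (op (toTop.obj W)) ((1 : ΓE (toTop.obj W).left) ⊗ₜ[ΓE (T0 V)] n) from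
      congrArg (fun p => p.app (op (toTop.obj W)) ((1 : ΓE (toTop.obj W).left) ⊗ₜ[ΓE (T0 V)] n)) hφ).trans ?_
  refine (preDesc_app (G := (M.over (T0 V)).val) g.toAddMonoidHom (fun a n => g.map_smul a n) (toTop.obj W) 1 n).trans ?_
  refine (one_smul (ΓE W) _).trans ?_
  rfl

end Groth.Agent.AlgSpLib.QCohEt.LocMod
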