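import Groth.Agent.AlgSpLib.QCohEtModify
import Groth.Agent.AlgSpLib.QCohEtFPAlg
import Groth.Agent.AlgSpLib.QCohEtLocMod
import Groth.Agent.AlgSpLib.QCohEtSubColim
import Groth.Agent.AlgSpLib.MorQC
import Groth.Agent.AlgSpLib.MorProper
import Groth.Agent.AlgSpLib.WeakAssEtPush

/-!
Quasi-coherent modules of finite type are quotients of finitely presented ones: helper lemmas and first steps.
-/

universe u

open CategoryTheory CategoryTheory.Limits AlgebraicGeometry Opposite TensorProduct
open AlgSp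

noncomputable section

set_option linter.style.haveILetI false

namespace Groth.Agent.AlgSpLib.QCohEt

open Groth.Agent.AlgSpLib.SerreAff

set_option backward.isDefEq.respectTransparency.types false
set_option backward.isDefEq.respectTransparency false

variable {S : Scheme.{u}} {X : Sp S}

/-- surjectivity descends along coverings -/
theorem surjective_secMap_of_cover {A B : ModEt X} [A.IsQuasicoherent] [B.IsQuasicoherent] (φ : A ⟶ B) {E : EtOver X}
    [IsAff E] {ι : Type} [Finite ι] {Z : ι → EtOver X} [∀ j, IsAff (Z j)] (g : ∀ j, Z j ⟶ E)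
    (hc : ∀ x, ∃ j, x ∈ Set.range (g j).hom.left.left) (h : ∀ j, Function.Surjective (secMap φ (Z j))) :
    Function.Surjective (secMap φ E) :=
  fun m => (QSub.image φ).mem_of_cover g hc m fun j => h j _

/-- restriction along a monomorphism onto is bijective -/
theorem bijective_mapSec_of_mono (M : ModEt X) {E W : EtOver X} (g : W ⟶ E) [Mono g.hom.left.left]
    (hc : Function.Surjective g.hom.left.left) : Function.Bijective (mapSec M g) := by
  have hcov : ∀ x, ∃ i : PUnit.{1}, x ∈ Set.range ((fun _ : PUnit.{1} => g) i).hom.left.left := fun x => ⟨⟨⟩, hc x⟩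
  refine ⟨fun a b hab => mapSec_ext M (fun _ : PUnit.{1} => g) hcov a b fun _ => hab, fun y => ?_⟩
  have he : EtOver.pullbackFst g g = EtOver.pullbackSnd g g :=
    EtOver.hom_ext _ _ (Over.OverMorphism.ext ((cancel_mono g.hom.left.left).1
      (congrArg (fun k => k.hom.left.left) (EtOver.pullback_condition g g))))
  obtain ⟨x, hx⟩ := exists_mapSec_eq' M (fun _ : PUnit.{1} => g) hcov (fun _ => y) fun _ _ => by rw [he]
  exact ⟨x, hx ⟨⟩⟩

/-- restriction to the open subspace is bijective over it -/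
theorem bijective_mapSec_prE {U : Sp S} {j : U ⟶ X} (hje : IsEtaleMor j) (hj : RepWith @IsOpenImmersion j)
    (hh : Representable j) {E : EtOver X} (cE : Over' (Set.range (Points.map j)) E) (M : ModEt X) :
    Function.Bijective (mapSec M (prE hje hh E)) := by
  haveI : IsOpenImmersion (hh.snd E.obj.hom).left := hj.2 _ _ _ (hh.isPullback E.obj.hom)
  haveI : Mono (prE hje hh E).hom.left.left := inferInstanceAs (Mono (hh.snd E.obj.hom).left)
  refine bijective_mapSec_of_mono M _ fun e => ?_
  obtain ⟨y, hy⟩ := cE ⟨e, rfl⟩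
  obtain ⟨w, hw, -⟩ := exists_bc_point hh (E := E) (u := e) (y := y) hy
  exact ⟨w, hw⟩

/-- the kernel on sections of the projection to a cokernel -/
theorem exists_of_cokernel_π_eq_zero {R G : ModEt X} (a : R ⟶ G) [R.IsQuasicoherent] [G.IsQuasicoherent]
    {E : EtOver X} [IsAff E] {z : Sec G E} (hz : secMap (cokernel.π a) E z = 0) : ∃ r, secMap a E r = z := by
  haveI := isQuasicoherent_cokernel a
  haveI := isQuasicoherent_kernel (cokernel.π a)
  obtain ⟨w, hw⟩ := exists_kernel_lift (cokernel.π a) E z hz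
  haveI : Epi (kernel.lift (cokernel.π a) a (cokernel.condition a)) :=
    inferInstanceAs (Epi (Abelian.factorThruImage a))
  obtain ⟨r, hr⟩ := surjective_secMap_of_epi (kernel.lift (cokernel.π a) a (cokernel.condition a)) E w
  refine ⟨r, ?_⟩
  exact ((secMap_eq (kernel.lift_ι (cokernel.π a) a (cokernel.condition a)).symm E r).trans
    (secMap_comp _ _ E r)).trans ((congrArg (secMap (kernel.ι (cokernel.π a)) E) hr).trans hw)

/-- finitely presented and surjective on affine objects over the locus -/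
def FPSurj {G F : ModEt X} (φ : G ⟶ F) (O : Set (Points X)) : Prop :=
  ∀ E, IsAff E → Over' O E → Module.FinitePresentation (ΓE E) (Sec G E) ∧ Function.Surjective (secMap φ E)

/-- compatible lifts over the members of a family -/
def Compat {G : ModEt X} {Vo : EtOver X} {κ : Type} {D : κ → EtOver X} (d : ∀ k, D k ⟶ Vo) (y : ∀ k, Sec G (D k)) :
    Prop :=
  ∀ i k, mapSec G (EtOver.pullbackFst (d i) (d k)) (y i) = mapSec G (EtOver.pullbackSnd (d i) (d k)) (y k)

theorem eq_of_mem_range {R G : ModEt X} (a : R ⟶ G) {E : EtOver X} (u v : Sec G E) (h : ∃ r, secMap a E r = u - v) :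
    secMap (cokernel.π a) E u = secMap (cokernel.π a) E v := by
  obtain ⟨r, hr⟩ := h
  refine sub_eq_zero.1 ((map_sub (secMap (cokernel.π a) E) u v).symm.trans ?_)
  exact (congrArg (secMap (cokernel.π a) E) hr.symm).trans ((secMap_comp a (cokernel.π a) E r).symm.trans
    ((secMap_eq (cokernel.condition a) E r).trans (secMap_zero_hom E r)))

theorem finitePresentation_coker {R G : ModEt X} (a : R ⟶ G) [R.IsQuasicoherent] [G.IsQuasicoherent] (E : EtOver X)
    [IsAff E] [Module.Finite (ΓE E) (Sec R E)] [Module.FinitePresentation (ΓE E) (Sec G E)] :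
    Module.FinitePresentation (ΓE E) (Sec (cokernel a) E) := by
  refine Module.finitePresentation_of_surjective (secMap (cokernel.π a) E) (surjective_cokernel_π a E) ?_
  have hk : LinearMap.ker (secMap (cokernel.π a) E) = LinearMap.range (secMap a E) := by
    ext v
    refine ⟨fun hv => exists_of_cokernel_π_eq_zero a hv, ?_⟩
    rintro ⟨r, rfl⟩
    exact (secMap_comp a (cokernel.π a) E r).symm.trans
      ((secMap_eq (cokernel.condition a) E r).trans (secMap_zero_hom E r))
  rw [hk]
  exact Module.Finite.iff_fg.1 (Module.Finite.range (secMap a E))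

/-- killing the ambiguity of lifts -/
theorem exists_kill [QuasiSeparatedSpace ↥S] {X : AlgSp.Space S} (hqc : IsQuasiCompactSp X.obj)
    (hqs : IsQuasiSeparatedSp X.obj) {G F : ModEt X.obj} [G.IsQuasicoherent] [F.IsQuasicoherent] (φ : G ⟶ F)
    {O : Set (Points X.obj)} (hφ : FPSurj φ O) {Vo : EtOver X.obj} [IsAff Vo] {κ : Type} [Finite κ]
    {D : κ → EtOver X.obj} [∀ k, IsAff (D k)] (d : ∀ k, D k ⟶ Vo) (cD : ∀ k, Over' O (D k))
    {n : ℕ} (x : Fin n → Sec F Vo) :
    ∃ (G₁ : ModEt X.obj) (_ : G₁.IsQuasicoherent) (φ₁ : G₁ ⟶ F), FPSurj φ₁ O ∧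
      ∀ l, ∃ y : ∀ k, Sec G₁ (D k), Compat d y ∧ ∀ k, secMap φ₁ (D k) (y k) = mapSec F (d k) (x l) := by
  haveI := fun p : κ × κ => isAff_pullbackObj (d p.1) (d p.2)
  choose y hy using fun (l : Fin n) (k : κ) =>
    (hφ (D k) inferInstance (cD k)).2 (mapSec F (d k) (x l))
  haveI := isQuasicoherent_kernel φ
  let Idx : Type := Fin n × κ × κ
  let z : ∀ q : Idx, Sec G (EtOver.pullbackObj (d q.2.1) (d q.2.2)) := fun q =>
    mapSec G (EtOver.pullbackFst (d q.2.1) (d q.2.2)) (y q.1 q.2.1) -
      mapSec G (EtOver.pullbackSnd (d q.2.1) (d q.2.2)) (y q.1 q.2.2)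
  have hz : ∀ q : Idx, secMap φ _ (z q) = 0 := fun q => by
    show secMap φ _ (mapSec G _ (y q.1 q.2.1) - mapSec G _ (y q.1 q.2.2)) = 0
    rw [map_sub, ← mapSec_secMap, ← mapSec_secMap, hy, hy, ← mapSec_comp, ← mapSec_comp,
      EtOver.pullback_condition, sub_self]
  choose w hw using fun q => exists_kernel_lift φ _ (z q) (hz q)
  obtain ⟨R, hR, hRw⟩ := exists_fg_containing hqc hqs (kernel φ)
    (fun q : Idx => EtOver.pullbackObj (d q.2.1) (d q.2.2)) (fun q => isAff_pullbackObj _ _) w
  haveI := R.isQuasicoherent_obj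
  let a : R.obj ⟶ G := R.incl ≫ kernel.ι φ
  haveI := isQuasicoherent_cokernel a
  have ha : a ≫ φ = 0 := by rw [Category.assoc, kernel.condition, comp_zero]
  let π : G ⟶ cokernel a := cokernel.π a
  let φ₁ : cokernel a ⟶ F := cokernel.desc a φ ha
  have hπ : ∀ E (v : Sec G E), secMap φ₁ E (secMap π E v) = secMap φ E v := fun E v =>
    (secMap_comp π φ₁ E v).symm.trans (secMap_eq (cokernel.π_desc a φ ha) E v)
  have hzR : ∀ q : Idx, ∃ r, secMap a (EtOver.pullbackObj (d q.2.1) (d q.2.2)) r = z q := fun q => by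
    obtain ⟨r, hr⟩ := (R.range_incl (isAff_pullbackObj (d q.2.1) (d q.2.2))).symm.subset (hRw q)
    exact ⟨r, ((secMap_comp R.incl (kernel.ι φ) _ r).trans (congrArg (secMap (kernel.ι φ) _) hr)).trans (hw q)⟩
  refine ⟨cokernel a, inferInstance, φ₁, fun E hE cE => ?_, fun l => ?_⟩
  · haveI := hE
    haveI := (hφ E hE cE).1
    haveI := QSub.finite_obj R E (hR E hE)
    refine ⟨finitePresentation_coker a E, fun m => ⟨secMap π E ((hφ E hE cE).2 m).choose, ?_⟩⟩
    exact (hπ E _).trans ((hφ E hE cE).2 m).choose_spec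
  · refine ⟨fun k => secMap π (D k) (y l k), fun i k => ?_, fun k => (hπ _ _).trans (hy l k)⟩
    refine (mapSec_secMap π (EtOver.pullbackFst (d i) (d k)) (y l i)).trans (Eq.trans ?_
      (mapSec_secMap π (EtOver.pullbackSnd (d i) (d k)) (y l k)).symm)
    exact eq_of_mem_range a _ _ (hzR (l, i, k))

end Groth.Agent.AlgSpLib.QCohEt
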