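import Groth.Agent.AlgSpLib.WeakAssEtGlobal
import Groth.Agent.AlgSpLib.NoethDecent

/-!
Sections of quasi-coherent modules of finite type on affine objects are finitely generated.
-/

universe u

open CategoryTheory CategoryTheory.Limits AlgebraicGeometry Opposite TensorProduct
open AlgSp

noncomputable section

set_option linter.style.haveILetI false

namespace Groth.Agent.AlgSpLib.QCohEt

set_option backward.isDefEq.respectTransparency.types false
set_option backward.isDefEq.respectTransparency false

section algebra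

variable {A : Type u} [CommRing A] {ι : Type} [Finite ι] (B : ι → Type u) [∀ j, CommRing (B j)]
  [∀ j, Algebra A (B j)] [∀ j, Module.Flat A (B j)]

theorem finite_of_cover
    (hB : ∀ p : Ideal A, p.IsPrime → ∃ (j : ι) (q : Ideal (B j)), q.IsPrime ∧ q.comap (algebraMap A (B j)) = p)
    (N : Type u) [AddCommGroup N] [Module A N] [∀ j, Module.Finite (B j) (B j ⊗[A] N)] : Module.Finite A N := by
  classical
  have := Fintype.ofFinite ι
  have hN : ∀ j, ∀ x : B j ⊗[A] N, ∃ T : Finset N, x ∈ Submodule.span (B j) ((fun n => (1 : B j) ⊗ₜ[A] n) '' ↑T) := by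
    intro j x
    induction x using TensorProduct.induction_on with
    | zero => exact ⟨∅, zero_mem _⟩
    | tmul b n =>
      refine ⟨{n}, ?_⟩
      rw [show b ⊗ₜ[A] n = b • ((1 : B j) ⊗ₜ[A] n) by rw [TensorProduct.smul_tmul', smul_eq_mul, mul_one]]
      exact Submodule.smul_mem _ _ (Submodule.subset_span ⟨n, by simp, rfl⟩)
    | add x y hx hy =>
      obtain ⟨T, hT⟩ := hx
      obtain ⟨T', hT'⟩ := hy
      exact ⟨T ∪ T', add_mem (Submodule.span_mono (Set.image_mono (by simp)) hT)
        (Submodule.span_mono (Set.image_mono (by simp)) hT')⟩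
  choose G hG using fun j => (Module.Finite.fg_top (R := B j) (M := B j ⊗[A] N))
  choose T hT using hN
  let S : Finset N := Finset.univ.biUnion fun j => (G j).biUnion (T j)
  refine ⟨⟨S, ?_⟩⟩
  by_contra hne
  obtain ⟨n, -, hn⟩ := SetLike.exists_of_lt (lt_of_le_of_ne le_top hne)
  refine hn ((Submodule.Quotient.mk_eq_zero _).1 ?_)
  refine eq_zero_of_forall_one_tmul B hB (Submodule.Quotient.mk (p := Submodule.span A (S : Set N)) n) fun j => ?_
  let φ : B j ⊗[A] N →ₗ[B j] B j ⊗[A] (N ⧸ Submodule.span A (S : Set N)) :=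
    AlgebraTensorModule.map LinearMap.id (Submodule.span A (S : Set N)).mkQ
  suffices h : ⊤ ≤ LinearMap.ker φ from h (Submodule.mem_top (x := (1 : B j) ⊗ₜ[A] n))
  rw [← hG j, Submodule.span_le]
  intro g hg
  refine Submodule.span_le.2 ?_ (hT j g)
  rintro - ⟨m, hm, rfl⟩
  have hmS : m ∈ Submodule.span A (S : Set N) :=
    Submodule.subset_span (Finset.mem_biUnion.2 ⟨j, Finset.mem_univ _, Finset.mem_biUnion.2 ⟨g, hg, hm⟩⟩)
  change (1 : B j) ⊗ₜ[A] Submodule.Quotient.mk (p := Submodule.span A (S : Set N)) m = 0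
  rw [(Submodule.Quotient.mk_eq_zero _).2 hmS, TensorProduct.tmul_zero]

end algebra

variable {S : Scheme.{u}} {X : Sp S} {c : EtOver X}

theorem finite_top_of_generators [IsAff c] {F : SheafOfModules.{u + 1} ((OEtRing X).over c)}
    (P : F.Presentation) (G : F.GeneratingSections) [G.IsFiniteType] :
    Module.Finite (ΓE c) ((Γtop c).obj F) := by
  haveI : IsIso ((adj c).counit.app F) :=
    (adj c).isIso_counit_app_iff_mem_essImage.2 (essImage_of_presentation c P)
  let T : Submodule (ΓE c) ((Γtop c).obj F) := Submodule.span (ΓE c) (Set.range fun i => (G.s i).1 (op (top c)))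
  let Q : ModuleCat.{u + 1} (ΓE c) := ModuleCat.of (ΓE c) ((Γtop c).obj F ⧸ T)
  let qm : (Γtop c).obj F ⟶ Q := ModuleCat.ofHom T.mkQ
  let θ : F ⟶ (L c).obj Q := inv ((adj c).counit.app F) ≫ (L c).map qm
  have hθ : (Γtop c).map θ = qm ≫ (adj c).unit.app Q := by
    have h2 : (Γtop c).map (inv ((adj c).counit.app F)) = (adj c).unit.app ((Γtop c).obj F) := by
      rw [Functor.map_inv]
      exact IsIso.inv_eq_of_inv_hom_id ((adj c).right_triangle_components F)
    rw [Functor.map_comp, h2]
    exact ((adj c).unit.naturality qm).symm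
  have hθ0 : θ = 0 := by
    rw [← cancel_epi G.π, comp_zero]
    refine (SheafOfModules.freeHomEquiv _).injective (funext fun i => ?_)
    have hi : ((SheafOfModules.freeHomEquiv _) (G.π ≫ θ) i).1 (op (top c)) = 0 := by
      rw [SheafOfModules.freeHomEquiv_comp_apply, show F.freeHomEquiv G.π i = G.s i from
        congrFun ((SheafOfModules.freeHomEquiv F).apply_symm_apply G.s) i]
      refine (DFunLike.congr_fun (congrArg ModuleCat.Hom.hom hθ) _).trans ?_
      exact (congrArg ((adj c).unit.app Q) ((Submodule.Quotient.mk_eq_zero T).2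
        (Submodule.subset_span ⟨i, rfl⟩))).trans (map_zero _)
    refine Subtype.ext (funext fun W => ?_)
    refine (PresheafOfModules.sections_property _ (resTop W.unop).op).symm.trans ?_
    rw [hi, map_zero]
    rfl
  have hq : qm = 0 := by
    haveI : (Γtop c).IsRightAdjoint := (adj c).isRightAdjoint
    haveI : (Γtop c).PreservesZeroMorphisms := Functor.preservesZeroMorphisms_of_isRightAdjoint _
    rw [← cancel_mono ((adj c).unit.app Q), zero_comp, ← hθ, hθ0, Functor.map_zero]
  have hT : T = ⊤ := eq_top_iff.2 fun m _ =>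
    (Submodule.Quotient.mk_eq_zero T).1 (DFunLike.congr_fun (congrArg ModuleCat.Hom.hom hq) m)
  exact ⟨hT ▸ Submodule.fg_span (Set.finite_range _)⟩

/-- quasi-coherent modules of finite type have finitely generated sections on affine objects -/
theorem finite_sec (M : ModEt X) [M.IsQuasicoherent] [M.IsFiniteType] (E : EtOver X) [IsAff E] :
    Module.Finite (ΓE E) (Sec M E) := by
  obtain ⟨q⟩ := SheafOfModules.IsQuasicoherent.nonempty_quasicoherentData (M := M)
  obtain ⟨σ, hσ⟩ := SheafOfModules.IsFiniteType.exists_localGeneratorsData (M := M)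
  obtain ⟨ι, hfin, Z, g, hZ, hg, hcov⟩ := exists_finite_affine_refinement
    ((etTop X).intersection_covering (q.coversTop E) (σ.coversTop E))
  haveI := hZ
  letI := fun j => (ΓMap (g j)).hom.toAlgebra
  haveI : ∀ j, Module.Flat (ΓE E) (ΓE (Z j)) := fun j => flat_ΓMap (g j)
  haveI : ∀ j, Module.Finite (ΓE (Z j)) (ΓE (Z j) ⊗[ΓE E] Sec M E) := fun j => by
    obtain ⟨⟨a, ⟨t⟩⟩, ⟨b, ⟨t'⟩⟩⟩ :=
      And.intro ((Sieve.mem_ofObjects_iff ..).1 (hg j).1) ((Sieve.mem_ofObjects_iff ..).1 (hg j).2)
    haveI : PreservesColimitsOfSize.{u + 1, u + 1} (SheafOfModules.overMap.{u + 1} (OEtRing X) t) := inferInstance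
    haveI : PreservesColimitsOfSize.{u + 1, u + 1} (SheafOfModules.overMap.{u + 1} (OEtRing X) t') := inferInstance
    let P := (((q.presentation a).map (SheafOfModules.overMap (OEtRing X) t) (SheafOfModules.overMapUnitIso t).symm).ofIsIso
      ((SheafOfModules.overFunctorMap (OEtRing X) t).app M).hom)
    let G := (((σ.generators b).map (SheafOfModules.overMap (OEtRing X) t') (SheafOfModules.overMapUnitIso t').symm).ofEpi
      ((SheafOfModules.overFunctorMap (OEtRing X) t').app M).hom)
    haveI := hσ.isFiniteType b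
    haveI : G.IsFiniteType :=
      inferInstanceAs (((σ.generators b).map (SheafOfModules.overMap (OEtRing X) t') (SheafOfModules.overMapUnitIso t').symm).ofEpi
        ((SheafOfModules.overFunctorMap (OEtRing X) t').app M).hom).IsFiniteType
    let W : Over E := Over.mk (g j)
    haveI : IsAff W.left := hZ j
    haveI : Module.Finite (ΓE W.left) (Sec M W.left) := finite_top_of_generators P G
    change Module.Finite (ΓE W.left) (ΓE W.left ⊗[ΓE E] Sec M E)
    exact Module.Finite.equiv (bcEquiv M E W).symm
  exact finite_of_cover (fun j => ΓE (Z j)) (fun p hp => exists_comap_eq g hcov p hp) (Sec M E)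

theorem isNoetherianRing_ΓE (hN : IsLocNoethSp X) (E : EtOver X) [IsAff E] : IsNoetherianRing (ΓE E) := by
  haveI : IsLocallyNoetherian E.obj.left.left := isLocallyNoetherian_chart hN E.obj.hom E.property
  haveI : IsNoetherianRing Γ(E.obj.left.left, ⊤) :=
    IsLocallyNoetherian.component_noetherian ⟨⊤, isAffineOpen_top E.obj.left.left⟩
  exact isNoetherianRing_of_ringEquiv _ (ULift.ringEquiv (R := Γ(E.obj.left.left, ⊤))).symm

end Groth.Agent.AlgSpLib.QCohEt
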