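import Groth.Agent.AlgSpLib.QCohEtRlim
import Groth.Agent.AlgSpLib.SerreAffineSec

/-!
Cohomology sheaves of derived limits of inverse systems in `D_QCoh` with epimorphic transition maps.
-/

set_option autoImplicit false
set_option backward.isDefEq.respectTransparency false
set_option backward.isDefEq.respectTransparency.types false
set_option linter.style.haveILetI false

universe u

open CategoryTheory CategoryTheory.Limits CategoryTheory.Pretriangulated DerivedCategory Opposite AlgebraicGeometry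
open Groth.Agent.SiteDer16 Groth.Agent.DCat Groth.Agent.DQCoh AlgSp

noncomputable section

attribute [local instance] HasDerivedCategory.standard

namespace Groth.Agent.AlgSpLib.EtSmall

open Groth.Agent.AlgSpLib.QCohEt

variable {S : Scheme.{u}} {X : Sp S}

/-- the adjunction between opposite shifts -/
def shAdj (X : Sp S) (q : ℤ) : shiftFunctor (DModEt X) (-q) ⊣ shiftFunctor (DModEt X) q :=
  (shiftEquiv (DModEt X) q).symm.toAdjunction

/-- cohomology of a shift -/
def hShift (X : Sp S) (q : ℤ) :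
    shiftFunctor (DModEt X) q ⋙ homologyFunctor (ModEt X) 0 ≅ homologyFunctor (ModEt X) q :=
  (homologyFunctor (ModEt X) 0).shiftIso q 0 q (by omega)

/-- the class in degree `q` of a map out of a shifted free module -/
def θq {V : Idx X} {K : DModEt X} (q : ℤ) (y : ((etSections X).pt.obj V)⟦-q⟧ ⟶ K) :
    (etSections X).P.obj V ⟶ (homologyFunctor (ModEt X) q).obj K :=
  (etSections X).θ ((shAdj X q).homEquiv _ _ y) ≫ (hShift X q).hom.app K

theorem θq_comp {V : Idx X} {K K' : DModEt X} (q : ℤ) (y : ((etSections X).pt.obj V)⟦-q⟧ ⟶ K) (f : K ⟶ K') :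
    θq q (y ≫ f) = θq q y ≫ (homologyFunctor (ModEt X) q).map f := by
  have h1 : (shAdj X q).homEquiv _ _ (y ≫ f) = (shAdj X q).homEquiv _ _ y ≫ f⟦q⟧' :=
    Adjunction.homEquiv_naturality_right _ _ _
  have h2 : (homologyFunctor (ModEt X) 0).map (f⟦q⟧') ≫ (hShift X q).hom.app K' =
      (hShift X q).hom.app K ≫ (homologyFunctor (ModEt X) q).map f := (hShift X q).hom.naturality f
  rw [θq, h1, Sections.θ_comp, Category.assoc, h2, θq, Category.assoc]

theorem θq_map {V W : Idx X} (g : W ⟶ V) {K : DModEt X} (q : ℤ) (y : ((etSections X).pt.obj V)⟦-q⟧ ⟶ K) :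
    θq q (((etSections X).pt.map g)⟦-q⟧' ≫ y) = (etSections X).P.map g ≫ θq q y := by
  rw [θq, Adjunction.homEquiv_naturality_left, Sections.θ_map, θq, Category.assoc]

/-- the cohomology of a shift stays quasi-coherent -/
theorem isQCoh_shift {K : DModEt X} (hK : DCoh.IsQCohDMod (OEtRing X) K) (q : ℤ) :
    DCoh.IsQCohDMod (OEtRing X) (K⟦q⟧) := fun i => by
  haveI := hK (q + i)
  exact (SheafOfModules.isQuasicoherent (OEtRing X)).prop_of_iso
    (((homologyFunctor (ModEt X) 0).shiftIso q i (q + i) rfl).app K).symm (hK (q + i))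

theorem bijective_θq (K : DModEt X) (hK : DCoh.IsQCohDMod (OEtRing X) K) (q : ℤ) {V : Idx X} (hV : V ∈ affSet X) :
    Function.Bijective (fun y : ((etSections X).pt.obj V)⟦-q⟧ ⟶ K => θq q y) :=
  ((asIso ((hShift X q).hom.app K)).homToEquiv.bijective.comp
    ((bijective_θ _ (isQCoh_shift hK q) hV).comp ((shAdj X q).homEquiv _ _).bijective))

theorem exists_affine_refinement {V : Idx X} {T : Sieve V} (hT : T ∈ top X V) :
    ∃ (ι : Type (u + 1)) (Y : ι → Idx X) (f : ∀ i, Y i ⟶ V), (∀ i, T.arrows (f i)) ∧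
      Sieve.ofArrows Y f ∈ top X V ∧ ∀ i, Y i ∈ affSet X :=
  exists_refinement _ (exists_affine_cover' X) T hT

/-- classes in degree `q` come from morphisms, locally on affines -/
theorem exists_local_lift {V : Idx X} {K : DModEt X} {q : ℤ}
    (x : (etSections X).P.obj V ⟶ (homologyFunctor (ModEt X) q).obj K) :
    ∃ T ∈ top X V, ∀ ⦃W : Idx X⦄ (g : W ⟶ V), T g →
      ∃ y : ((etSections X).pt.obj W)⟦-q⟧ ⟶ K, θq q y = (etSections X).P.map g ≫ x := by
  obtain ⟨T, hT, hl⟩ := (etSections X).exists_local_lift (x ≫ (hShift X q).inv.app K)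
  refine ⟨T, hT, fun W g hg => ?_⟩
  obtain ⟨y, hy⟩ := hl g hg
  refine ⟨((shAdj X q).homEquiv _ _).symm y, ?_⟩
  rw [θq, Equiv.apply_symm_apply, hy]
  simp

variable (K : ℕ → DModEt X) (t : ∀ n, K (n + 1) ⟶ K n) [HasProduct K] {L : DModEt X} {a : ∀ n, L ⟶ K n}
  (hL : CohCx.IsRlimVia K t L a) (hK : ∀ n, DCoh.IsQCohDMod (OEtRing X) (K n))
  (ht : ∀ (q : ℤ) (n : ℕ), Epi ((homologyFunctor (ModEt X) q).map (t n)))

include hK ht in
theorem surjective_comp_t (q : ℤ) {V : Idx X} (hV : V ∈ affSet X) (n : ℕ) :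
    Function.Surjective (fun y : ((etSections X).pt.obj V)⟦-q⟧ ⟶ K (n + 1) => y ≫ t n) := by
  intro y
  haveI := hK (n + 1) q
  haveI := hK n q
  haveI := ht q n
  haveI : IsAff (ULiftHom.objDown V) := hV
  obtain ⟨s, hs⟩ := surjective_secMap_of_epi ((homologyFunctor (ModEt X) q).map (t n)) (ULiftHom.objDown V)
    (secEquiv X V _ (θq q y))
  obtain ⟨z, hz⟩ := (bijective_θq _ (hK (n + 1)) q hV).2 ((secEquiv X V _).symm s)
  refine ⟨z, (bijective_θq _ (hK n) q hV).1 ?_⟩
  dsimp only at hz ⊢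
  rw [θq_comp, hz]
  apply (secEquiv X V _).injective
  rw [secEquiv_comp, AddEquiv.apply_symm_apply]
  exact hs

include hL in
theorem exists_lift_compatible {P : DModEt X} (v : ∀ n, P ⟶ K n) (hv : ∀ n, v (n + 1) ≫ t n = v n) :
    ∃ y : P ⟶ L, ∀ n, y ≫ a n = v n := by
  obtain ⟨c, hc⟩ := hL
  obtain ⟨y, hy⟩ := Triangle.coyoneda_exact₂ _ hc (Pi.lift v) (Pi.hom_ext _ _ fun n => by
    simp [Preadditive.comp_sub, hv n])
  refine ⟨y, fun n => ?_⟩
  have := hy =≫ Pi.π K n
  simp only [Category.assoc, Pi.lift_π, Triangle.mk_mor₁] at this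
  exact this.symm

include hL in
theorem eq_zero_of_comp_zero {P : DModEt X} (y : P ⟶ L) (hy : ∀ n, y ≫ a n = 0)
    (hs : ∀ n, Function.Surjective (fun f : P⟦(1 : ℤ)⟧ ⟶ K (n + 1) => f ≫ t n)) : y = 0 := by
  obtain ⟨c, hc⟩ := hL
  have h0 : y ≫ Pi.lift a = 0 := Pi.hom_ext _ _ fun n => by simpa using hy n
  apply (shiftFunctor (DModEt X) (1 : ℤ)).map_injective
  obtain ⟨g, hg⟩ := Triangle.coyoneda_exact₁ _ hc (y⟦(1 : ℤ)⟧') (by
    rw [← Functor.map_comp]
    exact (congrArg _ h0).trans (Functor.map_zero _ _ _))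
  obtain ⟨w, hw⟩ := exists_difference K t (P⟦(1 : ℤ)⟧) 0 (fun n _ => hs n) (fun n => g ≫ Pi.π K n)
  have hgw : g = Pi.lift w ≫ (Pi.lift fun n => Pi.π K n - Pi.π K (n + 1) ≫ t n) := Pi.hom_ext _ _ fun n => by
    simp only [Category.assoc, Pi.lift_π, Preadditive.comp_sub, Pi.lift_π_assoc]
    exact (hw n).symm
  rw [Functor.map_zero, hg, hgw, Category.assoc]
  exact (congrArg _ (comp_distTriang_mor_zero₂₃ _ hc)).trans comp_zero

include hK ht in
theorem surjective_comp_t_shift (q : ℤ) {V : Idx X} (hV : V ∈ affSet X) (n : ℕ) :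
    Function.Surjective (fun y : (((etSections X).pt.obj V)⟦-q⟧)⟦(1 : ℤ)⟧ ⟶ K (n + 1) => y ≫ t n) := by
  let e := (shiftFunctorAdd' (DModEt X) (-q) 1 (-(q - 1)) (by omega)).app ((etSections X).pt.obj V)
  intro y
  obtain ⟨z, hz⟩ := surjective_comp_t K t hK ht (q - 1) hV n (e.hom ≫ y)
  dsimp only at hz
  exact ⟨e.inv ≫ z, by dsimp only; rw [Category.assoc, hz]; exact e.inv_hom_id_assoc _⟩

include hL hK ht in
/-- sections of the cohomology of the derived limit are compatible families, on affines -/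
theorem bijective_sections (q : ℤ) {V : Idx X} (hV : V ∈ affSet X) :
    (∀ x : (etSections X).P.obj V ⟶ (homologyFunctor (ModEt X) q).obj L,
      (∀ n, x ≫ (homologyFunctor (ModEt X) q).map (a n) = 0) → x = 0) ∧
    ∀ v : ∀ n, (etSections X).P.obj V ⟶ (homologyFunctor (ModEt X) q).obj (K n),
      (∀ n, v (n + 1) ≫ (homologyFunctor (ModEt X) q).map (t n) = v n) →
      ∃ x, ∀ n, x ≫ (homologyFunctor (ModEt X) q).map (a n) = v n := by
  constructor
  · intro x hx
    obtain ⟨T, hT, hl⟩ := exists_local_lift x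
    obtain ⟨ι, Y, f, hf, hcov, hY⟩ := exists_affine_refinement hT
    refine (etSections X).sep x _ hcov ?_
    rintro W g ⟨_, k, _, ⟨i⟩, rfl⟩
    obtain ⟨y, hy⟩ := hl (f i) (hf i)
    have hy0 : y = 0 := eq_zero_of_comp_zero K t hL y (fun n => (bijective_θq _ (hK n) q (hY i)).1 (by
        dsimp only
        rw [θq_comp, hy, Category.assoc, hx, comp_zero]
        simp [θq, Sections.θ, Adjunction.homEquiv_unit]))
      (surjective_comp_t_shift K t hK ht q (hY i))
    rw [Functor.map_comp, Category.assoc, ← hy, hy0]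
    simp [θq, Sections.θ, Adjunction.homEquiv_unit]
  · intro v hv
    choose z hz using fun n => (bijective_θq _ (hK n) q hV).2 (v n)
    obtain ⟨y, hy⟩ := exists_lift_compatible K t hL z fun n => (bijective_θq _ (hK n) q hV).1 (by
      dsimp only
      rw [θq_comp, show θq q (z (n + 1)) = v (n + 1) from hz (n + 1), show θq q (z n) = v n from hz n, hv])
    exact ⟨θq q y, fun n => by rw [← θq_comp, hy]; exact hz n⟩

end Groth.Agent.AlgSpLib.EtSmall

namespace Groth.Agent.AlgSpLib.EtSmall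

variable {S : Scheme.{u}} {X : Sp S}

/-- maps out of free modules glue -/
theorem exists_glue {V : Idx X} (F : ModEt X) {ι : Type (u + 1)} {Y : ι → Idx X} (f : ∀ i, Y i ⟶ V)
    (hcov : Sieve.ofArrows Y f ∈ top X V) (x : ∀ i, (etSections X).P.obj (Y i) ⟶ F)
    (h : ∀ (i j : ι) (W : Idx X) (gi : W ⟶ Y i) (gj : W ⟶ Y j), gi ≫ f i = gj ≫ f j →
      (etSections X).P.map gi ≫ x i = (etSections X).P.map gj ≫ x j) :
    ∃ z : (etSections X).P.obj V ⟶ F, ∀ i, (etSections X).P.map (f i) ≫ z = x i := by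
  let Fm := (modEquiv X).inverse.obj F
  let G : Sheaf (top X) AddCommGrpCat.{u + 1} :=
    (SheafOfModules.toSheaf.{u + 1} (ModSite.ringSh (OO X))).obj Fm
  let e : ∀ U : Idx X, ((etSections X).P.obj U ⟶ F) ≃+ G.obj.obj (op U) := fun U =>
    AddEquiv.trans (((modEquiv X).toAdjunction).homAddEquiv _ F) (SiteDer16.modHomEquiv (OO X) U Fm)
  have he : ∀ {W U : Idx X} (g : W ⟶ U) (z : (etSections X).P.obj U ⟶ F),
      e W ((etSections X).P.map g ≫ z) = G.obj.map g.op (e U z) := fun g z => by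
    show SiteDer16.modHomEquiv₀ (OO X) _ _ (((modEquiv X).toAdjunction).homEquiv _ F
      ((modEquiv X).functor.map ((SiteDer16.modFree (OO X)).map g) ≫ z)) = _
    rw [Adjunction.homEquiv_naturality_left]
    exact SiteDer16.modHomEquiv₀_precomp (OO X) g _
  have hsh := Presieve.IsSheaf.isSheafFor ((isSheaf_iff_isSheaf_of_type _ _).1
    ((sheafCompose (top X) (forget AddCommGrpCat.{u + 1})).obj G).2) _ hcov
  rw [Presieve.isSheafFor_arrows_iff] at hsh
  obtain ⟨s, hs, -⟩ := hsh (fun i => e _ (x i)) fun i j W gi gj hg =>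
    ((he gi (x i)).symm.trans (congrArg (e W) (h i j W gi gj hg))).trans (he gj (x j))
  exact ⟨(e V).symm s, fun i => (e _).injective ((he (f i) _).trans
    ((congrArg _ ((e V).apply_symm_apply s)).trans (hs i)))⟩

variable (K : ℕ → DModEt X) (t : ∀ n, K (n + 1) ⟶ K n) [HasProduct K] {L : DModEt X} {a : ∀ n, L ⟶ K n}
  (hL : CohCx.IsRlimVia K t L a) (hK : ∀ n, DCoh.IsQCohDMod (OEtRing X) (K n))
  (ht : ∀ (q : ℤ) (n : ℕ), Epi ((homologyFunctor (ModEt X) q).map (t n)))

include hL hK ht in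
/-- sections of the cohomology of the derived limit are compatible families -/
theorem bijective_sections' (q : ℤ) (V : Idx X) :
    (∀ x : (etSections X).P.obj V ⟶ (homologyFunctor (ModEt X) q).obj L,
      (∀ n, x ≫ (homologyFunctor (ModEt X) q).map (a n) = 0) → x = 0) ∧
    ∀ v : ∀ n, (etSections X).P.obj V ⟶ (homologyFunctor (ModEt X) q).obj (K n),
      (∀ n, v (n + 1) ≫ (homologyFunctor (ModEt X) q).map (t n) = v n) →
      ∃ x, ∀ n, x ≫ (homologyFunctor (ModEt X) q).map (a n) = v n := by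
  have inj : ∀ (U : Idx X) (x : (etSections X).P.obj U ⟶ (homologyFunctor (ModEt X) q).obj L),
      (∀ n, x ≫ (homologyFunctor (ModEt X) q).map (a n) = 0) → x = 0 := fun U x hx => by
    obtain ⟨ι, Y, f, hcov, hY⟩ := exists_affine_cover' X U
    refine (etSections X).sep x _ hcov ?_
    rintro W g ⟨_, k, _, ⟨i⟩, rfl⟩
    have h0 := (bijective_sections K t hL hK ht q (hY i)).1 ((etSections X).P.map (f i) ≫ x)
      (fun n => by rw [Category.assoc, hx, comp_zero])
    rw [Functor.map_comp, Category.assoc, h0, comp_zero]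
  refine ⟨inj V, fun v hv => ?_⟩
  obtain ⟨ι, Y, f, hcov, hY⟩ := exists_affine_cover' X V
  choose x hx using fun i => (bijective_sections K t hL hK ht q (hY i)).2
    (fun n => (etSections X).P.map (f i) ≫ v n) (fun n => by rw [Category.assoc, hv])
  obtain ⟨z, hz⟩ := exists_glue _ f hcov x fun i j W gi gj hg => by
    refine sub_eq_zero.1 (inj W _ fun n => ?_)
    rw [Preadditive.sub_comp, Category.assoc, Category.assoc, hx, hx, ← Category.assoc, ← Category.assoc,
      ← Functor.map_comp, ← Functor.map_comp, hg, sub_self]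
  refine ⟨z, fun n => sub_eq_zero.1 ((etSections X).sep _ _ hcov ?_)⟩
  rintro W g ⟨_, k, _, ⟨i⟩, rfl⟩
  rw [Functor.map_comp, Category.assoc, Preadditive.comp_sub, ← Category.assoc _ z, hz, hx, sub_self, comp_zero]

end Groth.Agent.AlgSpLib.EtSmall
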