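import Groth.Agent.AlgSpLib.QCohEtPSub
import Groth.Agent.AlgSpLib.WeakAssEtGlobal
import Groth.Agent.AlgSpLib.InductPrinciple

/-!
Finitely generated quasi-coherent submodules containing given local sections on a quasi-compact and
quasi-separated space.
-/

set_option autoImplicit false

universe u

open CategoryTheory CategoryTheory.Limits AlgebraicGeometry Opposite TensorProduct
open AlgSp

noncomputable section

set_option linter.style.haveILetI false

namespace Groth.Agent.AlgSpLib.QCohEt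

set_option backward.isDefEq.respectTransparency.types false
set_option backward.isDefEq.respectTransparency false

variable {S : Scheme.{u}} {X : Sp S}

/-- the objects lying over a set of points -/
def Over' (O : Set (Points X)) (E : EtOver X) : Prop := Set.range (Points.ofPt E.obj.hom) ⊆ O

theorem ofPt_edge_hom {E W : EtOver X} (g : W ⟶ E) (w : W.obj.left.left) :
    Points.ofPt E.obj.hom (g.hom.left.left w) = Points.ofPt W.obj.hom w := by
  rw [← ofPt_map g.hom.left E.obj.hom w, EtOver.w g]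

theorem down_over (O : Set (Points X)) : Down (Over' O) := fun E W g hE => by
  rintro _ ⟨w, rfl⟩
  rw [← ofPt_edge_hom g w]
  exact hE ⟨_, rfl⟩

/-- an open subobject -/
def opObj (E : EtOver X) (A : E.obj.left.left.Opens) : EtOver X :=
  EtOver.mk ((yon S).map (Induct.opHom E.obj.left A) ≫ E.obj.hom)
    (RepWith.comp (Induct.repWith_etale (Induct.repWith_opHom E.obj.left A)) E.property)

/-- its inclusion -/
def opι (E : EtOver X) (A : E.obj.left.left.Opens) : opObj E A ⟶ E :=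
  EtOver.homMk (Induct.opHom E.obj.left A) rfl

theorem range_opι (E : EtOver X) (A : E.obj.left.left.Opens) :
    Set.range (opι E A).hom.left.left = (A : Set E.obj.left.left) :=
  A.range_ι

/-- finite covers of compact subsets by good affine pieces -/
theorem exists_finite_pieces (E : EtOver X) {K : Set E.obj.left.left} (hK : IsCompact K)
    (R : ∀ Z : EtOver X, (Z ⟶ E) → Prop)
    (hloc : ∀ e ∈ K, ∃ (Z : EtOver X) (g : Z ⟶ E), IsAff Z ∧ R Z g ∧ e ∈ Set.range g.hom.left.left) :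
    ∃ (ι : Type) (_ : Finite ι) (Z : ι → EtOver X) (g : ∀ j, Z j ⟶ E), (∀ j, IsAff (Z j)) ∧
      (∀ j, R (Z j) (g j)) ∧ ∀ e ∈ K, ∃ j, e ∈ Set.range (g j).hom.left.left := by
  classical
  choose Z g hZ hR he using hloc
  have : ∀ e (h : e ∈ K), IsOpen (Set.range (g e h).hom.left.left) := fun e h =>
    have := EtOver.etale_left (g e h)
    (g e h).hom.left.left.isOpenMap.isOpen_range
  obtain ⟨σ, hσ⟩ := hK.elim_finite_subcover (fun e : K => Set.range (g e.1 e.2).hom.left.left)
    (fun e => this e.1 e.2) (fun e he' => Set.mem_iUnion.2 ⟨⟨e, he'⟩, he e he'⟩)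
  refine ⟨Fin σ.card, inferInstance, fun i => Z (σ.equivFin.symm i).1.1 (σ.equivFin.symm i).1.2, fun i => g _ _,
    fun i => hZ _ _, fun i => hR _ _, fun e he' => ?_⟩
  obtain ⟨e', he'', hee'⟩ := Set.mem_iUnion₂.1 (hσ he')
  obtain ⟨i, hi⟩ := σ.equivFin.symm.surjective ⟨e', he''⟩
  refine ⟨i, ?_⟩
  show e ∈ Set.range (g (σ.equivFin.symm i).1.1 (σ.equivFin.symm i).1.2).hom.left.left
  rw [hi]
  exact hee'

/-- affine neighbourhoods inside an open -/
theorem exists_piece_mem (E : EtOver X) {U : Set E.obj.left.left} (hU : IsOpen U) {e : E.obj.left.left}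
    (he : e ∈ U) : ∃ (Z : EtOver X) (g : Z ⟶ E), IsAff Z ∧ Set.range g.hom.left.left ⊆ U ∧
      e ∈ Set.range g.hom.left.left := by
  obtain ⟨_, ⟨A, hA, rfl⟩, heA, hAU⟩ :=
    E.obj.left.left.isBasis_affineOpens.exists_subset_of_mem_open he hU
  exact ⟨opObj E A, opι E A, hA, (range_opι E A).trans_subset hAU, (range_opι E A).symm.subset heA⟩

theorem isCompact_locus [QuasiSeparatedSpace ↥S] (hX : IsAlgSpace X) (hs : IsQuasiSeparatedSp X)
    {O : Set (Points X)} (hOo : IsOpen O) (hOc : IsCompact O) (E : EtOver X) [IsAff E] :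
    IsCompact (Points.ofPt E.obj.hom ⁻¹' O) := by
  haveI : IsAffine E.obj.left.left := (inferInstance : IsAff E)
  have h := Induct.isCompact_preimage hX hs E.obj.hom hOo hOc
  have e : Points.ofPt E.obj.hom ⁻¹' O = (Points.schemeHomeo E.obj.left) ⁻¹' (Points.map E.obj.hom ⁻¹' O) := by
    ext x
    show Points.ofPt E.obj.hom x ∈ O ↔ Points.map E.obj.hom _ ∈ O
    rw [Points.ofPt_eq_map_ofScheme]
    rfl
  rw [e]
  exact (Points.schemeHomeo E.obj.left).isCompact_preimage.2 h

/-- affine objects have finite covers of their part over a compact open -/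
theorem coversLocus_over [QuasiSeparatedSpace ↥S] (hX : IsAlgSpace X) (hs : IsQuasiSeparatedSp X)
    {O : Set (Points X)} (hOo : IsOpen O) (hOc : IsCompact O) (E : EtOver X) [IsAff E] :
    PSub.CoversLocus (Over' O) E := by
  obtain ⟨ι, hfin, Z, g, hZ, hR, hc⟩ := exists_finite_pieces E (isCompact_locus hX hs hOo hOc E)
    (fun Z _ => Over' O Z) fun e he => by
      obtain ⟨Z, g, hZ, hg, heg⟩ := exists_piece_mem E (hOo.preimage (Points.continuous_ofPt E.obj.hom)) he
      exact ⟨Z, g, hZ, by rintro _ ⟨z, rfl⟩; rw [← ofPt_edge_hom g z]; exact hg ⟨z, rfl⟩, heg⟩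
  exact ⟨ι, hfin, Z, g, hZ, hR, fun W _ cW f w => hc _ (by
    show Points.ofPt E.obj.hom (f.hom.left.left w) ∈ O
    rw [ofPt_edge_hom f w]; exact cW ⟨w, rfl⟩)⟩

namespace PSub

variable {F : ModEt X}

theorem span_span {E W U : EtOver X} (N : Submodule (ΓE E) (Sec F E)) (h : W ⟶ E) (g : U ⟶ W) :
    Submodule.span (ΓE U) (mapSec F g '' (Submodule.span (ΓE W) (mapSec F h '' (N : Set (Sec F E))) : Set (Sec F W))) =
      Submodule.span (ΓE U) (mapSec F (g ≫ h) '' (N : Set (Sec F E))) := by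
  refine le_antisymm (Submodule.span_le.2 ?_) (Submodule.span_mono ?_)
  · rintro _ ⟨s, hs, rfl⟩
    induction hs using Submodule.span_induction with
    | mem v hv =>
      obtain ⟨n, hn, rfl⟩ := hv
      exact Submodule.subset_span ⟨n, hn, mapSec_comp F g h n⟩
    | zero => rw [map_zero]; exact zero_mem _
    | add v w _ _ hv hw => rw [map_add]; exact add_mem hv hw
    | smul r v _ hv => rw [mapSec_smul]; exact Submodule.smul_mem _ _ hv
  · rintro _ ⟨n, hn, rfl⟩
    exact ⟨_, Submodule.subset_span ⟨n, hn, rfl⟩, (mapSec_comp F g h n).symm⟩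

/-- union of two agreeing families -/
def union {C₁ C₂ : EtOver X → Prop} (hd₁ : Down C₁) (hd₂ : Down C₂) (G₁ : PSub F C₁) (G₂ : PSub F C₂)
    (h : ∀ E hE c₁ c₂, G₁.P E hE c₁ = G₂.P E hE c₂) : PSub F (fun E => C₁ E ∨ C₂ E) where
  P E hE _ := (⨅ c : C₁ E, G₁.P E hE c) ⊓ ⨅ c : C₂ E, G₂.P E hE c
  span_eq {E W} hE hW cE _ g := by
    have key₁ : ∀ (Z : EtOver X) (hZ : IsAff Z) (c : C₁ Z),
        (⨅ c : C₁ Z, G₁.P Z hZ c) ⊓ (⨅ c : C₂ Z, G₂.P Z hZ c) = G₁.P Z hZ c := fun Z hZ c => by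
      rw [iInf_pos c]
      exact inf_eq_left.2 (le_iInf fun c₂ => (h Z hZ c c₂).le)
    have key₂ : ∀ (Z : EtOver X) (hZ : IsAff Z) (c : C₂ Z),
        (⨅ c : C₁ Z, G₁.P Z hZ c) ⊓ (⨅ c : C₂ Z, G₂.P Z hZ c) = G₂.P Z hZ c := fun Z hZ c => by
      rw [iInf_pos c]
      exact inf_eq_right.2 (le_iInf fun c₁ => (h Z hZ c₁ c).ge)
    rcases cE with c | c
    · rw [key₁ E hE c, key₁ W hW (hd₁ g c)]
      exact G₁.span_eq hE hW c (hd₁ g c) g
    · rw [key₂ E hE c, key₂ W hW (hd₂ g c)]
      exact G₂.span_eq hE hW c (hd₂ g c) g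

theorem union_P_left {C₁ C₂ : EtOver X → Prop} (hd₁ : Down C₁) (hd₂ : Down C₂) (G₁ : PSub F C₁) (G₂ : PSub F C₂)
    (h : ∀ E hE c₁ c₂, G₁.P E hE c₁ = G₂.P E hE c₂) (E : EtOver X) (hE : IsAff E) (c : C₁ E) (c') :
    (union hd₁ hd₂ G₁ G₂ h).P E hE c' = G₁.P E hE c := by
  show (⨅ c : C₁ E, G₁.P E hE c) ⊓ (⨅ c : C₂ E, G₂.P E hE c) = _
  rw [iInf_pos c]
  exact inf_eq_left.2 (le_iInf fun c₂ => (h E hE c c₂).le)

theorem union_P_right {C₁ C₂ : EtOver X → Prop} (hd₁ : Down C₁) (hd₂ : Down C₂) (G₁ : PSub F C₁) (G₂ : PSub F C₂)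
    (h : ∀ E hE c₁ c₂, G₁.P E hE c₁ = G₂.P E hE c₂) (E : EtOver X) (hE : IsAff E) (c : C₂ E) (c') :
    (union hd₁ hd₂ G₁ G₂ h).P E hE c' = G₂.P E hE c := by
  show (⨅ c : C₁ E, G₁.P E hE c) ⊓ (⨅ c : C₂ E, G₂.P E hE c) = _
  rw [iInf_pos c]
  exact inf_eq_right.2 (le_iInf fun c₁ => (h E hE c₁ c).ge)

end PSub

variable {F : ModEt X} [F.IsQuasicoherent]

theorem span_fg {E W : EtOver X} (g : W ⟶ E) {N : Submodule (ΓE E) (Sec F E)} (h : N.FG) :
    (Submodule.span (ΓE W) (mapSec F g '' (N : Set (Sec F E)))).FG := by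
  classical
  obtain ⟨t, rfl⟩ := h
  refine ⟨t.image (mapSec F g), le_antisymm
    (Submodule.span_mono ((Finset.coe_image (s := t) (f := mapSec F g)).trans_subset
      (Set.image_mono Submodule.subset_span))) (Submodule.span_le.2 ?_)⟩
  rintro _ ⟨s, hs, rfl⟩
  induction hs using Submodule.span_induction with
  | mem v hv => exact Submodule.subset_span (Finset.mem_coe.2 (Finset.mem_image_of_mem _ hv))
  | zero => rw [map_zero]; exact zero_mem _
  | add v w _ _ hv hw => rw [map_add]; exact add_mem hv hw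
  | smul r v _ hv => rw [mapSec_smul]; exact Submodule.smul_mem _ _ hv

/-- two maps to the same chart agree near points outside `O` -/
theorem exists_piece_eq {O : Set (Points X)} {Vo W : EtOver X} (hu : Induct.Uniq O Vo.obj.hom)
    (h h' : W ⟶ Vo) (w : W.obj.left.left) (hw : Points.ofPt W.obj.hom w ∉ O) :
    ∃ (Z : EtOver X) (g : Z ⟶ W), IsAff Z ∧ g ≫ h = g ≫ h' ∧ w ∈ Set.range g.hom.left.left := by
  let P := EtOver.prodObj Vo Vo
  let sq := Vo.property.1.isPullback Vo.obj.hom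
  have mk2 : ∀ {Y : EtOver X} (a b : Y ⟶ Vo), ∃ k : Y ⟶ P, k ≫ EtOver.prodFst Vo Vo = a ∧
      k ≫ EtOver.prodSnd Vo Vo = b := fun {Y} a b => by
    obtain ⟨l, hl⟩ := (yon S).map_surjective (sq.lift ((yon S).map b.hom.left) ((yon S).map a.hom.left)
      ((EtOver.w b).trans (EtOver.w a).symm))
    have hl₁ : l ≫ Vo.property.1.fst' Vo.obj.hom = b.hom.left := (yon S).map_injective (by
      rw [Functor.map_comp, Functor.relativelyRepresentable.map_fst', hl]; exact sq.lift_fst _ _ _)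
    have hl₂ : l ≫ Vo.property.1.snd Vo.obj.hom = a.hom.left := (yon S).map_injective (by
      rw [Functor.map_comp, hl]; exact sq.lift_snd _ _ _)
    refine ⟨EtOver.homMk l ?_, EtOver.hom_ext _ _ hl₂, EtOver.hom_ext _ _ hl₁⟩
    show (yon S).map l ≫ (yon S).map (Vo.property.1.snd Vo.obj.hom) ≫ Vo.obj.hom = Y.obj.hom
    rw [← Category.assoc, ← Functor.map_comp, hl₂, EtOver.w a]
  obtain ⟨δ, hδ₁, hδ₂⟩ := mk2 (𝟙 Vo) (𝟙 Vo)
  obtain ⟨k, hk₁, hk₂⟩ := mk2 h h'
  have hkw : k.hom.left.left w ∈ Set.range δ.hom.left.left := by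
    obtain ⟨x, hx⟩ := FlatMorWeight.exists_geomPt w
    let G := geomHom x
    have hv : (yon S).map (G ≫ h.hom.left) ≫ Vo.obj.hom = (yon S).map (G ≫ h'.hom.left) ≫ Vo.obj.hom := by
      rw [Functor.map_comp, Functor.map_comp, Category.assoc, Category.assoc, EtOver.w, EtOver.w]
    have hn : ptOfHom ((yon S).map (G ≫ h.hom.left) ≫ Vo.obj.hom) ∉ O := by
      rw [Functor.map_comp, Category.assoc, EtOver.w, ptOfHom_yon_map]
      exact fun hm => hw (by rw [← hx]; exact hm)
    have hveq := hu _ _ _ _ hv hn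
    have e1 := congrArg (fun q => q.hom.left) hk₁
    have e2 := congrArg (fun q => q.hom.left) hk₂
    have d1 : δ.hom.left ≫ (EtOver.prodFst Vo Vo).hom.left = 𝟙 _ := congrArg (fun q => q.hom.left) hδ₁
    have d2 : δ.hom.left ≫ (EtOver.prodSnd Vo Vo).hom.left = 𝟙 _ := congrArg (fun q => q.hom.left) hδ₂
    have e : G ≫ k.hom.left = (G ≫ h.hom.left) ≫ δ.hom.left := by
      refine (yon S).map_injective (sq.hom_ext ?_ ?_)
      · show (yon S).map _ ≫ Vo.property.1.fst Vo.obj.hom = (yon S).map _ ≫ Vo.property.1.fst Vo.obj.hom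
        rw [← Functor.relativelyRepresentable.map_fst', ← Functor.map_comp, ← Functor.map_comp]
        congr 1
        show (G ≫ k.hom.left) ≫ (EtOver.prodSnd Vo Vo).hom.left =
          ((G ≫ h.hom.left) ≫ δ.hom.left) ≫ (EtOver.prodSnd Vo Vo).hom.left
        rw [Category.assoc, Category.assoc, d2, Category.comp_id, hveq]
        exact congrArg (G ≫ ·) e2
      · show (yon S).map _ ≫ (yon S).map _ = (yon S).map _ ≫ (yon S).map _
        rw [← Functor.map_comp, ← Functor.map_comp]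
        congr 1
        show (G ≫ k.hom.left) ≫ (EtOver.prodFst Vo Vo).hom.left =
          ((G ≫ h.hom.left) ≫ δ.hom.left) ≫ (EtOver.prodFst Vo Vo).hom.left
        rw [Category.assoc, Category.assoc, d1, Category.comp_id]
        exact congrArg (G ≫ ·) e1
    refine ⟨(G ≫ h.hom.left).left (IsLocalRing.closedPoint _), ?_⟩
    refine ((congrArg (fun q => q.left (IsLocalRing.closedPoint _)) e).symm).trans ?_
    exact congrArg k.hom.left.left hx
  have hK := EtOver.etale_left (EtOver.pullbackFst k δ)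
  obtain ⟨Z, g, hZ, -, hg⟩ := exists_piece_mem (EtOver.pullbackObj k δ) isOpen_univ
    (Set.mem_univ (exists_mem_range_pullbackFst k δ w hkw).choose)
  refine ⟨Z, g ≫ EtOver.pullbackFst k δ, hZ, ?_, ?_⟩
  · have c := EtOver.pullback_condition k δ
    have c1 : EtOver.pullbackFst k δ ≫ h = EtOver.pullbackSnd k δ := by
      rw [← hk₁, ← Category.assoc, c, Category.assoc, hδ₁, Category.comp_id]
    have c2 : EtOver.pullbackFst k δ ≫ h' = EtOver.pullbackSnd k δ := by
      rw [← hk₂, ← Category.assoc, c, Category.assoc, hδ₂, Category.comp_id]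
    rw [Category.assoc, Category.assoc, c1, c2]
  · obtain ⟨z, hz⟩ := hg
    exact ⟨z, (congrArg (EtOver.pullbackFst k δ).hom.left.left hz).trans
      (exists_mem_range_pullbackFst k δ w hkw).choose_spec⟩

/-- containing given sections -/
def Contains {C : EtOver X → Prop} (G : PSub F C) {ι : Type} (E : ι → EtOver X) (hE : ∀ i, IsAff (E i))
    (cE : ∀ i, C (E i)) (s : ∀ i, Sec F (E i)) : Prop :=
  ∀ i, s i ∈ G.P (E i) (hE i) (cE i)

/-- the induction predicate -/
def Gen (F : ModEt X) [F.IsQuasicoherent] (O : Set (Points X)) : Prop :=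
  ∀ (ι : Type) [Finite ι] (E : ι → EtOver X) (hE : ∀ i, IsAff (E i)) (cE : ∀ i, Over' O (E i))
    (s : ∀ i, Sec F (E i)), ∃ G : PSub F (Over' O), G.IsFG ∧ Contains G E hE cE s

theorem gen_empty : Gen F (∅ : Set (Points X)) := by
  intro ι _ E hE cE s
  have hsub : ∀ W : EtOver X, Over' (∅ : Set (Points X)) W → ∀ z : Sec F W, z = 0 := fun W cW z =>
    mapSec_ext F (Z := fun i : PEmpty.{1} => (i.elim : EtOver X)) (fun i => i.elim)
      (fun x => (cW ⟨x, rfl⟩).elim) z 0 fun i => i.elim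
  refine ⟨⟨fun W _ _ => ⊥, fun {E W} _ _ _ _ g => ?_⟩, fun W _ _ => Submodule.fg_bot, fun i => ?_⟩
  · refine le_antisymm (Submodule.span_le.2 ?_) bot_le
    rintro _ ⟨z, hz, rfl⟩
    rw [(Submodule.mem_bot _).1 hz, map_zero]
    exact zero_mem _
  · exact (Submodule.mem_bot _).2 (hsub _ (cE i) _)

theorem gen_step [QuasiSeparatedSpace ↥S] (hX : IsAlgSpace X) (hs : IsQuasiSeparatedSp X)
    {O : Set (Points X)} (hOo : IsOpen O) (hOc : IsCompact O) {V : Over S} [IsAffine V.left]
    (f : (yon S).obj V ⟶ X) (hf : RepWith @Etale f) (hu : Induct.Uniq O f) (hG : Gen F O) :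
    Gen F (O ∪ Set.range (Points.ofPt f)) := by
  classical
  intro ι _ E hE cE s
  haveI := Fintype.ofFinite ι
  let Vo : EtOver X := EtOver.mk f hf
  haveI hVo : IsAff Vo := ‹IsAffine V.left›
  let CV : EtOver X → Prop := fun W => Nonempty (W ⟶ Vo)
  have hdV : Down CV := fun E' W g ⟨h⟩ => ⟨g ≫ h⟩
  let C' : EtOver X → Prop := fun W => Over' O W ∨ CV W
  have hd' : Down C' := fun E' W g h => h.imp (down_over O g) (hdV g)
  -- pieces
  have hp : ∀ (W : EtOver X), IsAff W → Over' (O ∪ Set.range (Points.ofPt f)) W →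
      ∃ (κ : Type) (_ : Finite κ) (Z : κ → EtOver X) (g : ∀ j, Z j ⟶ W), (∀ j, IsAff (Z j)) ∧ (∀ j, C' (Z j)) ∧
        ∀ x : W.obj.left.left, ∃ j, x ∈ Set.range (g j).hom.left.left := by
    intro W hW cW
    haveI := hW
    haveI : IsAffine W.obj.left.left := hW
    obtain ⟨κ, hκ, Z, g, hZ, hR, hc⟩ := exists_finite_pieces W isCompact_univ (fun Z _ => C' Z) fun e _ => by
      by_cases he : Points.ofPt W.obj.hom e ∈ O
      · obtain ⟨Z, g, hZ, hg, heg⟩ := exists_piece_mem W (hOo.preimage (Points.continuous_ofPt W.obj.hom)) he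
        exact ⟨Z, g, hZ, Or.inl (by rintro _ ⟨z, rfl⟩; rw [← ofPt_edge_hom g z]; exact hg ⟨z, rfl⟩), heg⟩
      · obtain ⟨v, hv⟩ := (cW ⟨e, rfl⟩).resolve_left he
        rw [Points.ofPt_eq_map_ofScheme, Points.ofPt_eq_map_ofScheme] at hv
        obtain ⟨z, -, hz⟩ := exists_point_of_isPullback (Vo.property.1.isPullback W.obj.hom) hv
        obtain ⟨p, rfl⟩ := (Points.schemeEquiv _).surjective z
        obtain ⟨Z, g, hZ, -, ⟨q, hq⟩⟩ := exists_piece_mem (EtOver.prodObj W Vo) isOpen_univ (Set.mem_univ p)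
        refine ⟨Z, g ≫ EtOver.prodFst W Vo, hZ, Or.inr ⟨g ≫ EtOver.prodSnd W Vo⟩, q, ?_⟩
        show (EtOver.prodFst W Vo).hom.left.left (g.hom.left.left q) = e
        rw [hq]
        exact (Points.schemeEquiv W.obj.left).injective ((map_yon_map_ofScheme _ p).symm.trans hz)
    exact ⟨κ, hκ, Z, g, hZ, hR, fun x => hc x trivial⟩
  choose κ hκ Z g hZ hCZ hcov using fun i => hp (E i) (hE i) (cE i)
  -- the locus of `O` in the chart
  obtain ⟨κ₀, hκ₀, D, d, hD, cD, hdc⟩ := coversLocus_over hX hs hOo hOc Vo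
  haveI := hκ₀
  haveI := hD
  haveI := Fintype.ofFinite κ₀
  -- sections over the chart
  have hT : ∀ i j, ∃ T : Finset (Sec F Vo), ∀ h : CV (Z i j),
      mapSec F (g i j) (s i) ∈ Submodule.span (ΓE (Z i j))
        (mapSec F (Classical.choice h) '' (T : Set (Sec F Vo))) := fun i j => by
    by_cases hc : CV (Z i j)
    · haveI := hZ i j
      obtain ⟨y, hy⟩ := (isBC F Vo (Over.mk (Classical.choice hc)) (hZ i j)).surjective (mapSec F (g i j) (s i))
      have : ∀ y, ∃ T : Finset (Sec F Vo), bcMap F Vo (Over.mk (Classical.choice hc)) y ∈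
          Submodule.span (ΓE (Z i j)) (mapSec F (Classical.choice hc) '' (T : Set (Sec F Vo))) := by
        intro y
        induction y using TensorProduct.induction_on with
        | zero => exact ⟨∅, by rw [map_zero]; exact zero_mem _⟩
        | tmul a m => exact ⟨{m}, by
            rw [bcMap_tmul]
            exact Submodule.smul_mem _ _ (Submodule.subset_span ⟨m, Finset.mem_singleton_self m, rfl⟩)⟩
        | add a b ha hb =>
          obtain ⟨T, hT⟩ := ha
          obtain ⟨T', hT'⟩ := hb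
          exact ⟨T ∪ T', by
            rw [map_add]
            exact add_mem (Submodule.span_mono (Set.image_mono (by simp)) hT)
              (Submodule.span_mono (Set.image_mono (by simp)) hT')⟩
      obtain ⟨T, hT⟩ := this y
      exact ⟨T, fun h => hy ▸ hT⟩
    · exact ⟨∅, fun h => absurd h hc⟩
  choose T hT using hT
  haveI := fun i => Fintype.ofFinite (κ i)
  let T₀ : Finset (Sec F Vo) := Finset.univ.biUnion fun i => Finset.univ.biUnion fun j => T i j
  let tv : Fin T₀.card → Sec F Vo := fun l => (T₀.equivFin.symm l).1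
  -- the family over `O`
  let Idx := {q : Σ i, κ i // Over' O (Z q.1 q.2)} ⊕ (κ₀ × Fin T₀.card)
  obtain ⟨G₁, hG₁, hG₁c⟩ := hG Idx (Sum.elim (fun q => Z q.1.1 q.1.2) fun q => D q.1)
    (fun q => match q with
      | .inl q => hZ q.1.1 q.1.2
      | .inr q => hD q.1)
    (fun q => match q with
      | .inl q => q.2
      | .inr q => cD q.1)
    (fun q => match q with
      | .inl q => mapSec F (g q.1.1 q.1.2) (s q.1.1)
      | .inr q => mapSec F (d q.1) (tv q.2))
  have hlocus : PSub.CoversLocus (Over' O) Vo := coversLocus_over hX hs hOo hOc Vo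
  have hcovD : ∀ (W : EtOver X) (h : W ⟶ Vo), IsAff W → Over' O W → ∀ w : W.obj.left.left,
      ∃ k, w ∈ Set.range (EtOver.pullbackFst h (d k)).hom.left.left := fun W h hW cW w => by
    obtain ⟨k, hk⟩ := hdc W hW cW h w
    exact ⟨k, exists_mem_range_pullbackFst h (d k) w hk⟩
  have hT₀ : ∀ t ∈ T₀, t ∈ G₁.extP Vo := fun t ht W hW cW h => by
    haveI := hW
    haveI := fun k => isAff_pullbackObj h (d k)
    refine mem_of_span_cover F (fun k => EtOver.pullbackFst h (d k)) (hcovD W h hW cW) _ _ fun k => ?_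
    rw [G₁.span_eq hW (isAff_pullbackObj h (d k)) cW (down_over O (EtOver.pullbackFst h (d k)) cW),
      ← mapSec_comp, EtOver.pullback_condition, mapSec_comp]
    refine G₁.map_mem (hD k) _ (cD k) _ _ ?_
    have := hG₁c (Sum.inr (k, T₀.equivFin ⟨t, ht⟩))
    simpa [tv] using this
  have hgen : ∀ k, ∃ T' : Finset (Sec F Vo), (T' : Set (Sec F Vo)) ⊆ G₁.extP Vo ∧
      G₁.P (D k) (hD k) (cD k) ≤ Submodule.span (ΓE (D k)) (mapSec F (d k) '' (T' : Set (Sec F Vo))) := fun k => by
    have e := G₁.extP_span_eq (down_over O) hlocus (d k)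
    rw [G₁.extP_eq (cD k)] at e
    obtain ⟨t, ht⟩ := hG₁ (D k) (hD k) (cD k)
    have hsub : ∀ z : t, ∃ T' : Finset (Sec F Vo), (T' : Set (Sec F Vo)) ⊆ G₁.extP Vo ∧
        z.1 ∈ Submodule.span (ΓE (D k)) (mapSec F (d k) '' (T' : Set (Sec F Vo))) := fun z => by
      have hz : z.1 ∈ Submodule.span (ΓE (D k)) (mapSec F (d k) '' (G₁.extP Vo : Set (Sec F Vo))) := by
        rw [e, ← ht]
        exact Submodule.subset_span z.2
      obtain ⟨R, hR, hzR⟩ := Submodule.mem_span_finite_of_mem_span hz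
      choose q hq hq' using fun a : R => hR a.2
      refine ⟨Finset.univ.image q, ?_, Submodule.span_mono (fun a ha => ?_) hzR⟩
      · intro b hb
        obtain ⟨a, -, rfl⟩ := Finset.mem_image.1 (Finset.mem_coe.1 hb)
        exact hq a
      · exact ⟨q ⟨a, ha⟩, by simp, hq' ⟨a, ha⟩⟩
    choose T' hT' hzT' using hsub
    refine ⟨Finset.univ.biUnion T', ?_, ?_⟩
    · intro b hb
      obtain ⟨z, -, hz⟩ := Finset.mem_biUnion.1 (Finset.mem_coe.1 hb)
      exact hT' z hz
    · rw [← ht, Submodule.span_le]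
      intro z hz
      exact Submodule.span_mono (Set.image_mono (Finset.coe_subset.2
        (Finset.subset_biUnion_of_mem T' (Finset.mem_univ (⟨z, hz⟩ : t))))) (hzT' ⟨z, hz⟩)
  choose T' hT' hgenT using hgen
  let N₀ : Submodule (ΓE Vo) (Sec F Vo) :=
    Submodule.span (ΓE Vo) ↑(T₀ ∪ Finset.univ.biUnion T')
  have hN₀ : N₀ ≤ G₁.extP Vo := Submodule.span_le.2 fun t ht => by
    rcases Finset.mem_union.1 (Finset.mem_coe.1 ht) with h | h
    · exact hT₀ t h
    · obtain ⟨k, -, hk⟩ := Finset.mem_biUnion.1 h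
      exact hT' k hk
  have hD₀ : ∀ k, Submodule.span (ΓE (D k)) (mapSec F (d k) '' (N₀ : Set (Sec F Vo))) =
      G₁.P (D k) (hD k) (cD k) := fun k => by
    refine le_antisymm (Submodule.span_le.2 ?_) ((hgenT k).trans (Submodule.span_mono (Set.image_mono ?_)))
    · rintro _ ⟨n, hn, rfl⟩
      exact hN₀ hn (D k) (hD k) (cD k) (d k)
    · exact fun b hb => Submodule.subset_span (Finset.mem_coe.2 (Finset.mem_union_right _
        (Finset.mem_biUnion.2 ⟨k, Finset.mem_univ _, hb⟩)))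
  have hag : ∀ (W : EtOver X) (h : W ⟶ Vo) (hW : IsAff W) (cW : Over' O W),
      Submodule.span (ΓE W) (mapSec F h '' (N₀ : Set (Sec F Vo))) = G₁.P W hW cW := fun W h hW cW => by
    haveI := hW
    haveI := fun k => isAff_pullbackObj h (d k)
    refine G₁.eq_of_cover cW (fun k => EtOver.pullbackFst h (d k)) (hcovD W h hW cW)
      (fun k => down_over O (EtOver.pullbackFst h (d k)) cW) _ fun k => ?_
    rw [PSub.span_span, EtOver.pullback_condition, ← PSub.span_span, hD₀ k]
    exact G₁.span_eq _ _ (cD k) (down_over O (EtOver.pullbackFst h (d k)) cW) _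
  have hind : ∀ (W : EtOver X) (h h' : W ⟶ Vo), IsAff W →
      Submodule.span (ΓE W) (mapSec F h '' (N₀ : Set (Sec F Vo))) ≤
        Submodule.span (ΓE W) (mapSec F h' '' (N₀ : Set (Sec F Vo))) := fun W h h' hW x hx => by
    haveI := hW
    haveI : IsAffine W.obj.left.left := hW
    obtain ⟨ι', -, Z', g', hZ', hR, hc⟩ := exists_finite_pieces W isCompact_univ
      (fun Z' g' => Over' O Z' ∨ g' ≫ h = g' ≫ h') fun w _ => by
        by_cases hw : Points.ofPt W.obj.hom w ∈ O
        · obtain ⟨Z', g', hZ', hg', heg⟩ := exists_piece_mem W (hOo.preimage (Points.continuous_ofPt W.obj.hom)) hw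
          exact ⟨Z', g', hZ', Or.inl (by rintro _ ⟨z, rfl⟩; rw [← ofPt_edge_hom g' z]; exact hg' ⟨z, rfl⟩), heg⟩
        · obtain ⟨Z', g', hZ', he, heg⟩ := exists_piece_eq (Vo := Vo) hu h h' w hw
          exact ⟨Z', g', hZ', Or.inr he, heg⟩
    haveI := hZ'
    refine mem_of_span_cover F g' (fun w => hc w trivial) _ x fun j => ?_
    rw [PSub.span_span]
    have hxj : mapSec F (g' j) x ∈ Submodule.span (ΓE (Z' j)) (mapSec F (g' j ≫ h) '' (N₀ : Set (Sec F Vo))) := by
      rw [← PSub.span_span]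
      exact Submodule.subset_span ⟨x, hx, rfl⟩
    rcases hR j with hO | he
    · rw [hag (Z' j) _ (hZ' j) hO] at hxj ⊢
      exact hxj
    · rwa [he] at hxj
  have hch : ∀ (W : EtOver X) (h : W ⟶ Vo) (c : CV W), IsAff W →
      Submodule.span (ΓE W) (mapSec F (Classical.choice c) '' (N₀ : Set (Sec F Vo))) =
        Submodule.span (ΓE W) (mapSec F h '' (N₀ : Set (Sec F Vo))) := fun W h c hW =>
    le_antisymm (hind W _ _ hW) (hind W _ _ hW)
  let G₂ : PSub F CV :=
    { P := fun W _ c => Submodule.span (ΓE W) (mapSec F (Classical.choice c) '' (N₀ : Set (Sec F Vo)))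
      span_eq := fun {E' W} hE' hW cE' cW g' => by
        rw [PSub.span_span, hch W (g' ≫ Classical.choice cE') cW hW] }
  let G' := PSub.union (down_over O) hdV G₁ G₂ fun W hW c c' => (hag W _ hW c).symm
  have hcov' : ∀ W, IsAff W → Over' (O ∪ Set.range (Points.ofPt f)) W → PSub.CoversLocus C' W := fun W hW cW => by
    obtain ⟨κ', hκ', Z', g', hZ', hC', hc⟩ := hp W hW cW
    exact ⟨κ', hκ', Z', g', hZ', hC', fun W' _ _ f' w => hc _⟩
  refine ⟨G'.extend hd' hcov', fun W hW cW => ?_, fun i => ?_⟩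
  · haveI := hW
    obtain ⟨κ', hκ', Z', g', hZ', hC', hc⟩ := hp W hW cW
    haveI := hZ'
    haveI := hκ'
    refine (G'.extend hd' hcov').fg_of_cover cW g' hc (fun j => down_over _ (g' j) cW) fun j => ?_
    rw [G'.extend_P hd' hcov' (hZ' j) _ (hC' j)]
    rcases hC' j with c | c
    · rw [PSub.union_P_left _ _ _ _ _ _ _ c]
      exact hG₁ _ _ _
    · rw [PSub.union_P_right _ _ _ _ _ _ _ c]
      exact span_fg _ ⟨_, rfl⟩
  · haveI := hE i
    haveI := hZ i
    refine mem_of_span_cover F (g i) (hcov i) _ _ fun j => ?_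
    rw [(G'.extend hd' hcov').span_eq (hE i) (hZ i j) (cE i) (down_over _ (g i j) (cE i)),
      G'.extend_P hd' hcov' (hZ i j) _ (hCZ i j)]
    rcases hCZ i j with c | c
    · rw [PSub.union_P_left _ _ _ _ _ _ _ c]
      exact hG₁c (Sum.inl ⟨⟨i, j⟩, c⟩)
    · rw [PSub.union_P_right _ _ _ _ _ _ _ c]
      refine Submodule.span_mono (Set.image_mono fun b hb => ?_) (hT i j c)
      exact Submodule.subset_span (Finset.mem_coe.2 (Finset.mem_union_left _
        (Finset.mem_biUnion.2 ⟨i, Finset.mem_univ _, Finset.mem_biUnion.2 ⟨j, Finset.mem_univ _, hb⟩⟩)))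

/-- finitely generated quasi-coherent submodules containing given sections -/
theorem exists_fg_containing [QuasiSeparatedSpace ↥S] {X : AlgSp.Space S} (hc : IsQuasiCompactSp X.obj)
    (hs : IsQuasiSeparatedSp X.obj) (F : ModEt X.obj) [F.IsQuasicoherent] {ι : Type} [Finite ι]
    (E : ι → EtOver X.obj) (hE : ∀ i, IsAff (E i)) (s : ∀ i, Sec F (E i)) :
    ∃ Q : QSub F, (∀ W hW, (Q.P W hW).FG) ∧ ∀ i, s i ∈ Q.P (E i) (hE i) := by
  have key : Gen F (Set.univ : Set (Points X.obj)) :=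
    Induct.opens_induction X hc hs (Gen F) gen_empty fun O V f hV hf hOo hOc hu hG =>
      haveI := hV
      gen_step X.property hs hOo hOc f hf hu hG
  obtain ⟨G, hG, hGc⟩ := key ι E hE (fun i => Set.subset_univ _) s
  exact ⟨⟨fun W hW => G.P W hW (Set.subset_univ _), fun hE' hW g => G.span_eq hE' hW _ _ g⟩,
    fun W hW => hG W hW _, hGc⟩

end Groth.Agent.AlgSpLib.QCohEt
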