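import Groth.Agent.AlgSpLib.SerreAffineGen
import Mathlib.RingTheory.Flat.EquationalCriterion

/-!
Relations between global sections, the unit module, and gluing of global sections.
-/

universe u

open CategoryTheory CategoryTheory.Limits AlgebraicGeometry Opposite TensorProduct
open AlgSp

noncomputable section

set_option linter.style.haveILetI false

namespace Groth.Agent.AlgSpLib.SerreAff

open Groth.Agent.AlgSpLib Groth.Agent.AlgSpLib.QCohEt

set_option backward.isDefEq.respectTransparency.types false
set_option backward.isDefEq.respectTransparency false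

variable {S : Scheme.{u}} {X : Sp S}

instance : HasFiniteBiproducts (ModEt X) := HasFiniteBiproducts.of_hasFiniteProducts

theorem secMap_add_hom {A B : ModEt X} (f g : A ⟶ B) (E : EtOver X) (a : Sec A E) :
    secMap (f + g) E a = secMap f E a + secMap g E a := rfl

theorem secMap_zero_hom {A B : ModEt X} (E : EtOver X) (a : Sec A E) :
    secMap (0 : A ⟶ B) E a = 0 := rfl

theorem secMap_sum_hom {A B : ModEt X} {ι : Type*} (s : Finset ι) (f : ι → (A ⟶ B)) (E : EtOver X) (a : Sec A E) :
    secMap (∑ i ∈ s, f i) E a = ∑ i ∈ s, secMap (f i) E a := by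
  classical
  induction s using Finset.induction_on with
  | empty => rw [Finset.sum_empty, Finset.sum_empty, secMap_zero_hom]
  | insert j s hj ih => rw [Finset.sum_insert hj, Finset.sum_insert hj, secMap_add_hom, ih]

theorem sum_secMap_ι_π {n : ℕ} (f : Fin n → ModEt X) (E : EtOver X) (x : Sec (⨁ f) E) :
    ∑ i, secMap (biproduct.ι f i) E (secMap (biproduct.π f i) E x) = x := by
  simp only [← secMap_comp]
  rw [← secMap_sum_hom]
  exact (secMap_eq (biproduct.total (f := f)) E x).trans rfl

theorem isQuasicoherent_biproduct {n : ℕ} (f : Fin n → ModEt X) [∀ i, (f i).IsQuasicoherent] :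
    (⨁ f).IsQuasicoherent :=
  isQuasicoherent_of_forall _ fun E hE W hW => by
    haveI := hE
    haveI := hW
    refine ⟨(injective_iff_map_eq_zero _).2 fun x hx => ?_, fun y => ?_⟩
    · have h0 : ∀ i, LinearMap.lTensor (ΓE W.left) (secMap (biproduct.π f i) E) x = 0 := fun i => by
        refine (isBC (f i) E W inferInstance).injective ?_
        rw [← bcMap_natural, hx, map_zero, map_zero]
      have h1 : (∑ i, LinearMap.lTensor (ΓE W.left) (secMap (biproduct.ι f i) E)
          (LinearMap.lTensor (ΓE W.left) (secMap (biproduct.π f i) E) x)) = x := by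
        clear hx h0
        induction x using TensorProduct.induction_on with
        | zero => simp only [map_zero, Finset.sum_const_zero]
        | tmul a m =>
          simp only [LinearMap.lTensor_tmul]
          rw [← TensorProduct.tmul_sum, sum_secMap_ι_π]
        | add x y hx hy => simp only [map_add, Finset.sum_add_distrib]; rw [hx, hy]
      rw [← h1]
      exact Finset.sum_eq_zero fun i _ => by rw [h0 i, map_zero]
    · choose z hz using fun i => (isBC (f i) E W inferInstance).surjective (secMap (biproduct.π f i) W.left y)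
      refine ⟨∑ i, LinearMap.lTensor (ΓE W.left) (secMap (biproduct.ι f i) E) (z i), ?_⟩
      rw [map_sum]
      refine Eq.trans (Finset.sum_congr rfl fun i _ => ?_) (sum_secMap_ι_π f W.left y)
      rw [← bcMap_natural, hz i]

theorem mapSec_unit {E E' : EtOver X} (g : E' ⟶ E) (a : ΓE E) :
    mapSec (unitModEt X) g a = (ΓMap g).hom a := rfl

instance isQuasicoherent_unit : (unitModEt X).IsQuasicoherent :=
  isQuasicoherent_of_forall _ fun E hE W hW => by
    have e : ⇑(bcMap (unitModEt X) E W) = ⇑(TensorProduct.rid (ΓE E) (ΓE W.left)) := by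
      funext x
      induction x using TensorProduct.induction_on with
      | zero => rw [map_zero, map_zero]
      | tmul a m =>
        rw [bcMap_tmul, TensorProduct.rid_tmul, Algebra.smul_def]
        exact mul_comm (show ΓE W.left from a) ((ΓMap W.hom).hom m)
      | add x y hx hy => rw [map_add, map_add, hx, hy]
    rw [e]
    exact (TensorProduct.rid (ΓE E) (ΓE W.left)).bijective

/-- the map out of the unit given by a global section -/
def globHom {F : ModEt X} (s : Glob F) : unitModEt X ⟶ F :=
  F.unitHomEquiv.symm ⟨fun E => s.1 E.unop, fun g => mapSec_glob s g.unop⟩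

theorem secMap_globHom {F : ModEt X} (s : Glob F) (E : EtOver X) (a : ΓE E) :
    secMap (globHom s) E a = a • s.1 E := by
  have h1 : secMap (globHom s) E (1 : ΓE E) = s.1 E :=
    congrArg (fun t : F.sections => t.1 (op E))
      (F.unitHomEquiv.apply_symm_apply (⟨fun E => s.1 E.unop, fun g => mapSec_glob s g.unop⟩ : F.sections))
  conv_lhs => rw [← mul_one a]
  exact ((secMap (globHom s) E).map_smul a (1 : ΓE E)).trans (congrArg (a • ·) h1)

/-- the global section one -/
def one : Glob (unitModEt X) := ⟨fun E => (1 : ΓE E), fun _ _ g => map_one (ΓMap g).hom⟩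

/-- the value of a global function -/
def gval (r : Glob (unitModEt X)) (E : EtOver X) : ΓE E := r.1 E

/-- the free module of finite rank -/
def uPow (X : Sp S) (n : ℕ) : ModEt X := ⨁ fun _ : Fin n => unitModEt X

instance isQuasicoherent_uPow (n : ℕ) : (uPow X n).IsQuasicoherent :=
  isQuasicoherent_biproduct (fun _ : Fin n => unitModEt X)

/-- the inclusions -/
def uι {n : ℕ} (i : Fin n) : unitModEt X ⟶ uPow X n := biproduct.ι (fun _ : Fin n => unitModEt X) i

/-- the projections -/
def uπ {n : ℕ} (i : Fin n) : uPow X n ⟶ unitModEt X := biproduct.π (fun _ : Fin n => unitModEt X) i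

/-- the coordinates -/
def coord {n : ℕ} (E : EtOver X) (i : Fin n) : Sec (uPow X n) E →ₗ[ΓE E] ΓE E := secMap (uπ i) E

/-- a tuple as a section -/
def tuple {n : ℕ} (E : EtOver X) (a : Fin n → ΓE E) : Sec (uPow X n) E :=
  ∑ j, secMap (uι j) E (a j)

theorem uπ_uι_self {n : ℕ} (E : EtOver X) (i : Fin n) (a : Sec (unitModEt X) E) :
    secMap (uπ i) E (secMap (uι i) E a) = a :=
  (secMap_comp (uι i) (uπ i) E a).symm.trans
    (secMap_eq (biproduct.ι_π_self (fun _ : Fin n => unitModEt X) i) E a)

theorem uπ_uι_ne {n : ℕ} (E : EtOver X) {i j : Fin n} (h : j ≠ i) (a : Sec (unitModEt X) E) :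
    secMap (uπ i) E (secMap (uι j) E a) = 0 :=
  (secMap_comp (uι j) (uπ i) E a).symm.trans
    ((secMap_eq (biproduct.ι_π_ne (fun _ : Fin n => unitModEt X) h) E a).trans (secMap_zero_hom E a))

theorem coord_tuple {n : ℕ} (E : EtOver X) (a : Fin n → ΓE E) (i : Fin n) : coord E i (tuple E a) = a i := by
  unfold coord tuple
  rw [map_sum]
  refine (Finset.sum_eq_single i (fun j _ hji => uπ_uι_ne E hji (a j))
    (fun h => absurd (Finset.mem_univ i) h)).trans (uπ_uι_self E i (a i))

theorem tuple_coord {n : ℕ} (E : EtOver X) (x : Sec (uPow X n) E) : tuple E (fun i => coord E i x) = x :=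
  sum_secMap_ι_π (fun _ : Fin n => unitModEt X) E x

/-- the map out of the free module given by global sections -/
def uDesc {F : ModEt X} {n : ℕ} (g : Fin n → Glob F) : uPow X n ⟶ F := biproduct.desc fun i => globHom (g i)

theorem secMap_uDesc {F : ModEt X} {n : ℕ} (g : Fin n → Glob F) (E : EtOver X) (a : Fin n → ΓE E) :
    secMap (uDesc g) E (tuple E a) = ∑ i, a i • (g i).1 E := by
  unfold tuple
  rw [map_sum]
  refine Finset.sum_congr rfl fun i _ => ?_
  rw [← secMap_comp]
  exact (secMap_eq (biproduct.ι_desc (fun i => globHom (g i)) i) E (a i)).trans (secMap_globHom (g i) E (a i))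

theorem secMap_uDesc' {F : ModEt X} {n : ℕ} (g : Fin n → Glob F) (E : EtOver X) (x : Sec (uPow X n) E) :
    secMap (uDesc g) E x = ∑ i, coord E i x • (g i).1 E :=
  (congrArg (secMap (uDesc g) E) (tuple_coord E x).symm).trans (secMap_uDesc g E fun i => coord E i x)

/-- the coordinate global functions of a global section -/
def comp_ {K : ModEt X} {n : ℕ} (k : K ⟶ uPow X n) (s : Glob K) (i : Fin n) : Glob (unitModEt X) :=
  globMap (k ≫ uπ i) s

theorem gval_comp {K : ModEt X} {n : ℕ} (k : K ⟶ uPow X n) (s : Glob K) (i : Fin n) (E : EtOver X) :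
    gval (comp_ k s i) E = coord E i (secMap k E (s.1 E)) :=
  secMap_comp k (uπ i) E (s.1 E)

theorem secMap_comp_zero {K A B : ModEt X} {k : K ⟶ A} {f : A ⟶ B} (h : k ≫ f = 0) (E : EtOver X) (z : Sec K E) :
    secMap f E (secMap k E z) = 0 :=
  ((secMap_comp k f E z).symm.trans (secMap_eq h E z)).trans (secMap_zero_hom E z)

variable [QuasiSeparatedSpace ↥S] (X : AlgSp.Space S) (hqc : IsQuasiCompactSp X.obj)
  (hqs : IsQuasiSeparatedSp X.obj) (h1 : H1Vanish X.obj)

include hqc hqs h1 in
/-- relations between global sections are spanned by constant relations -/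
theorem exists_relations (F : ModEt X.obj) [F.IsQuasicoherent] {n : ℕ} (g : Fin n → Glob F) (E : EtOver X.obj)
    [IsAff E] (e : Fin n → ΓE E) (he : ∑ i, e i • (g i).1 E = 0) :
    ∃ (m : ℕ) (c : Fin m → ΓE E) (r : Fin m → Fin n → Glob (unitModEt X.obj)),
      (∀ k (E' : EtOver X.obj), ∑ i, gval (r k i) E' • (g i).1 E' = 0) ∧
        ∀ i, e i = ∑ k, c k * gval (r k i) E := by
  haveI : (kernel (uDesc g)).IsQuasicoherent := isQuasicoherent_kernel (uDesc g)
  obtain ⟨-, hex⟩ := ker_sec (kernel.condition (uDesc g)) (kernelIsKernel (uDesc g)) E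
  obtain ⟨z, hz⟩ := (hex (tuple E e)).1 ((secMap_uDesc g E e).trans he)
  obtain ⟨m, c, t, ht⟩ := Submodule.mem_span_set'.1
    ((span_glob_eq_top X hqc hqs h1 (kernel (uDesc g)) E).symm ▸ Submodule.mem_top (x := z))
  choose s hs using fun k : Fin m => (t k).2
  refine ⟨m, c, fun k i => comp_ (kernel.ι (uDesc g)) (s k) i, fun k E' => ?_, fun i => ?_⟩
  · refine Eq.trans ?_ (secMap_comp_zero (kernel.condition (uDesc g)) E' ((s k).1 E'))
    refine Eq.trans ?_ (secMap_uDesc' g E' _).symm
    exact Finset.sum_congr rfl fun i _ => congrArg (· • (g i).1 E') (gval_comp _ (s k) i E')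
  · have h1 : e i = coord E i (secMap (kernel.ι (uDesc g)) E z) :=
      (coord_tuple E e i).symm.trans (congrArg (coord E i) hz.symm)
    rw [h1, ← ht, map_sum, map_sum]
    refine Finset.sum_congr rfl fun k _ => ?_
    rw [map_smul, map_smul, smul_eq_mul, gval_comp]
    exact congrArg (fun v => c k * coord E i (secMap (kernel.ι (uDesc g)) E v)) (hs k).symm

end Groth.Agent.AlgSpLib.SerreAff
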