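import Groth.Agent.AlgSpLib.QCohEtPushQcqs
import Groth.Agent.AlgSpLib.SerreAffineSec
import Groth.Agent.AlgSpLib.SerreAffineRel
import Groth.Agent.AlgSpLib.SerreAffinePush
import Groth.Agent.AlgSpLib.QCohEtExtend
import Groth.Agent.AlgSpLib.QCohEtPSubInduct
import Groth.Agent.AlgSpLib.MorSep

/-!
Modifying a quasi-coherent module along the etale part of an elementary distinguished square.
-/

universe u

open CategoryTheory CategoryTheory.Limits AlgebraicGeometry Opposite
open AlgSp

noncomputable section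

set_option linter.style.haveILetI false

namespace Groth.Agent.AlgSpLib.QCohEt

open Groth.Agent.AlgSpLib.SerreAff

set_option backward.isDefEq.respectTransparency.types false
set_option backward.isDefEq.respectTransparency false

variable {S : Scheme.{u}} {X : Sp S}

theorem secMap_id' {A : ModEt X} (E : EtOver X) (a : Sec A E) : secMap (𝟙 A) E a = a := rfl

theorem isQuasicoherent_biprod (A B : ModEt X) [A.IsQuasicoherent] [B.IsQuasicoherent] :
    (A ⊞ B).IsQuasicoherent :=
  isQuasicoherent_of_forall _ fun E hE => by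
    haveI := hE
    refine isBC_middle biprod.inl_snd ((BinaryBiproduct.bicone A B).isLimitSndKernelFork
      (BinaryBiproduct.isBilimit A B).isLimit) E (isBC A E) (isBC B E) fun b => ⟨secMap biprod.inr E b, ?_⟩
    rw [← secMap_comp, biprod.inr_snd, secMap_id']

theorem isQuasicoherent_resPost {U : Sp S} {j : U ⟶ X} (hje : IsEtaleMor j) (G : ModEt X) [G.IsQuasicoherent] :
    ((resPost hje).obj G).IsQuasicoherent :=
  isQuasicoherent_of_forall _ fun E hE W hW => by
    haveI := hE
    haveI := hW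
    haveI : IsAff ((EtOver.postcomp j hje).obj E) := hE
    exact isBC G ((EtOver.postcomp j hje).obj E) (Over.mk ((EtOver.postcomp j hje).map W.hom)) hW

/-- sections killed by a morphism come from the kernel -/
theorem exists_kernel_lift {A B : ModEt X} (δ : A ⟶ B) (E : EtOver X) (z : Sec A E) (hz : secMap δ E z = 0) :
    ∃ x : Sec (kernel δ) E, secMap (kernel.ι δ) E x = z :=
  ((ker_sec (kernel.condition δ) (kernelIsKernel δ) E).2 z).1 hz

/-- fibre products of quasi-coherent modules, on sections -/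
theorem exists_fibre {A B C : ModEt X} [A.IsQuasicoherent] [B.IsQuasicoherent] [C.IsQuasicoherent] (a : A ⟶ C) (b : B ⟶ C) :
    ∃ (K : ModEt X) (_ : K.IsQuasicoherent) (p : K ⟶ A) (q : K ⟶ B), p ≫ a = q ≫ b ∧
      (∀ (E : EtOver X) (x y : Sec K E), secMap p E x = secMap p E y → secMap q E x = secMap q E y → x = y) ∧
      ∀ (E : EtOver X) (u : Sec A E) (v : Sec B E), secMap a E u = secMap b E v →
        ∃ x : Sec K E, secMap p E x = u ∧ secMap q E x = v := by
  haveI := isQuasicoherent_biprod A B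
  obtain ⟨δ, hδ⟩ : ∃ δ : A ⊞ B ⟶ C, δ = biprod.fst ≫ a - biprod.snd ≫ b := ⟨_, rfl⟩
  refine ⟨kernel δ, isQuasicoherent_kernel δ, kernel.ι δ ≫ biprod.fst, kernel.ι δ ≫ biprod.snd, ?_, ?_, ?_⟩
  · have h := kernel.condition δ
    refine sub_eq_zero.1 ?_
    refine Eq.trans ?_ h
    refine Eq.trans ?_ (congrArg (fun t => kernel.ι δ ≫ t) hδ.symm)
    refine Eq.trans ?_ (Preadditive.comp_sub (kernel.ι δ) (biprod.fst ≫ a) (biprod.snd ≫ b)).symm
    exact congrArg₂ (· - ·) (Category.assoc _ _ _) (Category.assoc _ _ _)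
  · intro E x y h1 h2
    refine injective_of_mono (kernel.ι δ) E ?_
    show secMap (kernel.ι δ) E x = secMap (kernel.ι δ) E y
    have dec : ∀ z : Sec (A ⊞ B) E,
        z = secMap biprod.inl E (secMap biprod.fst E z) + secMap biprod.inr E (secMap biprod.snd E z) := fun z => by
      rw [← secMap_comp, ← secMap_comp, ← secMap_add_hom, biprod.total, secMap_id']
    refine (dec _).trans (Eq.trans ?_ (dec _).symm)
    exact congrArg₂ (fun s t => secMap biprod.inl E s + secMap biprod.inr E t)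
      ((secMap_comp (kernel.ι δ) biprod.fst E x).symm.trans (h1.trans (secMap_comp (kernel.ι δ) biprod.fst E y)))
      ((secMap_comp (kernel.ι δ) biprod.snd E x).symm.trans (h2.trans (secMap_comp (kernel.ι δ) biprod.snd E y)))
  · intro E u v huv
    have h₁ : biprod.inl ≫ δ = a := by
      rw [hδ, Preadditive.comp_sub, biprod.inl_fst_assoc, biprod.inl_snd_assoc, zero_comp, sub_zero]
    have h₂ : biprod.inr ≫ δ = -b := by
      rw [hδ, Preadditive.comp_sub, biprod.inr_fst_assoc, biprod.inr_snd_assoc, zero_comp, zero_sub]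
    obtain ⟨x, hx'⟩ := exists_kernel_lift δ E (secMap biprod.inl E u + secMap biprod.inr E v)
      (((secMap δ E).map_add _ _).trans ((congrArg₂ (· + ·)
        (((secMap_comp biprod.inl δ E u).symm.trans (secMap_eq h₁ E u)).trans huv)
        ((secMap_comp biprod.inr δ E v).symm.trans (secMap_eq h₂ E v))).trans
        ((secMap_add_hom b (-b) E v).symm.trans ((secMap_eq (add_neg_cancel b) E v).trans (secMap_zero_hom E v)))))
    refine ⟨x, ?_, ?_⟩
    · rw [secMap_comp, hx', map_add, ← secMap_comp, ← secMap_comp, biprod.inl_fst, biprod.inr_fst, secMap_id']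
      exact add_eq_left.2 rfl
    · rw [secMap_comp, hx', map_add, ← secMap_comp, ← secMap_comp, biprod.inl_snd, biprod.inr_snd, secMap_id']
      exact add_eq_right.2 rfl

section

variable {U : Sp S} {f : U ⟶ X} (hje : IsEtaleMor f) (hh : Representable f)

/-- the projection of the base change -/
def prE (E : EtOver X) : (EtOver.postcomp f hje).obj (EtOver.bcObj hh E) ⟶ E :=
  EtOver.homMk (hh.snd E.obj.hom) ((hh.w E.obj.hom).symm)

theorem bcMap_prE {E W : EtOver X} (g : W ⟶ E) :
    (EtOver.postcomp f hje).map (EtOver.bcMap hh g) ≫ prE hje hh E = prE hje hh W ≫ g :=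
  EtOver.hom_ext _ _ (EtOver.bcMap_snd hh g)

theorem ΓMap_prE (E : EtOver X) (r : ΓE E) :
    ((ΓMap (prE hje hh E)).hom r : ΓE ((EtOver.postcomp f hje).obj (EtOver.bcObj hh E))) = bcΓ hh E r := rfl

/-- sections over the base change, as sections of the direct image -/
def pushMk (M : ModEt U) (E : EtOver X) : Sec M (EtOver.bcObj hh E) →+ Sec ((pushModEt hh).obj M) E where
  toFun m := m
  map_zero' := rfl
  map_add' _ _ := rfl

theorem pushMk_smul (M : ModEt U) (E : EtOver X) (r : ΓE E) (m : Sec M (EtOver.bcObj hh E)) :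
    pushMk hh M E (bcΓ hh E r • m) = r • pushMk hh M E m := rfl

/-- sections on the big space, as sections of the restriction -/
def resMk (G : ModEt X) (W : EtOver U) :
    Sec G ((EtOver.postcomp f hje).obj W) →+ Sec ((resPost hje).obj G) W where
  toFun m := m
  map_zero' := rfl
  map_add' _ _ := rfl

theorem resMk_smul (G : ModEt X) (W : EtOver U) (r : ΓE W) (m : Sec G ((EtOver.postcomp f hje).obj W)) :
    resMk hje G W ((show ΓE ((EtOver.postcomp f hje).obj W) from r) • m) = r • resMk hje G W m := rfl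

/-- the unit on sections -/
def uMap (G : ModEt X) (E : EtOver X) : Sec G E →ₗ[ΓE E] Sec ((pushModEt hh).obj ((resPost hje).obj G)) E where
  toFun m := pushMk hh _ E (resMk hje G (EtOver.bcObj hh E) (mapSec G (prE hje hh E) m))
  map_add' x y := by rw [map_add, map_add, map_add]
  map_smul' r m := by
    rw [mapSec_smul, ΓMap_prE hje hh E r, RingHom.id_apply]
    exact (congrArg (pushMk hh _ E) (resMk_smul hje G (EtOver.bcObj hh E) (bcΓ hh E r) _)).trans
      (pushMk_smul hh _ E r _)

theorem uMap_apply (G : ModEt X) (E : EtOver X) (m : Sec G E) :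
    uMap hje hh G E m = pushMk hh _ E (resMk hje G (EtOver.bcObj hh E) (mapSec G (prE hje hh E) m)) := rfl

theorem exists_unit (G : ModEt X) :
    ∃ η : G ⟶ (pushModEt hh).obj ((resPost hje).obj G), ∀ E, IsAff E → ∀ m : Sec G E,
      secMap η E m = uMap hje hh G E m := by
  refine exists_hom_of_affine (A := G) (B := (pushModEt hh).obj ((resPost hje).obj G)) (fun E _ => uMap hje hh G E)
    (fun {E W} hE hW g m => ?_) |>.imp fun η hη E hE m => hη E hE m
  show mapSec ((resPost hje).obj G) (EtOver.bcMap hh g) (resMk hje G (EtOver.bcObj hh E) (mapSec G (prE hje hh E) m)) =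
    resMk hje G (EtOver.bcObj hh W) (mapSec G (prE hje hh W) (mapSec G g m))
  refine (mapSec_resPost hje G (EtOver.bcMap hh g) _).trans ?_
  show mapSec G ((EtOver.postcomp f hje).map (EtOver.bcMap hh g)) (mapSec G (prE hje hh E) m) =
    mapSec G (prE hje hh W) (mapSec G g m)
  rw [← mapSec_comp, ← mapSec_comp, bcMap_prE]

end

variable {V : Over S} {f : (yon S).obj V ⟶ X} (hje : IsEtaleMor f) (hh : Representable f)

variable {P : ModEt ((yon S).obj V)} {G : ModEt X} (πV : P ⟶ (resPost hje).obj G) {O : Set (Points X)}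

/-- bijectivity over the locus extends to all objects -/
theorem bijective_overO (hiso : ∀ Z, IsAff Z → Over' O ((EtOver.postcomp f hje).obj Z) →
      Function.Bijective (secMap πV Z))
    (W : EtOver ((yon S).obj V)) (cW : Over' O ((EtOver.postcomp f hje).obj W)) :
    Function.Bijective (secMap πV W) := by
  obtain ⟨ι, Z, g, hZ, hc⟩ := exists_affine_cover W
  have cZ : ∀ i, Over' O ((EtOver.postcomp f hje).obj (Z i)) := fun i =>
    down_over O ((EtOver.postcomp f hje).map (g i)) cW
  have inj : ∀ (W : EtOver ((yon S).obj V)), Over' O ((EtOver.postcomp f hje).obj W) →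
      Function.Injective (secMap πV W) := fun W cW a b hab => sec_eq_of_affine P a b fun T t hT =>
    (hiso T hT (down_over O ((EtOver.postcomp f hje).map t) cW)).1 (by
      rw [← mapSec_secMap, ← mapSec_secMap, hab])
  refine ⟨inj W cW, fun y => ?_⟩
  choose a ha using fun i => (hiso (Z i) (hZ i) (cZ i)).2 (mapSec ((resPost hje).obj G) (g i) y)
  obtain ⟨x, hx⟩ := exists_mapSec_eq' P g hc a fun i k => inj _
    (down_over O ((EtOver.postcomp f hje).map (EtOver.pullbackFst (g i) (g k))) (cZ i)) (by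
      rw [← mapSec_secMap, ← mapSec_secMap, ha, ha, ← mapSec_comp, ← mapSec_comp, EtOver.pullback_condition])
  exact ⟨x, mapSec_ext _ g hc _ _ fun i => by rw [mapSec_secMap, hx, ha]⟩

/-- uniqueness of sections over an object covered by the locus and a diagonal -/
theorem eq_of_locus_diag (hbij : ∀ W, Over' O ((EtOver.postcomp f hje).obj W) → Function.Bijective (secMap πV W))
    {Q : EtOver ((yon S).obj V)} (d : T0 V ⟶ Q) {ι : Type u} {Z : ι → EtOver ((yon S).obj V)} (g : ∀ i, Z i ⟶ Q)
    (hc : ∀ z, ∃ i, z ∈ Set.range (g i).hom.left.left)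
    (hZO : ∀ i, Over' O ((EtOver.postcomp f hje).obj (Z i)) ∨ g i = toT0 (Z i) ≫ d)
    (b b' : Sec P Q) (h1 : secMap πV Q b = secMap πV Q b') (h2 : mapSec P d b = mapSec P d b') : b = b' := by
  refine mapSec_ext P g hc _ _ fun i => ?_
  rcases hZO i with ci | hi
  · refine (hbij (Z i) ci).1 ?_
    exact (mapSec_secMap πV (g i) b).symm.trans ((congrArg (mapSec _ (g i)) h1).trans (mapSec_secMap πV (g i) b'))
  · rw [hi, mapSec_comp, mapSec_comp, h2]

/-- existence of sections over an object covered by the locus and a diagonal -/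
theorem exists_of_locus_diag (hbij : ∀ W, Over' O ((EtOver.postcomp f hje).obj W) → Function.Bijective (secMap πV W))
    {Q : EtOver ((yon S).obj V)} (d : T0 V ⟶ Q) {ι : Type u} {Z : ι → EtOver ((yon S).obj V)} (g : ∀ i, Z i ⟶ Q)
    (hc : ∀ z, ∃ i, z ∈ Set.range (g i).hom.left.left)
    (hZO : ∀ i, Over' O ((EtOver.postcomp f hje).obj (Z i)) ∨ g i = toT0 (Z i) ≫ d)
    (y : Sec ((resPost hje).obj G) Q) (n : Sec P (T0 V)) (hn : secMap πV (T0 V) n = mapSec _ d y) :
    ∃ b : Sec P Q, secMap πV Q b = y ∧ mapSec P d b = n := by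
  let Z' : Option ι → EtOver ((yon S).obj V) := fun o => Option.rec (T0 V) Z o
  let g' : ∀ o, Z' o ⟶ Q := fun o => match o with
    | none => d
    | some i => g i
  have hZO' : ∀ o, Over' O ((EtOver.postcomp f hje).obj (Z' o)) ∨ g' o = toT0 (Z' o) ≫ d := fun o => match o with
    | none => Or.inr ((Category.id_comp d).symm.trans (congrArg (· ≫ d) (hom_T0_ext (𝟙 (T0 V)) (toT0 (T0 V)))))
    | some i => hZO i
  have key : ∀ o, ∃ b : Sec P (Z' o), secMap πV (Z' o) b = mapSec _ (g' o) y ∧
      (g' o = toT0 (Z' o) ≫ d → b = mapSec P (toT0 (Z' o)) n) := by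
    intro o
    have hd' : g' o = toT0 (Z' o) ≫ d → secMap πV (Z' o) (mapSec P (toT0 (Z' o)) n) = mapSec _ (g' o) y := fun h => by
      rw [← mapSec_secMap, hn, h, mapSec_comp]
    rcases hZO' o with cz | hz
    · obtain ⟨b, hb⟩ := (hbij _ cz).2 (mapSec _ (g' o) y)
      exact ⟨b, hb, fun h => (hbij _ cz).1 (hb.trans (hd' h).symm)⟩
    · exact ⟨_, hd' hz, fun _ => rfl⟩
  choose b hb hbd using key
  have hc' : ∀ z, ∃ o, z ∈ Set.range (g' o).hom.left.left := fun z => ⟨some (hc z).choose, (hc z).choose_spec⟩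
  have hcomp : ∀ i k, mapSec P (EtOver.pullbackFst (g' i) (g' k)) (b i) =
      mapSec P (EtOver.pullbackSnd (g' i) (g' k)) (b k) := by
    intro i k
    have hboth : secMap πV _ (mapSec P (EtOver.pullbackFst (g' i) (g' k)) (b i)) =
        secMap πV _ (mapSec P (EtOver.pullbackSnd (g' i) (g' k)) (b k)) := by
      rw [← mapSec_secMap, ← mapSec_secMap, hb, hb, ← mapSec_comp, ← mapSec_comp, EtOver.pullback_condition]
    rcases hZO' i with ci | hi
    · exact (hbij _ (down_over O ((EtOver.postcomp f hje).map (EtOver.pullbackFst (g' i) (g' k))) ci)).1 hboth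
    rcases hZO' k with ck | hk
    · exact (hbij _ (down_over O ((EtOver.postcomp f hje).map (EtOver.pullbackSnd (g' i) (g' k))) ck)).1 hboth
    rw [hbd i hi, hbd k hk, ← mapSec_comp, ← mapSec_comp]
    exact congrArg (fun t => mapSec P t n) (hom_T0_ext _ _)
  obtain ⟨bb, hbb⟩ := exists_mapSec_eq' P g' hc' b hcomp
  refine ⟨bb, mapSec_ext _ g' hc' _ _ fun o => by rw [mapSec_secMap, hbb, hb], ?_⟩
  refine (hbb none).trans ((hbd none ?_).trans ?_)
  · exact (Category.id_comp d).symm.trans (congrArg (· ≫ d) (hom_T0_ext (𝟙 (T0 V)) (toT0 (T0 V))))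
  · exact (congrArg (fun t => mapSec P t n) (hom_T0_ext (toT0 (T0 V)) (𝟙 (T0 V)))).trans (QCohEt.mapSec_id P (T0 V) n)

/-- the diagonal of a chart -/
theorem exists_diag :
    ∃ d : T0 V ⟶ EtOver.bcObj hh ((EtOver.postcomp f hje).obj (T0 V)),
      (EtOver.postcomp f hje).map d ≫ prE hje hh ((EtOver.postcomp f hje).obj (T0 V)) = 𝟙 _ := by
  let Vo := (EtOver.postcomp f hje).obj (T0 V)
  exact ⟨EtOver.homMk (hh.lift (f := Vo.obj.hom) (𝟙 _) (𝟙 V) (congrArg (· ≫ Vo.obj.hom) ((yon S).map_id V).symm)) (hh.lift_fst _ _ _),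
    EtOver.hom_ext _ _ (hh.lift_snd _ _ _)⟩

/-- the fibre square of an etale chart is covered by the locus and the diagonal -/
theorem exists_diag_cover [IsAffine V.left] (hOo : IsOpen O) (hu : Induct.Uniq O f)
    (d : T0 V ⟶ EtOver.bcObj hh ((EtOver.postcomp f hje).obj (T0 V)))
    (hd : (EtOver.postcomp f hje).map d ≫ prE hje hh ((EtOver.postcomp f hje).obj (T0 V)) = 𝟙 _) :
    ∃ (ι : Type u) (Z : ι → EtOver ((yon S).obj V)) (g : ∀ i, Z i ⟶ EtOver.bcObj hh ((EtOver.postcomp f hje).obj (T0 V))),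
      (∀ z, ∃ i, z ∈ Set.range (g i).hom.left.left) ∧
      ∀ i, Over' O ((EtOver.postcomp f hje).obj (Z i)) ∨ g i = toT0 (Z i) ≫ d := by
  let Vo := (EtOver.postcomp f hje).obj (T0 V)
  haveI hVo : IsAff Vo := ‹IsAffine V.left›
  let Q := EtOver.bcObj hh Vo
  have hu' : Induct.Uniq O Vo.obj.hom := by
    show Induct.Uniq O (𝟙 ((yon S).obj V) ≫ f)
    rw [Category.id_comp]
    exact hu
  have hpieces : ∀ z : Q.obj.left.left, ∃ (Z : EtOver ((yon S).obj V)) (g : Z ⟶ Q),
      (Over' O ((EtOver.postcomp f hje).obj Z) ∨ g = toT0 Z ≫ d) ∧ z ∈ Set.range g.hom.left.left := by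
    intro z
    let Qx := (EtOver.postcomp f hje).obj Q
    by_cases hz : Points.ofPt Qx.obj.hom z ∈ O
    · obtain ⟨Z, g, -, hg, hzg⟩ := exists_piece_mem Q (hOo.preimage (Points.continuous_ofPt Qx.obj.hom)) hz
      refine ⟨Z, g, Or.inl ?_, hzg⟩
      rintro _ ⟨y, rfl⟩
      rw [← ofPt_edge_hom ((EtOver.postcomp f hje).map g) y]
      exact hg ⟨y, rfl⟩
    · obtain ⟨Z', g', -, heq, hzg⟩ := exists_piece_eq (Vo := Vo) hu' (prE hje hh Vo)
        ((EtOver.postcomp f hje).map (toT0 Q)) z hz
      let Z : EtOver ((yon S).obj V) := EtOver.mk ((yon S).map g'.hom.left ≫ Q.obj.hom) (by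
        haveI := EtOver.etale_left g'
        exact RepWith.comp ((repWith_yon_map_iff (P := @Etale) _).2 inferInstance) Q.property)
      let g : Z ⟶ Q := EtOver.homMk g'.hom.left rfl
      refine ⟨Z, g, Or.inr (EtOver.hom_ext _ _ ?_), hzg⟩
      have h1 : g'.hom.left ≫ (toT0 Q).hom.left = (toT0 Z).hom.left := (yon S).map_injective (by
        rw [Functor.map_comp, map_toT0, map_toT0]; rfl)
      have h2 : g'.hom.left ≫ hh.snd Vo.obj.hom = g'.hom.left ≫ (toT0 Q).hom.left := congrArg (fun k => k.hom.left) heq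
      have hdfst : (yon S).map d.hom.left ≫ hh.fst Vo.obj.hom = 𝟙 ((yon S).obj V) := EtOver.w d
      have hdsnd : d.hom.left ≫ hh.snd Vo.obj.hom = 𝟙 V := congrArg (fun k => k.hom.left) hd
      refine hh.hom_ext ?_ ?_
      · show (yon S).map g'.hom.left ≫ hh.fst Vo.obj.hom = (yon S).map ((toT0 Z).hom.left ≫ d.hom.left) ≫ hh.fst Vo.obj.hom
        rw [Functor.map_comp, Category.assoc, hdfst, map_toT0]
        exact (Category.comp_id Z.obj.hom).symm
      · show g'.hom.left ≫ hh.snd Vo.obj.hom = ((toT0 Z).hom.left ≫ d.hom.left) ≫ hh.snd Vo.obj.hom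
        rw [Category.assoc, hdsnd, h2, h1]
        exact (Category.comp_id _).symm
  choose Z g hZO hcov using hpieces
  exact ⟨_, Z, g, fun z => ⟨z, hcov z⟩, hZO⟩

theorem mapSec_d_push_smul [IsAffine V.left] (P : ModEt ((yon S).obj V))
    (d : T0 V ⟶ EtOver.bcObj hh ((EtOver.postcomp f hje).obj (T0 V)))
    (hd : (EtOver.postcomp f hje).map d ≫ prE hje hh ((EtOver.postcomp f hje).obj (T0 V)) = 𝟙 _)
    (r : ΓE ((EtOver.postcomp f hje).obj (T0 V))) (b : Sec P (EtOver.bcObj hh ((EtOver.postcomp f hje).obj (T0 V)))) :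
    mapSec P d (bcΓ hh _ r • b) = (show ΓE (T0 V) from r) • mapSec P d b := by
  rw [mapSec_smul]
  congr 1
  rw [← ΓMap_prE hje hh _ r]
  show (ΓMap ((EtOver.postcomp f hje).map d)).hom ((ΓMap (prE hje hh _)).hom r) = r
  rw [← ΓMap_comp, hd]
  exact congrArg (fun t => (CommRingCat.Hom.hom t) r) ((OEt X).obj.map_id _)

include hh in
/-- modifying a module along an etale chart -/
theorem exists_modify [IsAffine V.left] [G.IsQuasicoherent] [P.IsQuasicoherent]
    (hqc : IsQuasiCompactMor f) (hqs : IsQuasiSeparatedMor f) (hOo : IsOpen O) (hu : Induct.Uniq O f)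
    (hiso : ∀ Z, IsAff Z → Over' O ((EtOver.postcomp f hje).obj Z) → Function.Bijective (secMap πV Z)) :
    ∃ (G' : ModEt X) (_ : G'.IsQuasicoherent) (ψ : G' ⟶ G),
      (∀ E, IsAff E → Over' O E → Function.Bijective (secMap ψ E)) ∧
      ∃ e : Sec G' ((EtOver.postcomp f hje).obj (T0 V)) →+ Sec P (T0 V), Function.Bijective e ∧
        (∀ (r : ΓE ((EtOver.postcomp f hje).obj (T0 V))) x, e (r • x) = (show ΓE (T0 V) from r) • e x) ∧
        ∀ x, (secMap πV (T0 V) (e x) : Sec G ((EtOver.postcomp f hje).obj (T0 V))) =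
          secMap ψ ((EtOver.postcomp f hje).obj (T0 V)) x := by
  obtain ⟨η, hη⟩ := exists_unit hje hh G
  haveI := isQuasicoherent_resPost hje G
  haveI hA : ((pushModEt hh).obj ((resPost hje).obj G)).IsQuasicoherent :=
    isQuasicoherent_of_forall _ fun E hE => by haveI := hE; exact isBC_push_qcqs hh _ hqc hqs E
  haveI hB : ((pushModEt hh).obj P).IsQuasicoherent :=
    isQuasicoherent_of_forall _ fun E hE => by haveI := hE; exact isBC_push_qcqs hh _ hqc hqs E
  obtain ⟨G', hG', ψ, χ, hw, hinj, hsur⟩ := exists_fibre η ((pushModEt hh).map πV)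
  -- values of the projection to the direct image
  let cx : ∀ E, Sec G' E → Sec P (EtOver.bcObj hh E) := fun E x => secMap χ E x
  have hw' : ∀ E, IsAff E → ∀ x : Sec G' E, secMap πV (EtOver.bcObj hh E) (cx E x) =
      resMk hje G _ (mapSec G (prE hje hh E) (secMap ψ E x)) := fun E hE x =>
    ((secMap_comp χ _ E x).symm.trans ((secMap_eq hw E x).symm.trans (secMap_comp ψ η E x))).trans (hη E hE _)
  have hcx : ∀ E (r : ΓE E) (x : Sec G' E), cx E (r • x) = bcΓ hh E r • cx E x := fun E r x =>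
    (map_smul (secMap χ E) r x).trans (pushMk_smul hh P E r (cx E x)).symm
  have hsur' : ∀ E, IsAff E → ∀ (a : Sec G E) (b : Sec P (EtOver.bcObj hh E)),
      secMap πV (EtOver.bcObj hh E) b = resMk hje G _ (mapSec G (prE hje hh E) a) →
      ∃ x : Sec G' E, secMap ψ E x = a ∧ cx E x = b := fun E hE a b h =>
    hsur E a (pushMk hh P E b) ((hη E hE a).trans h.symm)
  have hinj' : ∀ E (x y : Sec G' E), secMap ψ E x = secMap ψ E y → cx E x = cx E y → x = y := hinj
  have hbij := bijective_overO hje πV hiso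
  refine ⟨G', hG', ψ, fun E hE cE => ?_, ?_⟩
  · have hb : Function.Bijective (secMap πV (EtOver.bcObj hh E)) :=
      hbij (EtOver.bcObj hh E) (down_over O (prE hje hh E) cE)
    refine ⟨fun x y hxy => hinj' E x y hxy (hb.1 ?_), fun a => ?_⟩
    · exact (hw' E hE x).trans ((congrArg (fun t => resMk hje G _ (mapSec G (prE hje hh E) t)) hxy).trans (hw' E hE y).symm)
    · obtain ⟨b, hb'⟩ := hb.2 (resMk hje G _ (mapSec G (prE hje hh E) a))
      obtain ⟨x, hx, -⟩ := hsur' E hE a b hb'
      exact ⟨x, hx⟩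
  let Vo := (EtOver.postcomp f hje).obj (T0 V)
  have hVo : IsAff Vo := ‹IsAffine V.left›
  obtain ⟨d, hd⟩ := exists_diag hje hh
  obtain ⟨ι, Z, g, hc, hZO⟩ := exists_diag_cover hje hh hOo hu d hd
  have hdy : ∀ a : Sec G Vo, mapSec _ d (resMk hje G _ (mapSec G (prE hje hh Vo) a)) = resMk hje G (T0 V) a := fun a => by
    refine (mapSec_resPost hje G d _).trans ?_
    show mapSec G ((EtOver.postcomp f hje).map d) (mapSec G (prE hje hh Vo) a) = a
    rw [← mapSec_comp, hd, QCohEt.mapSec_id]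
  let e : Sec G' Vo →+ Sec P (T0 V) :=
    { toFun := fun x => mapSec P d (cx Vo x)
      map_zero' := (congrArg (mapSec P d) (map_zero (secMap χ Vo))).trans (map_zero (mapSec P d))
      map_add' := fun x y => (congrArg (mapSec P d) (map_add (secMap χ Vo) x y)).trans (map_add (mapSec P d) _ _) }
  have he3 : ∀ x, secMap πV (T0 V) (e x) = resMk hje G (T0 V) (secMap ψ Vo x) := fun x =>
    (mapSec_secMap πV d (cx Vo x)).symm.trans ((congrArg (mapSec _ d) (hw' Vo hVo x)).trans (hdy _))
  refine ⟨e, ⟨fun x y hxy => ?_, fun n => ?_⟩, fun r x => ?_, he3⟩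
  · have h1 : secMap ψ Vo x = secMap ψ Vo y := (he3 x).symm.trans ((congrArg (secMap πV (T0 V)) hxy).trans (he3 y))
    refine hinj' Vo x y h1 ?_
    exact eq_of_locus_diag hje πV hbij d g hc hZO (cx Vo x) (cx Vo y)
      ((hw' Vo hVo x).trans ((congrArg (fun t => resMk hje G _ (mapSec G (prE hje hh Vo) t)) h1).trans (hw' Vo hVo y).symm))
      hxy
  · obtain ⟨a, ha⟩ : ∃ a : Sec G Vo, resMk hje G (T0 V) a = secMap πV (T0 V) n := ⟨secMap πV (T0 V) n, rfl⟩
    obtain ⟨bb, hb1, hb2⟩ := exists_of_locus_diag hje πV hbij d g hc hZO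
      (resMk hje G _ (mapSec G (prE hje hh Vo) a)) n (ha.symm.trans (hdy a).symm)
    obtain ⟨x, -, hx⟩ := hsur' Vo hVo a bb hb1
    exact ⟨x, (congrArg (mapSec P d) hx).trans hb2⟩
  · show mapSec P d (cx Vo (r • x)) = _
    exact (congrArg (mapSec P d) (hcx Vo r x)).trans
      (mapSec_d_push_smul hje hh P d hd r (cx Vo x))

end Groth.Agent.AlgSpLib.QCohEt
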