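import Groth.Agent.AlgSpLib.QCohEtSub
import Groth.Agent.AlgSpLib.Filtration

/-!
Partial quasi-coherent submodules on the small etale site, given on classes of affine objects:
descent, extension and gluing.
-/

set_option autoImplicit false

universe u

open CategoryTheory CategoryTheory.Limits AlgebraicGeometry Opposite TensorProduct
open AlgSp

noncomputable section

set_option linter.style.haveILetI false

namespace Groth.Agent.AlgSpLib.QCohEt

set_option backward.isDefEq.respectTransparency.types false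
set_option backward.isDefEq.respectTransparency false

variable {S : Scheme.{u}} {X : Sp S} (F : ModEt X)

theorem exists_lTensor_of_mem_span {E W : EtOver X} [IsAff E] [IsAff W] (g : W ⟶ E)
    (N : Submodule (ΓE E) (Sec F E)) (z : Sec F W)
    (hz : z ∈ Submodule.span (ΓE W) (mapSec F g '' (N : Set (Sec F E)))) :
    ∃ y, bcMap F E (Over.mk g) (LinearMap.lTensor (ΓE (Over.mk g).left) N.subtype y) = z := by
  induction hz using Submodule.span_induction with
  | mem v hv =>
    obtain ⟨p, hp, rfl⟩ := hv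
    exact ⟨1 ⊗ₜ ⟨p, hp⟩, ((bcMap_tmul F E (Over.mk g) 1 p).trans (one_smul _ _))⟩
  | zero => exact ⟨0, by rw [map_zero, map_zero]⟩
  | add v w _ _ hv hw =>
    obtain ⟨a, ha⟩ := hv
    obtain ⟨b, hb⟩ := hw
    exact ⟨a + b, by rw [map_add, map_add, ha, hb]⟩
  | smul r v hv' hv =>
    obtain ⟨y, rfl⟩ := hv
    clear hv'
    induction y using TensorProduct.induction_on with
    | zero => exact ⟨0, by simp only [map_zero, smul_zero]⟩
    | tmul a p =>
      exact ⟨((show ΓE (Over.mk g).left from r) * a) ⊗ₜ p,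
        ((bcMap_tmul F E (Over.mk g) ((show ΓE (Over.mk g).left from r) * a) (p : Sec F E)).trans (mul_smul _ _ _)).trans
        (congrArg (r • ·) (bcMap_tmul F E (Over.mk g) a (p : Sec F E)).symm)⟩
    | add x y hx hy =>
      obtain ⟨a, ha⟩ := hx
      obtain ⟨b, hb⟩ := hy
      exact ⟨a + b, by rw [map_add, map_add, ha, hb, map_add, map_add, smul_add]⟩

theorem mem_span_bcMap {E : EtOver X} (W : Over E) (N : Submodule (ΓE E) (Sec F E))
    (y : ΓE W.left ⊗[ΓE E] N) :
    bcMap F E W (LinearMap.lTensor (ΓE W.left) N.subtype y) ∈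
      Submodule.span (ΓE W.left) (mapSec F W.hom '' (N : Set (Sec F E))) := by
  induction y using TensorProduct.induction_on with
  | zero => rw [map_zero, map_zero]; exact zero_mem _
  | tmul a p =>
    rw [LinearMap.lTensor_tmul, bcMap_tmul]
    exact Submodule.smul_mem _ _ (Submodule.subset_span ⟨_, p.2, rfl⟩)
  | add x y hx hy => rw [map_add, map_add]; exact add_mem hx hy

/-- membership in a submodule is detected on a covering -/
theorem mem_of_span_cover [F.IsQuasicoherent] {E : EtOver X} [IsAff E] {ι : Type} {Z : ι → EtOver X}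
    [∀ j, IsAff (Z j)] (g : ∀ j, Z j ⟶ E) (hc : ∀ x, ∃ j, x ∈ Set.range (g j).hom.left.left)
    (N : Submodule (ΓE E) (Sec F E)) (s : Sec F E)
    (h : ∀ j, mapSec F (g j) s ∈ Submodule.span (ΓE (Z j)) (mapSec F (g j) '' (N : Set (Sec F E)))) :
    s ∈ N := by
  letI := fun j => (ΓMap (g j)).hom.toAlgebra
  haveI : ∀ j, Module.Flat (ΓE E) (ΓE (Z j)) := fun j => flat_ΓMap (g j)
  refine (Submodule.Quotient.mk_eq_zero _).1
    (eq_zero_of_forall_one_tmul (fun j => (ΓE (Z j) : Type (u + 1))) (fun p hp => exists_comap_eq g hc p hp)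
      (Submodule.Quotient.mk (p := N) s) fun j => ?_)
  let W : Over E := Over.mk (g j)
  haveI : IsAff W.left := (inferInstance : IsAff (Z j))
  obtain ⟨y, hy⟩ := exists_lTensor_of_mem_span F (g j) N _ (h j)
  have h1 : (1 : ΓE W.left) ⊗ₜ[ΓE E] s = LinearMap.lTensor (ΓE W.left) N.subtype y :=
    ((isBC F E W inferInstance).injective ((hy.trans ((bcMap_tmul F E W 1 s).trans (one_smul _ _)).symm))).symm
  refine (congrArg (LinearMap.lTensor (ΓE W.left) N.mkQ) h1).trans ?_
  rw [← LinearMap.comp_apply, ← LinearMap.lTensor_comp,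
    show N.mkQ ∘ₗ N.subtype = 0 from LinearMap.ext fun x => (Submodule.Quotient.mk_eq_zero _).2 x.property,
    LinearMap.lTensor_zero, LinearMap.zero_apply]

/-- the sections with prescribed restrictions -/
def resInter {E : EtOver X} {ι : Type} {Z : ι → EtOver X} (g : ∀ j, Z j ⟶ E)
    (N : ∀ j, Submodule (ΓE (Z j)) (Sec F (Z j))) : Submodule (ΓE E) (Sec F E) where
  carrier := {s | ∀ j, mapSec F (g j) s ∈ N j}
  add_mem' {a b} ha hb j := by rw [map_add]; exact add_mem (ha j) (hb j)
  zero_mem' j := by rw [map_zero]; exact zero_mem _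
  smul_mem' r a ha j := (mapSec_smul F (g j) r a).symm ▸ Submodule.smul_mem _ _ (ha j)

/-- sections with prescribed restrictions commute with base change -/
theorem mem_span_resInter [F.IsQuasicoherent] {E : EtOver X} [IsAff E] {ι : Type} [Finite ι] {Z : ι → EtOver X}
    [∀ j, IsAff (Z j)] (g : ∀ j, Z j ⟶ E) (N : ∀ j, Submodule (ΓE (Z j)) (Sec F (Z j)))
    {W : EtOver X} [IsAff W] (u : W ⟶ E) (y : Sec F W)
    (hy : ∀ j, mapSec F (EtOver.pullbackFst u (g j)) y ∈ Submodule.span (ΓE (EtOver.pullbackObj u (g j)))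
      (mapSec F (EtOver.pullbackSnd u (g j)) '' (N j : Set (Sec F (Z j))))) :
    y ∈ Submodule.span (ΓE W) (mapSec F u '' (resInter F g N : Set (Sec F E))) := by
  classical
  haveI := Fintype.ofFinite ι
  let Wo : Over E := Over.mk u
  haveI : IsAff Wo.left := (inferInstance : IsAff W)
  haveI : Module.Flat (ΓE E) (ΓE Wo.left) := flat_ΓMap Wo.hom
  obtain ⟨x, rfl⟩ := (isBC F E Wo inferInstance).surjective y
  letI := fun j => secModule F (g j)
  letI := fun j => (ΓMap (g j)).hom.toAlgebra
  haveI : ∀ j, IsScalarTower (ΓE E) (ΓE (Z j)) (Sec F (Z j)) := fun j =>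
    IsScalarTower.of_algebraMap_smul fun a m => rfl
  let N' : ∀ j, Submodule (ΓE E) (Sec F (Z j)) := fun j => (N j).restrictScalars (ΓE E)
  let φ : Sec F E →ₗ[ΓE E] ∀ j, Sec F (Z j) ⧸ N' j := LinearMap.pi fun j => (N' j).mkQ ∘ₗ resLin F (g j)
  have hker : LinearMap.ker φ = resInter F g N := by
    ext s
    refine (funext_iff.trans (forall_congr' fun j => ?_))
    exact Submodule.Quotient.mk_eq_zero (N' j)
  have hcomp : ∀ j, LinearMap.lTensor (ΓE Wo.left) ((N' j).mkQ ∘ₗ resLin F (g j)) x = 0 := by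
    intro j
    rw [LinearMap.lTensor_comp, LinearMap.comp_apply]
    suffices h : LinearMap.lTensor (ΓE Wo.left) (resLin F (g j)) x ∈
        LinearMap.range (LinearMap.lTensor (ΓE Wo.left) (N' j).subtype) by
      obtain ⟨z, hz⟩ := h
      rw [← hz, ← LinearMap.comp_apply, ← LinearMap.lTensor_comp,
        show (N' j).mkQ ∘ₗ (N' j).subtype = 0 from LinearMap.ext fun x => (Submodule.Quotient.mk_eq_zero _).2 x.property,
        LinearMap.lTensor_zero, LinearMap.zero_apply]
    let T : AddSubgroup (Sec F (EtOver.pullbackObj Wo.hom (g j))) :=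
      (LinearMap.range (LinearMap.lTensor (ΓE Wo.left) (N' j).subtype)).toAddSubgroup.map (betaMap F Wo (g j))
    let T' : Submodule (ΓE (EtOver.pullbackObj Wo.hom (g j))) (Sec F (EtOver.pullbackObj Wo.hom (g j))) :=
      { carrier := {z | ∀ r : ΓE (EtOver.pullbackObj Wo.hom (g j)), r • z ∈ T}
        add_mem' := fun {a b} ha hb r => by rw [smul_add]; exact add_mem (ha r) (hb r)
        zero_mem' := fun r => by rw [smul_zero]; exact zero_mem _
        smul_mem' := fun c z hz r => by rw [smul_smul]; exact hz _ }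
    have hgen : ∀ n ∈ N j, mapSec F (EtOver.pullbackSnd Wo.hom (g j)) n ∈ T' := by
      intro n hn r
      letI : Algebra (ΓE E) (ΓE (EtOver.pullbackObj Wo.hom (g j))) :=
        (ΓMap (EtOver.pullbackFst Wo.hom (g j) ≫ Wo.hom)).hom.toAlgebra
      let l : ΓE Wo.left →ₐ[ΓE E] ΓE (EtOver.pullbackObj Wo.hom (g j)) :=
        { (ΓMap (EtOver.pullbackFst Wo.hom (g j))).hom with
          commutes' := fun a => (ΓMap_comp _ Wo.hom a).symm }
      let r' : ΓE (Z j) →ₐ[ΓE E] ΓE (EtOver.pullbackObj Wo.hom (g j)) :=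
        { (ΓMap (EtOver.pullbackSnd Wo.hom (g j))).hom with
          commutes' := fun a => by
            change (ΓMap (EtOver.pullbackSnd Wo.hom (g j))).hom ((ΓMap (g j)).hom a) =
              (ΓMap (EtOver.pullbackFst Wo.hom (g j) ≫ Wo.hom)).hom a
            rw [← ΓMap_comp, EtOver.pullback_condition] }
      obtain ⟨t, rfl⟩ := (bijective_productMap Wo.hom (g j) l r' rfl rfl).surjective r
      induction t using TensorProduct.induction_on with
      | zero => rw [map_zero, zero_smul]; exact zero_mem _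
      | tmul b z =>
        refine ⟨b ⊗ₜ (z • n), ⟨b ⊗ₜ ⟨z • n, (N j).smul_mem z hn⟩, rfl⟩, ?_⟩
        rw [betaMap_tmul, mapSec_smul, smul_smul]
        rfl
      | add a b ha hb => rw [map_add, add_smul]; exact add_mem ha hb
    have hmem := Submodule.span_le.2 (by rintro _ ⟨n, hn, rfl⟩; exact hgen n hn) (hy j)
    have h1 := hmem 1
    rw [one_smul] at h1
    obtain ⟨z, hz, hz'⟩ := h1
    have e : z = LinearMap.lTensor (ΓE Wo.left) (resLin F (g j)) x :=
      (bijective_betaMap F Wo (g j) (isBC F (Z j))).injective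
        (hz'.trans (betaMap_resLin F Wo (g j) x).symm)
    exact e ▸ hz
  have hx : LinearMap.lTensor (ΓE Wo.left) φ x = 0 := by
    refine (TensorProduct.piRight (ΓE E) (ΓE E) (ΓE Wo.left) fun j => Sec F (Z j) ⧸ N' j).injective ?_
    rw [map_zero]
    funext j
    refine Eq.trans ?_ (hcomp j)
    clear hcomp hy
    induction x using TensorProduct.induction_on with
    | zero => simp only [map_zero, Pi.zero_apply]
    | tmul b m => rfl
    | add a b ha hb => simp only [map_add, Pi.add_apply, ha, hb]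
  obtain ⟨z, hz⟩ := (Module.Flat.lTensor_exact (ΓE Wo.left) (LinearMap.exact_subtype_ker_map φ) x).1 hx
  rw [← hz]
  exact hker ▸ mem_span_bcMap F Wo (LinearMap.ker φ) z

theorem exists_mem_range_pullbackFst {E W Z : EtOver X} (f : W ⟶ E) (g : Z ⟶ E) (w : W.obj.left.left)
    (h : f.hom.left.left w ∈ Set.range g.hom.left.left) :
    w ∈ Set.range (EtOver.pullbackFst f g).hom.left.left := by
  obtain ⟨z, hz⟩ := h
  obtain ⟨p, hp, -⟩ := Scheme.exists_preimage_of_isPullback
    ((IsPullback.of_hasPullback f.hom.left g.hom.left).map (Over.forget S)) w z hz.symm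
  exact ⟨p, hp⟩

/-- closed under passing to objects over a member -/
def Down (C : EtOver X → Prop) : Prop := ∀ ⦃E W : EtOver X⦄, (W ⟶ E) → C E → C W

/-- a quasi-coherent submodule given on a class of affine objects -/
structure PSub (C : EtOver X → Prop) where
  /-- the sections -/
  P : ∀ E : EtOver X, IsAff E → C E → Submodule (ΓE E) (Sec F E)
  /-- they are generated by restriction -/
  span_eq : ∀ {E W : EtOver X} (hE : IsAff E) (hW : IsAff W) (cE : C E) (cW : C W) (g : W ⟶ E),
    Submodule.span (ΓE W) (mapSec F g '' (P E hE cE : Set (Sec F E))) = P W hW cW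

namespace PSub

variable {F} {C D : EtOver X → Prop} (G : PSub F C)

theorem map_mem {E W : EtOver X} (hE : IsAff E) (hW : IsAff W) (cE : C E) (cW : C W) (g : W ⟶ E) {s : Sec F E}
    (hs : s ∈ G.P E hE cE) : mapSec F g s ∈ G.P W hW cW :=
  G.span_eq hE hW cE cW g ▸ Submodule.subset_span ⟨s, hs, rfl⟩

/-- finite type -/
def IsFG : Prop := ∀ E hE cE, (G.P E hE cE).FG

theorem fg_map {E W : EtOver X} (hE : IsAff E) (hW : IsAff W) (cE : C E) (cW : C W) (g : W ⟶ E)
    (h : (G.P E hE cE).FG) : (G.P W hW cW).FG := by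
  obtain ⟨t, ht⟩ := h
  classical
  refine ⟨t.image (mapSec F g), le_antisymm (Submodule.span_le.2 ?_) ?_⟩
  · rw [Finset.coe_image]
    rintro _ ⟨s, hs, rfl⟩
    exact G.map_mem hE hW cE cW g (ht ▸ Submodule.subset_span hs)
  · rw [← G.span_eq hE hW cE cW g, Submodule.span_le]
    rintro _ ⟨s, hs, rfl⟩
    rw [← ht] at hs
    induction hs using Submodule.span_induction with
    | mem v hv => exact Submodule.subset_span (Finset.mem_coe.2 (Finset.mem_image_of_mem _ hv))
    | zero => rw [map_zero]; exact zero_mem _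
    | add v w _ _ hv hw => rw [map_add]; exact add_mem hv hw
    | smul r v _ hv => rw [mapSec_smul]; exact Submodule.smul_mem _ _ hv

/-- equality of submodules is local -/
theorem eq_of_cover [F.IsQuasicoherent] {E : EtOver X} [hE : IsAff E] (cE : C E) {ι : Type} {Z : ι → EtOver X}
    [∀ j, IsAff (Z j)] (g : ∀ j, Z j ⟶ E) (hc : ∀ x, ∃ j, x ∈ Set.range (g j).hom.left.left) (cZ : ∀ j, C (Z j))
    (N : Submodule (ΓE E) (Sec F E))
    (h : ∀ j, Submodule.span (ΓE (Z j)) (mapSec F (g j) '' (N : Set (Sec F E))) = G.P (Z j) inferInstance (cZ j)) :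
    N = G.P E inferInstance cE := by
  refine le_antisymm (fun s hs => ?_) fun s hs => ?_
  · refine mem_of_span_cover F g hc _ s fun j => ?_
    rw [G.span_eq inferInstance inferInstance cE (cZ j) (g j), ← h j]
    exact Submodule.subset_span ⟨s, hs, rfl⟩
  · refine mem_of_span_cover F g hc _ s fun j => ?_
    rw [h j]
    exact G.map_mem _ _ cE (cZ j) (g j) hs

/-- restriction to a smaller class -/
def restrict (h : ∀ E, D E → C E) : PSub F D where
  P E hE cE := G.P E hE (h E cE)
  span_eq hE hW cE cW g := G.span_eq hE hW _ _ g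

theorem restrict_P (h : ∀ E, D E → C E) (E : EtOver X) (hE : IsAff E) (cE : D E) :
    (G.restrict h).P E hE cE = G.P E hE (h E cE) := rfl

/-- the largest extension -/
def extP (E : EtOver X) : Submodule (ΓE E) (Sec F E) where
  carrier := {s | ∀ (W : EtOver X) (hW : IsAff W) (cW : C W) (g : W ⟶ E), mapSec F g s ∈ G.P W hW cW}
  add_mem' {a b} ha hb W hW cW g := by rw [map_add]; exact add_mem (ha W hW cW g) (hb W hW cW g)
  zero_mem' W hW cW g := by rw [map_zero]; exact zero_mem _
  smul_mem' r a ha W hW cW g := (mapSec_smul F g r a).symm ▸ Submodule.smul_mem _ _ (ha W hW cW g)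

/-- a finite family of members covering all members over `E` -/
def CoversLocus (C : EtOver X → Prop) (E : EtOver X) : Prop :=
  ∃ (ι : Type) (_ : Finite ι) (Z : ι → EtOver X) (g : ∀ j, Z j ⟶ E), (∀ j, IsAff (Z j)) ∧ (∀ j, C (Z j)) ∧
    ∀ (W : EtOver X), IsAff W → C W → ∀ (f : W ⟶ E) (w : W.obj.left.left),
      ∃ j, f.hom.left.left w ∈ Set.range (g j).hom.left.left

variable [F.IsQuasicoherent]

theorem extP_eq {E : EtOver X} [IsAff E] (cE : C E) : G.extP E = G.P E inferInstance cE := by
  refine le_antisymm (fun s hs => ?_) fun s hs W hW cW g => G.map_mem _ hW cE cW g hs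
  exact mapSec_id F E s ▸ hs E inferInstance cE (𝟙 E)

theorem extP_span_eq (hC : Down C) {E W : EtOver X} [IsAff E] [IsAff W] (hcov : CoversLocus C E) (u : W ⟶ E) :
    Submodule.span (ΓE W) (mapSec F u '' (G.extP E : Set (Sec F E))) = G.extP W := by
  refine le_antisymm (Submodule.span_le.2 ?_) fun y hy => ?_
  · rintro _ ⟨s, hs, rfl⟩ W' hW' cW' g
    rw [← mapSec_comp]
    exact hs W' hW' cW' (g ≫ u)
  obtain ⟨ι, hfin, Z, g, hZ, cZ, hc⟩ := hcov
  haveI := hfin
  haveI := hZ
  refine Submodule.span_mono (Set.image_mono ?_)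
    (mem_span_resInter F g (fun j => G.P (Z j) (hZ j) (cZ j)) u y fun j => ?_)
  · intro s hs W' hW' cW' f
    haveI := hW'
    haveI := fun j => isAff_pullbackObj f (g j)
    refine mem_of_span_cover F (fun j => EtOver.pullbackFst f (g j)) (fun w => ?_) _ _ fun j => ?_
    · obtain ⟨j, hj⟩ := hc W' hW' cW' f w
      exact ⟨j, exists_mem_range_pullbackFst f (g j) w hj⟩
    · rw [G.span_eq hW' (isAff_pullbackObj f (g j)) cW' (hC (EtOver.pullbackFst f (g j)) cW'),
        ← mapSec_comp, EtOver.pullback_condition, mapSec_comp]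
      exact G.map_mem (hZ j) _ (cZ j) _ _ (hs j)
  · haveI := isAff_pullbackObj u (g j)
    rw [G.span_eq (hZ j) (isAff_pullbackObj u (g j)) (cZ j) (hC (EtOver.pullbackSnd u (g j)) (cZ j))]
    exact hy _ _ _ _

/-- extension to a larger class -/
def extend (hC : Down C) (hcov : ∀ E, IsAff E → D E → CoversLocus C E) : PSub F D where
  P E _ _ := G.extP E
  span_eq {E W} hE hW cE _ u := by
    haveI := hE
    haveI := hW
    exact G.extP_span_eq hC (hcov E hE cE) u

theorem extend_P (hC : Down C) (hcov : ∀ E, IsAff E → D E → CoversLocus C E) {E : EtOver X} (hE : IsAff E)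
    (dE : D E) (cE : C E) : (G.extend hC hcov).P E hE dE = G.P E hE cE := by
  haveI := hE
  exact G.extP_eq cE

/-- finite type is local -/
theorem fg_of_cover {E : EtOver X} [IsAff E] (cE : C E) {ι : Type} [Finite ι] {Z : ι → EtOver X}
    [∀ j, IsAff (Z j)] (g : ∀ j, Z j ⟶ E) (hc : ∀ x, ∃ j, x ∈ Set.range (g j).hom.left.left) (cZ : ∀ j, C (Z j))
    (h : ∀ j, (G.P (Z j) inferInstance (cZ j)).FG) : (G.P E inferInstance cE).FG := by
  classical
  haveI := Fintype.ofFinite ι
  choose t ht using h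
  have key : ∀ j, ∀ z ∈ t j, ∃ T : Finset (Sec F E), (T : Set (Sec F E)) ⊆ G.P E inferInstance cE ∧
      z ∈ Submodule.span (ΓE (Z j)) (mapSec F (g j) '' (T : Set (Sec F E))) := by
    intro j z hz
    have hz' : z ∈ Submodule.span (ΓE (Z j)) (mapSec F (g j) '' (G.P E inferInstance cE : Set (Sec F E))) := by
      rw [G.span_eq inferInstance inferInstance cE (cZ j), ← ht j]
      exact Submodule.subset_span hz
    obtain ⟨T, hT, hzT⟩ := Submodule.mem_span_finite_of_mem_span hz'
    choose p hp hp' using fun a : T => hT a.2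
    refine ⟨Finset.univ.image p, ?_, Submodule.span_mono (fun a ha => ?_) hzT⟩
    · intro b hb
      obtain ⟨a, -, rfl⟩ := Finset.mem_image.1 (Finset.mem_coe.1 hb)
      exact hp a
    · exact ⟨p ⟨a, ha⟩, by simp, hp' ⟨a, ha⟩⟩
  choose T hT hzT using key
  let U : Finset (Sec F E) := Finset.univ.biUnion fun j => (t j).attach.biUnion fun z => T j z.1 z.2
  refine ⟨U, le_antisymm (Submodule.span_le.2 fun b hb => ?_) fun s hs => ?_⟩
  · obtain ⟨j, -, hj⟩ := Finset.mem_biUnion.1 (Finset.mem_coe.1 hb)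
    obtain ⟨z, -, hz⟩ := Finset.mem_biUnion.1 hj
    exact hT j z.1 z.2 hz
  · refine mem_of_span_cover F g hc _ s fun j => ?_
    refine (Submodule.span_le.2 fun z hz => ?_ :
      Submodule.span (ΓE (Z j)) (t j : Set (Sec F (Z j))) ≤ _) ?_
    · refine Submodule.span_mono (Set.image_mono ?_) (hzT j z hz)
      exact fun b hb => Submodule.subset_span (Finset.mem_coe.2 (Finset.mem_biUnion.2
        ⟨j, Finset.mem_univ _, Finset.mem_biUnion.2 ⟨⟨z, hz⟩, Finset.mem_attach _ _, hb⟩⟩))
    · rw [ht j]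
      exact G.map_mem _ _ cE (cZ j) (g j) hs

end PSub

end Groth.Agent.AlgSpLib.QCohEt
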