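import Groth.Agent.AlgSpLib.QCohEtAlg
import Groth.Agent.AlgSpLib.QCohEtSite
import Mathlib.Algebra.Category.ModuleCat.Presheaf.Sheafification

/-!
The presheaf attached to a module over the ring of an object of the small etale site; sheafifying it does not
change the values on affine objects.
-/

universe u

open CategoryTheory CategoryTheory.Limits AlgebraicGeometry Opposite TensorProduct
open AlgSp

noncomputable section

set_option linter.style.haveILetI false

namespace Groth.Agent.AlgSpLib.QCohEt

set_option backward.isDefEq.respectTransparency.types false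
set_option backward.isDefEq.respectTransparency false

variable {S : Scheme.{u}} {X : Sp S} {c : EtOver X}

/-- the ring of the base object as acting on objects over it -/
instance algOver (W : Over c) : Algebra (ΓE c) (ΓE W.left) := (ΓMap W.hom).hom.toAlgebra

/-- restriction of functions -/
def resAlg {W V : Over c} (g : V ⟶ W) : ΓE W.left →ₐ[ΓE c] ΓE V.left :=
  { (ΓMap g.left).hom with
    commutes' := fun a => by
      change (ΓMap g.left).hom ((ΓMap W.hom).hom a) = (ΓMap V.hom).hom a
      rw [← CommRingCat.comp_apply, ← Functor.map_comp, ← op_comp, Over.w g] }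

theorem resAlg_apply {W V : Over c} (g : V ⟶ W) (a : ΓE W.left) : resAlg g a = (ΓMap g.left).hom a := rfl

variable (N : Type (u + 1)) [AddCommGroup N] [Module (ΓE c) N]

/-- restriction of sections of the attached presheaf -/
def preMap {W V : Over c} (g : V ⟶ W) :
    ΓE W.left ⊗[ΓE c] N →ₗ[ΓE c] ΓE V.left ⊗[ΓE c] N :=
  LinearMap.rTensor N (resAlg g).toLinearMap

@[simp] theorem preMap_tmul {W V : Over c} (g : V ⟶ W) (a : ΓE W.left) (n : N) :
    preMap N g (a ⊗ₜ n) = resAlg g a ⊗ₜ n := rfl

theorem preMap_smul {W V : Over c} (g : V ⟶ W) (r : ΓE W.left) (x : ΓE W.left ⊗[ΓE c] N) :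
    preMap N g (r • x) = resAlg g r • preMap N g x := by
  induction x with
  | zero => simp
  | tmul a n => simp [TensorProduct.smul_tmul', map_mul]
  | add x y hx hy => simp [smul_add, hx, hy]

/-- the attached presheaf -/
def pre : PresheafOfModules.{u + 1} ((OEtRing X).over c).obj where
  obj W := ModuleCat.of (ΓE W.unop.left) (ΓE W.unop.left ⊗[ΓE c] N)
  map {W V} g := ModuleCat.ofHom
      (Y := (ModuleCat.restrictScalars (((OEtRing X).over c).obj.map g).hom).obj
        (ModuleCat.of (ΓE V.unop.left) (ΓE V.unop.left ⊗[ΓE c] N)))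
    { toFun := fun x => preMap N g.unop x
      map_add' := map_add _
      map_smul' := fun r x => preMap_smul N g.unop r x }
  map_id W := by
    ext x
    change preMap N (𝟙 W.unop) x = x
    induction x using TensorProduct.induction_on with
    | zero => exact map_zero _
    | tmul a n =>
      change resAlg (𝟙 W.unop) a ⊗ₜ[ΓE c] n = a ⊗ₜ[ΓE c] n
      rw [show resAlg (𝟙 W.unop) a = a from ConcreteCategory.congr_hom ((OEt X).obj.map_id (op W.unop.left)) a]
    | add x y hx hy => exact (map_add _ _ _).trans (congrArg₂ (· + ·) hx hy)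
  map_comp {W V U} f g := by
    ext x
    change preMap N (g.unop ≫ f.unop) x = preMap N g.unop (preMap N f.unop x)
    induction x using TensorProduct.induction_on with
    | zero => exact (map_zero _).trans ((congrArg _ (map_zero _)).trans (map_zero _)).symm
    | tmul a n =>
      change resAlg (g.unop ≫ f.unop) a ⊗ₜ[ΓE c] n = resAlg g.unop (resAlg f.unop a) ⊗ₜ[ΓE c] n
      rw [show resAlg (g.unop ≫ f.unop) a = resAlg g.unop (resAlg f.unop a) from
        ConcreteCategory.congr_hom ((OEt X).obj.map_comp f.unop.left.op g.unop.left.op) a]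
    | add x y hx hy =>
      exact (map_add _ _ _).trans ((congrArg₂ (· + ·) hx hy).trans
        ((congrArg _ (map_add _ _ _)).trans (map_add _ _ _)).symm)

variable {N}

/-- the terminal object of the slice -/
abbrev top (c : EtOver X) : Over c := Over.mk (𝟙 c)

theorem algebraMap_top (a : ΓE c) : algebraMap (ΓE c) (ΓE (top c).left) a = a :=
  ConcreteCategory.congr_hom ((OEt X).obj.map_id (op c)) a

variable {G : PresheafOfModules.{u + 1} ((OEtRing X).over c).obj}

/-- restriction from the terminal object -/
def resTop (W : Over c) : W ⟶ top c := Over.homMk W.hom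

/-- the action of functions on sections, with the rings of the small etale site -/
def act (W : Over c) : ΓE W.left →+ G.obj (op W) →+ G.obj (op W) where
  toFun r :=
    { toFun := fun z => (show ((OEtRing X).over c).obj.obj (op W) from r) • z
      map_zero' := smul_zero _
      map_add' := smul_add _ }
  map_zero' := AddMonoidHom.ext fun z => zero_smul _ z
  map_add' r r' := AddMonoidHom.ext fun z => add_smul _ _ z

theorem act_mul (W : Over c) (r r' : ΓE W.left) (z : G.obj (op W)) :
    act (G := G) W (r * r') z = act W r (act W r' z) :=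
  mul_smul (α := ((OEtRing X).over c).obj.obj (op W)) _ _ z

/-- restriction of sections as an additive map -/
def resG (g : (Over c)ᵒᵖ) (W : (Over c)ᵒᵖ) (h : g ⟶ W) : G.obj g →+ G.obj W where
  toFun x := G.map h x
  map_zero' := map_zero (G.map h).hom
  map_add' x y := map_add (G.map h).hom x y

theorem resG_apply {g W : (Over c)ᵒᵖ} (h : g ⟶ W) (x : G.obj g) : resG g W h x = G.map h x := rfl

theorem map_act {W V : Over c} (g : V ⟶ W) (r : ΓE W.left) (z : G.obj (op W)) :
    resG _ _ g.op (act W r z) = act V (resAlg g r) (resG _ _ g.op z) :=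
  PresheafOfModules.map_smul G g.op _ z

theorem resG_comp {W V U : (Over c)ᵒᵖ} (g : W ⟶ V) (h : V ⟶ U) (z : G.obj W) :
    resG V U h (resG W V g z) = resG W U (g ≫ h) z :=
  (PresheafOfModules.map_comp_apply G g h z).symm

theorem act_add_right (W : Over c) (r : ΓE W.left) (x y : G.obj (op W)) :
    act (G := G) W r (x + y) = act W r x + act W r y := map_add _ _ _

theorem act_congr (W : Over c) (r : ΓE W.left) {x y : G.obj (op W)} (h : x = y) :
    act (G := G) W r x = act W r y := by rw [h]

/-- the bilinear map defining the map out of the attached presheaf -/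
def preBil (f : N →+ G.obj (op (top c))) (W : Over c) : ΓE W.left →+ N →+ G.obj (op W) where
  toFun r := (act W r).comp ((resG _ _ (resTop W).op).comp f)
  map_zero' := by rw [map_zero, AddMonoidHom.zero_comp]
  map_add' r r' := by rw [map_add, AddMonoidHom.add_comp]

theorem preBil_apply (f : N →+ G.obj (op (top c))) (W : Over c) (r : ΓE W.left) (n : N) :
    preBil f W r n = act W r (resG _ _ (resTop W).op (f n)) := rfl

theorem resAlg_resTop (W : Over c) (a : ΓE c) :
    resAlg (resTop W) a = algebraMap (ΓE c) (ΓE W.left) a := rfl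

theorem preBil_balanced (f : N →+ G.obj (op (top c))) (hf : ∀ (a : ΓE c) (n : N), f (a • n) = act (top c) a (f n))
    (W : Over c) (a : ΓE c) (r : ΓE W.left) (n : N) : preBil f W (a • r) n = preBil f W r (a • n) := by
  rw [preBil_apply, preBil_apply, hf]
  refine Eq.trans ?_ (act_congr (G := G) W r (map_act (G := G) (resTop W) a (f n))).symm
  refine Eq.trans ?_ (act_mul (G := G) W r _ _)
  rw [resAlg_resTop, mul_comm r]
  exact congrArg (fun t => act (G := G) W t (resG _ _ (resTop W).op (f n))) (Algebra.smul_def a r)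

/-- the additive map out of the attached presheaf given by a map of modules -/
def preDescAdd (f : N →+ G.obj (op (top c))) (hf : ∀ (a : ΓE c) (n : N), f (a • n) = act (top c) a (f n))
    (W : Over c) : ΓE W.left ⊗[ΓE c] N →+ G.obj (op W) :=
  TensorProduct.liftAddHom (preBil f W) (preBil_balanced f hf W)

theorem preDescAdd_tmul (f : N →+ G.obj (op (top c))) (hf) (W : Over c) (a : ΓE W.left) (n : N) :
    preDescAdd f hf W (a ⊗ₜ n) = act W a (resG _ _ (resTop W).op (f n)) := rfl

theorem preDescAdd_smul (f : N →+ G.obj (op (top c))) (hf) (W : Over c) (r : ΓE W.left)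
    (x : ΓE W.left ⊗[ΓE c] N) :
    preDescAdd f hf W (r • x) = act W r (preDescAdd f hf W x) := by
  induction x using TensorProduct.induction_on with
  | zero => rw [smul_zero, map_zero, map_zero]
  | tmul a n =>
    rw [TensorProduct.smul_tmul', smul_eq_mul, preDescAdd_tmul f hf W, preDescAdd_tmul f hf W]
    exact act_mul (G := G) W r a _
  | add x y hx hy =>
    refine ((congrArg (preDescAdd f hf W) (smul_add (A := ΓE W.left ⊗[ΓE c] N) r x y)).trans
      (((preDescAdd f hf W).map_add _ _).trans (congrArg₂ (· + ·) hx hy))).trans ?_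
    refine Eq.trans ?_ (congrArg (fun z => act (G := G) W r z) ((preDescAdd f hf W).map_add x y)).symm
    exact (act_add_right (G := G) W r _ _).symm

theorem preDescAdd_natural (f : N →+ G.obj (op (top c))) (hf) {W V : Over c} (g : V ⟶ W)
    (x : ΓE W.left ⊗[ΓE c] N) :
    preDescAdd f hf V (preMap N g x) = resG _ _ g.op (preDescAdd f hf W x) := by
  induction x using TensorProduct.induction_on with
  | zero => rw [map_zero, map_zero, map_zero, map_zero]
  | tmul a n =>
    rw [preMap_tmul, preDescAdd_tmul f hf V, preDescAdd_tmul f hf W]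
    refine Eq.trans ?_ (map_act (G := G) g a (resG _ _ (resTop W).op (f n))).symm
    refine Eq.trans ?_ (congrArg (act (G := G) V (resAlg g a)) (resG_comp (G := G) (resTop W).op g.op (f n)).symm)
    exact congrArg (fun h => act (G := G) V (resAlg g a) (resG _ _ h (f n))) (congrArg Quiver.Hom.op (show resTop V = g ≫ resTop W from Over.OverMorphism.ext (Over.w g).symm))
  | add x y hx hy => rw [map_add, map_add, map_add, hx, hy, map_add]

/-- the map out of the attached presheaf given by a map of modules -/
def preDesc (f : N →+ G.obj (op (top c))) (hf : ∀ (a : ΓE c) (n : N), f (a • n) = act (top c) a (f n)) :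
    pre N ⟶ G where
  app W := ModuleCat.ofHom (X := ΓE W.unop.left ⊗[ΓE c] N) (Y := G.obj W)
    { toFun := preDescAdd f hf W.unop
      map_add' := map_add _
      map_smul' := fun r x => preDescAdd_smul f hf W.unop r x }
  naturality {W V} g := by
    ext x
    exact preDescAdd_natural f hf g.unop x

theorem preDesc_app (f : N →+ G.obj (op (top c))) (hf) (W : Over c) (a : ΓE W.left) (n : N) :
    (preDesc f hf).app (op W) (a ⊗ₜ[ΓE c] n) =
      act W a (resG _ _ (resTop W).op (f n)) := preDescAdd_tmul f hf W a n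

/-- maps out of the attached presheaf are determined on generators -/
theorem pre_hom_ext {φ ψ : pre N ⟶ G}
    (h : ∀ n : N, φ.app (op (top c)) ((1 : ΓE (top c).left) ⊗ₜ[ΓE c] n) = ψ.app (op (top c)) ((1 : ΓE (top c).left) ⊗ₜ[ΓE c] n)) :
    φ = ψ := by
  ext W x
  induction x using TensorProduct.induction_on with
  | zero => exact (map_zero _).trans (map_zero _).symm
  | tmul a n =>
    have e : (a ⊗ₜ[ΓE c] n : (pre N).obj W) =
        (a : ((OEtRing X).over c).obj.obj W) • (pre N).map (resTop W.unop).op ((1 : ΓE (top c).left) ⊗ₜ[ΓE c] n) := by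
      change a ⊗ₜ[ΓE c] n = a • (resAlg (resTop W.unop) 1 ⊗ₜ[ΓE c] n)
      rw [map_one, TensorProduct.smul_tmul', smul_eq_mul, mul_one]
    rw [e, map_smul, map_smul, PresheafOfModules.naturality_apply, PresheafOfModules.naturality_apply, h n]
  | add x y hx hy => simp only [map_add, hx, hy]

theorem preMap_comp {W V U : Over c} (g : V ⟶ W) (h : U ⟶ V) (x : ΓE W.left ⊗[ΓE c] N) :
    preMap N h (preMap N g x) = preMap N (h ≫ g) x := by
  have := congr($((pre N).map_comp g.op h.op) x)
  exact this.symm

section
variable {W : Over c} {Z : EtOver X} (g : Z ⟶ W.left)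

/-- an object over an object of the slice -/
abbrev below : Over c := Over.mk (g ≫ W.hom)

/-- its structure map -/
def belowι : below g ⟶ W := Over.homMk g

theorem ΓMap_comp {E E' E'' : EtOver X} (a : E'' ⟶ E') (b : E' ⟶ E) (x : ΓE E) :
    (ΓMap (a ≫ b)).hom x = (ΓMap a).hom ((ΓMap b).hom x) :=
  ConcreteCategory.congr_hom ((OEt X).obj.map_comp b.op a.op) x

end

variable {F : SheafOfModules.{u + 1} ((OEtRing X).over c)} (φ : pre N ⟶ F.val)

theorem naturality' {W V : Over c} (g : V ⟶ W) (x : ΓE W.left ⊗[ΓE c] N) :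
    φ.app (op V) (preMap N g x) = F.val.map g.op (φ.app (op W) x) :=
  PresheafOfModules.naturality_apply φ g.op x

theorem exists_separating [Presheaf.IsLocallyInjective ((etTop X).over c) ((PresheafOfModules.toPresheaf _).map φ)]
    (W : Over c) [IsAff W.left] (x : ΓE W.left ⊗[ΓE c] N) (hx : φ.app (op W) x = 0) : x = 0 := by
  obtain ⟨ι, hfin, Z, g, hZ, hg, hcov⟩ := exists_finite_affine_refinement
    ((GrothendieckTopology.mem_over_iff _ _).1 (Presheaf.equalizerSieve_mem ((etTop X).over c)
      ((PresheafOfModules.toPresheaf _).map φ) (X := op W) x 0 (hx.trans (map_zero _).symm)))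
  have h0 : ∀ j, preMap N (belowι (g j)) x = 0 := fun j =>
    ((Sieve.overEquiv_iff _ _).1 (hg j)).trans (map_zero _)
  clear hg hx
  letI : ∀ j, Algebra (ΓE W.left) (ΓE (Z j)) := fun j => (ΓMap (g j)).hom.toAlgebra
  letI : ∀ j, Algebra (ΓE c) (ΓE (Z j)) := fun j => algOver (below (g j))
  haveI : ∀ j, IsScalarTower (ΓE c) (ΓE W.left) (ΓE (Z j)) := fun j =>
    IsScalarTower.of_algebraMap_eq fun a => ΓMap_comp (g j) W.hom a
  haveI : ∀ j, Module.Flat (ΓE W.left) (ΓE (Z j)) := fun j => by
    have := hZ
    exact flat_ΓMap (g j)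
  exact separated (fun j => ΓE (Z j)) (A := ΓE W.left) (fun p hp => exists_comap_eq g hcov p hp) x fun j =>
    by
    refine Eq.trans ?_ (h0 j)
    clear h0
    induction x using TensorProduct.induction_on with
    | zero => exact (map_zero _).trans (map_zero _).symm
    | tmul a n => rfl
    | add y z hy hz => exact (map_add _ _ _).trans ((congrArg₂ (· + ·) hy hz).trans (map_add _ _ _).symm)

/-- sections of the attached presheaf glue along finite affine coverings -/
theorem exists_glued {W : Over c} [IsAff W.left] {ι : Type} [Finite ι] {Z : ι → EtOver X} [∀ j, IsAff (Z j)]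
    (g : ∀ j, Z j ⟶ W.left) (hcov : ∀ x, ∃ j, x ∈ Set.range (g j).hom.left.left)
    (y : ∀ j, ΓE (below (g j)).left ⊗[ΓE c] N)
    (hy : ∀ j k (U : Over c) (pl : U ⟶ below (g j)) (pr : U ⟶ below (g k)),
      pl ≫ belowι (g j) = pr ≫ belowι (g k) → IsAff U.left → preMap N pl (y j) = preMap N pr (y k)) :
    ∃ x, ∀ j, preMap N (belowι (g j)) x = y j := by
  letI : ∀ j, Algebra (ΓE W.left) (ΓE (Z j)) := fun j => (ΓMap (g j)).hom.toAlgebra
  letI : ∀ j, Algebra (ΓE c) (ΓE (Z j)) := fun j => algOver (below (g j))
  haveI : ∀ j, IsScalarTower (ΓE c) (ΓE W.left) (ΓE (Z j)) := fun j =>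
    IsScalarTower.of_algebraMap_eq fun a => ΓMap_comp (g j) W.hom a
  haveI : ∀ j, Module.Flat (ΓE W.left) (ΓE (Z j)) := fun j => flat_ΓMap (g j)
  let P := fun j k => EtOver.pullbackObj (g j) (g k)
  let U : ι → ι → Over c := fun j k => below (EtOver.pullbackFst (g j) (g k) ≫ g j)
  letI : ∀ j k, Algebra (ΓE W.left) (ΓE (P j k)) := fun j k =>
    (ΓMap (EtOver.pullbackFst (g j) (g k) ≫ g j)).hom.toAlgebra
  letI : ∀ j k, Algebra (ΓE c) (ΓE (P j k)) := fun j k => algOver (U j k)
  haveI : ∀ j k, IsScalarTower (ΓE c) (ΓE W.left) (ΓE (P j k)) := fun j k =>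
    IsScalarTower.of_algebraMap_eq fun a => ΓMap_comp _ W.hom a
  let l : ∀ j k, ΓE (Z j) →ₐ[ΓE W.left] ΓE (P j k) := fun j k =>
    { (ΓMap (EtOver.pullbackFst (g j) (g k))).hom with
      commutes' := fun a => (ΓMap_comp _ (g j) a).symm }
  let r : ∀ j k, ΓE (Z k) →ₐ[ΓE W.left] ΓE (P j k) := fun j k =>
    { (ΓMap (EtOver.pullbackSnd (g j) (g k))).hom with
      commutes' := fun a => (ΓMap_comp _ (g k) a).symm.trans
        (congrArg (fun t => (ΓMap t).hom a) (EtOver.pullback_condition (g j) (g k)).symm) }
  obtain ⟨x, hx⟩ := glue (fun j => ΓE (Z j)) (A := ΓE W.left) (fun p hp => exists_comap_eq g hcov p hp)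
    (fun j k => ΓE (P j k)) l r (fun j k => bijective_productMap (g j) (g k) (l j k) (r j k) rfl rfl) y
    fun j k => hy j k (U j k) (Over.homMk (EtOver.pullbackFst (g j) (g k)) (Category.assoc _ _ _).symm)
      (Over.homMk (EtOver.pullbackSnd (g j) (g k))
        ((Category.assoc _ _ _).symm.trans (congrArg (fun t => t ≫ W.hom) (EtOver.pullback_condition (g j) (g k)).symm)))
      (Over.OverMorphism.ext (EtOver.pullback_condition (g j) (g k))) (isAff_pullbackObj (g j) (g k))
  refine ⟨x, fun j => ?_⟩
  refine Eq.trans ?_ (hx j)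
  clear hx
  induction x using TensorProduct.induction_on with
  | zero => exact (map_zero _).trans (map_zero _).symm
  | tmul a n => rfl
  | add y z hy hz => exact (map_add _ _ _).trans ((congrArg₂ (· + ·) hy hz).trans (map_add _ _ _).symm)

/-- sections of a sheaf agreeing below a covering are equal -/
theorem eq_of_below (F : SheafOfModules.{u + 1} ((OEtRing X).over c)) {W : Over c} {ι : Type} {Z : ι → EtOver X}
    (g : ∀ j, Z j ⟶ W.left) (hcov : ∀ x, ∃ j, x ∈ Set.range (g j).hom.left.left) (s t : F.val.obj (op W))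
    (h : ∀ j, F.val.map (belowι (g j)).op s = F.val.map (belowι (g j)).op t) : s = t := by
  have hS : (Sieve.overEquiv W).symm (Sieve.ofArrows Z g) ∈ (etTop X).over c W := by
    refine (GrothendieckTopology.mem_over_iff _ _).2 ?_
    exact (congrArg (fun T => T ∈ etTop X W.left) ((Sieve.overEquiv W).apply_symm_apply _)).mpr
      (ofArrows_mem_etTop Z g hcov)
  have hsep : ∀ (V : Over c) (f : V ⟶ W), ((Sieve.overEquiv W).symm (Sieve.ofArrows Z g)) f →
      F.val.presheaf.map f.op s = F.val.presheaf.map f.op t := fun V f hf => ?_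
  · exact F.isSheaf.isSeparated W _ hS s t hsep
  obtain ⟨_, k, _, ⟨j⟩, e⟩ := (Sieve.overEquiv_symm_iff _ _).1 hf
  have ef : f = (Over.homMk k (by
      change k ≫ g j ≫ W.hom = V.hom
      rw [← Category.assoc, e, Over.w f]) : V ⟶ below (g j)) ≫ belowι (g j) := Over.OverMorphism.ext e.symm
  rw [show f.op = _ from congrArg Quiver.Hom.op ef, op_comp, Functor.map_comp, ConcreteCategory.comp_apply, ConcreteCategory.comp_apply]
  exact congrArg _ (h j)

/-- compatibility of lifts -/
theorem lifts_agree [Presheaf.IsLocallyInjective ((etTop X).over c) ((PresheafOfModules.toPresheaf _).map φ)]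
    {W V₁ V₂ U : Over c} (i₁ : V₁ ⟶ W) (i₂ : V₂ ⟶ W) (m : F.val.obj (op W))
    {y₁ : ΓE V₁.left ⊗[ΓE c] N} {y₂ : ΓE V₂.left ⊗[ΓE c] N}
    (h₁ : φ.app (op V₁) y₁ = F.val.map i₁.op m) (h₂ : φ.app (op V₂) y₂ = F.val.map i₂.op m)
    (pl : U ⟶ V₁) (pr : U ⟶ V₂) (e : pl ≫ i₁ = pr ≫ i₂) [IsAff U.left] :
    preMap N pl y₁ = preMap N pr y₂ := by
  refine sub_eq_zero.1 (exists_separating φ U _ ((map_sub _ _ _).trans (sub_eq_zero.2 ?_)))
  refine (naturality' φ pl y₁).trans (Eq.trans ?_ (naturality' φ pr y₂).symm)
  rw [h₁, h₂, ← PresheafOfModules.map_comp_apply, ← PresheafOfModules.map_comp_apply, ← op_comp, ← op_comp, e]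

/-- sheafifying the attached presheaf does not change values on affine objects -/
theorem bijective_app
    [Presheaf.IsLocallyInjective ((etTop X).over c) ((PresheafOfModules.toPresheaf _).map φ)]
    [Presheaf.IsLocallySurjective ((etTop X).over c) ((PresheafOfModules.toPresheaf _).map φ)]
    (W : Over c) [IsAff W.left] : Function.Bijective (φ.app (op W)) := by
  refine ⟨(injective_iff_map_eq_zero _).2 (exists_separating φ W), fun m => ?_⟩
  obtain ⟨ι, hfin, Z, g, hZ, hg, hcov⟩ := exists_finite_affine_refinement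
    ((GrothendieckTopology.mem_over_iff _ _).1 (Presheaf.imageSieve_mem ((etTop X).over c)
      ((PresheafOfModules.toPresheaf _).map φ) (U := op W) m))
  have hlift : ∀ j, ∃ y : ΓE (below (g j)).left ⊗[ΓE c] N, φ.app (op (below (g j))) y = F.val.map (belowι (g j)).op m :=
    fun j => (Sieve.overEquiv_iff _ _).1 (hg j)
  choose y hy using hlift
  have := hZ
  obtain ⟨x, hx⟩ := exists_glued g hcov y fun j k U pl pr e hU =>
    lifts_agree φ (belowι (g j)) (belowι (g k)) m (hy j) (hy k) pl pr e
  exact ⟨x, eq_of_below F g hcov _ _ fun j =>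
    (naturality' φ (belowι (g j)) x).symm.trans ((congrArg _ (hx j)).trans (hy j))⟩

end Groth.Agent.AlgSpLib.QCohEt
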