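import Groth.Agent.AlgSpLib.EtModSmall
import Groth.Agent.DQCoh.Sections
import Groth.Prelude.Def_AlgSpD

/-!
Objects of `D(O_X)` on the small etale site with quasi-coherent cohomology: derived limit of truncations, and sections
over affine objects of the cohomology sheaves.
-/

set_option autoImplicit false
set_option backward.isDefEq.respectTransparency false
set_option backward.isDefEq.respectTransparency.types false
set_option backward.defeqAttrib.useBackward true
set_option linter.style.haveILetI false

universe u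

open CategoryTheory CategoryTheory.Limits CategoryTheory.Pretriangulated DerivedCategory Opposite AlgebraicGeometry
open Groth.Agent.SiteDer16 Groth.Agent.DCat Groth.Agent.DQCoh AlgSp

noncomputable section

attribute [local instance] HasDerivedCategory.standard

namespace Groth.Agent.AlgSpLib.EtSmall

open Groth.Agent.AlgSpLib.QCohEt

variable {S : Scheme.{u}} {X : Sp S}

/-- An object with quasi-coherent cohomology is the derived limit of its truncations. -/
theorem isRlim (K : DModEt X) (hK : DCoh.IsQCohDMod (OEtRing X) K) [HasProduct (CohCx.truncTower K)] :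
    CohCx.IsRlimVia (CohCx.truncTower K) (CohCx.truncTowerMap K) K (CohCx.toTruncTower K) := by
  haveI : HasExt.{u + 2} (ModEt X) := hasExt_of_hasDerivedCategory _
  refine isRlimVia_truncTower (etSections X) K DCat.enoughKInj_of_isGrothendieckAbelian (affSet X)
    (fun hz => (etSections X).isZero_of_cover _ (exists_affine_cover' X) hz) fun V _ => ?_
  refine ⟨PUnit, fun _ _ => 0, fun T hT => ?_⟩
  obtain ⟨ι, Y, f, h1, h2, h3⟩ := exists_refinement _ (exists_affine_cover' X) (T ⟨⟩) (hT _)
  exact ⟨ι, Y, f, h2, fun i => ⟨⟨⟩, h1 i, fun m k hk => haveI := hK (m - k); subsingleton_ext _ _ (h3 i) k (by simp only at hk; omega)⟩⟩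

/-- Maps out of `j_! O_U`, `U` affine, see only the cohomology sheaf. -/
theorem bijective_θ (K : DModEt X) (hK : DCoh.IsQCohDMod (OEtRing X) K) {U : Idx X} (hU : U ∈ affSet X) :
    Function.Bijective (fun y : (etSections X).pt.obj U ⟶ K => (etSections X).θ y) := by
  haveI : HasExt.{u + 2} (ModEt X) := hasExt_of_hasDerivedCategory _
  haveI := DCat.hasProductsOfShape_derived (A := (ModEt X)) DCat.enoughKInj_of_isGrothendieckAbelian ℕ
  have hv : ∀ (k : ℤ) (n : ℕ) {Z : DModEt X}, k ≤ 0 → -1 ≤ k → Z.IsGE (-(n : ℤ) - 2) →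
      (∀ q, q ≠ -(n : ℤ) - 2 → IsZero ((homologyFunctor (ModEt X) q).obj Z)) →
      Nonempty ((homologyFunctor (ModEt X) (-(n : ℤ) - 2)).obj Z ≅ (homologyFunctor (ModEt X) (-(n : ℤ) - 1)).obj K) →
      ∀ g : ((etSections X).pt.obj U)⟦-k⟧ ⟶ Z, g = 0 := fun k n Z hk hk' hge hz ⟨e⟩ => by
    refine (etSections X).eq_zero_of_boundedBelow U k Z (-(n : ℤ) - 2) fun q d hd => ?_
    by_cases hq : q = -(n : ℤ) - 2
    · subst hq
      haveI := hK (-(n : ℤ) - 1)
      haveI := subsingleton_ext ((homologyFunctor (ModEt X) (-(n : ℤ) - 1)).obj K) U hU d (by omega)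
      exact subsingleton_ext_of_iso' _ e d
    · exact subsingleton_ext_of_isZero _ (hz q hq) d
  let e0 : ((etSections X).pt.obj U)⟦-(0 : ℤ)⟧ ≅ (etSections X).pt.obj U :=
    (shiftFunctorZero' (DModEt X) (-(0 : ℤ)) (by omega)).app _
  let e1 : ((etSections X).pt.obj U)⟦-(-1 : ℤ)⟧ ≅ ((etSections X).pt.obj U)⟦(1 : ℤ)⟧ := eqToIso (by norm_num)
  have hπ : Function.Bijective (fun y : (etSections X).pt.obj U ⟶ K => y ≫ CohCx.toTruncTower K 0) := by
    refine bijective_comp_of_isRlimVia _ (CohCx.truncTowerMap K) _ 0 (isRlim K hK) (fun n _ => ?_) (fun n _ => ?_) <;>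
      obtain ⟨Z, g, d, hT, hge, hz, he⟩ := exists_cone_truncTowerMap K n
    · refine ⟨injective_comp_of_triangle hT _ fun u => ?_, surjective_comp_of_triangle hT _ fun u => ?_⟩
      · rw [← cancel_epi e1.hom, comp_zero]
        exact hv (-1) n (by omega) le_rfl hge hz he _
      · rw [← cancel_epi e0.hom, comp_zero]
        exact hv 0 n le_rfl (by omega) hge hz he _
    · refine surjective_comp_of_triangle hT _ fun u => ?_
      rw [← cancel_epi e1.hom, comp_zero]
      exact hv (-1) n (by omega) le_rfl hge hz he _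
  haveI hiso := isIso_homology_truncGEπ K (-((0 : ℕ) : ℤ)) 0 (by omega)
  haveI : (CohCx.truncTower K 0).IsGE 0 := (inferInstance :
    ((DerivedCategory.TStructure.t (C := (ModEt X))).truncGE (-((0 : ℕ) : ℤ)) |>.obj K).IsGE (-((0 : ℕ) : ℤ)))
  have h := (bijective_θ_of_isGE (etSections X) U (CohCx.truncTower K 0)).comp hπ
  have e : (fun y : (etSections X).pt.obj U ⟶ K => (etSections X).θ (y ≫ CohCx.toTruncTower K 0)) =
      (fun x => x ≫ (homologyFunctor (ModEt X) 0).map (CohCx.toTruncTower K 0)) ∘ fun y => (etSections X).θ y :=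
    funext fun y => (etSections X).θ_comp y _
  have hc : Function.Bijective (fun x : (etSections X).P.obj U ⟶ (homologyFunctor (ModEt X) 0).obj K =>
      x ≫ (homologyFunctor (ModEt X) 0).map (CohCx.toTruncTower K 0)) :=
    (asIso ((homologyFunctor (ModEt X) 0).map (CohCx.toTruncTower K 0))).homToEquiv.bijective
  exact (Function.Bijective.of_comp_iff' hc _).1 (e ▸ h)

end Groth.Agent.AlgSpLib.EtSmall
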