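import Groth.Agent.AlgSpLib.QCohEtBase
import Groth.Agent.AlgSpLib.QCohEtAlg2
import Groth.Prelude.Def_AlgSpModX

/-!
Sections of a quasi-coherent module on affine objects of the small etale site commute with base change.
-/

universe u

open CategoryTheory CategoryTheory.Limits AlgebraicGeometry Opposite TensorProduct
open AlgSp

noncomputable section

set_option linter.style.haveILetI false

namespace Groth.Agent.AlgSpLib.QCohEt

set_option backward.isDefEq.respectTransparency.types false
set_option backward.isDefEq.respectTransparency false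

variable {S : Scheme.{u}} {X : Sp S} (M : ModEt X)

/-- sections over an object as a module over its ring -/
abbrev Sec (E : EtOver X) : ModuleCat.{u + 1} (ΓE E) := (Γtop E).obj (M.over E)

/-- the action of functions -/
def smulSec (E : EtOver X) : ΓE E →+ Sec M E →+ Sec M E where
  toFun a := DistribSMul.toAddMonoidHom (Sec M E) a
  map_zero' := AddMonoidHom.ext fun m => zero_smul (ΓE E) m
  map_add' a b := AddMonoidHom.ext fun m => add_smul a b m

theorem smulSec_apply (E : EtOver X) (a : ΓE E) (m : Sec M E) : smulSec M E a m = a • m := rfl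

/-- restriction of sections -/
def mapSec {E E' : EtOver X} (g : E' ⟶ E) : Sec M E →+ Sec M E' where
  toFun m := M.val.map g.op m
  map_zero' := map_zero (M.val.map g.op).hom
  map_add' x y := map_add (M.val.map g.op).hom x y

theorem mapSec_smul {E E' : EtOver X} (g : E' ⟶ E) (a : ΓE E) (m : Sec M E) :
    mapSec M g (a • m) = (ΓMap g).hom a • mapSec M g m :=
  PresheafOfModules.map_smul M.val g.op a m

theorem mapSec_comp {E E' E'' : EtOver X} (a : E'' ⟶ E') (b : E' ⟶ E) (m : Sec M E) :
    mapSec M (a ≫ b) m = mapSec M a (mapSec M b m) :=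
  PresheafOfModules.map_comp_apply M.val b.op a.op m

/-- the canonical base change map -/
def bcMap (E : EtOver X) (W : Over E) : ΓE W.left ⊗[ΓE E] Sec M E →+ Sec M W.left :=
  preDescAdd (G := (M.over E).val) (N := Sec M E) (AddMonoidHom.id _) (fun _ _ => rfl) W

theorem bcMap_tmul (E : EtOver X) (W : Over E) (a : ΓE W.left) (m : Sec M E) :
    bcMap M E W (a ⊗ₜ m) = a • mapSec M W.hom m := rfl

/-- base change holds below an object -/
def IsBC (E : EtOver X) : Prop := ∀ W : Over E, IsAff W.left → Function.Bijective (bcMap M E W)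

theorem isBC_of_presentation {c E : EtOver X} [IsAff E] (h : E ⟶ c) (P : (M.over c).Presentation) :
    IsBC M E := fun W hW => by
  haveI := hW
  haveI : PreservesColimitsOfSize.{u + 1, u + 1} (SheafOfModules.overMap.{u + 1} (OEtRing X) h) := inferInstance
  exact bijective_preDesc_of_presentation E
    ((P.map (SheafOfModules.overMap (OEtRing X) h) (SheafOfModules.overMapUnitIso h).symm).ofIsIso
      ((SheafOfModules.overFunctorMap (OEtRing X) h).app M).hom) W

theorem mapSec_ext {E : EtOver X} {ι : Type*} {Z : ι → EtOver X} (g : ∀ j, Z j ⟶ E)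
    (hcov : ∀ x, ∃ j, x ∈ Set.range (g j).hom.left.left) (s t : Sec M E)
    (h : ∀ j, mapSec M (g j) s = mapSec M (g j) t) : s = t := by
  refine M.isSheaf.isSeparated E _ (ofArrows_mem_etTop Z g hcov) s t fun V f hf => ?_
  obtain ⟨_, k, _, ⟨j⟩, rfl⟩ := hf
  rw [op_comp, Functor.map_comp, ConcreteCategory.comp_apply, ConcreteCategory.comp_apply]
  exact congrArg _ (h j)

theorem exists_mapSec_eq {E : EtOver X} {ι : Type} {Z : ι → EtOver X} (g : ∀ j, Z j ⟶ E)
    (hcov : ∀ x, ∃ j, x ∈ Set.range (g j).hom.left.left) (y : ∀ j, Sec M (Z j))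
    (hy : ∀ j k, mapSec M (EtOver.pullbackFst (g j) (g k)) (y j) = mapSec M (EtOver.pullbackSnd (g j) (g k)) (y k)) :
    ∃ x, ∀ j, mapSec M (g j) x = y j := by
  have h1 := (isSheaf_iff_isSheaf_of_type _ _).1
    ((Presheaf.isSheaf_iff_isSheaf_forget (etTop X) M.val.presheaf (forget AddCommGrpCat.{u + 1})).1 M.isSheaf)
  have h2 := (Presieve.isSheafFor_iff_generate _).2 (h1 _ (ofArrows_mem_etTop Z g hcov))
  obtain ⟨x, hx, -⟩ := (Presieve.isSheafFor_arrows_iff _ _).1 h2 y fun i j V gi gj e => by
    have hl := (EtOver.isPullback (g i) (g j)).lift_fst gi gj e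
    have hr := (EtOver.isPullback (g i) (g j)).lift_snd gi gj e
    change mapSec M gi (y i) = mapSec M gj (y j)
    refine (congrArg (fun t => mapSec M t (y i)) hl.symm).trans (Eq.trans ?_ (congrArg (fun t => mapSec M t (y j)) hr))
    rw [mapSec_comp, mapSec_comp, hy i j]
  exact ⟨x, hx⟩

theorem exists_range_pullbackFst {E W : EtOver X} (f : W ⟶ E) {ι : Type} {Z : ι → EtOver X} (g : ∀ j, Z j ⟶ E)
    (hcov : ∀ x, ∃ j, x ∈ Set.range (g j).hom.left.left) (w : W.obj.left.left) :
    ∃ j, w ∈ Set.range (EtOver.pullbackFst f (g j)).hom.left.left := by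
  obtain ⟨j, z, hz⟩ := hcov (f.hom.left.left w)
  obtain ⟨p, hp, -⟩ := Scheme.exists_preimage_of_isPullback
    ((IsPullback.of_hasPullback f.hom.left (g j).hom.left).map (Over.forget S)) w z hz.symm
  exact ⟨j, p, hp⟩

variable {E : EtOver X} (W : Over E) {Z : EtOver X} (h : Z ⟶ E)

/-- scalars through a morphism -/
abbrev secModule : Module (ΓE E) (Sec M Z) := Module.compHom _ (ΓMap h).hom

/-- restriction of sections as a linear map -/
def mapSecLin {Z' : EtOver X} (v : Z' ⟶ Z) (h' : Z' ⟶ E) (e : v ≫ h = h') :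
    letI := secModule M h
    letI := secModule M h'
    Sec M Z →ₗ[ΓE E] Sec M Z' :=
  letI := secModule M h
  letI := secModule M h'
  { toFun := mapSec M v
    map_add' := map_add _
    map_smul' := fun a m => by
      change mapSec M v ((ΓMap h).hom a • m) = (ΓMap h').hom a • mapSec M v m
      rw [mapSec_smul, ← ΓMap_comp, e] }

/-- restriction from the base as a linear map -/
def resLin : letI := secModule M h; Sec M E →ₗ[ΓE E] Sec M Z :=
  letI := secModule M h
  { toFun := mapSec M h
    map_add' := map_add _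
    map_smul' := fun a m => mapSec_smul M h a m }

/-- the base change map to a fibre product -/
def betaMap : letI := secModule M h; ΓE W.left ⊗[ΓE E] Sec M Z →+ Sec M (EtOver.pullbackObj W.hom h) :=
  letI := secModule M h
  TensorProduct.liftAddHom
    { toFun := fun t => (smulSec M _ ((ΓMap (EtOver.pullbackFst W.hom h)).hom t)).comp
        (mapSec M (EtOver.pullbackSnd W.hom h))
      map_zero' := by rw [map_zero, map_zero, AddMonoidHom.zero_comp]
      map_add' := fun x y => by rw [map_add, map_add, AddMonoidHom.add_comp] }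
    fun a t m => by
      change (ΓMap (EtOver.pullbackFst W.hom h)).hom (a • t) • mapSec M (EtOver.pullbackSnd W.hom h) m =
        (ΓMap (EtOver.pullbackFst W.hom h)).hom t • mapSec M (EtOver.pullbackSnd W.hom h) ((ΓMap h).hom a • m)
      rw [mapSec_smul, Algebra.smul_def, map_mul, smul_smul, mul_comm]
      congr 2
      change (ΓMap (EtOver.pullbackFst W.hom h)).hom ((ΓMap W.hom).hom a) = _
      rw [← ΓMap_comp, ← ΓMap_comp, EtOver.pullback_condition]

theorem betaMap_tmul (t : ΓE W.left) (m : Sec M Z) :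
    letI := secModule M h
    betaMap M W h (t ⊗ₜ m) =
      (ΓMap (EtOver.pullbackFst W.hom h)).hom t • mapSec M (EtOver.pullbackSnd W.hom h) m := rfl

theorem bijective_betaMap [IsAff E] [IsAff W.left] [IsAff Z] (hZ : IsBC M Z) :
    Function.Bijective (betaMap M W h) := by
  letI := secModule M h
  let U : Over Z := Over.mk (EtOver.pullbackSnd W.hom h)
  letI := (ΓMap h).hom.toAlgebra
  letI : Algebra (ΓE W.left) (ΓE U.left) := (ΓMap (EtOver.pullbackFst W.hom h)).hom.toAlgebra
  letI : Algebra (ΓE E) (ΓE U.left) := (ΓMap (EtOver.pullbackFst W.hom h ≫ W.hom)).hom.toAlgebra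
  haveI : IsScalarTower (ΓE E) (ΓE Z) (ΓE U.left) := IsScalarTower.of_algebraMap_eq fun a => by
    change (ΓMap (EtOver.pullbackFst W.hom h ≫ W.hom)).hom a = (ΓMap (EtOver.pullbackSnd W.hom h)).hom ((ΓMap h).hom a)
    rw [← ΓMap_comp, EtOver.pullback_condition]
  haveI : IsScalarTower (ΓE E) (ΓE Z) (Sec M Z) := IsScalarTower.of_algebraMap_smul fun a m => rfl
  let l : ΓE W.left →ₐ[ΓE E] ΓE U.left :=
    { (ΓMap (EtOver.pullbackFst W.hom h)).hom with
      commutes' := fun a => (ΓMap_comp _ W.hom a).symm }
  have hb : Function.Bijective (Algebra.TensorProduct.productMap l (IsScalarTower.toAlgHom (ΓE E) (ΓE Z) (ΓE U.left))) :=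
    bijective_productMap W.hom h l (IsScalarTower.toAlgHom (ΓE E) (ΓE Z) (ΓE U.left)) rfl rfl
  let f : ΓE W.left ⊗[ΓE E] Sec M Z →+ ΓE U.left ⊗[ΓE Z] Sec M Z := TensorProduct.liftAddHom
    { toFun := fun t =>
        { toFun := fun m => l t ⊗ₜ[ΓE Z] m
          map_zero' := TensorProduct.tmul_zero _ _
          map_add' := fun x y => TensorProduct.tmul_add _ x y }
      map_zero' := AddMonoidHom.ext fun m => by
        change l 0 ⊗ₜ[ΓE Z] m = 0
        rw [map_zero, TensorProduct.zero_tmul]
      map_add' := fun x y => AddMonoidHom.ext fun m => by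
        change l (x + y) ⊗ₜ[ΓE Z] m = l x ⊗ₜ[ΓE Z] m + l y ⊗ₜ[ΓE Z] m
        rw [map_add, TensorProduct.add_tmul] }
    fun a t m => by
      change l (a • t) ⊗ₜ[ΓE Z] m = l t ⊗ₜ[ΓE Z] ((ΓMap h).hom a • m)
      rw [map_smul, ← IsScalarTower.algebraMap_smul (ΓE Z) a (l t)]
      exact ((TensorProduct.mk (ΓE Z) (ΓE U.left) (Sec M Z)).map_smul₂ _ (l t) m).trans
        ((TensorProduct.mk (ΓE Z) (ΓE U.left) (Sec M Z) (l t)).map_smul _ m).symm
  have hf := bijective_twoStep l hb f fun t m => rfl
  have e : betaMap M W h = (bcMap M Z U).comp f := by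
    ext x
    induction x using TensorProduct.induction_on with
    | zero => exact (map_zero _).trans (map_zero _).symm
    | tmul t m => rfl
    | add y z hy hz => exact (map_add _ _ _).trans ((congrArg₂ (· + ·) hy hz).trans (map_add _ _ _).symm)
  rw [e]
  exact (hZ U (isAff_pullbackObj W.hom h)).comp hf

theorem betaMap_resLin (x : ΓE W.left ⊗[ΓE E] Sec M E) :
    letI := secModule M h
    betaMap M W h (LinearMap.lTensor (ΓE W.left) (resLin M h) x) =
      mapSec M (EtOver.pullbackFst W.hom h) (bcMap M E W x) := by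
  induction x using TensorProduct.induction_on with
  | zero => simp only [map_zero]
  | tmul t m =>
    rw [LinearMap.lTensor_tmul, betaMap_tmul, bcMap_tmul, mapSec_smul]
    congr 1
    change mapSec M (EtOver.pullbackSnd W.hom h) (mapSec M h m) = _
    rw [← mapSec_comp, ← mapSec_comp, EtOver.pullback_condition]
  | add y z hy hz => simp only [map_add, hy, hz]

/-- the map between fibre products -/
def pbMap {Z' : EtOver X} (v : Z' ⟶ Z) (h' : Z' ⟶ E) (e : v ≫ h = h') :
    EtOver.pullbackObj W.hom h' ⟶ EtOver.pullbackObj W.hom h :=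
  (EtOver.isPullback W.hom h).lift (EtOver.pullbackFst W.hom h') (EtOver.pullbackSnd W.hom h' ≫ v)
    (by rw [Category.assoc, e, EtOver.pullback_condition])

theorem betaMap_mapSecLin {Z' : EtOver X} (v : Z' ⟶ Z) (h' : Z' ⟶ E) (e : v ≫ h = h')
    (y : letI := secModule M h; ΓE W.left ⊗[ΓE E] Sec M Z) :
    letI := secModule M h
    letI := secModule M h'
    betaMap M W h' (LinearMap.lTensor (ΓE W.left) (mapSecLin M h v h' e) y) =
      mapSec M (pbMap W h v h' e) (betaMap M W h y) := by
  letI := secModule M h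
  letI := secModule M h'
  induction y using TensorProduct.induction_on with
  | zero => simp only [map_zero]
  | tmul t m =>
    rw [LinearMap.lTensor_tmul, betaMap_tmul, betaMap_tmul, mapSec_smul]
    change _ • mapSec M (EtOver.pullbackSnd W.hom h') (mapSec M v m) = _
    rw [← ΓMap_comp, ← mapSec_comp, ← mapSec_comp, pbMap, IsPullback.lift_fst, IsPullback.lift_snd]
  | add y z hy hz => simp only [map_add, hy, hz]

omit W h in
/-- quasi-coherent modules satisfy base change on affine objects -/
theorem isBC [M.IsQuasicoherent] (E : EtOver X) [IsAff E] : IsBC M E := by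
  intro W hW
  haveI := hW
  obtain ⟨q⟩ := SheafOfModules.IsQuasicoherent.nonempty_quasicoherentData (M := M)
  obtain ⟨ι, hfin, Z, g, hZ, hg, hcov⟩ := exists_finite_affine_refinement (q.coversTop E)
  have hz : ∀ j, IsBC M (Z j) := fun j => by
    haveI := hZ j
    obtain ⟨i, ⟨t⟩⟩ := (Sieve.mem_ofObjects_iff ..).1 (hg j)
    exact isBC_of_presentation M t (q.presentation i)
  haveI := hZ
  haveI : Module.Flat (ΓE E) (ΓE W.left) := flat_ΓMap W.hom
  let h₂ := fun j k => EtOver.pullbackFst (g j) (g k) ≫ g j
  have hz₂ : ∀ j k, IsBC M (EtOver.pullbackObj (g j) (g k)) := fun j k => by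
    haveI := isAff_pullbackObj (g j) (g k)
    obtain ⟨i, ⟨t⟩⟩ := (Sieve.mem_ofObjects_iff ..).1 (hg j)
    exact isBC_of_presentation M (EtOver.pullbackFst (g j) (g k) ≫ t) (q.presentation i)
  letI := fun j => secModule M (g j)
  letI := fun j k => secModule M (h₂ j k)
  have hcovW := exists_range_pullbackFst W.hom g hcov
  refine ⟨(injective_iff_map_eq_zero _).2 fun x hx => ?_, fun m => ?_⟩
  · refine flat_separated (fun j => resLin M (g j))
      (fun s hs => mapSec_ext M g hcov s 0 fun j => (hs j).trans (map_zero _).symm) x fun j => ?_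
    refine (bijective_betaMap M W (g j) (hz j)).injective ?_
    rw [betaMap_resLin, hx, map_zero, map_zero]
  · choose y hy using fun j => (bijective_betaMap M W (g j) (hz j)).surjective
      (mapSec M (EtOver.pullbackFst W.hom (g j)) m)
    have hcond : ∀ j k, EtOver.pullbackSnd (g j) (g k) ≫ g k = h₂ j k := fun j k =>
      (EtOver.pullback_condition _ _).symm
    obtain ⟨x, hx⟩ := flat_glue (fun j => resLin M (g j))
      (fun j k => mapSecLin M (g j) (EtOver.pullbackFst (g j) (g k)) (h₂ j k) rfl)
      (fun j k => mapSecLin M (g k) (EtOver.pullbackSnd (g j) (g k)) (h₂ j k) (hcond j k))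
      (fun s hs => exists_mapSec_eq M g hcov s hs)
      (fun j k s => by
        change mapSec M _ (mapSec M (g j) s) = mapSec M _ (mapSec M (g k) s)
        rw [← mapSec_comp, ← mapSec_comp, EtOver.pullback_condition])
      y fun j k => by
        haveI := isAff_pullbackObj (g j) (g k)
        refine (bijective_betaMap M W (h₂ j k) (hz₂ j k)).injective ?_
        rw [betaMap_mapSecLin, betaMap_mapSecLin, hy, hy, ← mapSec_comp, ← mapSec_comp, pbMap, pbMap,
          IsPullback.lift_fst, IsPullback.lift_fst]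
    refine ⟨x, mapSec_ext M _ hcovW _ _ fun j => ?_⟩
    rw [← betaMap_resLin, hx j, hy j]

end Groth.Agent.AlgSpLib.QCohEt
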