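import Groth.Agent.AlgSpLib.QCohEtExt
import Groth.Agent.Stk19b.StalkPoint

/-!
Stalks of quasi-coherent modules at geometric points and their behaviour nearby.
-/

universe u

open CategoryTheory CategoryTheory.Limits AlgebraicGeometry Opposite TensorProduct
open AlgSp

noncomputable section

set_option linter.style.haveILetI false

namespace Groth.Agent.AlgSpLib.QCohEt

set_option backward.isDefEq.respectTransparency.types false
set_option backward.isDefEq.respectTransparency false

open Groth.Agent.Stk19b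

variable {S : Scheme.{u}} {X : Sp S} (hX : IsAlgSpace X) {p : FieldPt X} (hp : p.IsGeometric)

/-- the germ of a section -/
def germ (M : ModEt X) {E : EtOver X} (x : (FieldPt.liftsTo p).obj E) :
    Sec M E →+ ((stalkEtFunctor AddCommGrpCat.{u + 1} p).obj ((toAbEt X).obj M) : AddCommGrpCat.{u + 1}) :=
  ((EtNbhd.point hX p hp).toPresheafFiber E x ((toAbEt X).obj M).obj).hom

theorem germ_mapSec (M : ModEt X) {E Z : EtOver X} (g : Z ⟶ E) (z : (FieldPt.liftsTo p).obj Z) (s : Sec M E) :
    germ hX hp M z (mapSec M g s) = germ hX hp M ((FieldPt.liftsTo p).map g z) s :=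
  (EtNbhd.point hX p hp).toPresheafFiber_w_apply g z ((toAbEt X).obj M).obj s

theorem germ_secMap {G F : ModEt X} (φ : G ⟶ F) {E : EtOver X} (x : (FieldPt.liftsTo p).obj E) (s : Sec G E) :
    (stalkEtFunctor AddCommGrpCat.{u + 1} p).map ((toAbEt X).map φ) (germ hX hp G x s) =
      germ hX hp F x (secMap φ E s) :=
  (EtNbhd.point hX p hp).toPresheafFiber_naturality_apply ((toAbEt X).map φ).hom E x s

omit hX in
/-- affine neighbourhoods refining a neighbourhood -/
theorem exists_affine_refine {p : FieldPt X} (hp : p.IsGeometric) {E : EtOver X} (x : (FieldPt.liftsTo p).obj E) :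
    ∃ (Z : EtOver X) (g : Z ⟶ E) (z : (FieldPt.liftsTo p).obj Z), IsAff Z ∧ (FieldPt.liftsTo p).map g z = x := by
  obtain ⟨ι, Z, g, hZ, hc⟩ := exists_affine_cover E
  obtain ⟨i, z, hz⟩ := EtNbhd.exists_lift_of_cover p hp ⟨E, x⟩ Z g hc
  exact ⟨Z i, g i, z, hZ i, hz⟩

theorem exists_nbhd_eq (M : ModEt X) {E : EtOver X} (x : (FieldPt.liftsTo p).obj E) (s t : Sec M E)
    (h : germ hX hp M x s = germ hX hp M x t) :
    ∃ (Z : EtOver X) (g : Z ⟶ E) (z : (FieldPt.liftsTo p).obj Z),
      IsAff Z ∧ (FieldPt.liftsTo p).map g z = x ∧ mapSec M g s = mapSec M g t := by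
  obtain ⟨Y, f, y, hy, hf⟩ := ((EtNbhd.point hX p hp).toPresheafFiber_eq_iff' (P := ((toAbEt X).obj M).obj) E x s t).1 h
  obtain ⟨Z, g, z, hZ, hz⟩ := exists_affine_refine hp y
  refine ⟨Z, g ≫ f, z, hZ, ?_, ?_⟩
  · rw [Functor.map_comp_apply, hz]; exact hy
  · rw [mapSec_comp, mapSec_comp]
    exact congrArg (mapSec M g) hf

include hX hp in
theorem exists_nbhd_preimage {G F : ModEt X} (φ : G ⟶ F)
    (hsurj : Function.Surjective ((stalkEtFunctor AddCommGrpCat.{u + 1} p).map ((toAbEt X).map φ)))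
    {E : EtOver X} (x : (FieldPt.liftsTo p).obj E) (t : Sec F E) :
    ∃ (Z : EtOver X) (g : Z ⟶ E) (z : (FieldPt.liftsTo p).obj Z),
      IsAff Z ∧ (FieldPt.liftsTo p).map g z = x ∧ ∃ s, secMap φ Z s = mapSec F g t := by
  obtain ⟨w, hw⟩ := hsurj (germ hX hp F x t)
  obtain ⟨Y, y, s, rfl⟩ := (EtNbhd.point hX p hp).toPresheafFiber_jointly_surjective (P := ((toAbEt X).obj G).obj) w
  have hw' : germ hX hp F y (secMap φ Y s) = germ hX hp F x t := (germ_secMap hX hp φ y s).symm.trans hw
  obtain ⟨v, hv1, hv2⟩ := EtNbhd.exists_prod_lift (p := p) ⟨E, x⟩ ⟨Y, y⟩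
  obtain ⟨Z, g, z, hZ, hz, he⟩ := exists_nbhd_eq hX hp F v (mapSec F (EtOver.prodSnd E Y) (secMap φ Y s))
    (mapSec F (EtOver.prodFst E Y) t) (by rw [germ_mapSec, germ_mapSec, hv1, hv2]; exact hw')
  refine ⟨Z, g ≫ EtOver.prodFst E Y, z, hZ, ?_, mapSec G (g ≫ EtOver.prodSnd E Y) s, ?_⟩
  · rw [Functor.map_comp_apply, hz]; exact hv1
  · rw [← mapSec_secMap, mapSec_comp, mapSec_comp, he]

omit hX in
/-- finitely many conditions can be met on one neighbourhood -/
theorem exists_nbhd_forall {p : FieldPt X} (hp : p.IsGeometric) {E : EtOver X} [IsAff E] (x : (FieldPt.liftsTo p).obj E)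
    {α : Type*} (t : Finset α) (P : α → ∀ Z : EtOver X, (Z ⟶ E) → Prop)
    (hres : ∀ a (Z : EtOver X) (g : Z ⟶ E) (W : EtOver X) (h : W ⟶ Z), P a Z g → P a W (h ≫ g))
    (hone : ∀ a ∈ t, ∀ (Z : EtOver X) (g : Z ⟶ E) (z : (FieldPt.liftsTo p).obj Z), IsAff Z →
      (FieldPt.liftsTo p).map g z = x → ∃ (W : EtOver X) (h : W ⟶ Z) (w : (FieldPt.liftsTo p).obj W),
        IsAff W ∧ (FieldPt.liftsTo p).map h w = z ∧ P a W (h ≫ g)) :
    ∃ (Z : EtOver X) (g : Z ⟶ E) (z : (FieldPt.liftsTo p).obj Z),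
      IsAff Z ∧ (FieldPt.liftsTo p).map g z = x ∧ ∀ a ∈ t, P a Z g := by
  classical
  induction t using Finset.induction_on with
  | empty => exact ⟨E, 𝟙 E, x, inferInstance, by simp, by simp⟩
  | insert a t ha ih =>
    obtain ⟨Z, g, z, hZ, hz, hP⟩ := ih fun b hb => hone b (Finset.mem_insert_of_mem hb)
    obtain ⟨W, h, w, hW, hw, hPa⟩ := hone a (Finset.mem_insert_self a t) Z g z hZ hz
    refine ⟨W, h ≫ g, w, hW, by rw [Functor.map_comp_apply, hw]; exact hz, fun b hb => ?_⟩
    obtain rfl | hb := Finset.mem_insert.1 hb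
    · exact hPa
    · exact hres b Z g W h (hP b hb)

/-- injectivity on an affine object passes to affine objects over it -/
theorem injective_of_hom {G F : ModEt X} [G.IsQuasicoherent] [F.IsQuasicoherent] (φ : G ⟶ F) {E W : EtOver X}
    [IsAff E] [IsAff W] (g : W ⟶ E) (h : Function.Injective (secMap φ E)) : Function.Injective (secMap φ W) := by
  haveI : IsAff (Over.mk g).left := (inferInstance : IsAff W)
  haveI : Module.Flat (ΓE E) (ΓE (Over.mk g).left) := flat_ΓMap g
  intro a b hab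
  obtain ⟨a, rfl⟩ := (isBC G E (Over.mk g) inferInstance).surjective a
  obtain ⟨b, rfl⟩ := (isBC G E (Over.mk g) inferInstance).surjective b
  refine congrArg _ (Module.Flat.lTensor_preserves_injective_linearMap (M := ΓE (Over.mk g).left) _ h
    ((isBC F E (Over.mk g) inferInstance).injective ?_))
  rw [← bcMap_natural, ← bcMap_natural]
  exact hab

/-- surjectivity on an affine object passes to affine objects over it -/
theorem surjective_of_hom {G F : ModEt X} [F.IsQuasicoherent] (φ : G ⟶ F) {E W : EtOver X}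
    [IsAff E] [IsAff W] (g : W ⟶ E) (h : Function.Surjective (secMap φ E)) : Function.Surjective (secMap φ W) := by
  haveI : IsAff (Over.mk g).left := (inferInstance : IsAff W)
  exact surjective_lTensor_secMap φ (Over.mk g) (isBC F E (Over.mk g) inferInstance).surjective h

include hX hp in
/-- an affine neighbourhood where a morphism injective on the stalk is injective -/
theorem exists_nbhd_injective (hN : IsLocNoethSp X) {G F : ModEt X} [G.IsQuasicoherent] [F.IsQuasicoherent]
    (φ : G ⟶ F) (hinj : Function.Injective ((stalkEtFunctor AddCommGrpCat.{u + 1} p).map ((toAbEt X).map φ)))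
    {E : EtOver X} [IsAff E] [Module.Finite (ΓE E) (Sec G E)] (x : (FieldPt.liftsTo p).obj E) :
    ∃ (Z : EtOver X) (g : Z ⟶ E) (z : (FieldPt.liftsTo p).obj Z),
      IsAff Z ∧ (FieldPt.liftsTo p).map g z = x ∧ Function.Injective (secMap φ Z) := by
  haveI := isNoetherianRing_ΓE hN E
  obtain ⟨t, ht⟩ := IsNoetherian.noetherian (LinearMap.ker (secMap φ E))
  obtain ⟨Z, g, z, hZ, hz, hP⟩ := exists_nbhd_forall hp x t (fun s Z g => mapSec G g s = 0)
    (fun s Z g W h e => by rw [mapSec_comp, e, map_zero]) fun s hs Z g z hZ hz => by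
      have h0 : secMap φ E s = 0 := by
        have : s ∈ LinearMap.ker (secMap φ E) := ht ▸ Submodule.subset_span hs
        exact this
      obtain ⟨W, h, w, hW, hw, he⟩ := exists_nbhd_eq hX hp G z (mapSec G g s) 0 (hinj (by
        rw [germ_secMap, germ_secMap, map_zero, map_zero, ← mapSec_secMap, h0, map_zero, map_zero]))
      exact ⟨W, h, w, hW, hw, by rw [mapSec_comp, he, map_zero]⟩
  refine ⟨Z, g, z, hZ, hz, ?_⟩
  haveI := hZ
  let V : Over E := Over.mk g
  haveI : IsAff V.left := hZ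
  haveI : Module.Flat (ΓE E) (ΓE V.left) := flat_ΓMap g
  refine (injective_iff_map_eq_zero (secMap φ V.left)).2 fun a ha => ?_
  obtain ⟨y, rfl⟩ := (isBC G E V hZ).surjective a
  rw [bcMap_natural] at ha
  have hy : LinearMap.lTensor (ΓE V.left) (secMap φ E) y = 0 :=
    (isBC F E V hZ).injective (ha.trans (map_zero _).symm)
  obtain ⟨w, rfl⟩ := (Module.Flat.lTensor_exact (ΓE V.left)
    (LinearMap.exact_subtype_ker_map (secMap φ E)) y).1 hy
  clear ha hy
  induction w using TensorProduct.induction_on with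
  | zero => simp only [map_zero]
  | tmul r m =>
    rw [LinearMap.lTensor_tmul]
    refine (bcMap_tmul G E V r _).trans ?_
    have : mapSec G g m.val = 0 := by
      have hm : m.val ∈ Submodule.span (ΓE E) (t : Set (Sec G E)) := ht.ge m.property
      refine Submodule.span_induction (p := fun b _ => mapSec G g b = 0) (fun b hb => hP b hb) (map_zero _)
        (fun a b _ _ ha hb => by rw [map_add, ha, hb, add_zero])
        (fun r a _ ha => by rw [mapSec_smul, ha, smul_zero]) hm
    exact (congrArg (r • ·) this).trans (smul_zero r)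
  | add a b ha hb => simp only [map_add, ha, hb, add_zero]

include hX hp in
/-- an affine neighbourhood where a morphism surjective on the stalk is surjective -/
theorem exists_nbhd_surjective {G F : ModEt X} [F.IsQuasicoherent]
    (φ : G ⟶ F) (hsurj : Function.Surjective ((stalkEtFunctor AddCommGrpCat.{u + 1} p).map ((toAbEt X).map φ)))
    {E : EtOver X} [IsAff E] [hfin : Module.Finite (ΓE E) (Sec F E)] (x : (FieldPt.liftsTo p).obj E) :
    ∃ (Z : EtOver X) (g : Z ⟶ E) (z : (FieldPt.liftsTo p).obj Z),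
      IsAff Z ∧ (FieldPt.liftsTo p).map g z = x ∧ Function.Surjective (secMap φ Z) := by
  obtain ⟨t, ht⟩ := hfin.fg_top
  obtain ⟨Z, g, z, hZ, hz, hP⟩ := exists_nbhd_forall hp x t (fun s Z g => ∃ a, secMap φ Z a = mapSec F g s)
    (fun s Z g W h ⟨a, ha⟩ => ⟨mapSec G h a, by rw [mapSec_comp, ← ha, mapSec_secMap]⟩) fun s hs Z g z hZ hz => by
      obtain ⟨W, h, w, hW, hw, a, ha⟩ := exists_nbhd_preimage hX hp φ hsurj z (mapSec F g s)
      exact ⟨W, h, w, hW, hw, a, ha.trans (mapSec_comp F h g s).symm⟩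
  refine ⟨Z, g, z, hZ, hz, fun b => ?_⟩
  let V : Over E := Over.mk g
  haveI : IsAff V.left := hZ
  obtain ⟨y, rfl⟩ := (isBC F E V hZ).surjective b
  suffices h : bcMap F E V y ∈ LinearMap.range (secMap φ V.left) from h
  induction y using TensorProduct.induction_on with
  | zero => rw [map_zero]; exact zero_mem _
  | tmul r m =>
    refine (bcMap_tmul F E V r m).symm ▸ Submodule.smul_mem _ r ?_
    have hm : m ∈ Submodule.span (ΓE E) (t : Set (Sec F E)) := ht ▸ Submodule.mem_top
    exact Submodule.span_induction (p := fun b _ => mapSec F g b ∈ LinearMap.range (secMap φ V.left))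
      (fun b hb => hP b hb) (by rw [map_zero]; exact zero_mem _)
      (fun a b _ _ ha hb => by rw [map_add]; exact add_mem ha hb)
      (fun r a _ ha => by rw [mapSec_smul]; exact Submodule.smul_mem _ _ ha) hm
  | add a b ha hb => rw [map_add]; exact add_mem ha hb

omit hX hp in
theorem exists_range_prodFst (Z E : EtOver X)
    (h : Set.range (Points.ofPt E.obj.hom) ⊆ Set.range (Points.ofPt Z.obj.hom)) (e : E.obj.left.left) :
    e ∈ Set.range (EtOver.prodFst E Z).hom.left.left := by
  obtain ⟨z, hz⟩ := h ⟨e, rfl⟩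
  obtain ⟨r, -, hr⟩ := (ofPt_eq_ofPt_iff (Z.property.1.isPullback' E.obj.hom) z e).1 hz
  exact ⟨r, hr⟩

omit hX hp in
theorem exists_cover_over {Z E : EtOver X}
    (h : Set.range (Points.ofPt E.obj.hom) ⊆ Set.range (Points.ofPt Z.obj.hom)) :
    ∃ (ι : Type u) (W : ι → EtOver X) (g : ∀ i, W i ⟶ E) (_ : ∀ i, W i ⟶ Z),
      (∀ i, IsAff (W i)) ∧ ∀ e, ∃ i, e ∈ Set.range (g i).hom.left.left := by
  obtain ⟨ι, W, k, hW, hc⟩ := exists_affine_cover (EtOver.prodObj E Z)
  refine ⟨ι, W, fun i => k i ≫ EtOver.prodFst E Z, fun i => k i ≫ EtOver.prodSnd E Z, hW, fun e => ?_⟩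
  obtain ⟨r, rfl⟩ := exists_range_prodFst Z E h e
  obtain ⟨i, w, rfl⟩ := hc r
  exact ⟨i, w, rfl⟩

omit hX hp in
theorem injective_over {G F : ModEt X} [G.IsQuasicoherent] [F.IsQuasicoherent] (φ : G ⟶ F) {Z : EtOver X} [IsAff Z]
    (hZ : Function.Injective (secMap φ Z)) {E : EtOver X}
    (h : Set.range (Points.ofPt E.obj.hom) ⊆ Set.range (Points.ofPt Z.obj.hom)) :
    Function.Injective (secMap φ E) := by
  obtain ⟨ι, W, g, k, hW, hc⟩ := exists_cover_over h
  intro a b hab
  refine mapSec_ext G g hc a b fun i => ?_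
  haveI := hW i
  refine injective_of_hom φ (k i) hZ ?_
  rw [← mapSec_secMap, ← mapSec_secMap, hab]

omit hX hp in
theorem bijective_over {G F : ModEt X} [G.IsQuasicoherent] [F.IsQuasicoherent] (φ : G ⟶ F) {Z : EtOver X} [IsAff Z]
    (hZ : Function.Bijective (secMap φ Z)) {E : EtOver X}
    (h : Set.range (Points.ofPt E.obj.hom) ⊆ Set.range (Points.ofPt Z.obj.hom)) :
    Function.Bijective (secMap φ E) := by
  refine ⟨injective_over φ hZ.1 h, fun b => ?_⟩
  obtain ⟨ι, W, g, k, hW, hc⟩ := exists_cover_over h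
  choose y hy using fun i =>
    haveI := hW i
    surjective_of_hom φ (k i) hZ.2 (mapSec F (g i) b)
  obtain ⟨a, ha⟩ := exists_mapSec_eq' G g hc y fun i j => by
    refine injective_over φ hZ.1 ?_ ?_
    · rintro _ ⟨r, rfl⟩
      exact ⟨(EtOver.pullbackFst (g i) (g j) ≫ k i).hom.left.left r,
        (ofPt_map (EtOver.pullbackFst (g i) (g j) ≫ k i).hom.left Z.obj.hom r).symm.trans
          (congrArg (fun t => Points.ofPt t r) (EtOver.w (EtOver.pullbackFst (g i) (g j) ≫ k i)))⟩
    · rw [← mapSec_secMap, ← mapSec_secMap, hy, hy, ← mapSec_comp, ← mapSec_comp, EtOver.pullback_condition]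
  exact ⟨a, mapSec_ext F g hc _ _ fun i => by rw [mapSec_secMap, ha, hy]⟩

theorem mk_mem_range_ofPt {Z : EtOver X} (z : (FieldPt.liftsTo p).obj Z) :
    Points.mk p ∈ Set.range (Points.ofPt Z.obj.hom) := by
  let c : ↥p.pt.left := IsLocalRing.closedPoint p.K
  have h := ofPt_map z.1 Z.obj.hom c
  have e : Points.ofPt ((yon S).map z.1 ≫ Z.obj.hom) c = Points.ofPt p.toHom c :=
    congrArg (fun t : (yon S).obj p.pt ⟶ X => Points.ofPt t c) z.2
  exact ⟨z.1.left c, h.symm.trans (e.trans (EtNbhd.ofPt_toHom p c))⟩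

end Groth.Agent.AlgSpLib.QCohEt
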