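import Groth.Agent.AlgSpLib.QCohEtPush
import Mathlib.Algebra.Category.ModuleCat.Presheaf.Submodule

/-!
Quasi-coherent submodules of quasi-coherent modules on the small etale site, given on affine objects.
-/

universe u

open CategoryTheory CategoryTheory.Limits AlgebraicGeometry Opposite TensorProduct
open AlgSp

noncomputable section

set_option linter.style.haveILetI false

namespace Groth.Agent.AlgSpLib.QCohEt

set_option backward.isDefEq.respectTransparency.types false
set_option backward.isDefEq.respectTransparency false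

variable {S : Scheme.{u}} {X : Sp S}

theorem mapSec_id (M : ModEt X) (E : EtOver X) (m : Sec M E) : mapSec M (𝟙 E) m = m :=
  congrArg (fun h : M.val.presheaf.obj (op E) ⟶ M.val.presheaf.obj (op E) => (ConcreteCategory.hom h) m)
    (M.val.presheaf.map_id (op E))

/-- a quasi-coherent submodule given on affine objects -/
structure QSub (F : ModEt X) where
  /-- the sections on an affine object -/
  P : ∀ E : EtOver X, IsAff E → Submodule (ΓE E) (Sec F E)
  /-- the sections are generated by restriction -/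
  span_eq : ∀ {E W : EtOver X} (hE : IsAff E) (hW : IsAff W) (g : W ⟶ E),
    Submodule.span (ΓE W) (mapSec F g '' (P E hE : Set (Sec F E))) = P W hW

namespace QSub

variable {F : ModEt X} (Q : QSub F)

theorem map_mem {E W : EtOver X} (hE : IsAff E) (hW : IsAff W) (g : W ⟶ E) {s : Sec F E} (hs : s ∈ Q.P E hE) :
    mapSec F g s ∈ Q.P W hW :=
  Q.span_eq hE hW g ▸ Submodule.subset_span ⟨s, hs, rfl⟩

theorem exists_lTensor_eq {E W : EtOver X} [IsAff E] [IsAff W] (g : W ⟶ E) (z : Sec F W)
    (hz : z ∈ Q.P W inferInstance) :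
    ∃ y, bcMap F E (Over.mk g) (LinearMap.lTensor (ΓE (Over.mk g).left) (Q.P E inferInstance).subtype y) = z := by
  rw [← Q.span_eq (inferInstance : IsAff E) inferInstance g] at hz
  induction hz using Submodule.span_induction with
  | mem v hv =>
    obtain ⟨p, hp, rfl⟩ := hv
    exact ⟨1 ⊗ₜ ⟨p, hp⟩, ((bcMap_tmul F E (Over.mk g) 1 p).trans (one_smul _ _))⟩
  | zero => exact ⟨0, by rw [map_zero, map_zero]⟩
  | add v w _ _ hv hw =>
    obtain ⟨a, ha⟩ := hv
    obtain ⟨b, hb⟩ := hw
    exact ⟨a + b, by rw [map_add, map_add, ha, hb]⟩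
  | smul r v hv' hv =>
    obtain ⟨y, rfl⟩ := hv
    clear hv'
    induction y using TensorProduct.induction_on with
    | zero => exact ⟨0, by simp only [map_zero, smul_zero]⟩
    | tmul a p =>
      exact ⟨((show ΓE (Over.mk g).left from r) * a) ⊗ₜ p,
        ((bcMap_tmul F E (Over.mk g) ((show ΓE (Over.mk g).left from r) * a) (p : Sec F E)).trans (mul_smul _ _ _)).trans
        (congrArg (r • ·) (bcMap_tmul F E (Over.mk g) a (p : Sec F E)).symm)⟩
    | add x y hx hy =>
      obtain ⟨a, ha⟩ := hx
      obtain ⟨b, hb⟩ := hy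
      exact ⟨a + b, by rw [map_add, map_add, ha, hb, map_add, map_add, smul_add]⟩

/-- membership descends along coverings -/
theorem mem_of_cover [F.IsQuasicoherent] {E : EtOver X} [IsAff E] {ι : Type} [Finite ι] {Z : ι → EtOver X}
    [∀ j, IsAff (Z j)] (g : ∀ j, Z j ⟶ E) (hc : ∀ x, ∃ j, x ∈ Set.range (g j).hom.left.left) (s : Sec F E)
    (h : ∀ j, mapSec F (g j) s ∈ Q.P (Z j) inferInstance) : s ∈ Q.P E inferInstance := by
  letI := fun j => (ΓMap (g j)).hom.toAlgebra
  haveI : ∀ j, Module.Flat (ΓE E) (ΓE (Z j)) := fun j => flat_ΓMap (g j)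
  refine (Submodule.Quotient.mk_eq_zero _).1
    (eq_zero_of_forall_one_tmul (fun j => (ΓE (Z j) : Type (u + 1))) (fun p hp => exists_comap_eq g hc p hp)
      (Submodule.Quotient.mk (p := Q.P E inferInstance) s) fun j => ?_)
  let W : Over E := Over.mk (g j)
  haveI : IsAff W.left := (inferInstance : IsAff (Z j))
  obtain ⟨y, hy⟩ := exists_lTensor_eq Q (g j) _ (h j)
  have h1 : (1 : ΓE W.left) ⊗ₜ[ΓE E] s = LinearMap.lTensor (ΓE W.left) (Q.P E inferInstance).subtype y :=
    ((isBC F E W inferInstance).injective ((hy.trans ((bcMap_tmul F E W 1 s).trans (one_smul _ _)).symm))).symm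
  refine (congrArg (LinearMap.lTensor (ΓE W.left) (Q.P E inferInstance).mkQ) h1).trans ?_
  rw [← LinearMap.comp_apply, ← LinearMap.lTensor_comp,
    show (Q.P E inferInstance).mkQ ∘ₗ (Q.P E inferInstance).subtype = 0 from
      LinearMap.ext fun x => (Submodule.Quotient.mk_eq_zero _).2 x.property,
    LinearMap.lTensor_zero, LinearMap.zero_apply]

/-- the sections over every object -/
def sub : F.val.Submodule where
  obj U :=
    { carrier := {s | ∀ (W : EtOver X) (hW : IsAff W) (g : W ⟶ U.unop), mapSec F g s ∈ Q.P W hW}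
      add_mem' := fun {a b} ha hb W hW g => by rw [map_add]; exact add_mem (ha W hW g) (hb W hW g)
      zero_mem' := fun W hW g => by rw [map_zero]; exact zero_mem _
      smul_mem' := fun r a ha W hW g =>
        (mapSec_smul F g r a).symm ▸ Submodule.smul_mem _ _ (ha W hW g) }
  map {U V} f s hs W hW g := by
    have : mapSec F g (mapSec F f.unop s) ∈ Q.P W hW := (mapSec_comp F g f.unop s) ▸ hs W hW (g ≫ f.unop)
    exact this

theorem mem_sub_iff {E : EtOver X} (hE : IsAff E) (s : Sec F E) : s ∈ Q.sub.obj (op E) ↔ s ∈ Q.P E hE :=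
  ⟨fun h => mapSec_id F E s ▸ h E hE (𝟙 E), fun h _ hW g => Q.map_mem hE hW g h⟩

theorem mem_sub_of_sieve [F.IsQuasicoherent] {U : EtOver X} {R : Sieve U} (hR : R ∈ etTop X U) (x : Sec F U)
    (h : ∀ (V : EtOver X) (f : V ⟶ U), R f → mapSec F f x ∈ Q.sub.obj (op V)) : x ∈ Q.sub.obj (op U) := by
  intro W hW g
  haveI := hW
  obtain ⟨ι, hfin, Z, k, hZ, hk, hc⟩ := exists_finite_affine_refinement ((etTop X).pullback_stable g hR)
  haveI := hfin
  haveI := hZ
  refine Q.mem_of_cover k hc _ fun j => ?_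
  rw [← mapSec_comp]
  exact mapSec_id F (Z j) (mapSec F (k j ≫ g) x) ▸ h (Z j) (k j ≫ g) (hk j) (Z j) (hZ j) (𝟙 _)

theorem isSheaf [F.IsQuasicoherent] : Presheaf.IsSheaf (etTop X) Q.sub.toPresheafOfModules.presheaf := by
  rw [Presheaf.isSheaf_iff_isSheaf_forget _ _ (forget AddCommGrpCat.{u + 1}), isSheaf_iff_isSheaf_of_type]
  intro U R hR
  have hF := ((isSheaf_iff_isSheaf_of_type _ _).1
    ((Presheaf.isSheaf_iff_isSheaf_forget (etTop X) F.val.presheaf (forget AddCommGrpCat.{u + 1})).1 F.isSheaf)) R hR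
  intro x hx
  let y : Presieve.FamilyOfElements (F.val.presheaf ⋙ forget AddCommGrpCat.{u + 1}) R.arrows :=
    fun V f hf => (x f hf).val
  have hy : y.Compatible := fun V₁ V₂ W g₁ g₂ f₁ f₂ h₁ h₂ e => congrArg Subtype.val (hx g₁ g₂ h₁ h₂ e)
  obtain ⟨t, ht, huniq⟩ := hF y hy
  refine ⟨⟨t, Q.mem_sub_of_sieve hR t fun V f hf => ?_⟩, fun V f hf => Subtype.ext (ht f hf), fun t' ht' =>
    Subtype.ext (huniq _ fun V f hf => congrArg Subtype.val (ht' f hf))⟩
  exact (ht f hf).symm ▸ (x f hf).property

/-- the module -/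
def obj [F.IsQuasicoherent] : ModEt X := ⟨Q.sub.toPresheafOfModules, Q.isSheaf⟩

/-- the inclusion -/
def incl [F.IsQuasicoherent] : Q.obj ⟶ F := ⟨Q.sub.ι⟩

instance mono_incl [F.IsQuasicoherent] : Mono Q.incl :=
  (SheafOfModules.forget (OEtRing X)).mono_of_mono_map (inferInstanceAs (Mono Q.sub.ι))

theorem injective_incl [F.IsQuasicoherent] (E : EtOver X) : Function.Injective (secMap Q.incl E) :=
  fun _ _ h => Subtype.ext h

theorem range_incl [F.IsQuasicoherent] {E : EtOver X} (hE : IsAff E) :
    Set.range (secMap Q.incl E) = (Q.P E hE : Set (Sec F E)) :=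
  Set.ext fun s => ⟨fun ⟨a, ha⟩ => ha ▸ (Q.mem_sub_iff hE a.val).1 a.property,
    fun hs => ⟨⟨s, (Q.mem_sub_iff hE s).2 hs⟩, rfl⟩⟩

theorem isBC_obj [F.IsQuasicoherent] (E : EtOver X) [IsAff E] : IsBC Q.obj E := by
  intro W hW
  haveI := hW
  haveI : Module.Flat (ΓE E) (ΓE W.left) := flat_ΓMap W.hom
  have hinj : Function.Injective (bcMap Q.obj E W) := fun a b hab => by
    refine Module.Flat.lTensor_preserves_injective_linearMap (M := ΓE W.left) _ (Q.injective_incl E)
      ((isBC F E W hW).injective ?_)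
    rw [← bcMap_natural, ← bcMap_natural, hab]
  refine ⟨hinj, fun z => ?_⟩
  have hz : secMap Q.incl W.left z ∈ Q.P W.left hW := (Q.mem_sub_iff hW z.val).1 z.property
  obtain ⟨y, hy⟩ := exists_lTensor_eq Q W.hom _ hz
  let e : Q.P E inferInstance →ₗ[ΓE E] Sec Q.obj E :=
    { toFun := fun p => ⟨p.val, (Q.mem_sub_iff inferInstance p.val).2 p.property⟩
      map_add' := fun _ _ => rfl
      map_smul' := fun _ _ => rfl }
  refine ⟨LinearMap.lTensor (ΓE W.left) e y, Q.injective_incl W.left ?_⟩
  rw [bcMap_natural, ← LinearMap.comp_apply (LinearMap.lTensor _ (secMap Q.incl E)), ← LinearMap.lTensor_comp]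
  exact hy

theorem isQuasicoherent_obj [F.IsQuasicoherent] : Q.obj.IsQuasicoherent :=
  isQuasicoherent_of_forall _ fun E hE => by
    haveI := hE
    exact Q.isBC_obj E

/-- the image of a morphism from a quasi-coherent module -/
def image {H : ModEt X} [H.IsQuasicoherent] (φ : H ⟶ F) : QSub F where
  P E _ := LinearMap.range (secMap φ E)
  span_eq {E W} hE hW g := by
    haveI := hE
    haveI := hW
    refine le_antisymm (Submodule.span_le.2 ?_) ?_
    · rintro _ ⟨_, ⟨a, rfl⟩, rfl⟩
      exact ⟨mapSec H g a, (mapSec_secMap φ g a).symm⟩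
    · rintro _ ⟨z, rfl⟩
      obtain ⟨y, rfl⟩ := (isBC H E (Over.mk g) hW).surjective z
      induction y using TensorProduct.induction_on with
      | zero => rw [map_zero, map_zero]; exact zero_mem _
      | tmul a m =>
        rw [bcMap_tmul, map_smul]
        exact Submodule.smul_mem _ _ (Submodule.subset_span ⟨_, ⟨m, rfl⟩, mapSec_secMap φ g m⟩)
      | add x y hx hy => rw [map_add, map_add]; exact add_mem hx hy

/-- suprema -/
def iSup {ι : Sort*} (q : ι → QSub F) : QSub F where
  P E hE := ⨆ i, (q i).P E hE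
  span_eq {E W} hE hW g := by
    refine le_antisymm (Submodule.span_le.2 ?_) (iSup_le fun i => ?_)
    · rintro _ ⟨s, hs, rfl⟩
      induction hs using Submodule.iSup_induction' with
      | mem i x hx => exact Submodule.mem_iSup_of_mem i ((q i).map_mem hE hW g hx)
      | zero => rw [map_zero]; exact zero_mem _
      | add x y _ _ hx hy => rw [map_add]; exact add_mem hx hy
    · rw [← (q i).span_eq hE hW g]
      exact Submodule.span_mono (Set.image_mono (fun x hx => Submodule.mem_iSup_of_mem i hx))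

end QSub

/-- sections are injective along monomorphisms -/
theorem injective_of_mono {A B : ModEt X} (f : A ⟶ B) [Mono f] (E : EtOver X) :
    Function.Injective (f.val.app (op E)) := by
  haveI : Mono ((SheafOfModules.forget (OEtRing X)).map f) := inferInstance
  haveI : Mono f.val := this
  exact (ModuleCat.mono_iff_injective _).1 ((PresheafOfModules.evaluation _ (op E)).map_mono f.val)

theorem exists_preimage_sec {A G F : ModEt X} (f : A ⟶ F) (ι : G ⟶ F) [Mono ι]
    (h : ∀ E, IsAff E → Set.range (secMap f E) ⊆ Set.range (secMap ι E)) (U : EtOver X) (a : Sec A U) :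
    ∃ b : Sec G U, secMap ι U b = secMap f U a := by
  obtain ⟨κ, Z, g, hZ, hc⟩ := exists_affine_cover U
  choose y hy using fun j => h (Z j) (hZ j) ⟨mapSec A (g j) a, rfl⟩
  obtain ⟨b, hb⟩ := exists_mapSec_eq' G g hc y fun j k => by
    refine injective_of_mono ι _ ?_
    change secMap ι _ (mapSec G _ (y j)) = secMap ι _ (mapSec G _ (y k))
    rw [← mapSec_secMap, ← mapSec_secMap, hy, hy, mapSec_secMap, mapSec_secMap, ← mapSec_comp, ← mapSec_comp,
      EtOver.pullback_condition]
  exact ⟨b, mapSec_ext F g hc _ _ fun j => by rw [mapSec_secMap, mapSec_secMap, hb, hy]⟩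

theorem exists_val_lift {A G F : PresheafOfModules.{u + 1} (OEtRing X).obj} (f : A ⟶ F) (ι : G ⟶ F)
    (hinj : ∀ U, Function.Injective (ι.app U)) (h : ∀ U (a : A.obj U), ∃ b, ι.app U b = f.app U a) :
    ∃ l : A ⟶ G, l ≫ ι = f := by
  choose l hl using h
  let L : A ⟶ G := PresheafOfModules.homMk
    { app := fun U => AddCommGrpCat.ofHom (AddMonoidHom.mk' (l U) fun a b => hinj U (by
        rw [map_add, hl, hl, hl, map_add]))
      naturality := fun U V g => AddCommGrpCat.hom_ext (AddMonoidHom.ext fun a => hinj V (by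
        refine (hl V _).trans ((PresheafOfModules.naturality_apply f g a).trans ?_)
        refine (congrArg (F.map g) (hl U a).symm).trans ?_
        exact (PresheafOfModules.naturality_apply ι g _).symm)) }
    (fun U r a => hinj U ((hl U _).trans (((f.app U).hom.map_smul r a).trans
      ((congrArg (r • ·) (hl U a).symm).trans ((ι.app U).hom.map_smul r _).symm))))
  exact ⟨L, PresheafOfModules.hom_ext fun U => ModuleCat.hom_ext (LinearMap.ext fun a => hl U a)⟩

/-- a morphism factors through a submodule as soon as it does so on affine objects -/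
theorem exists_lift {A G F : ModEt X} (f : A ⟶ F) (ι : G ⟶ F) [Mono ι]
    (h : ∀ E, IsAff E → Set.range (secMap f E) ⊆ Set.range (secMap ι E)) : ∃ l : A ⟶ G, l ≫ ι = f := by
  obtain ⟨L, hL⟩ := exists_val_lift f.val ι.val (fun U => injective_of_mono ι U.unop)
    (fun U a => exists_preimage_sec f ι h U.unop a)
  exact ⟨⟨L⟩, SheafOfModules.hom_ext hL⟩

end Groth.Agent.AlgSpLib.QCohEt
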