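import Groth.Agent.AlgSpLib.AffinePieces
import Groth.Agent.AlgSpLib.SepFibreVanish
import Groth.Agent.AlgSpLib.ChevGenVanish
import Groth.Agent.AlgSpLib.VCartSpace
import Groth.Agent.VarietyLib.AffineNhd

/-!
Vanishing of the cohomology of quasi-coherent modules on quasi-compact quasi-separated spaces above the number of
affine pieces and above the dimension.
-/

universe u v v₁ v₂ u₁ u₂

open CategoryTheory CategoryTheory.Limits AlgebraicGeometry Opposite
open AlgSp

noncomputable section

set_option linter.style.haveILetI false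

namespace Groth.Agent.AlgSpLib.Pieces

open Groth.Agent.AlgSpLib Groth.Agent.AlgSpLib.QCohEt Groth.Agent.AlgSpLib.SerreChev Groth.Agent.AlgSpLib.SerreAff
  Groth.Agent.AlgSpLib.SepChart

set_option backward.isDefEq.respectTransparency.types false
set_option backward.isDefEq.respectTransparency false

/-- criterion for the unit of the adjunction of pushforwards of modules to be surjective on sections -/
theorem surjective_unit_pushforward {C : Type u₁} [Category.{v₁} C] {D : Type u₂} [Category.{v₂} D]
    {J : GrothendieckTopology C} {K : GrothendieckTopology D} {F : C ⥤ D} {G : D ⥤ C}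
    {S : Sheaf J RingCat.{u}} {R : Sheaf K RingCat.{u}} [F.IsContinuous J K] [G.IsContinuous K J]
    (adj : F ⊣ G) (φ : S ⟶ (F.sheafPushforwardContinuous RingCat.{u} J K).obj R)
    (ψ : R ⟶ (G.sheafPushforwardContinuous RingCat.{u} K J).obj S)
    (H₁ : Functor.whiskerRight (NatTrans.op adj.counit) R.obj = ψ.hom ≫ G.op.whiskerLeft φ.hom)
    (H₂ : φ.hom ≫ F.op.whiskerLeft ψ.hom ≫ Functor.whiskerRight (NatTrans.op adj.unit) S.obj = 𝟙 S.obj)
    (M : SheafOfModules.{v} R) (U : Dᵒᵖ) (h : Function.Surjective (M.val.map (adj.counit.app U.unop).op)) :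
    Function.Surjective (((SheafOfModules.pushforwardPushforwardAdj adj φ ψ H₁ H₂).unit.app M).val.app U) :=
  h

variable {S : Scheme.{u}}

section unit

variable {X : Sp S} {U : Sp S} {j : U ⟶ X} (hj : RepWith @IsOpenImmersion j) (hje : IsEtaleMor j)

theorem surjective_unit_val (M : ModEt X) (E : EtOver X)
    (h : Function.Surjective (M.val.map ((Stk19b.QPullEtale.postcompBcAdj hj.1 hje).counit.app E).op)) :
    Function.Surjective (((Stk19b.QPullEtale.restrictPushAdj hj.1 hje).unit.app M).val.app (op E)) := by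
  unfold Stk19b.QPullEtale.restrictPushAdj
  exact surjective_unit_pushforward _ _ _ _ _ M (op E) h

theorem surjective_secMap_of_val {A B : ModEt X} (f : A ⟶ B) (E : EtOver X)
    (h : Function.Surjective (f.val.app (op E))) : Function.Surjective (secMap f E) := h

theorem surjective_map_of_mapSec (M : ModEt X) {E E' : EtOver X} (g : E' ⟶ E)
    (h : Function.Surjective (mapSec M g)) : Function.Surjective (M.val.map g.op) := h

/-- the unit of restriction is surjective away from the open subspace -/
theorem surjective_unit_of_disjoint (M : ModEt X) (E : EtOver X)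
    (hE : ∀ e, Points.ofPt E.obj.hom e ∉ Set.range (Points.map j)) :
    Function.Surjective (secMap ((Stk19b.QPullEtale.restrictPushAdj hj.1 hje).unit.app M) E) := by
  let E' : EtOver X := (EtOver.postcomp j hje).obj ((EtOver.bc hj.1).obj E)
  have hemp : IsEmpty ↥E'.obj.left.left := ⟨fun w => hE ((cpb hj hje E).hom.left.left w) (by
    rw [ofPt_hom (cpb hj hje E) w]
    exact ⟨Points.ofPt ((EtOver.bc hj.1).obj E).obj.hom w, Points.map_ofPt _ j w⟩)⟩
  refine surjective_secMap_of_val _ E (surjective_unit_val hj hje M E (surjective_map_of_mapSec M _ fun y => ⟨0, ?_⟩))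
  exact mapSec_ext (E := E') M (fun i : PEmpty.{1} => (i.elim : E' ⟶ E')) (fun w => (hemp.false w).elim) _ y
    fun i => i.elim

end unit

/-- an affine neighbourhood of a point inside an open -/
theorem exists_open_nbhd' {X : Sp S} (E : EtOver X) (O : E.obj.left.left.Opens) (e : ↥E.obj.left.left) (he : e ∈ O) :
    ∃ Z : EtOver X, IsAff Z ∧ ∃ g : Z ⟶ E, e ∈ Set.range g.hom.left.left ∧ Set.range g.hom.left.left ⊆ O := by
  obtain ⟨U, hU, heU, hle⟩ := exists_isAffineOpen_mem_and_subset (x := e) he
  let T : Over S := Over.mk (U.ι ≫ E.obj.left.hom)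
  let j : T ⟶ E.obj.left := Over.homMk U.ι
  let Z : EtOver X := EtOver.mk ((yon S).map j ≫ E.obj.hom)
    (RepWith.comp ((repWith_yon_map_iff _ j).2 (inferInstanceAs (Etale U.ι))) E.property)
  refine ⟨Z, hU, EtOver.homMk j rfl, ⟨⟨e, heU⟩, rfl⟩, ?_⟩
  rintro _ ⟨w, rfl⟩
  exact hle w.2

/-- modules on an empty space have no cohomology -/
theorem vq_of_isEmpty {X : Sp S} (h : IsEmpty (Points X)) (M : ModEt X) (q : ℕ) : Vq M q := by
  refine vq_of_isZero (isZero_of_forall M fun E hE s => ?_) q
  have hEe : IsEmpty ↥E.obj.left.left := ⟨fun e => h.false (Points.ofPt E.obj.hom e)⟩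
  exact mapSec_ext M (fun i : PEmpty.{1} => (i.elim : E ⟶ E)) (fun e => (hEe.false e).elim) s 0 fun i => i.elim

/-- a cokernel vanishes away from the boundary of an open when the map is surjective inside and outside -/
theorem sec_zero_away {X : Sp S} {M N I : ModEt X} [N.IsQuasicoherent] [I.IsQuasicoherent] (η : M ⟶ N) (i : I ⟶ N)
    (hi : η ≫ cokernel.π i = 0) {O : Set (Points X)} (hO : IsOpen O)
    (h1 : ∀ E, Over' O E → Function.Surjective (secMap η E))
    (h2 : ∀ E : EtOver X, (∀ e, Points.ofPt E.obj.hom e ∉ O) → Function.Surjective (secMap η E))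
    (E : EtOver X) (hE : IsAff E) (hEO : Over' (O ∪ (closure O)ᶜ) E) (x : Sec (cokernel i) E) : x = 0 := by
  have key : ∀ e : ↥E.obj.left.left, ∃ (V : EtOver X) (g : V ⟶ E), e ∈ Set.range g.hom.left.left ∧
      mapSec (cokernel i) g x = 0 := fun e => by
    rcases hEO ⟨e, rfl⟩ with h | h
    · obtain ⟨V, hV, g, hg, hle⟩ := exists_open_nbhd' E
        ⟨Points.ofPt E.obj.hom ⁻¹' O, hO.preimage (Points.continuous_ofPt _)⟩ e h
      haveI := hV
      refine ⟨V, g, hg, cokernel_sec_zero η i hi V (h1 V ?_) _⟩
      rintro _ ⟨v, rfl⟩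
      rw [← ofPt_hom g v]
      exact hle ⟨v, rfl⟩
    · obtain ⟨V, hV, g, hg, hle⟩ := exists_open_nbhd' E
        ⟨Points.ofPt E.obj.hom ⁻¹' (closure O)ᶜ,
          isClosed_closure.isOpen_compl.preimage (Points.continuous_ofPt _)⟩ e h
      haveI := hV
      refine ⟨V, g, hg, cokernel_sec_zero η i hi V (h2 V fun v hv => hle ⟨v, rfl⟩ (subset_closure ?_)) _⟩
      show Points.ofPt E.obj.hom (g.hom.left.left v) ∈ O
      rw [ofPt_hom g v]
      exact hv
  choose V g hg hg0 using key
  exact mapSec_ext (cokernel i) g (fun e => ⟨e, hg e⟩) x 0 fun e => (hg0 e).trans (map_zero _).symm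

variable [QuasiSeparatedSpace ↥S]

/-- modules vanishing over an open have the cohomological vanishing of the closed subspaces missing it -/
theorem vq_supported' (X : AlgSp.Space S) (hqc : IsQuasiCompactSp X.obj) (hqs : IsQuasiSeparatedSp X.obj)
    {O : Set (Points X.obj)} (hO : IsOpen O) {q : ℕ}
    (H : ∀ (Z : AlgSp.Space S) (i : Z.obj ⟶ X.obj), RepWith @IsClosedImmersion i → (∀ z, Points.map i z ∉ O) →
      ∀ G : ModEt Z.obj, G.IsQuasicoherent → Vq G q)
    (K : ModEt X.obj) [K.IsQuasicoherent] (hK : ∀ E, IsAff E → Over' O E → ∀ x : Sec K E, x = 0) : Vq K q := by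
  classical
  obtain ⟨hc⟩ := nonempty_isColimit_fgCocone hqc hqs K
  haveI := preservesColimitsOfShape_toAbEt X.obj (FGSub X K)
  haveI := Groth.Agent.S10736.result X hqc hqs (FGSub X K) q
  let F := toAbEt X.obj ⋙ HEtF X.obj q
  haveI : PreservesColimitsOfShape (FGSub X K) F := inferInstanceAs (PreservesColimitsOfShape _ (_ ⋙ _))
  have hF := isColimitOfPreserves F hc
  haveI hsub : ∀ b : FGSub X K, Subsingleton ((fgDiagram K ⋙ F).obj b : Type (u + 1)) := fun b => by
    let N : ModEt X.obj := b.sub.obj
    haveI : N.IsQuasicoherent := b.sub.isQuasicoherent_obj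
    have hfin : ∀ E, IsAff E → Module.Finite (ΓE E) (Sec N E) := fun E hE =>
      haveI := hE
      b.sub.finite_obj E (b.fg E hE)
    have hN : ∀ E, IsAff E → Over' O E → ∀ x : Sec N E, x = 0 := fun E hE hEO x => by
      haveI := hE
      exact b.sub.injective_incl E ((hK E hE hEO _).trans (map_zero _).symm)
    obtain ⟨W, i, hW, hcut⟩ := exists_isCutOutBy X.property (ChevGen.annIdeal N) (ChevGen.isQCoh_annIdeal N hfin)
    obtain ⟨hi, hieq⟩ := id hcut
    have hiO : ∀ z, Points.map i z ∉ O := fun z hz => by
      haveI := compactSpace_points_of_isQuasiCompactSp hqc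
      obtain ⟨A, a, hA, hae, has⟩ := exists_affine_chart X.property
      let E₀ : EtOver X.obj := EtOver.mk a hae
      haveI : IsAff E₀ := hA
      haveI := hfin E₀ inferInstance
      obtain ⟨e, he0⟩ := surjective_ofPt E₀.obj.hom has (Points.map i z)
      have he : e ∈ E₀.obj.left.left.zeroLocus (U := ⊤)
          ((ChevGen.annIdeal N).ideal E₀ inferInstance : Set Γ(E₀.obj.left.left, ⊤)) := by
        rw [zeroLocus_isCutOutBy hcut]
        exact ⟨z, he0.symm⟩
      obtain ⟨s, hs⟩ := ChevGen.inSupp_of_ann_le N (E := E₀) (e := e) (by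
        rw [← ChevGen.upIdeal_annIdeal N E₀, le_primeAtPt_of_le_primeE]
        exact (mem_zeroLocus_iff_le_primeAtPt _ e).1 he)
      obtain ⟨h, hh⟩ := FlatMorWeight.exists_geomPt e
      let p : FieldPt X.obj := fieldPtOf ((yon S).map (geomHom h) ≫ E₀.obj.hom)
      have hp : p.IsGeometric := AlgebraicClosure.isAlgClosed _
      let x : (FieldPt.liftsTo p).obj E₀ := ⟨geomHom h, (toHom_fieldPtOf _).symm⟩
      have hx : x.1.left (IsLocalRing.closedPoint p.K) = e := hh
      let Op : E₀.obj.left.left.Opens :=
        ⟨Points.ofPt E₀.obj.hom ⁻¹' O, hO.preimage (Points.continuous_ofPt _)⟩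
      obtain ⟨V, g, w, hV, hw, hg⟩ := exists_open_nbhd hp E₀ x Op (by
        rw [hx]
        show Points.ofPt E₀.obj.hom e ∈ O
        rw [he0]
        exact hz)
      have hVO : Over' O V := by
        rintro _ ⟨v, rfl⟩
        rw [← ofPt_hom g v]
        exact hg ⟨v, rfl⟩
      have hg0 : germ X.property hp N x s = 0 := by
        rw [← hw, ← germ_mapSec, hN V hV hVO (mapSec N g s), map_zero]
      refine (germ_eq_zero_iff X.property hp N x s).1 hg0 ?_
      rw [hx, mem_zeroLocus_iff_le_primeAtPt]
      intro r hr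
      exact (upΓ_mem_primeE E₀ r e).1 (hs (CAlgH3.mem_annEl.2 ((mem_annSect_iff _ _).1 hr)))
    let Ws : AlgSp.Space S := ⟨W, hW⟩
    obtain ⟨G, hG, ⟨θ⟩⟩ := (Groth.Agent.S9991.result (Z := Ws) (X := X) (ObjectProperty.homMk i) hi
      (ChevGen.annIdeal N) hcut).2 N inferInstance fun E hE s r hr => by
        rw [mem_annSect_iff]
        exact Module.mem_annihilator.1 hr s
    haveI := hG
    haveI : Subsingleton (HModEt W G q) := H Ws i hi hiO G hG
    obtain ⟨eH⟩ := Groth.Agent.S10751.result (X := Ws) (Y := X) (ObjectProperty.homMk i) hi.1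
      (isAffineMor_of_repWith (RepWith.mono (fun _ _ k (_ : IsClosedImmersion k) =>
        (inferInstance : IsAffineHom k)) hi)) G q
    exact vq_iso θ eH.symm.toEquiv.subsingleton
  have h0 : IsZero (F.mapCocone (fgCocone K)).pt := by
    refine (IsZero.iff_id_eq_zero _).2 (hF.hom_ext fun b => ?_)
    refine AddCommGrpCat.hom_ext (AddMonoidHom.ext fun z => ?_)
    rw [@Subsingleton.elim _ (hsub b) z 0, map_zero, map_zero]
  exact AddCommGrpCat.subsingleton_of_isZero h0

/-- a closed subspace missing a piece has a chart with fewer pieces -/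
theorem exists_closed_data (X : AlgSp.Space S) (hqs : IsQuasiSeparatedSp X.obj) {U : Over S} [IsAffine U.left]
    {a : (yon S).obj U ⟶ X.obj} (hae : RepWith @Etale a) (has : RepWith @Surjective a) {ι : Type u} [Fintype ι]
    (C : PieceCover X.obj a ι) (i₀ : ι) (Z : AlgSp.Space S) (i : Z.obj ⟶ X.obj) (hi : RepWith @IsClosedImmersion i)
    (hiO : ∀ z, Points.map i z ∉ C.stratum i₀) :
    IsQuasiCompactSp Z.obj ∧ IsQuasiSeparatedSp Z.obj ∧
      ∃ (U' : Over S) (a' : (yon S).obj U' ⟶ Z.obj) (k : U' ⟶ U), IsAffine U'.left ∧ RepWith @Etale a' ∧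
        RepWith @Surjective a' ∧ IsClosedImmersion k.left ∧
        (∀ v, Points.ofPt a (k.left v) = Points.map i (Points.ofPt a' v)) ∧
        ∃ (ι' : Type u) (_ : Fintype ι'), Fintype.card ι' < Fintype.card ι ∧ Nonempty (PieceCover Z.obj a' ι') := by
  let U' : Over S := hi.1.pullback a
  let a' : (yon S).obj U' ⟶ Z.obj := hi.1.fst a
  let k : U' ⟶ U := hi.1.snd a
  have sq : IsPullback a' ((yon S).map k) i a := hi.1.isPullback a
  haveI : IsClosedImmersion k.left := hi.property_snd a
  haveI : IsAffine U'.left := isAffine_of_isAffineHom k.left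
  have has' : RepWith @Surjective a' := RepWith.baseChange sq.flip has
  refine ⟨ChevGen.compactSpace_of_cover a' (ChevGen.isSurjectiveMor_of_repWith has'),
    VCart.isQuasiSeparatedSp_of_affineMor (isAffineMor_of_repWith (RepWith.mono
      (fun _ _ g (_ : IsClosedImmersion g) => (inferInstance : IsAffineHom g)) hi)) hqs,
    U', a', k, inferInstance, RepWith.baseChange sq.flip hae, has', inferInstance, fun v => ?_,
    exists_pullback_cover C i₀ i hiO sq⟩
  rw [Points.map_ofPt, sq.w, ofPt_map]

/-- closed immersions map chains of points to chains -/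
theorem strictMono_closedImmersion {A B : Scheme.{u}} (k : A ⟶ B) [IsClosedImmersion k] :
    StrictMono k := fun x y h =>
  lt_of_le_not_ge (show k y ⤳ k x from (show y ⤳ x from h.le).map k.continuous) fun h' =>
    h.not_ge (show x ⤳ y from k.isClosedEmbedding.isInducing.specializes_iff.1 h')

/-- chains in the boundary of an affine open extend by a point of the open -/
theorem length_add_one_lt {A B : Scheme.{u}} [QuasiSeparatedSpace B] (k : A ⟶ B) [IsClosedImmersion k] (W : B.Opens)
    (hW : IsCompact (W : Set B)) (hk : ∀ v, k v ∈ closure (W : Set B) ∧ k v ∉ W) {n : ℕ}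
    (hn : ∀ p : LTSeries ↥B, p.length < n + 1) (p : LTSeries ↥A) : p.length < n := by
  haveI : CompactSpace ↥W.toScheme := isCompact_iff_compactSpace.1 hW
  let q := p.map k (strictMono_closedImmersion k)
  have hq : q.last ∈ Set.range k := ⟨p.last, (LTSeries.last_map p k _).symm⟩
  obtain ⟨v, hv⟩ := hq
  obtain ⟨w, hw⟩ := VarietyLib.exists_specializes_of_mem_closure_range W.ι (x := q.last) (by
    rw [Scheme.Opens.range_ι, ← hv]
    exact (hk v).1)
  have hlt : q.last < W.ι w := lt_of_le_not_ge hw fun h => (hk v).2 (by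
    rw [hv]
    exact (show q.last ⤳ W.ι w from h).mem_open W.isOpen w.2)
  have h2 := hn (q.snoc (W.ι w) hlt)
  have e : (q.snoc (W.ι w) hlt).length = p.length + 1 := rfl
  omega

/-- vanishing in degree `q` for spaces with at most `q` pieces or of dimension less than `q` -/
theorem vq_main : ∀ (q m : ℕ) (X : AlgSp.Space S), IsQuasiCompactSp X.obj → IsQuasiSeparatedSp X.obj →
    ∀ (U : Over S), IsAffine U.left → ∀ (a : (yon S).obj U ⟶ X.obj), RepWith @Etale a → RepWith @Surjective a →
    ∀ (ι : Type u) [Fintype ι], PieceCover X.obj a ι → Fintype.card ι ≤ m →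
      (m ≤ q ∨ ∀ p : LTSeries ↥U.left, p.length < q) → ∀ M : ModEt X.obj, M.IsQuasicoherent → Vq M q := by
  intro q
  induction q with
  | zero =>
    intro m X _ _ U _ a _ has ι _ C hm hcond M _
    refine vq_of_isEmpty ⟨fun x => ?_⟩ M 0
    rcases hcond with h | h
    · haveI : IsEmpty ι := Fintype.card_eq_zero_iff.1 (by omega)
      exact isEmptyElim (C.cover x).choose
    · obtain ⟨u, -⟩ := surjective_ofPt a has x
      exact absurd (h (RelSeries.singleton _ u)) (Nat.not_lt_zero _)
  | succ r IH =>
    intro m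
    induction m with
    | zero =>
      intro X _ _ U _ a _ _ ι _ C hm _ M _
      haveI : IsEmpty ι := Fintype.card_eq_zero_iff.1 (by omega)
      exact vq_of_isEmpty ⟨fun x => isEmptyElim (C.cover x).choose⟩ M _
    | succ m IHm =>
      intro X hqc hqs U hU a hae has ι _ C hm hcond M hM
      haveI := hU
      haveI := hM
      rcases isEmpty_or_nonempty ι with hι | hι
      · exact vq_of_isEmpty ⟨fun x => isEmptyElim (C.cover x).choose⟩ M _
      obtain ⟨i₀, hmax⟩ := Finite.exists_max C.deg
      obtain ⟨T, j, hT, hj, haff, hrange, hcpt⟩ := exists_affine_piece X.property hae has C i₀ hmax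
      haveI := hT
      have hje : IsEtaleMor j := Induct.isEtaleMor_of_openImm (IsAlgSpace.yon_obj T) X.property hj
      haveI hM₁ : ((resPost hje).obj M).IsQuasicoherent := isQuasicoherent_resPost X.property hj.1 hje M
      let N := (pushModEt hj.1).obj ((resPost hje).obj M)
      haveI : N.IsQuasicoherent := SerreChev.isQuasicoherent_push hj.1 haff _
      let η : M ⟶ N := (Stk19b.QPullEtale.restrictPushAdj hj.1 hje).unit.app M
      have hOopen : IsOpen (Set.range (Points.map j)) := Induct.isOpen_range_map (IsAlgSpace.yon_obj T) hj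
      haveI : (kernel η).IsQuasicoherent := isQuasicoherent_kernel η
      obtain ⟨i, hi, hi0⟩ := exists_factor η
      haveI := hi
      haveI : (cokernel (kernel.ι η)).IsQuasicoherent := isQuasicoherent_cokernel (kernel.ι η)
      haveI : (cokernel i).IsQuasicoherent := isQuasicoherent_cokernel i
      refine vq_of_parts η i ?_ ?_ (vq_push_affine X j hj.1 haff _ r)
      · refine vq_supported' X hqc hqs hOopen (fun Z c hc hcO G hG => ?_) _
          fun E _ hE => kernel_sec_zero η E (bijective_unit hj hje M E hE).1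
        obtain ⟨hZc, hZs, U', a', k, hU', hae', has', hk, -, ι', _, hcard, ⟨C'⟩⟩ :=
          exists_closed_data X hqs hae has C i₀ Z c hc fun z => hrange ▸ hcO z
        haveI := hk
        refine IHm Z hZc hZs U' hU' a' hae' has' ι' C' (by omega) ?_ G hG
        rcases hcond with h | h
        · exact Or.inl (by omega)
        · exact Or.inr fun p => h (p.map k.left (strictMono_closedImmersion k.left))
      · rcases hcond with hcond | hcond
        · refine vq_supported' X hqc hqs hOopen (fun Z c hc hcO G hG => ?_) _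
            fun E hE hEO => @cokernel_sec_zero _ _ _ _ η _ i hi0 _ _ E hE (bijective_unit hj hje M E hEO).2
          obtain ⟨hZc, hZs, U', a', k, hU', hae', has', hk, -, ι', _, hcard, ⟨C'⟩⟩ :=
            exists_closed_data X hqs hae has C i₀ Z c hc fun z => hrange ▸ hcO z
          exact IH m Z hZc hZs U' hU' a' hae' has' ι' C' (by omega) (Or.inl (by omega)) G hG
        · have hKsec : ∀ E, IsAff E → Over' (Set.range (Points.map j) ∪ (closure (Set.range (Points.map j)))ᶜ) E →
              ∀ x : Sec (cokernel i) E, x = 0 :=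
            sec_zero_away η i hi0 hOopen (fun E hE => (bijective_unit hj hje M E hE).2)
              fun E hE => surjective_unit_of_disjoint hj hje M E hE
          refine vq_supported' X hqc hqs (hOopen.union isClosed_closure.isOpen_compl)
            (fun Z c hc hcO G hG => ?_) _ hKsec
          obtain ⟨hZc, hZs, U', a', k, hU', hae', has', hk, hkmap, ι', _, hcard, ⟨C'⟩⟩ :=
            exists_closed_data X hqs hae has C i₀ Z c hc fun z h => hcO z (Or.inl (hrange ▸ h))
          haveI := hk
          refine IH _ Z hZc hZs U' hU' a' hae' has' ι' C' le_rfl (Or.inr (length_add_one_lt k.left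
            ⟨Points.ofPt a ⁻¹' C.stratum i₀, (hrange ▸ hOopen).preimage (Points.continuous_ofPt a)⟩ hcpt
            (fun v => ⟨?_, fun h => hcO _ (Or.inl (by rw [← hkmap v, hrange]; exact h))⟩) hcond)) G hG
          show k.left v ∈ closure (Points.ofPt a ⁻¹' C.stratum i₀)
          rw [← (isOpenMap_ofPt a hae).preimage_closure_eq_closure_preimage (Points.continuous_ofPt a)]
          show Points.ofPt a (k.left v) ∈ closure (C.stratum i₀)
          rw [hkmap v, ← hrange]
          exact not_not.1 fun h => hcO _ (Or.inr h)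

end Groth.Agent.AlgSpLib.Pieces
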