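import Groth.Agent.GrpdLib.InvariantAffine
import Mathlib.AlgebraicGeometry.ZariskisMainTheorem

/-!
Finite sets of points of schemes separated and locally quasi-finite over affine schemes.
-/

universe u

open CategoryTheory CategoryTheory.Limits AlgebraicGeometry

noncomputable section

namespace Groth.Agent.AlgSpLib

set_option backward.isDefEq.respectTransparency.types false

/-- a quasi-compact separated quasi-finite scheme over an affine one embeds in an affine scheme -/
theorem exists_openImmersion_affine {W A : Scheme.{u}} [IsAffine A] [CompactSpace ↥W] (f : W ⟶ A)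
    [LocallyQuasiFinite f] [LocallyOfFiniteType f] [IsSeparated f] :
    ∃ (N : Scheme.{u}) (j : W ⟶ N), IsAffine N ∧ IsOpenImmersion j := by
  have : QuasiCompact f := quasiCompact_of_compactSpace f
  have : IsAffine f.normalization := isAffine_of_isAffineHom f.fromNormalization
  exact ⟨f.normalization, f.toNormalization, inferInstance, inferInstance⟩

/-- finite sets of points lie in affine opens -/
theorem exists_affineOpen_of_finite {W A : Scheme.{u}} [IsAffine A] (f : W ⟶ A)
    [LocallyQuasiFinite f] [LocallyOfFiniteType f] [IsSeparated f] {F : Set ↥W} (hF : F.Finite) :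
    ∃ O : W.Opens, IsAffineOpen O ∧ F ⊆ O := by
  classical
  choose V hV hxV using fun x : ↥W => (show ∃ V : W.Opens, IsAffineOpen V ∧ x ∈ V from
    let ⟨V, h1, h2, _⟩ := exists_isAffineOpen_mem_and_subset (x := x) (U := ⊤) trivial
    ⟨V, h1, h2⟩)
  let C : W.Opens := ⨆ x : F, V x
  have hC : IsCompact (C : Set ↥W) := by
    have : Finite F := hF.to_subtype
    rw [TopologicalSpace.Opens.coe_iSup]
    exact isCompact_iUnion fun x => (hV x).isCompact
  have : CompactSpace ↥C.toScheme := isCompact_iff_compactSpace.mp hC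
  obtain ⟨N, j, hN, hj⟩ := exists_openImmersion_affine (C.ι ≫ f)
  let F' : Set ↥N := j '' (C.ι ⁻¹' F)
  obtain ⟨r, hr, hrj⟩ := GrpdLib.exists_basicOpen_of_finite F'
    ((hF.preimage C.ι.isOpenEmbedding.injective.injOn).image j) j.opensRange
    (by rintro _ ⟨y, -, rfl⟩; exact ⟨y, rfl⟩)
  have hA : IsAffineOpen (j ⁻¹ᵁ N.basicOpen r) :=
    ((isAffineOpen_top N).basicOpen r).preimage_of_isOpenImmersion j hrj
  refine ⟨C.ι ''ᵁ (j ⁻¹ᵁ N.basicOpen r), hA.image_of_isOpenImmersion C.ι, fun x hx => ?_⟩
  have hxC : x ∈ C := TopologicalSpace.Opens.mem_iSup.2 ⟨⟨x, hx⟩, hxV x⟩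
  exact ⟨⟨x, hxC⟩, hr ⟨⟨x, hxC⟩, hx, rfl⟩, rfl⟩

end Groth.Agent.AlgSpLib
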