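import Groth.Agent.AlgSpLib.RFBoundAb
import Groth.Agent.DCat.ModulesGrothendieck
import Groth.Agent.DCat.RFBasic

/-!
Cohomological bounds of right derived functors with values in abelian groups on derived limits of truncations.
-/

set_option autoImplicit false
set_option backward.isDefEq.respectTransparency false
set_option backward.isDefEq.respectTransparency.types false
set_option backward.defeqAttrib.useBackward true
set_option linter.style.haveILetI false

universe w u t

open CategoryTheory CategoryTheory.Limits CategoryTheory.Pretriangulated DerivedCategory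
open Groth.Agent.DCat Groth.Agent.SiteDer16

noncomputable section

namespace Groth.Agent.AlgSpLib.RFBound

variable {A : Type (u + 1)} [Category.{u} A] [Abelian A] [HasDerivedCategory.{w} A] [HasDerivedCategory.{w} AddCommGrpCat.{t}]
  (hA : EnoughKInj A) (hB : EnoughKInj AddCommGrpCat.{t}) [EnoughInjectives A] [HasInjectiveResolutions A]
  [HasLimitsOfShape (Discrete ℕ) A]
  (F : A ⥤ AddCommGrpCat.{t}) [F.Additive] [PreservesLimitsOfShape (Discrete ℕ) F]
  [(F.mapHomotopyCategory (ComplexShape.up ℤ) ⋙ Qh).HasRightDerivedFunctor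
    (HomotopyCategory.quasiIso A (ComplexShape.up ℤ))]
  (Pr : ObjectProperty A) [Pr.IsClosedUnderIsomorphisms] (N : ℕ)
  (hF : ∀ G : A, Pr G → ∀ p : ℕ, N ≤ p → IsZero ((F.rightDerived p).obj G))

set_option quotPrecheck false in
local notation "RF" => (F.mapHomotopyCategory (ComplexShape.up ℤ) ⋙ Qh).totalRightDerived Qh
  (HomotopyCategory.quasiIso A (ComplexShape.up ℤ))

include hA in
theorem isIso_piComparison (K : ℕ → DerivedCategory A) [HasProduct K] [HasProduct fun n => (RF).obj (K n)] :
    IsIso (piComparison (RF) K) := by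
  haveI := CommAlg4.ExactProd.preservesLimit_mapHomotopy F (fun n => (rho hA).obj (K n))
  haveI : (rho hA).IsRightAdjoint := (rhoAdj hA).isRightAdjoint
  haveI : PreservesLimit (Discrete.functor K ⋙ rho hA) (F.mapHomotopyCategory (ComplexShape.up ℤ) ⋙ Qh) :=
    @preservesLimit_of_iso_diagram _ _ _ _ _ _ _ _ _ (Discrete.compNatIsoDiscrete K (rho hA)).symm
      (CommAlg4.ExactProd.preservesLimit_mapHomotopy F ((rho hA).obj ∘ K))
  haveI : PreservesLimit (Discrete.functor K) (rho hA ⋙ F.mapHomotopyCategory (ComplexShape.up ℤ) ⋙ Qh) :=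
    Limits.comp_preservesLimit _ _
  haveI : PreservesLimit (Discrete.functor K) (RF) :=
    preservesLimit_of_natIso _ (rfIso hA (F.mapHomotopyCategory (ComplexShape.up ℤ) ⋙ Qh)).symm
  rw [← PreservesProduct.iso_hom]
  infer_instance

include hA in
theorem isRlimVia_map (K : ℕ → DerivedCategory A) (tK : ∀ n, K (n + 1) ⟶ K n) [HasProduct K]
    [HasProduct fun n => (RF).obj (K n)]
    (L : DerivedCategory A) (a : ∀ n, L ⟶ K n) (hL : CohCx.IsRlimVia K tK L a) :
    CohCx.IsRlimVia (fun n => (RF).obj (K n)) (fun n => (RF).map (tK n)) ((RF).obj L) (fun n => (RF).map (a n)) := by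
  obtain ⟨_, _⟩ := exists_commShift_rf_map hA F
  haveI := isIso_piComparison hA F K
  obtain ⟨c, hT⟩ := hL
  let R := RF
  let e := asIso (piComparison R K)
  refine ⟨e.inv ≫ R.map c ≫ (R.commShiftIso (1 : ℤ)).hom.app L, ?_⟩
  refine isomorphic_distinguished _ (R.map_distinguished _ hT) _
    (Triangle.isoMk _ _ (Iso.refl _) e.symm e.symm ?_ ?_ (by simp [e, R]))
  · dsimp
    rw [Category.id_comp, Iso.comp_inv_eq]
    exact Pi.hom_ext _ _ fun n => by simp [e, R, ← Functor.map_comp]
  · dsimp
    rw [Iso.comp_inv_eq, Category.assoc, Iso.eq_inv_comp]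
    exact Pi.hom_ext _ _ fun n => by simp [e, R, ← Functor.map_comp]

include hA hF in
theorem isZero_homology_single (M : A) (hM : Pr M) (i : ℤ) (hi : (N : ℤ) ≤ i) :
    IsZero ((homologyFunctor AddCommGrpCat.{t} i).obj ((RF).obj ((singleFunctor A 0).obj M))) := by
  obtain ⟨p, rfl⟩ := Int.eq_ofNat_of_zero_le (show 0 ≤ i by omega)
  obtain ⟨e⟩ := nonempty_iso_homology_single hA F M p
  exact (hF M hM p (by omega)).of_iso e

include hA hF in
theorem isIso_step (E : DerivedCategory A) (hE : ∀ q, Pr ((homologyFunctor A q).obj E)) (n : ℕ) (i : ℤ)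
    (hi : (N : ℤ) ≤ i + n + 1) :
    IsIso ((homologyFunctor AddCommGrpCat.{t} i).map ((RF).map (CohCx.truncTowerMap E n))) := by
  obtain ⟨_, _⟩ := exists_commShift_rf_map hA F
  obtain ⟨Z, g, d, hT, hge, hz, ⟨e⟩⟩ := exists_cone_truncTowerMap E n
  let c : ℤ := -(n : ℤ) - 2
  haveI : Z.IsGE c := hge
  haveI : Z.IsLE c := (DerivedCategory.isLE_iff _ _).2 fun q hq => hz q (by omega)
  obtain ⟨M, ⟨eM⟩⟩ := exists_iso_singleFunctor_obj_of_isGE_of_isLE Z c
  have hM : Pr M := Pr.prop_of_iso
    (e.symm ≪≫ (homologyFunctor A c).mapIso eM ≪≫ (singleFunctorCompHomologyFunctorIso _ c).app M) (hE _)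
  have hzero : ∀ k : ℤ, (N : ℤ) ≤ k - c → IsZero ((homologyFunctor AddCommGrpCat.{t} k).obj ((RF).obj Z)) := fun k hk =>
    (isZero_homology_single hA F Pr N hF M hM (k - c) hk).of_iso
      ((homologyFunctor AddCommGrpCat.{t} k).mapIso ((RF).mapIso (eM ≪≫ WayOut.singleIso M c) ≪≫ ((RF).commShiftIso (-c)).app _) ≪≫
        (Functor.shiftIso (homologyFunctor AddCommGrpCat.{t} 0) (-c) k (k - c) (by omega)).app _)
  exact WayOut.isIso_map_of_vanishing₃ (RF) hT i (hzero i (by omega)) (hzero (i - 1) (by omega))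

include hA hB hF in
/-- cohomology vanishes above the bound -/
theorem isZero_homology_of_le (E : DerivedCategory A) (hE : ∀ q, Pr ((homologyFunctor A q).obj E))
    [HasProduct (CohCx.truncTower E)]
    (hR : CohCx.IsRlimVia (CohCx.truncTower E) (CohCx.truncTowerMap E) E (CohCx.toTruncTower E))
    (b i : ℤ) (hb : b < 0) (hle : E.IsLE b) (hi : b + N - 1 < i) : IsZero ((homologyFunctor AddCommGrpCat.{t} i).obj ((RF).obj E)) := by
  obtain ⟨_, _⟩ := exists_commShift_rf_map hA F
  haveI := hasProductsOfShape_derived hB ℕ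
  let m₀ : ℕ := ((N : ℤ) - i - 1).toNat
  have h0 : IsZero (CohCx.truncTower E m₀) :=
    haveI : E.IsLE (-(m₀ : ℤ) - 1) := (DerivedCategory.TStructure.t (C := A)).isLE_of_le E b _ (by omega)
    (DerivedCategory.TStructure.t (C := A)).isZero_truncGE_obj_of_isLE (-(m₀ : ℤ) - 1) _ (by omega) _
  have hz : ∀ n, m₀ ≤ n → IsZero ((homologyFunctor AddCommGrpCat.{t} i).obj ((RF).obj (CohCx.truncTower E n))) := by
    intro n hn
    induction n, hn using Nat.le_induction with
    | base => exact (homologyFunctor AddCommGrpCat.{t} i).map_isZero ((RF).map_isZero h0)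
    | succ k hk ih =>
      haveI := isIso_step hA F Pr N hF E hE k i (by omega)
      exact ih.of_iso (asIso ((homologyFunctor AddCommGrpCat.{t} i).map ((RF).map (CohCx.truncTowerMap E k))))
  refine isZero_homology_of_isRlimVia hB (fun n => (RF).obj (CohCx.truncTower E n))
    (fun n => (RF).map (CohCx.truncTowerMap E n)) (isRlimVia_map hA F _ _ E _ hR) i (m₀ + 1) (fun n hn => hz n (by omega))
    fun n hn => ?_
  haveI := isIso_step hA F Pr N hF E hE n (i - 1) (by omega)
  infer_instance

include hA hB hF in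
/-- cohomology vanishes above the bound -/
theorem isZero_homology_above
    (hR : ∀ E : DerivedCategory A, (∀ q, Pr ((homologyFunctor A q).obj E)) → ∀ [HasProduct (CohCx.truncTower E)],
      CohCx.IsRlimVia (CohCx.truncTower E) (CohCx.truncTowerMap E) E (CohCx.toTruncTower E))
    (E : DerivedCategory A) (hE : ∀ q, Pr ((homologyFunctor A q).obj E))
    (b i : ℤ) (hle : E.IsLE b) (hi : b + N - 1 < i) : IsZero ((homologyFunctor AddCommGrpCat.{t} i).obj ((RF).obj E)) := by
  obtain ⟨_, _⟩ := exists_commShift_rf_map hA F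
  let k : ℤ := max (b + 1) 0
  have hk : b < k ∧ 0 ≤ k := ⟨lt_of_lt_of_le (lt_add_one b) (le_max_left _ _), le_max_right _ _⟩
  haveI := hle
  have hle' : (E⟦k⟧).IsLE (b - k) := (DerivedCategory.TStructure.t).isLE_shift E b k (b - k) (by omega)
  have hE' : ∀ q, Pr ((homologyFunctor A q).obj (E⟦k⟧)) := fun q =>
    Pr.prop_of_iso (((homologyFunctor A 0).shiftIso k q (k + q) rfl).app E).symm (hE _)
  haveI := hasProductsOfShape_derived hA ℕ
  have h := isZero_homology_of_le hA hB F Pr N hF (E⟦k⟧) hE' (hR _ hE') (b - k) (i - k) (by omega) hle' (by omega)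
  exact h.of_iso ((((homologyFunctor AddCommGrpCat.{t} 0).shiftIso k (i - k) i (by omega)).app _).symm ≪≫
    (homologyFunctor AddCommGrpCat.{t} (i - k)).mapIso (((RF).commShiftIso k).app E).symm)

include hA hB hF in
/-- cohomology in high degrees depends only on a truncation -/
theorem isIso_homology_truncGE
    (hR : ∀ E : DerivedCategory A, (∀ q, Pr ((homologyFunctor A q).obj E)) → ∀ [HasProduct (CohCx.truncTower E)],
      CohCx.IsRlimVia (CohCx.truncTower E) (CohCx.truncTowerMap E) E (CohCx.toTruncTower E))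
    (hP0 : ∀ G : A, IsZero G → Pr G)
    (E : DerivedCategory A) (hE : ∀ q, Pr ((homologyFunctor A q).obj E)) (b i : ℤ) (hi : b ≤ i) :
    IsIso ((homologyFunctor AddCommGrpCat.{t} i).map ((RF).map
      (((DerivedCategory.TStructure.t (C := A)).truncGEπ (b - N + 1)).app E))) := by
  obtain ⟨_, _⟩ := exists_commShift_rf_map hA F
  let tS : Triangulated.TStructure (DerivedCategory A) := DerivedCategory.TStructure.t
  let B : ℤ := b - N + 1
  have hT := tS.triangleLTGE_distinguished B E
  let L := (tS.truncLT B).obj E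
  haveI hL : L.IsLE (B - 1) := tS.isLE_truncLT_obj _ _ _ (by omega)
  have hL' : ∀ q, Pr ((homologyFunctor A q).obj L) := fun q => by
    rcases le_or_gt B q with h | h
    · exact hP0 _ (isZero_of_isLE _ (B - 1) q (by omega))
    · haveI := mono_homology_truncLTι E B q
      haveI : Epi ((homologyFunctor A q).map ((tS.truncLTι B).app E)) :=
        (HomologySequence.epi_homologyMap_mor₁_iff _ hT q).2
          ((isZero_of_isGE ((tS.truncGE B).obj E) B q h).eq_of_tgt _ _)
      haveI := isIso_of_mono_of_epi ((homologyFunctor A q).map ((tS.truncLTι B).app E))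
      exact Pr.prop_of_iso (asIso ((homologyFunctor A q).map ((tS.truncLTι B).app E))).symm (hE q)
  have hz := fun k (hk : b ≤ k) => isZero_homology_above hA hB F Pr N hF hR L hL' (B - 1) k hL (by omega)
  have hT' := (RF).map_distinguished _ hT
  haveI : Mono ((homologyFunctor AddCommGrpCat.{t} i).map ((RF).map ((tS.truncGEπ B).app E))) :=
    (HomologySequence.mono_homologyMap_mor₂_iff _ hT' i).2 ((hz i hi).eq_of_src _ _)
  haveI : Epi ((homologyFunctor AddCommGrpCat.{t} i).map ((RF).map ((tS.truncGEπ B).app E))) :=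
    (HomologySequence.epi_homologyMap_mor₂_iff _ hT' i (i + 1) rfl).2 ((hz (i + 1) (by omega)).eq_of_tgt _ _)
  exact isIso_of_mono_of_epi _

end Groth.Agent.AlgSpLib.RFBound
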