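import Groth.Agent.SiteDer16.RpushBounded
import Groth.Agent.CommAlg4.ExactProd
import Groth.Agent.DCat.DerivedLimits

/-!
Cohomological bounds of unbounded right derived functors with values in abelian groups which commute with countable
products, on objects which are derived limits of their truncations.
-/

set_option autoImplicit false
set_option backward.isDefEq.respectTransparency false
set_option backward.isDefEq.respectTransparency.types false
set_option backward.defeqAttrib.useBackward true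
set_option linter.style.haveILetI false

universe w v u t

open CategoryTheory CategoryTheory.Limits CategoryTheory.Pretriangulated DerivedCategory
open Groth.Agent.DCat Groth.Agent.SiteDer16

noncomputable section

namespace Groth.Agent.AlgSpLib.RFBound

/-- abelian groups as sheaves on a point -/
def pointSections : Sections (C := Discrete PUnit.{1}) ⊥ AddCommGrpCat.{t} where
  P := (Functor.const _).obj (AddCommGrpCat.of (ULift.{t} ℤ))
  sep {V F} x T hT hx := by
    rw [GrothendieckTopology.bot_covering] at hT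
    subst hT
    exact (Category.id_comp x).symm.trans (hx (𝟙 V) trivial)
  lift {V F G} p _ x := by
    refine ⟨⊤, GrothendieckTopology.top_mem _ _, fun W g _ => ?_⟩
    obtain ⟨y, hy⟩ := (AddCommGrpCat.epi_iff_surjective p).1 inferInstance (x ⟨1⟩)
    refine ⟨AddCommGrpCat.ofHom (uliftZMultiplesHom _ y), AddCommGrpCat.hom_ext
      ((uliftZMultiplesHom _).symm.injective ?_)⟩
    show p ((1 : ℤ) • y) = x ⟨1⟩
    rw [one_zsmul]
    exact hy
  gen {F} h := by
    rw [IsZero.iff_id_eq_zero]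
    ext s
    have h1 := congrArg (fun f : AddCommGrpCat.of (ULift.{t} ℤ) ⟶ F => f ⟨1⟩)
      (h ⟨⟨⟩⟩ (AddCommGrpCat.ofHom (uliftZMultiplesHom _ s)))
    have h2 : (1 : ℤ) • s = 0 := h1
    simpa using h2

section Ab

variable [HasDerivedCategory.{w} AddCommGrpCat.{t}] (hB : EnoughKInj AddCommGrpCat.{t})

include hB in
theorem bijective_θ_point (X : DerivedCategory AddCommGrpCat.{t}) :
    Function.Bijective (fun y : (pointSections.{t}).pt.obj ⟨⟨⟩⟩ ⟶ X => pointSections.θ y) := by
  refine ⟨fun y y' h => sub_eq_zero.1 ?_, fun x => ?_⟩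
  · obtain ⟨T, hT, hz⟩ := pointSections.exists_local_zero hB (y - y') (by
      dsimp only at h
      simp only [Sections.θ, Functor.map_sub, Preadditive.comp_sub] at h ⊢
      rw [h, sub_self])
    rw [GrothendieckTopology.bot_covering] at hT
    subst hT
    have := hz (𝟙 _) trivial
    rwa [CategoryTheory.Functor.map_id, Category.id_comp] at this
  · obtain ⟨T, hT, hl⟩ := pointSections.exists_local_lift x
    rw [GrothendieckTopology.bot_covering] at hT
    subst hT
    obtain ⟨y, hy⟩ := hl (𝟙 _) trivial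
    exact ⟨y, hy.trans (by rw [CategoryTheory.Functor.map_id, Category.id_comp])⟩

include hB in
/-- degree `j` homology as morphisms out of a shifted test object -/
theorem exists_homEquiv (j : ℤ) :
    ∃ e : ∀ X, ((((pointSections.{t}).pt.obj ⟨⟨⟩⟩)⟦-j⟧ : DerivedCategory AddCommGrpCat.{t}) ⟶ X) ≃ ((pointSections.{t}).P.obj ⟨⟨⟩⟩ ⟶ (homologyFunctor AddCommGrpCat.{t} j).obj X),
      ∀ (X Y : DerivedCategory AddCommGrpCat.{t}) (f : X ⟶ Y) (y : ((pointSections.{t}).pt.obj ⟨⟨⟩⟩)⟦-j⟧ ⟶ X),
        e Y (y ≫ f) = e X y ≫ (homologyFunctor AddCommGrpCat.{t} j).map f := by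
  let adj := (shiftEquiv (DerivedCategory AddCommGrpCat.{t}) j).symm.toAdjunction
  let η := (homologyFunctor AddCommGrpCat.{t} 0).shiftIso j 0 j (by omega)
  refine ⟨fun X => ((adj.homEquiv ((pointSections.{t}).pt.obj ⟨⟨⟩⟩) X).trans
    (Equiv.ofBijective _ (bijective_θ_point hB _))).trans (η.app X).homToEquiv, fun X Y f y => ?_⟩
  show pointSections.θ (adj.homEquiv _ _ (y ≫ f)) ≫ η.hom.app Y =
    (pointSections.θ (adj.homEquiv _ _ y) ≫ η.hom.app X) ≫ _
  rw [Adjunction.homEquiv_naturality_right, Sections.θ_comp, Category.assoc, Category.assoc]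
  exact congrArg (_ ≫ ·) (η.hom.naturality f)

include hB in
/-- the homology of a derived limit of an eventually constant system -/
theorem isZero_homology_of_isRlimVia (K : ℕ → DerivedCategory AddCommGrpCat.{t}) (tK : ∀ n, K (n + 1) ⟶ K n)
    [HasProduct K] {L : DerivedCategory AddCommGrpCat.{t}} {a : ∀ n, L ⟶ K n} (hL : CohCx.IsRlimVia K tK L a)
    (j : ℤ) (n₀ : ℕ) (hz : ∀ n, n₀ ≤ n → IsZero ((homologyFunctor AddCommGrpCat.{t} j).obj (K n)))
    (hs : ∀ n, n₀ ≤ n → Epi ((homologyFunctor AddCommGrpCat.{t} (j - 1)).map (tK n))) :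
    IsZero ((homologyFunctor AddCommGrpCat.{t} j).obj L) := by
  obtain ⟨e, he⟩ := exists_homEquiv hB j
  obtain ⟨e', he'⟩ := exists_homEquiv hB (j - 1)
  let P := ((pointSections.{t}).pt.obj ⟨⟨⟩⟩)⟦-j⟧
  let Q' := ((pointSections.{t}).pt.obj ⟨⟨⟩⟩)⟦-(j - 1)⟧
  have hs' : ∀ n, n₀ ≤ n → Function.Surjective (fun f : Q' ⟶ K (n + 1) => f ≫ tK n) := fun n hn y => by
    obtain ⟨T, hT, hl⟩ := @Sections.lift _ _ _ _ _ _ (pointSections.{t}) _ _ _ _ (hs n hn) (e' _ y)
    rw [GrothendieckTopology.bot_covering] at hT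
    subst hT
    obtain ⟨z, hz'⟩ := hl (𝟙 _) trivial
    refine ⟨(e' _).symm z, (e' _).injective ?_⟩
    dsimp only
    rw [he', Equiv.apply_symm_apply, hz', CategoryTheory.Functor.map_id, Category.id_comp]
  refine (pointSections.{t}).gen fun V x => ?_
  obtain ⟨⟨⟩⟩ := V
  obtain ⟨y, rfl⟩ := (e L).surjective x
  have hy : ∀ n, n₀ ≤ n → y ≫ a n = 0 := fun n hn => (e _).injective ((hz n hn).eq_of_tgt _ _)
  have hy' : ∀ n, y ≫ a n = 0 := by
    have hc := comp_eq_of_isRlimVia K tK hL
    suffices ∀ k n, n₀ ≤ n + k → y ≫ a n = 0 from fun n => this n₀ n (by omega)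
    intro k
    induction k with
    | zero => exact fun n h => hy n (by omega)
    | succ k ih =>
      intro n h
      rw [← hc n, ← Category.assoc, ih (n + 1) (by omega), zero_comp]
  obtain ⟨c, hT⟩ := hL
  obtain ⟨g, hg⟩ := Triangle.coyoneda_exact₁ _ hT (y⟦(1 : ℤ)⟧') (by
    rw [← Functor.map_comp]
    exact (congrArg _ (Pi.hom_ext _ _ fun n => by simpa using hy' n : y ≫ Pi.lift a = 0)).trans (Functor.map_zero _ _ _))
  let ψ : P⟦(1 : ℤ)⟧ ≅ Q' :=
    ((shiftFunctorAdd' (DerivedCategory AddCommGrpCat.{t}) (-j) 1 (-(j - 1)) (by omega)).app _).symm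
  obtain ⟨w, hw⟩ := exists_difference K tK (P⟦(1 : ℤ)⟧) n₀ (fun n hn z => by
    obtain ⟨z', hz'⟩ := hs' n hn (ψ.inv ≫ z)
    dsimp only at hz'
    exact ⟨ψ.hom ≫ z', by dsimp only; rw [Category.assoc, hz', Iso.hom_inv_id_assoc]⟩) (fun n => g ≫ Pi.π K n)
  have hgw : g = Pi.lift w ≫ (Pi.lift fun n => Pi.π K n - Pi.π K (n + 1) ≫ tK n) := Pi.hom_ext _ _ fun n => by
    simp only [Category.assoc, Pi.lift_π, Preadditive.comp_sub, Pi.lift_π_assoc]
    exact (hw n).symm
  have hy0 : y = 0 := by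
    apply (shiftFunctor (DerivedCategory AddCommGrpCat.{t}) (1 : ℤ)).map_injective
    rw [Functor.map_zero, hg, hgw, Category.assoc]
    exact (congrArg _ (comp_distTriang_mor_zero₂₃ _ hT)).trans comp_zero
  rw [hy0]
  have := he L L 0 0
  simpa using this

end Ab

end Groth.Agent.AlgSpLib.RFBound
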