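import Groth.Agent.CAlgH.KindScheme
import Groth.Agent.SDiv28.RegImmKinds
import Groth.Agent.AlgSpLib.EtaleTarget
import Groth.Agent.Stk19b.InvSub
import Groth.Agent.EGA41Lib.QuasiRegular
import Groth.Agent.AlgSpLib.FlatAt
import Groth.Prelude.Def_AlgSpMor6

/-!
Koszul, H1 and quasi regular immersions descend along fppf coverings of schemes.
-/

universe u

open CategoryTheory CategoryTheory.Limits AlgebraicGeometry
open Groth.Agent.CAlgH Groth.Agent.CAlgH.KindScheme Groth.Agent.CAlgH.KindBasic Groth.Agent.CAlgH.KindDescent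

set_option backward.isDefEq.respectTransparency false

namespace Groth.Agent.AlgSpLib

variable {X X' Y Y' : Scheme.{u}}

theorem of_baseChange_family {κ : RegImm.Kind} (hκ : κ ≠ .regular) (i : Y ⟶ X) [IsImmersion i]
    (hcov : ∀ x : X, ∃ (X' : Scheme.{u}) (g : X' ⟶ X), Flat g ∧ LocallyOfFinitePresentation g ∧
      x ∈ Set.range g ∧ RegImm.IsRegularImmersion κ (pullback.snd i g)) :
    RegImm.IsRegularImmersion κ i := by
  refine ⟨inferInstance, fun z => ?_⟩
  obtain ⟨⟨U, hU⟩, hz, hc⟩ := KoszulDescentScheme.exists_closed_chart i z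
  have key : ∀ x : ↥U, ∃ (X' : Scheme.{u}) (g : X' ⟶ X) (W : X'.affineOpens), Flat g ∧
      LocallyOfFinitePresentation g ∧ RegImm.IsRegularImmersion κ (pullback.snd i g) ∧
      W.1 ≤ g ⁻¹ᵁ U ∧ (x : X) ∈ g '' (W.1 : Set X') := fun x => by
    obtain ⟨X', g, h1, h2, ⟨y, hy⟩, h3⟩ := hcov x
    obtain ⟨_, ⟨W, hW, rfl⟩, hyW, hle⟩ := X'.isBasis_affineOpens.exists_subset_of_mem_open
      (show y ∈ g ⁻¹ᵁ U from show g y ∈ U from hy ▸ x.2) (g ⁻¹ᵁ U).2
    exact ⟨X', g, ⟨W, hW⟩, h1, h2, h3, hle, y, hyW, hy⟩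
  choose X₀ g₀ W₀ hfl₀ hfp₀ hreg₀ hle₀ hmem₀ using key
  obtain ⟨σ, hσ⟩ := hU.isCompact.elim_finite_subcover (fun x => g₀ x '' ((W₀ x).1 : Set (X₀ x)))
    (fun x => have := hfl₀ x; have := hfp₀ x; (g₀ x).isOpenMap _ (W₀ x).1.2)
    (fun x hx => Set.mem_iUnion.2 ⟨⟨x, hx⟩, hmem₀ ⟨x, hx⟩⟩)
  let S : Type u := {x : ↥U // x ∈ σ}
  have hle : ∀ x : S, (W₀ x.1).1 ≤ g₀ x.1 ⁻¹ᵁ U := fun x => hle₀ x.1
  let B : S → Type u := fun x => Γ(X₀ x.1, (W₀ x.1).1)
  let : ∀ x : S, Algebra Γ(X, U) (B x) := fun x => ((g₀ x.1).appLE U (W₀ x.1).1 (hle x)).hom.toAlgebra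
  have hflat : ∀ x : S, Module.Flat Γ(X, U) (B x) := fun x =>
    HasRingHomProperty.appLE @Flat (g₀ x.1) (hfl₀ x.1) ⟨U, hU⟩ (W₀ x.1) (hle x)
  have : Module.Flat Γ(X, U) (∀ W, B W) := by
    classical
    exact Module.Flat.of_linearEquiv (DFinsupp.linearEquivFunOnFintype (R := Γ(X, U)) (M := B)).symm
  have : Module.FaithfullyFlat Γ(X, U) (∀ W, B W) := by
    refine Module.FaithfullyFlat.of_comap_surjective fun p => ?_
    obtain ⟨x, hx, y, hyW, hy⟩ := Set.mem_iUnion₂.1 (hσ (hU.range_fromSpec.le ⟨p, rfl⟩))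
    obtain ⟨q, hq⟩ := (W₀ x).2.range_fromSpec.ge hyW
    refine ⟨PrimeSpectrum.comap (Pi.evalRingHom B ⟨x, hx⟩) q, hU.fromSpec.isOpenEmbedding.injective ?_⟩
    rw [← hy, ← hq, ← Scheme.Hom.comp_apply, ← hU.SpecMap_appLE_fromSpec (g₀ x) (W₀ x).2 (hle ⟨x, hx⟩), Scheme.Hom.comp_apply]
    rfl
  have hI : IsKIdeal κ ((RingHom.ker (i.app U).hom).map (algebraMap Γ(X, U) (∀ W, B W))) := by
    refine isKIdeal_pi B _ fun x => ?_
    have := hfl₀ x.1
    obtain ⟨h1, h2⟩ := KoszulChart.baseChange i (g₀ x.1) (pullback.snd i (g₀ x.1)) (pullback.fst i (g₀ x.1))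
      (IsPullback.of_hasPullback _ _) hU (W₀ x.1).2 (hle x)
    have := isKIdeal_ker hκ (pullback.snd i (g₀ x.1)) (hreg₀ x.1) (W₀ x.1).2
    rw [h2] at this
    exact this
  have hmemiff : ∀ a : Γ(X, U), i z ∈ X.basicOpen a ↔ a ∉ (hU.primeIdealOf ⟨i z, hz⟩).asIdeal := fun a => by
    conv_lhs => rw [show i z = hU.fromSpec (hU.primeIdealOf ⟨i z, hz⟩) from (hU.fromSpec_primeIdealOf ⟨i z, hz⟩).symm]
    show hU.primeIdealOf ⟨i z, hz⟩ ∈ hU.fromSpec ⁻¹ᵁ X.basicOpen a ↔ _
    rw [hU.fromSpec_preimage_basicOpen]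
    rfl
  have hp : RingHom.ker (i.app U).hom ≤ (hU.primeIdealOf ⟨i z, hz⟩).asIdeal := by
    intro a ha
    by_contra hna
    have hmem : i z ∈ X.basicOpen a := (hmemiff a).2 hna
    have h1 : z ∈ i ⁻¹ᵁ X.basicOpen a := hmem
    rw [Scheme.preimage_basicOpen, show i.app U a = 0 from ha, Scheme.basicOpen_zero] at h1
    exact h1
  obtain ⟨a, ha, r, l, hl, hle'⟩ :=
    isKIdeal_of_faithfullyFlat (B := ∀ W, B W) _ hI (hU.primeIdealOf ⟨i z, hz⟩) hp
  let := (X.presheaf.map (homOfLE (X.basicOpen_le a)).op).hom.toAlgebra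
  have : IsLocalization.Away a Γ(X, X.basicOpen a) := hU.isLocalization_basicOpen a
  obtain ⟨ss, hss, hkss⟩ := exists_away_model a (Localization.Away a) Γ(X, X.basicOpen a) _ l hl hle'
  obtain ⟨h1, h2⟩ := KoszulChart.restrict i hU (hU.basicOpen a) (X.basicOpen_le a)
  refine ⟨⟨_, hU.basicOpen a⟩, (hmemiff a).2 ha, h1, List.ofFn ss, (seq_ofFn_iff hκ ss).2 hss, ?_⟩
  rw [h2]
  exact hkss.trans (congrArg Ideal.span (Set.ext fun x => by simp))

theorem respectsIso_regImm (κ : RegImm.Kind) :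
    (AlgSp.regImm κ : MorphismProperty Scheme.{u}).RespectsIso := by
  refine MorphismProperty.RespectsIso.mk _ (fun e f hf => ?_) (fun e f hf => ?_)
  · exact SDiv28.RegImmKinds.baseChange_flat κ f (𝟙 _) (e.hom ≫ f) e.hom
      (IsPullback.of_horiz_isIso ⟨by simp⟩) hf
  · exact SDiv28.RegImmKinds.baseChange_flat κ f e.inv (f ≫ e.hom) (𝟙 _)
      (IsPullback.of_horiz_isIso ⟨by simp⟩) hf

theorem isLocalAtTarget_regImm {κ : RegImm.Kind} (hκ : κ ≠ .regular) :
    (AlgSp.regImm κ : MorphismProperty Scheme.{u}).IsLocalAtTarget Scheme.etalePrecoverage := by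
  have := respectsIso_regImm.{u} κ
  refine MorphismProperty.IsLocalAtTarget.mk_of_iff fun A B f R hR => ⟨fun hf U g _ hg => ?_, fun h => ?_⟩
  · have : Etale g := hR.2 hg
    exact SDiv28.RegImmKinds.baseChange_flat κ f g _ _ (IsPullback.of_hasPullback f g) hf
  · haveI : MorphismProperty.IsLocalAtTarget (@IsImmersion.{u}) Scheme.etalePrecoverage :=
      MorphismProperty.IsLocalAtTarget.of_le (L := Scheme.fppfPrecoverage)
        (Scheme.precoverage_mono fun _ _ f (_ : Etale f) => ⟨inferInstance, inferInstance⟩)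
    haveI : IsImmersion f := MorphismProperty.IsLocalAtTarget.of_forall_pullbackSnd
      (P := @IsImmersion) (K := Scheme.etalePrecoverage) hR fun {U g} _ hg => (h g hg).1
    refine of_baseChange_family hκ f fun x => ?_
    obtain ⟨U, g, hg, hx⟩ := (Presieve.mem_comap_jointlySurjectivePrecoverage_iff (F := Scheme.forget)).1 hR.1 x
    have : Etale g := hR.2 hg
    exact ⟨U, g, inferInstance, inferInstance, hx, h g hg⟩

theorem seq_koszul_of_quasi {R : Type u} [CommRing R] [IsNoetherianRing R] {rs : List R}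
    (h : RegImm.Kind.Seq .quasi R rs) : RegImm.Kind.Seq .koszul R rs := by
  refine (seq_iff (by simp) rs).2 (seqF_of_local fun q _ hq => ?_)
  have hflat : (algebraMap R (Localization.AtPrime q)).Flat :=
    RingHom.flat_algebraMap_iff.2 (IsLocalization.flat _ q.primeCompl)
  have hquasi : CAlgX.IsQuasiRegular fun i => algebraMap R (Localization.AtPrime q) (rs.get i) :=
    SeqF.map (k := .quasi) hflat ((seq_iff (by simp) rs).1 h)
  exact SDiv28.RegSeq.kreg_of_regular (EGA41Lib.isWeaklyRegular_of_isQuasiRegular _ _ _ (fun i m hm => by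
    rw [IsLocalRing.eq_maximalIdeal hm]
    rw [← Localization.AtPrime.map_eq_maximalIdeal (I := q)]
    exact Ideal.mem_map_of_mem _ (hq (Ideal.subset_span ⟨i, rfl⟩))) hquasi)

theorem regImm_koszul_of_quasi {Z X : Scheme.{u}} [IsLocallyNoetherian X] {i : Z ⟶ X}
    (h : RegImm.IsRegularImmersion .quasi i) : RegImm.IsRegularImmersion .koszul i := by
  refine ⟨h.1, fun z => ?_⟩
  obtain ⟨U, hz, hc, rs, hrs, hker⟩ := h.2 z
  have := IsLocallyNoetherian.component_noetherian (X := X) U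
  exact ⟨U, hz, hc, rs, seq_koszul_of_quasi hrs, hker⟩

open AlgSp in
theorem isRegImmMor_baseChange {S : Scheme.{u}} {κ : RegImm.Kind} (hκ : κ ≠ .regular) {Z X X' P : AlgSp.Space S}
    (i : Z ⟶ X) (g : X' ⟶ X) (hi : IsRegImmMor κ i.hom) (hg : LocP @Flat g.hom) (fst : P ⟶ Z) (i' : P ⟶ X')
    (sq : IsPullback fst.hom i'.hom i.hom g.hom) : IsRegImmMor κ i'.hom := by
  haveI := isLocalAtTarget_regImm.{u} hκ
  refine ⟨MorphismProperty.of_isPullback sq hi.1, fun V' W' b' fst' snd' hb' sq' => ?_⟩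
  obtain ⟨V, b, hb1, hb2⟩ := X.property.atlas
  have hr := X.property.representable_from_yon b
  have sqT := hr.isPullback' (b' ≫ g.hom)
  let q := hr.fst' (b' ≫ g.hom)
  let p := hr.snd (b' ≫ g.hom)
  have : Etale p.left := hb1.property_snd _
  have : Surjective p.left := hb2.property_snd _
  have ha : RepWith @Etale ((yon S).map p ≫ b') :=
    RepWith.comp ((repWith_yon_map_iff _ p).2 ‹Etale p.left›) hb'
  have : Flat q.left := hg ((yon S).map p ≫ b') b q ha hb1 (by rw [Category.assoc, ← sqT.w])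
  have sW := hi.1.isPullback b
  have hreg := hi.2 b (hi.1.fst b) (hi.1.snd b) hb1 sW
  have s0 := IsPullback.of_hasPullback snd' p
  have big : IsPullback (((yon S).map (pullback.fst snd' p) ≫ fst') ≫ fst.hom) ((yon S).map (pullback.snd snd' p))
      i.hom ((yon S).map q ≫ b) := by
    rw [sqT.w]
    rw [← Category.assoc]
    exact ((s0.map (yon S)).paste_horiz sq').paste_horiz sq
  let m : pullback snd' p ⟶ hi.1.pullback b := hi.1.lift (((yon S).map (pullback.fst snd' p) ≫ fst') ≫ fst.hom)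
    (pullback.snd snd' p ≫ q) (by rw [Functor.map_comp, Category.assoc]; exact big.w)
  have hm2 : m ≫ hi.1.snd b = pullback.snd snd' p ≫ q := hi.1.lift_snd _ _ _
  have s1 : IsPullback ((yon S).map m) ((yon S).map (pullback.snd snd' p)) ((yon S).map (hi.1.snd b)) ((yon S).map q) :=
    IsPullback.of_right (by rw [hi.1.lift_fst]; exact big) (by rw [← Functor.map_comp, ← Functor.map_comp, hm2]) sW
  have s2 : IsPullback m (pullback.snd snd' p) (hi.1.snd b) q := IsPullback.of_map (yon S) hm2 s1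
  have : regImm κ (pullback.snd snd' p).left :=
    SDiv28.RegImmKinds.baseChange_flat κ _ q.left _ _ (s2.map (Over.forget S)) hreg
  exact property_of_etale_cover (g := p.left) (s0.map (Over.forget S)) this

end Groth.Agent.AlgSpLib
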