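import Groth.Agent.CAlgH.KoszulImmersion
import Groth.Agent.CAlgH.KindBasic
import Groth.Agent.CAlgSmall.H1Regular
import Groth.Agent.AlgSpLib.RegImmDescent

/-!
Composition of H1-regular and quasi-regular immersions.
-/

universe u

open CategoryTheory CategoryTheory.Limits AlgebraicGeometry
open Groth.Agent.CAlgH

noncomputable section

namespace Groth.Agent.AlgSpLib

set_option backward.isDefEq.respectTransparency.types false
set_option backward.isDefEq.respectTransparency false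

open Groth.Agent.CAlgH.KindBasic in
theorem kind_map {κ : RegImm.Kind} (hκ : κ ≠ .regular) {A B : Type u} [CommRing A] [CommRing B] {φ : A →+* B}
    (hφ : φ.Flat) {l : List A} (h : κ.Seq A l) : κ.Seq B (l.map φ) := by
  have h1 : SeqF κ fun i => φ (l.get i) := SeqF.map hφ ((seq_iff hκ l).1 h)
  have h2 := (seq_ofFn_iff hκ _).2 h1
  rwa [show (fun i => φ (l.get i)) = φ ∘ l.get from rfl, ← List.map_ofFn, List.ofFn_get] at h2

open Groth.Agent.CAlgH.KindBasic in
theorem kind_append {A B : Type u} [CommRing A] [CommRing B] {φ : A →+* B} (hφ : Function.Surjective φ)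
    {m l : List A} (hker : RingHom.ker φ = Ideal.ofList m) (hl : RegImm.Kind.h1.Seq B (l.map φ)) :
    (RegImm.Kind.h1.Seq A m → RegImm.Kind.h1.Seq A (List.ofFn (Fin.append m.get l.get))) ∧
      (RegImm.Kind.quasi.Seq A m → RegImm.Kind.quasi.Seq A (List.ofFn (Fin.append m.get l.get))) := by
  let I : Ideal A := Ideal.span (Set.range m.get)
  have hI : RingHom.ker φ = I := hker.trans (congrArg Ideal.span (Set.range_list_get m).symm)
  let e : A ⧸ I ≃+* B := (Ideal.quotEquivOfEq hI.symm).trans (RingHom.quotientKerEquivOfSurjective hφ)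
  have he : ∀ a, e.symm (φ a) = Ideal.Quotient.mk I a := fun a => e.symm_apply_eq.2 rfl
  have hg : CAlgX.IsH1Regular (fun j => Ideal.Quotient.mk I (l.get j)) := by
    have h0 : RegImm.Kind.h1.Seq B (List.ofFn (φ ∘ l.get)) := by
      rwa [← List.map_ofFn, List.ofFn_get]
    have h1 : SeqF .h1 (φ ∘ l.get) := (seq_ofFn_iff (by simp) _).1 h0
    have h2 := SeqF.map (φ := e.symm.toRingHom) (RingHom.Flat.of_bijective e.symm.bijective) h1
    have h3 : (fun i => e.symm.toRingHom ((φ ∘ l.get) i)) = fun j => Ideal.Quotient.mk I (l.get j) :=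
      funext fun j => he _
    rw [h3] at h2
    exact h2
  exact ⟨fun hm => (seq_ofFn_iff (by simp) _).2 (CAlgSmall.H1.append _ _ hm hg),
    fun hm => (seq_ofFn_iff (by simp) _).2 (CAlgSmall.H1.isQuasiRegular_append _ _ hm hg)⟩

theorem ofList_ofFn_append {A : Type u} [CommRing A] (m l : List A) :
    Ideal.ofList (List.ofFn (Fin.append m.get l.get)) = Ideal.ofList m ⊔ Ideal.ofList l := by
  rw [List.ofFn_fin_append, List.ofFn_get, List.ofFn_get, Ideal.ofList_append]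

theorem regImm_comp_kind {κ₁ κ₂ κ₃ : RegImm.Kind} (h1 : κ₁ ≠ .regular) (h2 : κ₂ ≠ .regular)
    (H : ∀ (A B : Type u) [CommRing A] [CommRing B] (φ : A →+* B), Function.Surjective φ → ∀ m l : List A,
      RingHom.ker φ = Ideal.ofList m → κ₁.Seq A m → κ₂.Seq B (l.map φ) →
      κ₃.Seq A (List.ofFn (Fin.append m.get l.get)))
    {X Y Z : Scheme.{u}} (i : Y ⟶ X) (j : Z ⟶ Y) (hi : RegImm.IsRegularImmersion κ₁ i)
    (hj : RegImm.IsRegularImmersion κ₂ j) : RegImm.IsRegularImmersion κ₃ (j ≫ i) := by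
  have := hi.1
  have := hj.1
  refine ⟨inferInstance, fun z => ?_⟩
  obtain ⟨⟨U, hU⟩, hz, hc, rs, hrs, hker⟩ := hi.2 (j z)
  obtain ⟨⟨V, hV⟩, hzV, hcV, ss, hss, hkerj⟩ := hj.2 z
  replace hc : IsClosedImmersion (i ∣_ U) := hc
  replace hcV : IsClosedImmersion (j ∣_ V) := hcV
  obtain ⟨O, hO, hOeq⟩ := (IsClosedImmersion.base_closed (f := i ∣_ U)).toIsEmbedding.toIsInducing.isOpen_iff.1
    (show IsOpen ((i ⁻¹ᵁ U).ι ⁻¹ᵁ V : Set (i ⁻¹ᵁ U).toScheme) from ((i ⁻¹ᵁ U).ι ⁻¹ᵁ V).2)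
  let O' : X.Opens := U.ι ''ᵁ ⟨O, hO⟩
  have hmemO : ∀ w : (i ⁻¹ᵁ U).toScheme, i ((i ⁻¹ᵁ U).ι w) ∈ O' ↔ (i ⁻¹ᵁ U).ι w ∈ V := by
    intro w
    have h1 : ((i ∣_ U) w ∈ O) ↔ (i ⁻¹ᵁ U).ι w ∈ V := Set.ext_iff.1 hOeq w
    rw [← h1, ← Scheme.Hom.comp_apply, ← morphismRestrict_ι, Scheme.Hom.comp_apply]
    exact U.ι.isOpenEmbedding.injective.mem_set_image
  obtain ⟨a, hale, hza⟩ := hU.exists_basicOpen_le (V := O') ⟨i (j z), (hmemO ⟨j z, hz⟩).2 hzV⟩ hz
  have hD := hU.basicOpen a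
  have hWV : i ⁻¹ᵁ X.basicOpen a ≤ V := fun y hy => (hmemO ⟨y, X.basicOpen_le a hy⟩).1 (hale hy)
  obtain ⟨hiD, hker'⟩ := KoszulChart.restrict i hU hD (X.basicOpen_le a)
  have hrs' := kind_map h1 (KoszulChart.flat_restrict hU hD (X.basicOpen_le a)) hrs
  have hW : IsAffineOpen (i ⁻¹ᵁ X.basicOpen a) := by
    have : IsAffine (X.basicOpen a).toScheme := hD
    exact isAffine_of_isAffineHom (i ∣_ X.basicOpen a)
  obtain ⟨hjW, hkerj'⟩ := KoszulChart.restrict j hV hW hWV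
  have hss' := kind_map h2 (KoszulChart.flat_restrict hV hW hWV) hss
  rw [hker, Ideal.map_ofList] at hker'
  rw [hkerj, Ideal.map_ofList] at hkerj'
  refine ⟨⟨_, hD⟩, hza, by rw [morphismRestrict_comp]; infer_instance, ?_⟩
  have hsurj := RegImmStalk.app_surjective_of_restrict i hD
  generalize hS : ss.map (Y.presheaf.map (homOfLE hWV).op).hom = ss' at hss' hkerj'
  generalize hR : rs.map (X.presheaf.map (homOfLE (X.basicOpen_le a)).op).hom = rs' at hrs' hker'
  let ls : List Γ(X, X.basicOpen a) := ss'.map (Function.surjInv hsurj)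
  have hls' : ls.map (i.app (X.basicOpen a)).hom = ss' := by
    rw [List.map_map, show (i.app (X.basicOpen a)).hom ∘ Function.surjInv hsurj = id from
      funext (Function.surjInv_eq hsurj), List.map_id]
  refine ⟨List.ofFn (Fin.append rs'.get ls.get), H _ _ _ hsurj rs' ls hker' hrs' (hls' ▸ hss'), ?_⟩
  rw [Scheme.Hom.comp_app, CommRingCat.hom_comp, ← RingHom.comap_ker, hkerj', ← hls', ← Ideal.map_ofList,
    Ideal.comap_map_of_surjective _ hsurj, ← RingHom.ker_eq_comap_bot, hker', ofList_ofFn_append, sup_comm]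

open AlgSp in
theorem isRegImmMor_comp {S : Scheme.{u}} {κ₁ κ₂ κ₃ : RegImm.Kind}
    (H : ∀ {X Y Z : Scheme.{u}} (i : Y ⟶ X) (j : Z ⟶ Y), RegImm.IsRegularImmersion κ₁ i →
      RegImm.IsRegularImmersion κ₂ j → RegImm.IsRegularImmersion κ₃ (j ≫ i))
    {Z Y X : Sp S} (i : Z ⟶ Y) (j : Y ⟶ X) (hi : IsRegImmMor κ₂ i) (hj : IsRegImmMor κ₁ j) :
    IsRegImmMor κ₃ (i ≫ j) := by
  refine ⟨MorphismProperty.comp_mem _ i j hi.1 hj.1, fun V W b fst snd hb sq => ?_⟩
  have sqY := hj.1.isPullback b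
  let WY := hj.1.pullback b
  have hy : RepWith @Etale (hj.1.fst b) := RepWith.baseChange sqY.flip hb
  obtain ⟨l, hl⟩ := (yon S).map_surjective (sqY.lift (fst ≫ i) ((yon S).map snd)
    ((Category.assoc _ _ _).trans sq.w))
  have e1 : (yon S).map l ≫ hj.1.fst b = fst ≫ i := by rw [hl, IsPullback.lift_fst]
  have e2 : l ≫ hj.1.snd b = snd := (yon S).map_injective (by
    rw [Functor.map_comp, hl, IsPullback.lift_snd])
  have sq' : IsPullback fst ((yon S).map l) i (hj.1.fst b) :=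
    IsPullback.of_bot (v₂₁ := (yon S).map (hj.1.snd b)) (v₂₂ := j) (h₃₁ := b)
      (by rw [← Functor.map_comp, e2]; exact sq) e1.symm sqY
  have h3 := H (hj.1.snd b).left l.left (hj.2 b _ _ hb sqY) (hi.2 _ _ _ hy sq')
  rw [show snd.left = l.left ≫ (hj.1.snd b).left from (congrArg (fun t => t.left) e2).symm]
  exact h3

end Groth.Agent.AlgSpLib
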