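import Groth.Agent.AlgSpLib.SchImage
import Groth.Agent.EGA43.SchDom
import Groth.Agent.AlgSpLib.MorSep
import Groth.Agent.AlgSpLib.RedUniv
import Groth.Agent.AlgSpLib.ReducedSpace

/-!
Schematically dense open subspaces and scheme theoretic images.
-/

universe u

open CategoryTheory CategoryTheory.Limits AlgebraicGeometry
open AlgSp

noncomputable section

namespace Groth.Agent.AlgSpLib

set_option backward.isDefEq.respectTransparency.types false

theorem res_res {X : Scheme.{u}} {A B C : X.Opens} (h1 : A ≤ B) (h2 : B ≤ C) (t : Γ(X, C)) :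
    X.presheaf.map (homOfLE h1).op (X.presheaf.map (homOfLE h2).op t) = X.presheaf.map (homOfLE (h1.trans h2)).op t := by
  rw [← CommRingCat.comp_apply, ← X.presheaf.map_comp]
  rfl

theorem res_eq_zero {X : Scheme.{u}} {A B C : X.Opens} (h1 : A ≤ B) (h2 : B ≤ C) (t : Γ(X, C))
    (h : X.presheaf.map (homOfLE h2).op t = 0) : X.presheaf.map (homOfLE (h1.trans h2)).op t = 0 := by
  rw [← res_res h1 h2, h, map_zero]

theorem image_preimage_le {X : Scheme.{u}} (W V : X.Opens) : W.ι ''ᵁ (W.ι ⁻¹ᵁ V) ≤ V ⊓ W := by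
  rw [Scheme.Hom.image_preimage_eq_opensRange_inf, Scheme.Opens.opensRange_ι, inf_comm]

theorem le_image_preimage {X : Scheme.{u}} (W V : X.Opens) : V ⊓ W ≤ W.ι ''ᵁ (W.ι ⁻¹ᵁ V) := by
  rw [Scheme.Hom.image_preimage_eq_opensRange_inf, Scheme.Opens.opensRange_ι, inf_comm]

theorem ker_ι_eq_bot_of_dense {X : Scheme.{u}} {W : X.Opens} (h : CInt.IsSchematicallyDense W) : W.ι.ker = ⊥ := by
  refine le_bot_iff.1 fun U t ht => ?_
  rw [Scheme.IdealSheafData.ideal_bot, Pi.bot_apply, Ideal.mem_bot]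
  have h0 : W.ι.app U.1 t = 0 := RingHom.mem_ker.1 (W.ι.ideal_ker_le U ht)
  refine h U.1 ?_
  rw [map_zero]
  rw [Scheme.Opens.ι_app] at h0
  exact res_eq_zero (le_image_preimage W U.1) _ t h0

theorem dense_of_ker_ι_eq_bot {X : Scheme.{u}} {W : X.Opens} [QuasiCompact W.ι] (h : W.ι.ker = ⊥) :
    CInt.IsSchematicallyDense W := by
  intro V
  rw [injective_iff_map_eq_zero]
  intro t ht
  refine TopCat.Presheaf.section_ext X.sheaf V t 0 fun x hx => ?_
  obtain ⟨_, ⟨U, hU, rfl⟩, hxU, hle⟩ := X.isBasis_affineOpens.exists_subset_of_mem_open hx V.2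
  have hUV : U ≤ V := hle
  have h0 : X.presheaf.map (homOfLE hUV).op t = 0 := by
    have hk : X.presheaf.map (homOfLE hUV).op t ∈ W.ι.ker.ideal ⟨U, hU⟩ := by
      rw [Scheme.Hom.ker_apply, RingHom.mem_ker, Scheme.Opens.ι_app]
      refine (res_res _ hUV t).trans ?_
      exact res_eq_zero ((image_preimage_le W U).trans (inf_le_inf_right _ hUV)) _ t ht
    rw [h] at hk
    simpa using hk
  have := congrArg (X.presheaf.germ U x hxU) h0
  rw [map_zero, TopCat.Presheaf.germ_res_apply] at this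
  exact this.trans (map_zero _).symm

theorem dense_of_dense_reduced {X : Scheme.{u}} [IsReduced X] {W : X.Opens} (h : Dense (W : Set X)) :
    CInt.IsSchematicallyDense W := by
  have hd : EGA43.SchDom (fun _ : PUnit.{1} => W.ι) :=
    EGA43.schDom_of_dense (by rw [Set.iUnion_const, Scheme.Opens.range_ι]; exact h)
  intro V
  rw [injective_iff_map_eq_zero]
  intro t ht
  refine hd V t fun _ => ?_
  rw [Scheme.Opens.ι_app]
  exact res_eq_zero (image_preimage_le W V) _ t ht

variable {S : Scheme.{u}} {F G Z : Sp S}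

theorem exists_open_chart {j : F ⟶ G} (hj : RepWith @IsOpenImmersion j) {V : Over S} (φ : (yon S).obj V ⟶ G) :
    ∃ (W : V.left.Opens) (fst : (yon S).obj (Over.mk (W.ι ≫ V.hom)) ⟶ F),
      IsPullback fst ((yon S).map (Over.homMk W.ι rfl : Over.mk (W.ι ≫ V.hom) ⟶ V)) j φ := by
  have : IsOpenImmersion (hj.1.snd φ).left := hj.property_snd φ
  let g := (hj.1.snd φ).left
  let e : hj.1.pullback φ ≅ Over.mk (g.opensRange.ι ≫ V.hom) :=
    Over.isoMk g.isoOpensRange (by
      show g.isoOpensRange.hom ≫ g.opensRange.ι ≫ V.hom = _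
      rw [g.isoOpensRange_hom_ι_assoc]
      exact Over.w (hj.1.snd φ))
  refine ⟨g.opensRange, (yon S).map e.inv ≫ hj.1.fst φ, (hj.1.isPullback φ).of_iso ((yon S).mapIso e) (Iso.refl _)
    (Iso.refl _) (Iso.refl _) ?_ ?_ (by simp) (by simp)⟩
  · simp only [Iso.refl_hom, Category.comp_id, Functor.mapIso_hom, ← Category.assoc, ← Functor.map_comp,
      Iso.hom_inv_id, CategoryTheory.Functor.map_id, Category.id_comp]
  · simp only [Iso.refl_hom, Category.comp_id, Functor.mapIso_hom, ← Functor.map_comp]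
    congr 1
    ext : 1
    exact g.isoOpensRange_hom_ι.symm

/-- the image chart of an open subspace -/
def openChart {j : F ⟶ G} {V : Over S} {φ : (yon S).obj V ⟶ G} (he : RepWith @Etale φ)
    (hs : RepWith @Surjective φ) {W : V.left.Opens} {fst : (yon S).obj (Over.mk (W.ι ≫ V.hom)) ⟶ F}
    (sq : IsPullback fst ((yon S).map (Over.homMk W.ι rfl : Over.mk (W.ι ≫ V.hom) ⟶ V)) j φ) : ImgChart j :=
  ⟨V, φ, he, hs, _, fst, _, sq, _, 𝟙 _, repWith_id _ _, repWith_id _ _, Over.homMk W.ι rfl, Category.id_comp _⟩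

theorem repWith_id_closedImmersion (G : Sp S) : RepWith @IsClosedImmersion (𝟙 G) := by
  refine MorphismProperty.relative.of_exists fun T g => ⟨T, g, 𝟙 T, ?_, ?_⟩
  · rw [(yon S).map_id]
    exact IsPullback.of_vert_isIso ⟨by simp⟩
  · exact inferInstanceAs (IsClosedImmersion (𝟙 T.left))

theorem chartIdeal_id (G : Sp S) {V : Over S} (p : (yon S).obj V ⟶ G) :
    chartIdeal (repWith_id_closedImmersion G) p = ⊥ :=
  (factors_yon_iff _ p).1 ⟨p, Category.comp_id p⟩

theorem isSchImage_top_of_isSchDense {j : F ⟶ G} (hj : IsSchDense j) : IsSchImage j (𝟙 G) := by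
  obtain ⟨V, φ, W, fst, he, hs, sq, hW⟩ := hj.2
  exact isSchImage_of_chartIdeal_eq (openChart he hs sq) (repWith_id_closedImmersion G)
    ((chartIdeal_id G φ).trans (ker_ι_eq_bot_of_dense hW).symm)

theorem isSchDense_of_isSchImage_top (hF : IsAlgSpace F) (hG : IsAlgSpace G) {j : F ⟶ G}
    (hj : RepWith @IsOpenImmersion j) (hq : IsQuasiCompactMor j) (h : IsSchImage j (𝟙 G)) : IsSchDense j := by
  obtain ⟨V, p, he, hs⟩ := hG.atlas
  obtain ⟨W, fst, sq⟩ := exists_open_chart hj p
  have hqc : QuasiCompact W.ι := ((repWith_quasiCompact_iff hF hG hj.1).2 hq).2 _ _ _ sq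
  refine ⟨hj, V, p, W, fst, he, hs, sq, ?_⟩
  have := (chartIdeal_of_isSchImage hF hG (openChart he hs sq) hqc h).symm.trans (chartIdeal_id G p)
  exact dense_of_ker_ι_eq_bot this

theorem isSchDense_iff_isSchImage_top (hF : IsAlgSpace F) (hG : IsAlgSpace G) {j : F ⟶ G}
    (hj : RepWith @IsOpenImmersion j) (hq : IsQuasiCompactMor j) : IsSchDense j ↔ IsSchImage j (𝟙 G) :=
  ⟨isSchImage_top_of_isSchDense, isSchDense_of_isSchImage_top hF hG hj hq⟩

theorem isSchDense_preimage_of_flat {X Y V V' : Sp S} (hX : IsAlgSpace X) (hY : IsAlgSpace Y) (hV : IsAlgSpace V)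
    {f : X ⟶ Y} (hf : LocP @Flat f) {j : V ⟶ Y} (hj : IsSchDense j) (hjq : IsQuasiCompactMor j)
    {fst : V' ⟶ V} {jX : V' ⟶ X} (sq : IsPullback fst jX j f) : IsSchDense jX := by
  have h := isSchImage_of_flat_baseChange hX hY hV hf hjq (isSchImage_top_of_isSchDense hj) sq
    (IsPullback.of_vert_isIso ⟨by simp⟩ : IsPullback f (𝟙 X) (𝟙 Y) f)
  exact isSchDense_of_isSchImage_top (isAlgSpace_of_isPullback hY.diag hV hX sq) hX
    (RepWith.baseChange sq hj.1) (isQuasiCompactMor_of_isPullback hV hY hX sq hjq) h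

/-- morphisms to a separated space agreeing on a scheme theoretically dense part are equal -/
theorem eq_of_isSchImage_top {U X Y B : Sp S} (hX : IsAlgSpace X) (hY : IsAlgSpace Y) (hB : IsAlgSpace B)
    {q : Y ⟶ B} (hq : IsSeparatedMor q) {f g : X ⟶ Y} (hfg : f ≫ q = g ≫ q) {j : U ⟶ X}
    (hcl : IsSchImage j (𝟙 X)) (heq : j ≫ f = j ≫ g) : f = g := by
  let K := pullback q q
  have hK : IsAlgSpace K := isAlgSpace_of_isPullback hB.diag hY hY (IsPullback.of_hasPullback q q)
  let m : X ⟶ K := pullback.lift f g hfg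
  have sq := IsPullback.of_hasPullback (pullback.diagonal q) m
  have he : RepWith @IsClosedImmersion (pullback.snd (pullback.diagonal q) m) :=
    haveI := IsClosedImmersion.isStableUnderBaseChange.{u}
    RepWith.baseChange sq hq
  obtain ⟨l, hl⟩ : ∃ l : U ⟶ pullback (pullback.diagonal q) m, l ≫ pullback.snd _ _ = j :=
    ⟨sq.lift (j ≫ f) j (by
      apply pullback.hom_ext
      · simp only [Category.assoc, pullback.diagonal_fst, Category.comp_id, m]
        erw [pullback.lift_fst]
      · simp only [Category.assoc, pullback.diagonal_snd, Category.comp_id, m]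
        erw [pullback.lift_snd]
        exact heq), sq.lift_snd _ _ _⟩
  obtain ⟨k, hk⟩ := hcl.2.2 _ (isAlgSpace_of_isPullback hK.diag hY hX sq) he ⟨l, hl⟩
  have e : (k ≫ pullback.fst (pullback.diagonal q) m) ≫ pullback.diagonal q = m := by
    rw [Category.assoc, sq.w, ← Category.assoc, hk, Category.id_comp]
  have e1 := congrArg (· ≫ pullback.fst q q) e
  have e2 := congrArg (· ≫ pullback.snd q q) e
  simp only [Category.assoc, pullback.diagonal_fst, pullback.diagonal_snd, Category.comp_id, m,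
    pullback.lift_fst, pullback.lift_snd] at e1 e2
  exact e1.symm.trans e2

theorem isOpenImmersion_toImage_of_reduced {X Y : Scheme.{u}} (f : X ⟶ Y) [IsImmersion f] [IsReduced X] :
    f.ker = Scheme.IdealSheafData.vanishingIdeal (.closure (Set.range f)) ∧ IsOpenImmersion f.toImage := by
  refine ⟨Props12.ker_eq_vanishingIdeal f, ?_⟩
  have hred : IsReduced f.image := by
    show IsReduced f.ker.subscheme
    rw [Props12.ker_eq_vanishingIdeal f]
    exact Props12.isReduced_subscheme_vanishingIdeal _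
  let U := f.coborderRange
  have : IsReduced (pullback f.imageι U.ι) :=
    isReduced_of_isOpenImmersion (pullback.fst f.imageι U.ι)
  let sq := IsPullback.of_hasPullback f.imageι U.ι
  let l : X ⟶ pullback f.imageι U.ι := sq.lift f.toImage f.liftCoborder (by simp [U])
  have hl : l ≫ pullback.snd f.imageι U.ι = f.liftCoborder := sq.lift_snd _ _ _
  have hrange : Set.range f.liftCoborder = Set.range (pullback.snd f.imageι U.ι) := by
    refine subset_antisymm ?_ ?_
    · rw [← hl, Scheme.Hom.comp_base, TopCat.coe_comp]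
      exact Set.range_comp_subset_range _ _
    · rw [Scheme.Pullback.range_snd, Scheme.IdealSheafData.range_subschemeι,
        Props12.ker_eq_vanishingIdeal f, Scheme.IdealSheafData.coe_support_vanishingIdeal]
      intro u hu
      by_contra hne
      obtain ⟨o, ho, hmem⟩ : ∃ o : Set U.toScheme, IsOpen o ∧ u ∈ o ∧ Disjoint o (Set.range f.liftCoborder) :=
        ⟨_, f.liftCoborder.isClosedEmbedding.isClosed_range.isOpen_compl, hne, disjoint_compl_left⟩
      obtain ⟨_, ⟨v, hv, rfl⟩, y, hy⟩ :=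
        mem_closure_iff.1 hu (U.ι '' o) (U.ι.isOpenEmbedding.isOpenMap _ ho) ⟨u, hmem.1, rfl⟩
      refine hmem.2.le_bot ⟨hv, y, U.ι.isOpenEmbedding.injective ?_⟩
      rw [← hy, ← Scheme.Hom.comp_apply, f.liftCoborder_ι]
  obtain ⟨e, he⟩ := Stk19b.RedInd.exists_iso_of_range_eq f.liftCoborder (pullback.snd f.imageι U.ι) hrange
  have : l = e.hom := by rw [← cancel_mono (pullback.snd f.imageι U.ι), hl, he]
  have hfl : f.toImage = e.hom ≫ pullback.fst f.imageι U.ι := by rw [← this]; exact (sq.lift_fst _ _ _).symm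
  rw [hfl]
  infer_instance

end Groth.Agent.AlgSpLib
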