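import Groth.Agent.AlgSpLib.RelDimLocus
import Groth.Agent.AlgSpLib.ProperQF
import Groth.Agent.AlgSpLib.SchDense
import Groth.Agent.S1240

/-!
Relative dimension bounds spread from a dense open of the base along flat morphisms.
-/

universe u

open CategoryTheory CategoryTheory.Limits AlgebraicGeometry
open AlgSp

noncomputable section

namespace Groth.Agent.AlgSpLib

set_option backward.isDefEq.respectTransparency.types false

variable {S : Scheme.{u}} {X Y V P : Sp S}

theorem open_chart_eq_preimage {j : V ⟶ Y} {B : Over S} {b : (yon S).obj B ⟶ Y} {W : B.left.Opens}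
    {fst : (yon S).obj (Over.mk (W.ι ≫ B.hom)) ⟶ V}
    (sq : IsPullback fst ((yon S).map (Over.homMk W.ι rfl : Over.mk (W.ι ≫ B.hom) ⟶ B)) j b) :
    (W : Set B.left) = Points.ofPt b ⁻¹' Set.range (Points.map j) := by
  ext v
  constructor
  · intro hv
    refine ⟨Points.ofPt fst (⟨v, hv⟩ : W.toScheme), ?_⟩
    rw [Points.map_ofPt, sq.w, ofPt_map]
    exact congrArg (Points.ofPt b) rfl
  · rintro ⟨z, hz⟩
    rw [Points.ofPt_eq_map_ofScheme] at hz
    obtain ⟨w, -, hw⟩ := exists_point_of_isPullback sq hz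
    obtain ⟨r, rfl⟩ := (Points.schemeEquiv _).surjective w
    have hr : (Over.homMk W.ι rfl : Over.mk (W.ι ≫ B.hom) ⟶ B).left r = v :=
      (Points.schemeEquiv B).injective ((map_yon_map_ofScheme _ r).symm.trans hw)
    subst hr
    exact (r : W.toScheme).2

/-- relative dimension at most `d` over a dense open spreads -/
theorem relDim_le_of_dense (hX : IsAlgSpace X) (hY : IsAlgSpace Y) (hV : IsAlgSpace V) {f : X ⟶ Y} {j : V ⟶ Y}
    (d : ℕ) (hfl : LocP @Flat f) (hlft : LocP @LocallyOfFiniteType f) (hj : RepWith @IsOpenImmersion j)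
    (hdense : Dense (Set.range (Points.map j))) {fst : P ⟶ X} {snd : P ⟶ V} (sq : IsPullback fst snd f j)
    (hd : ∀ x, HasAtMor (fun _ _ h u => FlatMor.fibreDimAt h u ≤ (d : WithBot ℕ∞)) snd x)
    (h : LocP @LocallyOfFinitePresentation f ∨ IsQuasiCompactMor j) (x : Points X) :
    HasAtMor (fun _ _ h u => FlatMor.fibreDimAt h u ≤ (d : WithBot ℕ∞)) f x := by
  obtain ⟨B, b, hbe, hbs⟩ := hY.atlas
  obtain ⟨U, a, g, hae, has, w⟩ := exists_chart_over hX hY f b hbe hbs
  obtain ⟨u, rfl⟩ := surjective_ofPt a has x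
  obtain ⟨W, fstW, sqW⟩ := exists_open_chart hj b
  have hW := open_chart_eq_preimage sqW
  have : LocallyOfFiniteType g.left := hlft a b g hae hbe w
  have : Flat g.left := hfl a b g hae hbe w
  have hP : IsAlgSpace P := isAlgSpace_of_isPullback hY.diag hX hV sq
  refine ⟨U, B, a, b, g, u, hae, hbe, w, rfl, ?_⟩
  refine S1240.result g.left W (hW ▸ hdense.preimage (isOpenMap_ofPt b hbe)) d (fun u' hu' => ?_) ?_ u
  · have hm : g.left u' ∈ Points.ofPt b ⁻¹' Set.range (Points.map j) := hW ▸ hu'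
    obtain ⟨z, hz⟩ := hm
    have e : Points.map f (Points.ofPt a u') = Points.map j z := by
      rw [Points.map_ofPt, w, ofPt_map, hz]
    obtain ⟨p, hp, -⟩ := exists_point_of_isPullback sq e
    have := (relDim_baseChange hX hY hV hP sq hlft p (fun r => r ≤ (d : WithBot ℕ∞))).1 (hd p)
    rw [hp] at this
    exact (hasAtMor_fibreDim_pred hX hY f a b g hae hbe w u' (fun r => r ≤ (d : WithBot ℕ∞))).1 this
  · rcases h with h | h
    · exact .inl (h a b g hae hbe w)
    · have : QuasiCompact W.ι := ((repWith_quasiCompact_iff hV hY hj.1).2 h).2 _ _ _ sqW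
      exact .inr (IsRetrocompact_iff_isSpectralMap_subtypeVal.mpr W.ι.isSpectralMap)

theorem fibreDimAt_nonneg {A B : Scheme.{u}} (h : A ⟶ B) (a : A) : 0 ≤ FlatMor.fibreDimAt h a :=
  localDim_nonneg _

end Groth.Agent.AlgSpLib
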