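import Groth.Agent.AlgSpLib.LqfDim
import Groth.Agent.EGA43.DimFormula.Points
import Groth.Agent.FlatMor12.RelDimComp

/-!
Relative dimension: the fibre dimension formula and composites.
-/

universe u

open CategoryTheory CategoryTheory.Limits AlgebraicGeometry
open AlgSp

noncomputable section

namespace Groth.Agent.AlgSpLib

set_option backward.isDefEq.respectTransparency.types false

theorem stalk_dim_of_homeo {A B : Scheme.{u}} (e : ↥A ≃ₜ ↥B) (a : A) :
    ringKrullDim ↥(A.presheaf.stalk a) = ringKrullDim ↥(B.presheaf.stalk (e a)) := by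
  rw [ringKrullDim_stalk_eq_coheight, ringKrullDim_stalk_eq_coheight]
  have hm : ∀ {a a' : ↥A}, e a ≤ e a' ↔ a ≤ a' := fun {a a'} =>
    ⟨fun h => show a' ⤳ a from e.isEmbedding.isInducing.specializes_iff.1 h,
      fun h => (show a' ⤳ a from h).map e.continuous⟩
  exact congrArg _ (Order.coheight_orderIso ⟨e.toEquiv, hm⟩ a).symm

/-- the fibre dimension formula over any base -/
theorem fibreDimAt_eq_stalk_add_trdeg {X Y : Scheme.{u}} (f : X ⟶ Y) [LocallyOfFiniteType f] (x : X) :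
    FlatMor.fibreDimAt f x = ringKrullDim ↥((f.fiber (f x)).presheaf.stalk (f.asFiber x)) +
      ((Cardinal.toENat (Dual3.resTrdeg f x) : ℕ∞) : WithBot ℕ∞) := by
  let p : f.fiber (f x) ⟶ Spec (CommRingCat.of ↥(Y.residueField (f x))) := f.fiberToSpecResidueField (f x)
  have : LocallyOfFiniteType p := MorphismProperty.pullback_snd _ _ inferInstance
  let z := f.asFiber x
  have hc : IsPullback (f.fiberι (f x)) p f (Y.fromSpecResidueField (f x)) :=
    IsPullback.of_hasPullback _ _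
  have h1 : FlatMor.fibreDimAt f x = FlatMor.fibreDimAt p z := by
    rw [fibreDimAt_baseChange hc z, Scheme.Hom.fiberι_asFiber]
  have ht : Dual3.resTrdeg f x = Dual3.resTrdeg p z :=
    (congrArg (Dual3.resTrdeg f) (f.fiberι_asFiber x)).symm.trans
      (resTrdeg_eq_of_etale_square (f.fiberι (f x)) (Y.fromSpecResidueField (f x)) hc.w z)
  have hfin : Dual3.resTrdeg f x < Cardinal.aleph0 := FlatMor12.trdeg_residueFieldMap_lt f x
  have hr : Function.Surjective (p.fiberι (p z)) := fun w => by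
    have : w ∈ p ⁻¹' {p z} :=
      (inferInstance : Subsingleton ↥(Spec (CommRingCat.of ↥(Y.residueField (f x))))).elim _ _
    rwa [← p.range_fiberι] at this
  have hh := stalk_dim_of_homeo ((p.fiberι (p z)).isEmbedding.toHomeomorphOfSurjective hr) (p.asFiber z)
  rw [show ((p.fiberι (p z)).isEmbedding.toHomeomorphOfSurjective hr) (p.asFiber z) = z from
    p.fiberι_asFiber z] at hh
  rw [h1, ← EGA43.DimFormula.fibre_dim_formula p z, hh, ht]
  rw [ht] at hfin
  have e2 : (Cardinal.toENat (Dual3.resTrdeg p z)) = ((Dual3.resTrdeg p z).toNat : ℕ∞) := by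
    conv_lhs => rw [← Cardinal.cast_toNat_of_lt_aleph0 hfin, map_natCast]
  rw [e2]
  rfl

variable {S : Scheme.{u}} {X Y Z : Sp S}

theorem relDim_eq_add (hX : IsAlgSpace X) (hY : IsAlgSpace Y) {f : X ⟶ Y}
    (hf : LocP @LocallyOfFiniteType f) (x : Points X) (d e : WithBot ℕ∞) (r : Cardinal.{u})
    (hd : HasAtMor (fun _ _ h u => FlatMor.fibreDimAt h u = d) f x)
    (he : HasAtMor (fun _ _ h u => ringKrullDim ↥((h.fiber (h u)).presheaf.stalk (h.asFiber u)) = e) f x)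
    (hr : HasAtMor (fun _ _ h u => Dual3.resTrdeg h u = r) f x) :
    d = e + ((Cardinal.toENat r : ℕ∞) : WithBot ℕ∞) := by
  obtain ⟨U, V, a, b, h, u, ha, hb, w, rfl, he⟩ := he
  have : LocallyOfFiniteType h.left := hf a b h ha hb w
  rw [hasAtMor_fibreDim_iff hX hY f a b h ha hb w u d] at hd
  rw [hasAtMor_resTrdeg_iff hX hY f a b h ha hb w u r] at hr
  rw [← hd, ← he, ← hr, fibreDimAt_eq_stalk_add_trdeg]

theorem exists_nat_of_add_le {a b : WithBot ℕ∞} (ha : 0 ≤ a) (hb : 0 ≤ b) {n : ℕ}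
    (h : a + b ≤ (n : WithBot ℕ∞)) :
    ∃ m k : ℕ, a = (m : WithBot ℕ∞) ∧ b = (k : WithBot ℕ∞) ∧ m + k ≤ n := by
  obtain ⟨m, rfl, -⟩ := FlatMor12.exists_nat_of_le ha ((le_add_of_nonneg_right hb).trans h)
  obtain ⟨k, rfl, -⟩ := FlatMor12.exists_nat_of_le hb ((le_add_of_nonneg_left ha).trans h)
  exact ⟨m, k, rfl, rfl, by exact_mod_cast h⟩

theorem relDim_comp (hX : IsAlgSpace X) (hY : IsAlgSpace Y) (hZ : IsAlgSpace Z) {f : X ⟶ Y} {g : Y ⟶ Z}
    (hf : LocP @LocallyOfFiniteType f) (hg : LocP @LocallyOfFiniteType g)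
    (x : Points X) (a b : WithBot ℕ∞)
    (ha : HasAtMor (fun _ _ h u => FlatMor.fibreDimAt h u = a) f x)
    (hb : HasAtMor (fun _ _ h u => FlatMor.fibreDimAt h u = b) g (Points.map f x)) :
    HasAtMor (fun _ _ h u => FlatMor.fibreDimAt h u ≤ a + b) (f ≫ g) x ∧
    (IsFlatAtMor f x → HasAtMor (fun _ _ h u => FlatMor.fibreDimAt h u = a + b) (f ≫ g) x) := by
  obtain ⟨C⟩ := nonempty_charts hX hY hZ f g
  obtain ⟨u, rfl⟩ := surjective_ofPt C.a C.a_surj x
  rw [Points.map_ofPt, C.wf, ofPt_map C.h C.b u,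
    hasAtMor_fibreDim_iff hY hZ g C.b C.c C.k C.b_etale C.c_etale C.wg] at hb
  rw [hasAtMor_fibreDim_iff hX hY f C.a C.b C.h C.a_etale C.b_etale C.wf] at ha
  have w : C.a ≫ f ≫ g = (yon S).map (C.h ≫ C.k) ≫ C.c := by
    rw [Functor.map_comp, ← Category.assoc, C.wf, Category.assoc, C.wg, Category.assoc]
  have : LocallyOfFiniteType C.h.left := hf C.a C.b C.h C.a_etale C.b_etale C.wf
  have : LocallyOfFiniteType C.k.left := hg C.b C.c C.k C.b_etale C.c_etale C.wg
  have a0 : 0 ≤ a := ha ▸ FlatMor12.zero_le_fibreDimAt C.h.left u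
  have b0 : 0 ≤ b := hb ▸ FlatMor12.zero_le_fibreDimAt C.k.left _
  have hle : FlatMor.fibreDimAt (C.h.left ≫ C.k.left) u ≤ a + b :=
    FlatMor12.le_of_forall_nat (add_nonneg a0 b0) fun n hn => by
      obtain ⟨m, k, rfl, rfl, hmk⟩ := exists_nat_of_add_le a0 b0 hn
      exact (FlatMor12.fibreDimAt_comp_le_nat C.h.left C.k.left u m k ha.le hb.le).trans (by exact_mod_cast hmk)
  refine ⟨⟨C.U, C.W, C.a, C.c, C.h ≫ C.k, u, C.a_etale, C.c_etale, w, rfl, hle⟩,
    fun hfl => ⟨C.U, C.W, C.a, C.c, C.h ≫ C.k, u, C.a_etale, C.c_etale, w, rfl, le_antisymm hle ?_⟩⟩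
  refine FlatMor12.le_of_forall_nat (FlatMor12.zero_le_fibreDimAt (C.h.left ≫ C.k.left) u) fun n hn => ?_
  rw [← ha, ← hb]
  exact FlatMor12.fibreDimAt_comp_ge C.h.left C.k.left u
    ((isFlatAtMor_iff hX hY f C.a C.b C.h C.a_etale C.b_etale C.wf u).1 hfl) n hn

end Groth.Agent.AlgSpLib
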