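import Groth.Agent.AlgSpLib.RelSpecSp

/-!
Morphisms of cartesian families induce morphisms of their relative spectra.
-/

universe u

open CategoryTheory CategoryTheory.Limits AlgebraicGeometry Opposite
open AlgSp

noncomputable section

namespace Groth.Agent.AlgSpLib.RelSpecSp

set_option backward.isDefEq.respectTransparency.types false
set_option backward.isDefEq.respectTransparency false

open Groth.Agent.AlgSpLib.QCohEt

variable {S : Scheme.{u}} {Y : Sp S}

/-- a morphism of cartesian families -/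
structure CartHom (D D' : CartData Y) where
  /-- the components -/
  f : ∀ (E : EtOver Y) (hE : IsAff E), D.V E hE ⟶ D'.V E hE
  f_v : ∀ (E : EtOver Y) (hE : IsAff E), f E hE ≫ D'.v E hE = D.v E hE
  f_map : ∀ {W E : EtOver Y} (g : W ⟶ E) (hW : IsAff W) (hE : IsAff E),
    D.map g hW hE ≫ f E hE = f W hW ≫ D'.map g hW hE

namespace CartHom

variable {D D' : CartData Y} (Φ : CartHom D D')

/-- the image of a point -/
def mapSecPt {T : Over S} (s : Sec D T) : Sec D' T where
  g := s.g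
  φ T' k E hE e w := s.φ k E hE e w ≫ Φ.f E hE
  hv T' k E hE e w := by rw [Category.assoc, Φ.f_v, s.hv]
  nat T' T'' m k E E' f hE hE' e e' w w' h := by
    rw [Category.assoc, ← Φ.f_map f hE' hE, ← Category.assoc, s.nat m k f hE hE' e e' w w' h, Category.assoc]

/-- the induced morphism -/
def hom : RelSpecSp.obj D ⟶ RelSpecSp.obj D' :=
  ⟨{ app := fun T => TypeCat.ofHom fun s => Φ.mapSecPt s
     naturality := fun T T' a => by ext s; rfl }⟩

theorem sec_comp_hom {T : Over S} (l : (yon S).obj T ⟶ RelSpecSp.obj D) :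
    sec (l ≫ Φ.hom) = Φ.mapSecPt (sec l) :=
  GrothendieckTopology.uliftYonedaEquiv_comp (AlgSp.J S) l Φ.hom

theorem hom_str : Φ.hom ≫ str D' = str D := hom_ext_of_yon fun T l => by
  rw [← Category.assoc, comp_str, Φ.sec_comp_hom, comp_str]
  rfl

theorem q_hom (E : EtOver Y) (hE : IsAff E) :
    q D E hE ≫ Φ.hom = (yon S).map (Φ.f E hE) ≫ q D' E hE := by
  apply sec_injective
  rw [Φ.sec_comp_hom, sec_comp, sec_q, sec_q]
  refine Sec.ext' ?_ fun T' k E' hE' e w => ?_
  · show (yon S).map (D.v E hE) ≫ E.obj.hom = (yon S).map (Φ.f E hE) ≫ (yon S).map (D'.v E hE) ≫ E.obj.hom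
    rw [← Functor.map_comp_assoc, Φ.f_v]
  · have w2 : (yon S).map e ≫ E'.obj.hom = (yon S).map ((k ≫ Φ.f E hE) ≫ D'.v E hE) ≫ E.obj.hom := by
      rw [Category.assoc, Φ.f_v]; exact chart_w D w
    show value hE hE' k e (chart_w D w) ≫ Φ.f E' hE' = value hE hE' (k ≫ Φ.f E hE) e w2
    refine hom_ext_covering (dataSieve_mem hE hE' k e (chart_w D w)) fun T₃ n hn => ?_
    obtain ⟨x, Z, hZ, g, h, y, hg, hh, rfl⟩ := hn
    rw [← Category.assoc, value_eq hE hE' k e (chart_w D w) n _ ⟨Z, hZ, g, h, y, hg, hh, rfl⟩]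
    refine (value_eq hE hE' (k ≫ Φ.f E hE) e w2 n _ ⟨Z, hZ, g, h, y ≫ Φ.f Z hZ, ?_, ?_, ?_⟩).symm
    · rw [Category.assoc y, Φ.f_v]; exact hg
    · rw [Category.assoc, ← Φ.f_map, ← Category.assoc, hh, Category.assoc]
    · rw [Category.assoc, Category.assoc, Φ.f_map]

theorem hom_ext_charts {Φ' : CartHom D D'} (h : ∀ E hE, Φ.f E hE = Φ'.f E hE) : Φ.hom = Φ'.hom := by
  obtain ⟨f, _, _⟩ := Φ
  obtain ⟨f', _, _⟩ := Φ'
  have : f = f' := funext fun E => funext fun hE => h E hE
  subst this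
  rfl

/-- composition -/
def comp {D'' : CartData Y} (Ψ : CartHom D' D'') : CartHom D D'' where
  f E hE := Φ.f E hE ≫ Ψ.f E hE
  f_v E hE := by rw [Category.assoc, Ψ.f_v, Φ.f_v]
  f_map g hW hE := by rw [← Category.assoc, Φ.f_map, Category.assoc, Ψ.f_map, Category.assoc]

theorem comp_hom {D'' : CartData Y} (Ψ : CartHom D' D'') : (Φ.comp Ψ).hom = Φ.hom ≫ Ψ.hom :=
  hom_ext_of_yon fun T l => sec_injective (by
    rw [(Φ.comp Ψ).sec_comp_hom, ← Category.assoc, Ψ.sec_comp_hom, Φ.sec_comp_hom]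
    exact Sec.ext' rfl fun T' k E hE e w => (Category.assoc _ _ _).symm)

/-- the identity -/
def refl (D : CartData Y) : CartHom D D where
  f E hE := 𝟙 _
  f_v E hE := Category.id_comp _
  f_map g hW hE := by rw [Category.comp_id, Category.id_comp]

theorem refl_hom (D : CartData Y) : (refl D).hom = 𝟙 _ :=
  hom_ext_of_yon fun T l => sec_injective (by
    rw [(refl D).sec_comp_hom, Category.comp_id]
    exact Sec.ext' rfl fun T' k E hE e w => Category.comp_id _)

end CartHom

end Groth.Agent.AlgSpLib.RelSpecSp
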