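import Groth.Agent.AlgSpLib.RepBySpLemmas
import Groth.Agent.AlgSpLib.LqfScheme
import Groth.Agent.AlgSpLib.MorSep
import Groth.Agent.AlgSpLib.LocPMore
import Groth.Agent.AlgSpLib.EtLocalInst

/-!
Maps from schemes representable by algebraic spaces and locally quasi-finite are representable by schemes.
-/

universe u

open CategoryTheory CategoryTheory.Limits AlgebraicGeometry Opposite
open AlgSp

noncomputable section

namespace Groth.Agent.AlgSpLib

set_option backward.isDefEq.respectTransparency.types false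

variable {S : Scheme.{u}}

/-- an algebraic space, lqf over a scheme, and embedded in a product of schemes is a scheme -/
theorem exists_iso_yon_of_lqf_mono {P : Sp S} (hP : IsAlgSpace P) {X T : Over S} (a : P ⟶ (yon S).obj X)
    (b : P ⟶ (yon S).obj T) (hab : ∀ {Z : Sp S} (u v : Z ⟶ P), u ≫ a = v ≫ a → u ≫ b = v ≫ b → u = v)
    (hb : LocP (@LocallyQuasiFinite ⊓ @LocallyOfFiniteType) b) :
    ∃ G : Over S, Nonempty ((yon S).obj G ≅ P) := by
  have sqXT := ((IsPullback.of_hasPullback X.hom T.hom))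
  let XT : Over S := Over.mk (pullback.fst X.hom T.hom ≫ X.hom)
  let p1 : XT ⟶ X := Over.homMk (pullback.fst X.hom T.hom)
  let p2 : XT ⟶ T := Over.homMk (pullback.snd X.hom T.hom) pullback.condition.symm
  let tX : X ⟶ Over.mk (𝟙 S) := Over.homMk X.hom
  let tT : T ⟶ Over.mk (𝟙 S) := Over.homMk T.hom
  have sq : IsPullback p1 p2 tX tT :=
    IsPullback.of_map (Over.forget S) (Over.OverMorphism.ext pullback.condition) sqXT
  have sq' := sq.map (yon S)
  have ht : a ≫ (yon S).map tX = b ≫ (yon S).map tT :=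
      hom_ext_of_yon fun Z x => by
        obtain ⟨z₁, h₁⟩ := (yon S).map_surjective (x ≫ a ≫ (yon S).map tX)
        obtain ⟨z₂, h₂⟩ := (yon S).map_surjective (x ≫ b ≫ (yon S).map tT)
        rw [← h₁, ← h₂]
        congr 1
        exact Over.OverMorphism.ext (by simpa using (Over.w z₁).trans (Over.w z₂).symm)
  let m := sq'.lift a b ht
  have : Mono m := ⟨fun u v e => hab u v
    (by rw [← sq'.lift_fst a b ht, ← Category.assoc, ← Category.assoc, e])
    (by rw [← sq'.lift_snd a b ht, ← Category.assoc, ← Category.assoc, e])⟩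
  have hm : LocP (@LocallyQuasiFinite ⊓ @LocallyOfFiniteType) m := by
    refine locP_of_comp' (Q := ⊤) etLocal_lqf hP (IsAlgSpace.yon_obj XT) (IsAlgSpace.yon_obj T)
      (fun A B C g₁ g₂ h _ => ?_) (g := (yon S).map p2) (by rw [sq'.lift_snd]; exact hb) (locP_top _)
    have : LocallyQuasiFinite (g₁ ≫ g₂) := h.1
    have : LocallyOfFiniteType (g₁ ≫ g₂) := h.2
    exact ⟨LocallyQuasiFinite.of_comp g₁ g₂, locallyOfFiniteType_of_comp g₁ g₂⟩
  exact exists_iso_yon_of_lqf_separated hP m (isSeparatedMor_of_mono m) hm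

theorem relativelyRepresentable_of_lqf {F : PSp S} {X : Over S} {p : (pyon S).obj X ⟶ F}
    (hp : RepBySpWith (LocP (@LocallyQuasiFinite ⊓ @LocallyOfFiniteType)) p) :
    (pyon S).relativelyRepresentable p := fun T ξ => by
  have sq := IsPullback.of_hasPullback p ξ
  obtain ⟨hs, hP, hb⟩ := hp ξ _ _ sq
  let P : Sp S := ⟨pullback p ξ, hs⟩
  let a : P ⟶ (yon S).obj X := ObjectProperty.homMk (pullback.fst p ξ)
  let b : P ⟶ (yon S).obj T := ObjectProperty.homMk (pullback.snd p ξ)
  obtain ⟨G, ⟨e⟩⟩ := exists_iso_yon_of_lqf_mono hP a b (fun u v h1 h2 => by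
    apply ObjectProperty.hom_ext
    exact pullback.hom_ext (congrArg (fun k : _ ⟶ (yon S).obj X => k.hom) h1)
      (congrArg (fun k : _ ⟶ (yon S).obj T => k.hom) h2)) hb
  let e' : (pyon S).obj G ≅ pullback p ξ := (sheafToPresheaf (J S) (Type (u + 1))).mapIso e
  obtain ⟨g, hg⟩ := (pyon S).map_surjective (e'.hom ≫ pullback.snd p ξ)
  exact ⟨G, g, e'.hom ≫ pullback.fst p ξ,
    sq.of_iso e'.symm (Iso.refl _) (Iso.refl _) (Iso.refl _) (by simp) (by simp [hg]) (by simp) (by simp)⟩

end Groth.Agent.AlgSpLib
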