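import Groth.Agent.AlgSpLib.ResidualSpace
import Groth.Agent.AlgSpLib.DecentPoints
import Groth.Agent.AlgSpLib.FpqcBaseImm
import Groth.Agent.AlgSpLib.FlatAt
import Groth.Agent.Props12.KerReduced

/-!
Residual spaces at closed points are closed subspaces.
-/

universe u

open CategoryTheory CategoryTheory.Limits AlgebraicGeometry Opposite
open AlgSp

noncomputable section

namespace Groth.Agent.AlgSpLib

set_option backward.isDefEq.respectTransparency.types false

variable {S : Scheme.{u}} {X Z : Sp S}

/-- over an etale chart the residual space at a closed point is the reduced fibre -/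
theorem closedImmersion_pullback_residual (hX : IsAlgSpace X) (hZ : IsAlgSpace Z)
    (hN : IsLocNoethSp X) (i : Z ⟶ X) [Mono i] {x : Points X} (hx : IsClosed ({x} : Set (Points X)))
    (hi : Set.range (Points.map i) = {x}) {k : Type u} [Field k]
    {str : Spec (CommRingCat.of k) ⟶ S} (p : (yon S).obj (Over.mk str) ⟶ Z)
    (hpf : LocP @Flat p) (hps : IsSurjectiveMor p) {U : Over S} (a : (yon S).obj U ⟶ X)
    (ha : RepWith @Etale a) : RepWith @IsClosedImmersion (pullback.snd i a) := by
  have sq := IsPullback.of_hasPullback i a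
  have hP := isAlgSpace_of_isPullback hX.diag hZ (IsAlgSpace.yon_obj U) sq
  have hD : IsClosed (Points.ofPt a ⁻¹' {x}) := hx.preimage (Points.continuous_ofPt a)
  let I := Scheme.IdealSheafData.vanishingIdeal (X := U.left) ⟨_, hD⟩
  let F : Over S := Over.mk (I.subschemeι ≫ U.hom)
  let ι : F ⟶ U := Over.homMk I.subschemeι
  have hιc : IsClosedImmersion ι.left := inferInstanceAs (IsClosedImmersion I.subschemeι)
  have hιr : Set.range ι.left = Points.ofPt a ⁻¹' {x} := by
    show Set.range I.subschemeι = _
    rw [Scheme.IdealSheafData.range_subschemeι, Scheme.IdealSheafData.coe_support_vanishingIdeal]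
    rfl
  have : IsReduced F.left := Props12.isReduced_subscheme_vanishingIdeal _
  have : IsLocallyNoetherian U.left := isLocallyNoetherian_of_chart hX hN a ha
  have : LocallyOfFiniteType ι.left := inferInstance
  have : IsLocallyNoetherian F.left := LocallyOfFiniteType.isLocallyNoetherian ι.left
  have hFf : ∀ v : F.left, IsField (F.left.presheaf.stalk v) := fun v => by
    refine isField_stalk_of_maximal v fun y hy => ι.left.isClosedEmbedding.injective ?_
    have e : ∀ w, Points.ofPt a (ι.left w) = x := fun w =>
      (show ι.left w ∈ Points.ofPt a ⁻¹' {x} from hιr ▸ ⟨w, rfl⟩)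
    exact (eq_of_specializes_of_locNoeth hN a ha _ _ ((e v).trans (e y).symm)
      (hy.map ι.left.continuous)).symm
  have := discreteTopology_of_isField_stalk hFf
  -- the section of the reduced fibre
  have sqF := IsPullback.of_hasPullback (pullback.snd i a) ((yon S).map ι)
  have hQ := isAlgSpace_of_isPullback (IsAlgSpace.yon_obj U).diag hP (IsAlgSpace.yon_obj F) sqF
  obtain ⟨G, ⟨e⟩⟩ := exists_iso_yon_of_mono_discrete hQ (pullback.snd (pullback.snd i a) ((yon S).map ι))
  obtain ⟨g, hg⟩ := (yon S).map_surjective (e.hom ≫ pullback.snd (pullback.snd i a) ((yon S).map ι))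
  have : Mono ((yon S).map g) := hg ▸ mono_comp _ _
  have : Mono g := (yon S).mono_of_mono_map this
  have : Mono g.left := inferInstance
  have := SchMor12.isOpenImmersion_of_mono_of_discrete g.left
  have hgs : Surjective g.left := by
    refine (surjective_map_yon_map_iff g).1 ?_
    rw [hg]
    intro w
    have hw : Points.ofPt a (ι.left (Points.toScheme F w)) = x := by
      show ι.left (Points.toScheme F w) ∈ Points.ofPt a ⁻¹' {x}
      exact hιr ▸ ⟨_, rfl⟩
    obtain ⟨z, hz⟩ : x ∈ Set.range (Points.map i) := by rw [hi]; rfl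
    obtain ⟨y, -, hy⟩ := exists_point_of_isPullback sq (x := z) (y := Points.map ((yon S).map ι) w)
      (hz.trans (by
        rw [← Points.ofScheme_toScheme F w, ← Points.ofPt_eq_map_ofScheme, Points.map_ofPt,
          ofPt_map]
        exact hw.symm))
    obtain ⟨y', -, hy'⟩ := exists_point_of_isPullback sqF hy
    exact ⟨Points.map e.inv y', by rw [← Points.map_comp, e.inv_hom_id_assoc]; exact hy'⟩
  have : IsIso g.left := (isIso_iff_isOpenImmersion_and_surjective _).2 ⟨inferInstance, hgs⟩
  have : IsIso g := by
    have : IsIso ((Over.forget S).map g) := this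
    exact isIso_of_reflects_iso g (Over.forget S)
  let l : (yon S).obj F ⟶ pullback i a :=
    inv ((yon S).map g) ≫ e.hom ≫ pullback.fst (pullback.snd i a) ((yon S).map ι)
  have hl : l ≫ pullback.snd i a = (yon S).map ι := by
    simp only [l, Category.assoc, IsIso.inv_comp_eq, pullback.condition]
    rw [hg, Category.assoc]
  have : Mono ι.left := inferInstance
  have : Mono ι := (Over.forget S).mono_of_mono_map (inferInstanceAs (Mono ι.left))
  have : Mono ((yon S).map ι) := inferInstance
  have : Mono l := mono_of_mono_fac hl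
  -- every chart of the fibre factors through it
  obtain ⟨W, w, hwe, hws⟩ := hP.atlas
  obtain ⟨c, hc⟩ := (yon S).map_surjective (w ≫ pullback.snd i a)
  have : IsReduced W.left := isReduced_of_isField_stalk
    (isField_stalk_of_flat_fieldPt hZ p hpf hps (w ≫ pullback.fst i a)
      (RepWith.comp hwe (RepWith.baseChange sq.flip ha))).1
  have hcr : Set.range c.left ⊆ Set.range ι.left := by
    rintro _ ⟨t, rfl⟩
    rw [hιr]
    show Points.ofPt a (c.left t) = x
    have h : Points.map i (Points.ofPt (w ≫ pullback.fst i a) t) ∈ Set.range (Points.map i) := ⟨_, rfl⟩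
    rw [hi, Set.mem_singleton_iff, Points.map_ofPt, Category.assoc, pullback.condition,
      ← Category.assoc, ← hc, ofPt_map] at h
    exact h
  have : Surjective (pullback.fst c.left ι.left) := ⟨fun t => by
    obtain ⟨v, hv⟩ := hcr ⟨t, rfl⟩
    obtain ⟨z, hz, -⟩ := Scheme.Pullback.exists_preimage_pullback t v hv.symm
    exact ⟨z, hz⟩⟩
  have := isIso_of_isClosedImmersion_of_surjective (pullback.fst c.left ι.left)
  let c' : W.left ⟶ F.left := inv (pullback.fst c.left ι.left) ≫ pullback.snd c.left ι.left
  have hc' : c' ≫ ι.left = c.left := by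
    simp only [c', Category.assoc, IsIso.inv_comp_eq, pullback.condition]
  let k : W ⟶ F := Over.homMk c' (by
    show c' ≫ ι.left ≫ U.hom = W.hom
    rw [reassoc_of% hc', Over.w c])
  have hk : k ≫ ι = c := Over.OverMorphism.ext hc'
  have : Mono (pullback.snd i a) := inferInstance
  have hwl : (yon S).map k ≫ l = w := by
    rw [← cancel_mono (pullback.snd i a), Category.assoc, hl, ← Functor.map_comp, hk, hc]
  have hepi : Epi w :=
    (Sheaf.isLocallySurjective_iff_epi' (Type (u + 1)) w).1 (isLocallySurjective_of_etale hwe hws)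
  have : Epi ((yon S).map k ≫ l) := hwl ▸ hepi
  have : Epi l := epi_of_epi ((yon S).map k) l
  have : IsIso l := isIso_of_mono_of_epi l
  rw [show pullback.snd i a = inv l ≫ (yon S).map ι by rw [← hl, IsIso.inv_hom_id_assoc]]
  exact RepWith.comp (repWith_of_isIso _ _) ((repWith_yon_map_iff (P := @IsClosedImmersion) ι).2 hιc)

theorem closedImmersion_of_residual (hX : IsAlgSpace X) (hZ : IsAlgSpace Z)
    (hN : IsLocNoethSp X) (i : Z ⟶ X) [Mono i] {x : Points X} (hx : IsClosed ({x} : Set (Points X)))
    (hi : Set.range (Points.map i) = {x}) {k : Type u} [Field k]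
    {str : Spec (CommRingCat.of k) ⟶ S} (p : (yon S).obj (Over.mk str) ⟶ Z)
    (hpf : LocP @Flat p) (hps : IsSurjectiveMor p) : RepWith @IsClosedImmersion i := by
  obtain ⟨U, a, hae, has⟩ := hX.atlas
  have hU := IsAlgSpace.yon_obj (S := S) U
  have hcov : IsFppfCover (fun _ : PUnit.{u + 1} => (yon S).obj U) (fun _ => a) :=
    ⟨fun _ => ⟨locP_of_repWith etLocal_flat hU (RepWith.mono etLocal_flat.of_etale hae),
      locP_of_repWith etLocal_lfp hU (RepWith.mono etLocal_lfp.of_etale hae)⟩,
      fun y => ⟨⟨⟩, surjective_map_of_repWith has y⟩⟩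
  have sq := IsPullback.of_hasPullback i a
  refine repWith_closedImmersion_of_isClosed_range ?_ (hi ▸ hx)
  refine (isLocalOnBase_fppf_immersion (fun _ : PUnit.{u + 1} => (yon S).obj U) (fun _ => a) hX
    (fun _ => hU) hcov i hZ (fun _ => pullback i a) (fun _ => pullback.snd i a)
    (fun _ => pullback.fst i a) (fun _ => isAlgSpace_of_isPullback hX.diag hZ hU sq)
    (fun _ => sq)).2 fun _ => ?_
  refine RepWith.mono (fun _ _ g hg => ?_)
    (closedImmersion_pullback_residual hX hZ hN i hx hi p hpf hps a hae)
  have : IsClosedImmersion g := hg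
  infer_instance

end Groth.Agent.AlgSpLib
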