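import Groth.Agent.AlgSpLib.ResidualSpace
import Groth.Agent.AlgSpLib.DecentPoints
import Groth.Agent.AlgSpLib.FlatAt
import Groth.Agent.AlgSpLib.GeomReducedPt
import Groth.Agent.AlgSpLib.RepLocal

/-!
Morphisms from reduced spaces into a point of a locally Noetherian space factor through the residual space.
-/

universe u

open CategoryTheory CategoryTheory.Limits AlgebraicGeometry Opposite
open AlgSp

noncomputable section

namespace Groth.Agent.AlgSpLib

set_option backward.isDefEq.respectTransparency.types false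
set_option backward.isDefEq.respectTransparency false

/-- an image without specialisations in a Noetherian spectrum is finite -/
theorem finite_range_comap_of_no_specializations {A B : Type u} [CommRing A] [IsNoetherianRing A] [CommRing B]
    (φ : A →+* B) (h : ∀ P Q : PrimeSpectrum B, PrimeSpectrum.comap φ P ⤳ PrimeSpectrum.comap φ Q →
      PrimeSpectrum.comap φ P = PrimeSpectrum.comap φ Q) :
    (Set.range (PrimeSpectrum.comap φ)).Finite := by
  refine ((Ideal.finite_minimalPrimes_of_isNoetherianRing A (RingHom.ker φ)).preimage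
    (f := fun p : PrimeSpectrum A => p.asIdeal) fun a _ b _ e => PrimeSpectrum.ext e).subset ?_
  rintro _ ⟨Q, rfl⟩
  obtain ⟨q0, hq0, hle⟩ := Ideal.exists_minimalPrimes_le
    (show RingHom.ker φ ≤ (PrimeSpectrum.comap φ Q).asIdeal from Ideal.comap_mono bot_le)
  obtain ⟨P, hP, -, hP'⟩ := Ideal.exists_comap_eq_of_mem_minimalPrimes φ (I := ⊥) q0
    (by simpa only [← RingHom.ker_eq_comap_bot] using hq0)
  have e := h ⟨P, hP⟩ Q ((PrimeSpectrum.le_iff_specializes _ _).1 (show P.comap φ ≤ _ from hP'.le.trans hle))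
  refine Set.mem_preimage.2 ?_
  rw [← e]
  rw [PrimeSpectrum.comap_asIdeal]; exact hP'.symm ▸ hq0

/-- a map from a reduced affine scheme with a single image point factors through its residue field -/
theorem exists_fac_residueField {U : Scheme.{u}} {O : U.Opens} (hO : IsAffineOpen O) {u : U} (hu : u ∈ O)
    {B : CommRingCat.{u}} [_root_.IsReduced B] (φ : Γ(U, O) ⟶ B)
    (h : ∀ P : Spec B, hO.fromSpec (Spec.map φ P) = u) :
    ∃ ρ : U.residueField u ⟶ B, Spec.map φ ≫ hO.fromSpec = Spec.map ρ ≫ U.fromSpecResidueField u := by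
  let q := hO.primeIdealOf ⟨u, hu⟩
  have hq : ∀ P : Spec B, Spec.map φ P = q := fun P => hO.fromSpec.isOpenEmbedding.injective
    ((h P).trans (hO.fromSpec_primeIdealOf ⟨u, hu⟩).symm)
  have := hO.isLocalization_stalk ⟨u, hu⟩
  let _ : Algebra Γ(U, O) (U.presheaf.stalk u) := TopCat.Presheaf.algebra_section_stalk U.presheaf ⟨u, hu⟩
  have : IsLocalization.AtPrime (U.presheaf.stalk u) q.asIdeal := hO.isLocalization_stalk ⟨u, hu⟩
  have hunit : ∀ s : q.asIdeal.primeCompl, IsUnit (φ.hom s.1) := fun s => by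
    by_contra hs
    obtain ⟨m, hm, hsm⟩ := exists_max_ideal_of_mem_nonunits hs
    exact s.2 ((congrArg (fun p : PrimeSpectrum _ => p.asIdeal) (hq ⟨m, hm.isPrime⟩)).le hsm)
  have hnil : ∀ a ∈ q.asIdeal, φ.hom a = 0 := fun a ha => by
    refine IsReduced.eq_zero _ (nilpotent_iff_mem_prime.2 fun J hJ => ?_)
    exact (congrArg (fun p : PrimeSpectrum _ => p.asIdeal) (hq ⟨J, hJ⟩)).ge ha
  let ψ : U.presheaf.stalk u →+* B := IsLocalization.lift (M := q.asIdeal.primeCompl) hunit
  have hψ : ∀ t ∈ IsLocalRing.maximalIdeal (U.presheaf.stalk u), ψ t = 0 := fun t ht => by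
    obtain ⟨a, s, rfl⟩ := IsLocalization.exists_mk'_eq q.asIdeal.primeCompl t
    rw [IsLocalization.AtPrime.mk'_mem_maximal_iff (S := U.presheaf.stalk u) q.asIdeal] at ht
    show IsLocalization.lift hunit _ = 0
    rw [IsLocalization.lift_mk', hnil a ht, zero_mul]
  refine ⟨CommRingCat.ofHom (Ideal.Quotient.lift _ ψ hψ), ?_⟩
  rw [Scheme.fromSpecResidueField, ← Category.assoc, ← Spec.map_comp, ← hO.fromSpecStalk_eq_fromSpecStalk hu,
    IsAffineOpen.fromSpecStalk, ← Category.assoc, ← Spec.map_comp]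
  congr 2
  ext a
  exact (IsLocalization.lift_eq hunit a).symm

variable {S : Scheme.{u}} {X Y Z : Sp S}

theorem exists_fac_residual (hX : IsAlgSpace X) (hY : IsAlgSpace Y) (hZ : IsAlgSpace Z)
    (hN : IsLocNoethSp X) (hred : EtaleLocally (fun U => IsReduced U) Y) (f : Y ⟶ X) {x : Points X}
    (hf : ∀ y, Points.map f y = x) (i : Z ⟶ X) [Mono i] (hi : Set.range (Points.map i) = {x}) :
    ∃ g : Y ⟶ Z, g ≫ i = f := by
  obtain ⟨U, a, hae, has⟩ := hX.atlas
  obtain ⟨W, w, c, hwe, hws, hc⟩ := exists_chart_over hY hX f a hae has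
  have : IsReduced W.left := isReduced_of_etaleLocally hred w hwe
  have : IsLocallyNoetherian U.left := isLocallyNoetherian_of_chart hX hN a hae
  have hcx : ∀ t, Points.ofPt a (c.left t) = x := fun t => by
    rw [← ofPt_map, ← hc, ← Points.map_ofPt, hf]
  have local_lift : ∀ t : W.left, ∃ (V : Over S) (j : V ⟶ W), IsOpenImmersion j.left ∧ t ∈ Set.range j.left ∧
      ∃ l : (yon S).obj V ⟶ Z, l ≫ i = (yon S).map j ≫ w ≫ f := by
    intro t
    obtain ⟨O, hO, htO, -⟩ := exists_isAffineOpen_mem_and_subset (x := c.left t) (U := ⊤) trivial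
    obtain ⟨V, hV, htV, hVO⟩ := exists_isAffineOpen_mem_and_subset (x := t) (U := c.left ⁻¹ᵁ O) htO
    have : IsNoetherianRing Γ(U.left, O) := IsLocallyNoetherian.component_noetherian ⟨O, hO⟩
    let φ := c.left.appLE O V hVO
    have hφ : Spec.map φ ≫ hO.fromSpec = hV.fromSpec ≫ c.left :=
      IsAffineOpen.SpecMap_appLE_fromSpec c.left hO hV hVO
    have hE : (c.left '' (V : Set W.left)).Finite := by
      have hfin := finite_range_comap_of_no_specializations φ.hom fun P Q hPQ => by
        refine hO.fromSpec.isOpenEmbedding.injective ?_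
        have e1 : ∀ R, hO.fromSpec (PrimeSpectrum.comap φ.hom R) = c.left (hV.fromSpec R) := fun R =>
          congrArg (fun m : Spec Γ(W.left, V) ⟶ U.left => m R) hφ
        exact (eq_of_specializes_of_locNoeth hN a hae _ _
          ((congrArg (Points.ofPt a) (e1 Q)).trans ((hcx _).trans ((hcx _).symm.trans
            (congrArg (Points.ofPt a) (e1 P)).symm)))
          (hPQ.map hO.fromSpec.continuous)).symm
      refine (hfin.image hO.fromSpec).subset ?_
      rintro _ ⟨s, hs, rfl⟩
      obtain ⟨R, rfl⟩ : s ∈ Set.range hV.fromSpec := by rw [hV.range_fromSpec]; exact hs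
      exact ⟨_, ⟨R, rfl⟩, congrArg (fun m : Spec Γ(W.left, V) ⟶ U.left => m R) hφ⟩
    let F : Set U.left := ⋃ e ∈ (c.left '' (V : Set W.left) \ {c.left t}), closure {e}
    have hFc : IsClosed F := (hE.subset Set.sdiff_subset).isClosed_biUnion fun _ _ => isClosed_closure
    have htF : c.left t ∉ F := fun h => by
      obtain ⟨e, ⟨⟨s, hs, rfl⟩, hne⟩, he⟩ := Set.mem_iUnion₂.1 h
      exact hne (eq_of_specializes_of_locNoeth hN a hae _ _ ((hcx t).trans (hcx s).symm)
        (specializes_iff_mem_closure.2 he)).symm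
    obtain ⟨V', hV', htV', hV'V⟩ := exists_isAffineOpen_mem_and_subset (x := t)
      (U := V ⊓ c.left ⁻¹ᵁ ⟨Fᶜ, hFc.isOpen_compl⟩) ⟨htV, htF⟩
    let φ' := c.left.appLE O V' (fun s hs => hVO (hV'V hs).1)
    have hφ' : Spec.map φ' ≫ hO.fromSpec = hV'.fromSpec ≫ c.left :=
      IsAffineOpen.SpecMap_appLE_fromSpec c.left hO hV' _
    have : _root_.IsReduced Γ(W.left, V') := IsReduced.component_reduced V'
    obtain ⟨ρ, hρ⟩ := exists_fac_residueField hO htO φ' fun P => by
      have hP : hV'.fromSpec P ∈ V' := hV'.range_fromSpec.le ⟨P, rfl⟩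
      refine (congrArg (fun m : Spec Γ(W.left, V') ⟶ U.left => m P) hφ').trans ?_
      by_contra hne
      exact (hV'V hP).2 (Set.mem_iUnion₂.2 ⟨_, ⟨⟨_, (hV'V hP).1, rfl⟩, hne⟩, subset_closure rfl⟩)
    let P : Over S := Over.mk (hV'.fromSpec ≫ W.hom)
    let T : Over S := Over.mk (U.left.fromSpecResidueField (c.left t) ≫ U.hom)
    let j : P ⟶ W := Over.homMk hV'.fromSpec
    have hρ' : Spec.map ρ ≫ U.left.fromSpecResidueField (c.left t) = hV'.fromSpec ≫ c.left :=
      hρ.symm.trans hφ'
    let r : P ⟶ T := Over.homMk (Spec.map ρ) (by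
      show Spec.map ρ ≫ U.left.fromSpecResidueField (c.left t) ≫ U.hom = hV'.fromSpec ≫ W.hom
      rw [reassoc_of% hρ', Over.w c])
    obtain ⟨Z', hZ', i', z, _, hze, hzs, hz⟩ := exists_quot_field hX a hae (c.left t)
    have hT := IsAlgSpace.yon_obj (S := S) T
    obtain ⟨e, he⟩ := exists_fac_of_fppf_fieldPt hX hZ' hZ z
      (locP_of_repWith etLocal_lfp hT (RepWith.mono etLocal_lfp.of_etale hze))
      (locP_of_repWith etLocal_flat hT (RepWith.mono etLocal_flat.of_etale hze))
      (surjective_map_of_repWith hzs) i' i (by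
        rintro _ ⟨z', rfl⟩
        obtain ⟨p, rfl⟩ := surjective_ofPt z hzs z'
        rw [hi, Set.mem_singleton_iff, Points.map_ofPt, hz, ofPt_map]
        exact (congrArg (Points.ofPt a) (U.left.fromSpecResidueField_apply _ p)).trans (hcx t))
    refine ⟨P, j, inferInstanceAs (IsOpenImmersion hV'.fromSpec), ?_, (yon S).map r ≫ z ≫ e, ?_⟩
    · show t ∈ Set.range hV'.fromSpec
      rw [hV'.range_fromSpec]; exact htV'
    · rw [Category.assoc, Category.assoc, he, hz, ← Category.assoc, ← Functor.map_comp, hc,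
        ← Category.assoc ((yon S).map j), ← Functor.map_comp]
      congr 2
      exact Over.OverMorphism.ext hρ'
  choose V j hj htj l hl using local_lift
  have : ∀ t, Flat (j t).left := fun t => by have := hj t; infer_instance
  have : ∀ t, LocallyOfFinitePresentation (j t).left := fun t => by have := hj t; infer_instance
  obtain ⟨g', hg'⟩ := yon_exists_glue j (fun t => ⟨t, htj t⟩) l fun t t' Q p q hpq => by
    rw [← cancel_mono i, Category.assoc, Category.assoc, hl, hl, ← Category.assoc, ← Functor.map_comp, hpq,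
      Functor.map_comp, Category.assoc]
  have hg : g' ≫ i = w ≫ f := yon_hom_ext_of_cover j (fun t => ⟨t, htj t⟩) _ _ fun t => by
    rw [← Category.assoc, hg', hl]
  have : Epi w := (Sheaf.isLocallySurjective_iff_epi' (Type (u + 1)) w).1 (isLocallySurjective_of_etale hwe hws)
  have : IsRegularEpiCategory (Sp S) :=
    inferInstanceAs (IsRegularEpiCategory (Sheaf (J S) (Type (u + 1))))
  have : IsRegularEpi w := IsRegularEpiCategory.regularEpiOfEpi w
  exact ⟨(CommSq.mk hg : CommSq g' w i f).lift, CommSq.fac_right _⟩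

end Groth.Agent.AlgSpLib
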