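import Groth.Agent.AlgSpLib.OnePointFlat
import Groth.Agent.AlgSpLib.MorMore2
import Groth.Agent.AlgSpLib.EqvQuot
import Groth.Agent.AlgSpLib.QuotSpLemmas
import Groth.Agent.AlgSpLib.Pres
import Groth.Agent.AlgSpLib.Descent

/-!
Residual spaces: quotients of spectra of residue fields, and their uniqueness.
-/

universe u

open CategoryTheory CategoryTheory.Limits AlgebraicGeometry Opposite
open AlgSp

noncomputable section

namespace Groth.Agent.AlgSpLib

set_option backward.isDefEq.respectTransparency.types false

variable {S : Scheme.{u}} {X Z Z' : Sp S}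

/-- a quotient map through which the kernel relation lifts gives a monomorphism -/
theorem mono_quotSpDesc {R U : Over S} {s t : R ⟶ U} {g : (yon S).obj U ⟶ X}
    (sq : IsPullback ((yon S).map s) ((yon S).map t) g g) :
    Mono (quotSpDesc g sq.w : quotSp ((yon S).map s) ((yon S).map t) ⟶ X) := by
  let π := quotSpπ ((yon S).map s) ((yon S).map t)
  let i : quotSp ((yon S).map s) ((yon S).map t) ⟶ X := quotSpDesc g sq.w
  have hπi : π ≫ i = g := quotSpπ_desc _ _ _ _
  refine ⟨fun {W} x y h => hom_ext_of_yon fun T w => ?_⟩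
  obtain ⟨C₁, hC₁, h₁⟩ := exists_covering_lift π (w ≫ x)
  obtain ⟨C₂, hC₂, h₂⟩ := exists_covering_lift π (w ≫ y)
  refine eq_of_covering ((J S).intersection_covering hC₁ hC₂) fun T' f hf => ?_
  obtain ⟨a, ha⟩ := h₁ f hf.1
  obtain ⟨b, hb⟩ := h₂ f hf.2
  have e : a ≫ g = b ≫ g := by
    rw [← hπi, ← Category.assoc, ha, ← Category.assoc b, hb]
    simp only [Category.assoc]
    exact congrArg _ (congrArg _ h)
  rw [← ha, ← hb, ← sq.lift_fst a b e, Category.assoc, quotSp_condition, ← Category.assoc,
    sq.lift_snd]

/-- the image of the spectrum of a residue field of an etale chart is an algebraic space -/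
theorem exists_quot_field (hX : IsAlgSpace X) {U : Over S} (a : (yon S).obj U ⟶ X)
    (ha : RepWith @Etale a) (u : U.left) :
    ∃ (Z : Sp S) (_ : IsAlgSpace Z) (i : Z ⟶ X)
      (z : (yon S).obj (Over.mk (U.left.fromSpecResidueField u ≫ U.hom)) ⟶ Z),
      Mono i ∧ RepWith @Etale z ∧ RepWith @Surjective z ∧
        z ≫ i = (yon S).map (Over.homMk (U.left.fromSpecResidueField u) :
          Over.mk (U.left.fromSpecResidueField u ≫ U.hom) ⟶ U) ≫ a := by
  let T : Over S := Over.mk (U.left.fromSpecResidueField u ≫ U.hom)
  let ι : T ⟶ U := Over.homMk (U.left.fromSpecResidueField u)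
  let g := (yon S).map ι ≫ a
  have hsub : Subsingleton ↥T.left :=
    inferInstanceAs (Subsingleton ↥(Spec (U.left.residueField u)))
  have hred : IsReduced T.left := inferInstanceAs (IsReduced (Spec (U.left.residueField u)))
  have : Mono ι.left := inferInstanceAs (Mono (U.left.fromSpecResidueField u))
  have key : ∀ {R : Over S} (p q : R ⟶ T), IsPullback ((yon S).map p) ((yon S).map q) g g →
      Etale q.left := by
    intro R p q sq
    have sqA := ha.1.isPullback' g
    let A := ha.1.pullback g
    let e : A ⟶ T := ha.1.snd g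
    have he : Etale e.left := ha.property_snd g
    have : IsReduced A.left := isReduced_of_etale' e.left
    have := locallyQuasiFinite_of_etale e.left
    have : DiscreteTopology ↥A.left := by
      refine discreteTopology_iff_isOpen_singleton.2 fun w => ?_
      have h := e.left.isDiscrete_preimage_singleton (e.left w)
      rw [show e.left ⁻¹' {e.left w} = Set.univ from
        Set.eq_univ_of_forall fun v => Subsingleton.elim _ _] at h
      have := isDiscrete_univ_iff.1 h
      exact isOpen_discrete _
    let m₀ : (yon S).obj R ⟶ (yon S).obj A :=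
      sqA.lift ((yon S).map p ≫ (yon S).map ι) ((yon S).map q) (by rw [Category.assoc]; exact sq.w)
    have hι : Mono ((yon S).map ι) := by
      have : Mono ι := (Over.forget S).mono_of_mono_map (inferInstanceAs (Mono ι.left))
      infer_instance
    have hm₀ : Mono m₀ := ⟨fun x y h => sq.hom_ext
      ((cancel_mono ((yon S).map ι)).1 (by
        have := congr($h ≫ (yon S).map (ha.1.fst' g))
        simpa only [m₀, Category.assoc, IsPullback.lift_fst] using this))
      (by
        have := congr($h ≫ (yon S).map (ha.1.snd g))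
        simpa only [m₀, Category.assoc, IsPullback.lift_snd] using this)⟩
    obtain ⟨m, hm⟩ := (yon S).map_surjective m₀
    have : Mono ((yon S).map m) := hm ▸ hm₀
    have : Mono m := (yon S).mono_of_mono_map this
    have : Mono m.left := inferInstance
    have := SchMor12.isOpenImmersion_of_mono_of_discrete m.left
    have e2 : m ≫ e = q := (yon S).map_injective (by rw [Functor.map_comp, hm, IsPullback.lift_snd])
    rw [← e2, Over.comp_left]
    infer_instance
  have hg : Representable g := hX.representable_from_yon g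
  have sq₀ := hg.isPullback' g
  have hs : Etale (hg.snd g).left := key _ _ sq₀
  have ht : Etale (hg.fst' g).left := key _ _ sq₀.flip
  have h : IsEtaleEqvRel (hg.snd g) (hg.fst' g) := ⟨isEqvRel_of_isPullback sq₀, hs, ht⟩
  exact ⟨_, isAlgSpace_quotSp h, quotSpDesc g sq₀.w.symm, quotSpπ _ _, mono_quotSpDesc sq₀.flip,
    (isPresentation_quotSp h).etale, (isPresentation_quotSp h).surjective, quotSpπ_desc _ _ _ _⟩

/-- a one point space covered by the spectrum of a field factors through monomorphisms meeting it -/
theorem exists_fac_of_fppf_fieldPt (hX : IsAlgSpace X) (hZ : IsAlgSpace Z) (hZ' : IsAlgSpace Z')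
    {k : Type u} [Field k] {str : Spec (CommRingCat.of k) ⟶ S}
    (p : (yon S).obj (Over.mk str) ⟶ Z) (hpp : LocP @LocallyOfFinitePresentation p)
    (hpf : LocP @Flat p) (hps : IsSurjectiveMor p) (i : Z ⟶ X) (i' : Z' ⟶ X) [Mono i']
    (h : Set.range (Points.map i) ⊆ Set.range (Points.map i')) :
    ∃ e : Z ⟶ Z', e ≫ i' = i := by
  have hT := IsAlgSpace.yon_obj (S := S) (Over.mk str)
  have sq := IsPullback.of_hasPullback i' (p ≫ i)
  have hP := isAlgSpace_of_isPullback hX.diag hZ' hT sq
  obtain ⟨z', hz'⟩ := h ⟨Points.map p (ptOfHom (𝟙 _)), (Points.map_comp p i _).symm⟩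
  obtain ⟨w, -, -⟩ := exists_point_of_isPullback sq (x := z') (y := ptOfHom (𝟙 _)) hz'
  have : IsIso (pullback.snd i' (p ≫ i)) := isIso_of_mono_to_field' hP _ w
  let r := inv (pullback.snd i' (p ≫ i)) ≫ pullback.fst i' (p ≫ i)
  have hr : r ≫ i' = p ≫ i := by
    rw [Category.assoc, pullback.condition, IsIso.inv_hom_id_assoc]
  have hrep := hZ.representable_from_yon p
  have hl := isLocallySurjective_of_repWith
    ((repWith_iff_locP etLocal_flat hT hZ hrep).2 hpf)
    ((repWith_iff_locP etLocal_lfp hT hZ hrep).2 hpp)
    (repWith_surjective_of_surjective_map hrep hps)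
  have : Epi p := (Sheaf.isLocallySurjective_iff_epi' (Type (u + 1)) p).1 hl
  have : IsRegularEpiCategory (Sp S) :=
    inferInstanceAs (IsRegularEpiCategory (Sheaf (J S) (Type (u + 1))))
  have : IsRegularEpi p := IsRegularEpiCategory.regularEpiOfEpi p
  have : StrongEpi p := inferInstance
  exact ⟨(CommSq.mk hr : CommSq r p i' i).lift, CommSq.fac_right _⟩

end Groth.Agent.AlgSpLib
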