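import Groth.Agent.AlgSpLib.QCohEtRlim
import Groth.Agent.AlgSpLib.QCohEtLim
import Groth.Agent.AlgSpLib.PullModEt
import Groth.Agent.DerCompLib.KoszulPush
import Groth.Agent.AlgSpLib.SerreChevVanish
import Groth.Agent.AlgSpLib.SerreAffineSec

/-!
Direct image along affine morphisms reflects isomorphisms between objects with quasi-coherent cohomology.
-/

set_option autoImplicit false
set_option backward.isDefEq.respectTransparency false
set_option backward.isDefEq.respectTransparency.types false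
set_option linter.style.haveILetI false

universe w v u

open CategoryTheory CategoryTheory.Limits CategoryTheory.Pretriangulated HomologicalComplex DerivedCategory Opposite AlgebraicGeometry
open Groth.Agent.SiteDer16 Groth.Agent.DCat AlgSp

attribute [local instance] HasDerivedCategory.standard

noncomputable section

namespace Groth.Agent.AlgSpLib.RpushReflect

/-- a map from a single object is zero in the derived category once it is a boundary -/
theorem Q_map_eq_zero {A : Type u} [Category.{v} A] [Abelian A] {P : A} {C : CochainComplex A ℤ}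
    (g₀ : (single A (ComplexShape.up ℤ) 0).obj P ⟶ C) (k : P ⟶ C.X (-1))
    (hk : k ≫ C.d (-1) 0 = (singleObjXSelf (ComplexShape.up ℤ) 0 P).inv ≫ g₀.f 0) : Q.map g₀ = 0 := by
  let Pz := (single A (ComplexShape.up ℤ) (0 : ℤ)).obj P
  let hmap : ∀ a b, (ComplexShape.up ℤ).Rel b a → (Pz.X a ⟶ C.X b) := fun a b _ =>
    if h : a = 0 ∧ b = -1 then (Pz.XIsoOfEq h.1).hom ≫ (singleObjXSelf (ComplexShape.up ℤ) 0 _).hom ≫ k ≫
      (C.XIsoOfEq h.2.symm).hom else 0
  refine Amplitude.Q_map_eq_zero_of_homotopy ((Homotopy.ofEq ?_).trans (Homotopy.nullHomotopy' hmap))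
  apply from_single_hom_ext
  rw [Homotopy.nullHomotopicMap'_f (show (ComplexShape.up ℤ).Rel (-1) 0 by simp)
    (show (ComplexShape.up ℤ).Rel 0 (0 + 1) by simp),
    show Pz.d 0 (0 + 1) = 0 by simp [Pz], zero_comp, zero_add]
  simp only [hmap, and_self, dite_true, XIsoOfEq_rfl, Iso.refl_hom, Category.id_comp, Category.comp_id,
    Category.assoc]
  rw [hk]
  simp

open Groth.Agent.AlgSpLib.EtSmall Groth.Agent.AlgSpLib.QCohEt

variable {S : Scheme.{u}} {X Y : Sp S}

theorem secEquiv_map {W V : Idx X} (g : W ⟶ V) {M : ModEt X} (x : (etSections X).P.obj V ⟶ M) :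
    secEquiv X W M ((etSections X).P.map g ≫ x) = M.val.map g.down.op (secEquiv X V M x) := by
  show SiteDer16.modHomEquiv₀ (OO X) _ _ (((modEquiv X).toAdjunction).homEquiv _ M
    ((modEquiv X).functor.map ((SiteDer16.modFree (OO X)).map g) ≫ x)) = _
  rw [Adjunction.homEquiv_naturality_left]
  exact SiteDer16.modHomEquiv₀_precomp (OO X) g _

variable {f : X ⟶ Y} (hf : Representable f)

/-- base change on the small models -/
abbrev bcI (V : Idx Y) : Idx X := ULiftHom.objUp (EtOver.bcObj hf (ULiftHom.objDown V))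

/-- base change of arrows on the small models -/
abbrev bcM {V W : Idx Y} (g : W ⟶ V) : bcI hf W ⟶ bcI hf V := ⟨(EtOver.bc hf).map g.down⟩

/-- the sections of the direct image -/
abbrev pushSec (V : Idx Y) (M : ModEt X) :
    ((etSections X).P.obj (bcI hf V) ⟶ M) → ((etSections Y).P.obj V ⟶ (pushModEt hf).obj M) :=
  fun x => (secEquiv Y V ((pushModEt hf).obj M)).symm (secEquiv X (bcI hf V) M x)

theorem pushSec_bijective (V : Idx Y) (M : ModEt X) : Function.Bijective (pushSec hf V M) :=
  (secEquiv Y V ((pushModEt hf).obj M)).symm.bijective.comp (secEquiv X (bcI hf V) M).bijective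

theorem pushSec_zero (V : Idx Y) (M : ModEt X) : pushSec hf V M 0 = 0 :=
  (congrArg (secEquiv Y V ((pushModEt hf).obj M)).symm (map_zero (secEquiv X (bcI hf V) M))).trans (map_zero _)

theorem pushSec_comp {V : Idx Y} {M N : ModEt X} (x : (etSections X).P.obj (bcI hf V) ⟶ M) (φ : M ⟶ N) :
    pushSec hf V N (x ≫ φ) = pushSec hf V M x ≫ (pushModEt hf).map φ := by
  apply (secEquiv Y V _).injective
  rw [secEquiv_comp]
  show secEquiv Y V _ ((secEquiv Y V _).symm _) = ((pushModEt hf).map φ).val.app _ (secEquiv Y V _ ((secEquiv Y V _).symm _))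
  rw [AddEquiv.apply_symm_apply, AddEquiv.apply_symm_apply]
  exact secEquiv_comp X (bcI hf V) x φ

theorem pushSec_map {V W : Idx Y} (g : W ⟶ V) {M : ModEt X} (x : (etSections X).P.obj (bcI hf V) ⟶ M) :
    pushSec hf W M ((etSections X).P.map (bcM hf g) ≫ x) = (etSections Y).P.map g ≫ pushSec hf V M x := by
  apply (secEquiv Y W _).injective
  rw [secEquiv_map]
  show secEquiv Y W _ ((secEquiv Y W _).symm _) = ((pushModEt hf).obj M).val.map _ (secEquiv Y V _ ((secEquiv Y V _).symm _))
  rw [AddEquiv.apply_symm_apply, AddEquiv.apply_symm_apply]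
  exact secEquiv_map (bcM hf g) x

/-- maps into a complex with acyclic direct image vanish locally on the target -/
theorem exists_locally_zero (C : CochainComplex (ModEt X) ℤ) [C.IsKInjective]
    (hac : (((pushModEt hf).mapHomologicalComplex (ComplexShape.up ℤ)).obj C).ExactAt 0) (V : Idx Y)
    (y : (etSections X).pt.obj (bcI hf V) ⟶ Q.obj C) :
    ∃ T ∈ top Y V, ∀ ⦃W : Idx Y⦄ (g : W ⟶ V), T g → (etSections X).pt.map (bcM hf g) ≫ y = 0 := by
  obtain ⟨g₀, hg₀⟩ := Amplitude.exists_Q_map_eq (CochainComplex.IsKInjective.Qh_map_bijective _ C) y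
  let c := (singleObjXSelf (ComplexShape.up ℤ) 0 ((etSections X).P.obj (bcI hf V))).inv ≫ g₀.f 0
  have hc : c ≫ C.d 0 1 = 0 := by
    simp [c]
  let D := ((pushModEt hf).mapHomologicalComplex (ComplexShape.up ℤ)).obj C
  let c' : (etSections Y).P.obj V ⟶ D.X 0 := pushSec hf V (C.X 0) c
  have hc' : c' ≫ D.d 0 1 = 0 :=
    ((pushSec_comp hf c (C.d 0 1)).symm.trans (congrArg (pushSec hf V (C.X 1)) hc)).trans (pushSec_zero hf V _)
  have hex := (D.exactAt_iff' (-1) 0 1 (by simp) (by simp)).1 hac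
  obtain ⟨A', π, _, b, hb⟩ := hex.exact_up_to_refinements c' hc'
  obtain ⟨T, hT, hl⟩ := (etSections Y).lift π (𝟙 ((etSections Y).P.obj V))
  refine ⟨T, hT, fun W g hg => ?_⟩
  obtain ⟨q, hq⟩ := hl g hg
  obtain ⟨k, hk⟩ := (pushSec_bijective hf W (C.X (-1))).2 (q ≫ b)
  have hkd : k ≫ C.d (-1) 0 = (etSections X).P.map (bcM hf g) ≫ c := by
    apply (pushSec_bijective hf W (C.X 0)).1
    rw [pushSec_comp, pushSec_map, hk]
    show (q ≫ b) ≫ D.d (-1) 0 = _ ≫ c'
    have hb' : π ≫ c' = b ≫ D.d (-1) 0 := hb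
    rw [Category.assoc, ← hb', ← Category.assoc, hq, Category.comp_id]
  rw [← hg₀]
  refine (Q.map_comp _ _).symm.trans ?_
  refine Q_map_eq_zero _ k (hkd.trans ?_)
  simp [c, single_map_f_self]

/-- quasi-coherent modules with no sections over base changes of affine objects vanish -/
theorem isZero_of_push (hY : IsAlgSpace Y) (haff : IsAffineMor f) (H : ModEt X) [H.IsQuasicoherent]
    (h : ∀ V ∈ affSet Y, ∀ x : (etSections X).P.obj (bcI hf V) ⟶ H, x = 0) : IsZero H := by
  have h0 : IsZero ((pushModEt hf).obj H) := SerreChev.isZero_of_forall _ fun E hE a => by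
    let V : Idx Y := ULiftHom.objUp E
    obtain ⟨x, hx⟩ := (pushSec_bijective hf V H).2 ((secEquiv Y V _).symm a)
    rw [h V hE x, pushSec_zero] at hx
    exact ((secEquiv Y V _).symm.map_eq_zero_iff).1 hx.symm
  exact (IsZero.iff_id_eq_zero H).2 (eq_zero_of_pushModEt_map hf hY haff _
    ((pushModEt hf).map_id H ▸ (IsZero.iff_id_eq_zero _).1 h0))

/-- morphisms out of free modules on affines lift along epimorphisms of quasi-coherent modules -/
theorem exists_lift_of_epi {A B : ModEt X} [A.IsQuasicoherent] [B.IsQuasicoherent] (p : A ⟶ B) [Epi p] {V : Idx X}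
    (hV : V ∈ affSet X) (x : (etSections X).P.obj V ⟶ B) : ∃ x' : (etSections X).P.obj V ⟶ A, x' ≫ p = x := by
  haveI : IsAff (ULiftHom.objDown V) := hV
  obtain ⟨s, hs⟩ := surjective_secMap_of_epi p (ULiftHom.objDown V) (secEquiv X V _ x)
  refine ⟨(secEquiv X V A).symm s, (secEquiv X V B).injective ?_⟩
  rw [secEquiv_comp, AddEquiv.apply_symm_apply]
  exact hs

/-- maps of quasi-coherent modules bijective locally on base changes of affine objects are isomorphisms -/
theorem isIso_of_locally (hY : IsAlgSpace Y) (haff : IsAffineMor f) {A B : ModEt X} [A.IsQuasicoherent]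
    [B.IsQuasicoherent] (φ : A ⟶ B) (hW : ∀ V ∈ affSet Y, bcI hf V ∈ affSet X)
    (hker : ∀ V ∈ affSet Y, ∀ x : (etSections X).P.obj (bcI hf V) ⟶ A, x ≫ φ = 0 → x = 0)
    (hlift : ∀ V ∈ affSet Y, ∀ x : (etSections X).P.obj (bcI hf V) ⟶ B, ∃ T ∈ top Y V, ∀ ⦃W : Idx Y⦄ (g : W ⟶ V),
      T g → ∃ z, z ≫ φ = (etSections X).P.map (bcM hf g) ≫ x) : IsIso φ := by
  haveI := isQuasicoherent_kernel φ
  haveI := isQuasicoherent_cokernel φ
  haveI : Mono φ := Preadditive.mono_of_isZero_kernel φ (isZero_of_push hf hY haff (kernel φ) fun V hV x => by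
    rw [← cancel_mono (kernel.ι φ), zero_comp]
    exact hker V hV _ (by rw [Category.assoc, kernel.condition, comp_zero]))
  haveI : Epi φ := Preadditive.epi_of_isZero_cokernel φ (isZero_of_push hf hY haff (cokernel φ) fun V hV x => by
    obtain ⟨x', rfl⟩ := exists_lift_of_epi (cokernel.π φ) (hW V hV) x
    obtain ⟨T, hT, hl⟩ := hlift V hV x'
    apply (pushSec_bijective hf V _).1
    rw [pushSec_zero]
    refine (etSections Y).sep _ T hT fun W k hk => ?_
    obtain ⟨z, hz⟩ := hl k hk
    rw [← pushSec_map, ← Category.assoc, ← hz, Category.assoc, cokernel.condition, comp_zero, pushSec_zero])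
  exact isIso_of_mono_of_epi φ

set_option maxHeartbeats 4000000 in
/-- maps whose cone has acyclic direct image are isomorphisms on `H^0` -/
theorem isIso_homology_zero (hY : IsAlgSpace Y) (haff : IsAffineMor f) {I J : CochainComplex (ModEt X) ℤ}
    [I.IsKInjective] [J.IsKInjective] (g : I ⟶ J)
    (hI : DCoh.IsQCohDMod (OEtRing X) (Q.obj I)) (hJ : DCoh.IsQCohDMod (OEtRing X) (Q.obj J))
    (hac : ∀ n, (((pushModEt hf).mapHomologicalComplex (ComplexShape.up ℤ)).obj (CochainComplex.mappingCone g)).ExactAt n) :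
    IsIso ((homologyFunctor (ModEt X) 0).map (Q.map g)) := by
  haveI := DerCompLib.isKInjective_mappingCone g
  obtain ⟨φ, hφ⟩ : ∃ φ, φ = (homologyFunctor (ModEt X) 0).map (Q.map g) := ⟨_, rfl⟩
  rw [← hφ]
  haveI hI0 := hI 0
  haveI hJ0 := hJ 0
  let C := CochainComplex.mappingCone g
  have hd := DerivedCategory.mappingCone_triangle_distinguished g
  have hW : ∀ V ∈ affSet Y, bcI hf V ∈ affSet X := fun V hV => by
    haveI : IsAff (ULiftHom.objDown V) := hV
    exact isAff_bcObj hf haff (ULiftHom.objDown V)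
  have hker : ∀ V ∈ affSet Y, ∀ x : (etSections X).P.obj (bcI hf V) ⟶ (homologyFunctor (ModEt X) 0).obj (Q.obj I),
      x ≫ φ = 0 → x = 0 := by
    intro V hV x hx
    obtain ⟨y, rfl⟩ := (EtSmall.bijective_θ _ hI (hW V hV)).2 x
    have hy : y ≫ Q.map g = 0 := (EtSmall.bijective_θ _ hJ (hW V hV)).1 (by
      dsimp only
      rw [Sections.θ_comp, ← hφ, hx]
      simp [Sections.θ])
    obtain ⟨z, hz⟩ := Triangle.coyoneda_exact₂ _ (inv_rot_of_distTriang _ hd) y hy
    let e : (Q.obj C)⟦(-1 : ℤ)⟧ ≅ Q.obj (C⟦(-1 : ℤ)⟧) := ((Q (C := ModEt X)).commShiftIso (-1 : ℤ)).symm.app C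
    obtain ⟨T, hT, hl⟩ := exists_locally_zero hf (C⟦(-1 : ℤ)⟧) (by
      rw [exactAt_iff_isZero_homology]
      have e' := (((pushModEt hf).mapHomologicalComplex (ComplexShape.up ℤ)).commShiftIso (-1 : ℤ)).app C
      refine IsZero.of_iso ?_ ((HomologicalComplex.homologyFunctor _ _ 0).mapIso e')
      refine IsZero.of_iso ?_ (((HomologicalComplex.homologyFunctor (ModEt Y) (ComplexShape.up ℤ) 0).shiftIso (-1 : ℤ) 0 (-1) (by norm_num)).app _)
      exact (exactAt_iff_isZero_homology _ _).1 (hac (-1))) V (z ≫ e.hom)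
    apply (pushSec_bijective hf V _).1
    rw [pushSec_zero]
    refine (etSections Y).sep _ T hT fun W k hk => ?_
    rw [← pushSec_map, ← Sections.θ_map]
    have h0 : (etSections X).pt.map (bcM hf k) ≫ z = 0 := by
      rw [← cancel_mono e.hom, Category.assoc, hl k hk, zero_comp]
    have h1 : (etSections X).pt.map (bcM hf k) ≫ y = 0 :=
      ((congrArg (fun w => (etSections X).pt.map (bcM hf k) ≫ w) hz).trans (Category.assoc _ _ _).symm).trans
        ((congrArg (fun w => w ≫ _) h0).trans zero_comp)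
    rw [h1]
    simp [Sections.θ, pushSec_zero]
  refine isIso_of_locally hf hY haff φ hW hker fun V hV x' => ?_
  obtain ⟨y, hy⟩ := (EtSmall.bijective_θ _ hJ (hW V hV)).2 x'
  obtain ⟨T, hT, hl⟩ := exists_locally_zero hf C (hac 0) V (y ≫ Q.map (CochainComplex.mappingCone.inr g))
  refine ⟨T, hT, fun W k hk => ?_⟩
  obtain ⟨z, hz⟩ := Triangle.coyoneda_exact₂ _ hd ((etSections X).pt.map (bcM hf k) ≫ y)
    ((Category.assoc _ _ _).trans (hl k hk))
  refine ⟨(etSections X).θ z, ?_⟩
  rw [hφ, ← Sections.θ_comp, ← hy, ← Sections.θ_map]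
  exact congrArg _ hz.symm

/-- maps of K-injective complexes with quasi-isomorphic direct images are quasi-isomorphisms -/
theorem quasiIso_of_push (hY : IsAlgSpace Y) (haff : IsAffineMor f) {I J : CochainComplex (ModEt X) ℤ}
    [I.IsKInjective] [J.IsKInjective] (g : I ⟶ J)
    (hI : DCoh.IsQCohDMod (OEtRing X) (Q.obj I)) (hJ : DCoh.IsQCohDMod (OEtRing X) (Q.obj J))
    (hq : QuasiIso (((pushModEt hf).mapHomologicalComplex (ComplexShape.up ℤ)).map g)) :
    IsIso (Q.map g) := by
  rw [DerivedCategory.isIso_iff]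
  intro n
  have key : ∀ {I' J' : CochainComplex (ModEt X) ℤ} [I'.IsKInjective] [J'.IsKInjective] (g' : I' ⟶ J'),
      DCoh.IsQCohDMod (OEtRing X) (Q.obj I') → DCoh.IsQCohDMod (OEtRing X) (Q.obj J') →
      QuasiIso (((pushModEt hf).mapHomologicalComplex (ComplexShape.up ℤ)).map g') →
      IsIso ((homologyFunctor (ModEt X) 0).map (Q.map g')) := fun {I' J'} _ _ g' h1 h2 h3 => by
    refine isIso_homology_zero hf hY haff g' h1 h2 fun m => ?_
    haveI := (isIso_Q_map_iff_quasiIso _ _).2 h3
    have hz : IsZero (Q.obj (CochainComplex.mappingCone (((pushModEt hf).mapHomologicalComplex (ComplexShape.up ℤ)).map g'))) :=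
      (Triangle.isZero₃_iff_isIso₁ _ (mappingCone_triangle_distinguished
        (((pushModEt hf).mapHomologicalComplex (ComplexShape.up ℤ)).map g'))).2 this
    rw [exactAt_iff_isZero_homology]
    refine IsZero.of_iso ?_ ((HomologicalComplex.homologyFunctor _ _ m).mapIso
      (CochainComplex.mappingCone.mapHomologicalComplexIso g' (pushModEt hf)))
    exact IsZero.of_iso ((homologyFunctor (ModEt Y) m).map_isZero hz) ((homologyFunctorFactors (ModEt Y) m).symm.app _)
  let cI := ((Q (C := ModEt X)).commShiftIso n).app I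
  let cJ := ((Q (C := ModEt X)).commShiftIso n).app J
  haveI : IsIso ((homologyFunctor (ModEt X) 0).map (Q.map (g⟦n⟧'))) := key _
    (fun i => (SheafOfModules.isQuasicoherent (OEtRing X)).prop_of_iso
      ((homologyFunctor (ModEt X) i).mapIso cI).symm (EtSmall.isQCoh_shift hI n i))
    (fun i => (SheafOfModules.isQuasicoherent (OEtRing X)).prop_of_iso
      ((homologyFunctor (ModEt X) i).mapIso cJ).symm (EtSmall.isQCoh_shift hJ n i))
    (by
      refine (quasiIso_iff_of_arrow_mk_iso _ (((((pushModEt hf).mapHomologicalComplex (ComplexShape.up ℤ)).map g))⟦n⟧')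
        (Arrow.isoMk ((((pushModEt hf).mapHomologicalComplex (ComplexShape.up ℤ)).commShiftIso n).app I)
          ((((pushModEt hf).mapHomologicalComplex (ComplexShape.up ℤ)).commShiftIso n).app J)
          ((((pushModEt hf).mapHomologicalComplex (ComplexShape.up ℤ)).commShiftIso n).hom.naturality g).symm)).2 ?_
      exact (CochainComplex.quasiIso_shift_iff _ n).2 hq)
  have e := (homologyFunctor (ModEt X) 0).shiftIso n 0 n (by omega)
  haveI : IsIso ((homologyFunctor (ModEt X) 0).map ((Q.map g)⟦n⟧')) := by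
    have h1 : (Q.map g)⟦n⟧' = cI.inv ≫ Q.map (g⟦n⟧') ≫ cJ.hom := by
      rw [Iso.eq_inv_comp]
      exact (((Q (C := ModEt X)).commShiftIso n).hom.naturality g).symm
    rw [h1, Functor.map_comp, Functor.map_comp]
    infer_instance
  exact ((NatIso.isIso_map_iff e (Q.map g))).1 this

end Groth.Agent.AlgSpLib.RpushReflect
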