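import Groth.Agent.AlgSpLib.SchDense
import Groth.Agent.AlgSpLib.DenseFlat
import Groth.Agent.AlgSpLib.EtLocalInst
import Groth.Prelude.Def_AlgSpOX2

/-!
Schematic density of open subspaces on every etale chart.
-/

universe u

open CategoryTheory CategoryTheory.Limits AlgebraicGeometry Opposite
open AlgSp

noncomputable section

namespace Groth.Agent.AlgSpLib

set_option backward.isDefEq.respectTransparency.types false

variable {S : Scheme.{u}} {U X : Sp S}

theorem isSchematicallyDense_of_preimage {V' V : Scheme.{u}} (g : V' ⟶ V) [Flat g] [Surjective g] {W : V.Opens}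
    (h : CInt.IsSchematicallyDense (g ⁻¹ᵁ W)) : CInt.IsSchematicallyDense W := by
  intro O
  rw [injective_iff_map_eq_zero]
  intro t ht
  apply EGA43.app_injective_of_flat_surjective g O
  rw [map_zero]
  refine h (g ⁻¹ᵁ O) ?_
  rw [map_zero]
  have := congrArg (g.app (O ⊓ W)) ht
  rw [map_zero, EGA43.app_map] at this
  exact this

theorem range_eq_preimage_ofPt' {F G : Sp S} {j : F ⟶ G} {W V : Over S} {w : W ⟶ V}
    {fst : (yon S).obj W ⟶ F} {a : (yon S).obj V ⟶ G} (sq : IsPullback fst ((yon S).map w) j a) :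
    Set.range w.left = Points.ofPt a ⁻¹' Set.range (Points.map j) := by
  ext u
  constructor
  · rintro ⟨r, rfl⟩
    exact ⟨Points.ofPt fst r, by rw [Points.map_ofPt, sq.w, ofPt_map]⟩
  · rintro ⟨z, hz⟩
    rw [Points.ofPt_eq_map_ofScheme] at hz
    obtain ⟨v, -, hv⟩ := exists_point_of_isPullback sq hz
    obtain ⟨r, rfl⟩ := (Points.schemeEquiv W).surjective v
    exact ⟨r, (Points.schemeEquiv V).injective ((map_yon_map_ofScheme _ r).symm.trans hv)⟩

theorem preimage_open_chart {j : U ⟶ X} {V V' : Over S} {p : (yon S).obj V ⟶ X} {p' : (yon S).obj V' ⟶ X}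
    {W : V.left.Opens} {W' : V'.left.Opens} {fst : (yon S).obj (Over.mk (W.ι ≫ V.hom)) ⟶ U}
    {fst' : (yon S).obj (Over.mk (W'.ι ≫ V'.hom)) ⟶ U}
    (sq : IsPullback fst ((yon S).map (Over.homMk W.ι rfl : Over.mk (W.ι ≫ V.hom) ⟶ V)) j p)
    (sq' : IsPullback fst' ((yon S).map (Over.homMk W'.ι rfl : Over.mk (W'.ι ≫ V'.hom) ⟶ V')) j p')
    {g : V' ⟶ V} (hg : (yon S).map g ≫ p = p') : g.left ⁻¹ᵁ W = W' := by
  have key : ∀ {T : Over S} {q : (yon S).obj T ⟶ X} {O : T.left.Opens}
      {f : (yon S).obj (Over.mk (O.ι ≫ T.hom)) ⟶ U}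
      (_ : IsPullback f ((yon S).map (Over.homMk O.ι rfl : Over.mk (O.ι ≫ T.hom) ⟶ T)) j q) (t : T.left),
      t ∈ O ↔ Points.ofPt q t ∈ Set.range (Points.map j) := by
    intro T q O f sqO t
    constructor
    · intro ht
      refine ⟨Points.ofPt f (⟨t, ht⟩ : O.toScheme), ?_⟩
      rw [Points.map_ofPt, sqO.w, ofPt_map]
      exact congrArg (Points.ofPt q) rfl
    · rintro ⟨z, hz⟩
      rw [Points.ofPt_eq_map_ofScheme] at hz
      obtain ⟨w, -, hw⟩ := exists_point_of_isPullback sqO hz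
      obtain ⟨r, rfl⟩ := (Points.schemeEquiv _).surjective w
      have hr : (Over.homMk O.ι rfl : Over.mk (O.ι ≫ T.hom) ⟶ T).left r = t :=
        (Points.schemeEquiv T).injective ((map_yon_map_ofScheme _ r).symm.trans hw)
      subst hr
      exact (r : O.toScheme).2
  ext v
  show g.left v ∈ W ↔ v ∈ W'
  rw [key sq, key sq', ← hg, ofPt_map]

/-- schematic density holds on every etale chart -/
theorem dense_of_isSchDense {j : U ⟶ X} (h : IsSchDense j) {V : Over S} {φ : (yon S).obj V ⟶ X}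
    (hφ : RepWith @Etale φ) {W : V.left.Opens} {fst : (yon S).obj (Over.mk (W.ι ≫ V.hom)) ⟶ U}
    (sq : IsPullback fst ((yon S).map (Over.homMk W.ι rfl : Over.mk (W.ι ≫ V.hom) ⟶ V)) j φ) :
    CInt.IsSchematicallyDense W := by
  obtain ⟨V₀, p, W₀, fst₀, he, hs, sq₀, h₀⟩ := h.2
  have sqR := he.1.isPullback φ
  obtain ⟨r, hr⟩ := (yon S).map_surjective (he.1.fst φ)
  have hsq : IsPullback ((yon S).map r) ((yon S).map (he.1.snd φ)) p φ := hr ▸ sqR
  have : Etale r.left := hφ.property p _ _ hsq.flip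
  have : Etale (he.1.snd φ).left := he.property_snd φ
  have : Surjective (he.1.snd φ).left := hs.property φ _ _ sqR
  obtain ⟨WR, fstR, sqWR⟩ := exists_open_chart h.1 ((yon S).map r ≫ p)
  refine isSchematicallyDense_of_preimage (he.1.snd φ).left ?_
  rw [preimage_open_chart sq sqWR hsq.w.symm, ← preimage_open_chart sq₀ sqWR rfl]
  exact isSchematicallyDense_preimage_of_flat_lfp r.left W₀ h₀

theorem isSchDense_inter {V P : Sp S} (hX : IsAlgSpace X) {jU : U ⟶ X} {jV : V ⟶ X} (hU : IsSchDense jU)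
    (hV : IsSchDense jV) {fst : P ⟶ U} {snd : P ⟶ V} (sq : IsPullback fst snd jU jV) :
    IsSchDense (fst ≫ jU) := by
  have hj : RepWith @IsOpenImmersion (fst ≫ jU) := RepWith.comp (RepWith.baseChange sq.flip hV.1) hU.1
  obtain ⟨T, p, he, hs⟩ := hX.atlas
  obtain ⟨WU, fU, sqU⟩ := exists_open_chart hU.1 p
  obtain ⟨WV, fV, sqV⟩ := exists_open_chart hV.1 p
  obtain ⟨W, f, sqW⟩ := exists_open_chart hj p
  refine ⟨hj, T, p, W, f, he, hs, sqW, ?_⟩
  have hW : W = WU ⊓ WV := by
    ext t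
    have key : ∀ {Y : Sp S} {j : Y ⟶ X} {O : T.left.Opens} {fO : (yon S).obj (Over.mk (O.ι ≫ T.hom)) ⟶ Y}
      (_ : IsPullback fO ((yon S).map (Over.homMk O.ι rfl : Over.mk (O.ι ≫ T.hom) ⟶ T)) j p),
        t ∈ O ↔ Points.ofPt p t ∈ Set.range (Points.map j) := by
      intro Y j O fO sqO
      constructor
      · intro ht
        refine ⟨Points.ofPt fO (⟨t, ht⟩ : O.toScheme), ?_⟩
        rw [Points.map_ofPt, sqO.w, ofPt_map]
        exact congrArg (Points.ofPt p) rfl
      · rintro ⟨z, hz⟩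
        rw [Points.ofPt_eq_map_ofScheme] at hz
        obtain ⟨w, -, hw⟩ := exists_point_of_isPullback sqO hz
        obtain ⟨r, rfl⟩ := (Points.schemeEquiv _).surjective w
        have hr : (Over.homMk O.ι rfl : Over.mk (O.ι ≫ T.hom) ⟶ T).left r = t :=
          (Points.schemeEquiv T).injective ((map_yon_map_ofScheme _ r).symm.trans hw)
        subst hr
        exact (r : O.toScheme).2
    show t ∈ W ↔ t ∈ WU ∧ t ∈ WV
    rw [key sqW, key sqU, key sqV]
    constructor
    · rintro ⟨z, hz⟩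
      refine ⟨⟨Points.map fst z, by rw [← Points.map_comp, hz]⟩, ⟨Points.map snd z, ?_⟩⟩
      rw [← Points.map_comp, ← sq.w, hz]
    · rintro ⟨⟨x, hx⟩, ⟨y, hy⟩⟩
      obtain ⟨z, hz, -⟩ := exists_point_of_isPullback sq (hx.trans hy.symm)
      exact ⟨z, by rw [Points.map_comp, hz, hx]⟩
  rw [hW]
  have hdU := dense_of_isSchDense hU he sqU
  have hdV := dense_of_isSchDense hV he sqV
  intro O
  rw [injective_iff_map_eq_zero]
  intro t ht
  refine (injective_iff_map_eq_zero _).1 (hdU O) t ((injective_iff_map_eq_zero _).1 (hdV (O ⊓ WU)) _ ?_)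
  exact (res_res _ _ t).trans (res_eq_zero (inf_assoc O WU WV).le _ t ht)

theorem appTop_injective_of_res {V Y : Scheme.{u}} (g : Y ⟶ V) [IsOpenImmersion g] {W : V.Opens}
    (hW : g.opensRange = W)
    (h : Function.Injective (V.presheaf.map (homOfLE (inf_le_left : (⊤ : V.Opens) ⊓ W ≤ ⊤)).op)) :
    Function.Injective g.appTop := by
  subst hW
  rw [injective_iff_map_eq_zero]
  intro a ha
  refine (injective_iff_map_eq_zero _).1 h a ?_
  have := g.isIso_app (⊤ ⊓ g.opensRange) inf_le_right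
  apply (ConcreteCategory.bijective_of_isIso (g.app (⊤ ⊓ g.opensRange))).1
  rw [map_zero, EGA43.app_map]
  exact (congrArg _ ha).trans (map_zero _)

theorem res_injective_of_appTop {V Y : Scheme.{u}} {O W : V.Opens} (g : Y ⟶ O.toScheme)
    (hg : ∀ y, O.ι (g y) ∈ W) (h : Function.Injective g.appTop) :
    Function.Injective (V.presheaf.map (homOfLE (inf_le_left : O ⊓ W ≤ O)).op) := by
  rw [injective_iff_map_eq_zero]
  intro t ht
  have htop : (⊤ : O.toScheme.Opens) ≤ O.ι ⁻¹ᵁ O := by rw [Scheme.Opens.ι_preimage_self]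
  have hb : Function.Injective (O.ι.appLE O ⊤ htop) := by
    have := (O.ι.isIso_app O (by rw [Scheme.Opens.opensRange_ι]))
    have : IsIso (O.toScheme.presheaf.map (homOfLE htop).op) := by
      have : IsIso (homOfLE htop) := ⟨homOfLE le_top, rfl, rfl⟩
      infer_instance
    have : IsIso (O.ι.appLE O ⊤ htop) := by rw [Scheme.Hom.appLE]; infer_instance
    exact (ConcreteCategory.bijective_of_isIso _).1
  refine hb (h ?_)
  rw [map_zero, map_zero]
  have h1 : (⊤ : Y.Opens) ≤ (g ≫ O.ι) ⁻¹ᵁ (O ⊓ W) := fun y _ => ⟨(g y).2, hg y⟩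
  have h2 : (g ≫ O.ι).appLE (O ⊓ W) ⊤ h1 (V.presheaf.map (homOfLE (inf_le_left : O ⊓ W ≤ O)).op t) = 0 := by
    rw [ht, map_zero]
  rw [← CommRingCat.comp_apply, Scheme.Hom.map_appLE] at h2
  refine Eq.trans ?_ h2
  rw [← CommRingCat.comp_apply]
  congr 2
  show O.ι.appLE O ⊤ htop ≫ g.app ⊤ = _
  rw [Scheme.Hom.app_eq_appLE, Scheme.Hom.appLE_comp_appLE]
  rfl

/-- the comparison of structure sheaves detects schematic density -/
theorem isSchDense_iff_mono (hX : IsAlgSpace X) {j : U ⟶ X} (hj : RepWith @IsOpenImmersion j) :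
    IsSchDense j ↔ ∀ E : EtOver X, Function.Injective (hj.1.snd E.obj.hom).left.appTop := by
  constructor
  · intro h E
    obtain ⟨W, fst, sq⟩ := exists_open_chart h.1 E.obj.hom
    have : IsOpenImmersion (hj.1.snd E.obj.hom).left := hj.property_snd _
    refine appTop_injective_of_res _ (W := W) ?_ (dense_of_isSchDense h E.property sq ⊤)
    apply TopologicalSpace.Opens.ext
    rw [← W.range_ι]
    exact (range_eq_preimage_ofPt' (hj.1.isPullback E.obj.hom)).trans (range_eq_preimage_ofPt' sq).symm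
  · intro h
    obtain ⟨V, p, he, hs⟩ := hX.atlas
    obtain ⟨W, fst, sq⟩ := exists_open_chart hj p
    refine ⟨hj, V, p, W, fst, he, hs, sq, fun O => ?_⟩
    let o : Over.mk (O.ι ≫ V.hom) ⟶ V := Over.homMk O.ι rfl
    let E : EtOver X := EtOver.mk ((yon S).map o ≫ p)
      (RepWith.comp ((repWith_yon_map_iff _ _).2 (inferInstanceAs (Etale O.ι))) he)
    refine res_injective_of_appTop (hj.1.snd E.obj.hom).left (fun y => ?_) (h E)
    have hmem : O.ι ((hj.1.snd E.obj.hom).left y) ∈ Set.range (Over.homMk W.ι rfl : Over.mk (W.ι ≫ V.hom) ⟶ V).left := by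
      rw [range_eq_preimage_ofPt' sq, Set.mem_preimage]
      have := (range_eq_preimage_ofPt' (hj.1.isPullback E.obj.hom)).le ⟨y, rfl⟩
      rw [Set.mem_preimage] at this
      exact (ofPt_map o p _) ▸ this
    obtain ⟨w, hw⟩ := hmem
    rw [← hw]
    exact (w : W.toScheme).2

end Groth.Agent.AlgSpLib
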