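import Groth.Agent.AlgSpLib.SchDense
import Groth.Agent.H8Top.SchemeBasic
import Groth.Agent.AlgSpLib.GeomReducedPt
import Mathlib.RingTheory.Valuation.LocalSubring

/-!
Immersions into their scheme theoretic images; valuation rings reaching scheme theoretic images.
-/

universe u

open CategoryTheory CategoryTheory.Limits AlgebraicGeometry IsLocalRing
open AlgSp

noncomputable section

namespace Groth.Agent.AlgSpLib

set_option backward.isDefEq.respectTransparency.types false

variable {S : Scheme.{u}} {F G Z : Sp S}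

theorem range_eq_preimage_ofPt {j : F ⟶ G} {W V : Over S} {w : W ⟶ V} {fst : (yon S).obj W ⟶ F}
    {a : (yon S).obj V ⟶ G} (sq : IsPullback fst ((yon S).map w) j a) :
    Set.range w.left = Points.ofPt a ⁻¹' Set.range (Points.map j) := by
  ext u
  constructor
  · rintro ⟨r, rfl⟩
    exact ⟨Points.ofPt fst r, by rw [Points.map_ofPt, sq.w, ofPt_map]⟩
  · rintro ⟨z, hz⟩
    rw [Points.ofPt_eq_map_ofScheme] at hz
    obtain ⟨v, -, hv⟩ := exists_point_of_isPullback sq hz
    obtain ⟨r, rfl⟩ := (Points.schemeEquiv W).surjective v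
    exact ⟨r, (Points.schemeEquiv V).injective ((map_yon_map_ofScheme _ r).symm.trans hv)⟩

theorem ker_specMap_eq_bot {A B : Type u} [CommRing A] [CommRing B] {φ : A →+* B}
    (h : Function.Injective φ) : (Spec.map (CommRingCat.ofHom φ)).ker = ⊥ := by
  refine Scheme.IdealSheafData.ext_of_isAffine ?_
  rw [Scheme.Hom.ker_apply, Scheme.IdealSheafData.ideal_bot, Pi.bot_apply]
  refine (RingHom.injective_iff_ker_eq_bot _).1 ?_
  intro x y e
  apply (ConcreteCategory.bijective_of_isIso (Scheme.ΓSpecIso (CommRingCat.of A)).hom).1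
  apply h
  have := Scheme.ΓSpecIso_naturality (CommRingCat.ofHom φ)
  have e1 := congr($this x)
  have e2 := congr($this y)
  simp only [ConcreteCategory.comp_apply] at e1 e2
  exact e1.symm.trans ((congrArg _ e).trans e2)

/-- an immersion is an open immersion into its scheme theoretic image -/
theorem immersion_into_schImage {X : Sp S} (hZ : IsAlgSpace Z) (hX : IsAlgSpace X) (hF : IsAlgSpace F)
    {h : Z ⟶ X} (hh : RepWith @IsImmersion h) (hq : IsQuasiCompactMor h ∨ IsReducedSp Z) {c : F ⟶ X}
    (hc : IsSchImage h c) {h' : Z ⟶ F} (fac : h' ≫ c = h) :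
    RepWith @IsOpenImmersion h' ∧ IsSchDense h' ∧ Dense (Set.range (Points.map h')) := by
  have := mono_closedImmersion hc.1
  obtain ⟨V, p, he, hs⟩ := hX.atlas
  have sqW := hh.1.isPullback p
  let m := hh.1.snd p
  have him : IsImmersion m.left := hh.property_snd p
  have sqJ := hc.1.1.isPullback p
  let n := hc.1.1.snd p
  have hn : IsClosedImmersion n.left := hc.1.property_snd p
  let q := hc.1.1.fst p
  have hqe : RepWith @Etale q := RepWith.baseChange sqJ.flip he
  have hqs : RepWith @Surjective q := RepWith.baseChange sqJ.flip hs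
  have hWe : RepWith @Etale (hh.1.fst p) := RepWith.baseChange sqW.flip he
  obtain ⟨l, hl⟩ := (yon S).map_surjective (sqJ.lift (hh.1.fst p ≫ h') ((yon S).map m)
    (by rw [Category.assoc, fac]; exact sqW.w))
  have hlm : l ≫ n = m := (yon S).map_injective (by rw [Functor.map_comp, hl, sqJ.lift_snd])
  have hlfst : (yon S).map l ≫ q = hh.1.fst p ≫ h' := by rw [hl, sqJ.lift_fst]
  have key : n.left.ker = m.left.ker ∧ IsOpenImmersion m.left.toImage ∧
      (QuasiCompact m.left ∨ IsReduced (hc.1.1.pullback p).left) := by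
    rcases hq with hq | hred
    · have hqc : QuasiCompact m.left := ((repWith_quasiCompact_iff hZ hX hh.1).2 hq).2 _ _ _ sqW
      refine ⟨?_, inferInstance, Or.inl hqc⟩
      exact chartIdeal_of_isSchImage hZ hX
        (⟨V, p, he, hs, _, hh.1.fst p, _, sqW, _, 𝟙 _, repWith_id _ _, repWith_id _ _, m,
          Category.id_comp _⟩ : ImgChart h) hqc hc
    · have hWred : IsReduced (hh.1.pullback p).left := by
        obtain ⟨V', b, hbe, hbs, hV'⟩ := hred
        exact isReduced_of_etaleLocally ⟨V', b, hbe, hbs, hV'⟩ _ hWe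
      obtain ⟨hker, htoim⟩ := isOpenImmersion_toImage_of_reduced m.left
      obtain ⟨-, hrange, hFred⟩ := isRedInduced_of_isSchImage (X := ⟨Z, hZ⟩) (Y := ⟨X, hX⟩) (Z := ⟨F, hF⟩)
        (f := ObjectProperty.homMk h) (i := ObjectProperty.homMk c) hred hc
      have hJred : IsReduced (hc.1.1.pullback p).left := isReduced_of_etaleLocally hFred _ hqe
      refine ⟨?_, htoim, Or.inr hJred⟩
      rw [hker, Props12.ker_eq_vanishingIdeal n.left]
      congr 1
      refine TopologicalSpace.Closeds.ext ?_
      show closure (Set.range n.left) = closure (Set.range m.left)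
      rw [n.left.isClosedEmbedding.isClosed_range.closure_eq]
      have hm : Set.range m.left = Points.ofPt p ⁻¹' Set.range (Points.map h) := range_eq_preimage_ofPt sqW
      have hn' : Set.range n.left = Points.ofPt p ⁻¹' Set.range (Points.map c) := range_eq_preimage_ofPt sqJ
      have hrange' : Set.range (Points.map c) = closure (Set.range (Points.map h)) := hrange
      rw [hm, hn', hrange', (isOpenMap_ofPt p he).preimage_closure_eq_closure_preimage (Points.continuous_ofPt p)]
  obtain ⟨hker, hopen, hcase⟩ := key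
  let e := IsClosedImmersion.lift m.left.imageι n.left
    (by rw [Scheme.Hom.imageι, Scheme.IdealSheafData.ker_subschemeι, hker])
  have he' : e ≫ m.left.imageι = n.left := IsClosedImmersion.lift_fac _ _ _
  have : IsIso e := IsClosedImmersion.isIso_of_ker_eq _ _ e he'
    (by rw [Scheme.Hom.imageι, Scheme.IdealSheafData.ker_subschemeι, hker])
  have hle : l.left = m.left.toImage ≫ inv e := by
    rw [← cancel_mono n.left, ← Over.comp_left, hlm, Category.assoc, ← he', IsIso.inv_hom_id_assoc,
      Scheme.Hom.toImage_imageι]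
  have hlo : IsOpenImmersion l.left := by rw [hle]; infer_instance
  have sq' : IsPullback (hh.1.fst p) ((yon S).map l) h' q := by
    refine IsPullback.of_bot ?_ hlfst.symm sqJ
    rw [← Functor.map_comp, hlm, fac]
    exact sqW
  have hrep : Representable h' := representable_of_comp_mono h' c (by rw [fac]; exact hh.1)
  have := isLocallySurjective_of_etale hqe hqs
  have hoi : RepWith @IsOpenImmersion h' :=
    repWith_of_isLocallySurjective hrep q sq' _ ((repWith_yon_map_iff _ l).2 hlo)
  obtain ⟨W, fst, sq⟩ := exists_open_chart hoi q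
  have hrangeW : Set.range l.left = (W : Set (hc.1.1.pullback p).left) := by
    rw [range_eq_preimage_ofPt sq', ← range_eq_preimage_ofPt sq]
    exact W.range_ι
  have hldense : QuasiCompact m.left ∨ IsReduced (hc.1.1.pullback p).left → Dense (W : Set (hc.1.1.pullback p).left) := fun _ => by
    rw [← hrangeW, dense_iff_closure_eq, n.left.isEmbedding.closure_eq_preimage_closure_image, ← Set.range_comp]
    refine Set.eq_univ_of_forall fun z => ?_
    show n.left z ∈ closure (Set.range (l.left ≫ n.left))
    rw [← Over.comp_left, hlm]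
    rcases hcase with hqc | hred
    · rw [← Scheme.Hom.support_ker, ← hker]
      exact Scheme.Hom.range_subset_ker_support _ ⟨z, rfl⟩
    · have hz : n.left z ∈ (n.left.ker.support : Set _) := Scheme.Hom.range_subset_ker_support _ ⟨z, rfl⟩
      rw [hker] at hz
      rcases hq with hq | hred
      · have : QuasiCompact m.left := ((repWith_quasiCompact_iff hZ hX hh.1).2 hq).2 _ _ _ sqW
        rwa [Scheme.Hom.support_ker] at hz
      · have : IsReduced (hh.1.pullback p).left := isReduced_of_etaleLocally hred _ hWe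
        rwa [(isOpenImmersion_toImage_of_reduced m.left).1,
          Scheme.IdealSheafData.coe_support_vanishingIdeal] at hz
  have hD : Dense (Set.range (Points.map h')) := by
    have hd := hldense hcase
    refine fun x => ?_
    obtain ⟨z, rfl⟩ := surjective_ofPt q hqs x
    refine closure_mono ?_ (image_closure_subset_closure_image (Points.continuous_ofPt q) ⟨z, hd z, rfl⟩)
    rintro _ ⟨w, hw, rfl⟩
    rw [← hrangeW] at hw
    obtain ⟨w', rfl⟩ := hw
    exact ⟨Points.ofPt (hh.1.fst p) w', by rw [Points.map_ofPt, ← hlfst, ofPt_map]⟩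
  refine ⟨hoi, ⟨hoi, _, q, W, fst, hqe, hqs, sq, ?_⟩, hD⟩
  rcases hcase with hqc | hred
  · have : QuasiCompact W.ι := by
      have : QuasiCompact l.left := by
        have : QuasiCompact (l.left ≫ n.left) := by rw [← Over.comp_left, hlm]; exact hqc
        exact QuasiCompact.of_comp l.left n.left
      have e2 := IsOpenImmersion.isoOfRangeEq W.ι l.left (by rw [W.range_ι, hrangeW])
      rw [← IsOpenImmersion.isoOfRangeEq_hom_fac W.ι l.left (by rw [W.range_ι, hrangeW])]
      infer_instance
    refine dense_of_ker_ι_eq_bot ?_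
    rw [← IsOpenImmersion.isoOfRangeEq_hom_fac W.ι l.left (by rw [W.range_ι, hrangeW]),
      Scheme.Hom.ker_comp_of_isIso, hle, Scheme.Hom.ker_comp, (isSchemeTheoreticallyDominant_toImage m.left).ker_eq_bot,
      Scheme.IdealSheafData.map_bot, Scheme.Hom.ker_eq_bot_of_isIso]
  · exact dense_of_dense_reduced (hldense (Or.inr hred))

/-- points of scheme theoretic images are reached by valuation rings -/
theorem exists_valuationRing_to_schImage {X Y : Sp S} (hX : IsAlgSpace X) (hY : IsAlgSpace Y) {f : X ⟶ Y}
    (hf : IsQuasiCompactMor f) {i : Z ⟶ Y} (hZ : IsSchImage f i) (z : Points Z) :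
    ∃ (A : Type u) (_ : CommRing A) (_ : IsDomain A) (_ : ValuationRing A) (str : Spec (CommRingCat.of A) ⟶ S)
      (a : (yon S).obj (Over.mk str) ⟶ Z)
      (x : (yon S).obj (Over.mk (Spec.map (CommRingCat.ofHom (algebraMap A (FractionRing A))) ≫ str)) ⟶ X),
      Points.ofPt a (closedPoint A) = z ∧
      x ≫ f = (yon S).map (Over.homMk (Spec.map (CommRingCat.ofHom (algebraMap A (FractionRing A)))) rfl) ≫
        a ≫ i := by
  obtain ⟨C, hqc⟩ := exists_imgChart_qc hX hY f hf
  have hI := chartIdeal_of_isSchImage hX hY C hqc hZ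
  have sqi := hZ.1.1.isPullback C.p
  obtain ⟨r, rfl⟩ := surjective_ofPt (hZ.1.1.fst C.p) (RepWith.baseChange sqi.flip C.hs) z
  let t := (hZ.1.1.snd C.p).left r
  have ht : t ∈ closure (Set.range C.h.left) := by
    rw [← Scheme.Hom.support_ker]
    show t ∈ (C.ker.support : Set _)
    rw [← hI]
    exact Scheme.Hom.range_subset_ker_support _ ⟨r, rfl⟩
  obtain ⟨w, hw⟩ := H8Top.exists_specializes_of_mem_closure_range C.h.left ht
  let K : Type u := C.W.left.residueField w
  let ψ : C.V.left.presheaf.stalk t ⟶ C.W.left.residueField w :=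
    C.V.left.presheaf.stalkSpecializes hw ≫ C.h.left.stalkMap w ≫ C.W.left.residue w
  obtain ⟨A, hA, hA'⟩ := exists_factor_valuationRing ψ.hom
  let β : C.V.left.presheaf.stalk t ⟶ .of A := CommRingCat.ofHom (RingHom.codRestrict _ A.toSubring hA)
  let σ := (FractionRing.algEquiv A (C.W.left.residueField w)).toRingEquiv
  let γ : C.W.left.residueField w ⟶ .of (FractionRing A) := CommRingCat.ofHom σ.symm.toRingHom
  let bA : Spec (.of A) ⟶ C.V.left := Spec.map β ≫ C.V.left.fromSpecStalk t
  let jA := Spec.map (CommRingCat.ofHom (algebraMap A (FractionRing A)))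
  let aW : Spec (.of (FractionRing A)) ⟶ C.W.left := Spec.map γ ≫ C.W.left.fromSpecResidueField w
  have hfac : jA ≫ bA = aW ≫ C.h.left := by
    have e : β ≫ CommRingCat.ofHom (algebraMap A (FractionRing A)) = ψ ≫ γ := by
      ext v
      show algebraMap A (FractionRing A) ⟨ψ v, _⟩ = σ.symm (ψ v)
      rw [RingEquiv.eq_symm_apply]
      exact (FractionRing.algEquiv A (C.W.left.residueField w)).commutes _
    show Spec.map _ ≫ Spec.map β ≫ _ = (Spec.map γ ≫ _) ≫ _
    rw [← Spec.map_comp_assoc, e, Spec.map_comp, Category.assoc, Category.assoc]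
    congr 1
    rw [Scheme.fromSpecResidueField, Category.assoc, ← Scheme.SpecMap_stalkMap_fromSpecStalk,
      ← Scheme.SpecMap_stalkSpecializes_fromSpecStalk hw]
    simp only [ψ, Spec.map_comp, Category.assoc]
  let str := bA ≫ C.V.hom
  let bO : Over.mk str ⟶ C.V := Over.homMk bA
  have hker : chartIdeal hZ.1 C.p ≤ bA.ker := by
    have h2 : C.h.left.ker ≤ (aW ≫ C.h.left).ker := Scheme.Hom.le_ker_comp _ _
    rw [← hfac, Scheme.Hom.ker_comp] at h2
    have h3 : jA.ker = ⊥ := ker_specMap_eq_bot (IsFractionRing.injective A (FractionRing A))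
    rw [h3, Scheme.IdealSheafData.map_bot] at h2
    exact hI.le.trans h2
  obtain ⟨a, ha⟩ := (factors_comp_iff hZ.1 bO C.p).2 hker
  let aO : Over.mk (jA ≫ str) ⟶ C.W := Over.homMk aW (by
    show aW ≫ C.W.hom = jA ≫ bA ≫ C.V.hom
    rw [← Over.w C.h, reassoc_of% hfac])
  refine ⟨A, inferInstance, inferInstance, inferInstance, str, a, (yon S).map aO ≫ C.a ≫ C.fst, ?_, ?_⟩
  · have := mono_closedImmersion hZ.1
    refine (isEmbedding_map_of_closedImmersion hY hZ.1).injective ?_
    rw [Points.map_ofPt, ha, ofPt_map, Points.map_ofPt, sqi.w, ofPt_map]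
    congr 1
    show (Spec.map β ≫ C.V.left.fromSpecStalk t) (closedPoint A) = t
    rw [Scheme.Hom.comp_apply,
      show Spec.map β (closedPoint A) = closedPoint (C.V.left.presheaf.stalk t) from
        comap_closedPoint (S := A) (ψ.hom.codRestrict A.toSubring hA), Scheme.fromSpecStalk_closedPoint]
  · rw [Category.assoc, Category.assoc, C.sq.w, ← Category.assoc C.a, C.w, ← Functor.map_comp_assoc, ha,
      ← Functor.map_comp_assoc]
    congr 2
    exact Over.OverMorphism.ext hfac.symm

end Groth.Agent.AlgSpLib
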