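import Groth.Agent.AlgSpLib.SchDense
import Groth.Agent.AlgSpLib.MorSep
import Groth.Agent.AlgSpLib.EtLocalInst

/-!
Scheme theoretic images of sections over opens.
-/

universe u

open CategoryTheory CategoryTheory.Limits AlgebraicGeometry
open AlgSp

noncomputable section

namespace Groth.Agent.AlgSpLib

set_option backward.isDefEq.respectTransparency.types false

variable {S : Scheme.{u}}

/-- the scheme theoretic image of a section over an open restricts isomorphically to the open -/
theorem isIso_schImage_section {X Y V Y' P : Sp S} (hX : IsAlgSpace X) (hY : IsAlgSpace Y) (hV : IsAlgSpace V)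
    {f : X ⟶ Y} {j : V ⟶ Y} (hj : RepWith @IsOpenImmersion j) (hjq : IsQuasiCompactMor j)
    (hf : IsSeparatedMor f) {s : V ⟶ X} (hs : s ≫ f = j) {c : Y' ⟶ X} (hc : IsSchImage s c)
    {fst : P ⟶ Y'} {snd : P ⟶ V} (sq : IsPullback fst snd (c ≫ f) j) : IsIso snd := by
  have sqV := IsPullback.of_hasPullback f j
  have hopen : RepWith @IsOpenImmersion (pullback.fst f j) := RepWith.baseChange sqV.flip hj
  have : Mono (pullback.fst f j) :=
    mono_of_repWith (fun _ _ g (_ : IsOpenImmersion g) => (inferInstance : Mono g)) hopen
  let sV : V ⟶ pullback f j := pullback.lift s (𝟙 V) (by rw [hs, Category.id_comp])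
  have hsV : sV ≫ pullback.fst f j = s := pullback.lift_fst _ _ _
  have sqs : IsPullback (𝟙 V) sV s (pullback.fst f j) := by
    refine ⟨⟨by rw [Category.id_comp, hsV]⟩, ⟨PullbackCone.IsLimit.mk _ (fun w => w.fst) (fun w => ?_) (fun w => ?_)
      fun w m h1 _ => ?_⟩⟩
    · exact Category.comp_id _
    · rw [← cancel_mono (pullback.fst f j), Category.assoc, hsV, w.condition]
    · exact (Category.comp_id m).symm.trans h1
  have hsq : IsQuasiCompactMor s :=
    isQuasiCompactMor_cancel hV hX hY (hs.symm ▸ hjq) (isQuasiSeparatedMor_of_isSeparatedMor hf)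
  have hXV : IsAlgSpace (pullback f j) := isAlgSpace_of_isPullback hY.diag hX hV sqV
  have hflat : LocP @Flat (pullback.fst f j) :=
    locP_of_repWith etLocal_flat hXV (RepWith.mono (fun _ _ g (_ : IsOpenImmersion g) => (inferInstance : Flat g)) hopen)
  have sqc := IsPullback.of_hasPullback c (pullback.fst f j)
  have him : IsSchImage sV (pullback.snd c (pullback.fst f j)) :=
    isSchImage_of_flat_baseChange hXV hX hV hflat hsq hc sqs sqc
  have hsci : RepWith @IsClosedImmersion sV := by
    haveI := IsClosedImmersion.isStableUnderBaseChange.{u}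
    refine repWith_of_comp _ (b := pullback.snd f j) ?_ (isSeparatedMor_of_isPullback sqV hf)
    rw [pullback.lift_snd]
    exact repWith_id_closedImmersion V
  obtain ⟨k, hk⟩ := him.2.2 sV hV hsci ⟨𝟙 _, Category.id_comp _⟩
  obtain ⟨f', hf'⟩ := him.2.1
  have := mono_closedImmersion him.1
  have := mono_closedImmersion hsci
  have hkiso : IsIso k := ⟨f', by
    rw [← cancel_mono (pullback.snd c (pullback.fst f j)), Category.assoc, hf', hk, Category.id_comp],
    by rw [← cancel_mono sV, Category.assoc, hk, hf', Category.id_comp]⟩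
  have e : pullback.snd c (pullback.fst f j) ≫ pullback.snd f j = k := by
    rw [← hk, Category.assoc, pullback.lift_snd, Category.comp_id]
  have big : IsPullback (pullback.fst c (pullback.fst f j)) k (c ≫ f) j := by
    rw [← e]; exact sqc.paste_vert sqV
  have : IsIso ((sq.isoIsPullback _ _ big).hom ≫ k) := inferInstance
  rwa [IsPullback.isoIsPullback_hom_snd] at this

end Groth.Agent.AlgSpLib
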