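import Groth.Agent.AlgSpLib.NormSchemeCrit
import Groth.Agent.AlgSpLib.LqfDim
import Groth.Agent.AlgSpLib.EtLocalInst
import Groth.Agent.AlgSpLib.SepFibreVanish
import Groth.Agent.AlgSpLib.ValuativeDVR
import Groth.Agent.CAlgH3.AffineCodimOne
import Groth.Agent.S10048

/-!
Points of codimension at most one of separated locally Noetherian algebraic spaces have scheme neighbourhoods.
-/

universe u

open CategoryTheory CategoryTheory.Limits AlgebraicGeometry Opposite Topology
open AlgSp

noncomputable section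

set_option linter.style.haveILetI false

namespace Groth.Agent.AlgSpLib.SchemeNhd

open Groth.Agent.AlgSpLib

set_option backward.isDefEq.respectTransparency.types false
set_option backward.isDefEq.respectTransparency false

variable {S : Scheme.{u}}

/-- finite schemes over separated spaces are separated -/
theorem isSeparated_of_finite {X : Sp S} (hsep : IsSeparatedSp X) {Y : Over S} (g : (yon S).obj Y ⟶ X)
    (hg : RepWith @IsFinite g) : IsSeparated Y.hom := by
  have hT : IsTerminal ((yon S).obj (Over.mk (𝟙 S))) := IsTerminal.isTerminalObj (yon S) _ Over.mkIdTerminal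
  have h1 : IsSeparatedMor (hT.from X) := (repWith_diagonal_iff_diag _ hT _).2 hsep
  have h2 : IsAffineMor g := (isAffineMor_iff_repWith _).2
    (RepWith.mono (fun _ _ g (_ : IsFinite g) => (inferInstance : IsAffineHom g)) hg)
  have h3 := isSeparatedMor_comp (LimitSep.diag_separated h2) h1
  rw [show g ≫ hT.from X = (yon S).map (Over.homMk Y.hom : Y ⟶ Over.mk (𝟙 S)) from hT.hom_ext _ _] at h3
  exact (isSeparatedMor_yon_map_iff _).1 h3

theorem locP_lft_of_finite {X : Sp S} {Y : Over S} (g : (yon S).obj Y ⟶ X) (hg : RepWith @IsFinite g) :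
    LocP @LocallyOfFiniteType g :=
  locP_of_repWith etLocal_lft (IsAlgSpace.yon_obj (S := S) Y)
    (RepWith.mono (fun _ _ g (_ : IsFinite g) => (inferInstance : LocallyOfFiniteType g)) hg)

/-- the local rings of a scheme quasi-finite over a space at points over a point of codimension `≤ 1` -/
theorem stalk_dim_le_one {X : Sp S} (hX : IsAlgSpace X) {Y : Over S} (f : (yon S).obj Y ⟶ X)
    (hf : LocP (@LocallyQuasiFinite ⊓ @LocallyOfFiniteType) f) (y : ↥Y.left)
    (hy : HasAt (fun U u => ringKrullDim ↥(U.presheaf.stalk u) ≤ 1) X (Points.ofPt f y)) :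
    ringKrullDim ↥(Y.left.presheaf.stalk y) ≤ 1 := by
  obtain ⟨U, a, u, ha, hau, hu⟩ := hy
  refine le_trans (stalk_dim_le_of_lqf (IsAlgSpace.yon_obj (S := S) Y) hX hf
    (Points.ofPt (𝟙 ((yon S).obj Y)) y) _ _
    ⟨Y, 𝟙 _, y, repWith_of_isIso (P := @Etale) _, rfl, rfl⟩ ⟨U, a, u, ha, ?_, rfl⟩) hu
  rw [hau, Points.map_ofPt, Category.id_comp]

/-- a point of codimension `≤ 1` of a separated locally Noetherian space has a scheme neighbourhood -/
theorem exists_scheme_nhd [QuasiSeparatedSpace ↥S] (X : AlgSp.Space S) (hsep : IsSeparatedSp X.obj)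
    (hN : IsLocNoethSp X.obj) (x : Points X.obj)
    (hx : HasAt (fun U u => ringKrullDim ↥(U.presheaf.stalk u) ≤ 1) X.obj x) :
    ∃ (X' : AlgSp.Space S) (j : X' ⟶ X), RepWith @IsOpenImmersion j.hom ∧ X'.obj.obj.IsRepresentable ∧
      x ∈ Set.range (Points.map j.hom) := by
  classical
  -- a quasi-compact neighbourhood
  obtain ⟨W₀, hW₀o, hW₀c, hxW₀, -⟩ :=
    OpenFac.exists_compact_open X.property (isCompact_singleton (x := x)) isOpen_univ (Set.subset_univ _)
  let X₁ : AlgSp.Space S := ⟨openSubspace X.obj W₀, isAlgSpace_openSubspace X.property hW₀o⟩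
  let j₁ : X₁.obj ⟶ X.obj := openSubspaceι X.obj W₀
  haveI : Mono j₁ := inferInstanceAs (Mono (openSubspaceι X.obj W₀))
  have hj₁ : RepWith @IsOpenImmersion j₁ := repWith_openSubspaceι X.obj hW₀o
  have hcl : ∀ {Z : AlgSp.Space S} {W : Set (Points Z.obj)}, IsOpen W → IsCompact W →
      IsQuasiCompactSp (openSubspace Z.obj W) := fun {Z} {W} ho hc => by
    refine (isQuasiCompactSp_iff_compactSpace (isAlgSpace_openSubspace Z.property ho)).2 ⟨?_⟩
    rw [(isEmbedding_map_of_immersion Z.property (RepWith.mono (fun _ _ g (_ : IsOpenImmersion g) =>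
      (inferInstance : IsImmersion g)) (repWith_openSubspaceι Z.obj ho))).1.isCompact_iff, Set.image_univ,
      range_openSubspaceι]
    exact hc
  have hX₁c : IsQuasiCompactSp X₁.obj := hcl hW₀o hW₀c
  have hX₁sep : IsSeparatedSp X₁.obj := SepChart.isSeparatedSp_of_mono j₁ hsep
  have hqsep : ∀ {Z : Sp S}, IsSeparatedSp Z → IsQuasiSeparatedSp Z := fun h =>
    RepWith.mono (fun _ _ g (_ : IsClosedImmersion g) => (inferInstance : QuasiCompact g)) h
  obtain ⟨x₁, hx₁⟩ : x ∈ Set.range (Points.map j₁) := by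
    rw [range_openSubspaceι]; exact hxW₀ rfl
  -- a finite cover by a scheme
  obtain ⟨U, p, hpe, hps⟩ := X₁.property.atlas
  obtain ⟨Y, g, hgfin, hgs, -, -⟩ := Groth.Agent.S10048.result S X₁ hX₁c (hqsep hX₁sep) U p hpe hps
  have hg : RepWith @IsFinite g := (isFiniteMor_iff_repWith g).1 hgfin
  have hsurj : Function.Surjective (Points.ofPt g) := fun z => by
    obtain ⟨w, hw⟩ := hgs z
    obtain ⟨y, rfl⟩ := (Points.schemeEquiv Y).surjective w
    exact ⟨y, by rw [Points.ofPt_eq_map_ofScheme]; exact hw⟩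
  haveI : IsSeparated Y.hom := isSeparated_of_finite hX₁sep g hg
  have hgX : LocP (@LocallyQuasiFinite ⊓ @LocallyOfFiniteType) (g ≫ j₁) :=
    locP_of_repWith etLocal_lqf (IsAlgSpace.yon_obj (S := S) Y) (RepWith.comp
      (RepWith.mono (fun _ _ g (_ : IsFinite g) => ⟨inferInstance, inferInstance⟩) hg)
      (RepWith.mono (fun _ _ g (_ : IsOpenImmersion g) => ⟨inferInstance, inferInstance⟩) hj₁))
  haveI : IsLocallyNoetherian Y.left :=
    isLocallyNoetherian_chart (isLocNoethSp_of_lft (IsAlgSpace.yon_obj (S := S) Y) X.property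
      (locP_mono inf_le_right hgX) hN) (𝟙 _) (repWith_of_isIso (P := @Etale) _)
  -- the fibre over the point sits in a separated open subscheme
  let str : Y ⟶ Over.mk (𝟙 S) := Over.homMk Y.hom
  let s₀ : ↥S := Y.hom (hsurj x₁).choose
  have hstr : ∀ y, Points.ofPt g y = x₁ → Y.hom y = s₀ := fun y hy => by
    have hT : IsTerminal ((yon S).obj (Over.mk (𝟙 S))) := IsTerminal.isTerminalObj (yon S) _ Over.mkIdTerminal
    have h1 := congrArg (Points.map (hT.from X₁.obj)) (hy.trans (hsurj x₁).choose_spec.symm)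
    rw [Points.map_ofPt, Points.map_ofPt,
      show g ≫ hT.from X₁.obj = (yon S).map str from hT.hom_ext _ _] at h1
    rw [Points.ofPt_eq_map_ofScheme, Points.ofPt_eq_map_ofScheme, map_yon_map_ofScheme,
      map_yon_map_ofScheme] at h1
    exact (Points.schemeEquiv (Over.mk (𝟙 S))).injective h1
  obtain ⟨_, ⟨S₀, hS₀, rfl⟩, hs₀, -⟩ :=
    S.isBasis_affineOpens.exists_subset_of_mem_open (Set.mem_univ s₀) isOpen_univ
  let O : Y.left.Opens := Y.hom ⁻¹ᵁ S₀
  haveI : IsAffine (Scheme.Opens.toScheme S₀) := hS₀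
  haveI : O.toScheme.IsSeparated := ⟨by
    rw [show terminal.from O.toScheme = (Y.hom ∣_ S₀) ≫ terminal.from _ from Subsingleton.elim _ _]
    infer_instance⟩
  haveI : IsLocallyNoetherian O.toScheme := isLocallyNoetherian_of_isOpenImmersion O.ι
  have hfib : ({y | Points.ofPt g y = x₁} : Set ↥Y.left).Finite := by
    obtain ⟨Q, w, fst, sq, hw⟩ := exists_yon_of_repWith hg g
    obtain ⟨u, rfl⟩ := (yon S).map_surjective fst
    haveI : IsFinite w.left := hw
    obtain ⟨y₀, hy₀⟩ := hsurj x₁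
    refine ((w.left.finite_preimage_singleton y₀).image u.left).subset fun y hy => ?_
    obtain ⟨r, h1, h2⟩ := (ofPt_eq_ofPt_iff sq y y₀).1 (hy.trans hy₀.symm)
    exact ⟨r, h2, h1⟩
  have hfibO : ∀ y, Points.ofPt g y = x₁ → y ∈ O := fun y hy => show Y.hom y ∈ S₀ from (hstr y hy).symm ▸ hs₀
  obtain ⟨W', hW', hWs⟩ := CAlgH3.AffineCodimOne.exists_affine (X := O.toScheme)
    (fun V hV => by
      haveI : IsNoetherian V.toScheme := by
        haveI : CompactSpace V.toScheme := isCompact_iff_compactSpace.1 hV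
        haveI : IsLocallyNoetherian V.toScheme := isLocallyNoetherian_of_isOpenImmersion V.ι
        constructor
      haveI : TopologicalSpace.NoetherianSpace ↥V.toScheme := inferInstance
      exact TopologicalSpace.NoetherianSpace.finite_irreducibleComponents (α := ↥V.toScheme))
    ((hfib.preimage O.ι.isOpenEmbedding.injective.injOn).toFinset) (fun o ho => by
      rw [Set.Finite.mem_toFinset] at ho
      refine ⟨inferInstance, ?_⟩
      rw [← ringKrullDim_eq_of_ringEquiv (asIso (O.ι.stalkMap o)).commRingCatIsoToRingEquiv]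
      refine stalk_dim_le_one X.property (g ≫ j₁) hgX (O.ι o) ?_
      have ho' : Points.ofPt g (O.ι o) = x₁ := ho
      rw [← Points.map_ofPt, ho', hx₁]
      exact hx)
  let W : Y.left.Opens := O.ι ''ᵁ W'
  have hW : IsAffineOpen W := hW'.image_of_isOpenImmersion O.ι
  have hWx : ∀ y, Points.ofPt g y = x₁ → y ∈ W := fun y hy =>
    ⟨⟨y, hfibO y hy⟩, hWs _ ((Set.Finite.mem_toFinset _).2 hy), rfl⟩
  -- the open where all fibres lie in the affine
  obtain ⟨V₁, hV₁o, hV₁c, hxV₁, hV₁sub⟩ := OpenFac.exists_compact_open X₁.property (isCompact_singleton (x := x₁))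
    (NormNhd.isClosed_image g hg W.isOpen.isClosed_compl).isOpen_compl
    (by rintro _ rfl ⟨y, hy, hyx⟩; exact hy (hWx y hyx))
  let X₂ : AlgSp.Space S := ⟨openSubspace X₁.obj V₁, isAlgSpace_openSubspace X₁.property hV₁o⟩
  let j₂ : X₂.obj ⟶ X₁.obj := openSubspaceι X₁.obj V₁
  haveI : Mono j₂ := inferInstanceAs (Mono (openSubspaceι X₁.obj V₁))
  have hj₂ : RepWith @IsOpenImmersion j₂ := repWith_openSubspaceι X₁.obj hV₁o
  obtain ⟨Y₂, w, fst, sq, hw⟩ := exists_yon_of_repWith hj₂ g
  haveI : IsOpenImmersion w.left := hw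
  have hfin₂ : RepWith @IsFinite fst := RepWith.baseChange sq.flip hg
  have hsurj₂ : Function.Surjective (Points.ofPt fst) := fun z => by
    obtain ⟨y, hy⟩ := hsurj (Points.map j₂ z)
    obtain ⟨c, hc, -⟩ := exists_point_of_isPullback sq (x := z) (y := Points.ofScheme Y y)
      (by rw [← hy, Points.ofPt_eq_map_ofScheme])
    obtain ⟨q, rfl⟩ := (Points.schemeEquiv Y₂).surjective c
    exact ⟨q, by rw [Points.ofPt_eq_map_ofScheme]; exact hc⟩
  have hwW : ∀ q, w.left q ∈ W := fun q => by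
    by_contra hn
    have h1 : Points.map j₂ (Points.ofPt fst q) ∈ V₁ :=
      (range_openSubspaceι X₁.obj V₁).subset ⟨_, rfl⟩
    rw [Points.map_ofPt, sq.w, ofPt_map] at h1
    exact hV₁sub h1 ⟨_, hn, rfl⟩
  have hfibA : NormNhd.FibAff fst := fun z => by
    haveI : IsAffine W.toScheme := hW
    let A : Set ↥W.toScheme := {o | ∃ q, Points.ofPt fst q = z ∧ w.left q = W.ι o}
    have hfinz : ({q | Points.ofPt fst q = z} : Set ↥Y₂.left).Finite := by
      obtain ⟨Q, v, fst', sq', hv⟩ := exists_yon_of_repWith hfin₂ fst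
      obtain ⟨u, rfl⟩ := (yon S).map_surjective fst'
      haveI : IsFinite v.left := hv
      obtain ⟨y₀, hy₀⟩ := hsurj₂ z
      refine ((v.left.finite_preimage_singleton y₀).image u.left).subset fun y hy => ?_
      obtain ⟨r, h1, h2⟩ := (ofPt_eq_ofPt_iff sq' y y₀).1 (hy.trans hy₀.symm)
      exact ⟨r, h2, h1⟩
    have hA : A.Finite := ((hfinz.image w.left).preimage W.ι.isOpenEmbedding.injective.injOn).subset
      fun o ⟨q, hq, he⟩ => ⟨q, hq, he⟩
    obtain ⟨f, hf1, hf2⟩ := GrpdLib.exists_basicOpen_of_finite A hA (W.ι ⁻¹ᵁ w.left.opensRange)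
      fun o ⟨q, _, he⟩ => ⟨q, he⟩
    let B : Y.left.Opens := W.ι ''ᵁ W.toScheme.basicOpen f
    have hB : IsAffineOpen B := ((isAffineOpen_top W.toScheme).basicOpen f).image_of_isOpenImmersion W.ι
    refine ⟨w.left ⁻¹ᵁ B, hB.preimage_of_isOpenImmersion w.left ?_, fun q hq => ?_⟩
    · rintro _ ⟨o, ho, rfl⟩
      exact hf2 ho
    · exact ⟨⟨w.left q, hwW q⟩, hf1 ⟨q, hq, rfl⟩, rfl⟩
  have hrep : X₂.obj.obj.IsRepresentable := NormNhd.isRepresentable_of_fibres X₂ (hcl hV₁o hV₁c)
    (hqsep (SepChart.isSeparatedSp_of_mono j₂ hX₁sep)) fst hfin₂ hsurj₂ hfibA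
  refine ⟨X₂, ObjectProperty.homMk (j₂ ≫ j₁), RepWith.comp hj₂ hj₁, hrep, ?_⟩
  obtain ⟨z, hz⟩ := (range_openSubspaceι X₁.obj V₁).symm.subset (hxV₁ rfl)
  exact ⟨z, by rw [← hx₁, ← hz, ← Points.map_comp]; rfl⟩

/-- finitely many points of codimension `≤ 1` lie in an affine open subspace -/
theorem exists_affine_nhd [S.IsSeparated] (X : AlgSp.Space S) (hsep : IsSeparatedSp X.obj) (hN : IsLocNoethSp X.obj)
    (s : Finset (Points X.obj))
    (hs : ∀ x ∈ s, HasAt (fun U u => ringKrullDim ↥(U.presheaf.stalk u) ≤ 1) X.obj x) :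
    ∃ (T : Over S) (j : (yon S).obj T ⟶ X.obj), IsAffine T.left ∧ RepWith @IsOpenImmersion j ∧
      ∀ x ∈ s, x ∈ Set.range (Points.ofPt j) := by
  classical
  choose X' j hj hrep hxj using fun x : {x // x ∈ s} => exists_scheme_nhd X hsep hN x.1 (hs x.1 x.2)
  choose T e using fun x => exists_iso_yon_of_isRepresentable (hrep x)
  let n := Fintype.card {x // x ∈ s}
  let φ := (Fintype.equivFin {x // x ∈ s}).symm
  let W : Set (Points X.obj) := ⋃ x, Set.range (Points.map (j x).hom)
  have hopen : ∀ x, IsOpen (Set.range (Points.map (j x).hom)) := fun x =>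
    Induct.isOpen_range_map (X' x).property (hj x)
  have hWo : IsOpen W := isOpen_iUnion hopen
  let X₀ : AlgSp.Space S := ⟨openSubspace X.obj W, isAlgSpace_openSubspace X.property hWo⟩
  let j₀ : X₀.obj ⟶ X.obj := openSubspaceι X.obj W
  haveI : Mono j₀ := inferInstanceAs (Mono (openSubspaceι X.obj W))
  have hj₀ : RepWith @IsOpenImmersion j₀ := repWith_openSubspaceι X.obj hWo
  have hl : ∀ i : ULift.{u} (Fin n), ∃ l : (yon S).obj (T (φ i.down)) ⟶ X₀.obj,
      RepWith @IsOpenImmersion l ∧ l ≫ j₀ = (e (φ i.down)).some.hom ≫ (j (φ i.down)).hom := fun i => by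
    obtain ⟨l, hl⟩ := OpenFac.exists_fac_openImm hj₀ ((e (φ i.down)).some.hom ≫ (j (φ i.down)).hom) fun z => by
      rw [range_openSubspaceι, Points.map_comp]
      exact Set.mem_iUnion.2 ⟨_, _, rfl⟩
    exact ⟨l, RepWith.baseChange (IsPullback.of_horiz_isIso_mono (fst := 𝟙 _) (f := l ≫ j₀) (g := j₀)
      ⟨(Category.id_comp _)⟩) (hl ▸ RepWith.comp
      (repWith_of_isIso (P := @IsOpenImmersion) _) (hj _)), hl⟩
  choose l hlo hlj using hl
  obtain ⟨G, ⟨eG⟩⟩ := exists_iso_yon_of_openCover l hlo fun z => by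
    obtain ⟨x, y, hy⟩ := Set.mem_iUnion.1 ((range_openSubspaceι X.obj W).subset ⟨z, rfl⟩)
    refine ⟨⟨φ.symm x⟩, Points.map (e (φ (φ.symm x))).some.inv (cast (by rw [Equiv.apply_symm_apply]) y), ?_⟩
    refine injective_map_of_mono j₀ ?_
    rw [← Points.map_comp, hlj, ← Points.map_comp, Iso.inv_hom_id_assoc]
    have key : ∀ x' (h : x' = x) (y' : Points (X' x').obj), HEq y' y →
        Points.map (j x').hom y' = Points.map (j x).hom y := by
      rintro _ rfl y' hy'
      rw [eq_of_heq hy']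
    exact (key _ (φ.apply_symm_apply x) _ (cast_heq _ _)).trans hy
  let gX : (yon S).obj G ⟶ X.obj := eG.hom ≫ j₀
  have hgX : RepWith @IsOpenImmersion gX := RepWith.comp (repWith_of_isIso (P := @IsOpenImmersion) _) hj₀
  haveI : IsSeparated G.hom := by
    haveI : Mono gX := inferInstanceAs (Mono (eG.hom ≫ j₀))
    have hT : IsTerminal ((yon S).obj (Over.mk (𝟙 S))) := IsTerminal.isTerminalObj (yon S) _ Over.mkIdTerminal
    have h1 : IsSeparatedMor (hT.from ((yon S).obj G)) :=
      (repWith_diagonal_iff_diag _ hT _).2 (SepChart.isSeparatedSp_of_mono gX hsep)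
    rw [show hT.from ((yon S).obj G) = (yon S).map (Over.homMk G.hom : G ⟶ Over.mk (𝟙 S)) from hT.hom_ext _ _] at h1
    exact (isSeparatedMor_yon_map_iff _).1 h1
  haveI : G.left.IsSeparated := ⟨by
    rw [show terminal.from G.left = G.hom ≫ terminal.from S from Subsingleton.elim _ _]
    infer_instance⟩
  have hgL : LocP (@LocallyQuasiFinite ⊓ @LocallyOfFiniteType) gX :=
    locP_of_repWith etLocal_lqf (IsAlgSpace.yon_obj (S := S) G)
      (RepWith.mono (fun _ _ g (_ : IsOpenImmersion g) => ⟨inferInstance, inferInstance⟩) hgX)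
  haveI : IsLocallyNoetherian G.left :=
    isLocallyNoetherian_chart hN gX (RepWith.mono (fun _ _ g (_ : IsOpenImmersion g) => (inferInstance : Etale g)) hgX)
  have hinj : Function.Injective (Points.ofPt gX) := (NormNhd.isOpenEmbedding_ofPt gX hgX).injective
  have hrange : ∀ x ∈ s, x ∈ Set.range (Points.ofPt gX) := fun x hx => by
    have h1 : x ∈ Set.range (Points.map j₀) := by
      rw [range_openSubspaceι]
      exact Set.mem_iUnion.2 ⟨⟨x, hx⟩, hxj ⟨x, hx⟩⟩
    obtain ⟨z, rfl⟩ := h1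
    obtain ⟨v, hv⟩ := (Points.schemeEquiv G).surjective (Points.map eG.inv z)
    refine ⟨v, ?_⟩
    rw [Points.ofPt_eq_map_ofScheme]
    show Points.map (eG.hom ≫ j₀) (Points.ofScheme G v) = _
    rw [show Points.ofScheme G v = Points.map eG.inv z from hv, ← Points.map_comp, Iso.inv_hom_id_assoc]
  obtain ⟨U, hU, hUs⟩ := CAlgH3.AffineCodimOne.exists_affine (X := G.left)
    (fun V hV => by
      haveI : IsNoetherian V.toScheme := by
        haveI : CompactSpace V.toScheme := isCompact_iff_compactSpace.1 hV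
        haveI : IsLocallyNoetherian V.toScheme := isLocallyNoetherian_of_isOpenImmersion V.ι
        constructor
      haveI : TopologicalSpace.NoetherianSpace ↥V.toScheme := inferInstance
      exact TopologicalSpace.NoetherianSpace.finite_irreducibleComponents (α := ↥V.toScheme))
    (s.preimage (Points.ofPt gX) hinj.injOn) fun v hv => ⟨inferInstance,
      stalk_dim_le_one X.property gX hgL v (hs _ (Finset.mem_preimage.1 hv))⟩
  let o : Over.mk (U.ι ≫ G.hom) ⟶ G := Over.homMk U.ι
  refine ⟨_, (yon S).map o ≫ gX, hU, RepWith.comp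
    ((repWith_yon_map_iff (P := @IsOpenImmersion) o).2 (inferInstanceAs (IsOpenImmersion U.ι))) hgX, fun x hx => ?_⟩
  obtain ⟨v, rfl⟩ := hrange x hx
  exact ⟨(⟨v, hUs v (Finset.mem_preimage.2 hx)⟩ : U), ofPt_map o gX _⟩

end Groth.Agent.AlgSpLib.SchemeNhd
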