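import Groth.Agent.AlgSpLib.MorSep
import Groth.Agent.AlgSpLib.GlueingPairExists
import Groth.Agent.AlgSpLib.FppfLocal
import Mathlib.AlgebraicGeometry.Morphisms.LocalFlatDescent
import Mathlib.LinearAlgebra.TensorProduct.Quotient
import Mathlib.RingTheory.Flat.FaithfullyFlat.Algebra

/-!
Descent of morphisms into separated algebraic spaces along faithfully flat morphisms of affine schemes.
-/

universe u

open CategoryTheory CategoryTheory.Limits AlgebraicGeometry
open AlgSp
open scoped TensorProduct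

noncomputable section

set_option linter.style.haveILetI false

namespace Groth.Agent.AlgSpLib.SepDescent

open Groth.Agent.AlgSpLib

set_option backward.isDefEq.respectTransparency.types false
set_option backward.isDefEq.respectTransparency false

/-- ideals with descent data along a flat map are extended -/
theorem eq_map_comap {A B : Type u} [CommRing A] [CommRing B] [Algebra A B] [Module.Flat A B] (I : Ideal B)
    (h : I.map (Algebra.TensorProduct.includeRight : B →ₐ[A] B ⊗[A] B).toRingHom ≤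
      I.map (Algebra.TensorProduct.includeLeft : B →ₐ[A] B ⊗[A] B).toRingHom) :
    (I.comap (algebraMap A B)).map (algebraMap A B) = I := by
  refine le_antisymm Ideal.map_comap_le fun b hb => ?_
  let J := I.comap (algebraMap A B)
  let m := Algebra.TensorProduct.map (Ideal.Quotient.mkₐ A I) (AlgHom.id A B)
  have h1 : I.map (Algebra.TensorProduct.includeLeft : B →ₐ[A] B ⊗[A] B).toRingHom ≤ RingHom.ker m.toRingHom := by
    refine Ideal.map_le_iff_le_comap.2 fun x hx => ?_
    show m (x ⊗ₜ[A] (1 : B)) = 0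
    rw [Algebra.TensorProduct.map_tmul, Ideal.Quotient.mkₐ_eq_mk, Ideal.Quotient.eq_zero_iff_mem.2 hx,
      TensorProduct.zero_tmul]
  have h2 : m ((1 : B) ⊗ₜ[A] b) = 0 := h1 (h (Ideal.mem_map_of_mem _ hb))
  let f : (A ⧸ J) →ₗ[A] B ⧸ I := (Ideal.quotientMapₐ I (Algebra.ofId A B) le_rfl).toLinearMap
  have hf : Function.Injective f := Ideal.quotientMap_injective
  have h3 : (f.rTensor B) ((1 : A ⧸ J) ⊗ₜ[A] b) = 0 := by
    rw [LinearMap.rTensor_tmul, show f 1 = 1 from map_one (Ideal.quotientMapₐ I (Algebra.ofId A B) le_rfl)]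
    rw [Algebra.TensorProduct.map_tmul, map_one] at h2
    exact h2
  have h4 : (1 : A ⧸ J) ⊗ₜ[A] b = 0 :=
    Module.Flat.rTensor_preserves_injective_linearMap f hf (h3.trans (map_zero _).symm)
  have h5 := congrArg (TensorProduct.quotTensorEquivQuotSMul B J) h4
  rw [map_zero, TensorProduct.quotTensorEquivQuotSMul_mk_one_tmul, Submodule.Quotient.mk_eq_zero,
    Ideal.smul_top_eq_map] at h5
  exact h5

/-- closed subschemes descend along faithfully flat maps of affine schemes -/
theorem exists_closed_descent {X X' E : Scheme.{u}} [IsAffine X] [IsAffine X'] (π : X' ⟶ X) [Flat π]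
    (e : E ⟶ X') [IsClosedImmersion e]
    (h : ∀ (T : Scheme.{u}) (a b : T ⟶ X'), a ≫ π = b ≫ π → ((∃ s, s ≫ e = a) ↔ ∃ s, s ≫ e = b)) :
    ∃ (X₀ : Scheme.{u}) (i : X₀ ⟶ X) (k : E ⟶ X₀), IsClosedImmersion i ∧ IsPullback k e i π := by
  algebraize [π.appTop.hom]
  let A := Γ(X, ⊤)
  let B := Γ(X', ⊤)
  haveI : Module.Flat A B := by
    have h' : π.appTop.hom.Flat := (HasRingHomProperty.iff_of_isAffine (P := @Flat)).1 inferInstance
    exact h'
  haveI : IsClosedImmersion (e ≫ X'.isoSpec.hom) := inferInstance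
  obtain ⟨I, ε, hε⟩ := IsClosedImmersion.Spec_iff.1 ‹IsClosedImmersion (e ≫ X'.isoSpec.hom)›
  have hπ : X'.isoSpec.hom ≫ Spec.map π.appTop = π ≫ X.isoSpec.hom := Scheme.isoSpec_hom_naturality π
  have hπ' : Spec.map π.appTop ≫ X.isoSpec.inv = X'.isoSpec.inv ≫ π := Scheme.isoSpec_inv_naturality π
  have hle : I.map (Algebra.TensorProduct.includeRight : B →ₐ[A] B ⊗[A] B).toRingHom ≤
      I.map (Algebra.TensorProduct.includeLeft : B →ₐ[A] B ⊗[A] B).toRingHom := by
    let Il := I.map (Algebra.TensorProduct.includeLeft : B →ₐ[A] B ⊗[A] B).toRingHom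
    let ql : B →+* (B ⊗[A] B) ⧸ Il := (Ideal.Quotient.mk Il).comp (Algebra.TensorProduct.includeLeft : B →ₐ[A] B ⊗[A] B).toRingHom
    let qr : B →+* (B ⊗[A] B) ⧸ Il := (Ideal.Quotient.mk Il).comp (Algebra.TensorProduct.includeRight : B →ₐ[A] B ⊗[A] B).toRingHom
    let a : Spec (CommRingCat.of ((B ⊗[A] B) ⧸ Il)) ⟶ X' := Spec.map (CommRingCat.ofHom ql) ≫ X'.isoSpec.inv
    let b : Spec (CommRingCat.of ((B ⊗[A] B) ⧸ Il)) ⟶ X' := Spec.map (CommRingCat.ofHom qr) ≫ X'.isoSpec.inv
    have hab : a ≫ π = b ≫ π := by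
      simp only [a, b, Category.assoc]
      rw [← hπ', ← Category.assoc, ← Category.assoc, ← Spec.map_comp, ← Spec.map_comp]
      congr 2
      refine CommRingCat.hom_ext (RingHom.ext fun r => ?_)
      show Ideal.Quotient.mk Il (Algebra.TensorProduct.includeLeft (algebraMap A B r)) =
        Ideal.Quotient.mk Il (Algebra.TensorProduct.includeRight (algebraMap A B r))
      rw [AlgHom.commutes, AlgHom.commutes]
    have hl : ∀ x ∈ I, ql x = 0 := fun x hx => Ideal.Quotient.eq_zero_iff_mem.2 (Ideal.mem_map_of_mem _ hx)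
    obtain ⟨s, hs⟩ := (h _ a b hab).1 ⟨Spec.map (CommRingCat.ofHom (Ideal.Quotient.lift I ql hl)) ≫ ε.inv, by
      rw [← cancel_mono X'.isoSpec.hom, Category.assoc, hε, Category.assoc, ε.inv_hom_id_assoc,
        ← Spec.map_comp, ← CommRingCat.ofHom_comp, Ideal.Quotient.lift_comp_mk]
      simp [a]⟩
    have e1 : Spec.map (CommRingCat.ofHom qr) =
        Spec.map (Spec.preimage (s ≫ ε.hom)) ≫ Spec.map (CommRingCat.ofHom (Ideal.Quotient.mk I)) := by
      rw [Spec.map_preimage, Category.assoc, ← hε, ← Category.assoc, hs]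
      simp [b]
    rw [← Spec.map_comp] at e1
    have e2 := Spec.map_injective e1
    refine Ideal.map_le_iff_le_comap.2 fun x hx => ?_
    show Algebra.TensorProduct.includeRight x ∈ Il
    rw [← Ideal.Quotient.eq_zero_iff_mem]
    have e3 := congrArg (fun φ => φ.hom x) e2
    refine Eq.trans e3 ?_
    show (Spec.preimage (s ≫ ε.hom)).hom (Ideal.Quotient.mk I x) = 0
    rw [Ideal.Quotient.eq_zero_iff_mem.2 hx, map_zero]
  have hI := eq_map_comap I hle
  let J := I.comap (algebraMap A B)
  let ψ : A ⧸ J →+* B ⧸ I := Ideal.quotientMap I (algebraMap A B) le_rfl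
  have hpo : IsPushout (CommRingCat.ofHom (algebraMap A B)) (CommRingCat.ofHom (Ideal.Quotient.mk J))
      (CommRingCat.ofHom (Ideal.Quotient.mk I)) (CommRingCat.ofHom ψ) := by
    refine ⟨⟨CommRingCat.hom_ext (RingHom.ext fun r => ?_)⟩, ⟨?_⟩⟩
    · exact (Ideal.quotientMap_mk (J := J) (I := I) (f := algebraMap A B) (H := le_rfl) (x := r)).symm
    have hk : ∀ (s : PushoutCocone (CommRingCat.ofHom (algebraMap A B)) (CommRingCat.ofHom (Ideal.Quotient.mk J)))
        (x : B), x ∈ I → s.inl.hom x = 0 := fun s x hx => by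
      rw [← hI] at hx
      refine (Ideal.map_le_iff_le_comap (K := RingHom.ker s.inl.hom)).2 (fun r hr => ?_) hx
      show s.inl.hom (algebraMap A B r) = 0
      refine (congrArg (fun φ => φ.hom r) s.condition).trans ?_
      show s.inr.hom (Ideal.Quotient.mk J r) = 0
      rw [Ideal.Quotient.eq_zero_iff_mem.2 hr, map_zero]
    refine PushoutCocone.IsColimit.mk _ (fun s => CommRingCat.ofHom (Ideal.Quotient.lift I s.inl.hom (hk s)))
      (fun s => CommRingCat.hom_ext (Ideal.Quotient.lift_comp_mk I _ _)) (fun s => ?_) fun s m hm _ => ?_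
    · refine CommRingCat.hom_ext (Ideal.Quotient.ringHom_ext (RingHom.ext fun r => ?_))
      show Ideal.Quotient.lift I s.inl.hom (hk s) (ψ (Ideal.Quotient.mk J r)) = s.inr.hom (Ideal.Quotient.mk J r)
      rw [Ideal.quotientMap_mk, Ideal.Quotient.lift_mk]
      exact congrArg (fun φ => φ.hom r) s.condition
    · refine CommRingCat.hom_ext (Ideal.Quotient.ringHom_ext ?_)
      show m.hom.comp (Ideal.Quotient.mk I) = _
      rw [CommRingCat.hom_ofHom, Ideal.Quotient.lift_comp_mk]
      exact congrArg CommRingCat.Hom.hom hm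
  have sq := isPullback_SpecMap_of_isPushout _ _ _ _ hpo
  refine ⟨Spec (CommRingCat.of (A ⧸ J)), Spec.map (CommRingCat.ofHom (Ideal.Quotient.mk J)) ≫ X.isoSpec.inv,
    ε.hom ≫ Spec.map (CommRingCat.ofHom ψ), ?_, ?_⟩
  · haveI : IsClosedImmersion (Spec.map (CommRingCat.ofHom (Ideal.Quotient.mk J))) :=
      IsClosedImmersion.spec_of_surjective _ Ideal.Quotient.mk_surjective
    infer_instance
  · refine sq.flip.of_iso ε.symm (Iso.refl _) X'.isoSpec.symm X.isoSpec.symm ?_ ?_ ?_ ?_
    · simp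
    · rw [← cancel_mono X'.isoSpec.hom]
      simp [hε]
    · simp
    · exact hπ'

variable {S : Scheme.{u}}

/-- morphisms into a separated space are detected after a faithfully flat base change -/
theorem hom_ext_of_flat {X₂ X : Sp S} {p : X₂ ⟶ X} (hp : IsSeparatedMor p) {V V' : Over S} [IsAffine V.left]
    (c : V' ⟶ V) [Flat c.left] [Surjective c.left] (φ φ' : (yon S).obj V ⟶ X₂) (h : φ ≫ p = φ' ≫ p)
    (e : (yon S).map c ≫ φ = (yon S).map c ≫ φ') : φ = φ' := by
  have sq := hp.1.isPullback (pullback.lift φ φ' h)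
  let ι := hp.1.snd (pullback.lift φ φ' h)
  haveI : IsClosedImmersion ι.left := hp.property_snd _
  obtain ⟨σ, -, hσ⟩ := sq.exists_lift ((yon S).map c ≫ φ) ((yon S).map c) (by
    apply pullback.hom_ext
    · simp [pullback.lift_fst]
    · simp [pullback.lift_snd, e])
  obtain ⟨σ', rfl⟩ := (yon S).map_surjective σ
  have hσ' : σ' ≫ ι = c := (yon S).map_injective (by rw [Functor.map_comp]; exact hσ)
  have hc := appTop_injective_of_flat_surjective c.left
  rw [← hσ', Over.comp_left, Scheme.Hom.comp_appTop] at hc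
  haveI : IsIso ι.left := IsClosedImmersion.isIso_of_injective_of_isAffine
    (fun x y hxy => hc (by
      show σ'.left.appTop (ι.left.appTop x) = σ'.left.appTop (ι.left.appTop y)
      rw [hxy]))
  haveI : IsIso ι := by
    haveI : IsIso ((Over.forget S).map ι) := ‹IsIso ι.left›
    exact isIso_of_reflects_iso ι (Over.forget S)
  rw [← cancel_epi ((yon S).map ι)]
  have w1 := congrArg (· ≫ pullback.fst p p) sq.w
  have w2 := congrArg (· ≫ pullback.snd p p) sq.w
  simp only [Category.assoc, pullback.lift_fst, pullback.lift_snd, pullback.diagonal_fst, pullback.diagonal_snd,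
    Category.comp_id] at w1 w2
  exact w1.symm.trans w2

/-- morphisms into a separated space descend along faithfully flat morphisms of affine schemes -/
theorem exists_desc {X₂ X : Sp S} (hX₂ : IsAlgSpace X₂) (hX : IsAlgSpace X) {p : X₂ ⟶ X} (hp : IsSeparatedMor p)
    {V V' : Over S} [IsAffine V.left] [IsAffine V'.left] (c : V' ⟶ V) [Flat c.left] [Surjective c.left]
    (x : (yon S).obj V ⟶ X) (β : (yon S).obj V' ⟶ X₂) (hβ : β ≫ p = (yon S).map c ≫ x)
    (hdd : ∀ (T : Over S) (a b : T ⟶ V'), a ≫ c = b ≫ c → (yon S).map a ≫ β = (yon S).map b ≫ β) :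
    ∃ φ : (yon S).obj V ⟶ X₂, φ ≫ p = x ∧ (yon S).map c ≫ φ = β := by
  let Q := pullback p x
  have hQ : IsAlgSpace Q := isAlgSpace_of_isPullback hX.diag hX₂ (IsAlgSpace.yon_obj V) (IsPullback.of_hasPullback p x)
  obtain ⟨Β, hΒ₁, hΒ₂⟩ := (IsPullback.of_hasPullback p x).exists_lift β ((yon S).map c) hβ
  obtain ⟨W, w, hW, hwe, hwr, -⟩ := GlueingPairHom.exists_chart_covering hQ Β Β
  haveI := hW
  obtain ⟨u, hu⟩ := (yon S).map_surjective (w ≫ pullback.snd p x)
  let W' : Over S := Over.mk (pullback.fst u.left c.left ≫ W.hom)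
  let πW : W' ⟶ W := Over.homMk (pullback.fst u.left c.left)
  let vW : W' ⟶ V' := Over.homMk (pullback.snd u.left c.left) (by
    show _ = pullback.fst u.left c.left ≫ W.hom
    rw [← Over.w c, ← Over.w u, pullback.condition_assoc])
  have sqW : IsPullback πW vW u c :=
    IsPullback.of_map (Over.forget S) (Over.OverMorphism.ext pullback.condition)
      (IsPullback.of_hasPullback u.left c.left)
  haveI : IsAffine W'.left := inferInstanceAs (IsAffine (pullback u.left c.left))
  haveI : Flat πW.left := inferInstanceAs (Flat (pullback.fst u.left c.left))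
  obtain ⟨f₁, hf₁⟩ : ∃ f, (yon S).map πW ≫ w ≫ pullback.fst p x = f := ⟨_, rfl⟩
  obtain ⟨f₂, hf₂⟩ : ∃ f, (yon S).map vW ≫ β = f := ⟨_, rfl⟩
  have hf : f₁ ≫ p = f₂ ≫ p := by
    rw [← hf₁, ← hf₂, Category.assoc, Category.assoc, Category.assoc, hβ, pullback.condition, ← Category.assoc w,
      ← hu, ← Functor.map_comp_assoc, sqW.w, Functor.map_comp, Category.assoc]
  have sq := hp.1.isPullback (pullback.lift f₁ f₂ hf)
  let E := hp.1.pullback (pullback.lift f₁ f₂ hf)
  let ι : E ⟶ W' := hp.1.snd (pullback.lift f₁ f₂ hf)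
  haveI : IsClosedImmersion ι.left := hp.property_snd _
  have w1 : (yon S).map ι ≫ f₁ = (yon S).map ι ≫ f₂ := by
    have w1 := congrArg (· ≫ pullback.fst p p) sq.w
    have w2 := congrArg (· ≫ pullback.snd p p) sq.w
    simp only [Category.assoc, pullback.lift_fst, pullback.lift_snd, pullback.diagonal_fst, pullback.diagonal_snd,
      Category.comp_id] at w1 w2
    exact w1.symm.trans w2
  have hfac : ∀ {T : Over S} (t : T ⟶ W'), (∃ s, s ≫ ι = t) ↔ (yon S).map t ≫ f₁ = (yon S).map t ≫ f₂ := by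
    intro T t
    refine ⟨?_, fun ht => ?_⟩
    · rintro ⟨s, rfl⟩
      rw [Functor.map_comp, Category.assoc, Category.assoc, w1]
    · obtain ⟨s, -, hs⟩ := sq.exists_lift ((yon S).map t ≫ f₁) ((yon S).map t) (by
        apply pullback.hom_ext
        · simp [pullback.lift_fst]
        · simp [pullback.lift_snd, ht])
      obtain ⟨s', rfl⟩ := (yon S).map_surjective s
      exact ⟨s', (yon S).map_injective (by rw [Functor.map_comp]; exact hs)⟩
  have sqE : IsPullback ((yon S).map (ι ≫ πW)) ((yon S).map (ι ≫ vW)) w Β := by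
    refine isPullback_of_yon ?_ fun T y z hyz => ?_
    · apply pullback.hom_ext
      · rw [Category.assoc, Category.assoc, hΒ₁, Functor.map_comp, Functor.map_comp, Category.assoc, Category.assoc,
          hf₁, hf₂, w1]
      · rw [Category.assoc, Category.assoc, hΒ₂, ← hu, ← Functor.map_comp, ← Functor.map_comp, Category.assoc,
          Category.assoc, sqW.w]
    · obtain ⟨y, rfl⟩ := (yon S).map_surjective y
      obtain ⟨z, rfl⟩ := (yon S).map_surjective z
      have hyz₂ : y ≫ u = z ≫ c := (yon S).map_injective (by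
        rw [Functor.map_comp, Functor.map_comp, hu, ← hΒ₂, reassoc_of% hyz])
      obtain ⟨t, ht1, ht2⟩ := sqW.exists_lift y z hyz₂
      obtain ⟨s, hs⟩ := (hfac t).2 (by
        rw [← hf₁, ← hf₂, ← Functor.map_comp_assoc, ht1, ← Functor.map_comp_assoc, ht2, reassoc_of% hyz, hΒ₁])
      refine ⟨(yon S).map s, ⟨?_, ?_⟩, fun m hm => ?_⟩
      · rw [← Functor.map_comp, ← Category.assoc, hs, ht1]
      · rw [← Functor.map_comp, ← Category.assoc, hs, ht2]
      · obtain ⟨m', rfl⟩ := (yon S).map_surjective m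
        obtain ⟨hm1, hm2⟩ := hm
        rw [← Functor.map_comp] at hm1 hm2
        have e1 : (m' ≫ ι) ≫ πW = y := (Category.assoc _ _ _).trans ((yon S).map_injective hm1)
        have e2 : (m' ≫ ι) ≫ vW = z := (Category.assoc _ _ _).trans ((yon S).map_injective hm2)
        have e3 : m' ≫ ι = s ≫ ι := by
          rw [hs]
          exact sqW.hom_ext (e1.trans ht1.symm) (e2.trans ht2.symm)
        haveI : Mono ι.left := inferInstance
        exact congrArg _ (Over.OverMorphism.ext ((cancel_mono ι.left).1 (congrArg (fun r => r.left) e3)))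
  obtain ⟨X₀, i, k, hi, hik⟩ := exists_closed_descent πW.left ι.left fun T a b hab => by
    let T' : Over S := Over.mk (a ≫ W'.hom)
    let a' : T' ⟶ W' := Over.homMk a rfl
    let b' : T' ⟶ W' := Over.homMk b (by
      show b ≫ W'.hom = a ≫ W'.hom
      rw [← Over.w πW, ← Category.assoc, ← Category.assoc, hab])
    have hab' : a' ≫ πW = b' ≫ πW := Over.OverMorphism.ext hab
    have key : ∀ t : T' ⟶ W', (∃ s, s ≫ ι.left = t.left) ↔ (yon S).map t ≫ f₁ = (yon S).map t ≫ f₂ := by
      intro t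
      rw [← hfac t]
      refine ⟨?_, fun ⟨s, hs⟩ => ⟨s.left, congrArg (fun r => r.left) hs⟩⟩
      rintro ⟨s, hs⟩
      exact ⟨Over.homMk s (by rw [← Over.w ι, ← Category.assoc, hs]; exact Over.w t), Over.OverMorphism.ext hs⟩
    refine (key a').trans (Iff.trans ?_ (key b').symm)
    have e1 : (yon S).map a' ≫ f₁ = (yon S).map b' ≫ f₁ := by
      rw [← hf₁, ← Functor.map_comp_assoc, hab', Functor.map_comp_assoc]
    have e2 : (yon S).map a' ≫ f₂ = (yon S).map b' ≫ f₂ := by
      rw [← hf₂, ← Functor.map_comp_assoc, ← Functor.map_comp_assoc]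
      exact hdd T' _ _ (by rw [Category.assoc, Category.assoc, ← sqW.w, reassoc_of% hab'])
    rw [e1, e2]
  let W₀ : Over S := Over.mk (i ≫ W.hom)
  let i₀ : W₀ ⟶ W := Over.homMk i rfl
  let k₀ : E ⟶ W₀ := Over.homMk k (by
    show k ≫ i ≫ W.hom = E.hom
    rw [← Category.assoc, hik.w, Category.assoc, ← Over.w ι]
    exact congrArg (ι.left ≫ ·) (Over.w πW))
  have sqk : IsPullback k₀ ι i₀ πW := IsPullback.of_map (Over.forget S) (Over.OverMorphism.ext hik.w) hik
  haveI := hi
  haveI : IsAffine W₀.left := isAffine_of_isAffineHom i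
  let r : W₀ ⟶ V := i₀ ≫ u
  have sqr : IsPullback k₀ (ι ≫ vW) r c := sqk.paste_vert sqW
  let v := ι ≫ vW
  have hve : Etale v.left := hwe.property _ _ _ sqE
  have hvs : Surjective v.left := ⟨fun z => by
    obtain ⟨y, hy⟩ := hwr z
    obtain ⟨e, -, he⟩ := (ofPt_eq_ofPt_iff sqE y z).1 hy
    exact ⟨e, he⟩⟩
  haveI : QuasiCompact c.left := inferInstance
  have hre : Etale r.left := MorphismProperty.of_isPullback_of_descendsAlong
    (Q := @Surjective ⊓ @Flat ⊓ @QuasiCompact) ((sqr.map (Over.forget S)).flip)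
    ⟨⟨(inferInstance : Surjective c.left), (inferInstance : Flat c.left)⟩, (inferInstance : QuasiCompact c.left)⟩ hve
  have hrs : Surjective r.left := ⟨fun z => by
    obtain ⟨z', rfl⟩ := c.left.surjective z
    obtain ⟨e, rfl⟩ := v.left.surjective z'
    refine ⟨k₀.left e, ?_⟩
    rw [← Scheme.Hom.comp_apply, ← Scheme.Hom.comp_apply, ← Over.comp_left, ← Over.comp_left, sqr.w]⟩
  let R₀ : Over S := Over.mk (pullback.fst r.left r.left ≫ W₀.hom)
  let s₁ : R₀ ⟶ W₀ := Over.homMk (pullback.fst r.left r.left) rfl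
  let s₂ : R₀ ⟶ W₀ := Over.homMk (pullback.snd r.left r.left) (by
    show _ = pullback.fst r.left r.left ≫ W₀.hom
    rw [← Over.w r, pullback.condition_assoc])
  have sqR : IsPullback s₁ s₂ r r :=
    IsPullback.of_map (Over.forget S) (Over.OverMorphism.ext pullback.condition)
      (IsPullback.of_hasPullback r.left r.left)
  haveI : IsAffine R₀.left := inferInstanceAs (IsAffine (pullback r.left r.left))
  obtain ⟨w₀, hw₀def⟩ : ∃ w₀, (yon S).map i₀ ≫ w = w₀ := ⟨_, rfl⟩
  have hw₀ : w₀ ≫ pullback.snd p x = (yon S).map r := by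
    rw [← hw₀def, Category.assoc, ← hu, ← Functor.map_comp]
  let R' : Over S := Over.mk (pullback.fst (s₁ ≫ r).left c.left ≫ R₀.hom)
  let q : R' ⟶ R₀ := Over.homMk (pullback.fst (s₁ ≫ r).left c.left) rfl
  let v' : R' ⟶ V' := Over.homMk (pullback.snd (s₁ ≫ r).left c.left) (by
    show _ = pullback.fst (s₁ ≫ r).left c.left ≫ R₀.hom
    rw [← Over.w c, ← Over.w (s₁ ≫ r), pullback.condition_assoc])
  haveI : Flat q.left := inferInstanceAs (Flat (pullback.fst (s₁ ≫ r).left c.left))
  haveI : Surjective q.left := inferInstanceAs (Surjective (pullback.fst (s₁ ≫ r).left c.left))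
  have hker : (yon S).map s₁ ≫ w₀ = (yon S).map s₂ ≫ w₀ := by
    have hqv : q ≫ s₁ ≫ r = v' ≫ c := Over.OverMorphism.ext pullback.condition
    have hbase : ∀ s : R₀ ⟶ W₀, q ≫ s ≫ r = v' ≫ c →
        (yon S).map q ≫ ((yon S).map s ≫ w₀) = (yon S).map v' ≫ Β := by
      intro s hs
      obtain ⟨m, hm1, hm2⟩ := sqr.exists_lift (q ≫ s) v' (by rw [Category.assoc, hs])
      have e1 : q ≫ s ≫ i₀ = m ≫ ι ≫ πW := by rw [← Category.assoc, ← hm1, Category.assoc, sqk.w]
      calc (yon S).map q ≫ (yon S).map s ≫ w₀ = (yon S).map (q ≫ s ≫ i₀) ≫ w := by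
            rw [← hw₀def]
            simp only [Functor.map_comp, Category.assoc]
        _ = (yon S).map m ≫ (yon S).map (ι ≫ vW) ≫ Β := by
            rw [e1, Functor.map_comp, Category.assoc, sqE.w]
        _ = (yon S).map v' ≫ Β := by rw [← Functor.map_comp_assoc, hm2]
    apply pullback.hom_ext
    · refine hom_ext_of_flat hp q _ _ ?_ ?_
      · rw [Category.assoc, Category.assoc, Category.assoc, Category.assoc, pullback.condition]
        rw [reassoc_of% hw₀, ← Functor.map_comp_assoc, ← Functor.map_comp_assoc, sqR.w]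
      · rw [← Category.assoc _ _ (pullback.fst p x), ← Category.assoc _ _ (pullback.fst p x),
          hbase s₁ hqv, hbase s₂ (by rw [← sqR.w]; exact hqv)]
    · rw [Category.assoc, Category.assoc, hw₀, ← Functor.map_comp, ← Functor.map_comp, sqR.w]
  have hqe : RepWith @Etale ((yon S).map r) := (repWith_yon_map_iff @Etale _).2 hre
  have hqs : RepWith @Surjective ((yon S).map r) := (repWith_yon_map_iff @Surjective _).2 hrs
  haveI : Epi ((yon S).map r) := epi_of_etale_surjective hqe hqs
  haveI : IsRegularEpiCategory (Sp S) := inferInstanceAs (IsRegularEpiCategory (Sheaf (J S) (Type (u + 1))))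
  haveI : IsRegularEpi ((yon S).map r) := IsRegularEpiCategory.regularEpiOfEpi _
  have sqR' := sqR.map (yon S)
  let φQ : (yon S).obj V ⟶ Q := EffectiveEpi.desc ((yon S).map r) w₀ (fun g₁ g₂ e => by
    obtain ⟨l, hl1, hl2⟩ := sqR'.exists_lift g₁ g₂ e
    rw [← hl1, ← hl2, Category.assoc, Category.assoc, hker])
  have hφ : (yon S).map r ≫ φQ = w₀ := EffectiveEpi.fac _ _ _
  have hid : φQ ≫ pullback.snd p x = 𝟙 _ := by
    rw [← cancel_epi ((yon S).map r), reassoc_of% hφ, Category.comp_id]
    exact hw₀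
  have hcφ : (yon S).map c ≫ φQ = Β := by
    haveI : Epi ((yon S).map v) := epi_of_etale_surjective ((repWith_yon_map_iff @Etale _).2 hve)
      ((repWith_yon_map_iff @Surjective _).2 hvs)
    rw [← cancel_epi ((yon S).map v), ← Functor.map_comp_assoc, ← sqr.w, Functor.map_comp_assoc, hφ, ← sqE.w,
      ← hw₀def, ← Functor.map_comp_assoc, sqk.w]
  exact ⟨φQ ≫ pullback.fst p x, by rw [Category.assoc, pullback.condition, reassoc_of% hid],
    by rw [← Category.assoc, hcφ, hΒ₁]⟩

end Groth.Agent.AlgSpLib.SepDescent
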