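import Groth.Agent.AlgSpLib.SerreAffinePush
import Groth.Agent.AlgSpLib.QCohEtClosedImage
import Groth.Agent.AlgSpLib.QCohEtPSubInduct
import Groth.Agent.AlgSpLib.DecentSingleton

/-!
Quasi-coherent modules are generated by global sections when first cohomology vanishes.
-/

universe u

open CategoryTheory CategoryTheory.Limits AlgebraicGeometry Opposite TensorProduct
open AlgSp

noncomputable section

set_option linter.style.haveILetI false

namespace Groth.Agent.AlgSpLib.SerreAff

open Groth.Agent.AlgSpLib Groth.Agent.AlgSpLib.QCohEt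

set_option backward.isDefEq.respectTransparency.types false
set_option backward.isDefEq.respectTransparency false

variable {S : Scheme.{u}} {X : Sp S}

/-- the submodule generated by global sections -/
def globSub (F : ModEt X) : QSub F where
  P E _ := Submodule.span (ΓE E) (Set.range fun s : Glob F => s.1 E)
  span_eq {E W} _ _ g := by
    refine le_antisymm (Submodule.span_le.2 ?_) (Submodule.span_le.2 ?_)
    · rintro _ ⟨z, hz, rfl⟩
      induction hz using Submodule.span_induction with
      | mem x hx =>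
        obtain ⟨s, rfl⟩ := hx
        exact Submodule.subset_span ⟨s, (mapSec_glob s g).symm⟩
      | zero => rw [map_zero]; exact zero_mem _
      | add x y _ _ hx hy => rw [map_add]; exact add_mem hx hy
      | smul a x _ hx => rw [mapSec_smul]; exact Submodule.smul_mem _ _ hx
    · rintro _ ⟨s, rfl⟩
      exact Submodule.subset_span ⟨s.1 E, Submodule.subset_span ⟨s, rfl⟩, mapSec_glob s g⟩

/-- the product of a module with a quasi-coherent ideal -/
def idealSub (F : ModEt X) [F.IsQuasicoherent] (I : IdealEt X) (hI : I.IsQCoh) : QSub F where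
  P E hE := upIdeal E (I.ideal E hE) • (⊤ : Submodule (ΓE E) (Sec F E))
  span_eq {E W} hE hW g := by
    haveI := hE
    haveI := hW
    have hmap : (upIdeal E (I.ideal E hE)).map (ΓMap g).hom = upIdeal W (I.ideal W hW) := by
      rw [upIdeal_map]
      exact congrArg (upIdeal W) (le_antisymm (I.map_le g hE hW) (hI g hE hW))
    refine le_antisymm (Submodule.span_le.2 ?_) ?_
    · rintro _ ⟨z, hz, rfl⟩
      refine Submodule.smul_induction_on hz (fun a ha m _ => ?_) fun x y hx hy => ?_
      · rw [mapSec_smul]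
        exact Submodule.smul_mem_smul (hmap ▸ Ideal.mem_map_of_mem _ ha) trivial
      · rw [map_add]
        exact add_mem hx hy
    · rw [Submodule.smul_le, ← hmap]
      intro b hb n _
      refine Submodule.span_induction (p := fun b _ => b • n ∈ _) ?_ (by rw [zero_smul]; exact zero_mem _)
        (fun x y _ _ hx hy => by rw [add_smul]; exact add_mem hx hy)
        (fun r x _ hx => by rw [smul_eq_mul, mul_smul]; exact Submodule.smul_mem _ r hx) hb
      rintro _ ⟨a, ha, rfl⟩
      let V : Over E := Over.mk g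
      haveI : IsAff V.left := (inferInstance : IsAff W)
      obtain ⟨z, rfl⟩ := (isBC F E V inferInstance).surjective n
      induction z using TensorProduct.induction_on with
      | zero => rw [map_zero, smul_zero]; exact zero_mem _
      | tmul r m =>
        rw [bcMap_tmul]
        refine (smul_comm ((ΓMap g).hom a) (show ΓE W from r) (mapSec F g m)).symm ▸ Submodule.smul_mem _ _ ?_
        exact Submodule.subset_span ⟨a • m, Submodule.smul_mem_smul ha trivial, mapSec_smul F g a m⟩
      | add x y hx hy => rw [map_add, smul_add]; exact add_mem (hx trivial) (hy trivial)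

/-- sections killed by the cokernel map lie in the submodule -/
theorem mem_P_iff {F : ModEt X} [F.IsQuasicoherent] (Q : QSub F) [Q.obj.IsQuasicoherent] {E : EtOver X} [IsAff E]
    (x : Sec F E) : x ∈ Q.P E inferInstance ↔ secMap (cokernel.π Q.incl) E x = 0 := by
  let C : ShortComplex (ModEt X) := ShortComplex.mk Q.incl (cokernel.π Q.incl) (cokernel.condition _)
  have hC : C.Exact := C.exact_of_g_is_cokernel (cokernelIsCokernel Q.incl)
  obtain ⟨-, h⟩ := ker_sec (cokernel.condition Q.incl) hC.fIsKernel E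
  exact Iff.trans (Set.ext_iff.1 (Q.range_incl (inferInstance : IsAff E)).symm x) (h x).symm

/-- nonvanishing of the fibre of a finite module -/
theorem not_mem_of_inSupp {F : ModEt X} {E : EtOver X} [IsAff E] [Module.Finite (ΓE E) (Sec F E)]
    {e : E.obj.left.left} (h : InSupp F E e) {I : Ideal (ΓE E)} (hI : I ≤ primeE E e)
    (htop : (⊤ : Submodule (ΓE E) (Sec F E)) ≤ I • ⊤) : False := by
  obtain ⟨r, hr1, hr0⟩ := Submodule.exists_sub_one_mem_and_smul_eq_zero_of_fg_of_le_smul _ _
    Module.Finite.fg_top htop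
  obtain ⟨d, hd⟩ := h
  have hrp : r ∈ primeE E e := hd (CAlgH3.mem_annEl.2 (hr0 d trivial))
  refine (inferInstance : (primeE E e).IsPrime).ne_top ((Ideal.eq_top_iff_one _).2 ?_)
  exact (sub_sub_cancel r 1) ▸ sub_mem hrp (hI hr1)

variable {Z : Over S} {i : (yon S).obj Z ⟶ X}

/-- the quotient of a module by the ideal of a closed subspace is killed by it -/
theorem kills_quotient (hi : RepWith @IsClosedImmersion i) (G : ModEt X) [G.IsQuasicoherent] (J : QSub G)
    [J.obj.IsQuasicoherent]
    (hJ : ∀ (W : EtOver X) (hW : IsAff W), upIdeal W ((idealOfRep hi.1).ideal W hW) • ⊤ ≤ J.P W hW) :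
    Kills hi (cokernel J.incl) := fun W hW r hr m => by
  haveI := hW
  obtain ⟨x, rfl⟩ := surjective_cokernel_π J.incl W m
  rw [← map_smul]
  refine (mem_P_iff J _).1 (hJ W hW (Submodule.smul_mem_smul ?_ trivial))
  have h2 : r.down ∈ (idealOfRep hi.1).ideal W hW :=
    (mem_idealOfRep_iff hi.1 W hW r.down).2 (congrArg ULift.down hr)
  exact Ideal.mem_map_of_mem (upΓ W) h2

theorem glob_eq_zero_of_iso {A B : ModEt X} (e : A ≅ B) (hB : ∀ t : Glob B, t = 0) (t : Glob A) : t = 0 :=
  glob_ext fun W _ => by
    have h := congrArg (fun n : Glob B => secMap e.inv W (n.1 W)) (hB (globMap e.hom t))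
    refine Eq.trans ?_ (h.trans (map_zero (secMap e.inv W)))
    exact ((secMap_comp e.hom e.inv W (t.1 W)).symm.trans (secMap_eq e.hom_inv_id W (t.1 W))).symm

/-- sections of a module killed by a closed point vanish when there are no global sections -/
theorem sec_eq_zero_of_kills (hX : IsAlgSpace X) (hi : RepWith @IsClosedImmersion i) [IsAffine Z.left]
    (Q : ModEt X) [Q.IsQuasicoherent] (hK : Kills hi Q) (hQ : ∀ t : Glob Q, t = 0)
    (E₀ : EtOver X) [IsAff E₀] (has : RepWith @Surjective E₀.obj.hom) (q : Sec Q E₀) : q = 0 := by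
  obtain ⟨G', ⟨e⟩⟩ := exists_iso_push hi hX Q hK (IsAlgSpace.yon_obj _)
  haveI : ((pushModEt hi.1).obj G').IsQuasicoherent :=
    ObjectProperty.prop_of_iso (SheafOfModules.isQuasicoherent (OEtRing X)) e.symm
      (show SheafOfModules.isQuasicoherent (OEtRing X) Q from ‹Q.IsQuasicoherent›)
  haveI := isQuasicoherent_of_push hi hX G'
  have hT0 : ∀ t : Sec G' (T0 Z), t = 0 := fun t =>
    (bijective_pushGlob hi.1 G' has).1
      ((glob_eq_zero_of_iso e hQ _).trans (map_zero (pushGlob hi.1 G')).symm)
  have hbc : ∀ m : Sec G' (EtOver.bcObj hi.1 E₀), m = 0 := fun m => by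
    haveI := isAff_bcObj_closed hi E₀
    haveI : IsAff (T0 Z) := ‹IsAffine Z.left›
    let W₀ : Over (T0 Z) := Over.mk (toT0 (EtOver.bcObj hi.1 E₀))
    haveI : IsAff W₀.left := (inferInstance : IsAff (EtOver.bcObj hi.1 E₀))
    obtain ⟨z, rfl⟩ := (isBC G' _ W₀ inferInstance).surjective m
    induction z using TensorProduct.induction_on with
    | zero => exact map_zero _
    | tmul r t => rw [hT0 t, TensorProduct.tmul_zero]; exact map_zero _
    | add x y hx hy => rw [map_add, hx, hy, add_zero]
  have h := congrArg (secMap e.hom E₀) (hbc (secMap e.inv E₀ q))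
  exact ((secMap_comp e.inv e.hom E₀ q).symm.trans (secMap_eq e.inv_hom_id E₀ q)).symm.trans
    (h.trans (map_zero (secMap e.hom E₀)))

variable [QuasiSeparatedSpace ↥S] (X : AlgSp.Space S) (hqc : IsQuasiCompactSp X.obj)
  (hqs : IsQuasiSeparatedSp X.obj)

include hqc hqs in
/-- a nonzero section gives a point of the support over a closed point -/
theorem exists_closed_inSupp (G : ModEt X.obj) [G.IsQuasicoherent] {E : EtOver X.obj} [IsAff E] {s : Sec G E}
    (hs : s ≠ 0) :
    ∃ (E₀ : EtOver X.obj) (_ : IsAff E₀) (u : E₀.obj.left.left) (p : FieldPt X.obj),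
      RepWith @Surjective E₀.obj.hom ∧ RepWith @IsClosedImmersion p.toHom ∧
        Points.ofPt E₀.obj.hom u = Points.mk p ∧ InSupp G E₀ u := by
  obtain ⟨e, he⟩ := exists_inSupp G hs
  haveI := compactSpace_points_of_isQuasiCompactSp hqc
  have hd := isDecent_of_qsep X.property hqs
  haveI := t0Space_points X.property hd
  obtain ⟨T, a, hT, hae, has⟩ := exists_affine_chart X.property
  let E₀ : EtOver X.obj := EtOver.mk a hae
  haveI : IsAff E₀ := hT
  obtain ⟨y, hy, hyc⟩ := (isClosed_closure (s := ({Points.ofPt E.obj.hom e} : Set (Points X.obj)))).exists_closed_singleton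
    ⟨_, subset_closure rfl⟩
  obtain ⟨u', hu'⟩ := surjective_ofPt a has y
  obtain ⟨hx, -⟩ := FiniteFibres.of_mk (hd (Points.ofPt E.obj.hom e))
  obtain ⟨u'', hsp, hu''⟩ := exists_specializes_chart hx a hae u'
    (hu' ▸ specializes_iff_mem_closure.2 hy)
  obtain ⟨p, hp, hi⟩ := exists_closedImmersion_point X.property hd y hyc
  exact ⟨E₀, hT, u', p, has, hi, hu'.trans hp.symm,
    (InSupp.transfer G X.property (E' := E₀) hu''.symm he).of_specializes hsp⟩

theorem primeE_of_range {Z : Over S} {i : (yon S).obj Z ⟶ X.obj} (hi : RepWith @IsClosedImmersion i)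
    {E₀ : EtOver X.obj} [IsAff E₀] {u : E₀.obj.left.left}
    (hu : Points.ofPt E₀.obj.hom u ∈ Set.range (Points.map i)) :
    upIdeal E₀ ((idealOfRep hi.1).ideal E₀ inferInstance) ≤ primeE E₀ u := by
  rw [le_primeAtPt_of_le_primeE, ← mem_zeroLocus_iff_le_primeAtPt,
    zeroLocus_isCutOutBy ⟨hi, rfl⟩ E₀ inferInstance]
  exact hu

include hqc hqs in
/-- nonzero quasi-coherent modules have nonzero global sections -/
theorem subsingleton_sec_of_glob (h1 : H1Vanish X.obj) (C : ModEt X.obj) [C.IsQuasicoherent]
    (hC : ∀ s : Glob C, s = 0) {E : EtOver X.obj} [IsAff E] (s : Sec C E) : s = 0 := by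
  by_contra hs
  obtain ⟨Qs, hfg, hmem⟩ := exists_fg_containing (X := X) hqc hqs C (fun _ : PUnit.{1} => E)
    (fun _ => inferInstance) (fun _ => s)
  haveI : Qs.obj.IsQuasicoherent := Qs.isQuasicoherent_obj
  have hG : ∀ t : Glob Qs.obj, t = 0 := fun t => glob_ext fun W hW =>
    Qs.injective_incl W
      (((congrArg (fun n : Glob C => n.1 W) (hC (globMap Qs.incl t)))).trans (map_zero (secMap Qs.incl W)).symm)
  obtain ⟨s', hs'⟩ : s ∈ Set.range (secMap Qs.incl E) := by
    rw [Qs.range_incl (inferInstance : IsAff E)]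
    exact hmem ⟨⟩
  have hs'0 : s' ≠ 0 := fun h => hs (by rw [← hs', h, map_zero])
  obtain ⟨E₀, hE₀, u, p, has, hi, hu, hsu⟩ := exists_closed_inSupp X hqc hqs Qs.obj hs'0
  haveI := hE₀
  let J := idealSub Qs.obj (idealOfRep hi.1) (isQCoh_idealOfRep hi)
  haveI : J.obj.IsQuasicoherent := J.isQuasicoherent_obj
  haveI : (cokernel J.incl).IsQuasicoherent := isQuasicoherent_cokernel J.incl
  haveI : IsAffine (Over.mk p.str).left := inferInstanceAs (IsAffine (Spec (CommRingCat.of p.K)))
  have hQ : ∀ t : Glob (cokernel J.incl), t = 0 := fun t => by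
    obtain ⟨m, rfl⟩ := surjective_globMap (cokernel.π J.incl) h1 t
    rw [hG m, map_zero]
  haveI : Module.Finite (ΓE E₀) (Sec Qs.obj E₀) := Qs.finite_obj E₀ (hfg E₀ inferInstance)
  refine not_mem_of_inSupp hsu (primeE_of_range X hi (u := u) ?_) fun x _ => (mem_P_iff J x).2
    (sec_eq_zero_of_kills X.property hi (cokernel J.incl) (kills_quotient hi Qs.obj J fun _ _ => le_rfl) hQ E₀ has _)
  exact ⟨ptOfHom (𝟙 ((yon S).obj p.pt)), by
    rw [map_ptOfHom, Category.id_comp, ptOfHom_toHom]
    exact hu.symm⟩

include hqc hqs in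
/-- quasi-coherent modules are generated by global sections -/
theorem span_glob_eq_top (h1 : H1Vanish X.obj) (F : ModEt X.obj) [F.IsQuasicoherent] (E : EtOver X.obj) [IsAff E] :
    Submodule.span (ΓE E) (Set.range fun s : Glob F => s.1 E) = ⊤ := by
  let P := globSub F
  haveI : P.obj.IsQuasicoherent := P.isQuasicoherent_obj
  let C := cokernel P.incl
  haveI : C.IsQuasicoherent := isQuasicoherent_cokernel P.incl
  have hC : ∀ c : Glob C, c = 0 := fun c => by
    obtain ⟨m, rfl⟩ := surjective_globMap (cokernel.π P.incl) h1 c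
    refine glob_ext fun W hW => ?_
    obtain ⟨z, hz⟩ : m.1 W ∈ Set.range (secMap P.incl W) :=
      (P.range_incl hW).symm.subset (Submodule.subset_span ⟨m, rfl⟩)
    rw [globMap_apply, ← hz]
    exact (secMap_comp P.incl (cokernel.π P.incl) W z).symm.trans
      ((secMap_eq (cokernel.condition P.incl) W z).trans rfl)
  exact eq_top_iff.2 fun x _ => (mem_P_iff P x).2 (subsingleton_sec_of_glob X hqc hqs h1 C hC _)

end Groth.Agent.AlgSpLib.SerreAff
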