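import Groth.Agent.AlgSpLib.SerreAffineSec
import Groth.Agent.AlgSpLib.CechWeakFinal
import Mathlib.Algebra.Homology.DerivedCategory.Ext.ExactSequences
import Mathlib.Algebra.Homology.ShortComplex.Abelian

/-!
Global sections of modules on the small etale site, and their exactness when first cohomology vanishes.
-/

universe u

open CategoryTheory CategoryTheory.Limits AlgebraicGeometry Opposite TensorProduct
open AlgSp
open CategoryTheory.Abelian

noncomputable section

set_option linter.style.haveILetI false

namespace Groth.Agent.AlgSpLib.SerreAff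

open Groth.Agent.AlgSpLib.QCohEt

set_option backward.isDefEq.respectTransparency.types false
set_option backward.isDefEq.respectTransparency false

variable {S : Scheme.{u}} {X : Sp S}

/-- compatible families of sections over all objects -/
def Glob (M : ModEt X) : AddSubgroup (∀ E : EtOver X, Sec M E) where
  carrier := {s | ∀ (E E' : EtOver X) (g : E' ⟶ E), mapSec M g (s E) = s E'}
  add_mem' {a b} ha hb E E' g := by rw [Pi.add_apply, map_add, ha E E' g, hb E E' g, Pi.add_apply]
  zero_mem' E E' g := map_zero _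
  neg_mem' {a} ha E E' g := by rw [Pi.neg_apply, map_neg, ha E E' g, Pi.neg_apply]

theorem mapSec_glob {M : ModEt X} (s : Glob M) {E E' : EtOver X} (g : E' ⟶ E) :
    mapSec M g (s.1 E) = s.1 E' := s.2 E E' g

/-- the effect of a map of modules on global sections -/
def globMap {M N : ModEt X} (f : M ⟶ N) : Glob M →+ Glob N where
  toFun s := ⟨fun E => secMap f E (s.1 E), fun E E' g =>
    (mapSec_secMap f g (s.1 E)).trans (congrArg (secMap f E') (s.2 E E' g))⟩
  map_zero' := Subtype.ext (funext fun E => map_zero (secMap f E))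
  map_add' a b := Subtype.ext (funext fun E => map_add (secMap f E) (a.1 E) (b.1 E))

theorem globMap_apply {M N : ModEt X} (f : M ⟶ N) (s : Glob M) (E : EtOver X) :
    (globMap f s).1 E = secMap f E (s.1 E) := rfl

theorem glob_ext {M : ModEt X} {s t : Glob M} (h : ∀ E, IsAff E → s.1 E = t.1 E) : s = t :=
  Subtype.ext (funext fun E => sec_eq_of_affine M _ _ fun Z g hZ => by
    rw [mapSec_glob, mapSec_glob, h Z hZ])

/-- the vanishing of first cohomology of quasi-coherent modules -/
def H1Vanish (X : Sp S) : Prop := ∀ M : ModEt X, M.IsQuasicoherent → Subsingleton (HModEt X M 1)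

/-- global sections as maps out of the constant sheaf -/
theorem exists_hom_of_glob {M : ModEt X} (s : Glob M) :
    ∃ φ : (Functor.const (EtOver X)ᵒᵖ).obj (AddCommGrpCat.of (ULift.{u + 1} ℤ)) ⟶ ((toAbEt X).obj M).obj,
      ∀ E, φ.app (op E) (ULift.up 1) = s.1 E := by
  refine ⟨{ app := fun E => AddCommGrpCat.ofHom (uliftZMultiplesHom _ (s.1 E.unop))
            naturality := fun c d f => AddCommGrpCat.hom_ext ((uliftZMultiplesHom _).symm.injective ?_) },
    fun E => one_zsmul _⟩
  show (1 : ℤ) • s.1 d.unop = mapSec M f.unop ((1 : ℤ) • s.1 c.unop)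
  rw [one_zsmul, one_zsmul]
  exact (mapSec_glob s f.unop).symm

theorem exists_glob_of_hom {M : ModEt X}
    (φ : (Functor.const (EtOver X)ᵒᵖ).obj (AddCommGrpCat.of (ULift.{u + 1} ℤ)) ⟶ ((toAbEt X).obj M).obj) :
    ∃ s : Glob M, ∀ E, s.1 E = φ.app (op E) (ULift.up 1) :=
  ⟨⟨fun E => φ.app (op E) (ULift.up 1), fun E E' g => (NatTrans.naturality_apply φ g.op (ULift.up 1)).symm⟩,
    fun _ => rfl⟩

/-- global sections lift along epimorphisms of quasi-coherent modules -/
theorem surjective_globMap {M N : ModEt X} (f : M ⟶ N) [M.IsQuasicoherent] [N.IsQuasicoherent] [Epi f]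
    (h : H1Vanish X) : Function.Surjective (globMap f) := by
  intro n
  obtain ⟨φ, hφ⟩ := exists_hom_of_glob n
  let C : ShortComplex (ModEt X) := ShortComplex.mk (kernel.ι f) f (kernel.condition f)
  have hC : C.ShortExact := ShortComplex.ShortExact.mk (C.exact_of_f_is_kernel (kernelIsKernel f))
  haveI : Mono C.f := hC.mono_f
  haveI : Mono (C.map (toAbEt X)).f := inferInstanceAs (Mono ((toAbEt X).map C.f))
  haveI : Epi (C.map (toAbEt X)).g := inferInstanceAs (Epi ((toAbEt X).map f))
  have hS : (C.map (toAbEt X)).ShortExact :=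
    ShortComplex.ShortExact.mk (hC.exact.map_of_mono_of_preservesKernel (toAbEt X) inferInstance inferInstance)
  haveI : Subsingleton (HModEt X (kernel f) 1) := h _ (isQuasicoherent_kernel f)
  let adj := sheafificationAdjunction (etTop X) AddCommGrpCat.{u + 1}
  let ψ : (constantSheaf (etTop X) AddCommGrpCat.{u + 1}).obj (AddCommGrpCat.of (ULift.{u + 1} ℤ)) ⟶
      (toAbEt X).obj N := (adj.homEquiv _ _).symm φ
  obtain ⟨x, hx⟩ := Ext.covariant_sequence_exact₃ _ hS (Ext.mk₀ ψ) (zero_add 1) (@Subsingleton.elim _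
    (inferInstance : Subsingleton (HModEt X (kernel f) 1)) _ _)
  obtain ⟨g, rfl⟩ := Ext.homEquiv₀.symm.surjective x
  have hg : g ≫ (toAbEt X).map f = ψ := by
    refine Ext.homEquiv₀.symm.injective ?_
    exact (Ext.mk₀_comp_mk₀ g ((toAbEt X).map f)).symm.trans hx
  obtain ⟨m, hm⟩ := exists_glob_of_hom (adj.homEquiv _ _ g)
  refine ⟨m, Subtype.ext (funext fun E => ?_)⟩
  rw [globMap_apply, hm]
  have h2 : adj.homEquiv _ _ g ≫ ((toAbEt X).map f).hom = φ := by
    refine ((adj.homEquiv_naturality_right g ((toAbEt X).map f)).symm.trans ?_)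
    rw [hg]
    exact Equiv.apply_symm_apply _ _
  exact (ConcreteCategory.congr_hom (NatTrans.congr_app h2 (op E)) (ULift.up 1)).trans (hφ E)

end Groth.Agent.AlgSpLib.SerreAff
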