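import Groth.Agent.AlgSpLib.SerreAffineChart
import Groth.Agent.AlgSpLib.SchemeDescent
import Groth.Agent.AlgSpLib.QuotSpLemmas
import Mathlib.RingTheory.Flat.EquationalCriterion
import Mathlib.AlgebraicGeometry.Morphisms.LocalFlatDescent
import Mathlib.AlgebraicGeometry.Sites.Fpqc

/-!
An algebraic space with vanishing first cohomology of quasi-coherent modules is an affine scheme.
-/

universe u

open CategoryTheory CategoryTheory.Limits AlgebraicGeometry Opposite TensorProduct
open AlgSp

noncomputable section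

set_option linter.style.haveILetI false

namespace Groth.Agent.AlgSpLib.SerreAff

open Groth.Agent.AlgSpLib Groth.Agent.AlgSpLib.QCohEt

set_option backward.isDefEq.respectTransparency.types false
set_option backward.isDefEq.respectTransparency false

variable {S : Scheme.{u}} [QuasiSeparatedSpace ↥S] (X : AlgSp.Space S) (hqc : IsQuasiCompactSp X.obj)
  (hqs : IsQuasiSeparatedSp X.obj) (h1 : H1Vanish X.obj) (E₀ : EtOver X.obj) [IsAff E₀]
  (hs : RepWith @Surjective E₀.obj.hom)

include hqc hqs h1 hs in
/-- the atlas is flat over the invariant functions -/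
theorem flat_invRing : Module.Flat (invRing E₀) (chartRing E₀) := by
  refine Module.Flat.of_forall_isTrivialRelation fun {l f x} hfx => ?_
  choose g hg using fun i => exists_gval_eq hs (f i)
  let D : ΓE E₀ ≃+* chartRing E₀ := ULift.ringEquiv
  have hval : ∀ e : Fin l → ΓE E₀, D (∑ i, e i • (g i).1 E₀ : Sec (unitModEt X.obj) E₀) =
      ∑ i, D (e i) * (f i).1 := fun e =>
    (map_sum D.toAddMonoidHom _ _).trans (Finset.sum_congr rfl fun i _ =>
      (map_mul D (e i) (gval (g i) E₀)).trans (congrArg (D (e i) * ·) (congrArg D (hg i))))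
  obtain ⟨m, c, r, hr, hb⟩ := exists_relations X hqc hqs h1 (unitModEt X.obj) g E₀ (fun i => ULift.up (x i))
    (D.injective ((hval _).trans (Eq.trans (Eq.trans
      (Finset.sum_congr rfl fun i _ => mul_comm (x i) (f i).1) hfx) (map_zero D).symm)))
  let a : Fin l → Fin m → invRing E₀ := fun i k => ⟨(gval (r k i) E₀).down, gval_mem_invRing (r k i)⟩
  refine ⟨m, a, fun k => D (c k), fun i => ?_, fun k => Subtype.ext ?_⟩
  · refine (congrArg D (hb i)).trans ((map_sum D _ _).trans (Finset.sum_congr rfl fun k _ => ?_))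
    exact (map_mul D _ _).trans (mul_comm _ _)
  · rw [AddSubmonoidClass.coe_finset_sum]
    refine Eq.trans (Finset.sum_congr rfl fun i _ => mul_comm _ _)
      ((hval fun i => gval (r k i) E₀).symm.trans ((congrArg D (hr k E₀)).trans (map_zero D)))

include hqc hqs h1 hs in
/-- the atlas is faithfully flat over the invariant functions -/
theorem faithfullyFlat_invRing : Module.FaithfullyFlat (invRing E₀) (chartRing E₀) := by
  refine (Module.FaithfullyFlat.iff_flat_and_proper_ideal _ _).2
    ⟨flat_invRing X hqc hqs h1 E₀ hs, fun I hI htop => hI ((Ideal.eq_top_iff_one I).2 ?_)⟩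
  have h0 : (1 : chartRing E₀) ∈ I.map (algebraMap (invRing E₀) (chartRing E₀)) := by
    have h2 : (1 : chartRing E₀) ∈ I • (⊤ : Submodule (invRing E₀) (chartRing E₀)) :=
      htop.symm ▸ Submodule.mem_top
    rw [Ideal.smul_top_eq_map] at h2
    exact h2
  obtain ⟨n, b, t, ht⟩ := Submodule.mem_span_set'.1 h0
  choose a ha hat using fun i => (t i).2
  choose g hg using fun i => exists_gval_eq hs (a i)
  let D : ΓE E₀ ≃+* chartRing E₀ := ULift.ringEquiv
  have hval : ∀ e : Fin n → ΓE E₀, D (∑ i, e i • (g i).1 E₀ : Sec (unitModEt X.obj) E₀) =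
      ∑ i, D (e i) * (a i).1 := fun e =>
    (map_sum D.toAddMonoidHom _ _).trans (Finset.sum_congr rfl fun i _ =>
      (map_mul D (e i) (gval (g i) E₀)).trans (congrArg (D (e i) * ·) (congrArg D (hg i))))
  let φ : uPow X.obj n ⟶ unitModEt X.obj := uDesc g
  haveI : (cokernel φ).IsQuasicoherent := isQuasicoherent_cokernel φ
  have h10 : secMap (cokernel.π φ) E₀ ((one (X := X.obj)).1 E₀) = 0 := by
    have h11 : secMap φ E₀ (tuple E₀ fun i => ULift.up (b i)) = (one (X := X.obj)).1 E₀ := by
      refine (secMap_uDesc g E₀ _).trans (D.injective ((hval _).trans (Eq.trans ?_ (map_one D).symm)))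
      refine Eq.trans (Finset.sum_congr rfl fun i _ => ?_) ht
      exact congrArg (b i * ·) (hat i)
    rw [← h11]
    exact secMap_comp_zero (cokernel.condition φ) E₀ _
  have hπ : cokernel.π φ = 0 := by
    have h12 : ∀ E, secMap (cokernel.π φ) E ((one (X := X.obj)).1 E) = 0 := fun E => by
      have h13 : globMap (cokernel.π φ) (one (X := X.obj)) = 0 :=
        glob_ext_atlas hs h10
      exact congrArg (fun z : Glob (cokernel φ) => z.1 E) h13
    refine SheafOfModules.hom_ext (PresheafOfModules.hom_ext fun U => ModuleCat.hom_ext (LinearMap.ext fun x => ?_))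
    have h14 : secMap (cokernel.π φ) U.unop ((show ΓE U.unop from x) • (one (X := X.obj)).1 U.unop) = 0 := by
      rw [map_smul, h12, smul_zero]
    refine Eq.trans ?_ h14
    exact congrArg (secMap (cokernel.π φ) U.unop) (mul_one (show ΓE U.unop from x)).symm
  haveI : Epi φ := Preadditive.epi_of_cancel_zero φ fun k hk => by
    rw [← cokernel.π_desc φ k hk, hπ, zero_comp]
  obtain ⟨x, hx⟩ := surjective_globMap φ h1 (one (X := X.obj))
  let c : Fin n → invRing E₀ := fun i =>
    ⟨(gval (comp_ (𝟙 _) x i) E₀).down, gval_mem_invRing (comp_ (𝟙 _) x i)⟩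
  have h15 : ∑ i, c i * a i = 1 := Subtype.ext (by
    rw [AddSubmonoidClass.coe_finset_sum]
    refine Eq.trans ((hval fun i => gval (comp_ (𝟙 _) x i) E₀).symm) ?_
    refine Eq.trans (congrArg D ?_) (map_one D)
    refine Eq.trans ?_ (congrArg (fun z : Glob _ => z.1 E₀) hx)
    refine Eq.trans (Finset.sum_congr rfl fun i _ => ?_) (secMap_uDesc' g E₀ (x.1 E₀)).symm
    exact congrArg (fun z => z • (g i).1 E₀) ((gval_comp (𝟙 _) x i E₀).trans
      (congrArg (coord E₀ i) ((secMap_eq rfl E₀ (x.1 E₀)).trans rfl))))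
  rw [← h15]
  exact Ideal.sum_mem _ fun i _ => Ideal.mul_mem_left _ _ (ha i)

/-- the morphism of the atlas to the spectrum of the invariant functions -/
def chartProj : E₀.obj.left.left ⟶ Spec (CommRingCat.of (invRing E₀)) :=
  E₀.obj.left.left.toSpecΓ ≫ Spec.map (CommRingCat.ofHom (invRing E₀).subtype)

/-- isomorphism of the atlas with the spectrum of its functions -/
theorem chartProj_eq : chartProj X E₀ = E₀.obj.left.left.isoSpec.hom ≫
    Spec.map (CommRingCat.ofHom (invRing E₀).subtype) := rfl

variable {V : Over S} [IsAffine V.left] (h : (yon S).obj V ⟶ X.obj)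

/-- the fibre product with the atlas -/
abbrev fibScheme : Scheme.{u} := chartFib (E₀ := E₀) (X.property.representable_from_yon h)

/-- its first projection -/
abbrev fibFst : fibScheme X E₀ h ⟶ V.left :=
  (toT0 (EtOver.bcObj (X.property.representable_from_yon h) E₀)).hom.left.left

theorem etale_fibFst : Etale (fibFst X E₀ h) :=
  EtOver.etale_left (toT0 (EtOver.bcObj (X.property.representable_from_yon h) E₀))

include hqs in
theorem compactSpace_fib : CompactSpace (fibScheme X E₀ h) :=
  compactSpace_bcObj (X.property.representable_from_yon h) (isQuasiCompactMor_chart X hqs h) E₀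

theorem isSeparated_fibFst : IsSeparated (fibFst X E₀ h) := by
  have h2 : IsSeparatedMor ((yon S).map (toT0 (EtOver.bcObj (X.property.representable_from_yon h) E₀)).hom.left) := by
    rw [map_toT0]
    exact isSeparatedMor_of_isPullback ((X.property.representable_from_yon h).isPullback E₀.obj.hom).flip
      (isSeparatedMor_chart X E₀.obj.hom)
  exact (isSeparatedMor_yon_map_iff _).1 h2

include hqs in
theorem isQuasiAffine_fib : (fibScheme X E₀ h).IsQuasiAffine := by
  haveI := compactSpace_fib X hqs E₀ h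
  haveI := isSeparated_fibFst X E₀ h
  haveI := etale_fibFst X E₀ h
  haveI := locallyQuasiFinite_of_etale (fibFst X E₀ h)
  haveI : LocallyOfFiniteType (fibFst X E₀ h) := etale_le_lft _ _ _ (etale_fibFst X E₀ h)
  exact isQuasiAffine_of_lqf (fibFst X E₀ h)

/-- the map from functions on the scheme and on the atlas -/
def fibMap :
    letI := (alpha hs (X.property.representable_from_yon h)).toAlgebra
    (Γ(V.left, ⊤) ⊗[invRing E₀] chartRing E₀) →+* Γ(fibScheme X E₀ h, ⊤) :=
  letI := (alpha hs (X.property.representable_from_yon h)).toAlgebra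
  letI := ((qU (X.property.representable_from_yon h)).comp (invRing E₀).subtype).toAlgebra
  (Algebra.TensorProduct.productMap
    ({ pV (X.property.representable_from_yon h) with
        commutes' := fun a => pV_alpha hs (X.property.representable_from_yon h) a } :
      Γ(V.left, ⊤) →ₐ[invRing E₀] Γ(fibScheme X E₀ h, ⊤))
    ({ qU (X.property.representable_from_yon h) with commutes' := fun a => rfl } :
      chartRing E₀ →ₐ[invRing E₀] Γ(fibScheme X E₀ h, ⊤))).toRingHom

theorem fibMap_tmul (v : Γ(V.left, ⊤)) (b : chartRing E₀) :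
    letI := (alpha hs (X.property.representable_from_yon h)).toAlgebra
    fibMap X E₀ hs h (v ⊗ₜ b) =
      pV (X.property.representable_from_yon h) v * qU (X.property.representable_from_yon h) b := rfl

include hqc hqs h1 in
theorem bijective_fibMap : Function.Bijective (fibMap X E₀ hs h) := by
  letI := (alpha hs (X.property.representable_from_yon h)).toAlgebra
  refine ⟨(injective_iff_map_eq_zero _).2 fun x hx => ?_, fun w => ?_⟩
  · obtain ⟨σ, rfl⟩ := TensorProduct.exists_finset x
    have e := σ.equivFin.symm.sum_comp (fun p : σ => p.1.1 ⊗ₜ[invRing E₀] p.1.2)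
    rw [σ.sum_coe_sort fun p => p.1 ⊗ₜ[invRing E₀] p.2] at e
    rw [← e] at hx ⊢
    rw [map_sum] at hx
    exact sum_tmul_eq_zero X hqc hqs h1 E₀ hs h (fun i => (σ.equivFin.symm i).1.1)
      (fun i => (σ.equivFin.symm i).1.2) hx
  · obtain ⟨n, v, b, hw⟩ := exists_sum_eq X hqc hqs h1 E₀ hs h w
    exact ⟨∑ i, v i ⊗ₜ b i, (map_sum _ _ _).trans hw.symm⟩

/-- the morphism to the product of the spectra -/
def fibProd :
    letI := (alpha hs (X.property.representable_from_yon h)).toAlgebra
    fibScheme X E₀ h ⟶ Spec (CommRingCat.of (Γ(V.left, ⊤) ⊗[invRing E₀] chartRing E₀)) :=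
  letI := (alpha hs (X.property.representable_from_yon h)).toAlgebra
  (fibScheme X E₀ h).toSpecΓ ≫ Spec.map (CommRingCat.ofHom (fibMap X E₀ hs h))

/-- the point of the scheme given by a ring map out of its functions -/
def pointMap {K : Type u} [Field K] (χ : Γ(V.left, ⊤) →+* K) : Spec (CommRingCat.of K) ⟶ V.left :=
  Spec.map (CommRingCat.ofHom χ) ≫ V.left.isoSpec.inv

theorem appTop_pointMap {K : Type u} [Field K] (χ : Γ(V.left, ⊤) →+* K) :
    (pointMap (V := V) χ).appTop ≫ (Scheme.ΓSpecIso (CommRingCat.of K)).hom = CommRingCat.ofHom χ := by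
  have h4 : (pointMap (V := V) χ) ≫ V.left.toSpecΓ = Spec.map (CommRingCat.ofHom χ) := by
    rw [pointMap, Category.assoc, ← Scheme.isoSpec_hom, Iso.inv_hom_id, Category.comp_id]
  rw [Scheme.toSpecΓ_naturality] at h4
  have h5 : (Spec (CommRingCat.of K)).toSpecΓ = Spec.map (Scheme.ΓSpecIso (CommRingCat.of K)).hom :=
    (SpecMap_ΓSpecIso_hom _).symm
  rw [h5, ← Spec.map_comp] at h4
  exact Spec.map_injective h4

theorem isAffine_fib_field (hqs : IsQuasiSeparatedSp X.obj) [IsLocallyArtinian V.left] :
    IsAffine (fibScheme X E₀ h) := by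
  haveI := compactSpace_fib X hqs E₀ h
  haveI := etale_fibFst X E₀ h
  haveI := locallyQuasiFinite_of_etale (fibFst X E₀ h)
  haveI : QuasiCompact (fibFst X E₀ h) := (quasiCompact_iff_compactSpace (f := fibFst X E₀ h)).2 inferInstance
  haveI : LocallyOfFiniteType (fibFst X E₀ h) := etale_le_lft _ _ _ (etale_fibFst X E₀ h)
  haveI : IsFinite (fibFst X E₀ h) := IsFinite.of_locallyQuasiFinite _
  exact isAffine_of_isAffineHom (fibFst X E₀ h)

include hs in
/-- transition maps between fibre products with the atlas -/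
theorem exists_fibTrans {V' : Over S} [IsAffine V'.left] (ι : V' ⟶ V) :
    ∃ κ : fibScheme X E₀ ((yon S).map ι ≫ h) ⟶ fibScheme X E₀ h,
      (∀ x, κ.appTop.hom (pV (E₀ := E₀) (X.property.representable_from_yon h) x) =
        pV (E₀ := E₀) (X.property.representable_from_yon ((yon S).map ι ≫ h)) (ι.left.appTop.hom x)) ∧
      (∀ y, κ.appTop.hom (qU (E₀ := E₀) (X.property.representable_from_yon h) y) =
        qU (E₀ := E₀) (X.property.representable_from_yon ((yon S).map ι ≫ h)) y) ∧
      ∀ a, ι.left.appTop.hom (alpha hs (X.property.representable_from_yon h) a) =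
        alpha hs (X.property.representable_from_yon ((yon S).map ι ≫ h)) a := by
  let hh := X.property.representable_from_yon h
  let hh' := X.property.representable_from_yon ((yon S).map ι ≫ h)
  let k : hh'.pullback E₀.obj.hom ⟶ hh.pullback E₀.obj.hom :=
    hh.lift (hh'.fst E₀.obj.hom ≫ (yon S).map ι) (hh'.snd E₀.obj.hom) (by
      rw [Category.assoc]; exact hh'.w E₀.obj.hom)
  have e : k ≫ (toT0 (EtOver.bcObj hh E₀)).hom.left = (toT0 (EtOver.bcObj hh' E₀)).hom.left ≫ ι :=
    (yon S).map_injective (by
      rw [Functor.map_comp, Functor.map_comp, map_toT0, map_toT0]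
      exact hh.lift_fst _ _ _)
  have h6 : ∀ x, k.left.appTop.hom (pV (E₀ := E₀) hh x) = pV (E₀ := E₀) hh' (ι.left.appTop.hom x) := fun x => by
    have h7 := congrArg (fun z => z.left.appTop.hom x) e
    simp only [Over.comp_left, Scheme.Hom.comp_appTop, CommRingCat.comp_apply] at h7
    exact h7
  have h8 : ∀ y, k.left.appTop.hom (qU (E₀ := E₀) hh y) = qU (E₀ := E₀) hh' y := fun y => by
    have h9 := congrArg (fun z => z.left.appTop.hom y) (hh.lift_snd (hh'.fst E₀.obj.hom ≫ (yon S).map ι)
      (hh'.snd E₀.obj.hom) (by rw [Category.assoc]; exact hh'.w E₀.obj.hom))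
    simp only [Over.comp_left, Scheme.Hom.comp_appTop, CommRingCat.comp_apply] at h9
    exact h9
  exact ⟨k.left, h6, h8, fun a => injective_pV hs hh' (by rw [← h6, pV_alpha, h8, pV_alpha])⟩

include hqc hqs h1 in
/-- ring maps out of the functions of a fibre product -/
theorem exists_fibHom {K : Type u} [CommRing K] (e : Γ(V.left, ⊤) →+* K) (b : chartRing E₀ →+* K)
    (hc : ∀ a : invRing E₀, e (alpha hs (X.property.representable_from_yon h) a) = b a.1) :
    ∃ ψ : Γ(fibScheme X E₀ h, ⊤) →+* K, ∀ x y,
      ψ (pV (X.property.representable_from_yon h) x * qU (X.property.representable_from_yon h) y) = e x * b y := by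
  letI := (alpha hs (X.property.representable_from_yon h)).toAlgebra
  letI : Algebra (invRing E₀) K := (b.comp (invRing E₀).subtype).toAlgebra
  let e' : Γ(V.left, ⊤) →ₐ[invRing E₀] K := { e with commutes' := fun a => hc a }
  let b' : chartRing E₀ →ₐ[invRing E₀] K := { b with commutes' := fun a => rfl }
  let φ := RingEquiv.ofBijective _ (bijective_fibMap X hqc hqs h1 E₀ hs h)
  refine ⟨(Algebra.TensorProduct.productMap e' b').toRingHom.comp φ.symm.toRingHom, fun x y => ?_⟩
  exact (congrArg (Algebra.TensorProduct.productMap e' b') (φ.symm_apply_apply (x ⊗ₜ[invRing E₀] y))).trans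
    (Algebra.TensorProduct.productMap_apply_tmul e' b' x y)

include hqc hqs h1 in
/-- ring maps to fields out of the tensor product factor through the fibre product -/
theorem exists_fieldHom_fib {K : Type u} [Field K] (v : Γ(V.left, ⊤) →+* K) (b : chartRing E₀ →+* K)
    (hvb : ∀ a : invRing E₀, v (alpha hs (X.property.representable_from_yon h) a) = b a.1) :
    ∃ γ : Spec (CommRingCat.of K) ⟶ fibScheme X E₀ h,
      ∃ ψ : Γ(fibScheme X E₀ h, ⊤) →+* K,
        γ ≫ (fibScheme X E₀ h).toSpecΓ = Spec.map (CommRingCat.ofHom ψ) ∧ ∀ x y,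
          ψ (pV (X.property.representable_from_yon h) x * qU (X.property.representable_from_yon h) y) = v x * b y := by
  let V' : Over S := Over.mk (pointMap v ≫ V.hom)
  let ι : V' ⟶ V := Over.homMk (pointMap v) rfl
  haveI : IsAffine V'.left := inferInstanceAs (IsAffine (Spec (CommRingCat.of K)))
  haveI : IsLocallyArtinian V'.left := inferInstanceAs (IsLocallyArtinian (Spec (CommRingCat.of K)))
  haveI := isAffine_fib_field X E₀ ((yon S).map ι ≫ h) hqs
  obtain ⟨κ, hp, hq, hα⟩ := exists_fibTrans X E₀ hs h ι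
  let e : Γ(V'.left, ⊤) →+* K := (Scheme.ΓSpecIso (CommRingCat.of K)).hom.hom
  have hv : ∀ x, e (ι.left.appTop.hom x) = v x := fun x =>
    congrArg (fun z => z.hom x) (appTop_pointMap v)
  obtain ⟨ψ, hψ⟩ := exists_fibHom X hqc hqs h1 E₀ hs ((yon S).map ι ≫ h) e b fun a => by rw [← hα, hv, hvb]
  refine ⟨Spec.map (CommRingCat.ofHom ψ) ≫ (fibScheme X E₀ ((yon S).map ι ≫ h)).isoSpec.inv ≫ κ,
    ψ.comp κ.appTop.hom, ?_, fun x y => ?_⟩
  · simp only [Category.assoc]
    rw [Scheme.toSpecΓ_naturality, ← Scheme.isoSpec_hom, Iso.inv_hom_id_assoc, ← Spec.map_comp]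
    rfl
  · rw [RingHom.comp_apply, map_mul, hp, hq, hψ, hv]

include hqc hqs h1 in
/-- points of the tensor product come from the fibre product -/
theorem exists_point_fib {K : Type u} [Field K] :
    letI := (alpha hs (X.property.representable_from_yon h)).toAlgebra
    ∀ χ : (Γ(V.left, ⊤) ⊗[invRing E₀] chartRing E₀) →+* K,
      ∃ γ : Spec (CommRingCat.of K) ⟶ fibScheme X E₀ h,
        γ ≫ fibProd X E₀ hs h = Spec.map (CommRingCat.ofHom χ) := by
  letI := (alpha hs (X.property.representable_from_yon h)).toAlgebra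
  intro χ
  obtain ⟨γ, ψ, hγ, hψ⟩ := exists_fieldHom_fib X hqc hqs h1 E₀ hs h
    (χ.comp Algebra.TensorProduct.includeLeftRingHom)
    (χ.comp (Algebra.TensorProduct.includeRight (R := invRing E₀) (A := Γ(V.left, ⊤))
      (B := chartRing E₀)).toRingHom)
    (fun a => congrArg χ
      (((Algebra.TensorProduct.includeRight (R := invRing E₀) (A := Γ(V.left, ⊤))
        (B := chartRing E₀)).commutes a).symm :))
  have htot : ψ.comp (fibMap X E₀ hs h) = χ := by
    refine RingHom.ext fun z => ?_
    induction z using TensorProduct.induction_on with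
    | zero => rw [map_zero, map_zero]
    | tmul x y =>
      refine (hψ x y).trans ((map_mul χ (x ⊗ₜ 1) (1 ⊗ₜ y)).symm.trans (congrArg χ ?_))
      rw [Algebra.TensorProduct.tmul_mul_tmul, mul_one, one_mul]
    | add x y hx hy => rw [map_add, map_add, hx, hy]
  refine ⟨γ, ?_⟩
  unfold fibProd
  rw [← Category.assoc, hγ, ← Spec.map_comp, ← CommRingCat.ofHom_comp, htot]

omit [QuasiSeparatedSpace ↥S] in
/-- surjectivity on points with values in fields -/
theorem surjective_of_fieldPoints {R : Type u} [CommRing R] {W : Scheme.{u}} (f : W ⟶ Spec (CommRingCat.of R))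
    (hf : ∀ (K : Type u) [Field K] (χ : R →+* K), ∃ γ, γ ≫ f = Spec.map (CommRingCat.ofHom χ)) :
    Function.Surjective f := fun q => by
  obtain ⟨γ, hγ⟩ := hf q.asIdeal.ResidueField (algebraMap R q.asIdeal.ResidueField)
  refine ⟨γ (IsLocalRing.closedPoint q.asIdeal.ResidueField), ?_⟩
  refine (show (γ ≫ f) (IsLocalRing.closedPoint q.asIdeal.ResidueField) = q from ?_)
  rw [hγ]
  refine PrimeSpectrum.ext ?_
  show Ideal.comap (algebraMap R q.asIdeal.ResidueField) (IsLocalRing.maximalIdeal q.asIdeal.ResidueField) = q.asIdeal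
  rw [IsLocalRing.maximalIdeal_eq_bot]
  exact Ideal.ker_algebraMap_residueField _

include hqc hqs h1 hs in
/-- every point of the spectrum of the tensor product comes from the fibre product -/
theorem surjective_fibProd : Function.Surjective (fibProd X E₀ hs h) :=
  surjective_of_fieldPoints (fibProd X E₀ hs h) fun _ _ χ => exists_point_fib X hqc hqs h1 E₀ hs h χ

include hqc hqs h1 hs in
theorem isIso_fibProd : IsIso (fibProd X E₀ hs h) := by
  letI := (alpha hs (X.property.representable_from_yon h)).toAlgebra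
  haveI := isQuasiAffine_fib X hqs E₀ h
  haveI : IsIso (CommRingCat.ofHom (fibMap X E₀ hs h)) :=
    (ConcreteCategory.isIso_iff_bijective _).2 (bijective_fibMap X hqc hqs h1 E₀ hs h)
  haveI : IsOpenImmersion (fibProd X E₀ hs h) := by
    unfold fibProd
    infer_instance
  haveI : Epi (fibProd X E₀ hs h).base :=
    (TopCat.epi_iff_surjective _).2 (surjective_fibProd X hqc hqs h1 E₀ hs h)
  exact IsOpenImmersion.isIso _

end Groth.Agent.AlgSpLib.SerreAff
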