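import Groth.Agent.AlgSpLib.SerreChevOpen
import Groth.Agent.AlgSpLib.EtaleAscend
import Mathlib.RingTheory.Ideal.GoingUp

/-!
Finite morphisms from integral affine schemes over an affine open: generic behaviour.
-/

universe u

open CategoryTheory CategoryTheory.Limits AlgebraicGeometry Opposite TensorProduct
open AlgSp

noncomputable section

set_option linter.style.haveILetI false
set_option linter.unusedSectionVars false

namespace Groth.Agent.AlgSpLib.SerreChev

open Groth.Agent.AlgSpLib Groth.Agent.AlgSpLib.QCohEt Groth.Agent.AlgSpLib.SerreAff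

set_option backward.isDefEq.respectTransparency.types false
set_option backward.isDefEq.respectTransparency false

theorem mem_basicOpen_iff {S : Scheme.{u}} {Y : Sp S} (E : EtOver Y) (g : ΓE E) (u : E.obj.left.left) :
    u ∈ E.obj.left.left.basicOpen (g.down : Γ(E.obj.left.left, ⊤)) ↔ g ∉ primeE E u := by
  rw [Scheme.mem_basicOpen_top]
  refine Iff.trans ?_ (Iff.not (show g.down ∈ primeAtPt E.obj.left.left u ↔ g ∈ primeE E u from Iff.rfl))
  rw [primeAtPt, Ideal.mem_comap, IsLocalRing.notMem_maximalIdeal]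
  rfl

variable {S : Scheme.{u}} [QuasiSeparatedSpace ↥S] {X : AlgSp.Space S} {C : Over S} [hC : IsAffine C.left]
  {k : (yon S).obj C ⟶ X.obj} (hk : RepWith @IsOpenImmersion k)
  {T : Over S} [hTa : IsAffine T.left] [hTi : IsIntegral T.left] {f : (yon S).obj T ⟶ X.obj} (hf : Representable f)

/-- the multiplication by a global function -/
def bGlob (b : Γ(T.left, ⊤)) : Glob (unitModEt ((yon S).obj T)) :=
  ⟨fun W => (ΓMap (toT0 W)).hom (ULift.up b : ΓE (T0 T)), fun E E' g =>
    (ΓMap_comp g (toT0 E) _).symm.trans (congrArg (fun q => (ΓMap q).hom (ULift.up b : ΓE (T0 T))) (hom_T0_ext _ _))⟩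

/-- the value of a global function on the fibre over a chart -/
def bval (b : Γ(T.left, ⊤)) (E : EtOver X.obj) : ΓE (EtOver.bcObj hf E) :=
  (bGlob b).1 (EtOver.bcObj hf E)

theorem bval_pow (b : Γ(T.left, ⊤)) (n : ℕ) (E : EtOver X.obj) : bval hf (b ^ n) E = bval hf b E ^ n :=
  map_pow (ΓMap (toT0 (EtOver.bcObj hf E))).hom (ULift.up b : ΓE (T0 T)) n

theorem not_mem_primeE_bval (b : Γ(T.left, ⊤)) (E : EtOver X.obj) (e : (EtOver.bcObj hf E).obj.left.left)
    (h : (toT0 (EtOver.bcObj hf E)).hom.left.left e ∈ T.left.basicOpen b) :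
    bval hf b E ∉ primeE (EtOver.bcObj hf E) e := fun h' => by
  have h2 := (mem_basicOpen_iff (T0 T) (ULift.up b) _).1 h
  exact h2 (primeE_comap (toT0 (EtOver.bcObj hf E)) e ▸ h')

theorem ofPt_bc (E : EtOver X.obj) (e : (EtOver.bcObj hf E).obj.left.left) :
    Points.ofPt f ((toT0 (EtOver.bcObj hf E)).hom.left.left e) =
      Points.ofPt E.obj.hom ((EtOver.bcπ hf E).left e) := by
  refine (ofPt_map (toT0 (EtOver.bcObj hf E)).hom.left f e).symm.trans (Eq.trans ?_ (ofPt_map (EtOver.bcπ hf E) E.obj.hom e))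
  rw [map_toT0]
  exact congrArg (fun q => Points.ofPt q e) (hf.w E.obj.hom)

variable (hη : Points.ofPt f (genericPoint T.left) ∈ OU (k := k))

include hη in
/-- functions vanishing over the open times a nonzero function vanish -/
theorem eq_zero_of_mul {E : EtOver X.obj} (hE : IsAff E) (b : Γ(T.left, ⊤)) (hb : b ≠ 0)
    (x : ΓE (EtOver.bcObj hf E))
    (h : ∀ (W : EtOver X.obj) (_ : IsAff W) (_ : Over' (OU (k := k)) W) (g : W ⟶ E),
      (ΓMap (EtOver.bcMap hf g)).hom (bval hf b E * x) = 0)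
    (hOo : IsOpen (OU (k := k))) : x = 0 := by
  let E' := EtOver.bcObj hf E
  let τ := (toT0 E').hom.left.left
  haveI : IsIntegral (T0 T).obj.left.left := hTi
  haveI : Etale τ := by
    have h1 : RepWith (S := S) (@Etale : MorphismProperty Scheme.{u}) ((yon S).map (toT0 E').hom.left) := by
      rw [map_toT0]; exact E'.property
    exact (repWith_yon_map_iff (P := @Etale) _).1 h1
  haveI : IsReduced E'.obj.left.left := isReduced_of_etale' τ
  refine ULift.ext _ _ ((basicOpen_eq_bot_iff (X := E'.obj.left.left) (U := ⊤) x.down).1 ?_)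
  by_contra hne
  obtain ⟨e, he⟩ : (E'.obj.left.left.basicOpen x.down : Set E'.obj.left.left).Nonempty :=
    Set.nonempty_iff_ne_empty.2 fun h' => hne (TopologicalSpace.Opens.ext (h'.trans TopologicalSpace.Opens.coe_bot.symm))
  obtain ⟨e', he', hτ⟩ := Flat.generalizingMap τ (genericPoint_specializes (τ e))
  have hbη : genericPoint T.left ∈ T.left.basicOpen b := by
    have hne' : T.left.basicOpen b ≠ ⊥ := fun h' => hb ((basicOpen_eq_bot_iff b).1 h')
    obtain ⟨t, ht⟩ : (T.left.basicOpen b : Set T.left).Nonempty :=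
      Set.nonempty_iff_ne_empty.2 fun h' => hne' (TopologicalSpace.Opens.ext (h'.trans TopologicalSpace.Opens.coe_bot.symm))
    exact (genericPoint_specializes t).mem_open (T.left.basicOpen b).2 ht
  have hxe : x ∉ primeE E' e' :=
    (mem_basicOpen_iff E' x e').1 (he'.mem_open (E'.obj.left.left.basicOpen x.down).2 he)
  have hbe : bval hf b E ∉ primeE E' e' := not_mem_primeE_bval hf b E e' (by rw [hτ]; exact hbη)
  have heO : Points.ofPt E.obj.hom ((EtOver.bcπ hf E).left e') ∈ OU (k := k) := by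
    rw [← ofPt_bc hf E e', hτ]
    exact hη
  obtain ⟨W, g, hW, hWO, heW⟩ := exists_piece_mem E (hOo.preimage (Points.continuous_ofPt E.obj.hom)) heO
  have cW : Over' (OU (k := k)) W := by
    rintro _ ⟨w, rfl⟩
    rw [← ofPt_edge_hom g w]
    exact hWO ⟨w, rfl⟩
  obtain ⟨w, hw⟩ := heW
  obtain ⟨p, hp, -⟩ := Scheme.exists_preimage_of_isPullback (EtOver.isPullback_bcMap_left hf g) e' w hw.symm
  have h0 := h W hW cW g
  have hm : (ΓMap (EtOver.bcMap hf g)).hom (bval hf b E * x) ∈ primeE (EtOver.bcObj hf W) p := by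
    rw [h0]; exact zero_mem _
  have hm' : bval hf b E * x ∈ (primeE (EtOver.bcObj hf W) p).comap (ΓMap (EtOver.bcMap hf g)).hom := hm
  rw [primeE_comap, hp] at hm'
  exact ((inferInstance : (primeE E' e').IsPrime).mem_or_mem hm').elim hbe hxe

include hη in
theorem exists_pt_over_η : ∃ p : (EtOver.bcObj hf (EU hk)).obj.left.left,
    (toT0 (EtOver.bcObj hf (EU hk))).hom.left.left p = genericPoint T.left := by
  obtain ⟨u, hu⟩ : Points.ofPt f (genericPoint T.left) ∈ Set.range (Points.ofPt k) := by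
    rw [← Induct.range_map_yon]; exact hη
  rw [Points.ofPt_eq_map_ofScheme, Points.ofPt_eq_map_ofScheme] at hu
  obtain ⟨z, hz, -⟩ := exists_point_of_isPullback (hf.isPullback (EU hk).obj.hom) hu.symm
  obtain ⟨p, rfl⟩ := (Points.schemeEquiv _).surjective z
  refine ⟨p, (Points.schemeEquiv T).injective ((map_yon_map_ofScheme _ p).symm.trans ?_)⟩
  rw [map_toT0]
  exact hz

include hη in
theorem isIntegral_bcEU : IsIntegral (EtOver.bcObj hf (EU hk)).obj.left.left := by
  have h1 : RepWith @IsOpenImmersion ((yon S).map (toT0 (EtOver.bcObj hf (EU hk))).hom.left) := by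
    rw [map_toT0]
    exact RepWith.baseChange (hf.isPullback (EU hk).obj.hom).flip hk
  haveI : IsOpenImmersion (toT0 (EtOver.bcObj hf (EU hk))).hom.left.left :=
    (repWith_yon_map_iff (P := @IsOpenImmersion) _).1 h1
  haveI : Nonempty (EtOver.bcObj hf (EU hk)).obj.left.left := ⟨(exists_pt_over_η hk hf hη).choose⟩
  haveI : IsIntegral (T0 T).obj.left.left := hTi
  exact isIntegral_of_isOpenImmersion (toT0 (EtOver.bcObj hf (EU hk))).hom.left.left

include hη in
theorem isDomain_bcEU : IsDomain (ΓE (EtOver.bcObj hf (EU hk))) := by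
  haveI := isIntegral_bcEU hk hf hη
  haveI : Nonempty (EtOver.bcObj hf (EU hk)).obj.left.left := IsIntegral.nonempty
  exact MulEquiv.isDomain _ (ULift.ringEquiv (R := Γ((EtOver.bcObj hf (EU hk)).obj.left.left, ⊤))).toMulEquiv

variable (hmin : ∀ u : C.left, Points.ofPt k u = Points.ofPt f (genericPoint T.left) → primeE (EU hk) u = ⊥)

include hη hmin in
theorem injective_bcΓ_EU : Function.Injective (bcΓ hf (EU hk)) := by
  refine (injective_iff_map_eq_zero _).2 fun r hr => ?_
  obtain ⟨p, hp⟩ := exists_pt_over_η hk hf hη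
  have h1 : primeE (EU hk) ((EtOver.bcπ hf (EU hk)).left p) = ⊥ :=
    hmin _ ((ofPt_bc hf (EU hk) p).symm.trans (congrArg (Points.ofPt f) hp))
  by_contra hne
  have h2 : r ∉ primeE (EU hk) ((EtOver.bcπ hf (EU hk)).left p) := by
    rw [h1, Ideal.mem_bot]; exact hne
  refine h2 ?_
  have h3 : bcΓ hf (EU hk) r ∈ primeE (EtOver.bcObj hf (EU hk)) p := by rw [hr]; exact zero_mem _
  have h4 : (EtOver.bcObj hf (EU hk)).obj.left.left.basicOpen (bcΓ hf (EU hk) r).down =
      (EtOver.bcπ hf (EU hk)).left ⁻¹ᵁ (EU hk).obj.left.left.basicOpen r.down :=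
    (Scheme.preimage_basicOpen_top (EtOver.bcπ hf (EU hk)).left r.down).symm
  by_contra h5
  have h6 : p ∈ (EtOver.bcObj hf (EU hk)).obj.left.left.basicOpen (bcΓ hf (EU hk) r).down := by
    rw [h4]
    exact (mem_basicOpen_iff (EU hk) r _).2 h5
  exact (mem_basicOpen_iff _ (bcΓ hf (EU hk) r) p).1 h6 h3

include hη in
theorem bval_ne_zero (b : Γ(T.left, ⊤)) (hb : b ≠ 0) : bval hf b (EU hk) ≠ 0 := by
  intro h0
  obtain ⟨p, hp⟩ := exists_pt_over_η hk hf hη
  have hne' : T.left.basicOpen b ≠ ⊥ := fun h' => hb ((basicOpen_eq_bot_iff b).1 h')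
  obtain ⟨t, ht⟩ : (T.left.basicOpen b : Set T.left).Nonempty :=
    Set.nonempty_iff_ne_empty.2 fun h' => hne' (TopologicalSpace.Opens.ext (h'.trans TopologicalSpace.Opens.coe_bot.symm))
  refine not_mem_primeE_bval hf b (EU hk) p ?_ (h0 ▸ zero_mem _)
  rw [hp]
  exact (genericPoint_specializes t).mem_open (T.left.basicOpen b).2 ht

end Groth.Agent.AlgSpLib.SerreChev
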