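import Groth.Agent.AlgSpLib.SerreChevVanish
import Groth.Agent.AlgSpLib.QCohEtExtend

/-!
Extensions of submodules from affine open subschemes, and generic independence.
-/

universe u

open CategoryTheory CategoryTheory.Limits AlgebraicGeometry Opposite TensorProduct
open AlgSp

noncomputable section

set_option linter.style.haveILetI false
set_option linter.unusedSectionVars false

namespace Groth.Agent.AlgSpLib.SerreChev

open Groth.Agent.AlgSpLib Groth.Agent.AlgSpLib.QCohEt Groth.Agent.AlgSpLib.SerreAff

set_option backward.isDefEq.respectTransparency.types false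
set_option backward.isDefEq.respectTransparency false

variable {S : Scheme.{u}} [QuasiSeparatedSpace ↥S] {X : AlgSp.Space S} {C : Over S} [hC : IsAffine C.left]
  {k : (yon S).obj C ⟶ X.obj} (hk : RepWith @IsOpenImmersion k)

/-- an open subscheme as an object of the small etale site -/
def EU : EtOver X.obj :=
  EtOver.mk k (RepWith.mono (fun _ _ g (_ : IsOpenImmersion g) => (inferInstance : Etale g)) hk)

instance isAff_EU : IsAff (EU hk) := hC

/-- the open set of points -/
abbrev OU : Set (Points X.obj) := Set.range (Points.map k)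

include hk in
theorem exists_toU {W : EtOver X.obj} (hW : Over' (OU (k := k)) W) : ∃ l : W.obj.left ⟶ C,
    (yon S).map l ≫ k = W.obj.hom := by
  obtain ⟨g, hg⟩ := (exists_lift_iff_range_subset hk W.obj.hom).2 (by rw [Induct.range_map_yon]; exact hW)
  exact ⟨(yon S).preimage g, by rw [(yon S).map_preimage]; exact hg⟩

/-- the map to the open subscheme -/
def toU {W : EtOver X.obj} (hW : Over' (OU (k := k)) W) : W ⟶ EU hk :=
  EtOver.homMk (exists_toU hk hW).choose (exists_toU hk hW).choose_spec

theorem hom_EU_ext {W : EtOver X.obj} (a b : W ⟶ EU hk) : a = b := by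
  haveI := Induct.mono_openImm hk
  refine EtOver.hom_ext _ _ ((yon S).map_injective ((cancel_mono k).1 ?_))
  exact (EtOver.w a).trans (EtOver.w b).symm

theorem over_EU : Over' (OU (k := k)) (EU hk) := by
  rintro _ ⟨u, rfl⟩
  rw [OU, Induct.range_map_yon]
  exact ⟨u, rfl⟩

variable (hqs : IsQuasiSeparatedSp X.obj)

include hk hqs hC in
theorem coversLocus_OU (E : EtOver X.obj) [IsAff E] : PSub.CoversLocus (Over' (OU (k := k))) E := by
  haveI : CompactSpace ↥C.left := inferInstance
  refine coversLocus_over X.property hqs ?_ ?_ E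
  · rw [OU, Induct.range_map_yon]
    exact (isOpenMap_ofPt k (EU hk).property).isOpen_range
  · rw [OU, Induct.range_map_yon]
    exact isCompact_range (Points.continuous_ofPt k)

variable {F : ModEt X.obj} [F.IsQuasicoherent]

/-- the sections on objects over the open lying in the span of given sections -/
def spanP (N : Submodule (ΓE (EU hk)) (Sec F (EU hk))) : PSub F (Over' (OU (k := k))) where
  P W _ cW := Submodule.span (ΓE W) (mapSec F (toU hk cW) '' (N : Set (Sec F (EU hk))))
  span_eq {E W} _ _ cE cW g := by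
    rw [PSub.span_span, hom_EU_ext hk (g ≫ toU hk cE) (toU hk cW)]

/-- the extension of a submodule from the open -/
def extN (N : Submodule (ΓE (EU hk)) (Sec F (EU hk))) : QSub F :=
  let M := (spanP hk N).extend (D := fun _ => True) (down_over _) fun E hE _ =>
    haveI := hE
    coversLocus_OU hk hqs E
  ⟨fun E hE => M.P E hE trivial, fun hE hW g => M.span_eq hE hW trivial trivial g⟩

theorem mem_extN (N : Submodule (ΓE (EU hk)) (Sec F (EU hk))) {E : EtOver X.obj} (hE : IsAff E) (x : Sec F E) :
    x ∈ (extN hk hqs N).P E hE ↔ ∀ (W : EtOver X.obj) (_ : IsAff W) (cW : Over' (OU (k := k)) W) (g : W ⟶ E),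
      mapSec F g x ∈ Submodule.span (ΓE W) (mapSec F (toU hk cW) '' (N : Set (Sec F (EU hk)))) := Iff.rfl

theorem extN_EU (N : Submodule (ΓE (EU hk)) (Sec F (EU hk))) :
    (extN hk hqs N).P (EU hk) inferInstance = N := by
  show (spanP hk N).extP (EU hk) = N
  rw [(spanP hk N).extP_eq (over_EU hk)]
  show Submodule.span (ΓE (EU hk)) (mapSec F (toU hk (over_EU hk)) '' (N : Set (Sec F (EU hk)))) = N
  rw [hom_EU_ext hk (toU hk (over_EU hk)) (𝟙 _)]
  have h : mapSec F (𝟙 (EU hk)) '' (N : Set (Sec F (EU hk))) = N := by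
    ext x
    simp only [Set.mem_image, mapSec_id, exists_eq_right]
  rw [h, Submodule.span_eq]

include hqs in
/-- sections vanishing on the open -/
theorem mem_extN_bot {E : EtOver X.obj} (hE : IsAff E) (x : Sec F E) :
    x ∈ (extN (F := F) hk hqs ⊥).P E hE ↔ ∀ (W : EtOver X.obj) (_ : IsAff W) (_ : Over' (OU (k := k)) W) (g : W ⟶ E),
      mapSec F g x = 0 := by
  refine (mem_extN hk hqs ⊥ hE x).trans (forall_congr' fun W => forall_congr' fun hW =>
    forall_congr' fun cW => forall_congr' fun g => ?_)
  rw [Submodule.bot_coe, Set.image_singleton, map_zero, Submodule.span_zero_singleton, Submodule.mem_bot]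

/-- the closed set left out by a function on the open -/
def Zc (g : ΓE (EU hk)) : Set (Points X.obj) :=
  (Points.ofPt k '' {u | g ∉ primeE (EU hk) u})ᶜ

theorem setOf_not_primeE (g : ΓE (EU hk)) :
    {u : C.left | g ∉ primeE (EU hk) u} = (C.left.basicOpen (g.down : Γ(C.left, ⊤)) : Set C.left) := by
  ext u
  rw [Set.mem_setOf_eq, SetLike.mem_coe, Scheme.mem_basicOpen_top]
  show ¬ g.down ∈ primeAtPt C.left u ↔ _
  rw [primeAtPt, Ideal.mem_comap, IsLocalRing.notMem_maximalIdeal]
  rfl

theorem isClosed_Zc (g : ΓE (EU hk)) : IsClosed (Zc hk g) := by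
  refine (isOpenMap_ofPt k (EU hk).property _ ?_).isClosed_compl
  rw [setOf_not_primeE]
  exact (C.left.basicOpen (g.down : Γ(C.left, ⊤))).2

theorem Zc_ne_univ [IsDomain (ΓE (EU hk))] {g : ΓE (EU hk)} (hg : g ≠ 0) : Zc hk g ≠ Set.univ := by
  obtain ⟨p, hp, hgp⟩ : ∃ p : Ideal (ΓE (EU hk)), p.IsPrime ∧ g ∉ p := ⟨⊥, Ideal.isPrime_bot, hg⟩
  obtain ⟨u, hu⟩ := exists_primeE_eq (E := EU hk) p hp
  intro h
  exact (Set.eq_univ_iff_forall.1 h (Points.ofPt k u)) ⟨u, fun h' => hgp (hu ▸ h'), rfl⟩

/-- modules killed on the open by a function are supported off its nonvanishing locus -/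
theorem suppIn_Zc (g : ΓE (EU hk)) (h : ∀ x : Sec F (EU hk), g • x = 0) : SuppIn F (Zc hk g) := by
  intro E hE e he hmem
  haveI := hE
  obtain ⟨u, hu, heu⟩ := hmem
  obtain ⟨x, hx⟩ := InSupp.transfer F X.property (E := E) (E' := EU hk) (e' := u) heu.symm he
  exact hu (hx (CAlgH3.mem_annEl.2 (h x)))

/-- finite torsion modules over domains are killed by one element -/
theorem exists_smul_eq_zero {R M : Type*} [CommRing R] [IsDomain R] [AddCommGroup M] [Module R M]
    [Module.Finite R M] (h : ∀ x : M, ∃ c : R, c ≠ 0 ∧ c • x = 0) : ∃ g : R, g ≠ 0 ∧ ∀ x : M, g • x = 0 := by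
  classical
  obtain ⟨t, ht⟩ := (Module.Finite.fg_top : (⊤ : Submodule R M).FG)
  choose c hc hcx using h
  refine ⟨∏ y ∈ t, c y, Finset.prod_ne_zero_iff.2 fun y _ => hc y, fun x => ?_⟩
  have hx : x ∈ Submodule.span R (t : Set M) := by rw [ht]; trivial
  induction hx using Submodule.span_induction with
  | mem y hy => rw [← Finset.prod_erase_mul t c hy, mul_smul, hcx, smul_zero]
  | zero => rw [smul_zero]
  | add a b _ _ ha hb => rw [smul_add, ha, hb, add_zero]
  | smul r a _ ha => rw [smul_comm, ha, smul_zero]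

/-- independent sections stay independent on affine objects over the open -/
theorem indep_restrict {n : ℕ} (a : Fin n → Sec F (EU hk))
    (ha : ∀ c : Fin n → ΓE (EU hk), ∑ i, c i • a i = 0 → c = 0) {W : EtOver X.obj} [IsAff W] (p : W ⟶ EU hk)
    (z : Fin n → ΓE W) (hz : ∑ i, z i • mapSec F p (a i) = 0) : z = 0 := by
  classical
  let V : Over (EU hk) := Over.mk p
  haveI : IsAff V.left := (inferInstance : IsAff W)
  haveI : Module.Flat (ΓE (EU hk)) (ΓE V.left) := flat_ΓMap V.hom
  let L : (Fin n → ΓE (EU hk)) →ₗ[ΓE (EU hk)] Sec F (EU hk) := Fintype.linearCombination (ΓE (EU hk)) a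
  have hL : Function.Injective L := (injective_iff_map_eq_zero L).2 fun c hc =>
    ha c (by rw [← hc, Fintype.linearCombination_apply])
  let y : ΓE V.left ⊗[ΓE (EU hk)] (Fin n → ΓE (EU hk)) :=
    ∑ i, (show ΓE V.left from z i) ⊗ₜ Pi.single i 1
  have h1 : LinearMap.lTensor (ΓE V.left) L y = ∑ i, (show ΓE V.left from z i) ⊗ₜ a i := by
    rw [map_sum]
    refine Finset.sum_congr rfl fun i _ => ?_
    rw [LinearMap.lTensor_tmul, Fintype.linearCombination_apply_single, one_smul]
  have h2 : y = 0 := by
    refine (injective_iff_map_eq_zero _).1 (Module.Flat.lTensor_preserves_injective_linearMap L hL) y ?_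
    rw [h1]
    refine (isBC F (EU hk) V inferInstance).injective ?_
    rw [map_zero, map_sum]
    refine Eq.trans (Finset.sum_congr rfl fun i _ => ?_) hz
    exact bcMap_tmul F (EU hk) V (z i) (a i)
  funext j
  have h3 := congrArg (fun w => TensorProduct.piScalarRight (ΓE (EU hk)) (ΓE V.left) (ΓE V.left) (Fin n) w j) h2
  simpa [y, Pi.single_apply, Finset.sum_apply] using h3

/-- a maximal independent family in a finite module over a domain -/
theorem exists_indep_family {R M : Type*} [CommRing R] [IsDomain R] [AddCommGroup M] [Module R M]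
    [Module.Finite R M] [Nontrivial M] (htf : ∀ (r : R) (x : M), r • x = 0 → r = 0 ∨ x = 0) :
    ∃ (n : ℕ) (a : Fin n → M) (g : R), 0 < n ∧ g ≠ 0 ∧ (∀ c : Fin n → R, ∑ i, c i • a i = 0 → c = 0) ∧
      ∀ x : M, g • x ∈ Submodule.span R (Set.range a) := by
  classical
  obtain ⟨t, ht⟩ := (Module.Finite.fg_top : (⊤ : Submodule R M).FG)
  obtain ⟨s, hs, hmax⟩ := (t.powerset.filter fun s : Finset M => LinearIndepOn R id (s : Set M)).exists_max_image
    Finset.card ⟨∅, Finset.mem_filter.2 ⟨Finset.empty_mem_powerset t, by simp⟩⟩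
  obtain ⟨hst, hind⟩ := Finset.mem_filter.1 hs
  have key : ∀ y ∈ t, ∃ c : R, c ≠ 0 ∧ c • y ∈ Submodule.span R (s : Set M) := fun y hy => by
    by_cases hys : y ∈ s
    · exact ⟨1, one_ne_zero, by rw [one_smul]; exact Submodule.subset_span hys⟩
    by_contra hcon
    push_neg at hcon
    have hins : LinearIndepOn R id ((insert y s : Finset M) : Set M) := by
      rw [linearIndepOn_finset_iffₛ]
      intro f f' hff
      have e : (f y - f' y) • y + ∑ x ∈ s, (f x - f' x) • x = 0 := by
        rw [← Finset.sum_insert (f := fun x => (f x - f' x) • x) hys]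
        simp only [sub_smul, Finset.sum_sub_distrib]
        exact sub_eq_zero.2 hff
      have hy0 : f y - f' y = 0 := by
        by_contra hne
        refine hcon _ hne ?_
        rw [eq_neg_of_add_eq_zero_left e]
        exact neg_mem (sum_mem fun x hx => Submodule.smul_mem _ _ (Submodule.subset_span hx))
      have e2 : ∑ x ∈ s, f x • id x = ∑ x ∈ s, f' x • id x := by
        rw [hy0, zero_smul, zero_add] at e
        simp only [sub_smul, Finset.sum_sub_distrib, sub_eq_zero] at e
        exact e
      intro i hi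
      rcases Finset.mem_insert.1 hi with rfl | hi
      · exact sub_eq_zero.1 hy0
      · exact linearIndepOn_finset_iffₛ.1 hind f f' e2 i hi
    have := hmax (insert y s) (Finset.mem_filter.2 ⟨Finset.mem_powerset.2
      (Finset.insert_subset hy (Finset.mem_powerset.1 hst)), hins⟩)
    rw [Finset.card_insert_of_notMem hys] at this
    omega
  choose c hc hcy using key
  let g : R := ∏ y ∈ t.attach, c y.1 y.2
  have hg : g ≠ 0 := Finset.prod_ne_zero_iff.2 fun y _ => hc y.1 y.2
  have hgx : ∀ x : M, g • x ∈ Submodule.span R (s : Set M) := fun x => by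
    have hx : x ∈ Submodule.span R (t : Set M) := by rw [ht]; trivial
    induction hx using Submodule.span_induction with
    | mem y hy =>
      rw [show g = (∏ z ∈ t.attach.erase ⟨y, hy⟩, c z.1 z.2) * c y hy from
        (Finset.prod_erase_mul t.attach (fun z => c z.1 z.2) (Finset.mem_attach _ ⟨y, hy⟩)).symm, mul_smul]
      exact Submodule.smul_mem _ _ (hcy y hy)
    | zero => rw [smul_zero]; exact zero_mem _
    | add a b _ _ ha hb => rw [smul_add]; exact add_mem ha hb
    | smul r a _ ha => rw [smul_comm]; exact Submodule.smul_mem _ _ ha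
  have hspan : Submodule.span R (Set.range fun i => (s.equivFin.symm i : M)) = Submodule.span R (s : Set M) := by
    congr 1
    ext x
    exact ⟨fun ⟨i, hi⟩ => hi ▸ (s.equivFin.symm i).2, fun hx => ⟨s.equivFin ⟨x, hx⟩, by simp⟩⟩
  refine ⟨s.card, fun i => (s.equivFin.symm i : M), g, ?_, hg, fun d hd => ?_, fun x => hspan.symm ▸ hgx x⟩
  · rcases Nat.eq_zero_or_pos s.card with h0 | h0
    · obtain ⟨x, hx⟩ := exists_ne (0 : M)
      have := hgx x
      rw [Finset.card_eq_zero.1 h0, Finset.coe_empty, Submodule.span_empty, Submodule.mem_bot] at this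
      exact absurd ((htf g x this).resolve_left hg) hx
    · exact h0
  · have hli : LinearIndependent R (fun i => (s.equivFin.symm i : M)) :=
      LinearIndependent.comp (v := fun x : (s : Set M) => (x : M)) hind _ s.equivFin.symm.injective
    funext i
    exact Fintype.linearIndependent_iff.1 hli d hd i

end Groth.Agent.AlgSpLib.SerreChev
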