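import Groth.Agent.AlgSpLib.SerreChevGeneric

/-!
Chevalley's devissage step: the submodule generated by a torsion free generic section has no first cohomology.
-/

universe u

open CategoryTheory CategoryTheory.Limits AlgebraicGeometry Opposite TensorProduct
open AlgSp

noncomputable section

set_option linter.style.haveILetI false
set_option linter.unusedSectionVars false

namespace Groth.Agent.AlgSpLib.SerreChev

open Groth.Agent.AlgSpLib Groth.Agent.AlgSpLib.QCohEt Groth.Agent.AlgSpLib.SerreAff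

set_option backward.isDefEq.respectTransparency.types false
set_option backward.isDefEq.respectTransparency false

section general

variable {S : Scheme.{u}} {X : Sp S}

theorem sum_biprod {A B : ModEt X} (E : EtOver X) (x : Sec (A ⊞ B) E) :
    secMap (biprod.inl : A ⟶ A ⊞ B) E (secMap biprod.fst E x) +
      secMap (biprod.inr : B ⟶ A ⊞ B) E (secMap biprod.snd E x) = x := by
  rw [← secMap_comp, ← secMap_comp, ← secMap_add_hom]
  exact (secMap_eq (biprod.total (X := A) (Y := B)) E x).trans rfl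

theorem isQuasicoherent_biprod (A B : ModEt X) [A.IsQuasicoherent] [B.IsQuasicoherent] :
    (A ⊞ B).IsQuasicoherent :=
  isQuasicoherent_of_forall _ fun E hE W hW => by
    haveI := hE
    haveI := hW
    refine ⟨(injective_iff_map_eq_zero _).2 fun x hx => ?_, fun y => ?_⟩
    · have h0 : LinearMap.lTensor (ΓE W.left) (secMap (biprod.fst : A ⊞ B ⟶ A) E) x = 0 := by
        refine (isBC A E W inferInstance).injective ?_
        rw [← bcMap_natural, hx, map_zero, map_zero]
      have h0' : LinearMap.lTensor (ΓE W.left) (secMap (biprod.snd : A ⊞ B ⟶ B) E) x = 0 := by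
        refine (isBC B E W inferInstance).injective ?_
        rw [← bcMap_natural, hx, map_zero, map_zero]
      have h1 : LinearMap.lTensor (ΓE W.left) (secMap (biprod.inl : A ⟶ A ⊞ B) E)
            (LinearMap.lTensor (ΓE W.left) (secMap (biprod.fst : A ⊞ B ⟶ A) E) x) +
          LinearMap.lTensor (ΓE W.left) (secMap (biprod.inr : B ⟶ A ⊞ B) E)
            (LinearMap.lTensor (ΓE W.left) (secMap (biprod.snd : A ⊞ B ⟶ B) E) x) = x := by
        clear hx h0 h0'
        induction x using TensorProduct.induction_on with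
        | zero => simp only [map_zero, add_zero]
        | tmul a m => rw [LinearMap.lTensor_tmul, LinearMap.lTensor_tmul, LinearMap.lTensor_tmul,
            LinearMap.lTensor_tmul, ← TensorProduct.tmul_add, sum_biprod]
        | add x y hx hy => simp only [map_add]; rw [add_add_add_comm, hx, hy]
      rw [← h1, h0, h0', map_zero, map_zero, add_zero]
    · obtain ⟨a, ha⟩ := (isBC A E W inferInstance).surjective (secMap biprod.fst W.left y)
      obtain ⟨b, hb⟩ := (isBC B E W inferInstance).surjective (secMap biprod.snd W.left y)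
      refine ⟨LinearMap.lTensor (ΓE W.left) (secMap biprod.inl E) a +
        LinearMap.lTensor (ΓE W.left) (secMap biprod.inr E) b, ?_⟩
      rw [map_add, ← bcMap_natural, ← bcMap_natural, ha, hb, sum_biprod]

/-- modules with finite sections on locally Noetherian spaces are coherent -/
theorem fp_of_finite (hN : IsLocNoethSp X) (M : ModEt X) [M.IsQuasicoherent]
    (h : ∀ E, IsAff E → Module.Finite (ΓE E) (Sec M E)) : M.IsFinitePresentation :=
  isFinitePresentation_of_forall M (fun E hE => by haveI := hE; exact isBC M E) fun E hE => by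
    haveI := hE
    haveI := isNoetherianRing_ΓE hN E
    haveI := h E hE
    exact Module.finitePresentation_of_finite _ _

theorem span_image_span {M : ModEt X} {E W : EtOver X} (g : W ⟶ E) (s : Set (Sec M E)) :
    Submodule.span (ΓE W) (mapSec M g '' (Submodule.span (ΓE E) s : Set (Sec M E))) =
      Submodule.span (ΓE W) (mapSec M g '' s) := by
  refine le_antisymm (Submodule.span_le.2 ?_) (Submodule.span_mono (Set.image_mono Submodule.subset_span))
  rintro _ ⟨z, hz, rfl⟩
  induction hz using Submodule.span_induction with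
  | mem x hx => exact Submodule.subset_span ⟨x, hx, rfl⟩
  | zero => rw [map_zero]; exact zero_mem _
  | add x y _ _ hx hy => rw [map_add]; exact add_mem hx hy
  | smul r x _ hx => rw [mapSec_smul]; exact Submodule.smul_mem _ _ hx

/-- finite powers of a module -/
def vPow (M : ModEt X) (n : ℕ) : ModEt X := ⨁ fun _ : Fin n => M

/-- inclusion -/
def vι (M : ModEt X) {n : ℕ} (i : Fin n) : M ⟶ vPow M n := biproduct.ι (fun _ : Fin n => M) i

/-- projection -/
def vπ (M : ModEt X) {n : ℕ} (i : Fin n) : vPow M n ⟶ M := biproduct.π (fun _ : Fin n => M) i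

theorem vι_vπ_self (M : ModEt X) {n : ℕ} (i : Fin n) : vι M i ≫ vπ M i = 𝟙 M := by
  simp only [vι, vπ, biproduct.ι_π_self]

theorem vπ_vι (M : ModEt X) {n : ℕ} (i j : Fin n) (E : EtOver X) (a : Sec M E) :
    secMap (vπ M j) E (secMap (vι M i) E a) = if i = j then a else 0 := by
  split
  · next h =>
    subst h
    exact (secMap_comp _ _ E a).symm.trans ((secMap_eq (vι_vπ_self M i) E a).trans rfl)
  · next h =>
    exact (secMap_comp _ _ E a).symm.trans
      ((secMap_eq (biproduct.ι_π_ne (fun _ : Fin n => M) h) E a).trans (secMap_zero_hom E a))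

theorem vPow_total (M : ModEt X) {n : ℕ} (E : EtOver X) (x : Sec (vPow M n) E) :
    ∑ i, secMap (vι M i) E (secMap (vπ M i) E x) = x := sum_secMap_ι_π (fun _ : Fin n => M) E x

instance isQuasicoherent_vPow (M : ModEt X) [M.IsQuasicoherent] (n : ℕ) : (vPow M n).IsQuasicoherent :=
  isQuasicoherent_biproduct _

end general

variable {S : Scheme.{u}} [QuasiSeparatedSpace ↥S] {X : AlgSp.Space S} {C : Over S} [hC : IsAffine C.left]
  {k : (yon S).obj C ⟶ X.obj} (hk : RepWith @IsOpenImmersion k) (hqs : IsQuasiSeparatedSp X.obj)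
  (hN : IsLocNoethSp X.obj) {E₀ : EtOver X.obj} [hE₀ : IsAff E₀] (hs : RepWith @Surjective E₀.obj.hom)
  {T : Over S} [hTa : IsAffine T.left] [hTi : IsIntegral T.left] {f : (yon S).obj T ⟶ X.obj} (hf : Representable f)
  (hfin : IsFiniteMor f) (hη : Points.ofPt f (genericPoint T.left) ∈ OU (k := k))
  (hmin : ∀ u : C.left, Points.ofPt k u = Points.ofPt f (genericPoint T.left) → primeE (EU hk) u = ⊥)
  [hQ : IsDomain (ΓE (EU hk))]
  (hsmall : ∀ (N : ModEt X.obj), N.IsFinitePresentation → ∀ Z, IsClosed Z → Z ≠ Set.univ → SuppIn N Z → V1 N)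

include hfin in
theorem isAffineMor_of_fin : IsAffineMor f := fun Z hZ g =>
  let ⟨W, i, fst, sq, hW, _⟩ := hfin hZ g
  ⟨W, i, fst, sq, hW⟩

include hk hsmall hN in
/-- modules torsion on the open have no first cohomology -/
theorem v1_of_torsion (N : ModEt X.obj) [N.IsFinitePresentation]
    (h : ∀ x : Sec N (EU hk), ∃ c : ΓE (EU hk), c ≠ 0 ∧ c • x = 0) : V1 N := by
  haveI := finite_sec_of_fp N (EU hk)
  obtain ⟨g, hg, hgx⟩ := exists_smul_eq_zero h
  exact hsmall N inferInstance _ (isClosed_Zc hk g) (Zc_ne_univ hk hg) (suppIn_Zc hk g hgx)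

/-- the direct image of the structure sheaf -/
abbrev AU : ModEt X.obj := (pushModEt hf).obj (unitModEt ((yon S).obj T))

/-- sections of the direct image of the structure sheaf -/
def asA (E : EtOver X.obj) : ΓE (EtOver.bcObj hf E) ≃+ Sec (AU hf) E where
  toFun x := x
  invFun x := x
  left_inv _ := rfl
  right_inv _ := rfl
  map_add' _ _ := rfl

theorem smul_asA (E : EtOver X.obj) (r : ΓE E) (x : ΓE (EtOver.bcObj hf E)) :
    r • asA hf E x = asA hf E (bcΓ hf E r * x) := rfl

theorem mapSec_asA {E W : EtOver X.obj} (q : W ⟶ E) (x : ΓE (EtOver.bcObj hf E)) :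
    mapSec (AU hf) q (asA hf E x) = asA hf W ((ΓMap (EtOver.bcMap hf q)).hom x) := rfl

/-- multiplication by a global function on the direct image -/
def mulA (b : Γ(T.left, ⊤)) : AU hf ⟶ AU hf := (pushModEt hf).map (globHom (bGlob b))

theorem secMap_mulA (b : Γ(T.left, ⊤)) (E : EtOver X.obj) (x : ΓE (EtOver.bcObj hf E)) :
    secMap (mulA hf b) E (asA hf E x) = asA hf E (x * bval hf b E) :=
  secMap_globHom (bGlob b) (EtOver.bcObj hf E) x

include hfin hN in
theorem isQuasicoherent_AU : (AU hf).IsQuasicoherent := isQuasicoherent_push hf (isAffineMor_of_fin hfin) _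

include hfin hN in
theorem isFinitePresentation_AU : (AU hf).IsFinitePresentation :=
  haveI := isQuasicoherent_AU hN hf hfin
  fp_of_finite hN (AU hf) fun E hE => by
    haveI := hE
    exact finite_bcΓ hf hfin E

include hN in
theorem isFinitePresentation_vPow (D : ModEt X.obj) [D.IsFinitePresentation] (n : ℕ) :
    (vPow D n).IsFinitePresentation :=
  fp_of_finite hN _ fun E hE => by
    haveI := hE
    haveI : Module.Finite (ΓE E) (Sec D E) := finite_sec_of_fp D E
    exact Module.Finite.of_surjective (∑ i, (secMap (vι D i) E).comp (LinearMap.proj i) :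
      (Fin n → Sec D E) →ₗ[ΓE E] Sec (vPow D n) E) fun x =>
      ⟨fun i => secMap (vπ D i) E x, by
        rw [LinearMap.coe_sum, Finset.sum_apply]
        exact vPow_total D E x⟩

include hN in
theorem isFinitePresentation_biprod (A B : ModEt X.obj) [A.IsFinitePresentation] [B.IsFinitePresentation] :
    (A ⊞ B).IsFinitePresentation :=
  haveI := isQuasicoherent_biprod A B
  fp_of_finite hN _ fun E hE => by
    haveI := hE
    haveI : Module.Finite (ΓE E) (Sec A E) := finite_sec_of_fp A E
    haveI : Module.Finite (ΓE E) (Sec B E) := finite_sec_of_fp B E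
    exact Module.Finite.of_surjective (LinearMap.coprod (secMap (biprod.inl : A ⟶ A ⊞ B) E)
      (secMap (biprod.inr : B ⟶ A ⊞ B) E)) fun x =>
      ⟨(secMap biprod.fst E x, secMap biprod.snd E x), by
        rw [LinearMap.coprod_apply]; exact sum_biprod E x⟩

omit hQ in
include hqs hN in
/-- the extension of a graph from the open -/
theorem exists_graph (A P : ModEt X.obj) [A.IsFinitePresentation] [P.IsFinitePresentation] {n : ℕ}
    (a : Fin n → Sec A (EU hk)) (e : Fin n → Sec P (EU hk)) :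
    ∃ (G : ModEt X.obj) (p1 : G ⟶ A) (p2 : G ⟶ P), G.IsFinitePresentation ∧
      (∀ i, ∃ y, secMap p1 (EU hk) y = a i ∧ secMap p2 (EU hk) y = e i) ∧
      (∀ (E : EtOver X.obj) (_ : IsAff E) (y : Sec G E), secMap p1 E y = 0 → secMap p2 E y = 0 → y = 0) ∧
      ∀ (E : EtOver X.obj) (_ : IsAff E) (y : Sec G E) (W : EtOver X.obj) (_ : IsAff W)
        (cW : Over' (OU (k := k)) W) (q : W ⟶ E), ∃ c : Fin n → ΓE W,
          mapSec A q (secMap p1 E y) = ∑ i, c i • mapSec A (toU hk cW) (a i) ∧
          mapSec P q (secMap p2 E y) = ∑ i, c i • mapSec P (toU hk cW) (e i) := by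
  haveI := isQuasicoherent_biprod A P
  haveI := isFinitePresentation_biprod hN A P
  let v : Fin n → Sec (A ⊞ P) (EU hk) := fun i =>
    secMap (biprod.inl : A ⟶ A ⊞ P) (EU hk) (a i) + secMap (biprod.inr : P ⟶ A ⊞ P) (EU hk) (e i)
  have hfst : ∀ i, secMap (biprod.fst : A ⊞ P ⟶ A) (EU hk) (v i) = a i := fun i => by
    rw [map_add, ← secMap_comp, ← secMap_comp, secMap_eq biprod.inl_fst, secMap_eq biprod.inr_fst, secMap_zero_hom,
      add_zero]
    rfl
  have hsnd : ∀ i, secMap (biprod.snd : A ⊞ P ⟶ P) (EU hk) (v i) = e i := fun i => by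
    rw [map_add, ← secMap_comp, ← secMap_comp, secMap_eq biprod.inl_snd, secMap_eq biprod.inr_snd, secMap_zero_hom,
      zero_add]
    rfl
  let G := extN hk hqs (Submodule.span (ΓE (EU hk)) (Set.range v))
  obtain ⟨hG, -⟩ := isFinitePresentation_quotient hN G
  refine ⟨G.obj, G.incl ≫ biprod.fst, G.incl ≫ biprod.snd, hG, fun i => ?_, fun E hE y h1 h2 => ?_,
    fun E hE y W hW cW q => ?_⟩
  · obtain ⟨y, hy⟩ : v i ∈ Set.range (secMap G.incl (EU hk)) := by
      rw [G.range_incl (inferInstance : IsAff (EU hk)), extN_EU]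
      exact Submodule.subset_span ⟨i, rfl⟩
    exact ⟨y, by rw [secMap_comp, hy, hfst], by rw [secMap_comp, hy, hsnd]⟩
  · refine G.injective_incl E ?_
    rw [secMap_comp] at h1 h2
    rw [map_zero, ← sum_biprod (A := A) (B := P) E (secMap G.incl E y), h1, h2, map_zero, map_zero, add_zero]
  · have h := (mem_extN hk hqs _ hE _).1 ((G.range_incl hE).subset ⟨y, rfl⟩) W hW cW q
    rw [span_image_span, ← Set.range_comp, Submodule.mem_span_range_iff_exists_fun] at h
    obtain ⟨c, hc⟩ := h
    have e1 := congrArg (secMap (biprod.fst : A ⊞ P ⟶ A) W) hc.symm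
    have e2 := congrArg (secMap (biprod.snd : A ⊞ P ⟶ P) W) hc.symm
    rw [← mapSec_secMap, ← secMap_comp] at e1 e2
    refine ⟨c, e1.trans ?_, e2.trans ?_⟩
    · rw [map_sum]
      refine Finset.sum_congr rfl fun i _ => ?_
      rw [map_smul, Function.comp_apply, ← mapSec_secMap, hfst]
    · rw [map_sum]
      refine Finset.sum_congr rfl fun i _ => ?_
      rw [map_smul, Function.comp_apply, ← mapSec_secMap, hsnd]

/-- a power of a function vanishing on the support maps into the image -/
theorem exists_pow_killed (g : ΓE (EU hk)) {G : ModEt X.obj} (p1 : G ⟶ AU hf)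
    (hC1 : SuppIn (cokernel p1) (Zc hk g)) [(cokernel p1).IsFinitePresentation] [IsAff (EtOver.bcObj hf E₀)]
    (b : Γ(T.left, ⊤)) (hbK : ∀ t ∈ T.left.basicOpen b, Points.ofPt f t ∉ Zc hk g) :
    ∃ N : ℕ, ∀ x : ΓE (EtOver.bcObj hf E₀),
      secMap (cokernel.π p1) E₀ (asA hf E₀ (x * bval hf (b ^ N) E₀)) = 0 := by
  classical
  let ψ₀ := bcΓ hf E₀
  let I : Ideal (ΓE E₀) := Module.annihilator (ΓE E₀) (Sec (cokernel p1) E₀)
  haveI : Module.Finite (ΓE E₀) (Sec (cokernel p1) E₀) := finite_sec_of_fp _ E₀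
  let J : Ideal (ΓE (EtOver.bcObj hf E₀)) :=
    { carrier := {w | ∀ x : ΓE (EtOver.bcObj hf E₀), secMap (cokernel.π p1) E₀ (asA hf E₀ (w * x)) = 0}
      add_mem' := fun {w w'} hw hw' x => by rw [add_mul, map_add, map_add, hw x, hw' x, add_zero]
      zero_mem' := fun x => by rw [zero_mul, map_zero, map_zero]
      smul_mem' := fun c w hw x => by
        rw [smul_eq_mul, mul_comm c w, mul_assoc]
        exact hw (c * x) }
  have hIJ : I.map ψ₀ ≤ J := Ideal.map_le_iff_le_comap.2 fun r hr x => by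
    show secMap (cokernel.π p1) E₀ (asA hf E₀ (ψ₀ r * x)) = 0
    rw [← smul_asA, map_smul]
    exact Module.mem_annihilator.1 hr _
  suffices hrad : bval hf b E₀ ∈ (I.map ψ₀).radical by
    obtain ⟨N, hN'⟩ := hrad
    exact ⟨N, fun x => by rw [mul_comm, bval_pow]; exact hIJ hN' x⟩
  rw [Ideal.radical_eq_sInf, Ideal.mem_sInf]
  rintro q ⟨hq, hqp⟩
  obtain ⟨e, rfl⟩ := exists_primeE_eq (E := EtOver.bcObj hf E₀) q hqp
  let e0 : E₀.obj.left.left := (EtOver.bcπ hf E₀).left e
  have hI : I ≤ primeE E₀ e0 := fun r hr => by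
    by_contra hr'
    have h3 : ψ₀ r ∈ primeE (EtOver.bcObj hf E₀) e := hq (Ideal.mem_map_of_mem _ hr)
    have h4 : e ∈ (EtOver.bcObj hf E₀).obj.left.left.basicOpen (ψ₀ r).down := by
      have h5 : (EtOver.bcπ hf E₀).left ⁻¹ᵁ E₀.obj.left.left.basicOpen r.down =
          (EtOver.bcObj hf E₀).obj.left.left.basicOpen (ψ₀ r).down :=
        Scheme.preimage_basicOpen_top (EtOver.bcπ hf E₀).left r.down
      rw [← h5]
      exact (mem_basicOpen_iff E₀ r e0).2 hr'
    exact (mem_basicOpen_iff _ (ψ₀ r) e).1 h4 h3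
  have hsupp : InSupp (cokernel p1) E₀ e0 := by
    by_contra hns
    obtain ⟨t, ht⟩ := (Module.Finite.fg_top : (⊤ : Submodule (ΓE E₀) (Sec (cokernel p1) E₀)).FG)
    choose r hr hrp using fun s : Sec (cokernel p1) E₀ => SetLike.not_le_iff_exists.1 fun h => hns ⟨s, h⟩
    have hprod : (∏ s ∈ t, r s) ∈ I := Module.mem_annihilator.2 fun x => by
      have hx : x ∈ Submodule.span (ΓE E₀) (t : Set (Sec (cokernel p1) E₀)) := by rw [ht]; trivial
      induction hx using Submodule.span_induction with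
      | mem y hy => rw [← Finset.prod_erase_mul t r hy, mul_smul, CAlgH3.mem_annEl.1 (hr y), smul_zero]
      | zero => rw [smul_zero]
      | add a b _ _ ha hb => rw [smul_add, ha, hb, add_zero]
      | smul c a _ ha => rw [smul_comm, ha, smul_zero]
    obtain ⟨s, -, hs'⟩ := ((inferInstance : (primeE E₀ e0).IsPrime).prod_mem_iff).1 (hI hprod)
    exact hrp s hs'
  have hZ : Points.ofPt f ((toT0 (EtOver.bcObj hf E₀)).hom.left.left e) ∈ Zc hk g := by
    rw [ofPt_bc hf E₀ e]
    exact hC1 E₀ inferInstance e0 hsupp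
  by_contra hne
  have ht : (toT0 (EtOver.bcObj hf E₀)).hom.left.left e ∈ T.left.basicOpen b := by
    refine (mem_basicOpen_iff (T0 T) (ULift.up b) _).2 fun h' => hne ?_
    show (ΓMap (toT0 (EtOver.bcObj hf E₀))).hom (ULift.up b : ΓE (T0 T)) ∈ primeE _ e
    rw [← Ideal.mem_comap, primeE_comap]
    exact h'
  exact hbK _ ht hZ

include hk hf hfin hη hmin in
/-- a rational basis of the generic fibre -/
theorem exists_fibre_basis : ∃ (n : ℕ) (a : Fin n → ΓE (EtOver.bcObj hf (EU hk))) (g : ΓE (EU hk)),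
    0 < n ∧ g ≠ 0 ∧ (∀ c : Fin n → ΓE (EU hk), ∑ i, c i • asA hf (EU hk) (a i) = 0 → c = 0) ∧
      ∀ z : Sec (AU hf) (EU hk), ∃ c : Fin n → ΓE (EU hk), ∑ i, c i • asA hf (EU hk) (a i) = g • z := by
  haveI : IsAff (EtOver.bcObj hf (EU hk)) := isAff_bcObj hf (isAffineMor_of_fin hfin) (EU hk)
  haveI := isDomain_bcEU hk hf hη
  have hφ : Function.Injective (bcΓ hf (EU hk)) := injective_bcΓ_EU hk hf hη hmin
  haveI : Module.Finite (ΓE (EU hk)) (Sec (AU hf) (EU hk)) := finite_bcΓ hf hfin (EU hk)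
  haveI : Nontrivial (Sec (AU hf) (EU hk)) := (asA hf (EU hk)).symm.toEquiv.nontrivial
  obtain ⟨n, a, g, hn, hg, hind, hspan⟩ := exists_indep_family (R := ΓE (EU hk)) (M := Sec (AU hf) (EU hk))
    fun r x h => by
    obtain ⟨y, rfl⟩ := (asA hf (EU hk)).surjective x
    rw [smul_asA, AddEquiv.map_eq_zero_iff, mul_eq_zero] at h
    exact h.imp (fun h1 => hφ (h1.trans (map_zero _).symm)) fun h1 => by rw [h1, map_zero]
  refine ⟨n, fun i => (asA hf (EU hk)).symm (a i), g, hn, hg, fun c hc => hind c ?_, fun z => ?_⟩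
  · simpa only [AddEquiv.apply_symm_apply] using hc
  · obtain ⟨c, hc⟩ := (Submodule.mem_span_range_iff_exists_fun _).1 (hspan z)
    exact ⟨c, by simpa only [AddEquiv.apply_symm_apply] using hc⟩

theorem vπ_sum (D : ModEt X.obj) {n : ℕ} (E : EtOver X.obj) (c : Fin n → ΓE E) (m : Sec D E) (j : Fin n) :
    secMap (vπ D j) E (∑ i, c i • secMap (vι D i) E m) = c j • m := by
  rw [map_sum, Finset.sum_eq_single j]
  · rw [map_smul, vπ_vι, if_pos rfl]
  · intro i _ hi
    rw [map_smul, vπ_vι, if_neg hi, smul_zero]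
  · intro h
    exact absurd (Finset.mem_univ j) h

include hk hqs hN hs hf hfin hη hmin hsmall in
/-- the rank one torsion free case -/
theorem v1_rankOne (D : ModEt X.obj) [D.IsFinitePresentation] (m : Sec D (EU hk))
    (hgen : ∀ y : Sec D (EU hk), ∃ c : ΓE (EU hk), c • m = y)
    (hann : ∀ c : ΓE (EU hk), c • m = 0 → c = 0)
    (htf : ∀ (E : EtOver X.obj) (_ : IsAff E) (x : Sec D E),
      (∀ (W : EtOver X.obj) (_ : IsAff W) (_ : Over' (OU (k := k)) W) (g : W ⟶ E), mapSec D g x = 0) → x = 0) :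
    V1 D := by
  classical
  have haff := isAffineMor_of_fin hfin
  have hOo : IsOpen (OU (k := k)) := by
    rw [OU, Induct.range_map_yon]
    exact (isOpenMap_ofPt k (EU hk).property).isOpen_range
  haveI := isQuasicoherent_AU hN hf hfin
  haveI := isFinitePresentation_AU hN hf hfin
  obtain ⟨n, a, g, hn, hg, hindA, hspan⟩ := exists_fibre_basis hk hf hfin hη hmin
  haveI := isFinitePresentation_vPow hN D n
  let em : Fin n → Sec (vPow D n) (EU hk) := fun i => secMap (vι D i) (EU hk) m
  have hindP : ∀ c : Fin n → ΓE (EU hk), ∑ i, c i • em i = 0 → c = 0 := fun c hc => funext fun j =>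
    hann _ ((vπ_sum D (EU hk) c m j).symm.trans ((congrArg _ hc).trans (map_zero _)))
  obtain ⟨G, p1, p2, hG, hlift, hjoint, hmem⟩ :=
    exists_graph hk hqs hN (AU hf) (vPow D n) (fun i => asA hf (EU hk) (a i)) em
  haveI := hG
  choose vh hvh1 hvh2 using hlift
  have hp1 : ∀ E, IsAff E → Function.Injective (secMap p1 E) := fun E hE =>
    (injective_iff_map_eq_zero _).2 fun y hy => by
      haveI := hE
      refine hjoint E hE y hy ?_
      rw [← vPow_total D E (secMap p2 E y)]
      refine Finset.sum_eq_zero fun j _ => ?_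
      rw [htf E hE (secMap (vπ D j) E (secMap p2 E y)) fun W hW cW q => ?_, map_zero]
      haveI := hW
      obtain ⟨c, hc1, hc2⟩ := hmem E hE y W hW cW q
      rw [hy, map_zero] at hc1
      have hc0 := indep_restrict hk _ hindA (toU hk cW) c hc1.symm
      rw [mapSec_secMap, hc2, hc0]
      simp only [Pi.zero_apply, zero_smul, Finset.sum_const_zero, map_zero]
  haveI : Mono p1 := mono_of_injective p1 hp1
  haveI : (cokernel p1).IsFinitePresentation := isFinitePresentation_cokernel p1
  have hC1 : SuppIn (cokernel p1) (Zc hk g) := suppIn_Zc hk g fun x => by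
    obtain ⟨z, rfl⟩ := surjective_cokernel_π p1 (EU hk) x
    obtain ⟨c, hc⟩ := hspan z
    have e : g • z = secMap p1 (EU hk) (∑ i, c i • vh i) := by
      rw [map_sum, ← hc]
      exact Finset.sum_congr rfl fun i _ => by rw [map_smul, hvh1]
    rw [← map_smul, e]
    exact secMap_comp_zero (cokernel.condition p1) (EU hk) _
  have hηK : Points.ofPt f (genericPoint T.left) ∉ Zc hk g := by
    obtain ⟨u, hu⟩ : Points.ofPt f (genericPoint T.left) ∈ Set.range (Points.ofPt k) := by
      rw [← Induct.range_map_yon]; exact hη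
    refine fun h => h ⟨u, ?_, hu⟩
    show g ∉ primeE (EU hk) u
    rw [hmin u hu, Ideal.mem_bot]
    exact hg
  obtain ⟨b, hbK, hbη⟩ := (isAffineOpen_top T.left).exists_basicOpen_le
    (V := ⟨(Points.ofPt f ⁻¹' Zc hk g)ᶜ, ((isClosed_Zc hk g).preimage (Points.continuous_ofPt f)).isOpen_compl⟩)
    ⟨genericPoint T.left, hηK⟩ trivial
  have hb : b ≠ 0 := fun h => by
    rw [h, Scheme.basicOpen_zero] at hbη
    exact hbη
  haveI : IsAff (EtOver.bcObj hf E₀) := isAff_bcObj hf haff E₀
  obtain ⟨N, hN'⟩ := exists_pow_killed hk hf g p1 hC1 (E₀ := E₀) b fun t ht => hbK ht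
  have hbN : b ^ N ≠ 0 := pow_ne_zero _ hb
  have hν0 : mulA hf (b ^ N) ≫ cokernel.π p1 = 0 := eq_zero_of_chart X.property _ hs fun x => by
    obtain ⟨x, rfl⟩ := (asA hf E₀).surjective x
    rw [secMap_comp, secMap_mulA]
    exact hN' x
  let l : AU hf ⟶ G := Abelian.monoLift p1 _ hν0
  have hl : l ≫ p1 = mulA hf (b ^ N) := Abelian.monoLift_comp p1 _ hν0
  let ψ : AU hf ⟶ vPow D n := l ≫ p2
  haveI : Mono ψ := mono_of_injective ψ fun E hE => (injective_iff_map_eq_zero _).2 fun x hx => by
    haveI := hE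
    obtain ⟨x, rfl⟩ := (asA hf E).surjective x
    refine (AddEquiv.map_eq_zero_iff _).2 (eq_zero_of_mul hf hη hE (b ^ N) hbN x (fun W hW cW q => ?_) hOo)
    haveI := hW
    obtain ⟨c, hc1, hc2⟩ := hmem E hE (secMap l E (asA hf E x)) W hW cW q
    rw [← secMap_comp l p2, hx, map_zero] at hc2
    have hc0 := indep_restrict hk _ hindP (toU hk cW) c hc2.symm
    rw [← secMap_comp l p1, secMap_eq hl, secMap_mulA, mapSec_asA, hc0] at hc1
    rw [mul_comm]
    refine (AddEquiv.map_eq_zero_iff (asA hf W)).1 (hc1.trans ?_)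
    simp only [Pi.zero_apply, zero_smul, Finset.sum_const_zero]
  haveI : (cokernel ψ).IsFinitePresentation := isFinitePresentation_cokernel ψ
  haveI : IsAff (EtOver.bcObj hf (EU hk)) := isAff_bcObj hf haff (EU hk)
  haveI := isDomain_bcEU hk hf hη
  obtain ⟨c, hc0, β', hβ'⟩ : ∃ c : ΓE (EU hk), c ≠ 0 ∧
      ∃ β', bcΓ hf (EU hk) c = β' * bval hf (b ^ N) (EU hk) := by
    letI : Algebra (ΓE (EU hk)) (ΓE (EtOver.bcObj hf (EU hk))) := (bcΓ hf (EU hk)).toAlgebra
    haveI : Module.Finite (ΓE (EU hk)) (ΓE (EtOver.bcObj hf (EU hk))) := finite_bcΓ hf hfin (EU hk)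
    have hne := Ideal.comap_ne_bot_of_integral_mem (R := ΓE (EU hk))
      (I := Ideal.span {bval hf (b ^ N) (EU hk)}) (bval_ne_zero hk hf hη (b ^ N) hbN)
      (Ideal.mem_span_singleton_self _) (Algebra.IsIntegral.isIntegral _)
    obtain ⟨c, hc, hc0⟩ := Submodule.exists_mem_ne_zero_of_ne_bot hne
    obtain ⟨β', hβ'⟩ := Ideal.mem_span_singleton'.1 (Ideal.mem_comap.1 hc)
    exact ⟨c, hc0, β', hβ'.symm⟩
  have hrange : ∀ i, c • em i ∈ LinearMap.range (secMap ψ (EU hk)) := fun i => by
    refine ⟨asA hf (EU hk) (β' * a i), ?_⟩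
    have e1 : secMap p1 (EU hk) (secMap l (EU hk) (asA hf (EU hk) (β' * a i))) =
        secMap p1 (EU hk) (c • vh i) := by
      rw [← secMap_comp, secMap_eq hl, secMap_mulA, map_smul, hvh1, smul_asA, hβ', mul_right_comm]
    show secMap p2 (EU hk) (secMap l (EU hk) _) = _
    rw [hp1 (EU hk) inferInstance e1, map_smul, hvh2]
  have hV : V1 (vPow D n) := v1_of_mono ψ (v1_push X.property hf haff _) (hsmall _ inferInstance _ (isClosed_Zc hk c)
    (Zc_ne_univ hk hc0) (suppIn_Zc hk c fun x => by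
      obtain ⟨y, rfl⟩ := surjective_cokernel_π ψ (EU hk) x
      obtain ⟨z, hz⟩ : c • y ∈ LinearMap.range (secMap ψ (EU hk)) := by
        rw [← vPow_total D (EU hk) y, Finset.smul_sum]
        refine sum_mem fun i _ => ?_
        obtain ⟨d, hd⟩ := hgen (secMap (vπ D i) (EU hk) y)
        rw [← hd, map_smul, smul_comm]
        exact Submodule.smul_mem _ _ (hrange i)
      rw [← map_smul, ← hz]
      exact secMap_comp_zero (cokernel.condition ψ) (EU hk) z))
  exact v1_retract (vι D ⟨0, hn⟩) (vπ D ⟨0, hn⟩) (vι_vπ_self D ⟨0, hn⟩) hV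

include hk hqs hN hs hf hfin hη hmin hsmall in
/-- the submodule generated by a torsion free generic section has no first cohomology -/
theorem exists_v1_sub (M : ModEt X.obj) [M.IsFinitePresentation] (m : Sec M (EU hk))
    (hann : ∀ c : ΓE (EU hk), c • m = 0 → c = 0) :
    ∃ Q : QSub M, V1 Q.obj ∧ m ∈ Q.P (EU hk) inferInstance := by
  let Q := extN hk hqs (Submodule.span (ΓE (EU hk)) {m})
  have hm : m ∈ Q.P (EU hk) inferInstance := by rw [extN_EU]; exact Submodule.subset_span rfl
  refine ⟨Q, ?_, hm⟩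
  obtain ⟨hQ, -⟩ := isFinitePresentation_quotient hN Q
  haveI := hQ
  haveI := Q.isQuasicoherent_obj
  let Q0 := extN (F := Q.obj) hk hqs ⊥
  haveI := Q0.isQuasicoherent_obj
  obtain ⟨h0, hD⟩ := isFinitePresentation_quotient hN Q0
  haveI := h0
  haveI := hD
  refine v1_of_mono Q0.incl ?_ ?_
  · refine v1_of_torsion hk hN hsmall Q0.obj fun x => ⟨1, one_ne_zero, ?_⟩
    rw [one_smul]
    refine Q0.injective_incl (EU hk) ?_
    have hx : secMap Q0.incl (EU hk) x ∈ Q0.P (EU hk) inferInstance :=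
      (Q0.range_incl (inferInstance : IsAff (EU hk))).subset ⟨x, rfl⟩
    rw [extN_EU, Submodule.mem_bot] at hx
    rw [hx, map_zero]
  obtain ⟨m', hm'⟩ : m ∈ Set.range (secMap Q.incl (EU hk)) := by
    rw [Q.range_incl (inferInstance : IsAff (EU hk))]; exact hm
  have hker : ∀ (E : EtOver X.obj) (hE : IsAff E) (x : Sec Q.obj E),
      secMap (cokernel.π Q0.incl) E x = 0 ↔ x ∈ Q0.P E hE := fun E hE x =>
    haveI := hE
    (mem_P_iff Q0 x).symm
  refine v1_rankOne hk hqs hN hs hf hfin hη hmin hsmall _ (secMap (cokernel.π Q0.incl) (EU hk) m') (fun y => ?_)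
    (fun c hc => ?_) fun E hE x hx => ?_
  · obtain ⟨z, rfl⟩ := surjective_cokernel_π Q0.incl (EU hk) y
    have hz : secMap Q.incl (EU hk) z ∈ Q.P (EU hk) inferInstance :=
      (Q.range_incl (inferInstance : IsAff (EU hk))).subset ⟨z, rfl⟩
    rw [extN_EU] at hz
    obtain ⟨c, hc⟩ := Submodule.mem_span_singleton.1 hz
    refine ⟨c, ?_⟩
    rw [← map_smul]
    congr 1
    refine Q.injective_incl (EU hk) ?_
    rw [map_smul, hm']
    exact hc
  · rw [← map_smul, hker (EU hk) inferInstance, extN_EU, Submodule.mem_bot] at hc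
    refine hann c ?_
    rw [← hm', ← map_smul, hc, map_zero]
  · haveI := hE
    obtain ⟨y, rfl⟩ := surjective_cokernel_π Q0.incl E x
    rw [hker E hE, mem_extN_bot hk hqs]
    intro W hW cW q
    haveI := hW
    have h2 : secMap (cokernel.π Q0.incl) W (mapSec Q.obj q y) = 0 := by
      rw [← mapSec_secMap]
      exact hx W hW cW q
    have h3 := (mem_extN_bot hk hqs hW _).1 ((hker W hW _).1 h2) W hW cW (𝟙 W)
    rwa [mapSec_id] at h3

end Groth.Agent.AlgSpLib.SerreChev
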