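import Groth.Agent.CAlgH.PicGenericFibre
import Groth.Agent.CAlgH.RegularFieldExt
import Groth.Agent.CAlgH.RegularSmooth
import Groth.Agent.PruferLib.SmoothGeneric
import Groth.Agent.AlgGrpLib.LocFactorial
import Groth.Agent.S1351
import Groth.Agent.S0406
import Groth.Agent.FlatMorVal.Reduced

/-!
# Closures of invertible ideals in smooth algebras over valuation rings
-/

set_option autoImplicit false
set_option backward.isDefEq.respectTransparency false
set_option linter.style.haveILetI false

universe u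

open TensorProduct IsLocalRing

namespace Groth.Agent.AlgSpLib

open Groth.Agent.AlgGrpLib.LocFactorial

attribute [local instance] Algebra.TensorProduct.rightAlgebra

theorem subsingleton_pic_of_equiv {B S : Type u} [CommRing B] [CommRing S] (e : B ≃+* S)
    [Subsingleton (CommRing.Pic B)] : Subsingleton (CommRing.Pic S) := by
  refine Function.Surjective.subsingleton (f := CommRing.Pic.mapRingHom (e : B →+* S)) fun M => ?_
  refine ⟨CommRing.Pic.mapRingHom (e.symm : S →+* B) M, ?_⟩
  rw [CommRing.Pic.mapRingHom_mapRingHom, RingEquiv.comp_symm, CommRing.Pic.mapRingHom_id_apply]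

/-- in a local ring of a smooth algebra over a valuation ring, invertible ideals of the generic fibre
contract to principal ideals -/
theorem exists_generator_comap {V A A' S : Type u} [CommRing V] [IsDomain V] [ValuationRing V]
    [CommRing A] [Algebra V A] [Algebra.Smooth V A] (q : Ideal A) [q.IsPrime]
    [CommRing A'] [IsLocalRing A'] [Algebra A A'] [Algebra V A'] [IsScalarTower V A A']
    [IsLocalization.AtPrime A' q] [IsLocalHom (algebraMap V A')]
    [CommRing S] [Algebra A' S] [IsLocalization (Algebra.algebraMapSubmonoid A' (nonZeroDivisors V)) S] :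
    IsDomain A' ∧ IsDomain S ∧
      ∀ I : Ideal S, AlgGrpLib.LocFactorial.Inv I → ∃ a : A', a ≠ 0 ∧ I.comap (algebraMap A' S) = Ideal.span {a} := by
  have hflat : Module.Flat A A' := IsLocalization.flat A' q.primeCompl
  have : Module.Flat V A' := Module.Flat.trans V A A'
  have : Algebra.EssFiniteType A A' := Algebra.EssFiniteType.of_isLocalization A' q.primeCompl
  have : Algebra.EssFiniteType V A' := Algebra.EssFiniteType.comp V A A'
  let k := ResidueField V
  -- the closed fibre is regular
  have hreg : IsRegularRing (k ⊗[V] A') := by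
    have h1 : IsRegularRing (k ⊗[V] A) := Groth.Agent.CAlgH.isRegularRing_of_smooth k (k ⊗[V] A)
    let ψ : k ⊗[V] A →ₐ[k] k ⊗[V] A' := Algebra.TensorProduct.map (AlgHom.id k k) (IsScalarTower.toAlgHom V A A')
    let _ : Algebra (k ⊗[V] A) (k ⊗[V] A') := ψ.toRingHom.toAlgebra
    have : IsScalarTower k (k ⊗[V] A) (k ⊗[V] A') := .of_algebraMap_eq fun x => (ψ.commutes x).symm
    have h2 := IsLocalization.tensorProduct_tensorProduct_right (R := V) (S := k) q.primeCompl A'
      (by ext x; simp [RingHom.algebraMap_toAlgebra, ψ])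
    exact Groth.Agent.CAlgH.isRegularRing_localization (R := k ⊗[V] A)
      (q.primeCompl.map (Algebra.TensorProduct.includeRight (R := V) (A := k))) (k ⊗[V] A')
  have : IsRegularLocalRing (k ⊗[V] A') := Groth.Agent.CAlgH.PicGenericFibre.isRegularLocalRing_fibre hreg
  have hdom : IsDomain (k ⊗[V] A') := Groth.Agent.CAlgH3.isDomain_of_isRegularLocalRing _
  -- the special fibre as a prime
  let ι : A' →ₐ[V] k ⊗[V] A' := Algebra.TensorProduct.includeRight
  let P : Ideal A' := RingHom.ker ι.toRingHom
  have hP : P.IsPrime := RingHom.ker_isPrime _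
  have hmP : ∀ v ∈ maximalIdeal V, algebraMap V A' v ∈ P := fun v hv => by
    show ι (algebraMap V A' v) = 0
    rw [ι.commutes, Algebra.TensorProduct.algebraMap_apply, (show algebraMap V k v = 0 from (residue_eq_zero_iff v).2 hv),
      zero_tmul]
  have hPm : ∀ x, x ∈ P → x ∈ (maximalIdeal V • ⊤ : Submodule V A') := fun x hx => by
    refine (Submodule.Quotient.mk_eq_zero _).1 ?_
    have h0 : ((1 : V ⧸ maximalIdeal V) ⊗ₜ[V] x) = 0 := hx
    have h1 := congrArg (TensorProduct.quotTensorEquivQuotSMul A' (maximalIdeal V)) h0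
    rw [map_zero, ← map_one (Ideal.Quotient.mk (maximalIdeal V)), TensorProduct.quotTensorEquivQuotSMul_mk_tmul,
      one_smul] at h1
    exact h1
  have hmP' : ∀ x, x ∈ (maximalIdeal V • ⊤ : Submodule V A') → x ∈ P := fun x hx => by
    refine Submodule.smul_induction_on hx (fun v hv y _ => ?_) (fun x y hx hy => P.add_mem hx hy)
    rw [Algebra.smul_def]
    exact P.mul_mem_right _ (hmP v hv)
  -- multiplication by elements outside the special fibre
  have hmul : ∀ s, s ∉ P → (∀ x, s * x = 0 → x = 0) ∧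
      (∀ (v : V) (x : A'), v ≠ 0 → algebraMap V A' v * x ∈ Ideal.span {s} → x ∈ Ideal.span {s}) := by
    intro s hs
    have hu : Function.Injective (Submodule.mapQ (maximalIdeal V • ⊤ : Submodule V A')
        (maximalIdeal V • ⊤ : Submodule V A') ((LinearMap.mulLeft A' s).restrictScalars V)
        (fun n hn => Submodule.smul_top_le_comap_smul_top _ _ hn)) := by
      rw [← LinearMap.ker_eq_bot, eq_bot_iff]
      intro z hz
      obtain ⟨x, rfl⟩ := Submodule.mkQ_surjective _ z
      rw [LinearMap.mem_ker, Submodule.mkQ_apply, Submodule.mapQ_apply, Submodule.Quotient.mk_eq_zero] at hz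
      rw [Submodule.mkQ_apply, Submodule.mem_bot, Submodule.Quotient.mk_eq_zero]
      exact hPm x ((hP.mem_or_mem (hmP' _ hz)).resolve_left hs)
    obtain ⟨hi, hf⟩ := Groth.Agent.S1351.result (A := V) (B := A') (LinearMap.mulLeft A' s) hu
    refine ⟨fun x hx => hi (hx.trans (mul_zero s).symm), fun v x hv hx => ?_⟩
    obtain ⟨c, hc⟩ := Ideal.mem_span_singleton'.1 hx
    have h1 : v • Submodule.Quotient.mk (p := LinearMap.range (LinearMap.mulLeft A' s)) x = v • 0 := by
      rw [smul_zero, ← Submodule.Quotient.mk_smul, Submodule.Quotient.mk_eq_zero]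
      exact ⟨c, by rw [LinearMap.mulLeft_apply, mul_comm s c, hc, Algebra.smul_def]⟩
    obtain ⟨c', hc'⟩ := (Submodule.Quotient.mk_eq_zero _).1
      (Module.Flat.isSMulRegular_of_nonZeroDivisors (mem_nonZeroDivisors_of_ne_zero hv) h1)
    exact Ideal.mem_span_singleton'.2 ⟨c', by rw [mul_comm]; exact hc'⟩
  -- the generic point of the special fibre
  let p : Ideal A := P.comap (algebraMap A A')
  have hp : p ∈ ((maximalIdeal V).map (algebraMap V A)).minimalPrimes := by
    refine ⟨⟨Ideal.IsPrime.comap _, Ideal.map_le_iff_le_comap.2 fun v hv => ?_⟩, fun p' hp' hle => ?_⟩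
    · show algebraMap A A' (algebraMap V A v) ∈ P
      rw [← IsScalarTower.algebraMap_apply]
      exact hmP v hv
    · intro a ha
      have h1 : algebraMap A A' a ∈ (p'.map (algebraMap A A')) := by
        have h2 : P ≤ p'.map (algebraMap A A') := fun x hx => by
          refine Submodule.smul_induction_on (hPm x hx) (fun v hv y _ => ?_) (fun x y hx hy => Ideal.add_mem _ hx hy)
          rw [Algebra.smul_def, IsScalarTower.algebraMap_apply V A A']
          exact Ideal.mul_mem_right _ _ (Ideal.mem_map_of_mem _ (hp'.2 (Ideal.mem_map_of_mem _ hv)))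
        exact h2 ha
      obtain ⟨s, hs, hsa⟩ := (IsLocalization.algebraMap_mem_map_algebraMap_iff q.primeCompl A' p' a).1 h1
      have hpq : p ≤ q := fun b hb => by
        by_contra hbq
        exact hP.ne_top (Ideal.eq_top_of_isUnit_mem _ hb (IsLocalization.map_units A' (⟨b, hbq⟩ : q.primeCompl)))
      exact (hp'.1.mem_or_mem hsa).resolve_left fun h => hs (hpq (hle h))
  obtain ⟨hd, -, hinjV, -, hfac⟩ := Groth.Agent.PruferLib.SmoothGeneric.smooth_generic V A p hp
  have hpq : q.primeCompl ≤ p.primeCompl := fun b hb hbp =>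
    hP.ne_top (Ideal.eq_top_of_isUnit_mem _ hbp (IsLocalization.map_units A' (⟨b, hb⟩ : q.primeCompl)))
  let θ : A' →+* Localization.AtPrime p := IsLocalization.lift (M := q.primeCompl) (g := algebraMap A (Localization.AtPrime p))
    fun y => IsLocalization.map_units (Localization.AtPrime p) (⟨y, hpq y.2⟩ : p.primeCompl)
  have hθ : ∀ a : A, θ (algebraMap A A' a) = algebraMap A (Localization.AtPrime p) a := fun a => IsLocalization.lift_eq _ a
  have hθV : ∀ v : V, θ (algebraMap V A' v) = algebraMap V (Localization.AtPrime p) v := fun v => by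
    rw [IsScalarTower.algebraMap_apply V A A', hθ, ← IsScalarTower.algebraMap_apply]
  have hθinj : Function.Injective θ := by
    rw [injective_iff_map_eq_zero]
    intro x hx
    obtain ⟨⟨a, s⟩, has⟩ := IsLocalization.surj q.primeCompl x
    have h0 : algebraMap A (Localization.AtPrime p) a = 0 := by
      rw [← hθ, ← has, map_mul, hx, zero_mul]
    obtain ⟨t, ht⟩ := (IsLocalization.map_eq_zero_iff p.primeCompl _ a).1 h0
    refine (hmul (algebraMap A A' t) (fun h => t.2 h)).1 x ?_
    refine (IsLocalization.map_units A' s).mul_left_injective ?_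
    show algebraMap A A' t * x * algebraMap A A' s = 0 * _
    rw [mul_assoc, has, ← map_mul, ht, map_zero, zero_mul]
  have : IsDomain A' := hθinj.isDomain θ
  have hcont : ∀ x : A', x ≠ 0 → ∃ (v : V) (b : A'), v ≠ 0 ∧ b ∉ P ∧ x = algebraMap V A' v * b := by
    intro x hx
    obtain ⟨v, w, hw⟩ := hfac (θ x) fun h => hx (hθinj (h.trans (map_zero θ).symm))
    have hv : v ≠ 0 := fun h => hx (hθinj (by rw [hw, h, map_zero, zero_mul, map_zero]))
    obtain ⟨⟨c, s⟩, hcs⟩ := IsLocalization.surj p.primeCompl (w : Localization.AtPrime p)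
    dsimp only at hcs
    have hc : c ∉ p := by
      rw [← Ideal.mem_primeCompl_iff, ← IsLocalization.AtPrime.isUnit_to_map_iff (Localization.AtPrime p) p, ← hcs]
      exact w.isUnit.mul (IsLocalization.map_units _ s)
    have he : algebraMap A A' s * x = algebraMap V A' v * algebraMap A A' c := hθinj (by
      rw [map_mul, map_mul, hθ, hθ, hθV, hw, ← hcs]
      ring)
    obtain ⟨b, hb⟩ := Ideal.mem_span_singleton'.1 ((hmul (algebraMap A A' s) (fun h => s.2 h)).2 v (algebraMap A A' c) hv
      (he ▸ Ideal.mul_mem_right _ _ (Ideal.mem_span_singleton_self _)))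
    refine ⟨v, b, hv, fun hbP => hc ?_, ?_⟩
    · show algebraMap A A' c ∈ P
      rw [← hb]
      exact P.mul_mem_right _ hbP
    · refine sub_eq_zero.1 ((hmul (algebraMap A A' s) (fun h => s.2 h)).1 _ ?_)
      rw [mul_sub, he, ← hb]
      ring
  let T := Algebra.algebraMapSubmonoid A' (nonZeroDivisors V)
  have hinjV' : Function.Injective (algebraMap V A') := fun a b h => hinjV (by rw [← hθV, ← hθV, h])
  have hT : T ≤ nonZeroDivisors A' := by
    rintro _ ⟨v, hv, rfl⟩
    exact mem_nonZeroDivisors_of_ne_zero fun h => nonZeroDivisors.ne_zero hv (hinjV' (h.trans (map_zero _).symm))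
  have hS : IsDomain S := IsLocalization.isDomain_of_le_nonZeroDivisors S hT
  refine ⟨inferInstance, hS, fun I hI => ?_⟩
  -- principal generators
  have : IsLocalization T (FractionRing V ⊗[V] A') :=
    (Algebra.isLocalization_iff_isPushout (nonZeroDivisors V) (FractionRing V)).2 inferInstance
  have hsub := Groth.Agent.CAlgH.PicGenericFibre.subsingleton_pic hreg
  let e : FractionRing V ⊗[V] A' ≃+* S := (IsLocalization.algEquiv T (FractionRing V ⊗[V] A') S).toRingEquiv
  let _ : Algebra (FractionRing V ⊗[V] A') S := e.toRingHom.toAlgebra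
  have : Subsingleton (CommRing.Pic S) := (Groth.Agent.AlgSpLib.subsingleton_pic_of_equiv e)
  have : Module.Invertible S I := hI.invertible
  have : Module.Free S I := inferInstance
  obtain ⟨lin⟩ := Module.Invertible.free_iff_linearEquiv.1 this
  let φ : I := lin.symm 1
  have hφ : I = Ideal.span {(φ : S)} := by
    refine le_antisymm (fun x hx => Ideal.mem_span_singleton'.2 ⟨lin ⟨x, hx⟩, ?_⟩) ((Ideal.span_singleton_le_iff_mem _).2 φ.2)
    have h1 : lin ⟨x, hx⟩ • φ = (⟨x, hx⟩ : I) := by
      rw [← map_smul, smul_eq_mul, mul_one, LinearEquiv.symm_apply_apply]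
    exact congrArg Subtype.val h1
  obtain ⟨⟨a, t⟩, hat⟩ := IsLocalization.surj T (φ : S)
  dsimp only at hat
  have ha : a ≠ 0 := fun h => by
    rw [h, map_zero, mul_eq_zero] at hat
    refine hI.ne_bot ?_
    rw [hφ, hat.resolve_right (IsLocalization.map_units S t).ne_zero, Ideal.span_singleton_eq_bot]
  obtain ⟨v, b, hv, hb, rfl⟩ := hcont a ha
  refine ⟨b, fun h => ha (by rw [h, mul_zero]), ?_⟩
  have hvu : IsUnit (algebraMap A' S (algebraMap V A' v)) :=
    IsLocalization.map_units S (⟨_, v, mem_nonZeroDivisors_of_ne_zero hv, rfl⟩ : T)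
  have hspan : I = Ideal.span {algebraMap A' S b} := by
    rw [hφ, ← Ideal.span_singleton_mul_right_unit (IsLocalization.map_units S t) (φ : S), hat, map_mul,
      Ideal.span_singleton_mul_left_unit hvu]
  rw [hspan]
  refine le_antisymm (fun x hx => ?_) ((Ideal.span_singleton_le_iff_mem _).2 (Ideal.mem_span_singleton_self _))
  obtain ⟨c, hc⟩ := Ideal.mem_span_singleton'.1 hx
  obtain ⟨⟨c', _, w, hw, rfl⟩, hc'⟩ := IsLocalization.surj T c
  refine (hmul b hb).2 w x (nonZeroDivisors.ne_zero hw) (Ideal.mem_span_singleton'.2 ⟨c', ?_⟩)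
  refine IsLocalization.injective S hT ?_
  simp only [map_mul] at hc' ⊢
  rw [← hc', ← hc]
  ring

theorem inv_of_local {S : Type u} [CommRing S] [IsDomain S] {I : Ideal S} {a : S} (ha : a ≠ 0) (haI : a ∈ I)
    (hloc : ∀ m : Ideal S, m.IsMaximal → ∃ q ∈ I, ∃ t ∉ m, ∀ x ∈ I, t * x ∈ Ideal.span {q}) :
    AlgGrpLib.LocFactorial.Inv I := by
  let J : Ideal S :=
    { carrier := {c | ∀ x ∈ I, c * x ∈ Ideal.span {a}}
      add_mem' := fun {s t} hs ht x hx => by
        rw [add_mul]
        exact Ideal.add_mem _ (hs x hx) (ht x hx)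
      zero_mem' := fun x _ => by simp
      smul_mem' := fun c t ht x hx => by
        rw [smul_eq_mul, mul_assoc]
        exact Ideal.mul_mem_left _ c (ht x hx) }
  refine ⟨J, a, ha, le_antisymm (Ideal.mul_le.2 fun x hx c hc => by rw [mul_comm]; exact hc x hx) ?_⟩
  rw [Ideal.span_singleton_le_iff_mem]
  refine mem_of_forall_maximal fun m hm => ?_
  obtain ⟨q, hq, t, htm, hts⟩ := hloc m hm
  refine ⟨t, htm, ?_⟩
  obtain ⟨c, hc⟩ := Ideal.mem_span_singleton'.1 (hts a haI)
  rw [← hc, mul_comm c q]
  refine Ideal.mul_mem_mul hq fun x hx => ?_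
  obtain ⟨y, hy⟩ := Ideal.mem_span_singleton'.1 (hts x hx)
  have ht0 : t ≠ 0 := fun h => htm (h ▸ m.zero_mem)
  refine Ideal.mem_span_singleton'.2 ⟨y, mul_left_cancel₀ ht0 ?_⟩
  linear_combination (-y) * hc + c * hy

/-- a single power clears a finitely generated ideal into a principal one -/
theorem exists_pow_mul_mem {R : Type u} [CommRing R] {I : Ideal R} (hI : I.FG) {h q : R}
    (hx : ∀ x ∈ I, ∃ n, h ^ n * x ∈ Ideal.span {q}) : ∃ n, ∀ x ∈ I, h ^ n * x ∈ Ideal.span {q} := by
  classical
  obtain ⟨G, rfl⟩ := hI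
  choose! n hn using hx
  refine ⟨G.sup n, fun x hx => ?_⟩
  induction hx using Submodule.span_induction with
  | mem g hg =>
    rw [← Nat.sub_add_cancel (Finset.le_sup (f := n) hg), pow_add, mul_assoc]
    exact Ideal.mul_mem_left _ _ (hn g (Submodule.subset_span hg))
  | zero => simp
  | add x y _ _ hx hy => rw [mul_add]; exact Ideal.add_mem _ hx hy
  | smul r x _ hx =>
    rw [smul_eq_mul, mul_left_comm]
    exact Ideal.mul_mem_left _ _ hx

/-- the closure of an invertible ideal of the generic fibre of a smooth algebra over a valuation ring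
is locally generated by one nonzerodivisor -/
theorem exists_local_generator {R A B : Type u} [CommRing R] [IsDomain R] [ValuationRing R]
    [CommRing A] [Algebra R A] [Algebra.Smooth R A] [CommRing B] [Algebra A B]
    [IsLocalization (Algebra.algebraMapSubmonoid A (nonZeroDivisors R)) B] [IsNoetherianRing B] (J : Ideal B)
    (hJ : ∀ 𝔭 : Ideal B, 𝔭.IsPrime → ∃ q ∈ J, ∃ h ∉ 𝔭, (∀ x ∈ J, ∃ n : ℕ, h ^ n * x ∈ Ideal.span {q}) ∧
      ∀ z, q * z = 0 → ∃ n : ℕ, h ^ n * z = 0)
    (q : Ideal A) [q.IsPrime] :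
    ∃ g ∉ q, ∃ a ∈ J.comap (algebraMap A B),
      (∀ x ∈ J.comap (algebraMap A B), ∃ n : ℕ, g ^ n * x ∈ Ideal.span {a}) ∧
      ∀ z, a * z = 0 → ∃ n : ℕ, g ^ n * z = 0 := by
  classical
  let MB := Algebra.algebraMapSubmonoid A (nonZeroDivisors R)
  have hflatA : Module.Flat R A := inferInstance
  have hMB : MB ≤ nonZeroDivisors A := by
    rintro _ ⟨r, hr, rfl⟩
    rw [mem_nonZeroDivisors_iff_right]
    intro z hz
    refine Module.Flat.isSMulRegular_of_nonZeroDivisors (M := A) hr ?_
    show r • z = r • 0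
    rw [smul_zero, Algebra.smul_def, mul_comm]
    exact hz
  have hinjB : Function.Injective (algebraMap A B) := IsLocalization.injective B hMB
  -- localise the base at the image of `q`
  let 𝔭R : Ideal R := q.comap (algebraMap R A)
  let R' := Localization.AtPrime 𝔭R
  have : ValuationRing R' := Groth.Agent.FlatMorVal.valuationRing_localization R 𝔭R
  let A₁ := R' ⊗[R] A
  have : Algebra.Smooth R' A₁ := inferInstance
  let M := Algebra.algebraMapSubmonoid A 𝔭R.primeCompl
  have hloc₁ : IsLocalization M A₁ := (Algebra.isLocalization_iff_isPushout 𝔭R.primeCompl R').2 inferInstance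
  have hle : M ≤ q.primeCompl := by
    rintro _ ⟨r, hr, rfl⟩
    exact hr
  let A' := Localization.AtPrime q
  let _ : Algebra A₁ A' := IsLocalization.localizationAlgebraOfSubmonoidLe A₁ A' M q.primeCompl hle
  have : IsScalarTower A A₁ A' := IsLocalization.localization_isScalarTower_of_submonoid_le A₁ A' M q.primeCompl hle
  let _ : Algebra R' A' := ((algebraMap A₁ A').comp (algebraMap R' A₁)).toAlgebra
  have : IsScalarTower R' A₁ A' := IsScalarTower.of_algebraMap_eq (R := R') (S := A₁) (A := A') fun _ => rfl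
  have hRA' : ∀ r : R, algebraMap R' A' (algebraMap R R' r) = algebraMap A A' (algebraMap R A r) := fun r => by
    rw [IsScalarTower.algebraMap_apply R' A₁ A', ← IsScalarTower.algebraMap_apply R R' A₁,
      IsScalarTower.algebraMap_apply R A A₁, ← IsScalarTower.algebraMap_apply A A₁ A']
  let q₁ : Ideal A₁ := (maximalIdeal A').comap (algebraMap A₁ A')
  have hq₁ : IsLocalization.AtPrime A' q₁ := by
    have := IsLocalization.isLocalization_of_submonoid_le A₁ A' M q.primeCompl hle
    refine IsLocalization.isLocalization_of_is_exists_mul_mem A' (q.primeCompl.map (algebraMap A A₁)) q₁.primeCompl ?_ ?_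
    · rintro _ ⟨a, ha, rfl⟩
      show algebraMap A₁ A' (algebraMap A A₁ a) ∉ maximalIdeal A'
      rw [← IsScalarTower.algebraMap_apply]
      exact fun hm => (mem_maximalIdeal _).1 hm (IsLocalization.map_units A' (⟨a, ha⟩ : q.primeCompl))
    · rintro ⟨x, hx⟩
      obtain ⟨⟨a, s⟩, has⟩ := IsLocalization.surj M x
      refine ⟨algebraMap A A₁ s, a, ?_, by rw [mul_comm]; exact has.symm⟩
      show a ∉ q
      rw [← Ideal.mem_primeCompl_iff, ← IsLocalization.AtPrime.isUnit_to_map_iff A' q,
        IsScalarTower.algebraMap_apply A A₁ A', ← has, map_mul, IsUnit.mul_iff, ← IsScalarTower.algebraMap_apply]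
      exact ⟨IsLocalRing.notMem_maximalIdeal.1 hx, IsLocalization.map_units A' (⟨s, hle s.2⟩ : q.primeCompl)⟩
  have : IsLocalHom (algebraMap R' A') := ⟨fun v hv => by
    obtain ⟨⟨r, s⟩, hrs⟩ := IsLocalization.surj 𝔭R.primeCompl v
    refine isUnit_of_mul_isUnit_left (y := algebraMap R R' (s : R)) (hrs ▸ ?_)
    rw [IsLocalization.AtPrime.isUnit_to_map_iff R' 𝔭R, Ideal.mem_primeCompl_iff]
    show algebraMap R A r ∉ q
    rw [← Ideal.mem_primeCompl_iff, ← IsLocalization.AtPrime.isUnit_to_map_iff A' q, ← hRA', ← hrs, map_mul]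
    exact hv.mul ((IsLocalization.map_units R' s).map _)⟩
  let S := Localization (Algebra.algebraMapSubmonoid A' (nonZeroDivisors R'))
  obtain ⟨hdomA', hdomS, hgen⟩ := exists_generator_comap (V := R') (A' := A') (S := S) q₁
  let ψ : A →+* S := (algebraMap A' S).comp (algebraMap A A')
  have hunitR : ∀ r : R, r ≠ 0 → IsUnit (ψ (algebraMap R A r)) := fun r hr => by
    show IsUnit (algebraMap A' S (algebraMap A A' (algebraMap R A r)))
    rw [← hRA']
    exact IsLocalization.map_units S (⟨_, algebraMap R R' r, mem_nonZeroDivisors_of_ne_zero fun h => hr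
      ((IsLocalization.injective R' 𝔭R.primeCompl_le_nonZeroDivisors) (h.trans (map_zero _).symm)), rfl⟩ :
        Algebra.algebraMapSubmonoid A' (nonZeroDivisors R'))
  have hunitM : ∀ y : MB, IsUnit (ψ y) := by
    rintro ⟨_, r, hr, rfl⟩
    exact hunitR r (nonZeroDivisors.ne_zero hr)
  let φ : B →+* S := IsLocalization.lift hunitM
  have hφ : ∀ a, φ (algebraMap A B a) = ψ a := fun a => IsLocalization.lift_eq _ a
  have hA'S : Function.Injective (algebraMap A' S) := IsLocalization.injective S (M := Algebra.algebraMapSubmonoid A' (nonZeroDivisors R')) (by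
    rintro _ ⟨v, hv, rfl⟩
    refine mem_nonZeroDivisors_of_ne_zero fun h => ?_
    exact (IsLocalization.map_units S (⟨_, v, hv, rfl⟩ : Algebra.algebraMapSubmonoid A' (nonZeroDivisors R'))).ne_zero
      (by show algebraMap A' S (algebraMap R' A' v) = 0; rw [h, map_zero]))
  -- elements of `S` are fractions
  have hsurjS : ∀ c : S, ∃ (d : A) (r : R) (s : A), r ≠ 0 ∧ s ∉ q ∧ c * ψ (algebraMap R A r) * ψ s = ψ d := by
    intro c
    obtain ⟨⟨c', _, v, hv, rfl⟩, hc⟩ := IsLocalization.surj (Algebra.algebraMapSubmonoid A' (nonZeroDivisors R')) c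
    obtain ⟨⟨d, s⟩, hd⟩ := IsLocalization.surj q.primeCompl c'
    obtain ⟨⟨r, u⟩, hr⟩ := IsLocalization.surj 𝔭R.primeCompl v
    dsimp only at hc hd hr
    have hr0 : r ≠ 0 := fun h => by
      rw [h, map_zero] at hr
      rcases mul_eq_zero.1 hr with h0 | h0
      · exact nonZeroDivisors.ne_zero hv h0
      · exact (IsLocalization.map_units R' u).ne_zero h0
    refine ⟨d * algebraMap R A u, r, s, hr0, s.2, ?_⟩
    show c * algebraMap A' S (algebraMap A A' (algebraMap R A r)) * algebraMap A' S (algebraMap A A' s) = ψ _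
    rw [← hRA', ← hr, map_mul, map_mul, hRA', ← mul_assoc c, hc]
    show _ = algebraMap A' S (algebraMap A A' (d * algebraMap R A u))
    rw [map_mul, map_mul, ← hd, map_mul]
    ring
  -- the ideal in `S` is invertible
  obtain ⟨q₀, hq₀, h₀, hh₀, -, hz₀⟩ := hJ _ (RingHom.ker_isPrime φ)
  have hq₀0 : φ q₀ ≠ 0 := fun h => by
    obtain ⟨⟨a, m⟩, ham⟩ := IsLocalization.surj MB q₀
    dsimp only at ham
    have h1 : algebraMap A A' a = 0 := hA'S (by
      rw [map_zero]
      show ψ a = 0
      rw [← hφ, ← ham, map_mul, h, zero_mul])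
    obtain ⟨s, hs⟩ := (IsLocalization.map_eq_zero_iff q.primeCompl A' a).1 h1
    obtain ⟨n, hn⟩ := hz₀ (algebraMap A B s) ((IsLocalization.map_units B m).mul_left_injective (by
      show q₀ * algebraMap A B s * algebraMap A B m = 0 * _
      rw [zero_mul, mul_right_comm, ham, ← map_mul, mul_comm, hs, map_zero]))
    have h2 := congrArg φ hn
    rw [map_mul, map_pow, map_zero, hφ] at h2
    rcases mul_eq_zero.1 h2 with h3 | h3
    · exact hh₀ (pow_eq_zero_iff'.1 h3).1
    · exact s.2 (by_contra fun hsq => ((IsLocalization.map_units A' (⟨s, hsq⟩ : q.primeCompl)).map (algebraMap A' S)).ne_zero h3)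
  have hinv : AlgGrpLib.LocFactorial.Inv (J.map φ) := by
    refine inv_of_local hq₀0 (Ideal.mem_map_of_mem φ hq₀) fun m hm => ?_
    obtain ⟨q', hq', h, hh, hx, -⟩ := hJ (m.comap φ) (Ideal.IsPrime.comap φ)
    obtain ⟨n, hn⟩ := exists_pow_mul_mem (IsNoetherian.noetherian J) hx
    refine ⟨φ q', Ideal.mem_map_of_mem φ hq', φ h ^ n, fun h' => hh (hm.isPrime.mem_of_pow_mem n h'), fun x hx' => ?_⟩
    induction hx' using Submodule.span_induction with
    | mem x hx' =>
      obtain ⟨b, hb, rfl⟩ := hx'
      rw [← map_pow, ← map_mul, ← Set.image_singleton, ← Ideal.map_span]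
      exact Ideal.mem_map_of_mem φ (hn b hb)
    | zero => simp
    | add x y _ _ hx hy => rw [mul_add]; exact Ideal.add_mem _ hx hy
    | smul r x _ hx =>
      rw [smul_eq_mul, mul_left_comm]
      exact Ideal.mul_mem_left _ _ hx
  obtain ⟨a₁, ha₁, hcomap⟩ := hgen _ hinv
  -- elements of the extended ideal come from the closure
  have hext : ∀ y ∈ J.map φ, ∃ d ∈ J.comap (algebraMap A B), ∃ (r : R) (s : A), r ≠ 0 ∧ s ∉ q ∧
      y * ψ (algebraMap R A r) * ψ s = ψ d := by
    intro y hy
    induction hy using Submodule.span_induction with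
    | mem x hx =>
      obtain ⟨b, hb, rfl⟩ := hx
      obtain ⟨⟨a, _, r, hr, rfl⟩, hab⟩ := IsLocalization.surj MB b
      dsimp only at hab
      refine ⟨a, ?_, r, 1, nonZeroDivisors.ne_zero hr, q.one_notMem, ?_⟩
      · rw [Ideal.mem_comap, ← hab]
        exact Ideal.mul_mem_right _ _ hb
      · rw [map_one, mul_one, ← hφ, ← hφ, ← map_mul, hab]
    | zero => exact ⟨0, Ideal.zero_mem _, 1, 1, one_ne_zero, q.one_notMem, by simp⟩
    | add x y _ _ hx hy =>
      obtain ⟨d, hd, r, s, hr, hs, he⟩ := hx
      obtain ⟨d', hd', r', s', hr', hs', he'⟩ := hy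
      refine ⟨d * algebraMap R A r' * s' + d' * algebraMap R A r * s,
        Ideal.add_mem _ (Ideal.mul_mem_right _ _ (Ideal.mul_mem_right _ _ hd))
          (Ideal.mul_mem_right _ _ (Ideal.mul_mem_right _ _ hd')), r * r', s * s', mul_ne_zero hr hr',
        fun h => (‹q.IsPrime›.mem_or_mem h).elim hs hs', ?_⟩
      simp only [map_add, map_mul, ← he, ← he']
      ring
    | smul c x _ hx =>
      obtain ⟨d, hd, r, s, hr, hs, he⟩ := hx
      obtain ⟨d', r', s', hr', hs', he'⟩ := hsurjS c
      refine ⟨d' * d, Ideal.mul_mem_left _ _ hd, r * r', s * s', mul_ne_zero hr hr',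
        fun h => (‹q.IsPrime›.mem_or_mem h).elim hs hs', ?_⟩
      simp only [smul_eq_mul, map_mul, ← he, ← he']
      ring
  have hT : ∀ x : A', algebraMap A' S x ∈ J.map φ →
      ∃ (d : A) (s : A), d ∈ J.comap (algebraMap A B) ∧ s ∉ q ∧ x * algebraMap A A' s = algebraMap A A' d := by
    intro x hx
    obtain ⟨d, hd, r, s, hr, hs, he⟩ := hext _ hx
    obtain ⟨⟨a, s'⟩, has⟩ := IsLocalization.surj q.primeCompl x
    dsimp only at has
    have h1 : algebraMap A A' (a * algebraMap R A r * s) = algebraMap A A' (d * s') := hA'S (by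
      simp only [map_mul, ← has]
      linear_combination (ψ (s' : A)) * he)
    obtain ⟨c, hc⟩ := (IsLocalization.eq_iff_exists q.primeCompl A').1 h1
    refine ⟨(c : A) * a * s, (c : A) * s' * s, ?_,
      fun h => (‹q.IsPrime›.mem_or_mem h).elim (fun h => (‹q.IsPrime›.mem_or_mem h).elim c.2 s'.2) hs, ?_⟩
    · rw [Ideal.mem_comap]
      refine (J.mul_unit_mem_iff_mem (IsLocalization.map_units B (⟨_, r, mem_nonZeroDivisors_of_ne_zero hr, rfl⟩ : MB))).1 ?_
      show algebraMap A B ((c : A) * a * s) * algebraMap A B (algebraMap R A r) ∈ J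
      rw [← map_mul, show (c : A) * a * s * algebraMap R A r = (c : A) * s' * d by linear_combination hc]
      rw [map_mul]
      exact Ideal.mul_mem_left _ _ hd
    · rw [map_mul, map_mul, map_mul, map_mul, ← has]
      ring
  obtain ⟨a, s₁, haT, hs₁, ha⟩ := hT a₁ (by
    rw [← Ideal.mem_comap, hcomap]; exact Ideal.mem_span_singleton_self _)
  have hmemT : ∀ x ∈ J.comap (algebraMap A B), ∃ s ∉ q, s * x ∈ Ideal.span {a} := by
    intro x hx
    have h1 : algebraMap A A' x ∈ Ideal.span {algebraMap A A' a} := by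
      rw [← ha, Ideal.span_singleton_mul_right_unit (IsLocalization.map_units A' (⟨s₁, hs₁⟩ : q.primeCompl)), ← hcomap,
        Ideal.mem_comap]
      show ψ x ∈ _
      rw [← hφ]
      exact Ideal.mem_map_of_mem φ hx
    rw [← Set.image_singleton, ← Ideal.map_span] at h1
    exact (IsLocalization.algebraMap_mem_map_algebraMap_iff q.primeCompl A' _ x).1 h1
  -- finiteness
  have hfp : Algebra.FinitePresentation R (A ⧸ J.comap (algebraMap A B)) := by
    have : Algebra.FiniteType R (A ⧸ J.comap (algebraMap A B)) :=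
      Algebra.FiniteType.of_surjective (Ideal.Quotient.mkₐ R _) Ideal.Quotient.mk_surjective
    have : Module.Flat R (A ⧸ J.comap (algebraMap A B)) := by
      refine Module.Flat.flat_iff_torsion_eq_bot_of_isBezout.2 (Submodule.isTorsionFree_iff_torsion_eq_bot.1 ?_)
      refine Module.IsTorsionFree.of_smul_eq_zero fun r x hrx => or_iff_not_imp_left.2 fun hr => ?_
      obtain ⟨x, rfl⟩ := Ideal.Quotient.mk_surjective x
      rw [← Ideal.Quotient.mkₐ_eq_mk R, ← map_smul, Ideal.Quotient.mkₐ_eq_mk, Ideal.Quotient.eq_zero_iff_mem,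
        Ideal.mem_comap, Algebra.smul_def, map_mul] at hrx
      rw [Ideal.Quotient.eq_zero_iff_mem, Ideal.mem_comap]
      exact (J.unit_mul_mem_iff_mem (IsLocalization.map_units B (⟨_, r, mem_nonZeroDivisors_of_ne_zero hr, rfl⟩ : MB))).1 hrx
    exact Groth.Agent.S0406.result
  have hfg : (J.comap (algebraMap A B)).FG := by
    have := Algebra.FinitePresentation.ker_fG_of_surjective (Ideal.Quotient.mkₐ R (J.comap (algebraMap A B)))
      Ideal.Quotient.mk_surjective
    rwa [show RingHom.ker (Ideal.Quotient.mkₐ R (J.comap (algebraMap A B))).toRingHom = J.comap (algebraMap A B) from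
      Ideal.Quotient.mkₐ_ker R _] at this
  have hann : ∀ z : B, algebraMap A B a * z = 0 → ∃ s ∉ q, algebraMap A B s * z = 0 := by
    intro z hz
    obtain ⟨⟨w, m⟩, hwm⟩ := IsLocalization.surj MB z
    dsimp only at hwm
    have h1 : a * w = 0 := hinjB (by rw [map_mul, ← hwm, ← mul_assoc, hz, zero_mul, map_zero])
    have h2 : algebraMap A A' w = 0 := (mul_eq_zero.1 (show algebraMap A A' a * algebraMap A A' w = 0 by
      rw [← map_mul, h1, map_zero])).resolve_left (by
      rw [← ha]
      exact mul_ne_zero ha₁ (IsLocalization.map_units A' (⟨s₁, hs₁⟩ : q.primeCompl)).ne_zero)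
    obtain ⟨s, hs⟩ := (IsLocalization.map_eq_zero_iff q.primeCompl A' w).1 h2
    refine ⟨s, s.2, (IsLocalization.map_units B m).mul_left_injective ?_⟩
    show algebraMap A B s * z * algebraMap A B m = 0 * _
    rw [mul_assoc, hwm, ← map_mul, hs, map_zero, zero_mul]
  obtain ⟨G, hG⟩ := hfg
  obtain ⟨H, hH⟩ : ((Ideal.span {algebraMap A B a}).annihilator).FG := IsNoetherian.noetherian _
  choose! t ht htx using hmemT
  have hann' : ∀ z ∈ H, ∃ s ∉ q, algebraMap A B s * z = 0 := fun z hz => hann z (by
    have h : z ∈ Submodule.annihilator (Ideal.span {algebraMap A B a}) := hH ▸ Ideal.subset_span hz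
    rw [Submodule.mem_annihilator] at h
    rw [mul_comm]
    exact h _ (Ideal.mem_span_singleton_self _))
  choose! t' ht' htz using hann'
  refine ⟨(∏ x ∈ G, t x) * ∏ z ∈ H, t' z, fun hmem => ?_, a, haT, fun x hx => ⟨1, ?_⟩, fun z hz => ⟨1, ?_⟩⟩
  · rcases ‹q.IsPrime›.mem_or_mem hmem with h | h
    · obtain ⟨x, hx, hxq⟩ := Ideal.IsPrime.prod_mem_iff.1 h
      exact ht x (hG ▸ Submodule.subset_span hx) hxq
    · obtain ⟨z', hz', hzq⟩ := Ideal.IsPrime.prod_mem_iff.1 h
      exact ht' z' hz' hzq
  · rw [pow_one]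
    rw [← hG] at hx
    induction hx using Submodule.span_induction with
    | mem x hx =>
      rw [← Finset.prod_erase_mul G t hx, mul_comm (_ * t x), ← mul_assoc, mul_assoc _ (t x)]
      exact Ideal.mul_mem_left _ _ (htx x (hG ▸ Submodule.subset_span hx))
    | zero => simp
    | add x y _ _ hx hy => rw [mul_add]; exact Ideal.add_mem _ hx hy
    | smul r x _ hx =>
      rw [smul_eq_mul, mul_left_comm]
      exact Ideal.mul_mem_left _ _ hx
  · rw [pow_one]
    refine hinjB ?_
    rw [map_zero, map_mul]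
    have hzH : algebraMap A B z ∈ Ideal.span (H : Set B) := by
      rw [hH, Submodule.mem_annihilator]
      intro y hy
      obtain ⟨c, rfl⟩ := Ideal.mem_span_singleton'.1 hy
      rw [smul_eq_mul, mul_left_comm, ← map_mul, mul_comm z a, hz, map_zero, mul_zero]
    revert hzH
    generalize algebraMap A B z = w
    intro hzH
    induction hzH using Submodule.span_induction with
    | mem y hy =>
      rw [← Finset.prod_erase_mul H t' hy, map_mul, map_mul, mul_assoc, mul_assoc, htz y hy, mul_zero, mul_zero]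
    | zero => simp
    | add x y _ _ hx hy => rw [mul_add, hx, hy, add_zero]
    | smul r x _ hx => rw [smul_eq_mul, mul_left_comm, hx, mul_zero]

end Groth.Agent.AlgSpLib
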