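import Mathlib.AlgebraicGeometry.Morphisms.Smooth
import Mathlib.AlgebraicGeometry.Morphisms.ClosedImmersion
import Mathlib.RingTheory.Smooth.Basic
import Mathlib.RingTheory.Finiteness.Nilpotent
import Mathlib.RingTheory.Noetherian.Nilpotent

/-!
Lifting along thickenings (nil ideals) through smooth morphisms of schemes, Zariski locally.
-/

universe u

open CategoryTheory CategoryTheory.Limits AlgebraicGeometry

noncomputable section

namespace Groth.Agent.AlgSpLib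

/-- smooth algebras lift along surjections with nil kernel -/
theorem exists_algHom_lift_of_nil {R Q A B : Type u} [CommRing R] [CommRing Q] [CommRing A] [CommRing B]
    [Algebra R Q] [Algebra R A] [Algebra R B] [Algebra.Smooth R Q] (π : A →ₐ[R] B)
    (hπ : Function.Surjective π) (hnil : ∀ x, π x = 0 → IsNilpotent x) (g : Q →ₐ[R] B) :
    ∃ q : Q →ₐ[R] A, π.comp q = g := by
  obtain ⟨n, p, hp, hfg⟩ := (Algebra.Smooth.finitePresentation (R := R) (A := Q)).out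
  choose c hc using fun i => hπ (g (p (MvPolynomial.X i)))
  let φ : MvPolynomial (Fin n) R →ₐ[R] A := MvPolynomial.aeval c
  have hφ : π.comp φ = g.comp p := MvPolynomial.algHom_ext fun i => by simp [φ, hc]
  let J : Ideal A := (RingHom.ker p).map φ
  have hJ : J ≤ RingHom.ker π := Ideal.map_le_iff_le_comap.2 fun x hx => by
    show π (φ x) = 0
    have := congr($hφ x)
    simp only [AlgHom.comp_apply] at this
    rw [this, show p x = 0 from hx, map_zero]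
  have hJn : IsNilpotent J := by
    refine (Ideal.FG.isNilpotent_iff_le_nilradical (hfg.map _)).2 fun x hx => ?_
    exact hnil x (hJ hx)
  let g₀ : Q →ₐ[R] A ⧸ J := AlgHom.liftOfSurjective p hp ((Ideal.Quotient.mkₐ R J).comp φ)
    fun x hx => Ideal.Quotient.eq_zero_iff_mem.2 (Ideal.mem_map_of_mem _ hx)
  refine ⟨Algebra.FormallySmooth.lift J hJn g₀, AlgHom.ext fun y => ?_⟩
  obtain ⟨x, rfl⟩ := hp y
  have h1 : Ideal.Quotient.mk J (Algebra.FormallySmooth.lift J hJn g₀ (p x)) = Ideal.Quotient.mk J (φ x) := by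
    rw [Algebra.FormallySmooth.mk_lift]
    exact AlgHom.liftOfSurjective_apply _ _ _ _ _
  have h2 := hJ (Ideal.Quotient.eq.1 h1)
  rw [RingHom.mem_ker, map_sub, sub_eq_zero] at h2
  exact h2.trans congr($hφ x)

theorem exists_smooth_lift_nhd {X Y Z Z₀ : Scheme.{u}} [IsAffine Z] (h : X ⟶ Y) [Smooth h] (i : Z₀ ⟶ Z)
    [IsClosedImmersion i] [Surjective i] (m : Z₀ ⟶ X) (β : Z ⟶ Y) (w : m ≫ h = i ≫ β) (z : Z) :
    ∃ O : Z.Opens, IsAffineOpen O ∧ z ∈ O ∧ ∃ l : (O : Scheme) ⟶ X,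
      l ≫ h = O.ι ≫ β ∧ (i ∣_ O) ≫ l = (i ⁻¹ᵁ O).ι ≫ m := by
  obtain ⟨z₀, rfl⟩ := i.surjective z
  obtain ⟨W, hW, hW1, -⟩ := exists_isAffineOpen_mem_and_subset (x := β (i z₀)) (U := ⊤) trivial
  have e0 : h (m z₀) = β (i z₀) := by
    rw [← Scheme.Hom.comp_apply, w, Scheme.Hom.comp_apply]
  obtain ⟨P, hP, hP1, hP2'⟩ := exists_isAffineOpen_mem_and_subset (x := m z₀) (U := h ⁻¹ᵁ W)
    (show h (m z₀) ∈ W by rw [e0]; exact hW1)
  have hP2 : P ≤ h ⁻¹ᵁ W := hP2'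
  obtain ⟨T, hT, hTe⟩ := i.isClosedEmbedding.isInducing.isOpen_iff.1 (m ⁻¹ᵁ P).isOpen
  obtain ⟨O, hO, hO1, hO2⟩ := exists_isAffineOpen_mem_and_subset (x := i z₀)
    (U := ⟨T, hT⟩ ⊓ β ⁻¹ᵁ W) ⟨(show z₀ ∈ i ⁻¹' T by rw [hTe]; exact hP1), hW1⟩
  let O₀ := i ⁻¹ᵁ O
  have hO₀ : IsAffineOpen O₀ := hO.preimage i
  have eP : O₀ ≤ m ⁻¹ᵁ P := fun x hx => by
    have h1 : x ∈ i ⁻¹' T := (hO2 hx).1
    rwa [hTe] at h1
  have eW : O ≤ β ⁻¹ᵁ W := fun x hx => (hO2 hx).2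
  let ρ : Γ(Y, W) ⟶ Γ(Z, O) := β.appLE W O eW
  let ι : Γ(Z, O) ⟶ Γ(Z₀, O₀) := i.app O
  let μ : Γ(X, P) ⟶ Γ(Z₀, O₀) := m.appLE P O₀ eP
  let θ : Γ(Y, W) ⟶ Γ(X, P) := h.appLE W P hP2
  have hθ : θ.hom.Smooth := h.smooth_appLE hW hP hP2
  have e1 : θ ≫ μ = ρ ≫ ι := by
    simp only [θ, μ, ρ, ι, Scheme.Hom.app_eq_appLE, Scheme.Hom.appLE_comp_appLE, w]
    rfl
  have hs : Function.Surjective ι.hom := i.app_surjective O hO
  have hn : ∀ x, ι.hom x = 0 → IsNilpotent x := fun x hx => by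
    refine (Scheme.isNilpotent_iff_basicOpen_eq_bot_of_isCompact hO.isCompact x).2 ?_
    refine le_bot_iff.1 fun y hy => ?_
    obtain ⟨y₀, rfl⟩ := i.surjective y
    have h1 : y₀ ∈ i ⁻¹ᵁ Z.basicOpen x := hy
    rw [Scheme.preimage_basicOpen, show (i.app O).hom x = 0 from hx, Scheme.basicOpen_zero] at h1
    exact h1
  let := θ.hom.toAlgebra
  let := ρ.hom.toAlgebra
  let := (θ ≫ μ).hom.toAlgebra
  have : Algebra.Smooth Γ(Y, W) Γ(X, P) := hθ
  obtain ⟨q, hq⟩ := exists_algHom_lift_of_nil (R := Γ(Y, W))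
    (π := ({ ι.hom with commutes' := fun r => congr($e1 r).symm } : Γ(Z, O) →ₐ[Γ(Y, W)] Γ(Z₀, O₀))) hs hn
    ({ μ.hom with commutes' := fun r => rfl } : Γ(X, P) →ₐ[Γ(Y, W)] Γ(Z₀, O₀))
  let q' : Γ(X, P) ⟶ Γ(Z, O) := CommRingCat.ofHom q.toRingHom
  have hq1 : θ ≫ q' = ρ := CommRingCat.hom_ext q.comp_algebraMap
  have hq2 : q' ≫ ι = μ := CommRingCat.hom_ext (RingHom.ext fun x => congr($hq x))
  refine ⟨O, hO, hO1, hO.isoSpec.hom ≫ Spec.map q' ≫ hP.fromSpec, ?_, ?_⟩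
  · rw [Category.assoc, Category.assoc, ← hW.SpecMap_appLE_fromSpec h hP hP2, ← Spec.map_comp_assoc, hq1,
      hW.SpecMap_appLE_fromSpec β hO eW, ← Category.assoc, IsAffineOpen.isoSpec_hom_fromSpec]
  · have h2 : (i ∣_ O) ≫ hO.isoSpec.hom = hO₀.isoSpec.hom ≫ Spec.map ι := by
      rw [← cancel_mono hO.fromSpec, Category.assoc, Category.assoc, IsAffineOpen.isoSpec_hom_fromSpec,
        morphismRestrict_ι]
      simp only [ι, Scheme.Hom.app_eq_appLE]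
      rw [hO.SpecMap_appLE_fromSpec i hO₀, ← Category.assoc, IsAffineOpen.isoSpec_hom_fromSpec]
    rw [← Category.assoc, h2, Category.assoc, ← Spec.map_comp_assoc, hq2,
      hP.SpecMap_appLE_fromSpec m hO₀ eP, ← Category.assoc, IsAffineOpen.isoSpec_hom_fromSpec]

end Groth.Agent.AlgSpLib
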