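import Groth.Agent.AlgSpLib.FormallyLift
import Groth.Agent.AlgSpLib.SmoothLift
import Groth.Agent.AlgSpLib.Points

/-!
Smooth morphisms of algebraic spaces: lifts along thickenings exist etale locally.
-/

universe u

open CategoryTheory CategoryTheory.Limits AlgebraicGeometry
open AlgSp

noncomputable section

namespace Groth.Agent.AlgSpLib

set_option backward.isDefEq.respectTransparency.types false

variable {S : Scheme.{u}}

/-- affine etale charts of a thickening through a given point -/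
theorem exists_chart_quotient {T T' : Sp S} (hT' : IsAlgSpace T') {i : T ⟶ T'} (hi : IsThickMor i)
    (t' : Points T') :
    ∃ (A : CommRingCat.{u}) (I : Ideal A) (str : Spec A ⟶ S)
      (c : (yon S).obj (Over.mk str) ⟶ T')
      (p : (yon S).obj (Over.mk (Spec.map (CommRingCat.ofHom (Ideal.Quotient.mk I)) ≫ str)) ⟶ T)
      (v : ↥(Over.mk str).left),
      RepWith @Etale c ∧ Points.ofPt c v = t' ∧
      IsPullback p ((yon S).map (Over.homMk (Spec.map (CommRingCat.ofHom (Ideal.Quotient.mk I))) rfl :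
            Over.mk (Spec.map (CommRingCat.ofHom (Ideal.Quotient.mk I)) ≫ str) ⟶ Over.mk str)) i c := by
  obtain ⟨U, π, he, hs⟩ := hT'.atlas
  obtain ⟨u, rfl⟩ := surjective_ofPt π hs t'
  obtain ⟨O, hO, huO, -⟩ := exists_isAffineOpen_mem_and_subset (x := u) (U := ⊤) trivial
  let V1 : Over S := Over.mk (hO.fromSpec ≫ U.hom)
  let ι : V1 ⟶ U := Over.homMk hO.fromSpec
  let c := (yon S).map ι ≫ π
  have hc : RepWith @Etale c := RepWith.comp
    ((repWith_yon_map_iff @Etale ι).2 (inferInstanceAs (Etale hO.fromSpec))) he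
  have : IsClosedImmersion (hi.1.snd c).left := (hi.property_snd c).1
  obtain ⟨I, e, hee⟩ := IsClosedImmersion.Spec_iff.1 this
  let q : Γ(U.left, O) ⟶ CommRingCat.of (Γ(U.left, O) ⧸ I) := CommRingCat.ofHom (Ideal.Quotient.mk I)
  have hee' : (hi.1.snd c).left = e.hom ≫ Spec.map q := hee
  let ev : Over.mk (Spec.map q ≫ V1.hom) ⟶ hi.1.pullback c := Over.homMk e.inv (by
    show e.inv ≫ (hi.1.pullback c).hom = Spec.map q ≫ V1.hom
    rw [← Over.w (hi.1.snd c), hee']
    simp)
  have hev : IsIso ev := by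
    have : IsIso ((Over.forget S).map ev) := inferInstanceAs (IsIso e.inv)
    exact isIso_of_reflects_iso ev (Over.forget S)
  obtain ⟨v, hv⟩ : u ∈ Set.range hO.fromSpec := by rw [hO.range_fromSpec]; exact huO
  refine ⟨_, I, V1.hom, c, (yon S).map ev ≫ hi.1.fst c, v, hc, (ofPt_map ι π v).trans (congrArg _ hv), ?_⟩
  have e2 : ev ≫ hi.1.snd c = Over.homMk (Spec.map q) rfl := Over.OverMorphism.ext (by
    show e.inv ≫ (hi.1.snd c).left = Spec.map q
    rw [hee', e.inv_hom_id_assoc])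
  exact (hi.1.isPullback c).of_iso ((yon S).mapIso (asIso ev).symm) (Iso.refl _) (Iso.refl _) (Iso.refl _)
    (by simp) (by
      simp only [Functor.mapIso_hom, Iso.symm_hom, Iso.refl_hom, Category.comp_id, asIso_inv]
      rw [← Functor.map_comp]
      exact congrArg _ ((IsIso.eq_inv_comp ev).2 e2)) (by simp) (by simp)

theorem exists_smooth_lift_etale_locally {X Y T T' : Sp S} (hX : IsAlgSpace X) (hY : IsAlgSpace Y)
    (hT' : IsAlgSpace T') {f : X ⟶ Y} (hf : LocP @Smooth f) {i : T ⟶ T'} (hi : IsThickMor i)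
    (a : T ⟶ X) (b : T' ⟶ Y) (w : a ≫ f = i ≫ b) (t' : Points T') :
    ∃ (V : Over S) (e : (yon S).obj V ⟶ T') (ℓ : (yon S).obj V ⟶ X),
      RepWith @Etale e ∧ t' ∈ Set.range (Points.ofPt e) ∧ ℓ ≫ f = e ≫ b ∧
      ∀ (P : Sp S) (p₁ : P ⟶ T) (p₂ : P ⟶ (yon S).obj V),
        IsPullback p₁ p₂ i e → p₂ ≫ ℓ = p₁ ≫ a := by
  obtain ⟨A, I, str, c, p, v, hc, rfl, hP₀⟩ := exists_chart_quotient hT' hi t'
  obtain ⟨V, bY, hbe, hbs⟩ := hY.atlas
  obtain ⟨U, aX, h, hae, has, wh⟩ := exists_chart_over hX hY f bY hbe hbs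
  have hh : Smooth h.left := hf aX bY h hae hbe wh
  have hthick := RepWith.baseChange hP₀ hi
  obtain ⟨t₀, rfl⟩ := ((repWith_yon_map_iff thick _).1 hthick).2.surj v
  obtain ⟨U', g, hU', hg, ⟨u, hu⟩, U₀, g₀, j', m, hP, hm⟩ := exists_etale_nhd_factor hae has I str (p ≫ a) t₀
  have hPy := hP.map (yon S)
  have hj' : IsThickMor ((yon S).map j') := RepWith.baseChange hPy hthick
  have hbF : IsEtaleMor bY := (isEtaleMor_iff_locP etLocal_etale (IsAlgSpace.yon_obj _) hY bY).2
    (locP_of_repWith etLocal_etale (IsAlgSpace.yon_obj _) hbe)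
  obtain ⟨β', ⟨hβ1', hβ2⟩, -⟩ := existsUnique_lift_of_etale (IsAlgSpace.yon_obj V) hY (IsAlgSpace.yon_obj U₀)
    (IsAlgSpace.yon_obj U') hj' hbF (m ≫ (yon S).map h) ((yon S).map g ≫ c ≫ b) (by
      rw [Category.assoc, ← wh, ← Category.assoc, hm, Category.assoc, Category.assoc, w,
        ← Category.assoc p, hP₀.w, Category.assoc, ← Category.assoc, ← hPy.w.symm.trans rfl]
      simp only [Category.assoc])
  obtain ⟨β, rfl⟩ := (yon S).map_surjective β'
  obtain ⟨m', rfl⟩ := (yon S).map_surjective m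
  rw [← Functor.map_comp, ← Functor.map_comp] at hβ1'
  have hβ1 := congrArg (fun k : _ ⟶ V => k.left) ((yon S).map_injective hβ1')
  have hcl := (repWith_yon_map_iff thick j').1 hj'
  have : IsClosedImmersion j'.left := hcl.1
  have : Surjective j'.left := hcl.2
  obtain ⟨O, -, huO, l, hl1, hl2⟩ := exists_smooth_lift_nhd h.left j'.left m'.left β.left
    (by exact hβ1.symm) u
  let ιO := restrictOverι U' O
  let lO : restrictOver U' O ⟶ U := Over.homMk l (by
    show l ≫ U.hom = O.ι ≫ U'.hom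
    rw [← Over.w h, reassoc_of% hl1, Over.w β])
  refine ⟨restrictOver U' O, (yon S).map (ιO ≫ g) ≫ c, (yon S).map lO ≫ aX,
    RepWith.comp ((repWith_yon_map_iff @Etale _).2 ?_) hc, ⟨⟨u, huO⟩, ?_⟩, ?_, ?_⟩
  · have := hg
    show Etale (O.ι ≫ g.left)
    infer_instance
  · rw [ofPt_map]
    exact congrArg _ hu
  · rw [Category.assoc, wh, ← Category.assoc, ← Functor.map_comp, show lO ≫ h = ιO ≫ β from
      Over.OverMorphism.ext hl1, Functor.map_comp, Category.assoc, hβ2, Functor.map_comp, Category.assoc,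
      Category.assoc]
  · intro P p₁ p₂ hp
    obtain ⟨r, hr1, hr2⟩ := hP₀.exists_lift p₁ (p₂ ≫ (yon S).map (ιO ≫ g))
      (by rw [hp.w, Category.assoc])
    obtain ⟨s, hs1, hs2⟩ := hPy.exists_lift r (p₂ ≫ (yon S).map ιO)
      (by rw [hr2, Functor.map_comp, Category.assoc])
    let jO : restrictOver U₀ (j'.left ⁻¹ᵁ O) ⟶ restrictOver U' O := Over.homMk (j'.left ∣_ O) (by
      show (j'.left ∣_ O) ≫ O.ι ≫ U'.hom = (j'.left ⁻¹ᵁ O).ι ≫ U₀.hom
      rw [← Category.assoc, morphismRestrict_ι, Category.assoc, Over.w j'])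
    have sqO : IsPullback jO (restrictOverι U₀ (j'.left ⁻¹ᵁ O)) ιO j' :=
      IsPullback.of_map (Over.forget S) (Over.OverMorphism.ext (morphismRestrict_ι _ _))
        (isPullback_morphismRestrict j'.left O)
    obtain ⟨z, hz1, hz2⟩ := (sqO.map (yon S)).exists_lift p₂ s hs2.symm
    rw [← hr1, Category.assoc, ← hs1, Category.assoc, ← hm, ← hz2, ← hz1]
    simp only [Category.assoc, ← Functor.map_comp_assoc]
    rw [show jO ≫ lO = restrictOverι U₀ (j'.left ⁻¹ᵁ O) ≫ m' from Over.OverMorphism.ext hl2]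

end Groth.Agent.AlgSpLib
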