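import Groth.Agent.AlgSpLib.ThickFibre
import Groth.Agent.EGA43.AlgMisc

/-!
Flatness modulo a nilpotent ideal, on charts of algebraic spaces over a finite order thickening.
-/

universe u

open CategoryTheory CategoryTheory.Limits AlgebraicGeometry TensorProduct
open AlgSp

noncomputable section

namespace Groth.Agent.AlgSpLib

set_option backward.isDefEq.respectTransparency.types false

theorem isPushout_quotient {R T : Type u} [CommRing R] [CommRing T] (φ : R →+* T) (I : Ideal R) :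
    IsPushout (CommRingCat.ofHom φ) (CommRingCat.ofHom (Ideal.Quotient.mk I))
      (CommRingCat.ofHom (Ideal.Quotient.mk (I.map φ)))
      (CommRingCat.ofHom (Ideal.quotientMap (I.map φ) φ I.le_comap_map)) := by
  refine ⟨⟨by ext; rfl⟩, ⟨PushoutCocone.IsColimit.mk _
    (fun s => CommRingCat.ofHom (Ideal.Quotient.lift (I.map φ) s.inl.hom ?_)) ?_ ?_ ?_⟩⟩
  · intro a ha
    have : I.map φ ≤ RingHom.ker s.inl.hom := Ideal.map_le_iff_le_comap.2 fun r hr => by
      show s.inl.hom (φ r) = 0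
      have := congr($(s.condition).hom r)
      simp only [CommRingCat.hom_comp, CommRingCat.hom_ofHom, RingHom.comp_apply] at this
      rw [this, Ideal.Quotient.eq_zero_iff_mem.2 hr, map_zero]
    exact this ha
  · intro s
    ext x
    rfl
  · intro s
    refine CommRingCat.hom_ext (Ideal.Quotient.ringHom_ext (RingHom.ext fun r => ?_))
    exact congr($(s.condition).hom r)
  · intro s m h₁ _
    refine CommRingCat.hom_ext (Ideal.Quotient.ringHom_ext (RingHom.ext fun r => ?_))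
    exact congr($(h₁).hom r)

theorem flat_of_flat_mod_nilp {R T M : Type u} [CommRing R] [CommRing T] [CommRing M] (φ : R →+* T)
    (ψ : T →+* M) (I : Ideal R) (hI : IsNilpotent I) (h₁ : (ψ.comp φ).Flat)
    (h₂ : (Ideal.quotientMap (I.map (ψ.comp φ)) ψ (I := I.map φ)
      (by rw [← Ideal.map_map]; exact Ideal.le_comap_map)).Flat) : ψ.Flat := by
  algebraize [φ, ψ, ψ.comp φ]
  have : Module.Flat R M := h₁
  refine EGA43.flat_of_flat_of_flat_mod_nilpotent (A := R) (B := T) I hI M ?_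
  let J := I.map φ
  have e : (J • (⊤ : Submodule T M)) = (I.map (ψ.comp φ)).restrictScalars T := by
    rw [Ideal.smul_top_eq_map, ← Ideal.map_map]
    rfl
  let q := Ideal.quotientMap (I.map (ψ.comp φ)) ψ (I := J)
    (by rw [← Ideal.map_map]; exact Ideal.le_comap_map)
  let := q.toAlgebra
  have : Module.Flat (T ⧸ J) (M ⧸ I.map (ψ.comp φ)) := h₂
  have : IsScalarTower T (T ⧸ J) (M ⧸ I.map (ψ.comp φ)) :=
    IsScalarTower.of_algebraMap_eq' (RingHom.ext fun _ => rfl)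
  exact Module.Flat.of_linearEquiv (LinearEquiv.extendScalarsOfSurjective (S := T ⧸ J) Ideal.Quotient.mk_surjective
    (((TensorProduct.quotTensorEquivQuotSMul M J).trans (Submodule.quotEquivOfEq _ _ e)).trans
      (Submodule.Quotient.restrictScalarsEquiv T _)))

variable {S : Scheme.{u}} {X X' Y Y' B B' : Sp S}

/-- the base change of a chart along a thickening -/
theorem exists_base_change_etale {iX : X ⟶ X'} {p : X ⟶ B} {p' : X' ⟶ B'} {iB : B ⟶ B'}
    (hcX : IsPullback iX p p' iB) {U W U₀ W₀ : Over S} {a : (yon S).obj U ⟶ X'}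
    {c : (yon S).obj W ⟶ B'} {k : U ⟶ W} (ha : RepWith @Etale a) (w : a ≫ p' = (yon S).map k ≫ c)
    {jU : U₀ ⟶ U} {k₀ : U₀ ⟶ W₀} {jW : W₀ ⟶ W} (sU : IsPullback jU k₀ k jW) {c₀ : (yon S).obj W₀ ⟶ B}
    (sW : IsPullback c₀ ((yon S).map jW) iB c) :
    ∃ a₀ : (yon S).obj U₀ ⟶ X, a₀ ≫ iX = (yon S).map jU ≫ a ∧ a₀ ≫ p = (yon S).map k₀ ≫ c₀ ∧
      RepWith @Etale a₀ := by
  have sU' := sU.map (yon S)
  have big : IsPullback ((yon S).map jU) ((yon S).map k₀ ≫ c₀) (a ≫ p') iB := by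
    rw [w]
    exact sU'.paste_vert sW.flip
  let a₀ : (yon S).obj U₀ ⟶ X :=
    hcX.lift ((yon S).map jU ≫ a) ((yon S).map k₀ ≫ c₀) (by rw [Category.assoc, big.w, Category.assoc])
  have e1 : a₀ ≫ iX = (yon S).map jU ≫ a := hcX.lift_fst _ _ _
  have e2 : a₀ ≫ p = (yon S).map k₀ ≫ c₀ := hcX.lift_snd _ _ _
  have sq : IsPullback ((yon S).map jU) a₀ a iX :=
    IsPullback.of_bot (by rw [e2]; exact big) e1.symm hcX
  exact ⟨a₀, e1, e2, RepWith.baseChange sq ha⟩

/-- affine pieces of charts of the source over a finite order thickening of the base, with their reductions -/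
theorem exists_nilp_piece {iX : X ⟶ X'} {iY : Y ⟶ Y'} {iB : B ⟶ B'} {f : X ⟶ Y} {f' : X' ⟶ Y'}
    {g : Y ⟶ B} {g' : Y' ⟶ B'} (hcX : IsPullback iX (f ≫ g) (f' ≫ g') iB) (hcY : IsPullback iY g g' iB)
    (w : iX ≫ f' = f ≫ iY) (hB : IsFinThickMor iB)
    (C : Charts f' g') (u : ↥C.U.left) :
    ∃ (Ws : C.W.left.affineOpens) (Vs : C.V.left.affineOpens) (Us : C.U.left.affineOpens)
      (eV : Vs.1 ≤ C.k.left ⁻¹ᵁ Ws.1) (eU : Us.1 ≤ C.h.left ⁻¹ᵁ Vs.1) (I : Ideal Γ(C.W.left, Ws.1)),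
      u ∈ Us.1 ∧ IsNilpotent I ∧
      ∀ (P : MorphismProperty Scheme.{u}) (Q : ∀ {R S : Type u} [CommRing R] [CommRing S], (R →+* S) → Prop)
        [HasRingHomProperty P Q], LocP P f →
        Q (Ideal.quotientMap (I.map ((C.h.left.appLE Vs.1 Us.1 eU).hom.comp (C.k.left.appLE Ws.1 Vs.1 eV).hom))
          (C.h.left.appLE Vs.1 Us.1 eU).hom (I := I.map (C.k.left.appLE Ws.1 Vs.1 eV).hom)
          (by rw [← Ideal.map_map]; exact Ideal.le_comap_map)) := by
  obtain ⟨n, hi, hn⟩ := hB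
  -- affine opens around the point
  obtain ⟨Ws, hWs, hsW, -⟩ :=
    exists_isAffineOpen_mem_and_subset (x := C.k.left (C.h.left u)) (U := ⊤) trivial
  obtain ⟨Vs, hVs, hyV, eV⟩ :=
    exists_isAffineOpen_mem_and_subset (x := C.h.left u) (U := C.k.left ⁻¹ᵁ Ws) hsW
  obtain ⟨Us, hUs, hxU, eU⟩ := exists_isAffineOpen_mem_and_subset (x := u) (U := C.h.left ⁻¹ᵁ Vs) hyV
  let ψ := C.h.left.appLE Vs Us eU
  let φ := C.k.left.appLE Ws Vs eV
  let W1 : Over S := Over.mk (hWs.fromSpec ≫ C.W.hom)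
  let jw : W1 ⟶ C.W := Over.homMk hWs.fromSpec
  let c := (yon S).map jw ≫ C.c
  have hce : RepWith @Etale c := RepWith.comp ((repWith_yon_map_iff @Etale jw).2 (inferInstanceAs (Etale hWs.fromSpec))) C.c_etale
  have hW0 := hn c (hi.rep.fst c) (hi.rep.snd c) (isAffine_Spec _) hce (hi.rep.isPullback c)
  have : IsClosedImmersion (hi.rep.snd c).left := (hi.property_snd c).1
  obtain ⟨I, e, he⟩ := IsClosedImmersion.Spec_iff.1 this
  let q : Γ(C.W.left, Ws) ⟶ CommRingCat.of (Γ(C.W.left, Ws) ⧸ I) := CommRingCat.ofHom (Ideal.Quotient.mk I)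
  have hI : IsNilpotent I := by
    refine ⟨n + 1, ?_⟩
    have h0 : (hi.rep.snd c).left.ker ^ (n + 1) = ⊥ := hW0
    rw [show (hi.rep.snd c).left = e.hom ≫ Spec.map q from he, Scheme.Hom.ker_comp_of_isIso] at h0
    have : IsAffine W1.left := isAffine_Spec _
    have h1 := congr(($h0).ideal ⟨⊤, isAffineOpen_top _⟩)
    rw [Scheme.IdealSheafData.ideal_pow, Pi.pow_apply, Scheme.IdealSheafData.ideal_bot, Pi.bot_apply,
      Scheme.Hom.ker_apply] at h1
    have h2 : I.map (Scheme.ΓSpecIso Γ(C.W.left, Ws)).inv.hom ≤ RingHom.ker ((Spec.map q).app ⊤).hom := by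
      refine Ideal.map_le_iff_le_comap.2 fun r hr => ?_
      have e4 := congr($(Scheme.ΓSpecIso_inv_naturality q) r)
      simp only [CommRingCat.hom_comp, RingHom.comp_apply] at e4
      exact e4.symm.trans ((congrArg _ (show q r = 0 from Ideal.Quotient.eq_zero_iff_mem.2 hr)).trans (map_zero _))
    have h3 : (I ^ (n + 1)).map (Scheme.ΓSpecIso Γ(C.W.left, Ws)).inv.hom = ⊥ := by
      rw [Ideal.map_pow, ← le_bot_iff]
      exact (Ideal.pow_right_mono h2 _).trans h1.le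
    exact (Ideal.map_eq_bot_iff_of_injective
      (Scheme.ΓSpecIso Γ(C.W.left, Ws)).symm.commRingCatIsoToRingEquiv.injective).1 h3
  -- the restricted charts
  let U1 : Over S := Over.mk (hUs.fromSpec ≫ C.U.hom)
  let V1 : Over S := Over.mk (hVs.fromSpec ≫ C.V.hom)
  let ju : U1 ⟶ C.U := Over.homMk hUs.fromSpec
  let jv : V1 ⟶ C.V := Over.homMk hVs.fromSpec
  let a := (yon S).map ju ≫ C.a
  let b := (yon S).map jv ≫ C.b
  have hae : RepWith @Etale a := RepWith.comp ((repWith_yon_map_iff @Etale ju).2 (inferInstanceAs (Etale hUs.fromSpec))) C.a_etale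
  have hbe : RepWith @Etale b := RepWith.comp ((repWith_yon_map_iff @Etale jv).2 (inferInstanceAs (Etale hVs.fromSpec))) C.b_etale
  have eh : Spec.map ψ ≫ hVs.fromSpec = hUs.fromSpec ≫ C.h.left := hVs.SpecMap_appLE_fromSpec C.h.left hUs eU
  have ek : Spec.map φ ≫ hWs.fromSpec = hVs.fromSpec ≫ C.k.left := hWs.SpecMap_appLE_fromSpec C.k.left hVs eV
  let h : U1 ⟶ V1 := Over.homMk (Spec.map ψ) (by
    show Spec.map ψ ≫ hVs.fromSpec ≫ C.V.hom = hUs.fromSpec ≫ C.U.hom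
    rw [reassoc_of% eh, Over.w C.h])
  let k : V1 ⟶ W1 := Over.homMk (Spec.map φ) (by
    show Spec.map φ ≫ hWs.fromSpec ≫ C.W.hom = hVs.fromSpec ≫ C.V.hom
    rw [reassoc_of% ek, Over.w C.k])
  have wh : a ≫ f' = (yon S).map h ≫ b := by
    have : h ≫ jv = ju ≫ C.h := Over.OverMorphism.ext eh
    simp only [a, b, Category.assoc, C.wf, ← Functor.map_comp_assoc, this]
  have wk : b ≫ g' = (yon S).map k ≫ c := by
    have : k ≫ jw = jv ≫ C.k := Over.OverMorphism.ext ek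
    simp only [b, c, Category.assoc, C.wg, ← Functor.map_comp_assoc, this]
  -- the closed subscheme and the pullbacks
  let W0 : Over S := Over.mk (Spec.map q ≫ W1.hom)
  let jW : W0 ⟶ W1 := Over.homMk (Spec.map q)
  let ew : W0 ≅ hi.rep.pullback c := Over.isoMk e.symm (by
    show e.inv ≫ (hi.rep.pullback c).hom = Spec.map q ≫ W1.hom
    rw [← Over.w (hi.rep.snd c), show (hi.rep.snd c).left = e.hom ≫ Spec.map q from he]
    simp)
  have ew2 : ew.hom ≫ hi.rep.snd c = jW := Over.OverMorphism.ext (by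
    show e.inv ≫ (hi.rep.snd c).left = Spec.map q
    rw [show (hi.rep.snd c).left = e.hom ≫ Spec.map q from he, e.inv_hom_id_assoc])
  have sW : IsPullback ((yon S).map ew.hom ≫ hi.rep.fst c) ((yon S).map jW) iB c :=
    (hi.rep.isPullback c).of_iso ((yon S).mapIso ew.symm) (Iso.refl _) (Iso.refl _) (Iso.refl _)
      (by simp) (by simp [← Functor.map_comp, ← ew2]) (by simp) (by simp)
  let qV : Γ(C.V.left, Vs) ⟶ _ := CommRingCat.ofHom (Ideal.Quotient.mk (I.map φ.hom))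
  let φ₀ := CommRingCat.ofHom (Ideal.quotientMap (I.map φ.hom) φ.hom I.le_comap_map)
  let V0 : Over S := Over.mk (Spec.map qV ≫ V1.hom)
  let jV : V0 ⟶ V1 := Over.homMk (Spec.map qV)
  let k₀ : V0 ⟶ W0 := Over.homMk (Spec.map φ₀) (by
    show Spec.map φ₀ ≫ Spec.map q ≫ W1.hom = Spec.map qV ≫ V1.hom
    rw [← Over.w k]
    show _ = Spec.map qV ≫ Spec.map φ ≫ W1.hom
    rw [← Spec.map_comp_assoc, ← Spec.map_comp_assoc]
    rfl)
  let ω : Γ(C.W.left, Ws) →+* Γ(C.U.left, Us) := ψ.hom.comp φ.hom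
  let qU : Γ(C.U.left, Us) ⟶ _ := CommRingCat.ofHom (Ideal.Quotient.mk (I.map ω))
  let ω₀ := CommRingCat.ofHom (Ideal.quotientMap (I.map ω) ω I.le_comap_map)
  let ψ₀ := CommRingCat.ofHom (Ideal.quotientMap (I.map ω) ψ.hom (I := I.map φ.hom)
    (by rw [show ω = ψ.hom.comp φ.hom from rfl, ← Ideal.map_map]; exact Ideal.le_comap_map))
  let U0 : Over S := Over.mk (Spec.map qU ≫ U1.hom)
  let jU : U0 ⟶ U1 := Over.homMk (Spec.map qU)
  let h₀ : U0 ⟶ V0 := Over.homMk (Spec.map ψ₀) (by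
    show Spec.map ψ₀ ≫ Spec.map qV ≫ V1.hom = Spec.map qU ≫ U1.hom
    rw [← Over.w h]
    show _ = Spec.map qU ≫ Spec.map ψ ≫ V1.hom
    rw [← Spec.map_comp_assoc, ← Spec.map_comp_assoc]
    rfl)
  have sV : IsPullback jV k₀ k jW := IsPullback.of_map (Over.forget S)
    (Over.OverMorphism.ext (by
      show Spec.map qV ≫ Spec.map φ = Spec.map φ₀ ≫ Spec.map q
      rw [← Spec.map_comp, ← Spec.map_comp]; rfl))
    (isPullback_SpecMap_of_isPushout φ q qV φ₀ (isPushout_quotient φ.hom I))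
  have sU : IsPullback jU (h₀ ≫ k₀) (h ≫ k) jW := IsPullback.of_map (Over.forget S)
    (Over.OverMorphism.ext (by
      show Spec.map qU ≫ Spec.map ψ ≫ Spec.map φ = (Spec.map ψ₀ ≫ Spec.map φ₀) ≫ Spec.map q
      simp only [← Spec.map_comp]; rfl))
    (by
      show IsPullback (Spec.map qU) (Spec.map ψ₀ ≫ Spec.map φ₀) (Spec.map ψ ≫ Spec.map φ) (Spec.map q)
      have he0 : φ₀ ≫ ψ₀ = ω₀ :=
        CommRingCat.hom_ext (Ideal.Quotient.ringHom_ext (RingHom.ext fun _ => rfl))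
      rw [← Spec.map_comp, ← Spec.map_comp, he0]
      exact isPullback_SpecMap_of_isPushout (φ ≫ ψ) q qU ω₀ (isPushout_quotient ω I))
  obtain ⟨a₀, ha1, ha2, ha3⟩ := exists_base_change_etale hcX hae
    (show a ≫ f' ≫ g' = (yon S).map (h ≫ k) ≫ c by rw [reassoc_of% wh, wk, Functor.map_comp, Category.assoc])
    sU sW
  obtain ⟨b₀, hb1, hb2, hb3⟩ := exists_base_change_etale hcY hbe wk sV sW
  have w0 : a₀ ≫ f = (yon S).map h₀ ≫ b₀ := by
    have e5 : jU ≫ h = h₀ ≫ jV := Over.OverMorphism.ext (by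
      show Spec.map qU ≫ Spec.map ψ = Spec.map ψ₀ ≫ Spec.map qV
      rw [← Spec.map_comp, ← Spec.map_comp]; rfl)
    refine hcY.hom_ext ?_ ?_
    · rw [Category.assoc, ← w, reassoc_of% ha1, wh, Category.assoc, hb1, ← Functor.map_comp_assoc,
        ← Functor.map_comp_assoc, e5]
      simp only [b, Functor.map_comp, Category.assoc]
    · rw [Category.assoc, ha2, Category.assoc, hb2, Functor.map_comp, Category.assoc]
  refine ⟨⟨Ws, hWs⟩, ⟨Vs, hVs⟩, ⟨Us, hUs⟩, eV, eU, I, hxU, hI, fun P Q _ hP => ?_⟩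
  exact (HasRingHomProperty.Spec_iff (P := P)).1 (hP a₀ b₀ h₀ ha3 hb3 w0)

theorem flat_stalk_of_finThick {iX : X ⟶ X'} {iY : Y ⟶ Y'} {iB : B ⟶ B'} {f : X ⟶ Y} {f' : X' ⟶ Y'}
    {g : Y ⟶ B} {g' : Y' ⟶ B'} (hcX : IsPullback iX (f ≫ g) (f' ≫ g') iB) (hcY : IsPullback iY g g' iB)
    (w : iX ≫ f' = f ≫ iY) (hB : IsFinThickMor iB) (hflat : LocP @Flat (f' ≫ g')) (hf : LocP @Flat f)
    (C : Charts f' g') (u : ↥C.U.left) :
    (C.h.left.stalkMap u).hom.Flat ∧ (C.k.left.stalkMap (C.h.left u)).hom.Flat := by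
  have := lfp_flat_chart C hflat
  obtain ⟨⟨Ws, hWs⟩, ⟨Vs, hVs⟩, ⟨Us, hUs⟩, eV, eU, I, hxU, hI, hQ⟩ := exists_nilp_piece hcX hcY w hB C u
  let ψ := C.h.left.appLE Vs Us eU
  let φ := C.k.left.appLE Ws Vs eV
  let ω : Γ(C.W.left, Ws) →+* Γ(C.U.left, Us) := ψ.hom.comp φ.hom
  have eh : Spec.map ψ ≫ hVs.fromSpec = hUs.fromSpec ≫ C.h.left := hVs.SpecMap_appLE_fromSpec C.h.left hUs eU
  have h₂ := hQ @Flat RingHom.Flat hf
  have h₁ : ω.Flat := by
    have := HasRingHomProperty.appLE @Flat (C.h.left ≫ C.k.left) ‹_› ⟨Ws, hWs⟩ ⟨Us, hUs⟩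
      (eU.trans fun x hx => eV hx)
    rw [← Scheme.Hom.appLE_comp_appLE C.h.left C.k.left Ws Vs Us eV eU] at this
    exact this
  have hψ : ψ.hom.Flat := flat_of_flat_mod_nilp φ.hom ψ.hom I hI h₁ h₂
  have hu1 : (C.h.left.stalkMap u).hom.Flat := by
    have : Flat (Spec.map ψ) := (HasRingHomProperty.Spec_iff (P := @Flat)).2 hψ
    obtain ⟨p, hp⟩ : u ∈ Set.range hUs.fromSpec := by rw [hUs.range_fromSpec]; exact hxU
    have hf' : Flat (hUs.fromSpec ≫ C.h.left) := eh ▸ inferInstance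
    rw [← hp, ← Desc19b.flat_stalkMap_comp_iff hUs.fromSpec C.h.left p (Flat.stalkMap _ p)]
    exact Flat.stalkMap _ p
  refine ⟨hu1, ?_⟩
  have h12 : ((C.h.left ≫ C.k.left).stalkMap u).hom.Flat := Flat.stalkMap _ u
  rw [Scheme.Hom.stalkMap_comp] at h12
  let := (C.h.left.stalkMap u).hom.toAlgebra
  let := (C.k.left.stalkMap (C.h.left u)).hom.toAlgebra
  let := ((C.h.left.stalkMap u).hom.comp (C.k.left.stalkMap (C.h.left u)).hom).toAlgebra
  have : IsScalarTower (C.W.left.presheaf.stalk (C.k.left (C.h.left u)))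
      (C.V.left.presheaf.stalk (C.h.left u)) (C.U.left.presheaf.stalk u) := .of_algebraMap_eq' rfl
  have : IsLocalHom (algebraMap (C.V.left.presheaf.stalk (C.h.left u)) (C.U.left.presheaf.stalk u)) :=
    inferInstanceAs (IsLocalHom (C.h.left.stalkMap u).hom)
  have : Module.Flat (C.V.left.presheaf.stalk (C.h.left u)) (C.U.left.presheaf.stalk u) := hu1
  have : Module.Flat (C.W.left.presheaf.stalk (C.k.left (C.h.left u))) (C.U.left.presheaf.stalk u) := h12
  exact EGA43.Cons.flat_of_flat_nontrivial (U := C.U.left.presheaf.stalk u) (N := C.U.left.presheaf.stalk u)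

end Groth.Agent.AlgSpLib
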