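import Groth.Agent.AlgSpLib.LiftDescent
import Groth.Agent.AlgSpLib.FormallyLift
import Groth.Agent.AlgSpLib.SmoothLiftSpace
import Groth.Agent.AlgSpLib.RepLocal
import Groth.Agent.AlgSpLib.ThickNilp

/-!
Smooth morphisms of algebraic spaces are formally smooth: descent of lifts along an etale covering of the test
scheme.
-/

universe u

open CategoryTheory CategoryTheory.Limits AlgebraicGeometry Opposite
open AlgSp
open scoped TensorProduct

noncomputable section

namespace Groth.Agent.AlgSpLib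

set_option backward.isDefEq.respectTransparency.types false

variable {S : Scheme.{u}}

namespace SmoothFS

section
variable {A : Type u} [CommRing A] (str : Spec (CommRingCat.of A) ⟶ S)

/-- `Spec C` over `S` -/
abbrev pt (C : Type u) [CommRing C] [Algebra A C] : Over S :=
  Over.mk (Spec.map (CommRingCat.ofHom (algebraMap A C)) ≫ str)

/-- `Spec C ⟶ Spec A` over `S` -/
def toBase (C : Type u) [CommRing C] [Algebra A C] : pt str C ⟶ Over.mk str :=
  Over.homMk (Spec.map (CommRingCat.ofHom (algebraMap A C))) rfl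

/-- functoriality -/
def ptMap {C D : Type u} [CommRing C] [Algebra A C] [CommRing D] [Algebra A D] (φ : C →ₐ[A] D) :
    pt str D ⟶ pt str C :=
  Over.homMk (Spec.map (CommRingCat.ofHom (φ : C →+* D))) (by
    show Spec.map _ ≫ Spec.map _ ≫ str = Spec.map _ ≫ str
    rw [← Spec.map_comp_assoc, ← CommRingCat.ofHom_comp, φ.comp_algebraMap])

theorem ptMap_comp {C D E : Type u} [CommRing C] [Algebra A C] [CommRing D] [Algebra A D] [CommRing E]
    [Algebra A E] (φ : C →ₐ[A] D) (ψ : D →ₐ[A] E) : ptMap str ψ ≫ ptMap str φ = ptMap str (ψ.comp φ) :=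
  Over.OverMorphism.ext (Spec.map_comp _ _).symm

theorem ptMap_toBase {C D : Type u} [CommRing C] [Algebra A C] [CommRing D] [Algebra A D] (φ : C →ₐ[A] D) :
    ptMap str φ ≫ toBase str C = toBase str D := by
  refine Over.OverMorphism.ext ?_
  show Spec.map _ ≫ Spec.map _ = Spec.map _
  rw [← Spec.map_comp, ← CommRingCat.ofHom_comp, φ.comp_algebraMap]

/-- a map to an affine scheme over `S` from a ring map -/
def homOfRing {Q C : Type u} [CommRing Q] [CommRing C] [Algebra A C] (sQ : Spec (CommRingCat.of Q) ⟶ S)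
    (r : Q →+* C) (h : Spec.map (CommRingCat.ofHom r) ≫ sQ =
      Spec.map (CommRingCat.ofHom (algebraMap A C)) ≫ str) : pt str C ⟶ Over.mk sQ :=
  Over.homMk (Spec.map (CommRingCat.ofHom r)) h

end

theorem comp_θ_structure {F G : Sp S} {f : F ⟶ G} (sq : InfSq f) {A' R Q : Type u} [CommRing A']
    [Algebra sq.A A'] [CommRing R] [CommRing Q] (θ : R →+* Q) (s : R →+* A') (sR : Spec (CommRingCat.of R) ⟶ S)
    (hs : Spec.map (CommRingCat.ofHom s) ≫ sR = Spec.map (CommRingCat.ofHom (algebraMap sq.A A')) ≫ sq.str)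
    {C : Type u} [CommRing C] [Algebra sq.A C] (σ : A' →ₐ[sq.A] C) (r : Q →+* C)
    (h : r.comp θ = (σ : A' →+* C).comp s) :
    Spec.map (CommRingCat.ofHom r) ≫ Spec.map (CommRingCat.ofHom θ) ≫ sR =
      Spec.map (CommRingCat.ofHom (algebraMap sq.A C)) ≫ sq.str := by
  rw [← Spec.map_comp_assoc, ← CommRingCat.ofHom_comp, h, CommRingCat.ofHom_comp, Spec.map_comp_assoc, hs,
    ← Spec.map_comp_assoc, ← CommRingCat.ofHom_comp, σ.comp_algebraMap]

theorem existsUnique_chart_lift {X Y : Sp S} {f : X ⟶ Y} (sq : InfSq f) {A' R Q : Type u} [CommRing A']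
    [Algebra sq.A A'] [CommRing R] [CommRing Q] (θ : R →+* Q) (s : R →+* A') (sR : Spec (CommRingCat.of R) ⟶ S)
    (hs : Spec.map (CommRingCat.ofHom s) ≫ sR = Spec.map (CommRingCat.ofHom (algebraMap sq.A A')) ≫ sq.str)
    (a : (yon S).obj (Over.mk (Spec.map (CommRingCat.ofHom θ) ≫ sR)) ⟶ X) (b : (yon S).obj (Over.mk sR) ⟶ Y)
    (ha : IsFormallyEtaleMor a) (hb : IsFormallyUnramifiedMor b)
    (hab : a ≫ f = (yon S).map (Over.homMk (Spec.map (CommRingCat.ofHom θ)) rfl :
      Over.mk (Spec.map (CommRingCat.ofHom θ) ≫ sR) ⟶ Over.mk sR) ≫ b)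
    (hsb : (yon S).map (homOfRing sq.str sR s hs) ≫ b = (yon S).map (toBase sq.str A') ≫ sq.bot)
    {C B : Type u} [CommRing C] [Algebra sq.A C] [CommRing B] [Algebra sq.A B] (π : C →ₐ[sq.A] B)
    (hπ : Function.Surjective π) (hsq : ∀ x y, π x = 0 → π y = 0 → x * y = 0)
    (σ : A' →ₐ[sq.A] C) (qB : Q →+* B) (h : qB.comp θ = ((π.comp σ : A' →ₐ[sq.A] B) : A' →+* B).comp s)
    (x : (yon S).obj (pt sq.str C) ⟶ X) (hxf : x ≫ f = (yon S).map (toBase sq.str C) ≫ sq.bot)
    (hx : (yon S).map (ptMap sq.str π) ≫ x =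
      (yon S).map (homOfRing sq.str _ qB (comp_θ_structure sq θ s sR hs (π.comp σ) qB h)) ≫ a) :
    ∃! r : Q →+* C, ∃ h' : r.comp θ = (σ : A' →+* C).comp s, (π : C →+* B).comp r = qB ∧
      (yon S).map (homOfRing sq.str _ r (comp_θ_structure sq θ s sR hs σ r h')) ≫ a = x := by
  let K' : Ideal C := RingHom.ker (π : C →+* B)
  have hK' : K' ^ 2 = ⊥ := by
    rw [pow_two, eq_bot_iff, Ideal.mul_le]
    exact fun y hy z hz => hsq y z hy hz
  let e : B →ₐ[sq.A] C ⧸ K' :=
    (Ideal.quotientKerAlgEquivOfSurjective hπ).symm.toAlgHom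
  let π' : C →ₐ[sq.A] C ⧸ K' := Ideal.Quotient.mkₐ sq.A K'
  have heπ : e.comp π = π' := AlgHom.ext fun c => by
    show (Ideal.quotientKerAlgEquivOfSurjective hπ).symm (π c) = Ideal.Quotient.mk K' c
    rw [AlgEquiv.symm_apply_eq]
    rfl
  let qK : Q →+* C ⧸ K' := (e : B →+* C ⧸ K').comp qB
  have hqK : qK.comp θ = ((π'.comp σ : A' →ₐ[sq.A] C ⧸ K') : A' →+* _).comp s := by
    rw [RingHom.comp_assoc, h, ← heπ]
    rfl
  have hqK' := comp_θ_structure sq θ s sR hs (π'.comp σ) qK hqK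
  let T₀ : Over S := Over.mk (Spec.map (CommRingCat.ofHom (Ideal.Quotient.mk K')) ≫
    Spec.map (CommRingCat.ofHom (algebraMap sq.A C)) ≫ sq.str)
  let eT : T₀ ⟶ pt sq.str (C ⧸ K') := Over.homMk (U := T₀) (V := pt sq.str (C ⧸ K')) (𝟙 (Spec (CommRingCat.of (C ⧸ K')))) (by
    show 𝟙 _ ≫ Spec.map _ ≫ sq.str = Spec.map _ ≫ Spec.map _ ≫ sq.str
    rw [Category.id_comp, ← Spec.map_comp_assoc, ← CommRingCat.ofHom_comp,
      show (Ideal.Quotient.mk K').comp (algebraMap sq.A C) = algebraMap sq.A (C ⧸ K') from RingHom.ext fun _ => rfl])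
  have hxK : (yon S).map (ptMap sq.str π') ≫ x =
      (yon S).map (homOfRing sq.str (Spec.map (CommRingCat.ofHom θ) ≫ sR) qK hqK') ≫ a := by
    have := congrArg (fun z => (yon S).map (ptMap sq.str e) ≫ z) (hx)
    rw [← heπ, ← ptMap_comp, Functor.map_comp, Category.assoc]
    refine this.trans ?_
    show _ ≫ _ ≫ a = _
    rw [← Category.assoc, ← Functor.map_comp]
    refine congrArg (fun k => (yon S).map k ≫ a) (Over.OverMorphism.ext ?_)
    show Spec.map _ ≫ Spec.map _ = Spec.map _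
    rw [← Spec.map_comp, ← CommRingCat.ofHom_comp]
  let sqa : InfSq a :=
    { A := C
      I := K'
      sq_zero := hK'
      str := Spec.map (CommRingCat.ofHom (algebraMap sq.A C)) ≫ sq.str
      top := (yon S).map (eT ≫ homOfRing sq.str _ qK hqK')
      bot := x
      comm := by
        rw [Functor.map_comp, Category.assoc, ← hxK]
        refine ((Category.assoc _ _ _).symm.trans (congrArg (· ≫ x) ((Functor.map_comp _ _ _).symm))).trans ?_
        refine congrArg (fun k => (yon S).map k ≫ x) (Over.OverMorphism.ext ?_)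
        exact Category.id_comp _ }
  obtain ⟨l, ⟨hl1, hl2⟩, hlu⟩ := ha sqa
  obtain ⟨m, rfl⟩ := (yon S).map_surjective l
  obtain ⟨r, hr⟩ := Spec.map_surjective m.left
  have hw' : Spec.map r ≫ Spec.map (CommRingCat.ofHom θ) ≫ sR =
      Spec.map (CommRingCat.ofHom (algebraMap sq.A C)) ≫ sq.str := by
    rw [hr]; exact Over.w m
  have hπr : (π : C →+* B).comp r.hom = qB := by
    have h1 : sqa.j ≫ m = eT ≫ homOfRing sq.str _ qK hqK' :=
      (yon S).map_injective (by rw [Functor.map_comp]; exact hl1)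
    have h2 : Spec.map (r ≫ CommRingCat.ofHom (Ideal.Quotient.mk K')) = Spec.map (CommRingCat.ofHom qK) := by
      rw [Spec.map_comp, hr]
      exact (congrArg (fun k => k.left) h1).trans (Category.id_comp _)
    refine RingHom.ext fun y => ?_
    have h3 := RingHom.congr_fun (congrArg CommRingCat.Hom.hom (Spec.map_injective h2)) y
    have h4 : e (π (r.hom y)) = e (qB y) := (AlgHom.congr_fun heπ _).trans h3
    exact (Ideal.quotientKerAlgEquivOfSurjective hπ).symm.injective h4
  have hθr : r.hom.comp θ = (σ : A' →+* C).comp s := by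
    have h1 : Spec.map (CommRingCat.ofHom (r.hom.comp θ)) ≫ sR =
        Spec.map (CommRingCat.ofHom (algebraMap sq.A C)) ≫ sq.str := by
      rw [CommRingCat.ofHom_comp, Spec.map_comp_assoc]; exact hw'
    let sqb : InfSq b :=
      { A := C
        I := K'
        sq_zero := hK'
        str := Spec.map (CommRingCat.ofHom (algebraMap sq.A C)) ≫ sq.str
        top := (yon S).map (eT ≫ ptMap sq.str (π'.comp σ) ≫ homOfRing sq.str sR s hs)
        bot := (yon S).map (toBase sq.str C) ≫ sq.bot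
        comm := by
          rw [← Category.assoc eT, Functor.map_comp, Category.assoc, hsb, ← Functor.map_comp_assoc,
            Category.assoc, ptMap_toBase, ← Functor.map_comp_assoc]
          refine congrArg (fun k => (yon S).map k ≫ sq.bot) (Over.OverMorphism.ext ?_)
          show 𝟙 _ ≫ Spec.map _ = Spec.map _ ≫ Spec.map _
          rw [Category.id_comp, ← Spec.map_comp, ← CommRingCat.ofHom_comp] }
    have e1 := hb sqb ((yon S).map (homOfRing sq.str sR (r.hom.comp θ) h1))
      ((yon S).map (ptMap sq.str σ ≫ homOfRing sq.str sR s hs)) (by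
        show _ = (yon S).map _
        rw [← Functor.map_comp]
        refine congrArg _ (Over.OverMorphism.ext ?_)
        show Spec.map _ ≫ Spec.map _ = 𝟙 _ ≫ Spec.map _ ≫ Spec.map _
        rw [Category.id_comp, ← Spec.map_comp, ← Spec.map_comp, ← CommRingCat.ofHom_comp,
          ← CommRingCat.ofHom_comp]
        refine congrArg (fun k => Spec.map (CommRingCat.ofHom k)) (RingHom.ext fun y => ?_)
        show π' (r.hom (θ y)) = π' (σ (s y))
        rw [← heπ]
        exact congrArg e ((RingHom.congr_fun hπr (θ y)).trans (RingHom.congr_fun h y)))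
      (by
        show _ = (yon S).map (toBase sq.str C) ≫ sq.bot
        have h5 : homOfRing sq.str sR (r.hom.comp θ) h1 = m ≫ (Over.homMk (Spec.map (CommRingCat.ofHom θ)) rfl :
            Over.mk (Spec.map (CommRingCat.ofHom θ) ≫ sR) ⟶ Over.mk sR) := by
          refine Over.OverMorphism.ext ?_
          show Spec.map _ = m.left ≫ Spec.map _
          rw [← hr, ← Spec.map_comp]; rfl
        rw [h5, Functor.map_comp, Category.assoc, ← hab, ← Category.assoc, hl2]
        exact hxf)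
      (by
        show _ = (yon S).map _
        rw [← Functor.map_comp]
        refine congrArg _ (Over.OverMorphism.ext ?_)
        show Spec.map _ ≫ Spec.map _ ≫ Spec.map _ = 𝟙 _ ≫ Spec.map _ ≫ Spec.map _
        rw [Category.id_comp, ← Category.assoc, ← Spec.map_comp, ← CommRingCat.ofHom_comp]
        rfl)
      (by
        rw [Functor.map_comp, Category.assoc, hsb, ← Category.assoc, ← Functor.map_comp, ptMap_toBase])
    have h6 : Spec.map (CommRingCat.ofHom (r.hom.comp θ)) =
        Spec.map (CommRingCat.ofHom (σ : A' →+* C)) ≫ Spec.map (CommRingCat.ofHom s) :=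
      congrArg (fun k => k.left) ((yon S).map_injective e1)
    exact congrArg CommRingCat.Hom.hom (Spec.map_injective (h6.trans (Spec.map_comp _ _).symm))
  refine ⟨r.hom, ⟨hθr, hπr, ?_⟩, fun r' ⟨h', hπ', hα⟩ => ?_⟩
  · refine (congrArg (fun k => (yon S).map k ≫ a) (Over.OverMorphism.ext ?_)).trans hl2
    exact hr
  · have hl' := hlu ((yon S).map (homOfRing sq.str _ r' (comp_θ_structure sq θ s sR hs σ r' h'))) ⟨by
        show _ = (yon S).map _
        rw [← Functor.map_comp]
        refine congrArg _ (Over.OverMorphism.ext ?_)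
        show Spec.map _ ≫ Spec.map _ = 𝟙 _ ≫ Spec.map _
        rw [Category.id_comp, ← Spec.map_comp, ← CommRingCat.ofHom_comp]
        refine congrArg (fun k => Spec.map (CommRingCat.ofHom k)) ?_
        show (π' : C →+* C ⧸ K').comp r' = _
        rw [← heπ, show qK = (e : B →+* C ⧸ K').comp qB from rfl, ← hπ']
        rfl, hα⟩
    have h5 := congrArg (fun k => k.left) ((yon S).map_injective hl')
    exact congrArg CommRingCat.Hom.hom (Spec.map_injective (h5.trans hr.symm))

theorem yon_hom_ext_single {T W : Over S} (g : W ⟶ T) [Flat g.left] [LocallyOfFinitePresentation g.left]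
    [Surjective g.left] {X : Sp S} (a b : (yon S).obj T ⟶ X) (h : (yon S).map g ≫ a = (yon S).map g ≫ b) : a = b :=
  yon_hom_ext_of_cover (fun _ : PUnit.{u + 1} => g)
    (fun z => let ⟨y, hy⟩ := g.left.surjective z; ⟨⟨⟩, y, hy⟩) a b fun _ => h

theorem yon_exists_glue_single {T W : Over S} (g : W ⟶ T) [Flat g.left] [LocallyOfFinitePresentation g.left]
    [Surjective g.left] {X : Sp S} (x : (yon S).obj W ⟶ X)
    (hx : ∀ (Z : Over S) (u v : Z ⟶ W), u ≫ g = v ≫ g → (yon S).map u ≫ x = (yon S).map v ≫ x) :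
    ∃ t : (yon S).obj T ⟶ X, (yon S).map g ≫ t = x :=
  let ⟨t, ht⟩ := yon_exists_glue (fun _ : PUnit.{u + 1} => g)
    (fun z => let ⟨y, hy⟩ := g.left.surjective z; ⟨⟨⟩, y, hy⟩) (fun _ => x) fun _ _ Z u v e => hx Z u v e
  ⟨t, ht ⟨⟩⟩

theorem exists_glue_toBase {X Y : Sp S} {f : X ⟶ Y} (sq : InfSq f) (A' : Type u) [CommRing A']
    [Algebra sq.A A'] [Etale (Spec.map (CommRingCat.ofHom (algebraMap sq.A A')))]
    [Surjective (Spec.map (CommRingCat.ofHom (algebraMap sq.A A')))]
    (x : (yon S).obj (pt sq.str A') ⟶ X) (hxf : x ≫ f = (yon S).map (toBase sq.str A') ≫ sq.bot)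
    (hx : (yon S).map (ptMap sq.str (Algebra.TensorProduct.includeLeft : A' →ₐ[sq.A] A' ⊗[sq.A] A')) ≫ x =
      (yon S).map (ptMap sq.str Algebra.TensorProduct.includeRight) ≫ x) :
    ∃ L : (yon S).obj (Over.mk sq.str) ⟶ X, (yon S).map (toBase sq.str A') ≫ L = x ∧ L ≫ f = sq.bot := by
  have : Flat (toBase sq.str A').left := by
    show Flat (Spec.map (CommRingCat.ofHom (algebraMap sq.A A')))
    infer_instance
  have : LocallyOfFinitePresentation (toBase sq.str A').left := by
    show LocallyOfFinitePresentation (Spec.map (CommRingCat.ofHom (algebraMap sq.A A')))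
    infer_instance
  have : Surjective (toBase sq.str A').left := by
    show Surjective (Spec.map (CommRingCat.ofHom (algebraMap sq.A A')))
    infer_instance
  obtain ⟨L, hL⟩ := yon_exists_glue_single (toBase sq.str A') x (fun Z u v huv => by
    let i₁ : A' →ₐ[sq.A] A' ⊗[sq.A] A' := Algebra.TensorProduct.includeLeft
    let i₂ : A' →ₐ[sq.A] A' ⊗[sq.A] A' := Algebra.TensorProduct.includeRight
    obtain ⟨l, hl₁, hl₂⟩ : ∃ l : Z.left ⟶ Spec (CommRingCat.of (A' ⊗[sq.A] A')),
        l ≫ Spec.map (CommRingCat.ofHom (i₁ : A' →+* _)) = u.left ∧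
          l ≫ Spec.map (CommRingCat.ofHom (i₂ : A' →+* _)) = v.left := by
      have huv' : u.left ≫ Spec.map (CommRingCat.ofHom (algebraMap sq.A A')) =
          v.left ≫ Spec.map (CommRingCat.ofHom (algebraMap sq.A A')) := congrArg (fun k => k.left) huv
      refine ⟨pullback.lift u.left v.left huv' ≫ (pullbackSpecIso sq.A A' A').hom, ?_, ?_⟩
      · rw [Category.assoc]
        exact (congrArg (_ ≫ ·) (pullbackSpecIso_hom_fst sq.A A' A')).trans (pullback.lift_fst _ _ _)
      · rw [Category.assoc]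
        exact (congrArg (_ ≫ ·) (pullbackSpecIso_hom_snd sq.A A' A')).trans (pullback.lift_snd _ _ _)
    let z : Z ⟶ pt sq.str (A' ⊗[sq.A] A') := Over.homMk l (by
      show l ≫ Spec.map _ ≫ sq.str = Z.hom
      rw [← Over.w u, ← hl₁, Category.assoc]
      show l ≫ Spec.map _ ≫ sq.str = l ≫ Spec.map _ ≫ Spec.map _ ≫ sq.str
      rw [← Spec.map_comp_assoc, ← CommRingCat.ofHom_comp, i₁.comp_algebraMap])
    have e₁ : u = z ≫ ptMap sq.str i₁ := Over.OverMorphism.ext hl₁.symm
    have e₂ : v = z ≫ ptMap sq.str i₂ := Over.OverMorphism.ext hl₂.symm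
    rw [e₁, e₂, Functor.map_comp, Functor.map_comp, Category.assoc, Category.assoc]
    exact congrArg (_ ≫ ·) hx)
  exact ⟨L, hL, yon_hom_ext_single (toBase sq.str A') _ _ (by rw [← Category.assoc, hL]; exact hxf)⟩

theorem eq_of_ptMap_quot {X Y : Sp S} {f : X ⟶ Y} (sq : InfSq f) (A' : Type u) [CommRing A']
    [Algebra sq.A A'] [Etale (Spec.map (CommRingCat.ofHom (algebraMap sq.A A')))]
    [Surjective (Spec.map (CommRingCat.ofHom (algebraMap sq.A A')))]
    (φ : sq.A ⧸ sq.I →ₐ[sq.A] A' ⧸ sq.I.map (algebraMap sq.A A'))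
    (x y : (yon S).obj (pt sq.str (sq.A ⧸ sq.I)) ⟶ X)
    (hxy : (yon S).map (ptMap sq.str φ) ≫ x = (yon S).map (ptMap sq.str φ) ≫ y) : x = y := by
  have hφ : (φ : sq.A ⧸ sq.I →+* A' ⧸ sq.I.map (algebraMap sq.A A')) =
      Ideal.quotientMap _ (algebraMap sq.A A') sq.I.le_comap_map :=
    Ideal.Quotient.ringHom_ext (RingHom.ext fun c => φ.commutes c)
  have hP := (isPullback_SpecMap_of_isPushout _ _ _ _ (isPushout_quotient (algebraMap sq.A A') sq.I)).flip
  rw [← hφ] at hP
  have h1 : Etale (ptMap sq.str φ).left :=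
    MorphismProperty.of_isPullback (P := @Etale) hP.flip inferInstance
  have h2 : Surjective (ptMap sq.str φ).left :=
    MorphismProperty.of_isPullback (P := @Surjective) hP.flip inferInstance
  exact yon_hom_ext_single (ptMap sq.str φ) x y hxy

theorem hasLift_of_chart {X Y : Sp S} {f : X ⟶ Y} (sq : InfSq f)
    (A' : Type u) [CommRing A'] [Algebra sq.A A'] [Module.FaithfullyFlat sq.A A']
    [Etale (Spec.map (CommRingCat.ofHom (algebraMap sq.A A')))]
    [Surjective (Spec.map (CommRingCat.ofHom (algebraMap sq.A A')))]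
    (R Q : Type u) [CommRing R] [CommRing Q] (θ : R →+* Q) (hθ : θ.FinitePresentation)
    (s : R →+* A') (q : Q →+* A') (hqθ : q.comp θ = s)
    (sR : Spec (CommRingCat.of R) ⟶ S)
    (hs : Spec.map (CommRingCat.ofHom s) ≫ sR = Spec.map (CommRingCat.ofHom (algebraMap sq.A A')) ≫ sq.str)
    (a : (yon S).obj (Over.mk (Spec.map (CommRingCat.ofHom θ) ≫ sR)) ⟶ X) (b : (yon S).obj (Over.mk sR) ⟶ Y)
    (ha : IsFormallyEtaleMor a) (hb : IsFormallyUnramifiedMor b)
    (hab : a ≫ f = (yon S).map (Over.homMk (Spec.map (CommRingCat.ofHom θ)) rfl :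
      Over.mk (Spec.map (CommRingCat.ofHom θ) ≫ sR) ⟶ Over.mk sR) ≫ b)
    (hsb : (yon S).map (homOfRing sq.str sR s hs) ≫ b = (yon S).map (toBase sq.str A') ≫ sq.bot)
    (htop : ∀ (u : pt sq.str (A' ⧸ sq.I.map (algebraMap sq.A A')) ⟶ sq.ptT)
      (v : pt sq.str (A' ⧸ sq.I.map (algebraMap sq.A A')) ⟶ Over.mk (Spec.map (CommRingCat.ofHom θ) ≫ sR)),
      u ≫ sq.j = toBase sq.str _ →
      v.left = Spec.map (CommRingCat.ofHom ((Ideal.Quotient.mk (sq.I.map (algebraMap sq.A A'))).comp q)) →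
      (yon S).map v ≫ a = (yon S).map u ≫ sq.top) :
    sq.HasLift := by
  classical
  obtain ⟨n, p, hp, hker⟩ : ∃ (n : ℕ) (p : MvPolynomial (Fin n) R →+* Q), (Function.Surjective p ∧
      ∀ r, p (MvPolynomial.C r) = θ r) ∧ (RingHom.ker p).FG := by
    letI := θ.toAlgebra
    have : Algebra.FinitePresentation R Q := hθ
    obtain ⟨n, φ, h1, h2⟩ := this
    exact ⟨n, φ.toRingHom, ⟨h1, fun r => φ.commutes r⟩, h2⟩
  obtain ⟨K, hK⟩ := hker
  let G : ∀ (C : Type u) [CommRing C] [Algebra sq.A C], Type (u + 1) := fun C _ _ =>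
    { x : (yon S).obj (pt sq.str C) ⟶ X // x ≫ f = (yon S).map (toBase sq.str C) ≫ sq.bot }
  have hcompat : ∀ {C : Type u} [CommRing C] [Algebra sq.A C] (σ : A' →ₐ[sq.A] C) (r : Q →+* C)
      (h : r.comp θ = (σ : A' →+* C).comp s),
      homOfRing sq.str (Spec.map (CommRingCat.ofHom θ) ≫ sR) r (comp_θ_structure sq θ s sR hs σ r h) ≫
        (Over.homMk (Spec.map (CommRingCat.ofHom θ)) rfl :
          Over.mk (Spec.map (CommRingCat.ofHom θ) ≫ sR) ⟶ Over.mk sR) =
      ptMap sq.str σ ≫ homOfRing sq.str sR s hs := by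
    intro C _ _ σ r h
    refine Over.OverMorphism.ext ?_
    show Spec.map _ ≫ Spec.map _ = Spec.map _ ≫ Spec.map _
    rw [← Spec.map_comp, ← Spec.map_comp, ← CommRingCat.ofHom_comp, ← CommRingCat.ofHom_comp, h]
  let e₀ : pt sq.str (sq.A ⧸ sq.I) ⟶ sq.ptT := Over.homMk (𝟙 _) (Category.id_comp _)
  have he₀ : e₀ ≫ sq.j = toBase sq.str _ := Over.OverMorphism.ext (Category.id_comp _)
  let D : LiftDescent.Data.{u, u + 1} sq.A sq.I A' :=
    { G := G
      map := fun φ x => ⟨(yon S).map (ptMap sq.str φ) ≫ x.1, by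
        rw [Category.assoc, x.2, ← Category.assoc, ← Functor.map_comp, ptMap_toBase]⟩
      map_comp := fun φ ψ x => Subtype.ext (by
        show _ ≫ _ ≫ x.1 = _ ≫ x.1
        rw [← Category.assoc, ← Functor.map_comp, ptMap_comp])
      R := R
      Q := Q
      θ := θ
      s := s
      n := n
      p := p
      hp := hp.1
      hpC := hp.2
      K := K
      hK := hK.symm
      α := fun σ r h => ⟨(yon S).map (homOfRing sq.str _ r (comp_θ_structure sq θ s sR hs σ r h)) ≫ a, by
        rw [Category.assoc, hab, ← Category.assoc, ← Functor.map_comp, hcompat σ r h, Functor.map_comp,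
          Category.assoc, hsb, ← Category.assoc, ← Functor.map_comp, ptMap_toBase]⟩
      map_α := fun φ σ r h h' => Subtype.ext (by
        show _ ≫ _ ≫ a = _ ≫ a
        rw [← Category.assoc, ← Functor.map_comp]
        refine congrArg (fun k => (yon S).map k ≫ a) (Over.OverMorphism.ext ?_)
        show Spec.map _ ≫ Spec.map _ = Spec.map _
        rw [← Spec.map_comp, ← CommRingCat.ofHom_comp])
      lift := ?_
      a₀ := ⟨(yon S).map e₀ ≫ sq.top, by
        rw [Category.assoc, sq.comm, ← Category.assoc, ← Functor.map_comp, he₀]⟩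
      q := q
      hq := hqθ
      h₀ := fun φ h => Subtype.ext (by
        show _ ≫ _ ≫ sq.top = _ ≫ a
        rw [← Category.assoc, ← Functor.map_comp]
        exact (htop (ptMap sq.str φ ≫ e₀) (homOfRing sq.str _ _ (comp_θ_structure sq θ s sR hs _ _ h))
          (by rw [Category.assoc, he₀, ptMap_toBase]) rfl).symm) }
  case refine_1 =>
    intro C B _ _ _ _ π hπ hsq σ qB h x hx
    obtain ⟨r, ⟨h', h1, h2⟩, hu⟩ := existsUnique_chart_lift sq θ s sR hs a b ha hb hab hsb π hπ hsq σ qB h x.1 x.2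
      (congrArg Subtype.val hx)
    exact ⟨r, ⟨h', h1, Subtype.ext h2⟩, fun r' ⟨h'', h1', h2'⟩ => hu r' ⟨h'', h1', congrArg Subtype.val h2'⟩⟩
  let idA : Over.mk sq.str ⟶ pt sq.str sq.A := Over.homMk (𝟙 _) (by
    show 𝟙 _ ≫ Spec.map (CommRingCat.ofHom (RingHom.id sq.A)) ≫ sq.str = sq.str
    rw [Category.id_comp, CommRingCat.ofHom_id, Spec.map_id, Category.id_comp])
  obtain ⟨x, hx⟩ := LiftDescent.exists_lift D sq.sq_zero (fun x hx => by
      obtain ⟨L, hL, hLf⟩ := exists_glue_toBase sq A' x.1 x.2 (congrArg Subtype.val hx)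
      exact ⟨⟨(yon S).map (toBase sq.str sq.A) ≫ L, by rw [Category.assoc, hLf]⟩, Subtype.ext (by
        show _ ≫ _ ≫ L = x.1
        rw [← Category.assoc, ← Functor.map_comp, ptMap_toBase, hL])⟩)
    (fun φ x y hxy => Subtype.ext (eq_of_ptMap_quot sq A' φ x.1 y.1 (congrArg Subtype.val hxy)))
  refine ⟨(yon S).map idA ≫ x.1, ?_, ?_⟩
  · have h1 : (yon S).map (ptMap sq.str (Ideal.Quotient.mkₐ sq.A sq.I)) ≫ x.1 = (yon S).map e₀ ≫ sq.top :=
      congrArg Subtype.val hx
    let e₁ : sq.ptT ⟶ pt sq.str (sq.A ⧸ sq.I) := Over.homMk (𝟙 _) (Category.id_comp _)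
    have h2 := congrArg (fun k => (yon S).map e₁ ≫ k) h1
    simp only [← Functor.map_comp_assoc] at h2
    rw [← Functor.map_comp_assoc]
    refine ((congrArg (fun k => (yon S).map k ≫ x.1) (Over.OverMorphism.ext ?_)).trans h2).trans ?_
    · show Spec.map _ ≫ 𝟙 _ = 𝟙 _ ≫ Spec.map _
      rw [Category.id_comp, Category.comp_id]
      rfl
    · rw [show e₁ ≫ e₀ = 𝟙 _ from Over.OverMorphism.ext (Category.id_comp _), CategoryTheory.Functor.map_id,
        Category.id_comp]
  · rw [Category.assoc, x.2, ← Functor.map_comp_assoc]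
    rw [show idA ≫ toBase sq.str sq.A = 𝟙 _ from Over.OverMorphism.ext (by
      show 𝟙 _ ≫ Spec.map (CommRingCat.ofHom (RingHom.id sq.A)) = 𝟙 _
      rw [Category.id_comp, CommRingCat.ofHom_id, Spec.map_id]), CategoryTheory.Functor.map_id, Category.id_comp]

theorem exists_sigmaOver_desc {ι : Type u} {W : ι → Over S} {T : Over S} (f : ∀ i, W i ⟶ T) :
    ∃ d : sigmaOver W ⟶ T, ∀ i, sigmaOverι W i ≫ d = f i :=
  ⟨Over.homMk (U := sigmaOver W) (Sigma.desc fun i => (f i).left) (Sigma.hom_ext _ _ fun i => by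
    show Sigma.ι _ i ≫ Sigma.desc _ ≫ T.hom = Sigma.ι _ i ≫ Sigma.desc _
    rw [Sigma.ι_desc_assoc, Sigma.ι_desc]
    exact Over.w (f i)), fun i => Over.OverMorphism.ext (Sigma.ι_desc _ _)⟩

theorem sigmaOver_hom_ext {ι : Type u} {W : ι → Over S} {T : Over S} {f g : sigmaOver W ⟶ T}
    (h : ∀ i, sigmaOverι W i ≫ f = sigmaOverι W i ≫ g) : f = g :=
  Over.OverMorphism.ext (Sigma.hom_ext _ _ fun i => congrArg (fun k => k.left) (h i))

theorem etale_of_sigmaOver {ι : Type u} {W : ι → Over S} {T : Over S} {f : sigmaOver W ⟶ T}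
    (h : ∀ i, Etale (sigmaOverι W i ≫ f).left) : Etale f.left := by
  rw [show f.left = Sigma.desc (fun i => (sigmaOverι W i ≫ f).left) from
    Sigma.hom_ext _ _ fun i => (Sigma.ι_desc (fun i => (sigmaOverι W i ≫ f).left) i).symm]
  exact IsZariskiLocalAtSource.sigmaDesc h

theorem exists_local_chart_lift {X Y : Sp S} (hY : IsAlgSpace Y) {f : X ⟶ Y} {U V : Over S}
    {aX : (yon S).obj U ⟶ X} {bY : (yon S).obj V ⟶ Y} {h : U ⟶ V} (hae : RepWith @Etale aX)
    (has : RepWith @Surjective aX) (hbe : RepWith @Etale bY) (wh : aX ≫ f = (yon S).map h ≫ bY)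
    [Smooth h.left] (sq : InfSq f) (t : ↥sq.ptT'.left) :
    ∃ (O P W : Over S) (g : O ⟶ sq.ptT') (p : P ⟶ U) (w : W ⟶ V) (k : P ⟶ W) (l : O ⟶ P),
      IsAffine O.left ∧ IsAffine P.left ∧ IsAffine W.left ∧ Etale g.left ∧ IsOpenImmersion p.left ∧
        IsOpenImmersion w.left ∧ LocallyOfFinitePresentation k.left ∧ t ∈ Set.range g.left ∧ p ≫ h = k ≫ w ∧
        (yon S).map (l ≫ p ≫ h) ≫ bY = (yon S).map g ≫ sq.bot ∧
        ∀ (Z : Over S) (u : Z ⟶ sq.ptT) (v : Z ⟶ O), u ≫ sq.j = v ≫ g →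
          (yon S).map (v ≫ l ≫ p) ≫ aX = (yon S).map u ≫ sq.top := by
  have hthick : IsThickMor ((yon S).map sq.j) := isThickMor_infSq sq
  obtain ⟨t₀, rfl⟩ := ((repWith_yon_map_iff thick _).1 hthick).2.surj t
  obtain ⟨U', g, hU', hg, ⟨u, hu⟩, U₀, g₀, j', m, hP, hm⟩ :=
    exists_etale_nhd_factor hae has sq.I sq.str sq.top t₀
  have hPy := hP.map (yon S)
  have hj' : IsThickMor ((yon S).map j') := RepWith.baseChange hPy hthick
  have hbF : IsEtaleMor bY := (isEtaleMor_iff_locP etLocal_etale (IsAlgSpace.yon_obj _) hY bY).2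
    (locP_of_repWith etLocal_etale (IsAlgSpace.yon_obj _) hbe)
  obtain ⟨β', ⟨hβ1', hβ2⟩, -⟩ := existsUnique_lift_of_etale (IsAlgSpace.yon_obj V) hY (IsAlgSpace.yon_obj U₀)
    (IsAlgSpace.yon_obj U') hj' hbF (m ≫ (yon S).map h) ((yon S).map g ≫ sq.bot) (by
      rw [Category.assoc, ← wh, ← Category.assoc, hm, Category.assoc, sq.comm, ← Category.assoc,
        ← Category.assoc]
      exact congrArg (· ≫ sq.bot) hPy.w)
  obtain ⟨β, rfl⟩ := (yon S).map_surjective β'
  obtain ⟨m', rfl⟩ := (yon S).map_surjective m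
  rw [← Functor.map_comp, ← Functor.map_comp] at hβ1'
  have hβ1 := congrArg (fun k : _ ⟶ V => k.left) ((yon S).map_injective hβ1')
  have hcl := (repWith_yon_map_iff thick j').1 hj'
  have : IsClosedImmersion j'.left := hcl.1
  have : Surjective j'.left := hcl.2
  obtain ⟨O, -, huO, l, hl1, hl2⟩ := exists_smooth_lift_nhd h.left j'.left m'.left β.left
    (by exact hβ1.symm) u
  let ιO := restrictOverι U' O
  let lO : restrictOver U' O ⟶ U := Over.homMk l (by
    show l ≫ U.hom = O.ι ≫ U'.hom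
    rw [← Over.w h, reassoc_of% hl1, Over.w β])
  have hlO : lO ≫ h = ιO ≫ β := Over.OverMorphism.ext hl1
  let u₁ : (restrictOver U' O).left := ⟨u, huO⟩
  obtain ⟨⟨W, hW⟩, hW1, -⟩ := exists_affine_mem (x := h.left (lO.left u₁)) (O := ⊤) trivial
  obtain ⟨⟨P, hPa⟩, hP1, hP2⟩ := exists_affine_mem (x := lO.left u₁) (O := h.left ⁻¹ᵁ W) hW1
  obtain ⟨⟨O₁, hO₁⟩, hO1, hO2⟩ := exists_affine_mem (x := u₁) (O := lO.left ⁻¹ᵁ P) hP1
  let k : restrictOver U P ⟶ restrictOver V W := Over.homMk (h.left.resLE W P hP2) (by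
    show _ ≫ W.ι ≫ V.hom = P.ι ≫ U.hom
    rw [Scheme.Hom.resLE_comp_ι_assoc, Over.w h])
  let l₁ : restrictOver (restrictOver U' O) O₁ ⟶ restrictOver U P :=
    Over.homMk (lO.left.resLE P O₁ hO2) (by
      show _ ≫ P.ι ≫ U.hom = O₁.ι ≫ (restrictOver U' O).hom
      rw [Scheme.Hom.resLE_comp_ι_assoc, Over.w lO])
  have hl₁ : l₁ ≫ restrictOverι U P = restrictOverι _ O₁ ≫ lO :=
    Over.OverMorphism.ext (Scheme.Hom.resLE_comp_ι _ _)
  refine ⟨restrictOver (restrictOver U' O) O₁, restrictOver U P, restrictOver V W,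
    restrictOverι _ O₁ ≫ ιO ≫ g, restrictOverι U P, restrictOverι V W, k, l₁, hO₁, hPa, hW, ?_,
    inferInstance, inferInstance, ?_, ⟨⟨u₁, hO1⟩, hu⟩, ?_, ?_, ?_⟩
  rotate_left
  · show LocallyOfFinitePresentation (h.left.resLE W P hP2)
    infer_instance
  · exact Over.OverMorphism.ext (Scheme.Hom.resLE_comp_ι _ _).symm
  · rw [reassoc_of% hl₁, hlO, Functor.map_comp, Functor.map_comp, Category.assoc, Category.assoc, hβ2,
      ← Functor.map_comp_assoc, ← Functor.map_comp_assoc, Category.assoc]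
  · intro Z x y hxy
    let y' := y ≫ restrictOverι _ O₁
    obtain ⟨z, hz1, hz2⟩ : ∃ z : Z ⟶ U₀, z ≫ g₀ = x ∧ z ≫ j' = y' ≫ ιO :=
      hP.exists_lift x (y' ≫ ιO) (by simpa only [y', Category.assoc] using hxy)
    let jO : restrictOver U₀ (j'.left ⁻¹ᵁ O) ⟶ restrictOver U' O := Over.homMk (j'.left ∣_ O) (by
      show (j'.left ∣_ O) ≫ O.ι ≫ U'.hom = (j'.left ⁻¹ᵁ O).ι ≫ U₀.hom
      rw [← Category.assoc, morphismRestrict_ι, Category.assoc, Over.w j'])
    have sqO : IsPullback jO (restrictOverι U₀ (j'.left ⁻¹ᵁ O)) ιO j' :=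
      IsPullback.of_map (Over.forget S) (Over.OverMorphism.ext (morphismRestrict_ι _ _))
        (isPullback_morphismRestrict j'.left O)
    obtain ⟨w, hw1, hw2⟩ := sqO.exists_lift y' z hz2.symm
    have e : y ≫ l₁ ≫ restrictOverι U P = z ≫ m' := by
      rw [hl₁, ← Category.assoc, show y ≫ restrictOverι _ O₁ = y' from rfl, ← hw1, ← hw2, Category.assoc,
        Category.assoc, show jO ≫ lO = restrictOverι U₀ (j'.left ⁻¹ᵁ O) ≫ m' from Over.OverMorphism.ext hl2]
    rw [e, Functor.map_comp, Category.assoc, hm, ← Functor.map_comp_assoc, hz1]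
  · have : Etale O₁.ι := inferInstance
    have : Etale O.ι := inferInstance
    have := hg
    show Etale (O₁.ι ≫ O.ι ≫ g.left)
    exact MorphismProperty.comp_mem _ _ _ ‹Etale O₁.ι› (MorphismProperty.comp_mem _ _ _ ‹Etale O.ι› hg)

/-- smooth morphisms of algebraic spaces are formally smooth -/
theorem isFormallySmoothMor_of_smooth {X Y : Sp S} (hX : IsAlgSpace X) (hY : IsAlgSpace Y) {f : X ⟶ Y}
    (hf : LocP @Smooth f) : IsFormallySmoothMor f := by
  intro sq
  obtain ⟨V, bY, hbe, hbs⟩ := hY.atlas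
  obtain ⟨U, aX, h, hae, has, wh⟩ := exists_chart_over hX hY f bY hbe hbs
  have hsm : Smooth h.left := hf aX bY h hae hbe wh
  choose O P W g p w k l hO hP hW hg hp hw hk ht hpk hbot htop using
    exists_local_chart_lift hY hae has hbe wh sq
  obtain ⟨T, hT⟩ := (isCompact_univ (X := ↥(Spec (CommRingCat.of sq.A)))).elim_finite_subcover
    (fun t => Set.range (g t).left) (fun t => by
      have := hg t
      exact (g t).left.isOpenMap.isOpen_range) (fun t _ => Set.mem_iUnion.2 ⟨t, ht t⟩)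
  let ι : Type u := ↥T
  have : Finite ι := inferInstanceAs (Finite ↥T)
  let O' : Over S := sigmaOver fun i : ι => O i.1
  let P' : Over S := sigmaOver fun i : ι => P i.1
  let W' : Over S := sigmaOver fun i : ι => W i.1
  have : ∀ i : ι, IsAffine (O i.1).left := fun i => hO i.1
  have : ∀ i : ι, IsAffine (P i.1).left := fun i => hP i.1
  have : ∀ i : ι, IsAffine (W i.1).left := fun i => hW i.1
  have : IsAffine O'.left := inferInstanceAs (IsAffine (∐ fun i : ι => (O i.1).left))
  have : IsAffine P'.left := inferInstanceAs (IsAffine (∐ fun i : ι => (P i.1).left))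
  have : IsAffine W'.left := inferInstanceAs (IsAffine (∐ fun i : ι => (W i.1).left))
  obtain ⟨g', hg'⟩ := exists_sigmaOver_desc (fun i : ι => g i.1)
  obtain ⟨p', hp'⟩ := exists_sigmaOver_desc (fun i : ι => p i.1)
  obtain ⟨w', hw'⟩ := exists_sigmaOver_desc (fun i : ι => w i.1)
  obtain ⟨k', hk'⟩ := exists_sigmaOver_desc (fun i : ι => k i.1 ≫ sigmaOverι (fun i : ι => W i.1) i)
  obtain ⟨l', hl'⟩ := exists_sigmaOver_desc (fun i : ι => l i.1 ≫ sigmaOverι (fun i : ι => P i.1) i)
  have hge : Etale g'.left := etale_of_sigmaOver fun i => by rw [hg']; exact hg i.1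
  have hpe : Etale p'.left := etale_of_sigmaOver fun i => by
    rw [hp']; have := hp i.1; infer_instance
  have hwe : Etale w'.left := etale_of_sigmaOver fun i => by
    rw [hw']; have := hw i.1; infer_instance
  have hgs : Surjective g'.left := ⟨fun z => by
    obtain ⟨t, htT, ⟨x, hx⟩⟩ := Set.mem_iUnion₂.1 (hT (Set.mem_univ z))
    refine ⟨(sigmaOverι (fun i : ι => O i.1) ⟨t, htT⟩).left x, ?_⟩
    rw [← Scheme.Hom.comp_apply, ← Over.comp_left, hg']
    exact hx⟩
  have hpk' : p' ≫ h = k' ≫ w' := sigmaOver_hom_ext fun i => by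
    rw [reassoc_of% hp', reassoc_of% hk', hw', hpk]
  have hbot' : (yon S).map (l' ≫ p' ≫ h) ≫ bY = (yon S).map g' ≫ sq.bot := by
    refine (existsUnique_desc_sigma (fun i : ι => O i.1) (fun i => (yon S).map (g i.1) ≫ sq.bot)).unique
      (fun i => ?_) (fun i => ?_)
    · rw [← Functor.map_comp_assoc, reassoc_of% hl', reassoc_of% hp', hbot]
    · rw [← Functor.map_comp_assoc, hg']
  have htop' : ∀ (Z : Over S) (x : Z ⟶ sq.ptT) (y : Z ⟶ O'), x ≫ sq.j = y ≫ g' →
      (yon S).map (y ≫ l' ≫ p') ≫ aX = (yon S).map x ≫ sq.top := by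
    intro Z x y hxy
    let c : ∀ i : ι, pullback (sigmaOverι (fun i : ι => O i.1) i) y ⟶ Z := fun i => pullback.snd _ _
    have hc : ∀ i, IsOpenImmersion (c i).left := fun i =>
      MorphismProperty.of_isPullback (P := @IsOpenImmersion)
        ((IsPullback.of_hasPullback (sigmaOverι (fun i : ι => O i.1) i) y).map (Over.forget S))
        (isOpenImmersion_sigmaOverι (fun i : ι => O i.1) i)
    refine yon_hom_ext_of_cover c (fun z => ?_) _ _ fun i => ?_
    · obtain ⟨i, v, hv⟩ := exists_mem_range_sigmaOverι (fun i : ι => O i.1) (y.left z)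
      have sq₀ := (IsPullback.of_hasPullback (sigmaOverι (fun i : ι => O i.1) i) y).map (Over.forget S)
      obtain ⟨q, -, hq⟩ := Scheme.Pullback.exists_preimage_pullback v z hv
      refine ⟨i, sq₀.isoPullback.inv q, ?_⟩
      exact (congr($(sq₀.isoPullback_inv_snd) q)).trans hq
    · rw [← Functor.map_comp_assoc, ← Functor.map_comp_assoc, ← htop i.1 _ (c i ≫ x) (pullback.fst _ _) (by
        rw [Category.assoc, hxy, ← pullback.condition_assoc, hg']),
        ← pullback.condition_assoc, reassoc_of% hl', hp']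
  -- translate to rings
  let A' : Type u := Γ(O'.left, ⊤)
  let R : Type u := Γ(W'.left, ⊤)
  let Q : Type u := Γ(P'.left, ⊤)
  obtain ⟨φA, hφA⟩ := Spec.map_surjective (O'.left.isoSpec.inv ≫ g'.left)
  obtain ⟨θ, hθ⟩ := Spec.map_surjective (P'.left.isoSpec.inv ≫ k'.left ≫ W'.left.isoSpec.hom)
  obtain ⟨q, hq⟩ := Spec.map_surjective (O'.left.isoSpec.inv ≫ l'.left ≫ P'.left.isoSpec.hom)
  let sR : Spec (CommRingCat.of R) ⟶ S := W'.left.isoSpec.inv ≫ W'.hom
  letI : Algebra sq.A A' := φA.hom.toAlgebra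
  have hA' : Spec.map (CommRingCat.ofHom (algebraMap sq.A A')) = O'.left.isoSpec.inv ≫ g'.left := hφA
  have : Etale (Spec.map (CommRingCat.ofHom (algebraMap sq.A A'))) := by rw [hA']; infer_instance
  have hsur : Surjective (Spec.map (CommRingCat.ofHom (algebraMap sq.A A'))) := by rw [hA']; infer_instance
  have : Module.Flat sq.A A' := RingHom.flat_algebraMap_iff.1
    ((HasRingHomProperty.Spec_iff (P := @Flat)).1
      (inferInstance : Flat (Spec.map (CommRingCat.ofHom (algebraMap sq.A A')))))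
  have : Module.FaithfullyFlat sq.A A' := Module.FaithfullyFlat.of_comap_surjective hsur.surj
  have eP : Spec.map θ ≫ sR = P'.left.isoSpec.inv ≫ P'.hom := by
    rw [hθ]
    simp only [sR, Category.assoc, Iso.hom_inv_id_assoc]
    exact congrArg (P'.left.isoSpec.inv ≫ ·) (Over.w k')
  let eP' : Over.mk (Spec.map θ ≫ sR) ⟶ P' := Over.homMk (U := Over.mk (Spec.map θ ≫ sR)) P'.left.isoSpec.inv eP.symm
  let eW' : Over.mk sR ⟶ W' := Over.homMk (U := Over.mk sR) W'.left.isoSpec.inv rfl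
  have hθfp : θ.hom.FinitePresentation := by
    have : LocallyOfFinitePresentation k'.left := by
      rw [show k'.left = Sigma.desc (fun i : ι => (sigmaOverι (fun i : ι => P i.1) i ≫ k').left) from
        Sigma.hom_ext _ _ fun i => (Sigma.ι_desc (fun i : ι => (sigmaOverι (fun i : ι => P i.1) i ≫ k').left) i).symm]
      refine IsZariskiLocalAtSource.sigmaDesc fun i => ?_
      rw [hk']
      have := hk i.1
      show LocallyOfFinitePresentation ((k i.1).left ≫ (sigmaOverι (fun i : ι => W i.1) i).left)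
      infer_instance
    refine (HasRingHomProperty.Spec_iff (P := @LocallyOfFinitePresentation)).1 ?_
    rw [hθ]
    infer_instance
  have hsθ : Spec.map (θ ≫ q) = O'.left.isoSpec.inv ≫ l'.left ≫ k'.left ≫ W'.left.isoSpec.hom := by
    rw [Spec.map_comp, hq, hθ]
    simp
  have hs : Spec.map (CommRingCat.ofHom (q.hom.comp θ.hom)) ≫ sR =
      Spec.map (CommRingCat.ofHom (algebraMap sq.A A')) ≫ sq.str := by
    rw [hA', show CommRingCat.ofHom (q.hom.comp θ.hom) = θ ≫ q from rfl, hsθ]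
    simp only [sR, Category.assoc, Iso.hom_inv_id_assoc]
    rw [Over.w k', Over.w l']
    exact (congrArg (O'.left.isoSpec.inv ≫ ·) (Over.w g')).symm
  let eO : pt sq.str A' ⟶ O' := Over.homMk (U := pt sq.str A') O'.left.isoSpec.inv (by
    show O'.left.isoSpec.inv ≫ O'.hom = Spec.map _ ≫ sq.str
    rw [hA', Category.assoc]
    exact congrArg (O'.left.isoSpec.inv ≫ ·) (Over.w g').symm)
  refine hasLift_of_chart sq A' R Q θ.hom hθfp _ q.hom rfl sR hs ((yon S).map (eP' ≫ p') ≫ aX)
    ((yon S).map (eW' ≫ w') ≫ bY)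
    (isFormallyEtaleMor_of_repWith (RepWith.comp ((repWith_yon_map_iff @Etale _).2 ?_) hae))
    ((formallyEtale_iff _).1
      (isFormallyEtaleMor_of_repWith (RepWith.comp ((repWith_yon_map_iff @Etale _).2 ?_) hbe))).2 ?_ ?_ ?_
  · show Etale (P'.left.isoSpec.inv ≫ p'.left)
    infer_instance
  · show Etale (W'.left.isoSpec.inv ≫ w'.left)
    infer_instance
  · rw [Category.assoc, wh, ← Functor.map_comp_assoc, ← Functor.map_comp_assoc, Category.assoc, hpk']
    refine congrArg (fun e => (yon S).map e ≫ bY) (Over.OverMorphism.ext ?_)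
    show P'.left.isoSpec.inv ≫ k'.left ≫ w'.left = Spec.map θ ≫ W'.left.isoSpec.inv ≫ w'.left
    rw [hθ]
    simp
  · rw [← Functor.map_comp_assoc, show toBase sq.str A' = eO ≫ g' from Over.OverMorphism.ext hA',
      (yon S).map_comp eO g', Category.assoc, ← hbot', hpk', ← Functor.map_comp_assoc]
    refine congrArg (fun e => (yon S).map e ≫ bY) (Over.OverMorphism.ext ?_)
    show Spec.map (θ ≫ q) ≫ W'.left.isoSpec.inv ≫ w'.left = O'.left.isoSpec.inv ≫ l'.left ≫ k'.left ≫ w'.left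
    rw [hsθ]
    simp
  · intro x y hx hy
    let μ := ptMap sq.str (Ideal.Quotient.mkₐ sq.A (sq.I.map (algebraMap sq.A A')))
    rw [← htop' _ x (μ ≫ eO) (by
      rw [hx, Category.assoc, ← show toBase sq.str A' = eO ≫ g' from Over.OverMorphism.ext hA', ptMap_toBase])]
    rw [← Functor.map_comp_assoc]
    refine congrArg (fun e => (yon S).map e ≫ aX) (Over.OverMorphism.ext ?_)
    show y.left ≫ P'.left.isoSpec.inv ≫ p'.left = (Spec.map _ ≫ O'.left.isoSpec.inv) ≫ l'.left ≫ p'.left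
    rw [hy, CommRingCat.ofHom_comp, Spec.map_comp,
      show Spec.map (CommRingCat.ofHom q.hom) = O'.left.isoSpec.inv ≫ l'.left ≫ P'.left.isoSpec.hom from hq]
    simp
    rfl

end SmoothFS

/-- charts of a formally smooth morphism are formally smooth -/
theorem isFormallySmoothHom_of_mor_chart {X Y : Sp S} {f : X ⟶ Y} {U V : Over S} {a : (yon S).obj U ⟶ X}
    {b : (yon S).obj V ⟶ Y} {h : U ⟶ V} (ha : RepWith @Etale a) (hb : RepWith @Etale b)
    (w : a ≫ f = (yon S).map h ≫ b) (hf : IsFormallySmoothMor f) : MoreMor.IsFormallySmoothHom h.left := by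
  refine (isFormallySmoothMor_yon_iff h).1 (formallySmooth_of_comp
    ((formallyEtale_iff b).1 (isFormallyEtaleMor_of_repWith hb)).2 ?_)
  rw [← w]
  exact formallySmooth_comp ((formallyEtale_iff a).1 (isFormallyEtaleMor_of_repWith ha)).1 hf

end Groth.Agent.AlgSpLib
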