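import Groth.Agent.AlgSpLib.FppfSpace
import Groth.Agent.AlgSpLib.SmoothSource

/-!
Smooth and etale morphisms of algebraic spaces descend along fppf coverings of the source.
-/

universe u

open CategoryTheory CategoryTheory.Limits AlgebraicGeometry
open AlgSp

noncomputable section

namespace Groth.Agent.AlgSpLib

set_option backward.isDefEq.respectTransparency.types false

variable {S : Scheme.{u}} {X Y : Sp S}

theorem locP_smooth_of_fppf_family (hX : IsAlgSpace X) {ι : Type u} {Xi : ι → Sp S}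
    (g : ∀ i, Xi i ⟶ X) (hXi : ∀ i, IsAlgSpace (Xi i)) (hc : IsFppfCover Xi g) {f : X ⟶ Y}
    (h : ∀ i, LocP @Smooth (g i ≫ f)) : LocP @Smooth f :=
  locP_of_family.{u} (P := @Smooth.{u})
    (R := (@Flat.{u} ⊓ @LocallyOfFinitePresentation.{u} : MorphismProperty Scheme.{u})) etLocal_fppf
    (fun _ hk => ⟨IsZariskiLocalAtSource.sigmaDesc fun i => (hk i).1,
      IsZariskiLocalAtSource.sigmaDesc fun i => (hk i).2⟩)
    (fun _ hk => IsZariskiLocalAtSource.sigmaDesc hk)
    (fun c k hc' hs h => by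
      have : Flat c := hc'.1
      have : LocallyOfFinitePresentation c := hc'.2
      exact smooth_of_comp_fppf c k h)
    hX g hXi (fun i => locP_flat_lfp (hc.1 i).1 (hc.1 i).2) hc.2 h

theorem locP_etale_of_fppf_family (hX : IsAlgSpace X) {ι : Type u} {Xi : ι → Sp S}
    (g : ∀ i, Xi i ⟶ X) (hXi : ∀ i, IsAlgSpace (Xi i)) (hc : IsFppfCover Xi g) {f : X ⟶ Y}
    (h : ∀ i, LocP @Etale (g i ≫ f)) : LocP @Etale f :=
  locP_of_family.{u} (P := @Etale.{u})
    (R := (@Flat.{u} ⊓ @LocallyOfFinitePresentation.{u} : MorphismProperty Scheme.{u})) etLocal_fppf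
    (fun _ hk => ⟨IsZariskiLocalAtSource.sigmaDesc fun i => (hk i).1,
      IsZariskiLocalAtSource.sigmaDesc fun i => (hk i).2⟩)
    (fun _ hk => IsZariskiLocalAtSource.sigmaDesc hk)
    (fun c k hc' hs h => by
      have : Flat c := hc'.1
      have : LocallyOfFinitePresentation c := hc'.2
      exact etale_of_comp_fppf c k h)
    hX g hXi (fun i => locP_flat_lfp (hc.1 i).1 (hc.1 i).2) hc.2 h

theorem smooth_le_flat : @Smooth.{u} ≤ @Flat := fun _ _ f (_ : Smooth f) => (inferInstance : Flat f)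

theorem smooth_le_lfp : @Smooth.{u} ≤ @LocallyOfFinitePresentation :=
  fun _ _ f (_ : Smooth f) => (inferInstance : LocallyOfFinitePresentation f)

theorem isFppfCover_of_isSmCover {ι : Type u} {Xi : ι → Sp S} {g : ∀ i, Xi i ⟶ X}
    (hc : IsSmCover Xi g) : IsFppfCover Xi g :=
  ⟨fun i => ⟨locP_mono smooth_le_flat (hc.1 i), locP_mono smooth_le_lfp (hc.1 i)⟩, hc.2⟩

theorem isLocalOnSource_smooth_smooth :
    IsLocalOnSource (IsSmCover (S := S)) (LocP @Smooth) := by
  intro ι X Xi g hX hXi hc Y f hY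
  exact ⟨fun hf i => locP_comp etLocal_smooth (hXi i) hX hY (hc.1 i) hf,
    fun h => locP_smooth_of_fppf_family hX g hXi (isFppfCover_of_isSmCover hc) h⟩

end Groth.Agent.AlgSpLib
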