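import Groth.Agent.AlgSpLib.SourceLocal
import Groth.Agent.AlgSpLib.MorProper
import Mathlib.AlgebraicGeometry.Sites.Etale
import Mathlib.AlgebraicGeometry.Sites.Fpqc

/-!
Properties of morphisms of schemes local on the source induce properties of morphisms of algebraic
spaces local on the source.
-/

universe u

open CategoryTheory CategoryTheory.Limits AlgebraicGeometry Topology
open AlgSp

noncomputable section

namespace Groth.Agent.AlgSpLib

set_option backward.isDefEq.respectTransparency.types false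

variable {S : Scheme.{u}} {X Y : Sp S} {P R : MorphismProperty Scheme.{u}}
  {K : Precoverage Scheme.{u}}

theorem locP_comp_of_localAtSource [P.IsLocalAtSource K] (hR : EtLocal R)
    (hπ : ∀ {A B : Scheme.{u}} (π : A ⟶ B), Etale π → Surjective π → Presieve.singleton π ∈ K B)
    (hid : ∀ {A B : Scheme.{u}} (d : A ⟶ B), R d → ∃ T : Presieve B, T ∈ K B ∧ T d)
    (hX : IsAlgSpace X) (hY : IsAlgSpace Y) {W : Sp S} (hW : IsAlgSpace W) {g : W ⟶ X}
    (hg : LocP R g) {f : X ⟶ Y} (hf : LocP P f) : LocP P (g ≫ f) := by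
  intro U V a b l ha hb w
  have sqQ := IsPullback.of_hasPullback f b
  have hQ : IsAlgSpace (pullback f b) :=
    isAlgSpace_of_isPullback hY.diag hX (IsAlgSpace.yon_obj V) sqQ
  obtain ⟨E, e, hee, hes⟩ := hQ.atlas
  obtain ⟨k, hk⟩ := (yon S).map_surjective (e ≫ pullback.snd f b)
  have hPk : P k.left := hf (e ≫ pullback.fst f b) b k
    (RepWith.comp hee (RepWith.baseChange sqQ.flip hb)) hb
    (by rw [hk, Category.assoc, pullback.condition, Category.assoc])
  have sqW := IsPullback.of_hasPullback (g ≫ f) b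
  have hQW : IsAlgSpace (pullback (g ≫ f) b) :=
    isAlgSpace_of_isPullback hY.diag hW (IsAlgSpace.yon_obj V) sqW
  let m : pullback (g ≫ f) b ⟶ pullback f b :=
    sqQ.lift (pullback.fst (g ≫ f) b ≫ g) (pullback.snd (g ≫ f) b)
      (by rw [Category.assoc]; exact sqW.w)
  have sqm : IsPullback (pullback.fst (g ≫ f) b) m g (pullback.fst f b) :=
    IsPullback.of_bot (v₂₁ := pullback.snd f b) (by rw [sqQ.lift_snd]; exact sqW)
      (sqQ.lift_fst _ _ _).symm sqQ
  let q₁ : (yon S).obj U ⟶ pullback (g ≫ f) b := sqW.lift a ((yon S).map l) w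
  have hq₁ : RepWith @Etale q₁ := by
    refine repWith_etale_of_comp_etale (IsAlgSpace.yon_obj U) hQW hW (hQW.representable_from_yon q₁)
      (g := pullback.fst (g ≫ f) b) ?_
      (locP_of_repWith etLocal_etale hQW (RepWith.baseChange sqW.flip hb))
    rw [sqW.lift_fst]
    exact locP_of_repWith etLocal_etale (IsAlgSpace.yon_obj U) ha
  have hq : LocP R (q₁ ≫ m) := locP_comp hR (IsAlgSpace.yon_obj U) hQW hQ
    (locP_mono hR.of_etale (locP_of_repWith etLocal_etale (IsAlgSpace.yon_obj U) hq₁))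
    (locP_of_isPullback hR hW hX hQW sqm hg)
  have he := hQ.representable_from_yon e
  have sq := he.isPullback' (q₁ ≫ m)
  have hπe : Etale (he.snd (q₁ ≫ m)).left := hee.property_snd _
  have hπs : Surjective (he.snd (q₁ ≫ m)).left := hes.property _ _ _ (he.isPullback (q₁ ≫ m))
  have hd : R (he.fst' (q₁ ≫ m)).left :=
    hq ((yon S).map (he.snd (q₁ ≫ m))) e _ ((repWith_yon_map_iff _ _).2 hπe) hee sq.w.symm
  obtain ⟨T, hT, hTd⟩ := hid _ hd
  have h1 : P ((he.fst' (q₁ ≫ m)).left ≫ k.left) :=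
    MorphismProperty.IsLocalAtSource.comp hT _ hTd hPk
  have e1 : (he.fst' (q₁ ≫ m)) ≫ k = he.snd (q₁ ≫ m) ≫ l := (yon S).map_injective (by
    rw [Functor.map_comp, hk, ← Category.assoc, sq.w, Category.assoc, Category.assoc,
      sqQ.lift_snd, sqW.lift_snd, Functor.map_comp])
  rw [← Over.comp_left, e1, Over.comp_left] at h1
  exact MorphismProperty.IsLocalAtSource.of_forall_comp (hπ _ hπe hπs)
    (fun _ _ ⟨⟩ => h1)

/-- a chart of each member over a chart of the target of a family -/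
structure FamilyChart {ι : Type u} {Xi : ι → Sp S} (g : ∀ i, Xi i ⟶ X) {U : Over S}
    (a : (yon S).obj U ⟶ X) where
  W : ι → Over S
  e : ∀ i, (yon S).obj (W i) ⟶ pullback (g i) a
  etale : ∀ i, RepWith @Etale (e i)
  surj : ∀ i, RepWith @Surjective (e i)
  c : ∀ i, W i ⟶ U
  fac : ∀ i, (yon S).map (c i) = e i ≫ pullback.snd (g i) a

theorem nonempty_familyChart (hX : IsAlgSpace X) {ι : Type u} {Xi : ι → Sp S} (g : ∀ i, Xi i ⟶ X)
    (hXi : ∀ i, IsAlgSpace (Xi i)) {U : Over S} (a : (yon S).obj U ⟶ X) :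
    Nonempty (FamilyChart g a) := by
  choose W e hee hes using fun i => (isAlgSpace_of_isPullback hX.diag (hXi i) (IsAlgSpace.yon_obj U)
    (IsPullback.of_hasPullback (g i) a)).atlas
  choose c hc using fun i => (yon S).map_surjective (e i ≫ pullback.snd (g i) a)
  exact ⟨⟨W, e, hee, hes, c, hc⟩⟩

theorem FamilyChart.property {ι : Type u} {Xi : ι → Sp S} {g : ∀ i, Xi i ⟶ X} {U : Over S}
    {a : (yon S).obj U ⟶ X} (C : FamilyChart g a) (hR : EtLocal R) (hX : IsAlgSpace X)
    (hXi : ∀ i, IsAlgSpace (Xi i)) (hg : ∀ i, LocP R (g i)) (i : ι) : R (C.c i).left :=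
  locP_of_isPullback hR (hXi i) hX (isAlgSpace_of_isPullback hX.diag (hXi i) (IsAlgSpace.yon_obj U)
      (IsPullback.of_hasPullback (g i) a)) (IsPullback.of_hasPullback (g i) a) (hg i)
    (C.e i) (𝟙 _) (C.c i) (C.etale i) (repWith_id _ U) (by rw [Category.comp_id, C.fac])

theorem FamilyChart.exists_eq {ι : Type u} {Xi : ι → Sp S} {g : ∀ i, Xi i ⟶ X} {U : Over S}
    {a : (yon S).obj U ⟶ X} (C : FamilyChart g a)
    (hsur : ∀ x : Points X, ∃ i, x ∈ Set.range (Points.map (g i))) (u : ↥U.left) :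
    ∃ i, u ∈ Set.range (C.c i).left := by
  obtain ⟨i, z, hz⟩ := hsur (Points.ofPt a u)
  rw [Points.ofPt_eq_map_ofScheme] at hz
  obtain ⟨q, -, hq⟩ := exists_point_of_isPullback (IsPullback.of_hasPullback (g i) a) hz
  obtain ⟨t, rfl⟩ := surjective_ofPt (C.e i) (C.surj i) q
  rw [Points.map_ofPt, ← C.fac, ← Category.comp_id ((yon S).map (C.c i)), ofPt_map] at hq
  exact ⟨i, t, (Points.schemeEquiv U).injective hq⟩

theorem locP_of_localAtSource [P.IsLocalAtSource K] {ι : Type u} {Xi : ι → Sp S}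
    (g : ∀ i, Xi i ⟶ X) (hX : IsAlgSpace X) (hXi : ∀ i, IsAlgSpace (Xi i))
    (hmem : ∀ {U : Over S} (a : (yon S).obj U ⟶ X) (C : FamilyChart g a),
      Presieve.ofArrows (fun i => (C.W i).left) (fun i => (C.c i).left) ∈ K U.left)
    {f : X ⟶ Y} (h : ∀ i, LocP P (g i ≫ f)) : LocP P f := by
  intro U V a b l ha hb w
  obtain ⟨C⟩ := nonempty_familyChart hX g hXi a
  refine MorphismProperty.IsLocalAtSource.of_forall_comp (hmem a C) ?_
  rintro _ _ ⟨i⟩
  rw [← Over.comp_left]
  refine h i (C.e i ≫ pullback.fst (g i) a) b (C.c i ≫ l)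
    (RepWith.comp (C.etale i) (RepWith.baseChange (IsPullback.of_hasPullback (g i) a).flip ha)) hb ?_
  rw [Category.assoc, ← Category.assoc (pullback.fst (g i) a), pullback.condition, Category.assoc, w,
    ← Category.assoc (C.e i), ← C.fac, ← Category.assoc, ← Functor.map_comp]

theorem singleton_mem_precoverage (hle : @Etale.{u} ≤ R) {A B : Scheme.{u}} (π : A ⟶ B)
    (he : Etale π) (hs : Surjective π) : Presieve.singleton π ∈ Scheme.precoverage R B := by
  rw [← Presieve.ofArrows_pUnit.{u}]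
  exact (π.cover (P := R) (hle _ _ _ he)).mem₀

/-- `d` together with the identity -/
def optCover {A B : Scheme.{u}} (d : A ⟶ B) : PreZeroHypercover.{u} B where
  I₀ := Option PUnit.{u + 1}
  X o := o.elim B fun _ => A
  f o := match o with | none => 𝟙 B | some _ => d

theorem optCover_mem (hle : @Etale.{u} ≤ R) {A B : Scheme.{u}} (d : A ⟶ B) (hd : R d) :
    (optCover d).presieve₀ ∈ Scheme.precoverage R B :=
  (Scheme.presieve₀_mem_precoverage_iff (optCover d)).2 ⟨fun x => ⟨none, x, rfl⟩,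
    fun o => match o with
      | none => hle _ _ _ (inferInstanceAs (Etale (𝟙 B)))
      | some _ => hd⟩

theorem isLocalOnSource_of_isCover [P.IsLocalAtSource (Scheme.precoverage R)] (hR : EtLocal R)
    {Q : MorphismProperty (Sp S)}
    (hQ : ∀ ⦃A B : Sp S⦄ (g : A ⟶ B), IsAlgSpace A → IsAlgSpace B → Q g → LocP R g) :
    IsLocalOnSource (fun _ _ Xi g => IsCover Q Xi g) (LocP P) := by
  intro ι X Xi g hX hXi hc Y f hY
  have hg : ∀ i, LocP R (g i) := fun i => hQ (g i) (hXi i) hX (hc.1 i)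
  refine ⟨fun hf i => locP_comp_of_localAtSource (K := Scheme.precoverage R) hR
      (singleton_mem_precoverage hR.of_etale)
      (fun d hd => ⟨_, optCover_mem hR.of_etale d hd, Presieve.ofArrows.mk (some PUnit.unit)⟩)
      hX hY (hXi i) (hg i) hf,
    locP_of_localAtSource (K := Scheme.precoverage R) g hX hXi fun a C => ?_⟩
  exact (Scheme.presieve₀_mem_precoverage_iff (PreZeroHypercover.mk ι _ fun i => (C.c i).left)).2
    ⟨C.exists_eq hc.2, C.property hR hX hXi hg⟩

theorem FamilyChart.exists_qc_opens {ι : Type u} {Xi : ι → Sp S} {g : ∀ i, Xi i ⟶ X}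
    (hX : IsAlgSpace X) (hXi : ∀ i, IsAlgSpace (Xi i)) (hc : IsFpqcCover Xi g) {U : Over S}
    {a : (yon S).obj U ⟶ X} (C : FamilyChart g a) {O : U.left.Opens} (hO : IsAffineOpen O) :
    ∃ (m : ℕ) (i : Fin m → ι) (B : ∀ j, (C.W (i j)).left.Opens),
      (∀ j, IsCompact (B j : Set (C.W (i j)).left)) ∧
      ⋃ j, (C.c (i j)).left '' (B j : Set (C.W (i j)).left) = (O : Set U.left) := by
  let Z : Over S := Over.mk (O.ι ≫ U.hom)
  let u : Z ⟶ U := Over.homMk O.ι
  obtain ⟨m, W', c', hW', -, hsur, hlift⟩ := hc.2 Z hO ((yon S).map u ≫ a)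
  choose i l hl using hlift
  have key : ∀ j, ∃ B : (C.W (i j)).left.Opens, IsCompact (B : Set (C.W (i j)).left) ∧
      (C.c (i j)).left '' B ⊆ O ∧
      Set.range ((c' j).left ≫ O.ι) ⊆ (C.c (i j)).left '' B := fun j => by
    have sqQ := IsPullback.of_hasPullback (g (i j)) a
    let w : (yon S).obj (W' j) ⟶ pullback (g (i j)) a :=
      sqQ.lift (l j) ((yon S).map (c' j ≫ u)) (by rw [hl j, Functor.map_comp, Category.assoc])
    have hQ : IsAlgSpace (pullback (g (i j)) a) :=
      isAlgSpace_of_isPullback hX.diag (hXi _) (IsAlgSpace.yon_obj U) sqQ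
    have he := hQ.representable_from_yon (C.e (i j))
    have sq := he.isPullback' w
    let p := (he.snd w).left
    have : Etale p := (C.etale (i j)).property_snd w
    have : Surjective p := (C.surj (i j)).property _ _ _ (he.isPullback w)
    have hcomp : he.fst' w ≫ C.c (i j) = he.snd w ≫ c' j ≫ u := (yon S).map_injective (by
      rw [Functor.map_comp, C.fac, ← Category.assoc, sq.w, Category.assoc, sqQ.lift_snd]
      simp only [Functor.map_comp])
    have := hW' j
    obtain ⟨A : (he.pullback w).left.Opens, hA, hAe⟩ :=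
      p.isOpenMap.exists_opens_image_eq_of_prespectralSpace p.continuous (by simp [p.surjective.range_eq])
        isOpen_univ isCompact_univ
    have him : (he.fst' w).left '' A ⊆ ((C.c (i j)).left ⁻¹ᵁ O : Set (C.W (i j)).left) := by
      rintro _ ⟨t, -, rfl⟩
      show ((he.fst' w).left ≫ (C.c (i j)).left) t ∈ O
      rw [← Over.comp_left, hcomp]
      exact ((he.snd w ≫ c' j).left t).2
    obtain ⟨B : (C.W (i j)).left.Opens, hAB, hBc, hBO⟩ :
        ∃ B : (C.W (i j)).left.Opens, (he.fst' w).left '' A ⊆ B ∧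
          IsCompact (B : Set (C.W (i j)).left) ∧ B ≤ (C.c (i j)).left ⁻¹ᵁ O := by
      obtain ⟨σ, hσ⟩ := (hA.image (he.fst' w).left.continuous).elim_finite_subcover
        (fun B : {B : (C.W (i j)).left.affineOpens // B.1 ≤ (C.c (i j)).left ⁻¹ᵁ O} =>
          (B.1.1 : Set (C.W (i j)).left)) (fun B => B.1.1.2) (fun x hx => by
            obtain ⟨_, ⟨B, hB, rfl⟩, hxB, hle⟩ :=
              (C.W (i j)).left.isBasis_affineOpens.exists_subset_of_mem_open (him hx)
                ((C.c (i j)).left ⁻¹ᵁ O).2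
            exact Set.mem_iUnion.2 ⟨⟨⟨B, hB⟩, hle⟩, hxB⟩)
      refine ⟨⟨⋃ B ∈ σ, (B.1.1 : Set (C.W (i j)).left), isOpen_biUnion fun B _ => B.1.1.2⟩, hσ,
        σ.finite_toSet.isCompact_biUnion fun B _ => B.1.2.isCompact, fun x hx => ?_⟩
      obtain ⟨B, -, hxB⟩ := Set.mem_iUnion₂.1 hx
      exact B.2 hxB
    refine ⟨B, hBc, Set.image_subset_iff.2 hBO, ?_⟩
    rintro _ ⟨t, rfl⟩
    obtain ⟨s, hs, rfl⟩ := hAe.ge (Set.mem_univ t)
    refine ⟨(he.fst' w).left s, hAB ⟨s, hs, rfl⟩, ?_⟩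
    rw [← Scheme.Hom.comp_apply, ← Over.comp_left, hcomp]
    rfl
  choose B hBc hBO hBr using key
  refine ⟨m, i, B, hBc, subset_antisymm (Set.iUnion_subset hBO) fun x hx => ?_⟩
  obtain ⟨j, t, ht⟩ := hsur ⟨x, hx⟩
  exact Set.mem_iUnion.2 ⟨j, hBr j ⟨t, by rw [Scheme.Hom.comp_apply, ht]; rfl⟩⟩

theorem singleton_mem_fpqc {A B : Scheme.{u}} (π : A ⟶ B) (he : Etale π) (hs : Surjective π) :
    Presieve.singleton π ∈ Scheme.fpqcPrecoverage B :=
  Scheme.fppfPrecoverage_le_fpqcPrecoverage _ (π.singleton_mem_fppfPrecoverage)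

theorem optCover_mem_fpqc {A B : Scheme.{u}} (d : A ⟶ B) (hd : Flat d) :
    (optCover d).presieve₀ ∈ Scheme.fpqcPrecoverage B := by
  refine ⟨(Scheme.presieve₀_mem_qcPrecoverage_iff).2 ?_, optCover_mem etale_le_flat d hd⟩
  exact QuasiCompactCover.of_hom (𝒱 := PreZeroHypercover.singleton.{u} (𝟙 B))
    { s₀ := fun _ => none, h₀ := fun _ => 𝟙 B, w₀ := fun _ => Category.id_comp _ }

theorem isLocalOnSource_fpqc_of_isLocalAtSource [P.IsLocalAtSource Scheme.fpqcPrecoverage] :
    IsLocalOnSource (IsFpqcCover (S := S)) (LocP P) := by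
  intro ι X Xi g hX hXi hc Y f hY
  refine ⟨fun hf i => locP_comp_of_localAtSource (K := Scheme.fpqcPrecoverage) (R := @Flat.{u})
      etLocal_flat singleton_mem_fpqc
      (fun d hd => ⟨_, optCover_mem_fpqc d hd, Presieve.ofArrows.mk (some PUnit.unit)⟩)
      hX hY (hXi i) (hc.1 i) hf,
    locP_of_localAtSource (K := Scheme.fpqcPrecoverage) g hX hXi fun a C => ⟨?_, ?_⟩⟩
  · refine (Scheme.presieve₀_mem_qcPrecoverage_iff
      (E := PreZeroHypercover.mk ι _ fun i => (C.c i).left)).2 ⟨fun {O} hO => ?_⟩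
    obtain ⟨m, i, B, hB, he⟩ := C.exists_qc_opens hX hXi hc hO
    exact .of_finite i B hB he
  · exact (Scheme.presieve₀_mem_precoverage_iff
      (PreZeroHypercover.mk ι _ fun i => (C.c i).left)).2
      ⟨C.exists_eq (surjective_of_isFpqcCover hc), C.property etLocal_flat hX hXi hc.1⟩

end Groth.Agent.AlgSpLib
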