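import Groth.Agent.AlgSpLib.Points
import Groth.Agent.AlgSpLib.PointsTop
import Groth.Agent.AlgSpLib.LargestOpen
import Groth.Prelude.Def_AlgSpCov

/-!
Covering sieves of the big etale site of algebraic spaces.
-/

universe u

open CategoryTheory CategoryTheory.Limits AlgebraicGeometry Opposite
open AlgSp

noncomputable section

namespace Groth.Agent.AlgSpLib

set_option backward.isDefEq.respectTransparency.types false
set_option backward.isDefEq.respectTransparency false

variable {S : Scheme.{u}}

theorem mem_spacesTop_of_forall {T : Space S} (R : Sieve T)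
    (h : ∀ x : Points T.obj, ∃ (Y : Space S) (g : Y ⟶ T),
      R g ∧ IsEtaleMor g.hom ∧ x ∈ Set.range (Points.map g.hom)) :
    R ∈ spacesTop S IsEtaleMor T := by
  let P : Presieve T := fun Y => {g | R g ∧ IsEtaleMor g.hom}
  refine GrothendieckTopology.superset_covering _ (S := Sieve.generate P)
    ((Sieve.generate_le_iff P R).2 fun Y g hg => hg.1) (Precoverage.generate_mem_toGrothendieck ?_)
  refine ⟨fun Y g hg => hg.2, fun x => ?_⟩
  obtain ⟨Y, g, hR, he, hx⟩ := h x
  exact ⟨Y, g, ⟨hR, he⟩, hx⟩

/-- a covering sieve contains, after pulling back to a scheme, etale maps of schemes through every point -/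
theorem exists_etale_of_mem_spacesTop {T : Space S} {R : Sieve T} (hR : R ∈ spacesTop S IsEtaleMor T)
    {U : Over S} (a : (ofScheme S).obj U ⟶ T) (u : ↥U.left) :
    ∃ (W : Over S) (g : W ⟶ U), Etale g.left ∧ R ((ofScheme S).map g ≫ a) ∧ u ∈ Set.range g.left := by
  change Precoverage.Saturate _ T R at hR
  induction hR generalizing U with
  | of T P hP =>
    obtain ⟨Y, g, hg, y, hy⟩ := hP.2 (Points.ofPt a.hom u)
    have sq := IsPullback.of_hasPullback g.hom a.hom
    obtain ⟨z, -, hz⟩ := exists_point_of_isPullback sq (x := y) (y := Points.ofScheme _ u)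
      (hy.trans (Points.ofPt_eq_map_ofScheme _ _))
    have hZ : IsAlgSpace (pullback g.hom a.hom) := Groth.Agent.AlgSpLib.isAlgSpace_pullback g.hom a.hom
    obtain ⟨V, b, hbe, hbs⟩ := hZ.atlas
    obtain ⟨v, hv⟩ := surjective_map_of_repWith hbs z
    obtain ⟨v', rfl⟩ := (Points.schemeEquiv _).surjective v
    have he : IsEtaleMor (pullback.snd g.hom a.hom) :=
      covClass_etale.bc Y.property T.property (IsAlgSpace.yon_obj U) hZ sq (hP.1 g hg)
    obtain ⟨c, hc⟩ := (yon S).map_surjective (b ≫ pullback.snd g.hom a.hom)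
    refine ⟨V, c, (repWith_yon_map_iff _ _).1 (hc ▸ he b hbe), ?_, v', ?_⟩
    · refine ⟨Y, ObjectProperty.homMk (b ≫ pullback.fst g.hom a.hom), g, hg, ?_⟩
      ext : 1
      change (b ≫ pullback.fst g.hom a.hom) ≫ g.hom = (yon S).map c ≫ a.hom
      rw [hc, Category.assoc, Category.assoc, pullback.condition]
    · apply (Points.schemeEquiv U).injective
      refine (map_yon_map_ofScheme c v').symm.trans ?_
      rw [hc, Points.map_comp]
      exact (congrArg _ hv).trans hz
  | top T =>
    exact ⟨U, 𝟙 U, (inferInstance : Etale (𝟙 U.left)), trivial, u, rfl⟩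
  | pullback T R _ T' f ih =>
    obtain ⟨W, g, hge, hg, hu⟩ := ih (a ≫ f) u
    exact ⟨W, g, hge, (by rw [← Category.assoc] at hg; exact hg), hu⟩
  | transitive T R R' _ _ ih ih' =>
    obtain ⟨W, g, hge, hg, w, hw⟩ := ih a u
    obtain ⟨W', g', hge', hg', w', hw'⟩ := ih' hg (𝟙 _) w
    refine ⟨W', g' ≫ g, ?_, ?_, w', ?_⟩
    · haveI := hge
      haveI := hge'
      exact (inferInstance : Etale (g'.left ≫ g.left))
    · rw [Category.comp_id] at hg'
      rw [Functor.map_comp, Category.assoc]
      exact hg'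
    · change g.left (g'.left w') = u
      rw [hw', hw]

end Groth.Agent.AlgSpLib
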