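import Groth.Agent.AlgSpLib.DenseFinite
import Groth.Agent.Split8.Main
import Mathlib.AlgebraicGeometry.Morphisms.UniversallyOpen

/-!
Separated etale morphisms split after a finite etale cover near a generic point.
-/

universe u

open CategoryTheory CategoryTheory.Limits AlgebraicGeometry
open TopologicalSpace

noncomputable section

namespace Groth.Agent.AlgSpLib

set_option backward.isDefEq.respectTransparency.types false
set_option backward.isDefEq.respectTransparency false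

theorem exists_split_nhd {R T : Scheme.{u}} [IsAffine T] (ρ : R ⟶ T) [Etale ρ] [IsSeparated ρ] [CompactSpace R]
    [Surjective ρ] {η : ↥T} (hgen : ∀ t, η ⤳ t) (hmax : ∀ t, t ⤳ η → t = η) :
    ∃ (N : T.Opens), η ∈ N ∧ IsAffineOpen N ∧ ∃ (Y : Scheme.{u}) (τ : Y ⟶ N.toScheme),
      IsFinite τ ∧ Etale τ ∧ Surjective τ ∧ ∃ (n : ℕ) (σ : Fin n → (Y ⟶ R)), 0 < n ∧ (∀ i, σ i ≫ ρ = τ ≫ N.ι) ∧
        ∀ (Ω : Type u) [Field Ω] [IsSepClosed Ω] (y : Spec (CommRingCat.of Ω) ⟶ Y)
          (v : Spec (CommRingCat.of Ω) ⟶ R), v ≫ ρ = y ≫ τ ≫ N.ι → ∃ i, v = y ≫ σ i := by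
  have := locallyQuasiFinite_of_etale ρ
  haveI : QuasiCompact ρ := quasiCompact_of_compactSpace ρ
  have hlift : ∀ r, ∃ r', r' ⤳ r ∧ ρ r' = η := fun r => Flat.generalizingMap ρ (hgen (ρ r))
  obtain ⟨N₀, hηN₀, hN₀⟩ :=
    exists_isFinite_of_finite_fibre_of_generic ρ hmax (ρ.finite_preimage_singleton η) hlift
  obtain ⟨N, hN, hηN, hle⟩ := exists_isAffineOpen_mem_and_subset (x := η) (U := N₀) hηN₀
  let φ := pullback.snd ρ N.ι
  have hφe : Etale φ := MorphismProperty.pullback_snd _ _ inferInstance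
  have hφs : Surjective φ := MorphismProperty.pullback_snd _ _ inferInstance
  have hφf : IsFinite φ := by
    have sq := (IsPullback.of_hasPullback (ρ ∣_ N₀) (T.homOfLE hle)).paste_horiz
      (isPullback_morphismRestrict ρ N₀).flip
    rw [Scheme.homOfLE_ι] at sq
    show IsFinite (pullback.snd ρ N.ι)
    rw [← (IsPullback.of_hasPullback ρ N.ι).isoIsPullback_hom_snd _ _ sq]
    infer_instance
  haveI := hφe
  haveI := hφf
  haveI := hφs
  let η' : ↥N.toScheme := ⟨η, hηN⟩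
  have hd : ∀ t, φ.finrank t = φ.finrank η' := by
    intro t
    have hsp : η' ⤳ t := (subtype_specializes_iff _ _).2 (hgen t.1)
    exact ((φ.isLocallyConstant_finrank).isOpen_fiber (φ.finrank t)).mem_nhds rfl |>
      fun h => (mem_of_mem_nhds (hsp h) : η' ∈ {x | φ.finrank x = φ.finrank t}).symm
  let d := φ.finrank η'
  have hd0 : 0 < d := (φ.one_le_finrank_iff_surjective.2 inferInstance) η'
  obtain ⟨Y, τ, hτf, hτe, hτd, σ, hσ, hinj⟩ := Split8.exists_splitting d _ _ φ hd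
  haveI := hτf
  haveI := hτe
  refine ⟨N, hηN, hN, Y, τ, hτf, hτe, τ.one_le_finrank_iff_surjective.1 fun s => ?_, d,
    fun i => σ i ≫ pullback.fst ρ N.ι, hd0, fun i => ?_, fun Ω _ _ y v hyv => ?_⟩
  · rw [hτd s]; exact Nat.factorial_pos d
  · rw [Category.assoc, pullback.condition, ← hσ i, Category.assoc]
  let v' := pullback.lift v (y ≫ τ) (by rw [hyv, Category.assoc] : v ≫ ρ = (y ≫ τ) ≫ N.ι)
  obtain ⟨hfp, hcp, -⟩ := Et18.card_pointLift φ (y ≫ τ)
  haveI := hfp
  let ev : Fin d → Et18.PointLift φ (y ≫ τ) := fun i => ⟨y ≫ σ i, by rw [Category.assoc, hσ]⟩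
  have hev : Function.Injective ev := fun i j h => hinj Ω y (congrArg Subtype.val h)
  have hb := hev.bijective_of_nat_card_le (by rw [hcp, hd, Nat.card_eq_fintype_card, Fintype.card_fin])
  obtain ⟨i, hi⟩ := hb.2 ⟨v', pullback.lift_snd _ _ _⟩
  refine ⟨i, ?_⟩
  rw [← Category.assoc, show y ≫ σ i = v' from congrArg Subtype.val hi]
  exact (pullback.lift_fst _ _ _).symm

end Groth.Agent.AlgSpLib
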