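import Groth.Agent.AlgSpLib.RelDimLocus
import Groth.Agent.AlgSpLib.LqfScheme
import Groth.Agent.AlgSpLib.WhereLocus
import Groth.Agent.AlgSpLib.FpqcBaseAffine2
import Groth.Agent.AlgSpLib.MorSep
import Groth.Agent.AlgSpLib.FiniteQFPoints
import Groth.Agent.FlatMor12.EtaleSplitting
import Groth.Agent.FlatMorWeight.Positive

/-!
Etale neighbourhoods splitting off finite parts of separated morphisms of algebraic spaces.
-/

universe u

open CategoryTheory CategoryTheory.Limits AlgebraicGeometry
open AlgSp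

noncomputable section

namespace Groth.Agent.AlgSpLib

set_option backward.isDefEq.respectTransparency.types false

variable {S : Scheme.{u}} {X Y : Sp S}

/-- a monomorphism of open immersion type with closed image is a closed immersion -/
theorem repWith_closedImmersion_of_openImm_isClosed {F G : Sp S} {j : F ⟶ G}
    (hj : RepWith @IsOpenImmersion j) (hcl : IsClosed (Set.range (Points.map j))) :
    RepWith @IsClosedImmersion j := by
  refine ⟨hj.1, fun T W g fst snd sq => ?_⟩
  have : IsOpenImmersion snd.left := hj.2 g fst snd sq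
  refine IsClosedImmersion.of_isPreimmersion snd.left ?_
  have e : Set.range snd.left = Points.ofPt g ⁻¹' Set.range (Points.map j) := by
    ext t
    constructor
    · rintro ⟨w, rfl⟩
      exact ⟨Points.ofPt fst w, by rw [Points.map_ofPt, sq.w, ofPt_map]⟩
    · rintro ⟨x, hx⟩
      rw [Points.ofPt_eq_map_ofScheme] at hx
      obtain ⟨q, -, hq⟩ := exists_point_of_isPullback sq hx
      obtain ⟨w, rfl⟩ := (Points.schemeEquiv _).surjective q
      exact ⟨w, (Points.schemeEquiv T).injective ((map_yon_map_ofScheme _ w).symm.trans hq)⟩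
  rw [e]
  exact hcl.preimage (Points.continuous_ofPt g)

theorem hasAtMor_lqf_of_etale_chart (hY : IsAlgSpace Y) {V : Over S} (b : (yon S).obj V ⟶ Y)
    (hbe : RepWith @Etale b) (z : Points ((yon S).obj V)) :
    HasAtMor (fun U _ h u => ∃ W : U.Opens, u ∈ W ∧ LocallyQuasiFinite (W.ι ≫ h) ∧
      LocallyOfFiniteType (W.ι ≫ h)) b z := by
  obtain ⟨v, rfl⟩ := (Points.schemeEquiv V).surjective z
  refine ⟨V, V, 𝟙 _, b, 𝟙 _, v, repWith_id _ V, hbe, by simp, ?_, ⊤, trivial, ?_, ?_⟩
  · rw [Points.ofPt_eq_map_ofScheme, Points.map_id]; rfl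
  · have : LocallyQuasiFinite (𝟙 V : V ⟶ V).left := inferInstanceAs (LocallyQuasiFinite (𝟙 V.left))
    infer_instance
  · have : LocallyOfFiniteType (𝟙 V : V ⟶ V).left := inferInstanceAs (LocallyOfFiniteType (𝟙 V.left))
    infer_instance

/-- splitting off finite parts through finitely many quasi-finite points over a point of a chart -/
theorem exists_split_chart (hX : IsAlgSpace X) (hY : IsAlgSpace Y) (f : X ⟶ Y) (hl : LocP @LocallyOfFiniteType f)
    (hsep : IsSeparatedMor f) {V : Over S} (b : (yon S).obj V ⟶ Y) (hbe : RepWith @Etale b) (v : ↥V.left)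
    {ι : Type} [Finite ι] (p : ι → Points (pullback f b))
    (hp : ∀ i, Points.map (pullback.snd f b) (p i) = Points.ofScheme V v)
    (hq : ∀ i, HasAtMor (fun U _ h u => ∃ W : U.Opens, u ∈ W ∧ LocallyQuasiFinite (W.ι ≫ h) ∧
      LocallyOfFiniteType (W.ι ≫ h)) f (Points.map (pullback.fst f b) (p i))) :
    ∃ (U : Over S) (b' : (yon S).obj U ⟶ Y) (u : ↥U.left) (ρ : pullback f b' ⟶ pullback f b),
      RepWith @Etale b' ∧ Points.ofPt b' u = Points.ofPt b v ∧ ρ ≫ pullback.fst f b = pullback.fst f b' ∧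
      (∀ w, Points.map (pullback.snd f b') w = Points.ofScheme U u →
        Points.map (pullback.snd f b) (Points.map ρ w) = Points.ofScheme V v) ∧
      ∃ (O : Over S) (jV : (yon S).obj O ⟶ pullback f b'),
        RepWith @IsOpenImmersion jV ∧ RepWith @IsClosedImmersion jV ∧ IsFiniteMor (jV ≫ pullback.snd f b') ∧
        (∀ w, Points.map (pullback.snd f b') w = Points.ofScheme U u → Points.map ρ w ∈ Set.range p →
          w ∈ Set.range (Points.map jV)) ∧
        (∀ z, Points.map (jV ≫ pullback.snd f b') z = Points.ofScheme U u →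
          Points.map (jV ≫ ρ) z ∈ Set.range p) ∧
        (∀ i, ∃ z, Points.map (jV ≫ pullback.snd f b') z = Points.ofScheme U u ∧
          Points.map (jV ≫ ρ) z = p i) := by
  classical
  have hV := IsAlgSpace.yon_obj (S := S) V
  have sqP := IsPullback.of_hasPullback f b
  have hP := isAlgSpace_of_isPullback hY.diag hX hV sqP
  have hsl : LocP @LocallyOfFiniteType (pullback.snd f b) := locP_of_isPullback etLocal_lft hX hY hP sqP hl
  obtain ⟨W, hWo, hWmem, hWlqf⟩ := exists_lqf_locus hP hV hsl
  have hW := isAlgSpace_openSubspace hP hWo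
  have hrep := representable_of_lqf_separated' hW hV (openSubspaceι _ W ≫ pullback.snd f b)
    (isSeparatedMor_comp (isSeparatedMor_of_mono _) (isSeparatedMor_of_isPullback sqP hsep)) hWlqf
  have sqW := hrep.isPullback (𝟙 _)
  let Ws := hrep.pullback (𝟙 ((yon S).obj V))
  let w : Ws ⟶ V := hrep.snd (𝟙 _)
  have hfst : RepWith @IsOpenImmersion (hrep.fst (𝟙 _)) := RepWith.baseChange sqW.flip (repWith_id _ V)
  let J : (yon S).obj Ws ⟶ pullback f b := hrep.fst (𝟙 _) ≫ openSubspaceι _ W
  have hJ : RepWith @IsOpenImmersion J := RepWith.comp hfst (repWith_openSubspaceι _ hWo)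
  have hJw : J ≫ pullback.snd f b = (yon S).map w := by
    rw [Category.assoc, sqW.w, Category.comp_id]
  obtain ⟨hwq, hwl⟩ := hWlqf (hrep.fst (𝟙 _)) (𝟙 _) w
    (RepWith.mono (fun _ _ g (_ : IsOpenImmersion g) => (inferInstance : Etale g)) hfst) (repWith_id _ V)
    (by rw [sqW.w])
  have : LocallyQuasiFinite w.left := hwq
  have : LocallyOfFiniteType w.left := hwl
  have : IsSeparated w.left := (isSeparatedMor_yon_map_iff w).1 (isSeparatedMor_of_isPullback sqW
    (isSeparatedMor_comp (isSeparatedMor_of_mono _) (isSeparatedMor_of_isPullback sqP hsep)))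
  -- the lifted points
  have hz : ∀ i, ∃ z : ↥Ws.left, Points.map J (Points.ofScheme Ws z) = p i ∧ w.left z = v := fun i => by
    have hmem : p i ∈ W := (hWmem _).2 ((relDim_baseChange hX hY hV hP sqP hl (p i) (fun d => d = 0)).2
      ((hasAtMor_lqf_iff hX hY hl _).1 (hq i)))
    obtain ⟨y, hy⟩ := (range_openSubspaceι _ W).ge hmem
    obtain ⟨z', hz1, hz2⟩ := exists_point_of_isPullback sqW (x := y) (y := Points.ofScheme V v)
      (by rw [Points.map_id, Points.map_comp, hy, hp])
    obtain ⟨z, rfl⟩ := (Points.schemeEquiv _).surjective z'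
    refine ⟨z, ?_, (Points.schemeEquiv V).injective ((map_yon_map_ofScheme _ z).symm.trans hz2)⟩
    rw [Points.map_comp]
    exact (congrArg _ hz1).trans hy
  choose z hz1 hz2 using hz
  obtain ⟨U₀, g, u, hg, hgu, K, hK, Vp, vp, -, -, h3, h4⟩ :=
    FlatMor12.exists_etale_separating w.left v z hz2 (fun i => w.left.quasiFiniteAt (z i))
  let U : Over S := Over.mk (g ≫ V.hom)
  let g' : U ⟶ V := Over.homMk g rfl
  let b' := (yon S).map g' ≫ b
  have hbe' : RepWith @Etale b' := RepWith.comp ((repWith_yon_map_iff (P := @Etale) g').2 hg) hbe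
  have sqP' := IsPullback.of_hasPullback f b'
  let ρ : pullback f b' ⟶ pullback f b := sqP.lift (pullback.fst f b') (pullback.snd f b' ≫ (yon S).map g')
    (by rw [Category.assoc]; exact sqP'.w)
  have sqρ : IsPullback ρ (pullback.snd f b') (pullback.snd f b) ((yon S).map g') :=
    IsPullback.of_right (h₁₂ := pullback.fst f b) (by rw [sqP.lift_fst]; exact sqP') (sqP.lift_snd _ _ _) sqP
  let Wp : Over S := Over.mk (pullback.fst w.left g ≫ Ws.hom)
  let pW : Wp ⟶ Ws := Over.homMk (pullback.fst w.left g)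
  let qW : Wp ⟶ U := Over.homMk (pullback.snd w.left g) (by
    show pullback.snd w.left g ≫ g ≫ V.hom = pullback.fst w.left g ≫ Ws.hom
    rw [← Over.w w, ← Category.assoc, ← pullback.condition, Category.assoc])
  have sqWp : IsPullback pW qW w g' :=
    IsPullback.of_map (Over.forget S) (Over.OverMorphism.ext pullback.condition)
      (IsPullback.of_hasPullback w.left g)
  let κ : (yon S).obj Wp ⟶ pullback f b' := sqρ.lift ((yon S).map pW ≫ J) ((yon S).map qW)
    (by rw [Category.assoc, hJw]; exact (sqWp.map (yon S)).w)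
  have sqκ : IsPullback ((yon S).map pW) κ J ρ :=
    IsPullback.of_bot (by rw [sqρ.lift_snd, hJw]; exact sqWp.map (yon S)) (sqρ.lift_fst _ _ _).symm sqρ
  have hκ : RepWith @IsOpenImmersion κ := RepWith.baseChange sqκ hJ
  have := fun i => Fintype.ofFinite (K i)
  have := Fintype.ofFinite ι
  let σ : Finset (Σ i, K i) := Finset.univ
  let O₀ : (pullback w.left g).Opens := σ.sup fun a => Vp a.1 a.2
  have hfin : IsFinite (O₀.ι ≫ pullback.snd w.left g) :=
    FlatMorWeight.isFinite_of_opens_cover (pullback.snd w.left g) σ (fun a => Vp a.1 a.2)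
      fun a _ => (h3 a.1 a.2).2.1
  let O : Over S := Over.mk (O₀.ι ≫ Wp.hom)
  let oι : O ⟶ Wp := Over.homMk O₀.ι rfl
  let jV := (yon S).map oι ≫ κ
  have hj : RepWith @IsOpenImmersion jV :=
    RepWith.comp ((repWith_yon_map_iff (P := @IsOpenImmersion) oι).2 (inferInstanceAs (IsOpenImmersion O₀.ι))) hκ
  have hjs : jV ≫ pullback.snd f b' = (yon S).map (oι ≫ qW) := by
    rw [Functor.map_comp, Category.assoc, sqρ.lift_snd]
  have hjρ : jV ≫ ρ = (yon S).map (oι ≫ pW) ≫ J := by
    rw [Functor.map_comp, Category.assoc, Category.assoc, sqρ.lift_fst]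
  have hfin' : IsFiniteMor (jV ≫ pullback.snd f b') := by
    rw [hjs, isFiniteMor_iff_repWith]
    exact (repWith_yon_map_iff (P := @IsFinite) _).2 hfin
  have hU := IsAlgSpace.yon_obj (S := S) U
  have hP' := isAlgSpace_of_isPullback hY.diag hX hU sqP'
  have hclosed : RepWith @IsClosedImmersion jV := by
    refine repWith_closedImmersion_of_openImm_isClosed hj ?_
    have hfr := (isFiniteMor_iff_repWith _).1 hfin'
    have huc : IsUnivClosedMor (jV ≫ pullback.snd f b') := (repWith_universallyClosed_iff hfr.1).1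
      (RepWith.mono (fun _ _ h (_ : IsFinite h) => (inferInstance : UniversallyClosed h)) hfr)
    have := isUnivClosedMor_of_comp_separated (IsAlgSpace.yon_obj O) hP' hU huc
      (isSeparatedMor_of_isPullback sqP' hsep)
    exact (isClosedMap_of_univClosed hP' this).isClosed_range
  have hmemO : ∀ (a : Σ i, K i) (r : ↥(pullback w.left g)), r ∈ Vp a.1 a.2 → r ∈ O₀ := fun a r hr =>
    (Finset.le_sup (f := fun a => Vp a.1 a.2) (Finset.mem_univ a)) hr
  refine ⟨U, b', u, ρ, hbe', by rw [ofPt_map]; exact congrArg _ hgu, sqP.lift_fst _ _ _, fun q hq => ?_,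
    O, jV, hj, hclosed, hfin', fun q hqu hqp => ?_, fun q hqu => ?_, fun i => ?_⟩
  · rw [← Points.map_comp, sqρ.w, Points.map_comp, hq, map_yon_map_ofScheme]
    exact congrArg _ hgu
  · obtain ⟨i, hi⟩ := hqp
    obtain ⟨r', hr1, hr2⟩ := exists_point_of_isPullback sqκ (x := Points.ofScheme Ws (z i)) (y := q)
      (by rw [hz1, hi])
    obtain ⟨r, rfl⟩ := (Points.schemeEquiv _).surjective r'
    have e1 : pullback.fst w.left g r = z i :=
      (Points.schemeEquiv Ws).injective ((map_yon_map_ofScheme pW r).symm.trans hr1)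
    have e2 : pullback.snd w.left g r = u := by
      refine (Points.schemeEquiv U).injective ((map_yon_map_ofScheme qW r).symm.trans ?_)
      rw [← show κ ≫ pullback.snd f b' = (yon S).map qW from sqρ.lift_snd _ _ _, Points.map_comp]
      exact (congrArg _ hr2).trans hqu
    obtain ⟨k, hk⟩ := h4 r i e2 e1
    refine ⟨Points.ofScheme O (⟨r, hmemO ⟨i, k⟩ r hk⟩ : O₀), ?_⟩
    rw [Points.map_comp, map_yon_map_ofScheme]
    exact hr2
  · obtain ⟨r, rfl⟩ := (Points.schemeEquiv _).surjective q
    have e2 : pullback.snd w.left g (O₀.ι r) = u := by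
      refine (Points.schemeEquiv U).injective ((map_yon_map_ofScheme (oι ≫ qW) r).symm.trans ?_)
      rw [← hjs]
      exact hqu
    obtain ⟨a, -, ha⟩ : ∃ a ∈ σ, O₀.ι r ∈ Vp a.1 a.2 := by
      have : O₀.ι r ∈ O₀ := r.2
      simpa [O₀, Finset.sup_eq_iSup] using this
    obtain ⟨-, -, -, h5, -, h6⟩ := h3 a.1 a.2
    refine ⟨a.1, ?_⟩
    rw [hjρ, Points.map_comp]
    refine Eq.trans (hz1 a.1).symm (congrArg _ (Eq.trans ?_ (map_yon_map_ofScheme (oι ≫ pW) r).symm))
    refine congrArg (Points.ofScheme Ws) ?_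
    show z a.1 = pullback.fst w.left g (O₀.ι r)
    rw [h5 _ ha e2, h6]
  · obtain ⟨r, hr1, hr2⟩ := Scheme.Pullback.exists_preimage_pullback (f := w.left) (g := g) (z i) u
      ((hz2 i).trans hgu.symm)
    obtain ⟨k, hk⟩ := h4 r i hr2 hr1
    refine ⟨Points.ofScheme O (⟨r, hmemO ⟨i, k⟩ r hk⟩ : O₀), ?_, ?_⟩
    · rw [hjs, map_yon_map_ofScheme]
      exact congrArg _ hr2
    · rw [hjρ, Points.map_comp, map_yon_map_ofScheme]
      exact (congrArg (fun t => Points.map J (Points.ofScheme Ws t)) hr1).trans (hz1 i)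

end Groth.Agent.AlgSpLib
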