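import Groth.Agent.AlgSpLib.AffineLftClosed
import Groth.Agent.AlgSpLib.LimitSystem
import Groth.Agent.AlgSpLib.VCartFinite

/-!
A finitely presented closed subspace of a limit is defined at a finite stage.
-/

universe u

open CategoryTheory CategoryTheory.Limits AlgebraicGeometry Opposite
open AlgSp

noncomputable section

set_option linter.style.haveILetI false

namespace Groth.Agent.AlgSpLib.StageClosed

open Groth.Agent.AlgSpLib

set_option backward.isDefEq.respectTransparency.types false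
set_option backward.isDefEq.respectTransparency false

variable {S : Scheme.{u}}

/-- a finitely presented closed subspace through which a morphism factors and killing given functions -/
theorem exists_fp_closed_kill [QuasiSeparatedSpace ↥S] {W : Sp S} (hW : IsAlgSpace W) (Y : AlgSp.Space S)
    (hqc : IsQuasiCompactSp Y.obj) (hqs : IsQuasiSeparatedSp Y.obj) {x : W ⟶ Y.obj} (hxr : Representable x)
    (hxqc : IsQuasiCompactMor x) {B : Over S} (b : (yon S).obj B ⟶ Y.obj) (hbe : RepWith @Etale b)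
    (hbs : RepWith @Surjective b) (hB : IsAffine B.left) {P : Over S} {pw : (yon S).obj P ⟶ W} {ρ : P ⟶ B}
    (sq : IsPullback pw ((yon S).map ρ) x b) (t : Finset Γ(B.left, ⊤)) (ht : ∀ z ∈ t, ρ.left.appTop.hom z = 0) :
    ∃ (Z : AlgSp.Space S) (i : Z.obj ⟶ Y.obj) (k : W ⟶ Z.obj) (hi : RepWith @IsClosedImmersion i),
      IsFinitePresentationMor i ∧ k ≫ i = x ∧ ∀ z ∈ t, z ∈ (idealOfRep hi.1).ideal (EtOver.mk b hbe) hB := by
  obtain ⟨hI, -⟩ := isSchImage_iff_isCutOutBy hW Y.property hxr hxqc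
  obtain ⟨J, hJq, hJfg, hJle, hJt⟩ := Groth.Agent.S10035.exists_fg_ideal Y hqc hqs (idealOfRep hxr) hI
    (EtOver.mk b hbe) hB t fun z hz => (VCart.mem_ker_iff_of_isPullback hxr (EtOver.mk b hbe) sq hB z).2 (ht z hz)
  obtain ⟨Z, i, hZ, hcut⟩ := exists_isCutOutBy Y.property J hJq
  obtain ⟨k, hk⟩ := (factors_iff_le_idealOfRep Y.property hcut hxr).2 hJle
  obtain ⟨hi, hiJ⟩ := hcut
  refine ⟨⟨Z, hZ⟩, i, k, hi, Groth.Agent.S10035.isFinitePresentationMor_of_cutOut Y.property hZ ⟨hi, hiJ⟩
    b hbe hbs hB (hJfg (EtOver.mk b hbe) hB), hk, fun z hz => ?_⟩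
  rw [hiJ]
  exact hJt hz

/-- a factorisation between closed subspaces with the same chart ideal is an isomorphism -/
theorem isIso_of_ker_le {W Z Y : Sp S} (hY : IsAlgSpace Y) {i : Z ⟶ Y} (hi : RepWith @IsClosedImmersion i)
    {x : W ⟶ Y} (hx : RepWith @IsClosedImmersion x) (k : W ⟶ Z) (hk : k ≫ i = x)
    {B : Over S} (b : (yon S).obj B ⟶ Y) (hbe : RepWith @Etale b) (hbs : RepWith @Surjective b)
    (hB : IsAffine B.left)
    (h : (idealOfRep hx.1).ideal (EtOver.mk b hbe) hB ≤ (idealOfRep hi.1).ideal (EtOver.mk b hbe) hB) : IsIso k := by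
  obtain ⟨l, hl⟩ := (le_iff_factors hY ⟨hx, rfl⟩ ⟨hi, rfl⟩).1
    (Groth.Agent.S10035.ideal_le_of_chart hY b hbe hbs hB (isQCoh_idealOfRep hx) (isQCoh_idealOfRep hi) h)
  haveI := mono_closedImmersion hi
  haveI := mono_closedImmersion hx
  exact ⟨l, (cancel_mono x).1 (by rw [Category.assoc, hl, hk, Category.id_comp]),
    (cancel_mono i).1 (by rw [Category.assoc, hk, hl, Category.id_comp])⟩

/-- finitely many elements of the limit of affine schemes come from one stage -/
theorem exists_stage_elements {J : Type u} [SmallCategory J] [IsCofiltered J] {E : J ⥤ Scheme.{u}} (C : Cone E)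
    (hC : IsLimit C) [∀ j, IsAffine (E.obj j)] (t : Finset Γ(C.pt, ⊤)) :
    ∃ (j : J) (t' : Finset Γ(E.obj j, ⊤)), ∀ z ∈ t, ∃ w ∈ t', (C.π.app j).appTop w = z := by
  classical
  induction t using Finset.induction with
  | empty =>
    obtain ⟨j⟩ := IsCofiltered.nonempty (C := J)
    exact ⟨j, ∅, fun z hz => absurd hz (Finset.notMem_empty z)⟩
  | insert a t _ ih =>
    obtain ⟨j, t', ht⟩ := ih
    obtain ⟨i, w, hw⟩ := exists_appTop_π_eq_of_isAffine_of_isLimit E C hC a
    obtain ⟨k, kj, ki, -⟩ := IsCofilteredOrEmpty.cone_objs j i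
    refine ⟨k, insert ((E.map ki).appTop.hom w) (t'.image (E.map kj).appTop.hom), fun z hz => ?_⟩
    have key : ∀ {m : J} (φ : k ⟶ m) (v : Γ(E.obj m, ⊤)),
        (C.π.app k).appTop ((E.map φ).appTop.hom v) = (C.π.app m).appTop v := fun φ v => by
      rw [← C.w φ, Scheme.Hom.comp_appTop]
      rfl
    rcases Finset.mem_insert.1 hz with rfl | hz
    · exact ⟨_, Finset.mem_insert_self _ _, (key ki w).trans hw⟩
    · obtain ⟨v, hv, e⟩ := ht z hz
      exact ⟨_, Finset.mem_insert_of_mem (Finset.mem_image_of_mem _ hv), (key kj v).trans e⟩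

/-- the kernel of a closed immersion of finite presentation of affine schemes is finitely generated -/
theorem ker_appTop_fg {P B : Scheme.{u}} [IsAffine P] [IsAffine B] (ρ : P ⟶ B) [IsClosedImmersion ρ]
    [LocallyOfFinitePresentation ρ] : (RingHom.ker ρ.appTop.hom).FG := by
  letI := ρ.appTop.hom.toAlgebra
  haveI : Algebra.FinitePresentation Γ(B, ⊤) Γ(P, ⊤) := ρ.finitePresentation_appTop
  exact Algebra.FinitePresentation.ker_fG_of_surjective (Algebra.ofId Γ(B, ⊤) Γ(P, ⊤))
    (IsClosedImmersion.isAffine_surjective_of_isAffine ρ).2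

/-- a closed immersion of finite presentation into the limit is the pullback of one at a stage -/
theorem exists_stage_closed [QuasiSeparatedSpace ↥S] {I : Type u} [SmallCategory I] [IsCofiltered I]
    (D : I ⥤ Sp S) (hD : ∀ i, IsAlgSpace (D.obj i)) (hDa : ∀ (i j : I) (φ : i ⟶ j), IsAffineMor (D.map φ))
    (hqc : ∀ i, IsQuasiCompactSp (D.obj i)) (hqs : ∀ i, IsQuasiSeparatedSp (D.obj i))
    (c : Cone D) (hc : IsLimit c) {W : Sp S} (hW : IsAlgSpace W) (x : W ⟶ c.pt)
    (hx : RepWith @IsClosedImmersion x) (hxl : LocP @LocallyOfFinitePresentation x) :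
    ∃ (j : I) (Z : AlgSp.Space S) (i : Z.obj ⟶ D.obj j) (k : W ⟶ Z.obj),
      RepWith @IsClosedImmersion i ∧ IsFinitePresentationMor i ∧ IsPullback k x i (c.π.app j) := by
  classical
  obtain ⟨o⟩ := IsCofiltered.nonempty (C := I)
  have := (isQuasiCompactSp_iff_compactSpace (hD o)).1 (hqc o)
  obtain ⟨V, v, hV, hve, hvs⟩ := exists_affine_chart (hD o)
  obtain ⟨E, η, pr, cE, hcE, θ, haff, hnat, hsq, hpr, hη, hθe, hθs, hπ⟩ :=
    exists_chart_system D hDa c hc v hve hvs
  let E' : Over o ⥤ Scheme.{u} := E ⋙ Over.forget S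
  haveI haffine : ∀ j, IsAffine (E'.obj j) := fun j => by
    have := hpr j
    show IsAffine (E.obj j).left
    exact isAffine_of_isAffineHom (pr j).left
  have hc' : IsAlgSpace c.pt := isAlgSpace_limit D hD hDa c hc
  haveI hBa : IsAffine cE.pt.left := Scheme.isAffine_of_isLimit _ hcE
  let P : Over S := hx.1.pullback θ
  let ρ : P ⟶ cE.pt := hx.1.snd θ
  have sqP : IsPullback (hx.1.fst θ) ((yon S).map ρ) x θ := hx.1.isPullback θ
  haveI hρ : IsClosedImmersion ρ.left := hx.2 _ _ _ sqP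
  haveI hρl : LocallyOfFinitePresentation ρ.left :=
    ((repWith_iff_locP etLocal_lfp hW hc' hx.1).2 hxl).property θ (hx.1.fst θ) ρ sqP
  haveI : IsAffine P.left := isAffine_of_isAffineHom ρ.left
  obtain ⟨t, ht⟩ := ker_appTop_fg ρ.left
  obtain ⟨j, t', ht'⟩ := exists_stage_elements ((Over.forget S).mapCone cE) hcE t
  let t'' : Finset Γ((E.obj j).left, ⊤) := t'.filter fun w => ρ.left.appTop.hom ((cE.π.app j).left.appTop.hom w) = 0
  have hπaff := isAffineMor_π D hDa c hc j.left
  have hxπr : Representable (x ≫ c.π.app j.left) :=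
    MorphismProperty.comp_mem _ _ _ hx.1 ((isAffineMor_iff_repWith _).1 hπaff).1
  have hxπq : IsQuasiCompactMor (x ≫ c.π.app j.left) :=
    isQuasiCompactMor_comp hW hc' (hD _) (VCart.isQuasiCompactMor_closed hW hc' hx)
      (VCart.isQuasiCompactMor_of_affineMor hc' (hD _) hπaff)
  have sqj : IsPullback (hx.1.fst θ) ((yon S).map (ρ ≫ cE.π.app j)) (x ≫ c.π.app j.left) (η j) := by
    rw [Functor.map_comp]
    exact sqP.paste_vert (hπ j).flip
  obtain ⟨Z, i, k, hi, hifp, hk, hker⟩ := exists_fp_closed_kill hW ⟨D.obj j.left, hD _⟩ (hqc _) (hqs _) hxπr hxπq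
    (η j) (hη j).1 (hη j).2 (haffine j) sqj t'' fun w hw => by
      rw [Over.comp_left, Scheme.Hom.comp_appTop]
      exact (Finset.mem_filter.1 hw).2
  have sqZ := IsPullback.of_hasPullback i (c.π.app j.left)
  let k' : W ⟶ pullback i (c.π.app j.left) := pullback.lift k x (by rw [hk])
  have hi' : RepWith @IsClosedImmersion (pullback.snd i (c.π.app j.left)) := RepWith.baseChange sqZ hi
  have hk' : k' ≫ pullback.snd _ _ = x := pullback.lift_snd _ _ _
  have : IsIso k' := by
    refine isIso_of_ker_le hc' hi' hx k' hk' θ hθe hθs hBa fun z hz => ?_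
    have hz' : z ∈ Ideal.span (t : Set Γ(cE.pt.left, ⊤)) := by
      rw [show Ideal.span (t : Set Γ(cE.pt.left, ⊤)) = RingHom.ker ρ.left.appTop.hom from ht, RingHom.mem_ker]
      exact (VCart.mem_ker_iff_of_isPullback hx.1 (EtOver.mk θ hθe) sqP hBa z).1 hz
    refine (Ideal.span_le.2 ?_) hz'
    intro a ha
    obtain ⟨w, hw, hwa⟩ := ht' a ha
    have hwa' : (cE.π.app j).left.appTop.hom w = a := hwa
    have hw'' : w ∈ t'' := Finset.mem_filter.2 ⟨hw, by
      rw [hwa']
      exact RingHom.mem_ker.1 (ht ▸ Ideal.subset_span ha)⟩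
    have hwi := (VCart.mem_ker_iff_of_isPullback hi.1 (EtOver.mk (η j) (hη j).1) (hi.1.isPullback (η j))
      (haffine j) w).1 (hker w hw'')
    let Q : Over S := hi'.1.pullback θ
    obtain ⟨m, hm⟩ := (yon S).map_surjective ((hi.1.isPullback (η j)).lift
      (hi'.1.fst θ ≫ pullback.fst _ _) ((yon S).map (hi'.1.snd θ ≫ cE.π.app j))
      (by rw [Category.assoc, pullback.condition, ← Category.assoc, (hi'.1.isPullback θ).w, Functor.map_comp,
            Category.assoc, Category.assoc, (hπ j).w]))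
    have hm' : m ≫ hi.1.snd (η j) = hi'.1.snd θ ≫ cE.π.app j := (yon S).map_injective (by
      rw [Functor.map_comp, hm, IsPullback.lift_snd])
    refine (VCart.mem_ker_iff_of_isPullback hi'.1 (EtOver.mk θ hθe) (hi'.1.isPullback θ) hBa a).2 ?_
    rw [← hwa']
    have := congrArg (fun φ : Q ⟶ E.obj j => φ.left.appTop.hom w) hm'
    simp only [Over.comp_left, Scheme.Hom.comp_appTop, CommRingCat.hom_comp, RingHom.comp_apply] at this
    exact this.symm.trans ((congrArg m.left.appTop.hom hwi).trans (map_zero _))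
  refine ⟨j.left, Z, i, k, hi, hifp, ?_⟩
  exact sqZ.of_iso (asIso k').symm (Iso.refl _) (Iso.refl _) (Iso.refl _) (by simp [k'])
    (by simp [k']) (by simp) (by simp)

end Groth.Agent.AlgSpLib.StageClosed
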