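import Groth.Agent.AlgSpLib.OpenFac
import Groth.Agent.AlgSpLib.InductPrinciple
import Groth.Agent.AlgSpLib.EffCartierSub
import Groth.Agent.S10192
import Groth.Agent.S10035

/-!
Closed subspaces of finite presentation with prescribed support.
-/

universe u

open CategoryTheory CategoryTheory.Limits AlgebraicGeometry Opposite
open AlgSp

noncomputable section

namespace Groth.Agent.AlgSpLib.StratCov

set_option backward.isDefEq.respectTransparency.types false
set_option backward.isDefEq.respectTransparency false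
set_option linter.style.haveILetI false

variable {S : Scheme.{u}}

theorem preimage_range_cutOut {X Z : Sp S} {i : Z ⟶ X} {J : IdealEt X} (h : IsCutOutBy J i) (E : EtOver X)
    (hE : IsAffine E.obj.left.left) :
    Points.ofPt E.obj.hom ⁻¹' Set.range (Points.map i) =
      E.obj.left.left.zeroLocus (U := ⊤) (J.ideal E hE : Set Γ(E.obj.left.left, ⊤)) := by
  have hi := h.1
  let b : (yon S).obj E.obj.left ⟶ X := E.obj.hom
  have e := idealOfRep_eq_chartIdeal hi E hE
  rw [h.2] at e
  have sq := hi.1.isPullback b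
  haveI : IsClosedImmersion (hi.1.snd b).left := hi.property_snd b
  have h1 : Points.ofPt b ⁻¹' Set.range (Points.map i) = Set.range (hi.1.snd b).left := by
    ext t
    constructor
    · rintro ⟨x, hx⟩
      rw [Points.ofPt_eq_map_ofScheme] at hx
      obtain ⟨z, -, hz⟩ := exists_point_of_isPullback sq hx
      obtain ⟨w, rfl⟩ := (Points.schemeEquiv _).surjective z
      exact ⟨w, (Points.schemeEquiv E.obj.left).injective ((map_yon_map_ofScheme _ w).symm.trans hz)⟩
    · rintro ⟨w, rfl⟩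
      refine ⟨Points.map (hi.1.fst b) (Points.ofScheme _ w), ?_⟩
      rw [← Points.map_comp, hi.1.w b, Points.map_comp, map_yon_map_ofScheme, ← Points.ofPt_eq_map_ofScheme]
  have h2 : Set.range (hi.1.snd b).left = ((hi.1.snd b).left.ker.support : Set ↥E.obj.left.left) := by
    rw [Scheme.Hom.support_ker]
    exact ((hi.1.snd b).left.isClosedEmbedding.isClosed_range.closure_eq).symm
  rw [h1, h2, e]
  have := (hi.1.snd b).left.ker.coe_support_inter ⟨⊤, isAffineOpen_top E.obj.left.left⟩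
  rw [chartIdeal]
  simpa using this

/-- a closed subspace of finite presentation whose complement is a given quasi-compact open -/
theorem exists_fp_closed_subspace [QuasiSeparatedSpace ↥S] (X : AlgSp.Space S) (hqc : IsQuasiCompactSp X.obj)
    (hqs : IsQuasiSeparatedSp X.obj) {O : Set (Points X.obj)} (hO : IsOpen O) (hOc : IsCompact O) :
    ∃ (Z : AlgSp.Space S) (z : Z ⟶ X), RepWith @IsClosedImmersion z.hom ∧ IsFinitePresentationMor z.hom ∧
      Set.range (Points.map z.hom) = Oᶜ := by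
  classical
  obtain ⟨Zr, zr, hzr, hrr, -⟩ := Groth.Agent.S10192.result X Oᶜ hO.isClosed_compl
  let Iₓ := idealOfRep hzr.1
  have hIq : Iₓ.IsQCoh := isQCoh_idealOfRep hzr
  haveI := compactSpace_points_of_isQuasiCompactSp hqc
  obtain ⟨B, b, hB, hbe, hbs⟩ := exists_affine_chart X.property
  haveI := hB
  let E₀ : EtOver X.obj := EtOver.mk b hbe
  have hI : Points.ofPt b ⁻¹' Oᶜ = B.left.zeroLocus (U := ⊤) (SetLike.coe (Iₓ.ideal E₀ hB)) := by
    rw [← hrr]
    exact preimage_range_cutOut (J := Iₓ) ⟨hzr, rfl⟩ E₀ hB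
  have hOb : IsCompact (Points.ofPt b ⁻¹' O) := by
    have h1 : IsCompact (Points.map b ⁻¹' O) := Induct.isCompact_preimage X.property hqs b hO hOc
    have h2 := h1.image (AlgSp.Points.schemeHomeo B).symm.continuous
    convert h2 using 1
    rw [Homeomorph.image_symm]
    ext t
    show Points.ofPt b t ∈ O ↔ Points.map b (Points.ofScheme B t) ∈ O
    rw [Points.ofPt_eq_map_ofScheme]
  have hmem : ∀ t, Points.ofPt b t ∈ O ↔ ∃ a ∈ Iₓ.ideal E₀ hB, t ∈ B.left.basicOpen a := fun t => by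
    rw [← not_iff_not, ← Set.mem_compl_iff, ← Set.mem_preimage, hI, Scheme.mem_zeroLocus_iff]
    exact ⟨fun h ⟨a, ha, h'⟩ => h a ha h', fun h a ha h' => h ⟨a, ha, h'⟩⟩
  obtain ⟨t, ht⟩ := hOb.elim_finite_subcover (fun a : Iₓ.ideal E₀ hB => (B.left.basicOpen a.1 : Set ↥B.left))
    (fun a => (B.left.basicOpen a.1).2) fun x hx => by
      obtain ⟨a, ha, hxa⟩ := (hmem x).1 hx
      exact Set.mem_iUnion.2 ⟨⟨a, ha⟩, hxa⟩
  obtain ⟨J, hJq, hJfg, hJle, hJt⟩ := Groth.Agent.S10035.exists_fg_ideal X hqc hqs Iₓ hIq E₀ hB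
    (t.image Subtype.val) (by
      intro a ha
      obtain ⟨a', -, rfl⟩ := Finset.mem_image.1 (Finset.mem_coe.1 ha)
      exact a'.2)
  obtain ⟨Z, i, hZ, hi⟩ := exists_isCutOutBy X.property J hJq
  let ZS : AlgSp.Space S := ⟨Z, hZ⟩
  let zS : ZS ⟶ X := ObjectProperty.homMk i
  refine ⟨ZS, zS, hi.1,
    Groth.Agent.S10035.isFinitePresentationMor_of_cutOut X.property hZ hi b hbe hbs hB (hJfg E₀ hB), ?_⟩
  ext x
  obtain ⟨p, rfl⟩ := surjective_ofPt b hbs x
  have hJ : Points.ofPt b p ∈ Set.range (Points.map i) ↔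
      p ∈ B.left.zeroLocus (U := ⊤) (SetLike.coe (J.ideal E₀ hB)) := by
    exact (Set.ext_iff.1 (preimage_range_cutOut hi E₀ hB) p)
  show Points.ofPt b p ∈ Set.range (Points.map i) ↔ Points.ofPt b p ∉ O
  rw [hJ, hmem, Scheme.mem_zeroLocus_iff]
  constructor
  · intro h ⟨a, ha, hpa⟩
    obtain ⟨a', ha', hpa'⟩ := Set.mem_iUnion₂.1 (ht ((hmem p).2 ⟨a, ha, hpa⟩))
    exact h a'.1 (hJt (Finset.mem_coe.2 (Finset.mem_image_of_mem _ ha'))) hpa'
  · intro h a ha hpa
    exact h ⟨a, hJle E₀ hB ha, hpa⟩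

end Groth.Agent.AlgSpLib.StratCov
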