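import Groth.Agent.AlgSpLib.DegreeStrat
import Groth.Agent.FlatMorDegree.Levels
import Groth.Agent.AlgSpLib.InductPrinciple
import Groth.Agent.AlgSpLib.FpqcBaseAffine2

/-!
The degree of an affine etale chart: compactness of its open level sets.
-/

universe u

open CategoryTheory CategoryTheory.Limits AlgebraicGeometry
open AlgSp
open Groth.Agent.FlatMorDegree (degGE deg degGE_iff_le_deg)

noncomputable section

namespace Groth.Agent.AlgSpLib.StratCov

set_option backward.isDefEq.respectTransparency.types false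
set_option backward.isDefEq.respectTransparency false
set_option linter.style.haveILetI false

variable {S : Scheme.{u}}

theorem exists_degree [QuasiSeparatedSpace ↥S] {X : Sp S} (hX : IsAlgSpace X) (hqs : IsQuasiSeparatedSp X)
    {U : Over S} [IsAffine U.left] (a : (yon S).obj U ⟶ X) (hae : RepWith @Etale a) (has : RepWith @Surjective a) :
    ∃ (n : ℕ) (δ : Points X → ℕ), (∀ x, δ x ≤ n) ∧ (∀ r, IsOpen {x | r ≤ δ x}) ∧
      (∀ r, IsCompact {x | r ≤ δ x}) ∧
      ∀ {T P : Over S} (g : (yon S).obj T ⟶ X) (fst : (yon S).obj P ⟶ (yon S).obj U) (c : P ⟶ T),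
        IsPullback fst ((yon S).map c) a g → ∀ r,
          (∀ t, δ (Points.ofPt g t) = r) → finLocFreeOfDeg r c.left := by
  haveI : CompactSpace ↥U.left := inferInstance
  have hqc : RepWith @QuasiCompact a := repWith_qc_chart hX hqs a
  obtain ⟨R, c, fst, sqR, hce⟩ := exists_yon_of_repWith hae a
  haveI : Etale c.left := hce
  haveI : QuasiCompact c.left := hqc.property _ _ _ sqR
  haveI : CompactSpace ↥R.left := QuasiCompact.compactSpace_of_compactSpace c.left
  obtain ⟨m, hm⟩ := univBdd_etale_scheme hX c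
  have hbdd : W4dec.HasUnivBddFibres a :=
    ⟨m, degFibresLE_of_baseChange hX sqR (by rw [Induct.range_map_yon]) hm⟩
  have D : DegData a := ⟨hX, RepWith.mono (fun _ _ g (_ : Etale g) => (inferInstance : Flat g)) hae,
    RepWith.mono etale_le_lfp hae, repWith_isSeparated_of_isSeparated_source hX a,
    RepWith.mono (fun _ _ g (_ : Etale g) => locallyQuasiFinite_of_etale g) hae, hbdd⟩
  obtain ⟨n, hn⟩ := D.exists_bound
  choose u hu using surjective_ofPt a has
  let δ : Points X → ℕ := fun x => chartDeg D a (u x)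
  have inst : ∀ {T P : Over S} (g : (yon S).obj T ⟶ X) (fst : (yon S).obj P ⟶ (yon S).obj U) (c : P ⟶ T),
      IsPullback fst ((yon S).map c) a g → IsSeparated c.left ∧ LocallyQuasiFinite c.left ∧
        LocallyOfFinitePresentation c.left ∧ Flat c.left := fun g fst c sq =>
    ⟨D.sep.2 g fst c sq, D.lqf.2 g fst c sq, D.lfp.2 g fst c sq, D.flat.2 g fst c sq⟩
  have key : ∀ {T : Over S} (g : (yon S).obj T ⟶ X) t d,
      degGE (D.lfp.1.snd g).left t d ↔ d ≤ δ (Points.ofPt g t) := fun g t d => by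
    obtain ⟨i1, i2, i3, i4⟩ := inst g _ _ (D.lfp.1.isPullback g)
    refine (degGE_iff_le_deg (D.lfp.1.snd g).left (hn g _ _ (D.lfp.1.isPullback g) t) d).trans ?_
    show d ≤ chartDeg D g t ↔ _
    rw [show δ (Points.ofPt g t) = chartDeg D g t from D.chartDeg_eq a g _ t (hu _)]
  have hle : ∀ x, δ x ≤ n := fun x => by
    by_contra h
    refine hn a _ _ (D.lfp.1.isPullback a) (u x) ((key a _ _).2 ?_)
    rw [hu]
    omega
  have edeg : ∀ {T P : Over S} (g : (yon S).obj T ⟶ X) (fst : (yon S).obj P ⟶ (yon S).obj U) (c : P ⟶ T),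
      IsPullback fst ((yon S).map c) a g → ∀ t, deg c.left t = δ (Points.ofPt g t) := fun g fst c sq t => by
    obtain ⟨i1, i2, i3, i4⟩ := inst g fst c sq
    refine eq_of_forall_le_iff fun d => ?_
    rw [← degGE_iff_le_deg c.left (hn g fst c sq t), D.degGE_iff sq, key]
  obtain ⟨i1, i2, i3, i4⟩ := inst a _ _ sqR
  have hpre : ∀ r, Points.ofPt a ⁻¹' {x | r ≤ δ x} = {t | degGE c.left t r} := fun r => by
    ext t
    show r ≤ δ (Points.ofPt a t) ↔ degGE c.left t r
    rw [D.degGE_iff sqR, key]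
  refine ⟨n, δ, hle, fun r => ?_, fun r => ?_, fun {T P} g fst c' sq r h => ?_⟩
  · refine ((isOpenMap_ofPt a hae).isQuotientMap (Points.continuous_ofPt a) (surjective_ofPt a has)).isOpen_preimage.1 ?_
    rw [hpre]
    exact FlatMorDegree.isOpen_degGE c.left r
  · rw [← Set.image_preimage_eq {x | r ≤ δ x} (surjective_ofPt a has)]
    refine IsCompact.image ?_ (Points.continuous_ofPt a)
    have : Points.ofPt a ⁻¹' {x | r ≤ δ x} = ⋃ j ∈ Finset.Icc r n, {t | deg c.left t = j} := by
      ext t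
      simp only [Set.mem_preimage, Set.mem_iUnion, Finset.mem_Icc, Set.mem_setOf_eq, edeg _ _ _ sqR]
      exact ⟨fun h => ⟨_, ⟨h, hle _⟩, rfl⟩, fun ⟨j, hj, e⟩ => e ▸ hj.1⟩
    rw [this]
    exact (Finset.finite_toSet _).isCompact_biUnion fun j _ => by
      simpa using (FlatMorDegree.isRetrocompact_deg_eq c.left j) isCompact_univ isOpen_univ
  · obtain ⟨j1, j2, j3, j4⟩ := inst g fst c' sq
    have hbd : ∀ t, ∃ k, ¬ degGE c'.left t (k + 1) := fun t => ⟨n, hn g fst c' sq t⟩
    have s1 := IsPullback.of_hasPullback c'.left (𝟙 T.left)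
    have s2 : IsPullback (inv (pullback.fst c'.left (𝟙 T.left))) c'.left (pullback.snd c'.left (𝟙 T.left)) (𝟙 T.left) :=
      IsPullback.of_horiz_isIso ⟨by rw [IsIso.inv_comp_eq, Category.comp_id, pullback.condition, Category.comp_id]⟩
    refine MorphismProperty.of_isPullback (P := finLocFreeOfDeg r) s2 ?_
    exact (FlatMorDegree.isFinLocFreeOfDeg_iff c'.left hbd (𝟙 T.left) r).2 fun t =>
      (edeg g fst c' sq t).trans (h t)

end Groth.Agent.AlgSpLib.StratCov
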