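import Groth.Agent.AlgSpLib.VCartFinite
import Groth.Agent.AlgSpLib.MorQC

/-!
Stages isomorphic to the source over an open of the base.
-/

universe u

open CategoryTheory CategoryTheory.Limits AlgebraicGeometry Opposite TensorProduct TopologicalSpace
open AlgSp

noncomputable section

set_option linter.style.haveILetI false

namespace Groth.Agent.AlgSpLib.VCart

open Groth.Agent.AlgSpLib.QCohEt Groth.Agent.AlgSpLib.SerreAff SymRing RelSpecSp LimitSep

set_option backward.isDefEq.respectTransparency.types false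
set_option backward.isDefEq.respectTransparency false

/-- isomorphisms glue over basic opens of the base -/
theorem isIso_restrict_iSup {N W U : Scheme.{u}} (d : N ⟶ W) (f : W ⟶ U) {ι : Type u} (O : ι → U.Opens)
    (h : ∀ i, IsIso (d ∣_ f ⁻¹ᵁ O i)) : IsIso (d ∣_ f ⁻¹ᵁ ⨆ i, O i) := by
  let P := f ⁻¹ᵁ ⨆ i, O i
  refine IsZariskiLocalAtTarget.of_iSup_eq_top (P := MorphismProperty.isomorphisms Scheme)
    (fun i => P.ι ⁻¹ᵁ (f ⁻¹ᵁ O i)) ?_ fun i => ?_
  · rw [← Scheme.Hom.preimage_iSup, ← Scheme.Hom.preimage_iSup]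
    exact Scheme.Opens.ι_preimage_self _
  · show IsIso _
    refine ((MorphismProperty.isomorphisms Scheme).arrow_mk_iso_iff (morphismRestrictRestrict d P _)).2 ?_
    show IsIso (d ∣_ P.ι ''ᵁ (P.ι ⁻¹ᵁ (f ⁻¹ᵁ O i)))
    rw [Scheme.Hom.image_preimage_eq_opensRange_inf, Scheme.Opens.opensRange_ι,
      inf_eq_right.2 (f.preimage_mono (le_iSup O i))]
    exact h i

/-- a compact open of an affine scheme is a finite union of basic opens -/
theorem exists_basicOpen_cover {U : Scheme.{u}} [IsAffine U] (O : U.Opens) (hO : IsCompact (O : Set U)) :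
    ∃ G : Finset Γ(U, ⊤), (∀ g ∈ G, U.basicOpen g ≤ O) ∧ O = ⨆ g : G, U.basicOpen g.1 := by
  classical
  have hcov : ∀ x ∈ (O : Set U), ∃ g : Γ(U, ⊤), U.basicOpen g ≤ O ∧ x ∈ U.basicOpen g := fun x hx => by
    obtain ⟨g, hg1, hg2⟩ := (isAffineOpen_top U).exists_basicOpen_le (V := O) ⟨x, hx⟩ trivial
    exact ⟨g, hg1, hg2⟩
  choose c hc1 hc2 using hcov
  obtain ⟨T, hT⟩ := hO.elim_finite_subcover (fun x : ↥(O : Set U) => (U.basicOpen (c x.1 x.2) : Set U))
    (fun x => (U.basicOpen _).isOpen) (fun x hx => Set.mem_iUnion.2 ⟨⟨x, hx⟩, hc2 x hx⟩)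
  refine ⟨T.image fun x => c x.1 x.2, fun g hg => ?_, le_antisymm (fun x hx => ?_) (iSup_le fun g => ?_)⟩
  · obtain ⟨i, -, rfl⟩ := Finset.mem_image.1 hg
    exact hc1 _ _
  · obtain ⟨i, hi, hxi⟩ := Set.mem_iUnion₂.1 (hT hx)
    exact Opens.mem_iSup.2 ⟨⟨c i.1 i.2, Finset.mem_image_of_mem _ hi⟩, hxi⟩
  · obtain ⟨i, -, hi⟩ := Finset.mem_image.1 g.2
    rw [← hi]
    exact hc1 _ _

variable {S : Scheme.{u}}

namespace Gens

variable {Y : AlgSp.Space S} {X : Sp S} {ν : X ⟶ Y.obj} {hr : Representable ν} {E₀ : EtOver Y.obj}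
  {g : Gens hr E₀} (h₀ : IsAff E₀)

section kappa

variable {A : Finset (Kap hr E₀)} (s : g.Sub A)

theorem Sub.exists_kappa : ∃ κ : (EtOver.bcObj hr E₀).obj.left ⟶ s.W h₀,
    κ ≫ s.ρ h₀ = chartMap (g.FM A) hr (g.pA A) E₀ h₀ ∧
      (yon S).map κ ≫ s.η h₀ = hr.fst E₀.obj.hom ≫ s.k := by
  obtain ⟨κ, hκ⟩ := (yon S).map_surjective ((s.isPullback_ρ h₀).lift (hr.fst E₀.obj.hom ≫ s.k)
    ((yon S).map (chartMap (g.FM A) hr (g.pA A) E₀ h₀)) (by
      rw [Category.assoc, s.hk]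
      exact fst_toV (g.FM A) hr (g.pA A) E₀ h₀))
  exact ⟨κ, (yon S).map_injective (by rw [Functor.map_comp, hκ, (s.isPullback_ρ h₀).lift_snd]),
    by rw [hκ, (s.isPullback_ρ h₀).lift_fst]⟩

/-- isomorphism over an open of the chart -/
def Sub.IsoOn (O : E₀.obj.left.left.Opens) : Prop :=
  ∀ κ : (EtOver.bcObj hr E₀).obj.left ⟶ s.W h₀, κ ≫ s.ρ h₀ = chartMap (g.FM A) hr (g.pA A) E₀ h₀ →
    IsIso (κ.left ∣_ (s.f h₀).left ⁻¹ᵁ O)

variable [QuasiSeparatedSpace ↥S] (haff : IsAffineMor ν)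

include haff in
/-- the criterion over a basic open -/
theorem Sub.isoOn_basicOpen (a : Γ(E₀.obj.left.left, ⊤))
    (hnum : ∀ y : Γ((EtOver.bcObj hr E₀).obj.left.left,
        (EtOver.bcObj hr E₀).obj.left.left.basicOpen ((hr.snd E₀.obj.hom).left.appTop a)),
      ∃ (m : ℕ) (c : Kap hr E₀), c ∈ Set.range (chartMap (g.FM A) hr (g.pA A) E₀ h₀).left.appTop ∧
        y * ((EtOver.bcObj hr E₀).obj.left.left.presheaf.map (homOfLE le_top).op).hom
            ((hr.snd E₀.obj.hom).left.appTop a) ^ m =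
          ((EtOver.bcObj hr E₀).obj.left.left.presheaf.map (homOfLE le_top).op).hom c)
    (hker : ∀ z, (chartMap (g.FM A) hr (g.pA A) E₀ h₀).left.appTop z = 0 →
      ∃ n : ℕ, ((data (g.FM A)).v E₀ h₀).left.appTop a ^ n * z ∈ s.ker h₀) :
    s.IsoOn h₀ (E₀.obj.left.left.basicOpen a) := by
  intro κ hκ
  haveI := s.isAffine_W h₀
  haveI : IsAffine E₀.obj.left.left := h₀
  haveI : IsAffine (EtOver.bcObj hr E₀).obj.left.left :=
    haveI := h₀
    isAff_bcObj hr haff E₀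
  have hκρ : ∀ z, κ.left.appTop.hom ((s.ρ h₀).left.appTop.hom z) =
      (chartMap (g.FM A) hr (g.pA A) E₀ h₀).left.appTop.hom z := fun z => by
    rw [← hκ]
    rfl
  have hfa : κ.left.appTop.hom ((s.f h₀).left.appTop.hom a) = (hr.snd E₀.obj.hom).left.appTop.hom a := by
    rw [← chartMap_v_left h₀ (g := g) A]
    exact hκρ _
  rw [Scheme.preimage_basicOpen]
  refine BasicIso.isIso_morphismRestrict κ.left ((s.f h₀).left.appTop a) (fun b hb => ?_) ?_
  · obtain ⟨z, rfl⟩ := s.surjective_ρ h₀ b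
    obtain ⟨n, hn⟩ := hker z ((hκρ z).symm.trans hb)
    refine ⟨n, ?_⟩
    show (s.ρ h₀).left.appTop.hom (((data (g.FM A)).v E₀ h₀).left.appTop.hom a) ^ n *
      (s.ρ h₀).left.appTop.hom z = 0
    rw [← map_pow, ← map_mul]
    exact hn
  · intro y
    revert y
    show ∀ y : Γ((EtOver.bcObj hr E₀).obj.left.left, (EtOver.bcObj hr E₀).obj.left.left.basicOpen (κ.left.appTop.hom ((s.f h₀).left.appTop.hom a))), _
    rw [hfa]
    intro y
    obtain ⟨m, c, ⟨z, rfl⟩, hy⟩ := hnum y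
    exact ⟨m, _, ⟨_, hκρ z⟩, hy⟩

end kappa

section above

variable [QuasiSeparatedSpace ↥S] (hX : IsAlgSpace X) (hint : IsIntegralMor ν)
  (hqs : IsQuasiSeparatedSp Y.obj) (hs₀ : RepWith @Surjective E₀.obj.hom)

include hX hint hqs hs₀ in
theorem exists_idx_iso (i : g.Idx h₀) (G : Finset Γ(E₀.obj.left.left, ⊤))
    (hfp : ∀ a ∈ G, ((hr.snd E₀.obj.hom).left.appLE ⊤ ((EtOver.bcObj hr E₀).obj.left.left.basicOpen
      ((hr.snd E₀.obj.hom).left.appTop a)) le_top).hom.FinitePresentation) :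
    ∃ j, i ≤ j ∧ IsFiniteMor (sysT.app (op j)) ∧ ∀ a ∈ G, j.sub.IsoOn h₀ (E₀.obj.left.left.basicOpen a) := by
  classical
  have haff : IsAffineMor ν := isAffineMor_of_integralMor' hint
  haveI : IsAffine E₀.obj.left.left := h₀
  haveI : IsAffine (EtOver.bcObj hr E₀).obj.left.left :=
    haveI := h₀
    isAff_bcObj hr haff E₀
  haveI : IsAffine (hr.pullback E₀.obj.hom).left := (inferInstance : IsAffine (EtOver.bcObj hr E₀).obj.left.left)
  choose gens hmem hgens using fun a : G => SubOpen.exists_gens (N := (EtOver.bcObj hr E₀).obj.left.left)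
    (hr.snd E₀.obj.hom).left ((hr.snd E₀.obj.hom).left.appTop a.1)
    (RingHom.FiniteType.of_finitePresentation (hfp a.1 a.2))
  obtain ⟨i₁, hii₁, hsub⟩ := exists_idx_family hX haff hqs hs₀ i (Finset.univ.biUnion gens)
  let d := (chartMap (g.FM i₁.A) hr (g.pA i₁.A) E₀ h₀).left
  let v := ((data (g.FM i₁.A)).v E₀ h₀).left
  haveI : IsAffine ((data (g.FM i₁.A)).V E₀ h₀).left := isAffine_VE _ E₀ h₀
  haveI : LocallyOfFinitePresentation v := Sub.lfp_v h₀ (g := g) (A := i₁.A)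
  have hdv : d ≫ v = (hr.snd E₀.obj.hom).left := chartMap_v_left h₀ i₁.A
  have hnum : ∀ a : G, ∀ y : Γ((EtOver.bcObj hr E₀).obj.left.left,
        (EtOver.bcObj hr E₀).obj.left.left.basicOpen ((hr.snd E₀.obj.hom).left.appTop a.1)),
      ∃ (m : ℕ) (c : Kap hr E₀), c ∈ Set.range d.appTop ∧
        y * ((EtOver.bcObj hr E₀).obj.left.left.presheaf.map (homOfLE le_top).op).hom
            ((hr.snd E₀.obj.hom).left.appTop a.1) ^ m =
          ((EtOver.bcObj hr E₀).obj.left.left.presheaf.map (homOfLE le_top).op).hom c := fun a =>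
    hgens a d.appTop.hom.range (by
      rintro _ ⟨r, rfl⟩
      exact ⟨v.appTop.hom r, by rw [← hdv]; rfl⟩)
      fun c hc => mem_range_chartMap h₀ (hsub (Finset.mem_biUnion.2 ⟨a, Finset.mem_univ _, hc⟩))
  choose t ht0 ht using fun a : G => BasicIso.exists_ker_gens (hr.snd E₀.obj.hom).left v d hdv a.1
    (hfp a.1 a.2) (hnum a)
  obtain ⟨s, hst, hfin, hl⟩ := exists_finite_above h₀ hX hint hqs hs₀ i₁ (Finset.univ.biUnion t) (by
    intro z hz
    obtain ⟨a, -, ha⟩ := Finset.mem_biUnion.1 hz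
    exact ht0 a z ha)
  let j : g.Idx h₀ := ⟨⟨i₁.A, s.ker h₀⟩, s, rfl⟩
  obtain ⟨a', ha'⟩ := Sub.fac_of_ker_le h₀ hs₀ s j.sub (ge_of_eq j.ker_sub)
  obtain ⟨b', hb'⟩ := Sub.fac_of_ker_le h₀ hs₀ j.sub s (le_of_eq j.ker_sub)
  obtain ⟨l, hl⟩ := hl
  haveI : IsIso a' := ⟨b', (cancel_mono j.sub.ι).1 (by rw [Category.assoc, hb', ha', Category.id_comp]),
    (cancel_mono s.ι).1 (by rw [Category.assoc, ha', hb', Category.id_comp])⟩
  refine ⟨j, le_trans hii₁ ⟨subset_refl _, a' ≫ l, by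
      rw [Category.assoc, hl, ha', g.tT_refl]; exact (Category.comp_id _).symm⟩, ?_, fun a ha => ?_⟩
  · show IsFiniteMor (j.sub.ι ≫ g.τ i₁.A)
    rw [← ha', Category.assoc, isFiniteMor_iff_repWith]
    exact RepWith.comp (repWith_of_isIso @IsFinite a') ((isFiniteMor_iff_repWith _).1 hfin)
  · refine j.sub.isoOn_basicOpen h₀ haff a (hnum ⟨a, ha⟩) fun z hz => ?_
    obtain ⟨n, hn⟩ := ht ⟨a, ha⟩ z hz
    have hle : Ideal.span (t ⟨a, ha⟩ : Set Γ(((data (g.FM i₁.A)).V E₀ h₀).left, ⊤)) ≤ s.ker h₀ := Ideal.span_le.2 fun w hw =>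
      hst w (Finset.mem_biUnion.2 ⟨⟨a, ha⟩, Finset.mem_univ _, Finset.mem_coe.1 hw⟩)
    exact ⟨n, (ge_of_eq j.ker_sub) (hle hn)⟩

end above

section descend

variable {Vsp : Sp S} {jm : Vsp ⟶ Y.obj} (hj : RepWith @IsOpenImmersion jm)

/-- the open of the chart -/
def chartOpen : E₀.obj.left.left.Opens :=
  haveI : IsOpenImmersion (hj.1.snd E₀.obj.hom).left := hj.property_snd _
  (hj.1.snd E₀.obj.hom).left.opensRange

theorem isIso_of_isoOn (hs₀ : RepWith @Surjective E₀.obj.hom) {A : Finset (Kap hr E₀)} (s : g.Sub A)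
    (hs : s.IsoOn h₀ (chartOpen hj (E₀ := E₀))) {PV : Sp S} {pv₁ : PV ⟶ X} {pv₂ : PV ⟶ Vsp}
    (hPV : IsPullback pv₁ pv₂ ν jm) {Pi : Sp S} {q₁ : Pi ⟶ s.Z} {q₂ : Pi ⟶ Vsp}
    (hq : IsPullback q₁ q₂ (s.ι ≫ g.τ A) jm) (k : PV ⟶ Pi) (hk₁ : k ≫ q₁ = pv₁ ≫ s.k) (hk₂ : k ≫ q₂ = pv₂) :
    IsIso k := by
  obtain ⟨κ, hκρ, hκη⟩ := s.exists_kappa h₀
  have hiso := hs κ hκρ
  have hq₁ : RepWith @IsOpenImmersion q₁ := RepWith.baseChange hq.flip hj
  let a : (yon S).obj (hq₁.1.pullback (s.η h₀)) ⟶ Pi := hq₁.1.fst (s.η h₀)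
  let ω := hq₁.1.snd (s.η h₀)
  haveI : IsOpenImmersion ω.left := hq₁.property_snd _
  have sqω : IsPullback a ((yon S).map ω) q₁ (s.η h₀) := hq₁.1.isPullback _
  have hηe : RepWith @Etale (s.η h₀) := RepWith.baseChange (s.isPullback_f h₀).flip E₀.property
  have hηs : RepWith @Surjective (s.η h₀) := RepWith.baseChange (s.isPullback_f h₀).flip hs₀
  have hae : RepWith @Etale a := RepWith.baseChange sqω.flip hηe
  have has : RepWith @Surjective a := RepWith.baseChange sqω.flip hηs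
  -- the range of the open piece
  have hrange : Set.range ω.left ⊆ ↑((s.f h₀).left ⁻¹ᵁ chartOpen hj (E₀ := E₀)) := by
    haveI : IsOpenImmersion (hj.1.snd E₀.obj.hom).left := hj.property_snd _
    obtain ⟨m, hm⟩ : ∃ m, m ≫ hj.1.snd E₀.obj.hom = ω ≫ s.f h₀ :=
      ⟨hj.1.lift (a ≫ q₂) (ω ≫ s.f h₀) (by
        rw [Functor.map_comp, Category.assoc, Category.assoc, ← hq.w, reassoc_of% sqω.w, ← (s.isPullback_f h₀).w]),
        hj.1.lift_snd _ _ _⟩
    rintro _ ⟨x, rfl⟩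
    exact ⟨m.left x, by rw [← Scheme.Hom.comp_apply, ← Over.comp_left, hm]; rfl⟩
  -- representability
  have hkr : Representable k := by
    have hq₂a : IsAffineMor q₂ := isAffineMor_of_isPullback hq (isAffineMor_sysTAux h₀ s hs₀)
    refine (repWith_of_comp ⊤ (b := q₂) ?_ (RepWith.mono le_top (diag_separated hq₂a))).1
    rw [hk₂]
    exact RepWith.baseChange hPV ⟨hr, fun _ _ _ _ _ _ => trivial⟩
  have sqk : IsPullback pv₁ k s.k q₁ := by
    refine IsPullback.of_bot ?_ hk₁.symm hq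
    rw [hk₂, ← Category.assoc, s.hk, g.x_τ]
    exact hPV
  have sqκ : IsPullback (hr.fst E₀.obj.hom) ((yon S).map κ) s.k (s.η h₀) := by
    refine IsPullback.of_bot ?_ hκη.symm (s.isPullback_f h₀)
    rw [← Category.assoc s.k, s.hk, g.x_τ, ← Functor.map_comp, Sub.f, ← Category.assoc κ, hκρ, chartMap_v]
    exact hr.isPullback E₀.obj.hom
  -- the pulled back comparison
  let k' := hkr.snd a
  let b : (yon S).obj (hkr.pullback a) ⟶ PV := hkr.fst a
  have sqb : IsPullback b ((yon S).map k') k a := hkr.isPullback a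
  obtain ⟨μ, hμ⟩ := (yon S).map_surjective (sqκ.lift (b ≫ pv₁) ((yon S).map (k' ≫ ω)) (by
    rw [Functor.map_comp, Category.assoc, Category.assoc, ← hk₁, ← Category.assoc b, sqb.w, Category.assoc,
      ← sqω.w]))
  have hμ2 : μ ≫ κ = k' ≫ ω := (yon S).map_injective (by rw [Functor.map_comp, hμ, sqκ.lift_snd])
  have big : IsPullback ((yon S).map μ) ((yon S).map k') ((yon S).map κ) ((yon S).map ω) := by
    refine IsPullback.of_right ?_ (by rw [← Functor.map_comp, ← Functor.map_comp, hμ2]) sqκ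
    rw [hμ, sqκ.lift_fst, ← sqω.w]
    exact sqb.paste_horiz sqk
  have bigS : IsPullback μ.left k'.left κ.left ω.left :=
    (IsPullback.of_map (yon S) (Over.OverMorphism.ext (congrArg (fun q => q.left) hμ2) ) big).map (Over.forget S)
  have hik : IsIso k'.left := by
    let O := (s.f h₀).left ⁻¹ᵁ chartOpen hj (E₀ := E₀)
    let l := IsOpenImmersion.lift O.ι ω.left (by rw [Scheme.Opens.range_ι]; exact hrange)
    have hl : l ≫ O.ι = ω.left := IsOpenImmersion.lift_fac _ _ _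
    have sqO := isPullback_morphismRestrict κ.left O
    let μ' := IsOpenImmersion.lift (κ.left ⁻¹ᵁ O).ι μ.left (by
      rw [Scheme.Opens.range_ι]
      rintro _ ⟨x, rfl⟩
      show κ.left (μ.left x) ∈ O
      have e : κ.left (μ.left x) = ω.left (k'.left x) := congrArg (fun q : (hkr.pullback a).left ⟶ (s.W h₀).left => q x) bigS.w
      rw [e]
      exact hrange ⟨_, rfl⟩)
    have hμ' : μ' ≫ (κ.left ⁻¹ᵁ O).ι = μ.left := IsOpenImmersion.lift_fac _ _ _
    have hw : μ' ≫ (κ.left ∣_ O) = k'.left ≫ l := by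
      rw [← cancel_mono O.ι, Category.assoc, Category.assoc, morphismRestrict_ι, hl, reassoc_of% hμ', bigS.w]
    have top : IsPullback μ' k'.left (κ.left ∣_ O) l := by
      refine IsPullback.of_right (h₁₂ := (κ.left ⁻¹ᵁ O).ι) (h₂₂ := O.ι) ?_ hw sqO.flip
      rw [hμ', hl]
      exact bigS
    exact MorphismProperty.of_isPullback (P := MorphismProperty.isomorphisms Scheme.{u}) top hiso
  have := isLocallySurjective_of_etale hae has
  exact isIso_of_repWith_isomorphisms (repWith_of_isLocallySurjective hkr a sqb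
    (MorphismProperty.isomorphisms Scheme.{u}) ((AlgSp.repWith_yon_map_iff _ _).2 hik))

end descend

end Gens

end Groth.Agent.AlgSpLib.VCart

namespace Groth.Agent.AlgSpLib.VCart

open Groth.Agent.AlgSpLib.QCohEt Groth.Agent.AlgSpLib.SerreAff RelSpecSp LimitSep

set_option backward.isDefEq.respectTransparency.types false
set_option backward.isDefEq.respectTransparency false

variable {S : Scheme.{u}} {Y : AlgSp.Space S} {X : Sp S} {ν : X ⟶ Y.obj} {hr : Representable ν} {E₀ : EtOver Y.obj}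

/-- finite presentation over the basic opens inside an open of the base -/
theorem finitePresentation_appLE_of_open (h₀ : IsAff E₀) {Vsp : Sp S} {jm : Vsp ⟶ Y.obj}
    (hj : RepWith @IsOpenImmersion jm) {PV : Sp S} {pv₁ : PV ⟶ X} {pv₂ : PV ⟶ Vsp}
    (hPV : IsPullback pv₁ pv₂ ν jm) (hfp : LocP @LocallyOfFinitePresentation pv₂)
    (haff : IsAffineMor ν) (g : Γ(E₀.obj.left.left, ⊤))
    (hg : E₀.obj.left.left.basicOpen g ≤ Gens.chartOpen hj (E₀ := E₀)) :
    ((hr.snd E₀.obj.hom).left.appLE ⊤ ((EtOver.bcObj hr E₀).obj.left.left.basicOpen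
      ((hr.snd E₀.obj.hom).left.appTop g)) le_top).hom.FinitePresentation := by
  haveI : IsAffine E₀.obj.left.left := h₀
  haveI : IsAffine (EtOver.bcObj hr E₀).obj.left.left :=
    haveI := h₀
    isAff_bcObj hr haff E₀
  haveI : IsOpenImmersion (hj.1.snd E₀.obj.hom).left := hj.property_snd _
  let n := (hr.snd E₀.obj.hom).left
  let P := n ⁻¹ᵁ Gens.chartOpen hj (E₀ := E₀)
  let WO : Over S := Over.mk (P.ι ≫ (hr.pullback E₀.obj.hom).hom)
  let io : WO ⟶ hr.pullback E₀.obj.hom := Over.homMk P.ι rfl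
  let ll : WO.left ⟶ (hj.1.pullback E₀.obj.hom).left := IsOpenImmersion.lift (hj.1.snd E₀.obj.hom).left (P.ι ≫ n) (by
    rintro _ ⟨x, rfl⟩
    exact x.2)
  have hll : ll ≫ (hj.1.snd E₀.obj.hom).left = P.ι ≫ n := IsOpenImmersion.lift_fac _ _ _
  let l : WO ⟶ hj.1.pullback E₀.obj.hom := Over.homMk ll (by
    rw [← Over.w (hj.1.snd E₀.obj.hom), ← Category.assoc, hll, Category.assoc, Over.w (hr.snd E₀.obj.hom)]
    rfl)
  have hl : l ≫ hj.1.snd E₀.obj.hom = io ≫ hr.snd E₀.obj.hom := Over.OverMorphism.ext hll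
  obtain ⟨a, ha1, ha2⟩ : ∃ a : (yon S).obj WO ⟶ PV, a ≫ pv₁ = (yon S).map io ≫ hr.fst E₀.obj.hom ∧
      a ≫ pv₂ = (yon S).map l ≫ hj.1.fst E₀.obj.hom := by
    refine ⟨hPV.lift _ _ ?_, hPV.lift_fst _ _ _, hPV.lift_snd _ _ _⟩
    rw [Category.assoc, Category.assoc, hr.w, hj.1.w, ← Category.assoc, ← Category.assoc, ← Functor.map_comp,
      ← Functor.map_comp, hl]
  have hpv : RepWith @IsOpenImmersion pv₁ := RepWith.baseChange hPV.flip hj
  haveI : Mono pv₁ := mono_of_repWith (fun _ _ q (_ : IsOpenImmersion q) => (inferInstance : Mono q)) hpv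
  have hio : RepWith @Etale ((yon S).map io) := (repWith_yon_map_iff _ _).2 (inferInstanceAs (Etale P.ι))
  have hae : RepWith @Etale a := repWith_of_comp_mono a pv₁ (by
    rw [ha1]
    exact RepWith.comp hio (RepWith.baseChange (hr.isPullback E₀.obj.hom).flip E₀.property))
  haveI : LocallyOfFinitePresentation ll :=
    hfp a (hj.1.fst E₀.obj.hom) l hae (RepWith.baseChange (hj.1.isPullback E₀.obj.hom).flip E₀.property) ha2
  haveI : LocallyOfFinitePresentation (P.ι ≫ n) := by rw [← hll]; infer_instance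
  let N := (EtOver.bcObj hr E₀).obj.left.left
  let B := N.basicOpen (n.appTop g)
  have hBP : B ≤ P.ι.opensRange := by
    rw [Scheme.Opens.opensRange_ι]
    exact (le_of_eq (Scheme.preimage_basicOpen n g).symm).trans (n.preimage_mono hg)
  have hB : IsAffineOpen B := (isAffineOpen_top N).basicOpen _
  have h1 := (P.ι ≫ n).finitePresentation_appLE (isAffineOpen_top E₀.obj.left.left)
    (hB.preimage_of_isOpenImmersion P.ι hBP) le_top
  have e : (P.ι ≫ n).appLE ⊤ (P.ι ⁻¹ᵁ B) le_top = n.appLE ⊤ B le_top ≫ P.ι.app B := by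
    rw [Scheme.Hom.app_eq_appLE, Scheme.Hom.appLE_comp_appLE]
  haveI : IsIso (P.ι.app B) := P.ι.isIso_app _ hBP
  have e2 : n.appLE ⊤ B le_top = (P.ι ≫ n).appLE ⊤ (P.ι ⁻¹ᵁ B) le_top ≫ inv (P.ι.app B) := by
    rw [e, Category.assoc, IsIso.hom_inv_id, Category.comp_id]
  show (n.appLE ⊤ B le_top).hom.FinitePresentation
  rw [e2]
  exact (RingHom.FinitePresentation.of_bijective (ConcreteCategory.bijective_of_isIso (inv (P.ι.app B)))).comp h1

end Groth.Agent.AlgSpLib.VCart
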