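import Groth.Agent.AlgSpLib.SchemeStage
import Groth.Agent.AlgSpLib.FpqcBaseAffine2
import Groth.Agent.S10068
import Groth.Agent.S10421

/-!
Finite covers by schemes, finite etale over a given quasi-compact open, from a splitting of an etale chart.
-/

universe u

open CategoryTheory CategoryTheory.Limits AlgebraicGeometry Opposite Topology
open AlgSp

noncomputable section

namespace Groth.Agent.AlgSpLib.StratCov

set_option backward.isDefEq.respectTransparency.types false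
set_option backward.isDefEq.respectTransparency false

set_option linter.style.haveILetI false

variable {S : Scheme.{u}}

/-- a scheme integral over `Z` which is a given finite etale split cover over the open `W` -/
theorem exists_integral_over_open [QuasiSeparatedSpace ↥S] (X : AlgSp.Space S)
    (hqs : AlgSp.IsQuasiSeparatedSp X.obj) {V : Over S} (b : (AlgSp.yon S).obj V ⟶ X.obj)
    (he : AlgSp.RepWith @Etale b) (hes : AlgSp.RepWith @Surjective b) (hsep : IsSeparatedMor b)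
    (hvc : AlgSp.RepWith @QuasiCompact b)
    (W : AlgSp.Space S) (jW : W ⟶ X) (hjW : AlgSp.RepWith @IsOpenImmersion jW.hom)
    {Y₀ : Over S} [CompactSpace ↥Y₀.left] (τ : (AlgSp.yon S).obj Y₀ ⟶ W.obj) (hτf : AlgSp.RepWith @IsFinite τ)
    (hτs : AlgSp.RepWith @Surjective τ)
    {n : ℕ} (σ : Fin n → (Y₀ ⟶ V)) (hσ : ∀ i, (AlgSp.yon S).map (σ i) ≫ b = τ ≫ jW.hom)
    (hsplit : SplitsAt b (τ ≫ jW.hom) σ) :
    ∃ (Y : Over S) (g : (AlgSp.yon S).obj Y ⟶ X.obj), AlgSp.RepWith @IsIntegralHom g ∧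
      Set.range (AlgSp.Points.map jW.hom) ⊆ Set.range (AlgSp.Points.map g) ∧
      ∀ (P : AlgSp.Sp S) (fst : P ⟶ (AlgSp.yon S).obj Y) (snd : P ⟶ W.obj), IsPullback fst snd g jW.hom →
        ∃ k : P ⟶ (AlgSp.yon S).obj Y₀, IsIso k ∧ k ≫ τ = snd := by
  haveI := Induct.mono_openImm hjW
  let YS : AlgSp.Space S := ⟨(AlgSp.yon S).obj Y₀, IsAlgSpace.yon_obj Y₀⟩
  let τS : YS ⟶ W := ObjectProperty.homMk τ
  let ρ : YS ⟶ X := τS ≫ jW
  have hτi : IsIntegralMor τS.hom := (isIntegralMor_iff_repWith _).2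
    (RepWith.mono (fun _ _ q (_ : IsFinite q) => (inferInstance : IsIntegralHom q)) hτf)
  have hρc : IsQuasiCompactMor ρ.hom := isQuasiCompactMor_of_qc_qs YS.property X.property _
    ⟨_, 𝟙 _, repWith_id _ _, repWith_id _ _, (inferInstance : CompactSpace ↥Y₀.left)⟩ hqs
  have hρs : IsQuasiSeparatedMor ρ.hom := isQuasiSeparatedMor_of_isSeparatedMor
    (isSeparatedMor_comp (LimitSep.diag_separated (VCart.isAffineMor_of_finiteMor ((isFiniteMor_iff_repWith _).2 hτf)))
      (isSeparatedMor_of_mono jW.hom))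
  obtain ⟨X', ν, f', hn⟩ := Groth.Agent.S10295.result ρ hρc hρs
  have hν := (isIntegralMor_iff_repWith ν.hom).1 hn.2.1
  obtain ⟨Wv, w, fst, sq, -⟩ := exists_yon_of_repWith hν b
  have hp : AlgSp.RepWith @Etale fst := RepWith.baseChange sq.flip he
  have hps : AlgSp.RepWith @Surjective fst := RepWith.baseChange sq.flip hes
  have hpc : AlgSp.RepWith @QuasiCompact fst := RepWith.baseChange sq.flip hvc
  choose l hl using fun k => (AlgSp.yon S).map_surjective (sq.lift f'.hom ((AlgSp.yon S).map (σ k))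
    (by rw [hn.1, hσ]; rfl))
  have hl1 : ∀ k, (AlgSp.yon S).map (l k) ≫ fst = f'.hom := fun k => by rw [hl, sq.lift_fst]
  have hl2 : ∀ k, l k ≫ w = σ k := fun k => (AlgSp.yon S).map_injective (by
    rw [Functor.map_comp, hl, sq.lift_snd])
  let q : ∀ k : ULift.{u} (Fin n), (AlgSp.yon S).obj (imgOver (l k.down)) ⟶ X'.obj := fun k =>
    (AlgSp.yon S).map (imgOverι (l k.down)) ≫ fst
  have hq : ∀ k, AlgSp.RepWith @IsOpenImmersion (q k) := fun k =>
    repWith_openImmersion_img ρ ν f' hn (l k.down) fst hp hpc (isSeparatedMor_of_isPullback sq.flip hsep) (hl1 _)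
  have hcov : ∀ z : ↥Wv.left, ∃ k, z ∈ Set.range (imgOverι (l k)).left := by
    have hcl : IsClosed (⋃ k, Set.range (imgOverι (l k)).left) :=
      isClosed_iUnion_of_finite fun k => (l k).left.imageι.isClosedEmbedding.isClosed_range
    have hd : Dense (⋃ k, Set.range (imgOverι (l k)).left) := by
      refine dense_iff_inter_open.2 fun O hO ⟨z, hz⟩ => ?_
      obtain ⟨_, ⟨z', hz', rfl⟩, p, hp'⟩ := (Groth.Agent.S10421.dense_range_normalization ρ hρc hρs ν f' hn).inter_open_nonempty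
        _ (isOpenMap_ofPt fst hp _ hO) ⟨_, z, hz, rfl⟩
      rw [AlgSp.Points.ofPt_eq_map_ofScheme] at hp'
      obtain ⟨r, hr1, hr2⟩ := exists_point_of_isPullback (hp.1.isPullback f'.hom) hp'.symm
      obtain ⟨r₀, rfl⟩ := (AlgSp.Points.schemeEquiv _).surjective r
      obtain ⟨Q₁, hQ₁⟩ := (AlgSp.yon S).map_surjective (hp.1.fst f'.hom)
      let Q₂ : hp.1.pullback f'.hom ⟶ Y₀ := hp.1.snd f'.hom
      obtain ⟨Ω, _, _, ζ, hζ⟩ := FEtSect.exists_geomPoint r₀
      let sΩ : Spec (CommRingCat.of Ω) ⟶ S := ζ ≫ (hp.1.pullback f'.hom).hom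
      let ζ' : Over.mk sΩ ⟶ hp.1.pullback f'.hom := Over.homMk ζ rfl
      have hw : (AlgSp.yon S).map Q₁ ≫ fst = (AlgSp.yon S).map Q₂ ≫ f'.hom := by
        rw [hQ₁]; exact (hp.1.isPullback f'.hom).w
      obtain ⟨k, hk⟩ := hsplit Ω sΩ (ζ' ≫ Q₂) (ζ' ≫ Q₁ ≫ w) (by
        have := congrArg (fun t => (AlgSp.yon S).map ζ' ≫ t ≫ ν.hom) hw
        simp only [Category.assoc] at this
        rw [sq.w, hn.1] at this
        simp only [Functor.map_comp, Category.assoc]
        exact this.symm)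
      have hk' : ζ' ≫ Q₁ = (ζ' ≫ Q₂) ≫ l k := (AlgSp.yon S).map_injective (sq.hom_ext
        (by simp only [Functor.map_comp, Category.assoc, hl1, hw])
        (by rw [← Functor.map_comp, ← Functor.map_comp, Category.assoc, Category.assoc (ζ' ≫ Q₂), hl2, hk]))
      have hz'' : z' = Q₁.left r₀ := (AlgSp.Points.schemeEquiv Wv).injective (by
        show AlgSp.Points.ofScheme Wv z' = AlgSp.Points.ofScheme Wv _
        rw [← map_yon_map_ofScheme, hQ₁]
        exact hr1.symm)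
      refine ⟨z', hz', Set.mem_iUnion.2 ⟨k, (toImgOver (l k)).left ((ζ' ≫ Q₂).left (IsLocalRing.closedPoint Ω)), ?_⟩⟩
      rw [hz'', ← hζ (IsLocalRing.closedPoint Ω)]
      have := congrArg (fun t => t.left (IsLocalRing.closedPoint Ω)) hk'
      simp only [Over.comp_left, Scheme.Hom.comp_apply] at this
      show (imgOverι (l k)).left ((toImgOver (l k)).left _) = _
      rw [← Scheme.Hom.comp_apply, ← Over.comp_left, toImgOver_ι]
      exact this.symm
    intro z
    exact Set.mem_iUnion.1 (hcl.closure_eq ▸ hd z)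
  have hcovX : ∀ x : AlgSp.Points X'.obj, ∃ k, x ∈ Set.range (AlgSp.Points.map (q k)) := fun x => by
    obtain ⟨z, rfl⟩ := surjective_ofPt fst hps x
    obtain ⟨k, t, rfl⟩ := hcov z
    refine ⟨⟨k⟩, ?_⟩
    rw [Induct.range_map_yon]
    exact ⟨t, ofPt_map _ _ _⟩
  obtain ⟨Y, ⟨iY⟩⟩ := exists_iso_yon_of_openCover q hq hcovX
  refine ⟨Y, iY.hom ≫ ν.hom, RepWith.comp (repWith_of_isIso _ _) hν, ?_, fun P pY pG sqP => ?_⟩
  · rintro _ ⟨x, rfl⟩
    obtain ⟨p, rfl⟩ := surjective_map_of_repWith hτs x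
    refine ⟨AlgSp.Points.map (f'.hom ≫ iY.inv) p, ?_⟩
    rw [← AlgSp.Points.map_comp, ← AlgSp.Points.map_comp, Category.assoc, iY.inv_hom_id_assoc, hn.1]
    rfl
  ·
    have hP : IsAlgSpace P :=
      isAlgSpace_of_isPullback X.property.diag (IsAlgSpace.yon_obj Y) W.property sqP
    let PS : AlgSp.Space S := ⟨P, hP⟩
    let ν₂ : PS ⟶ W := ObjectProperty.homMk pG
    let r : PS ⟶ X' := ObjectProperty.homMk (pY ≫ iY.hom)
    have sqP' : IsPullback r.hom ν₂.hom ν.hom jW.hom :=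
      sqP.of_iso (Iso.refl _) iY (Iso.refl _) (Iso.refl _) (by simp [r]) (by simp [ν₂]) (by simp) (by simp)
    let k : YS ⟶ PS := ObjectProperty.homMk (sqP'.lift f'.hom τS.hom (by rw [hn.1]; rfl))
    have hk1 : k.hom ≫ r.hom = f'.hom := sqP'.lift_fst _ _ _
    have hk2 : k.hom ≫ ν₂.hom = τS.hom := sqP'.lift_snd _ _ _
    have hsq : IsPullback (𝟙 YS : YS ⟶ YS).hom τS.hom ρ.hom jW.hom := by
      refine isPullback_of_yon (Category.id_comp _) fun T x y h => ⟨x, ⟨Category.comp_id x, ?_⟩, ?_⟩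
      · exact (cancel_mono jW.hom).1 (by rw [Category.assoc]; exact h)
      · rintro z ⟨hz, -⟩
        exact (Category.comp_id z).symm.trans hz
    have hjsm : LocP @Smooth jW.hom := locP_of_repWith etLocal_smooth W.property
      (RepWith.mono (fun _ _ g (hg : IsOpenImmersion g) => (inferInstance : Smooth g)) hjW)
    obtain ⟨-, hn₂⟩ := isRelNormalization_baseChange_smooth ρ jW τS (𝟙 YS) hsq hρc hρs hjsm hn sqP'
      (f₂' := k) (InducedCategory.hom_ext hk2) (InducedCategory.hom_ext (by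
        show k.hom ≫ r.hom = (𝟙 YS.obj) ≫ f'.hom
        rw [Category.id_comp, hk1]))
    obtain ⟨h, ⟨h1, h2⟩, -⟩ := hn₂.2.2 YS.property τS.hom (𝟙 _) hτi (Category.id_comp _)
    have h3 : h ≫ k.hom = 𝟙 _ := (hn₂.2.2 PS.property ν₂.hom k.hom hn₂.2.1 hn₂.1).unique
      ⟨by rw [reassoc_of% h1], by rw [Category.assoc, hk2, h2]⟩ ⟨Category.comp_id _, Category.id_comp _⟩
    haveI : IsIso h := ⟨k.hom, h3, h1⟩
    exact ⟨h, inferInstance, h2⟩

/-- a scheme finite of finite presentation over `X` which is the given finite etale split cover over `W` -/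
theorem exists_finite_over_open [QuasiSeparatedSpace ↥S] (X : AlgSp.Space S)
    (hqc : AlgSp.IsQuasiCompactSp X.obj) (hqs : AlgSp.IsQuasiSeparatedSp X.obj)
    {V : Over S} (b : (AlgSp.yon S).obj V ⟶ X.obj)
    (he : AlgSp.RepWith @Etale b) (hes : AlgSp.RepWith @Surjective b) (hsep : IsSeparatedMor b)
    (hvc : AlgSp.RepWith @QuasiCompact b)
    (W : AlgSp.Space S) (jW : W ⟶ X) (hjW : AlgSp.RepWith @IsOpenImmersion jW.hom)
    (hWqc : AlgSp.IsQuasiCompactSp W.obj)
    {Y₀ : Over S} (τ : (AlgSp.yon S).obj Y₀ ⟶ W.obj) (hτf : AlgSp.RepWith @IsFinite τ)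
    (hτe : AlgSp.RepWith @Etale τ) (hτs : AlgSp.RepWith @Surjective τ)
    {n : ℕ} (σ : Fin n → (Y₀ ⟶ V)) (hσ : ∀ i, (AlgSp.yon S).map (σ i) ≫ b = τ ≫ jW.hom)
    (hsplit : SplitsAt b (τ ≫ jW.hom) σ) :
    ∃ (Y : Over S) (g : (AlgSp.yon S).obj Y ⟶ X.obj),
      AlgSp.IsFiniteMor g ∧ AlgSp.IsFinitePresentationMor g ∧
      Set.range (AlgSp.Points.map jW.hom) ⊆ Set.range (AlgSp.Points.map g) ∧
      ∀ (P : AlgSp.Sp S) (fst : P ⟶ (AlgSp.yon S).obj Y) (snd : P ⟶ W.obj), IsPullback fst snd g jW.hom →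
        AlgSp.RepWith @IsFinite snd ∧ AlgSp.RepWith @Etale snd := by
  classical
  haveI : CompactSpace ↥Y₀.left := SchStage.compactSpace_of_sp Y₀ (OpenFac.isQuasiCompactSp_of_affine W.property
    (VCart.isAffineMor_of_finiteMor ((isFiniteMor_iff_repWith _).2 hτf)) hWqc)
  obtain ⟨Y₁, g₁, hgi, hrange, hiso₁⟩ := exists_integral_over_open X hqs b he hes hsep hvc W jW hjW τ hτf hτs σ hσ hsplit
  have sqP := IsPullback.of_hasPullback g₁ jW.hom
  obtain ⟨k₀, hk₀i, hk₀⟩ := hiso₁ _ _ _ sqP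
  have hPf : AlgSp.RepWith @IsFinite (pullback.snd g₁ jW.hom) :=
    hk₀ ▸ RepWith.comp (repWith_of_isIso _ k₀) hτf
  have hPe : AlgSp.RepWith @Etale (pullback.snd g₁ jW.hom) :=
    hk₀ ▸ RepWith.comp (repWith_of_isIso _ k₀) hτe
  have hPa : AlgSp.IsAlgSpace (pullback g₁ jW.hom) :=
    isAlgSpace_of_isPullback X.property.diag (IsAlgSpace.yon_obj _) W.property sqP
  have hfin : AlgSp.IsFiniteMor (pullback.snd g₁ jW.hom) := (isFiniteMor_iff_repWith _).2 hPf
  have hfp : AlgSp.IsFinitePresentationMor (pullback.snd g₁ jW.hom) :=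
    ⟨locP_of_repWith etLocal_lfp hPa (RepWith.mono etale_le_lfp hPe),
      (repWith_quasiCompact_iff hPa W.property hPe.1).1 (RepWith.mono (fun _ _ q (_ : IsFinite q) =>
        (inferInstance : QuasiCompact q)) hPf),
      isQuasiSeparatedMor_of_isSeparatedMor (LimitSep.diag_separated (VCart.isAffineMor_of_finiteMor hfin))⟩
  obtain ⟨I, _, _, _, D, t, c, hc, e, hD, hDa, hDt, hce, hiso⟩ := Groth.Agent.S10068.result S
    (X := ⟨(AlgSp.yon S).obj Y₁, IsAlgSpace.yon_obj _⟩) (Y := X) (ObjectProperty.homMk g₁)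
    ((isIntegralMor_iff_repWith g₁).2 hgi) hqc hqs W jW hjW hWqc _ _ _ sqP hfin hfp
  have hta : ∀ i, AlgSp.IsAffineMor (t.app i) := fun i => VCart.isAffineMor_of_finiteMor (hDt i).1
  haveI : IsCofiltered Iᵒᵖ := inferInstance
  obtain ⟨i, hrep⟩ := Groth.Agent.S10007.result S D hD hDa
    (fun i => OpenFac.isQuasiCompactSp_of_affine X.property (hta i) hqc)
    (fun i => VCart.isQuasiSeparatedSp_of_affineMor (hta i) hqs) c hc (isRepresentable_of_iso_yon e.symm)
  obtain ⟨Y, ⟨ε⟩⟩ := exists_iso_yon_of_isRepresentable hrep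
  refine ⟨Y, ε.hom ≫ t.app i, (isFiniteMor_iff_repWith _).2
      (RepWith.comp (repWith_of_isIso @IsFinite ε.hom) ((isFiniteMor_iff_repWith _).1 (hDt i).1)), ?_, ?_,
    fun P fst snd hP => ?_⟩
  · haveI : Mono ε.hom := inferInstance
    refine ⟨locP_comp etLocal_lfp (IsAlgSpace.yon_obj _) (hD i) X.property
      (locP_of_repWith etLocal_lfp (IsAlgSpace.yon_obj _) (RepWith.mono (fun _ _ q (_ : IsOpenImmersion q) =>
        (inferInstance : LocallyOfFinitePresentation q)) (repWith_of_isIso @IsOpenImmersion ε.hom)))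
      (hDt i).2.1, ?_, isQuasiSeparatedMor_comp (isQuasiSeparatedMor_of_mono _) (hDt i).2.2.2⟩
    exact isQuasiCompactMor_comp (IsAlgSpace.yon_obj _) (hD i) X.property
      ((repWith_quasiCompact_iff (IsAlgSpace.yon_obj _) (hD i) (repWith_of_isIso @QuasiCompact ε.hom).1).1
        (repWith_of_isIso @QuasiCompact ε.hom)) (hDt i).2.2.1
  · refine hrange.trans ?_
    rintro _ ⟨y, rfl⟩
    refine ⟨AlgSp.Points.map (e.inv ≫ c.π.app i ≫ ε.inv) y, ?_⟩
    rw [← AlgSp.Points.map_comp]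
    simp only [Category.assoc, Iso.inv_hom_id_assoc]
    exact congrArg (fun q => AlgSp.Points.map q y) (hce i)
  · have sq : IsPullback (fst ≫ ε.hom) snd (t.app i) jW.hom :=
      hP.of_iso (Iso.refl _) ε (Iso.refl _) (Iso.refl _) (by simp) (by simp) (by simp) (by simp)
    obtain ⟨k, hk1, hk2⟩ : ∃ k, k ≫ fst ≫ ε.hom = pullback.fst g₁ jW.hom ≫ e.inv ≫ c.π.app i ∧
        k ≫ snd = pullback.snd g₁ jW.hom := ⟨sq.lift _ _ (by
          rw [Category.assoc, Category.assoc, hce i]; exact sqP.w), sq.lift_fst _ _ _, sq.lift_snd _ _ _⟩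
    haveI : IsIso k := hiso i P _ snd sq k hk1 hk2
    have hs : snd = inv k ≫ pullback.snd g₁ jW.hom := by rw [← hk2, IsIso.inv_hom_id_assoc]
    rw [hs]
    exact ⟨RepWith.comp (repWith_of_isIso @IsFinite (inv k)) hPf, RepWith.comp (repWith_of_isIso @Etale (inv k)) hPe⟩

end Groth.Agent.AlgSpLib.StratCov
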