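import Groth.Agent.AlgSpLib.SplitDense
import Groth.Agent.AlgSpLib.DegreeStrat
import Groth.Agent.AlgSpLib.FpqcBaseAffine2
import Groth.Agent.Split8.Main

/-!
Over a stratum of constant degree an etale chart splits after a finite etale cover by a scheme.
-/

universe u

open CategoryTheory CategoryTheory.Limits AlgebraicGeometry
open AlgSp

noncomputable section

namespace Groth.Agent.AlgSpLib.StratCov

set_option backward.isDefEq.respectTransparency.types false
set_option backward.isDefEq.respectTransparency false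
set_option linter.style.haveILetI false

variable {S : Scheme.{u}}

theorem exists_split_stratum {X W : Sp S} {U : Over S} (a : (yon S).obj U ⟶ X)
    (hae : RepWith @Etale a) (has : RepWith @Surjective a) (i : W ⟶ X) (hi : RepWith @IsImmersion i) (d : ℕ)
    (hdeg : ∀ {T P : Over S} (g : (yon S).obj T ⟶ W) (fst : (yon S).obj P ⟶ (yon S).obj U) (c : P ⟶ T),
      IsPullback fst ((yon S).map c) a (g ≫ i) → finLocFreeOfDeg d c.left) :
    ∃ (Y₀ : Over S) (τ : (yon S).obj Y₀ ⟶ W) (σ : Fin d → (Y₀ ⟶ U)),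
      RepWith @IsFinite τ ∧ RepWith @Etale τ ∧ RepWith @Surjective τ ∧
      (∀ k, (yon S).map (σ k) ≫ a = τ ≫ i) ∧ SplitsAt a (τ ≫ i) σ := by
  classical
  obtain ⟨R, rU, fst, sq, -⟩ := exists_yon_of_repWith hi a
  have hfe : RepWith @Etale fst := RepWith.baseChange sq.flip hae
  have hfs : RepWith @Surjective fst := RepWith.baseChange sq.flip has
  have hff : RepWith @IsFinite fst := ⟨hfe.1, fun T P g l c sql => by
    obtain ⟨l', rfl⟩ := (yon S).map_surjective l
    exact (hdeg g ((yon S).map (l' ≫ rU)) c (by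
      rw [Functor.map_comp]; exact sql.paste_horiz sq.flip)).1.1⟩
  -- the chart pulled back to `R`
  obtain ⟨P, φ, pU, sqP, hφe⟩ := exists_yon_of_repWith hae (fst ≫ i)
  obtain ⟨hflf, hd⟩ := hdeg fst pU φ sqP
  haveI : IsFinite φ.left := hflf.1
  haveI : Etale φ.left := hφe
  obtain ⟨T, τ₀, hτf, hτe, hτd, σ, hσ, hinj⟩ := Split8.exists_splitting d _ _ φ.left hd
  haveI := hτf
  haveI := hτe
  haveI : Surjective τ₀ := τ₀.one_le_finrank_iff_surjective.1 fun s => by rw [hτd s]; exact Nat.factorial_pos d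
  let Y₀ : Over S := Over.mk (τ₀ ≫ R.hom)
  let t : Y₀ ⟶ R := Over.homMk τ₀ rfl
  let s : Fin d → (Y₀ ⟶ P) := fun k => Over.homMk (σ k) (by
    show σ k ≫ P.hom = τ₀ ≫ R.hom
    rw [← Over.w φ, ← Category.assoc, hσ k])
  have hs : ∀ k, s k ≫ φ = t := fun k => Over.OverMorphism.ext (hσ k)
  obtain ⟨pU', rfl⟩ := (yon S).map_surjective pU
  refine ⟨Y₀, (yon S).map t ≫ fst, fun k => s k ≫ pU',
    RepWith.comp ((repWith_yon_map_iff (P := @IsFinite) t).2 hτf) hff,
    RepWith.comp ((repWith_yon_map_iff (P := @Etale) t).2 hτe) hfe,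
    RepWith.comp ((repWith_yon_map_iff (P := @Surjective) t).2 ‹Surjective τ₀›) hfs, fun k => ?_,
    fun Ω _ _ sΩ y v hyv => ?_⟩
  · rw [Functor.map_comp, Category.assoc, sqP.w, ← Functor.map_comp_assoc, hs, Category.assoc]
  obtain ⟨p, hp⟩ := (yon S).map_surjective (sqP.lift ((yon S).map v) ((yon S).map (y ≫ t))
    (by rw [← hyv]; simp only [Functor.map_comp, Category.assoc]))
  have hp1 : p ≫ pU' = v := (yon S).map_injective (by rw [Functor.map_comp, hp, sqP.lift_fst])
  have hp2 : p ≫ φ = y ≫ t := (yon S).map_injective (by rw [Functor.map_comp, hp, sqP.lift_snd])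
  obtain ⟨hfp, hcp, -⟩ := Et18.card_pointLift φ.left (y ≫ t).left
  haveI := hfp
  let ev : Fin d → Et18.PointLift φ.left (y ≫ t).left := fun k =>
    ⟨(y ≫ s k).left, congrArg (fun q => q.left) (show (y ≫ s k) ≫ φ = y ≫ t by rw [Category.assoc, hs])⟩
  have hev : Function.Injective ev := fun k k' h => hinj Ω y.left (congrArg Subtype.val h)
  have hb := hev.bijective_of_nat_card_le (by rw [hcp, hd, Nat.card_eq_fintype_card, Fintype.card_fin])
  obtain ⟨k, hk⟩ := hb.2 ⟨p.left, congrArg (fun q => q.left) hp2⟩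
  refine ⟨k, ?_⟩
  rw [← hp1, ← Category.assoc]
  exact congrArg (· ≫ pU') (Over.OverMorphism.ext (congrArg Subtype.val hk).symm)

end Groth.Agent.AlgSpLib.StratCov
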