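import Groth.Agent.AlgSpLib.SheafCoprod2
import Groth.Agent.AlgSpLib.StratCovInt

/-!
Disjoint unions of two schemes finite of finite presentation over a space.
-/

universe u

open CategoryTheory CategoryTheory.Limits AlgebraicGeometry
open AlgSp

noncomputable section

namespace Groth.Agent.AlgSpLib.StratCov

set_option backward.isDefEq.respectTransparency.types false
set_option backward.isDefEq.respectTransparency false
set_option linter.style.haveILetI false

variable {S : Scheme.{u}}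

/-- the pieces -/
def pairW (Y₁ Y₂ : Over S) : ULift.{u} (Fin 2) → Over S := fun b => ![Y₁, Y₂] b.down

/-- the disjoint union of two schemes finite of finite presentation over a space -/
theorem exists_union {X : AlgSp.Space S} {Y₁ Y₂ : Over S} (g₁ : (yon S).obj Y₁ ⟶ X.obj)
    (g₂ : (yon S).obj Y₂ ⟶ X.obj) (h₁ : IsFiniteMor g₁) (h₂ : IsFiniteMor g₂)
    (p₁ : IsFinitePresentationMor g₁) (p₂ : IsFinitePresentationMor g₂) :
    ∃ (Y : Over S) (g : (yon S).obj Y ⟶ X.obj) (i₁ : (yon S).obj Y₁ ⟶ (yon S).obj Y),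
      IsFiniteMor g ∧ IsFinitePresentationMor g ∧ RepWith @IsOpenImmersion i₁ ∧ i₁ ≫ g = g₁ ∧
      Set.range (Points.map g) = Set.range (Points.map g₁) ∪ Set.range (Points.map g₂) ∧
      ∀ y, y ∈ Set.range (Points.map i₁) ∨ Points.map g y ∈ Set.range (Points.map g₂) := by
  classical
  let W := pairW Y₁ Y₂
  let c : Cofan (fun b => (yon S).obj (W b)) :=
    Cofan.mk ((yon S).obj (sigmaOver W)) fun b => (yon S).map (sigmaOverι W b)
  have hc : IsColimit c := Cofan.IsColimit.mk _
    (fun s => (existsUnique_desc_sigma W fun b => s.inj b).exists.choose)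
    (fun s b => (existsUnique_desc_sigma W fun b => s.inj b).exists.choose_spec b)
    (fun s m hm => (existsUnique_desc_sigma W fun b => s.inj b).unique hm
      (existsUnique_desc_sigma W fun b => s.inj b).exists.choose_spec)
  let gb : ∀ b, (yon S).obj (W b) ⟶ X.obj := fun b => match b with
    | ⟨0⟩ => g₁
    | ⟨1⟩ => g₂
  obtain ⟨g, hg, -⟩ := existsUnique_desc_sigma W gb
  let i₁ : (yon S).obj Y₁ ⟶ (yon S).obj (sigmaOver W) := c.inj ⟨0⟩
  let i₂ : (yon S).obj Y₂ ⟶ (yon S).obj (sigmaOver W) := c.inj ⟨1⟩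
  have hi1 : i₁ ≫ g = g₁ := hg ⟨0⟩
  have hi2 : i₂ ≫ g = g₂ := hg ⟨1⟩
  have hfinb : ∀ b, RepWith @IsFinite (c.inj b ≫ g) := fun b => by
    show RepWith @IsFinite ((yon S).map (sigmaOverι W b) ≫ g)
    rw [hg b]
    match b with
    | ⟨0⟩ => exact (isFiniteMor_iff_repWith _).1 h₁
    | ⟨1⟩ => exact (isFiniteMor_iff_repWith _).1 h₂
  have hfin : RepWith @IsFinite g := repWith_isFinite_of_cofan hc g hfinb
  have hlfp : RepWith @LocallyOfFinitePresentation g :=
    repWith_of_open_cover @LocallyOfFinitePresentation _ (repWith_open_inj hc) (exists_point_inj hc) g fun b => by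
      refine (repWith_iff_locP etLocal_lfp (IsAlgSpace.yon_obj _) X.property (hfinb b).1).2 ?_
      show LocP _ ((yon S).map (sigmaOverι W b) ≫ g)
      rw [hg b]
      match b with
      | ⟨0⟩ => exact p₁.1
      | ⟨1⟩ => exact p₂.1
  have hfm : IsFiniteMor g := (isFiniteMor_iff_repWith _).2 hfin
  have hcov : ∀ y, y ∈ Set.range (Points.map i₁) ∨ y ∈ Set.range (Points.map i₂) := fun y => by
    obtain ⟨b, hb⟩ := exists_point_inj hc y
    match b with
    | ⟨0⟩ => exact Or.inl hb
    | ⟨1⟩ => exact Or.inr hb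
  refine ⟨sigmaOver W, g, i₁, hfm, ⟨locP_of_repWith etLocal_lfp (IsAlgSpace.yon_obj _) hlfp,
      (repWith_quasiCompact_iff (IsAlgSpace.yon_obj _) X.property hfin.1).1 (RepWith.mono
        (fun _ _ q (_ : IsFinite q) => (inferInstance : QuasiCompact q)) hfin),
      isQuasiSeparatedMor_of_isSeparatedMor (LimitSep.diag_separated (VCart.isAffineMor_of_finiteMor hfm))⟩,
    repWith_open_inj hc ⟨0⟩, hi1, ?_, fun y => ?_⟩
  · ext x
    constructor
    · rintro ⟨y, rfl⟩
      rcases hcov y with ⟨z, rfl⟩ | ⟨z, rfl⟩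
      · exact Or.inl ⟨z, by rw [← Points.map_comp, hi1]⟩
      · exact Or.inr ⟨z, by rw [← Points.map_comp, hi2]⟩
    · rintro (⟨z, rfl⟩ | ⟨z, rfl⟩)
      · exact ⟨Points.map i₁ z, by rw [← Points.map_comp, hi1]⟩
      · exact ⟨Points.map i₂ z, by rw [← Points.map_comp, hi2]⟩
  · rcases hcov y with h | ⟨z, rfl⟩
    · exact Or.inl h
    · exact Or.inr ⟨z, by rw [← Points.map_comp, hi2]⟩

end Groth.Agent.AlgSpLib.StratCov
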