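import Groth.Agent.AlgSpLib.SubQuot
import Groth.Agent.AlgSpLib.QCohEtPush
import Groth.Agent.AlgSpLib.QCohEtPSubInduct
import Groth.Agent.AlgSpLib.MorQC
import Groth.Agent.AlgSpLib.YonCoprod
import Groth.Agent.S10035
import Mathlib.AlgebraicGeometry.Sites.Fpqc
import Mathlib.RingTheory.FiniteType

/-!
Affine morphisms to quasi-compact quasi-separated spaces factor scheme theoretically dominantly through ones of
finite type containing prescribed functions.
-/

universe u

open CategoryTheory CategoryTheory.Limits AlgebraicGeometry Opposite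
open AlgSp

noncomputable section

set_option linter.style.haveILetI false

namespace Groth.Agent.AlgSpLib.SubAlg

open Groth.Agent.AlgSpLib.QCohEt

set_option backward.isDefEq.respectTransparency.types false
set_option backward.isDefEq.respectTransparency false

variable {S : Scheme.{u}} {X Y : Sp S} {ν : X ⟶ Y} (hr : Representable ν)

/-- functions on the base change, as sections of the direct image -/
abbrev up (E : EtOver Y) (a : Γ((EtOver.bcObj hr E).obj.left.left, ⊤)) :
    Sec ((pushModEt hr).obj (unitModEt X)) E :=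
  (show ΓE (EtOver.bcObj hr E) from (ULift.up a : ULift.{u + 1} Γ((EtOver.bcObj hr E).obj.left.left, ⊤)))

/-- sections of the direct image as functions -/
abbrev dn (E : EtOver Y) (s : Sec ((pushModEt hr).obj (unitModEt X)) E) :
    Γ((EtOver.bcObj hr E).obj.left.left, ⊤) :=
  (show ULift.{u + 1} Γ((EtOver.bcObj hr E).obj.left.left, ⊤) from (show ΓE (EtOver.bcObj hr E) from s)).down

theorem dn_add (E : EtOver Y) (a b : Sec ((pushModEt hr).obj (unitModEt X)) E) :
    dn hr E (a + b) = dn hr E a + dn hr E b := rfl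

theorem dn_smul (E : EtOver Y) (r : ΓE E) (s : Sec ((pushModEt hr).obj (unitModEt X)) E) :
    dn hr E (r • s) =
      (EtOver.bcπ hr E).left.appTop.hom (show ULift.{u + 1} Γ(E.obj.left.left, ⊤) from r).down * dn hr E s := rfl

theorem dn_mapSec {E W : EtOver Y} (g : W ⟶ E) (s : Sec ((pushModEt hr).obj (unitModEt X)) E) :
    dn hr W (mapSec ((pushModEt hr).obj (unitModEt X)) g s) =
      (EtOver.bcMap hr g).hom.left.left.appTop.hom (dn hr E s) := rfl

/-- the subring of functions generated over the base by a set of sections -/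
def gen (E : EtOver Y) (s : Set (Sec ((pushModEt hr).obj (unitModEt X)) E)) :
    Subring Γ((EtOver.bcObj hr E).obj.left.left, ⊤) :=
  Subring.closure (Set.range (EtOver.bcπ hr E).left.appTop.hom ∪ dn hr E '' s)

theorem appTop_mem_gen (E : EtOver Y) (s : Set (Sec ((pushModEt hr).obj (unitModEt X)) E))
    (a : Γ(E.obj.left.left, ⊤)) : (EtOver.bcπ hr E).left.appTop.hom a ∈ gen hr E s :=
  Subring.subset_closure (Or.inl ⟨a, rfl⟩)

theorem dn_span_mem (E : EtOver Y) {s : Set (Sec ((pushModEt hr).obj (unitModEt X)) E)}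
    {B : Subring Γ((EtOver.bcObj hr E).obj.left.left, ⊤)}
    (hb : ∀ a, (EtOver.bcπ hr E).left.appTop.hom a ∈ B) (hs : ∀ x ∈ s, dn hr E x ∈ B)
    {x : Sec ((pushModEt hr).obj (unitModEt X)) E} (hx : x ∈ Submodule.span (ΓE E) s) : dn hr E x ∈ B := by
  induction hx using Submodule.span_induction with
  | mem v hv => exact hs v hv
  | zero => exact B.zero_mem
  | add v w _ _ hv hw => exact B.add_mem hv hw
  | smul r v _ hv => exact B.mul_mem (hb _) hv

theorem appTop_comp {A B C : Scheme.{u}} (f : A ⟶ B) (g : B ⟶ C) (a : Γ(C, ⊤)) :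
    f.appTop.hom (g.appTop.hom a) = (f ≫ g).appTop.hom a := rfl

theorem bcMap_appTop {E W : EtOver Y} (g : W ⟶ E) (a : Γ(E.obj.left.left, ⊤)) :
    (EtOver.bcMap hr g).hom.left.left.appTop.hom ((EtOver.bcπ hr E).left.appTop.hom a) =
      (EtOver.bcπ hr W).left.appTop.hom (g.hom.left.left.appTop.hom a) := by
  rw [appTop_comp, appTop_comp, ← Over.comp_left, ← Over.comp_left, EtOver.bcMap_snd]

theorem dominant_of_injective {A B : Scheme.{u}} [IsAffine A] [IsAffine B] (f : A ⟶ B)
    (h : Function.Injective f.appTop) : IsSchemeTheoreticallyDominant f := by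
  refine ⟨Scheme.IdealSheafData.ext_of_isAffine ?_⟩
  rw [Scheme.Hom.ker_apply, Scheme.IdealSheafData.ideal_bot, Pi.bot_apply]
  exact (RingHom.injective_iff_ker_eq_bot (f.app ⊤).hom).1 h

/-- a subalgebra of finite type containing given functions descends -/
theorem exists_sub [QuasiSeparatedSpace ↥S] {Y N : AlgSp.Space S} {ν : N.obj ⟶ Y.obj} (hr : Representable ν)
    (haff : IsAffineMor ν) (hqc : IsQuasiCompactSp Y.obj) (hqs : IsQuasiSeparatedSp Y.obj)
    {U : Over S} [IsAffine U.left] {p : (yon S).obj U ⟶ Y.obj} (hpe : RepWith @Etale p)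
    (hps : RepWith @Surjective p) (seeds : Finset Γ((hr.pullback p).left, ⊤)) :
    ∃ (Z : Sp S) (_ : IsAlgSpace Z) (μ : Z ⟶ Y.obj) (h : N.obj ⟶ Z) (V : Over S) (v : V ⟶ U)
      (d : hr.pullback p ⟶ V) (q : (yon S).obj V ⟶ Z),
      h ≫ μ = ν ∧ IsPullback q ((yon S).map v) μ p ∧ RepWith @Etale q ∧ RepWith @Surjective q ∧
      hr.fst p ≫ h = (yon S).map d ≫ q ∧ d ≫ v = hr.snd p ∧ IsAffine V.left ∧
      Function.Injective d.left.appTop ∧ (∀ a ∈ seeds, a ∈ Set.range d.left.appTop) ∧
      v.left.appTop.hom.FiniteType := by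
  classical
  let F := (pushModEt hr).obj (unitModEt N.obj)
  haveI := Groth.Agent.S10035.isQuasicoherent_unitModEt (X := N.obj)
  haveI : F.IsQuasicoherent := isQuasicoherent_of_forall _ fun E hE => by
    haveI := hE
    exact isBC_push hr haff _ E
  let E₀ : EtOver Y.obj := EtOver.mk p hpe
  have hE₀ : IsAff E₀ := ‹IsAffine U.left›
  obtain ⟨Q, hQ, hQs⟩ := exists_fg_containing hqc hqs F (fun _ : Fin seeds.card => E₀) (fun _ => hE₀)
    (fun l => up hr E₀ (seeds.equivFin.symm l).1)
  let NU : Over S := hr.pullback p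
  haveI hNU : IsAffine NU.left := isAff_bcObj hr haff E₀
  let C₀ : Subring Γ(NU.left, ⊤) := gen hr E₀ (Q.P E₀ hE₀)
  let str : Γ(U.left, ⊤) →+* C₀ := (hr.snd p).left.appTop.hom.codRestrict C₀
    (fun a => appTop_mem_gen hr E₀ _ a)
  let V : Over S := Over.mk (Spec.map (CommRingCat.ofHom str) ≫ U.left.isoSpec.inv ≫ U.hom)
  haveI : IsAffine V.left := inferInstanceAs (IsAffine (Spec (CommRingCat.of C₀)))
  let v : V ⟶ U := Over.homMk (Spec.map (CommRingCat.ofHom str) ≫ U.left.isoSpec.inv) (Category.assoc _ _ _)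
  let dl : NU.left ⟶ V.left := NU.left.isoSpec.hom ≫ Spec.map (CommRingCat.ofHom C₀.subtype)
  have hdv' : dl ≫ v.left = (hr.snd p).left := by
    show (NU.left.isoSpec.hom ≫ Spec.map (CommRingCat.ofHom C₀.subtype)) ≫
      Spec.map (CommRingCat.ofHom str) ≫ U.left.isoSpec.inv = _
    rw [Category.assoc, ← Spec.map_comp_assoc,
      show CommRingCat.ofHom str ≫ CommRingCat.ofHom C₀.subtype = (hr.snd p).left.appTop from rfl,
      Scheme.isoSpec_hom_naturality_assoc, Iso.hom_inv_id, Category.comp_id]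
  let d : NU ⟶ V := Over.homMk dl (by
    show dl ≫ v.left ≫ U.hom = NU.hom
    rw [reassoc_of% hdv', Over.w])
  have hdv : d ≫ v = hr.snd p := Over.OverMorphism.ext hdv'
  have hdtop : ∀ c : C₀, d.left.appTop ((Scheme.ΓSpecIso (CommRingCat.of C₀)).inv c) = (c : Γ(NU.left, ⊤)) := by
    intro c
    show ((Scheme.ΓSpecIso (CommRingCat.of C₀)).inv ≫ (NU.left.isoSpec.hom ≫ Spec.map (CommRingCat.ofHom C₀.subtype)).appTop) c = _
    rw [Scheme.Hom.comp_appTop, ← Category.assoc, ← Scheme.ΓSpecIso_inv_naturality, Category.assoc,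
      Scheme.isoSpec_hom, Scheme.toSpecΓ_appTop, Iso.inv_hom_id, Category.comp_id]
    rfl
  have hsur : ∀ y : Γ(V.left, ⊤), ∃ c : C₀, (Scheme.ΓSpecIso (CommRingCat.of C₀)).inv c = y := fun y =>
    (ConcreteCategory.bijective_of_isIso (Scheme.ΓSpecIso (CommRingCat.of C₀)).inv).2 y
  have hdinj : Function.Injective d.left.appTop := by
    intro x y hxy
    obtain ⟨a, rfl⟩ := hsur x
    obtain ⟨b, rfl⟩ := hsur y
    rw [hdtop, hdtop] at hxy
    rw [Subtype.ext hxy]
  have hdd : IsSchemeTheoreticallyDominant d.left := dominant_of_injective _ hdinj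
  have hdq : QuasiCompact d.left := quasiCompact_of_compactSpace _
  -- the arrows
  let R : Over S := hpe.1.pullback p
  let s : R ⟶ U := hpe.1.snd p
  obtain ⟨t, ht⟩ := (yon S).map_surjective (hpe.1.fst p)
  have sqR : IsPullback ((yon S).map t) ((yon S).map s) p p := ht ▸ hpe.1.isPullback p
  haveI hse : Etale s.left := hpe.property _ _ _ sqR
  haveI hte : Etale t.left := hpe.property _ _ _ sqR.flip
  have hcU : IsQuasiCompactSp ((yon S).obj U) :=
    ⟨_, 𝟙 _, repWith_id _ _, repWith_id _ _, (inferInstance : CompactSpace ↥U.left)⟩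
  haveI hsc : QuasiCompact s.left :=
    ((repWith_quasiCompact_iff (IsAlgSpace.yon_obj U) Y.property hpe.1).2
      (isQuasiCompactMor_of_qc_qs (IsAlgSpace.yon_obj U) Y.property _ hcU hqs)).property _ _ _ sqR
  haveI : IsSeparated s.left := by
    let l := pullback.lift t.left s.left ((Over.w t).trans (Over.w s).symm)
    have : Mono l := ⟨fun {W} g₁ g₂ hg => by
      have a1 := congr($hg ≫ pullback.fst U.hom U.hom)
      have a2 := congr($hg ≫ pullback.snd U.hom U.hom)
      simp only [l, Category.assoc, pullback.lift_fst, pullback.lift_snd] at a1 a2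
      exact Stk19b.Fppf.eqvRel_hom_ext (Groth.Agent.AlgSpLib.isEqvRel_of_isPullback sqR) a1 a2⟩
    haveI : IsSeparated U.hom := inferInstance
    rw [← pullback.lift_snd t.left s.left ((Over.w t).trans (Over.w s).symm)]
    exact inferInstanceAs (IsSeparated (l ≫ _))
  haveI : CompactSpace ↥R.left := QuasiCompact.compactSpace_of_compactSpace s.left
  let W : R.left.affineCover.finiteSubcover.I₀ → Over S := fun i =>
    Over.mk (R.left.affineCover.finiteSubcover.f i ≫ R.hom)
  let R₀ : Over S := Over.mk (Sigma.desc (fun i => R.left.affineCover.finiteSubcover.f i) ≫ R.hom)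
  let c : R₀ ⟶ R := Over.homMk (Sigma.desc fun i => R.left.affineCover.finiteSubcover.f i) rfl
  haveI : ∀ i, IsAffine (R.left.affineCover.finiteSubcover.X i) := fun i => by
    show IsAffine (R.left.affineCover.X _)
    infer_instance
  haveI : IsAffine R₀.left := inferInstanceAs (IsAffine (∐ R.left.affineCover.finiteSubcover.X))
  haveI hce : Etale c.left := IsZariskiLocalAtSource.sigmaDesc fun i =>
    (inferInstance : Etale (R.left.affineCover.finiteSubcover.f i))
  haveI hcs : Surjective c.left := inferInstanceAs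
    (Surjective (Sigma.desc fun i => R.left.affineCover.finiteSubcover.f i))
  haveI hcq : QuasiCompact c.left := by
    haveI : QuasiCompact (c.left ≫ s.left) := quasiCompact_of_compactSpace _
    haveI : QuasiSeparated s.left := inferInstance
    exact QuasiCompact.of_comp c.left s.left
  let E₁ : EtOver Y.obj := EtOver.mk ((yon S).map (c ≫ t) ≫ p)
    (RepWith.comp ((repWith_yon_map_iff (P := @Etale) (c ≫ t)).2 (inferInstanceAs (Etale (c.left ≫ t.left)))) hpe)
  have hE₁ : IsAff E₁ := ‹IsAffine R₀.left›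
  let gt : E₁ ⟶ E₀ := EtOver.homMk (c ≫ t) rfl
  obtain ⟨cs, hcs'⟩ : ∃ cs : R₀ ⟶ U, cs = c ≫ s := ⟨_, rfl⟩
  let gs : E₁ ⟶ E₀ := EtOver.homMk cs (by
    show (yon S).map cs ≫ p = (yon S).map (c ≫ t) ≫ p
    simp only [hcs', Functor.map_comp, Category.assoc, sqR.w])
  let B₁ : Over S := (EtOver.bcObj hr E₁).obj.left
  haveI : IsAffine B₁.left := isAff_bcObj hr haff E₁
  let A₁ : Over S := pullback cs v
  have hA₁ : IsAffine A₁.left := by
    haveI : IsAffine ((Over.forget S).obj R₀) := ‹IsAffine R₀.left›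
    haveI : IsAffine ((Over.forget S).obj V) := ‹IsAffine V.left›
    haveI : IsAffine ((Over.forget S).obj U) := ‹IsAffine U.left›
    exact IsAffine.of_isPullback ((IsPullback.of_hasPullback cs v).map (Over.forget S))
  haveI := hA₁
  obtain ⟨l₁, hl1, hl2⟩ : ∃ l₁ : B₁ ⟶ A₁, l₁ ≫ pullback.fst cs v = EtOver.bcπ hr E₁ ∧
      l₁ ≫ pullback.snd cs v = (EtOver.bcMap hr gs).hom.left ≫ d := by
    refine ⟨pullback.lift (EtOver.bcπ hr E₁) ((EtOver.bcMap hr gs).hom.left ≫ d) ?_,
      pullback.lift_fst _ _ _, pullback.lift_snd _ _ _⟩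
    exact ((Category.assoc _ _ _).trans ((congrArg _ hdv).trans (EtOver.bcMap_snd hr gs))).symm
  have hgt : (EtOver.bcMap hr gt).hom.left ≫ hr.snd p = EtOver.bcπ hr E₁ ≫ c ≫ t := EtOver.bcMap_snd hr gt
  have hgs : (EtOver.bcMap hr gs).hom.left ≫ hr.snd p = EtOver.bcπ hr E₁ ≫ cs := EtOver.bcMap_snd hr gs
  have hgtf : (yon S).map (EtOver.bcMap hr gt).hom.left ≫ hr.fst p = hr.fst E₁.obj.hom := EtOver.map_bcMap_fst hr gt
  have hgsf : (yon S).map (EtOver.bcMap hr gs).hom.left ≫ hr.fst p = hr.fst E₁.obj.hom := EtOver.map_bcMap_fst hr gs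
  have sqB : IsPullback (EtOver.bcMap hr gs).hom.left.left (EtOver.bcπ hr E₁).left (hr.snd p).left cs.left :=
    EtOver.isPullback_bcMap_left hr gs
  have sqA := (IsPullback.of_hasPullback cs v).map (Over.forget S)
  have sql : IsPullback l₁.left (EtOver.bcMap hr gs).hom.left.left (pullback.snd cs v).left d.left := by
    refine IsPullback.of_right ?_ ?_ sqA
    · show IsPullback (l₁.left ≫ (pullback.fst cs v).left) _ _ (d.left ≫ v.left)
      rw [← Over.comp_left, ← Over.comp_left, hl1, hdv]
      exact sqB.flip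
    · show l₁.left ≫ (pullback.snd cs v).left = _
      rw [← Over.comp_left, hl2]
      rfl
  have hfl : Flat (pullback.snd cs v).left :=
    MorphismProperty.of_isPullback (P := @Flat) sqA (by
      show Flat cs.left
      rw [hcs']; exact inferInstanceAs (Flat (c.left ≫ s.left)))
  have hl₁d : IsSchemeTheoreticallyDominant l₁.left :=
    IsSchemeTheoreticallyDominant.of_isPullback (f := d.left) (g := (pullback.snd cs v).left) sql.flip
  have hl₁q : QuasiCompact l₁.left := quasiCompact_of_compactSpace _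
  have hinj₁ : Function.Injective l₁.left.appTop := l₁.left.app_injective ⊤
  -- the image contains the translates
  have himg : ∀ x : C₀, (EtOver.bcMap hr gt).hom.left.left.appTop.hom (x : Γ(NU.left, ⊤)) ∈
      l₁.left.appTop.hom.range := by
    let B := l₁.left.appTop.hom.range
    have hb : ∀ a, (EtOver.bcπ hr E₁).left.appTop.hom a ∈ B := fun a => by
      refine ⟨(pullback.fst cs v).left.appTop.hom a, ?_⟩
      rw [appTop_comp, ← Over.comp_left, hl1]
      rfl
    have hs' : ∀ y : C₀, (EtOver.bcMap hr gs).hom.left.left.appTop.hom (y : Γ(NU.left, ⊤)) ∈ B := fun y => by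
      refine ⟨(pullback.snd cs v).left.appTop.hom ((Scheme.ΓSpecIso (CommRingCat.of C₀)).inv y), ?_⟩
      rw [← hdtop y]
      exact congrArg (fun m : B₁ ⟶ V => m.left.appTop _) hl2
    have hP : ∀ z ∈ Q.P E₁ hE₁, dn hr E₁ z ∈ B := by
      intro z hz
      rw [← Q.span_eq hE₀ hE₁ gs] at hz
      refine dn_span_mem hr E₁ hb ?_ hz
      rintro _ ⟨y, hy, rfl⟩
      rw [dn_mapSec]
      exact hs' ⟨dn hr E₀ y, Subring.subset_closure (Or.inr ⟨y, hy, rfl⟩)⟩
    rintro ⟨x, hx⟩
    refine (Subring.closure_le (t := B.comap (EtOver.bcMap hr gt).hom.left.left.appTop.hom)).2 ?_ hx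
    rintro z (⟨a, rfl⟩ | ⟨y, hy, rfl⟩)
    · show (EtOver.bcMap hr gt).hom.left.left.appTop.hom _ ∈ B
      rw [bcMap_appTop]
      exact hb _
    · show (EtOver.bcMap hr gt).hom.left.left.appTop.hom _ ∈ B
      rw [← dn_mapSec]
      exact hP _ (Q.map_mem hE₀ hE₁ gt hy)
  choose φ hφ using himg
  let φh : C₀ →+* Γ(A₁.left, ⊤) :=
    { toFun := φ
      map_one' := hinj₁ ((hφ 1).trans (by simp))
      map_mul' := fun a b => hinj₁ ((hφ (a * b)).trans (by
        show _ = l₁.left.appTop.hom (φ a * φ b)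
        rw [map_mul, hφ, hφ, Subring.coe_mul, map_mul]))
      map_zero' := hinj₁ ((hφ 0).trans (by simp))
      map_add' := fun a b => hinj₁ ((hφ (a + b)).trans (by
        show _ = l₁.left.appTop.hom (φ a + φ b)
        rw [map_add, hφ, hφ, Subring.coe_add, map_add])) }
  let τl : A₁.left ⟶ V.left := A₁.left.isoSpec.hom ≫ Spec.map (CommRingCat.ofHom φh)
  have hτl : l₁.left ≫ τl = (EtOver.bcMap hr gt).hom.left.left ≫ d.left := by
    refine ext_of_isAffine (ConcreteCategory.hom_ext _ _ fun y => ?_)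
    obtain ⟨a, rfl⟩ := hsur y
    show l₁.left.appTop.hom (τl.appTop.hom _) = (EtOver.bcMap hr gt).hom.left.left.appTop.hom (d.left.appTop.hom _)
    rw [show d.left.appTop.hom ((Scheme.ΓSpecIso (CommRingCat.of C₀)).inv a) = _ from hdtop a, ← hφ a]
    congr 1
    show ((Scheme.ΓSpecIso (CommRingCat.of C₀)).inv ≫ (A₁.left.isoSpec.hom ≫ Spec.map (CommRingCat.ofHom φh)).appTop) a = _
    rw [Scheme.Hom.comp_appTop, ← Category.assoc, ← Scheme.ΓSpecIso_inv_naturality, Category.assoc,
      Scheme.isoSpec_hom, Scheme.toSpecΓ_appTop, Iso.inv_hom_id, Category.comp_id]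
    rfl
  have hτv : τl ≫ v.left = (pullback.fst cs v ≫ c ≫ t).left := by
    refine SubQuot.hom_ext_dom l₁.left ?_
    rw [← Category.assoc l₁.left τl, hτl, Category.assoc,
      show d.left ≫ v.left = (hr.snd p).left from hdv', ← Over.comp_left, hgt, ← Over.comp_left,
      ← Category.assoc l₁, hl1]
  obtain ⟨τ₁, hτ₁l⟩ : ∃ τ₁ : A₁ ⟶ V, τ₁.left = τl := ⟨Over.homMk τl (by
    show τl ≫ v.left ≫ U.hom = A₁.hom
    rw [reassoc_of% hτv]
    exact Over.w _), rfl⟩
  have hτ₁ : l₁ ≫ τ₁ = (EtOver.bcMap hr gt).hom.left ≫ d := Over.OverMorphism.ext (by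
    rw [Over.comp_left, hτ₁l, hτl]; rfl)
  -- descent to the arrows
  let A : Over S := pullback s v
  obtain ⟨c', hc1, hc2⟩ : ∃ c' : A₁ ⟶ A, c' ≫ pullback.fst s v = pullback.fst cs v ≫ c ∧
      c' ≫ pullback.snd s v = pullback.snd cs v := by
    refine ⟨pullback.lift (pullback.fst cs v ≫ c) (pullback.snd cs v) ?_,
      pullback.lift_fst _ _ _, pullback.lift_snd _ _ _⟩
    rw [Category.assoc, ← hcs', pullback.condition]
  have sqc : IsPullback c'.left (pullback.fst cs v).left (pullback.fst s v).left c.left := by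
    refine IsPullback.of_right ?_ ?_ ((IsPullback.of_hasPullback s v).flip.map (Over.forget S))
    · show IsPullback (c'.left ≫ (pullback.snd s v).left) _ _ (c.left ≫ s.left)
      rw [← Over.comp_left, hc2, ← Over.comp_left, ← hcs']
      exact sqA.flip
    · show c'.left ≫ (pullback.fst s v).left = _
      rw [← Over.comp_left, hc1]
      rfl
  haveI : Flat c'.left := MorphismProperty.of_isPullback (P := @Flat) sqc.flip inferInstance
  haveI : Surjective c'.left := MorphismProperty.of_isPullback (P := @Surjective) sqc.flip inferInstance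
  haveI : QuasiCompact c'.left := MorphismProperty.of_isPullback (P := @QuasiCompact) sqc.flip inferInstance
  obtain ⟨hlAd, hlAq⟩ := SubQuot.lA_dom hr (s := s) v d hdv hdd hdq
  let la := SubQuot.lA hr (s := s) v d hdv
  have hla1 : la ≫ pullback.fst s v = pullback.fst s (hr.snd p) := SubQuot.lA_fst hr v d hdv
  have hla2 : la ≫ pullback.snd s v = pullback.snd s (hr.snd p) ≫ d := SubQuot.lA_snd hr v d hdv
  have hkey : pullback.fst c' c' ≫ τ₁ = pullback.snd c' c' ≫ τ₁ := by
    let k : pullback c' c' ⟶ A := pullback.fst c' c' ≫ c'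
    have sqK := (IsPullback.of_hasPullback la k).map (Over.forget S)
    have hkf : Flat k.left := by
      have : Flat (pullback.fst c' c').left := MorphismProperty.of_isPullback (P := @Flat)
        ((IsPullback.of_hasPullback c' c').map (Over.forget S)).flip (show Flat c'.left from inferInstance)
      exact inferInstanceAs (Flat ((pullback.fst c' c').left ≫ c'.left))
    refine SubQuot.hom_ext_over (pullback.snd la k)
      (IsSchemeTheoreticallyDominant.of_isPullback (f := la.left) (g := k.left) sqK)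
      (MorphismProperty.of_isPullback (P := @QuasiCompact) sqK hlAq) ?_
    have main : ∀ (e : pullback la k ⟶ A₁), e ≫ c' = pullback.fst la k ≫ la →
        e ≫ τ₁ = pullback.fst la k ≫ SubQuot.nt hr sqR ≫ d := by
      intro e he
      have h1 : (e ≫ pullback.fst cs v) ≫ c = pullback.fst la k ≫ pullback.fst s (hr.snd p) := by
        rw [Category.assoc, ← hc1, reassoc_of% he, hla1]
      have h2 : e ≫ pullback.snd cs v = pullback.fst la k ≫ pullback.snd s (hr.snd p) ≫ d := by
        rw [← hc2, reassoc_of% he, hla2]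
      obtain ⟨b, hb1, hb2⟩ : ∃ b : pullback la k ⟶ B₁, b ≫ EtOver.bcπ hr E₁ = e ≫ pullback.fst cs v ∧
          b ≫ (EtOver.bcMap hr gs).hom.left = pullback.fst la k ≫ pullback.snd s (hr.snd p) := by
        obtain ⟨b, hb⟩ := (yon S).map_surjective ((EtOver.isPullback_map_bcMap hr gs).lift
          ((yon S).map (pullback.fst la k ≫ pullback.snd s (hr.snd p))) ((yon S).map (e ≫ pullback.fst cs v)) (by
            show _ ≫ (yon S).map (hr.snd p) = _ ≫ (yon S).map cs
            rw [← Functor.map_comp, ← Functor.map_comp]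
            congr 1
            have hcs2 : pullback.fst cs v ≫ cs = (pullback.fst cs v ≫ c) ≫ s :=
              (congrArg (pullback.fst cs v ≫ ·) hcs').trans (Category.assoc _ _ _).symm
            rw [Category.assoc, ← pullback.condition, Category.assoc e, hcs2, ← Category.assoc e,
              ← Category.assoc e, h1, Category.assoc]))
        exact ⟨b, (yon S).map_injective (by rw [Functor.map_comp, hb, IsPullback.lift_snd]),
          (yon S).map_injective (by rw [Functor.map_comp, hb, IsPullback.lift_fst])⟩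
      have he' : e = b ≫ l₁ := by
        apply pullback.hom_ext
        · rw [Category.assoc, hl1, hb1]
        · rw [Category.assoc, hl2, reassoc_of% hb2, h2]
      have hnt : b ≫ (EtOver.bcMap hr gt).hom.left = pullback.fst la k ≫ SubQuot.nt hr sqR := by
        refine hr.hom_ext ?_ ?_
        · rw [Functor.map_comp, Functor.map_comp, Category.assoc, Category.assoc, hgtf, SubQuot.nt_fst,
            ← hgsf, ← Functor.map_comp_assoc, ← Functor.map_comp_assoc, hb2]
        · rw [Category.assoc, Category.assoc, SubQuot.nt_snd, hgt, reassoc_of% hb1]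
          rw [← Category.assoc e, ← Category.assoc _ c t, h1, Category.assoc]
      rw [he', Category.assoc, hτ₁, reassoc_of% hnt]
    rw [← Category.assoc, ← Category.assoc, main _ ?_, main _ ?_]
    · rw [Category.assoc, ← pullback.condition (f := c') (g := c')]
      exact pullback.condition.symm
    · rw [Category.assoc]
      exact pullback.condition.symm
  have hdesc : ∀ {T : Scheme.{u}} (g₁ g₂ : T ⟶ A₁.left), g₁ ≫ c'.left = g₂ ≫ c'.left → g₁ ≫ τl = g₂ ≫ τl := by
    intro T g₁ g₂ hg
    let l := ((IsPullback.of_hasPullback c' c').map (Over.forget S)).lift g₁ g₂ hg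
    have l1 : l ≫ (pullback.fst c' c').left = g₁ := IsPullback.lift_fst _ _ _ _
    have l2 : l ≫ (pullback.snd c' c').left = g₂ := IsPullback.lift_snd _ _ _ _
    have e3 : (pullback.fst c' c').left ≫ τl = (pullback.snd c' c').left ≫ τl := by
      rw [← hτ₁l]; exact congrArg (fun m => m.left) hkey
    rw [← l1, ← l2, Category.assoc, Category.assoc]
    exact congrArg (l ≫ ·) e3
  let τA := EffectiveEpi.desc c'.left τl hdesc
  have hτA : c'.left ≫ τA = τl := EffectiveEpi.fac _ _ hdesc
  obtain ⟨τ, hτc⟩ : ∃ τ : A ⟶ V, c' ≫ τ = τ₁ := ⟨Over.homMk τA (by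
    rw [← cancel_epi c'.left, reassoc_of% hτA, ← hτ₁l]
    exact (Over.w τ₁).trans (Over.w c').symm), Over.OverMorphism.ext (hτA.trans hτ₁l.symm)⟩
  have hτ : la ≫ τ = SubQuot.nt hr sqR ≫ d := by
    obtain ⟨w, hw1, hw2⟩ : ∃ w : B₁ ⟶ SubQuot.NR hr (p := p) (s := s),
        w ≫ pullback.fst s (hr.snd p) = EtOver.bcπ hr E₁ ≫ c ∧
        w ≫ pullback.snd s (hr.snd p) = (EtOver.bcMap hr gs).hom.left :=
      ⟨pullback.lift (EtOver.bcπ hr E₁ ≫ c) (EtOver.bcMap hr gs).hom.left (by
        rw [Category.assoc, ← hcs', hgs]), pullback.lift_fst _ _ _, pullback.lift_snd _ _ _⟩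
    have sqw : IsPullback w.left (EtOver.bcπ hr E₁).left (pullback.fst s (hr.snd p)).left c.left := by
      refine IsPullback.of_right ?_ ?_ ((IsPullback.of_hasPullback s (hr.snd p)).flip.map (Over.forget S))
      · show IsPullback (w.left ≫ (pullback.snd s (hr.snd p)).left) _ _ (c.left ≫ s.left)
        rw [← Over.comp_left, hw2, ← Over.comp_left, ← hcs']
        exact sqB
      · show w.left ≫ (pullback.fst s (hr.snd p)).left = _
        rw [← Over.comp_left, hw1]
        rfl
    haveI : Flat w.left := MorphismProperty.of_isPullback (P := @Flat) sqw.flip inferInstance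
    haveI : Surjective w.left := MorphismProperty.of_isPullback (P := @Surjective) sqw.flip inferInstance
    haveI : QuasiCompact w.left := MorphismProperty.of_isPullback (P := @QuasiCompact) sqw.flip inferInstance
    have e1 : w ≫ la = l₁ ≫ c' := by
      apply pullback.hom_ext
      · rw [Category.assoc, Category.assoc, hla1, hc1, reassoc_of% hl1, hw1]
      · rw [Category.assoc, Category.assoc, hla2, hc2, hl2, reassoc_of% hw2]
    have e2 : w ≫ SubQuot.nt hr sqR = (EtOver.bcMap hr gt).hom.left := by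
      refine hr.hom_ext ?_ ?_
      · rw [Functor.map_comp, Category.assoc, SubQuot.nt_fst, hgtf, ← Functor.map_comp_assoc, hw2, hgsf]
      · rw [Category.assoc, SubQuot.nt_snd, reassoc_of% hw1, hgt]
    refine Over.OverMorphism.ext ((cancel_epi w.left).1 ?_)
    show (w ≫ la ≫ τ).left = (w ≫ SubQuot.nt hr sqR ≫ d).left
    rw [reassoc_of% e1, reassoc_of% e2, hτc, hτ₁]
  obtain ⟨Z, hZ, μ, h, q, hμ, sqV, hqe, hqS, hfac⟩ :=
    SubQuot.exists_quot hr sqR v d hdv hdd hdq τ hτ hpe hps
  refine ⟨Z, hZ, μ, h, V, v, d, q, hμ, sqV, hqe, hqS, hfac, hdv, inferInstance, hdinj, fun a ha => ?_, ?_⟩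
  · have hmem : a ∈ C₀ := Subring.subset_closure (Or.inr ⟨up hr E₀ a, by
      have := hQs (seeds.equivFin ⟨a, ha⟩)
      simpa using this, rfl⟩)
    exact ⟨_, hdtop ⟨a, hmem⟩⟩
  · obtain ⟨g, hg⟩ := hQ E₀ hE₀
    letI := str.toAlgebra
    have hmemg : ∀ y ∈ g, dn hr E₀ y ∈ C₀ := fun y hy =>
      Subring.subset_closure (Or.inr ⟨y, hg.le (Submodule.subset_span hy), rfl⟩)
    have hft : Algebra.FiniteType Γ(U.left, ⊤) C₀ := by
      refine ⟨⟨g.attach.image fun y => (⟨dn hr E₀ y.1, hmemg y.1 y.2⟩ : C₀), eq_top_iff.2 fun x _ => ?_⟩⟩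
      let A' := Algebra.adjoin Γ(U.left, ⊤) ((g.attach.image fun y => (⟨dn hr E₀ y.1, hmemg y.1 y.2⟩ : C₀) :
        Finset C₀) : Set C₀)
      show x ∈ A'
      have hb : ∀ a, (EtOver.bcπ hr E₀).left.appTop.hom a ∈ A'.toSubring.map C₀.subtype := fun a =>
        ⟨str a, A'.algebraMap_mem a, rfl⟩
      have hle : C₀ ≤ A'.toSubring.map C₀.subtype := by
        refine Subring.closure_le.2 ?_
        rintro z (⟨a, rfl⟩ | ⟨y, hy, rfl⟩)
        · exact hb a
        · rw [← hg] at hy
          refine dn_span_mem hr E₀ hb (fun y' hy' => ?_) hy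
          exact ⟨⟨dn hr E₀ y', hmemg y' hy'⟩, Algebra.subset_adjoin (Finset.mem_coe.2
            (Finset.mem_image.2 ⟨⟨y', hy'⟩, Finset.mem_attach _ _, rfl⟩)), rfl⟩
      obtain ⟨w, hw, hwx⟩ := hle x.2
      exact (show w = x from Subtype.ext hwx) ▸ hw
    have e : v.left.appTop = CommRingCat.ofHom str ≫ (Scheme.ΓSpecIso (CommRingCat.of C₀)).inv := by
      show (Spec.map (CommRingCat.ofHom str) ≫ U.left.isoSpec.inv).appTop = _
      rw [Scheme.Hom.comp_appTop, Scheme.ΓSpecIso_inv_naturality]
      congr 1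
      rw [← cancel_epi U.left.isoSpec.hom.appTop, ← Scheme.Hom.comp_appTop, Iso.inv_hom_id,
        Scheme.isoSpec_hom, Scheme.toSpecΓ_appTop]
      exact (Scheme.Hom.id_app _).trans (Iso.hom_inv_id _).symm
    rw [e]
    exact RingHom.FiniteType.comp (RingHom.FiniteType.of_surjective _
      (ConcreteCategory.bijective_of_isIso (Scheme.ΓSpecIso (CommRingCat.of C₀)).inv).2) (show str.FiniteType from hft)

end Groth.Agent.AlgSpLib.SubAlg
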