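import Mathlib.AlgebraicGeometry.Morphisms.FiniteType
import Mathlib.AlgebraicGeometry.Morphisms.Affine
import Mathlib.AlgebraicGeometry.Morphisms.Finite
import Mathlib.RingTheory.FiniteType

/-!
An open subscheme of finite type of an affine scheme over an affine base is an open subscheme of the spectrum of a
subalgebra of finite type.
-/

universe u

open CategoryTheory CategoryTheory.Limits AlgebraicGeometry TopologicalSpace

noncomputable section

namespace Groth.Agent.AlgSpLib.SubOpen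

set_option backward.isDefEq.respectTransparency.types false
set_option backward.isDefEq.respectTransparency false

/-- elements of the localisation with numerator in a subring -/
def fracSubring {C L : Type u} [CommRing C] [CommRing L] (ι : C →+* L) (B : Subring C) (g : C) (hg : g ∈ B) :
    Subring L where
  carrier := {y | ∃ (n : ℕ) (a : C), a ∈ B ∧ y * ι g ^ n = ι a}
  one_mem' := ⟨0, 1, B.one_mem, by simp⟩
  zero_mem' := ⟨0, 0, B.zero_mem, by simp⟩
  mul_mem' := by
    rintro x y ⟨n, a, ha, hx⟩ ⟨m, b, hb, hy⟩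
    exact ⟨n + m, a * b, B.mul_mem ha hb, by rw [map_mul, ← hx, ← hy]; ring⟩
  add_mem' := by
    rintro x y ⟨n, a, ha, hx⟩ ⟨m, b, hb, hy⟩
    refine ⟨n + m, a * g ^ m + b * g ^ n, B.add_mem (B.mul_mem ha (B.pow_mem hg m)) (B.mul_mem hb (B.pow_mem hg n)), ?_⟩
    rw [map_add, map_mul, map_mul, map_pow, map_pow, ← hx, ← hy]; ring
  neg_mem' := by
    rintro x ⟨n, a, ha, hx⟩
    exact ⟨n, -a, B.neg_mem ha, by rw [map_neg, ← hx]; ring⟩

/-- finitely many functions control a basic open piece of finite type -/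
theorem exists_gens {N U : Scheme.{u}} [IsAffine N] [IsAffine U] (n : N ⟶ U) (g : Γ(N, ⊤))
    (hft : (n.appLE ⊤ (N.basicOpen g) le_top).hom.FiniteType) :
    ∃ gens : Finset Γ(N, ⊤), g ∈ gens ∧ ∀ (B : Subring Γ(N, ⊤)), Set.range n.appTop.hom ⊆ (B : Set Γ(N, ⊤)) → (↑gens : Set Γ(N, ⊤)) ⊆ (B : Set Γ(N, ⊤)) →
      ∀ y : Γ(N, N.basicOpen g), ∃ (m : ℕ) (a : Γ(N, ⊤)), a ∈ B ∧
        y * (N.presheaf.map (homOfLE le_top).op).hom g ^ m = (N.presheaf.map (homOfLE le_top).op).hom a := by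
  classical
  let φ := n.appLE ⊤ (N.basicOpen g) le_top
  letI := φ.hom.toAlgebra
  obtain ⟨s, hs⟩ := (show Algebra.FiniteType Γ(U, ⊤) Γ(N, N.basicOpen g) from hft).out
  have hr : ∀ y : Γ(N, N.basicOpen g), ∃ (m : ℕ) (a : Γ(N, ⊤)),
      y * (N.presheaf.map (homOfLE le_top).op).hom g ^ m = (N.presheaf.map (homOfLE le_top).op).hom a := by
    intro y
    obtain ⟨⟨a, ⟨_, m, rfl⟩⟩, h⟩ := IsLocalization.surj (Submonoid.powers g) y
    exact ⟨m, a, by rw [← map_pow]; exact h⟩
  choose m a ha using hr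
  refine ⟨insert g (s.image a), Finset.mem_insert_self _ _, fun B hB hgens y => ?_⟩
  have hg : g ∈ B := hgens (Finset.mem_coe.2 (Finset.mem_insert_self _ _))
  let F := fracSubring (N.presheaf.map (homOfLE le_top).op).hom B g hg (L := Γ(N, N.basicOpen g))
  have h0 : ∀ r : Γ(U, ⊤), algebraMap Γ(U, ⊤) Γ(N, N.basicOpen g) r ∈ F := fun r =>
    ⟨0, n.appTop.hom r, hB ⟨r, rfl⟩, by rw [pow_zero, mul_one]; rfl⟩
  let FA : Subalgebra Γ(U, ⊤) Γ(N, N.basicOpen g) := { F.toSubsemiring with algebraMap_mem' := h0 }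
  have hy : y ∈ FA := by
    have : Algebra.adjoin Γ(U, ⊤) (s : Set Γ(N, N.basicOpen g)) ≤ FA := Algebra.adjoin_le fun z hz =>
      ⟨m z, a z, hgens (Finset.mem_coe.2 (Finset.mem_insert_of_mem (Finset.mem_image_of_mem a hz))), ha z⟩
    exact this (hs.symm ▸ Algebra.mem_top)
  exact hy

/-- a dominant morphism of affine schemes is an isomorphism over a basic open if the numerators are in the image -/
theorem isIso_morphismRestrict {N V : Scheme.{u}} [IsAffine N] [IsAffine V] (d : N ⟶ V)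
    (hinj : Function.Injective d.appTop) (g : Γ(V, ⊤))
    (h : ∀ y : Γ(N, N.basicOpen (d.appTop g)), ∃ (m : ℕ) (a : Γ(N, ⊤)), a ∈ Set.range d.appTop ∧
        y * (N.presheaf.map (homOfLE le_top).op).hom (d.appTop g) ^ m = (N.presheaf.map (homOfLE le_top).op).hom a) :
    IsIso (d ∣_ V.basicOpen g) := by
  haveI : IsAffineHom d := isAffineHom_of_isAffine d
  rw [isIso_morphismRestrict_iff_isIso_app d ((isAffineOpen_top V).basicOpen g)]
  let ιN := (N.presheaf.map (homOfLE (le_top : N.basicOpen (d.appTop g) ≤ ⊤)).op).hom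
  let ιV := (V.presheaf.map (homOfLE (le_top : V.basicOpen g ≤ ⊤)).op).hom
  have he : N.basicOpen (d.appTop g) = d ⁻¹ᵁ V.basicOpen g := (Scheme.preimage_basicOpen d g).symm
  let θ : Γ(V, V.basicOpen g) →+* Γ(N, N.basicOpen (d.appTop g)) :=
    (d.app (V.basicOpen g) ≫ N.presheaf.map (eqToHom he).op).hom
  have hθ : ∀ b : Γ(V, ⊤), θ (ιV b) = ιN (d.appTop.hom b) := fun b => by
    show (V.presheaf.map (homOfLE le_top).op ≫ d.app (V.basicOpen g) ≫ N.presheaf.map (eqToHom he).op) b = _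
    rw [d.naturality_assoc, ← Functor.map_comp]
    rfl
  have hu : ∀ m : ℕ, IsUnit (ιN (d.appTop g) ^ m) := fun m =>
    (IsLocalization.Away.algebraMap_isUnit (S := Γ(N, N.basicOpen (d.appTop g))) (d.appTop g)).pow m
  have key : Function.Bijective θ := by
    constructor
    · rw [injective_iff_map_eq_zero]
      intro z hz
      obtain ⟨⟨b, ⟨_, k, rfl⟩⟩, hb⟩ := IsLocalization.surj (Submonoid.powers g) z
      replace hb : z * ιV (g ^ k) = ιV b := hb
      have h1 : ιN (d.appTop.hom b) = ιN 0 := by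
        rw [← hθ, ← hb, map_mul, hz, zero_mul, map_zero]
      obtain ⟨⟨_, j, rfl⟩, hj⟩ := IsLocalization.exists_of_eq (M := Submonoid.powers (d.appTop g))
        (S := Γ(N, N.basicOpen (d.appTop g))) h1
      have h2 : g ^ j * b = 0 := hinj (by
        show d.appTop.hom _ = d.appTop.hom 0
        simpa using hj)
      have hu' : IsUnit (ιV (g ^ (j + k))) := by
        rw [map_pow]
        exact (IsLocalization.Away.algebraMap_isUnit (S := Γ(V, V.basicOpen g)) g).pow _
      refine (hu'.mul_left_eq_zero).1 ?_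
      rw [pow_add, map_mul, mul_left_comm, hb, ← map_mul, h2, map_zero]
    · intro y
      obtain ⟨m, a, ⟨b, rfl⟩, hy⟩ := h y
      obtain ⟨w, hw⟩ := (IsLocalization.Away.algebraMap_isUnit (S := Γ(V, V.basicOpen g)) g).pow m
      refine ⟨ιV b * (↑w⁻¹ : Γ(V, V.basicOpen g)), (hu m).mul_left_injective ?_⟩
      show θ _ * ιN (d.appTop g) ^ m = y * ιN (d.appTop g) ^ m
      rw [hy, show ιN (d.appTop g) ^ m = θ (↑w) by rw [hw, map_pow]; exact congrArg (· ^ m) (hθ g).symm,
        ← map_mul, mul_assoc, Units.inv_mul, mul_one, hθ]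
  have h3 : IsIso (d.app (V.basicOpen g) ≫ N.presheaf.map (eqToHom he).op) :=
    (ConcreteCategory.isIso_iff_bijective _).2 key
  exact IsIso.of_isIso_comp_right _ (N.presheaf.map (eqToHom he).op)

/-- a compact open of finite type of an affine scheme, together with the functions controlling it -/
theorem exists_seeds {N U : Scheme.{u}} [IsAffine N] [IsAffine U] (n : N ⟶ U) {W : Scheme.{u}} (j : W ⟶ N)
    [IsOpenImmersion j] [CompactSpace ↥W] [LocallyOfFiniteType (j ≫ n)] :
    ∃ seeds : Finset Γ(N, ⊤), ∀ {V : Scheme.{u}} [IsAffine V] (v : V ⟶ U) (d : N ⟶ V), d ≫ v = n →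
      Function.Injective d.appTop → (∀ a ∈ seeds, a ∈ Set.range d.appTop) → IsOpenImmersion (j ≫ d) := by
  classical
  have hc : IsCompact (j.opensRange : Set N) := by
    rw [Scheme.Hom.coe_opensRange]; exact isCompact_range j.continuous
  obtain ⟨G, hG⟩ : ∃ G : Finset Γ(N, ⊤), j.opensRange = ⨆ g ∈ G, N.basicOpen g := by
    have hb := isBasis_basicOpen N
    have hcov : ∀ x ∈ (j.opensRange : Set N), ∃ g : Γ(N, ⊤), N.basicOpen g ≤ j.opensRange ∧ x ∈ N.basicOpen g :=
      fun x hx => by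
        obtain ⟨g, hg1, hg2⟩ := (isAffineOpen_top N).exists_basicOpen_le (V := j.opensRange) ⟨x, hx⟩ trivial
        exact ⟨g, hg1, hg2⟩
    choose c hc1 hc2 using hcov
    obtain ⟨T, hT⟩ := hc.elim_finite_subcover (fun x : ↥(j.opensRange : Set N) => (N.basicOpen (c x.1 x.2) : Set N))
      (fun x => (N.basicOpen _).isOpen) (fun x hx => Set.mem_iUnion.2 ⟨⟨x, hx⟩, hc2 x hx⟩)
    refine ⟨T.image fun x => c x.1 x.2, le_antisymm (fun x hx => ?_) (iSup₂_le fun g hg => ?_)⟩
    · obtain ⟨i, hi, hxi⟩ := Set.mem_iUnion₂.1 (hT hx)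
      exact Opens.mem_iSup.2 ⟨c i.1 i.2, Opens.mem_iSup.2 ⟨Finset.mem_image_of_mem _ hi, hxi⟩⟩
    · obtain ⟨i, -, rfl⟩ := Finset.mem_image.1 hg
      exact hc1 _ _
  have hg : ∀ g ∈ G, (n.appLE ⊤ (N.basicOpen g) le_top).hom.FiniteType := by
    intro g hg
    have hle : N.basicOpen g ≤ j.opensRange := hG ▸ le_iSup₂ (f := fun g _ => N.basicOpen g) g hg
    have haff : IsAffineOpen (j ⁻¹ᵁ N.basicOpen g) :=
      (((isAffineOpen_top N).basicOpen g).preimage_of_isOpenImmersion j hle)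
    have h1 := (j ≫ n).finiteType_appLE (isAffineOpen_top U) haff le_top
    have e : (j ≫ n).appLE ⊤ (j ⁻¹ᵁ N.basicOpen g) le_top = n.appLE ⊤ (N.basicOpen g) le_top ≫ j.app (N.basicOpen g) := by
      rw [Scheme.Hom.app_eq_appLE, Scheme.Hom.appLE_comp_appLE]
    haveI : IsIso (j.app (N.basicOpen g)) := j.isIso_app _ hle
    have e2 : n.appLE ⊤ (N.basicOpen g) le_top = (j ≫ n).appLE ⊤ (j ⁻¹ᵁ N.basicOpen g) le_top ≫ inv (j.app (N.basicOpen g)) := by
      rw [e, Category.assoc, IsIso.hom_inv_id, Category.comp_id]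
    rw [e2]
    exact (RingHom.FiniteType.of_surjective _ (ConcreteCategory.bijective_of_isIso (inv (j.app (N.basicOpen g)))).2).comp h1
  choose gens hmem hgens using fun g : G => exists_gens n g.1 (hg g.1 g.2)
  refine ⟨Finset.univ.biUnion gens, fun {V} _ v d hdv hinj hs => ?_⟩
  have hsub : ∀ g : G, (↑(gens g) : Set Γ(N, ⊤)) ⊆ d.appTop.hom.range := fun g a ha =>
    hs a (Finset.mem_biUnion.2 ⟨g, Finset.mem_univ _, ha⟩)
  choose g' hg' using fun g : G => hsub g (Finset.mem_coe.2 (hmem g))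
  let O : V.Opens := ⨆ g : G, V.basicOpen (g' g)
  have hO : d ⁻¹ᵁ O = j.opensRange := by
    rw [hG, Scheme.Hom.preimage_iSup, iSup_subtype']
    refine iSup_congr fun g => ?_
    rw [Scheme.preimage_basicOpen]
    exact congrArg N.basicOpen (hg' g)
  have hiso : IsIso (d ∣_ O) := by
    refine IsZariskiLocalAtTarget.of_iSup_eq_top (P := MorphismProperty.isomorphisms Scheme)
      (fun g : G => O.ι ⁻¹ᵁ V.basicOpen (g' g)) ?_ fun g => ?_
    · rw [← Scheme.Hom.preimage_iSup]
      exact Scheme.Opens.ι_preimage_self _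
    · show IsIso _
      have hle : V.basicOpen (g' g) ≤ O := le_iSup (fun g : G => V.basicOpen (g' g)) g
      refine ((MorphismProperty.isomorphisms Scheme).arrow_mk_iso_iff (morphismRestrictRestrict d O _)).2 ?_
      show IsIso (d ∣_ O.ι ''ᵁ (O.ι ⁻¹ᵁ V.basicOpen (g' g)))
      rw [Scheme.Hom.image_preimage_eq_opensRange_inf, Scheme.Opens.opensRange_ι, inf_eq_right.2 hle]
      refine isIso_morphismRestrict d hinj (g' g) ?_
      have hy := hgens g d.appTop.hom.range (by
        rintro _ ⟨r, rfl⟩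
        exact ⟨v.appTop.hom r, by rw [← hdv]; rfl⟩) (hsub g)
      intro y
      have := hg' g
      revert y
      show ∀ y : Γ(N, N.basicOpen (d.appTop.hom (g' g))), _
      rw [hg' g]
      exact hy
  rw [show j ≫ d = (j.isoOpensRange.hom ≫ (N.isoOfEq hO.symm).hom) ≫ (d ∣_ O) ≫ O.ι by
    rw [morphismRestrict_ι]
    simp]
  infer_instance

end Groth.Agent.AlgSpLib.SubOpen
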