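import Groth.Agent.AlgSpLib.EqvQuot
import Groth.Agent.AlgSpLib.ClosedSub
import Groth.Agent.AlgSpLib.MorMore
import Mathlib.AlgebraicGeometry.Morphisms.SchemeTheoreticallyDominant
import Mathlib.AlgebraicGeometry.Morphisms.Separated

/-!
A scheme theoretically dominated model over an affine chart which is stable under the relation descends to the space.
-/

universe u

open CategoryTheory CategoryTheory.Limits AlgebraicGeometry
open AlgSp

noncomputable section

namespace Groth.Agent.AlgSpLib.SubQuot

set_option backward.isDefEq.respectTransparency.types false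
set_option backward.isDefEq.respectTransparency false

variable {S : Scheme.{u}}

/-- morphisms to an affine scheme agree if they agree after a scheme theoretically dominant morphism -/
theorem hom_ext_dom {P Q : Scheme.{u}} (g : Q ⟶ P) [IsSchemeTheoreticallyDominant g] [QuasiCompact g]
    {V : Scheme.{u}} [IsAffine V] {a b : P ⟶ V} (h : g ≫ a = g ≫ b) : a = b := by
  refine ext_of_isAffine (ConcreteCategory.hom_ext _ _ fun x => g.app_injective ⊤ ?_)
  exact congrArg (fun m : Q ⟶ V => m.appTop x) h

theorem hom_ext_over {P Q V : Over S} (g : Q ⟶ P) (hd : IsSchemeTheoreticallyDominant g.left)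
    (hq : QuasiCompact g.left) [IsAffine V.left] {a b : P ⟶ V} (h : g ≫ a = g ≫ b) : a = b :=
  Over.OverMorphism.ext (hom_ext_dom g.left (congrArg (fun m => m.left) h))

variable {Y N : AlgSp.Space S} {ν : N.obj ⟶ Y.obj} (hr : Representable ν)
  {U R V : Over S} {p : (yon S).obj U ⟶ Y.obj} {s t : R ⟶ U}
  (sqR : IsPullback ((yon S).map t) ((yon S).map s) p p) (v : V ⟶ U) (d : hr.pullback p ⟶ V)

/-- the arrows over the model -/
abbrev A : Over S := pullback s v

/-- the arrows over the chart of the source -/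
abbrev NR : Over S := pullback s (hr.snd p)

include sqR in
theorem nt_aux : ((yon S).map (pullback.snd s (hr.snd p)) ≫ hr.fst p) ≫ ν =
    (yon S).map (pullback.fst s (hr.snd p) ≫ t) ≫ p := by
  rw [Category.assoc, hr.w, ← Functor.map_comp_assoc, ← pullback.condition, Functor.map_comp, Functor.map_comp,
    Category.assoc, Category.assoc, sqR.w]

/-- the second projection of the arrows of the source -/
def nt : NR hr (p := p) (s := s) ⟶ hr.pullback p := hr.lift _ _ (nt_aux hr sqR)

theorem nt_fst : (yon S).map (nt hr sqR) ≫ hr.fst p = (yon S).map (pullback.snd s (hr.snd p)) ≫ hr.fst p :=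
  hr.lift_fst _ _ _

theorem nt_snd : nt hr sqR ≫ hr.snd p = pullback.fst s (hr.snd p) ≫ t := hr.lift_snd _ _ _

theorem lA_aux (hdv : d ≫ v = hr.snd p) :
    pullback.fst s (hr.snd p) ≫ s = (pullback.snd s (hr.snd p) ≫ d) ≫ v := by
  rw [Category.assoc, hdv, pullback.condition]

/-- the comparison of arrows -/
def lA (hdv : d ≫ v = hr.snd p) : NR hr (p := p) (s := s) ⟶ A (s := s) v :=
  pullback.lift (pullback.fst s (hr.snd p)) (pullback.snd s (hr.snd p) ≫ d) (lA_aux hr v d hdv)

theorem lA_fst (hdv : d ≫ v = hr.snd p) : lA hr v d hdv ≫ pullback.fst s v = pullback.fst s (hr.snd p) :=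
  pullback.lift_fst _ _ _

theorem lA_snd (hdv : d ≫ v = hr.snd p) : lA hr v d hdv ≫ pullback.snd s v = pullback.snd s (hr.snd p) ≫ d :=
  pullback.lift_snd _ _ _

theorem isPullback_lA (hdv : d ≫ v = hr.snd p) :
    IsPullback (lA hr v d hdv) (pullback.snd s (hr.snd p)) (pullback.snd s v) d := by
  refine IsPullback.of_right ?_ (lA_snd hr v d hdv) (IsPullback.of_hasPullback s v)
  rw [lA_fst, hdv]
  exact IsPullback.of_hasPullback s (hr.snd p)

variable (hdv : d ≫ v = hr.snd p) (hdd : IsSchemeTheoreticallyDominant d.left) (hdq : QuasiCompact d.left)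

include hdd hdq in
/-- the comparison of arrows is dominant -/
theorem lA_dom [Flat s.left] : IsSchemeTheoreticallyDominant (lA hr (s := s) v d hdv).left ∧ QuasiCompact (lA hr (s := s) v d hdv).left := by
  have sq := ((isPullback_lA hr (s := s) v d hdv).map (Over.forget S)).flip
  have h1 : Flat (pullback.snd s v).left :=
    MorphismProperty.of_isPullback (P := @Flat) ((IsPullback.of_hasPullback s v).map (Over.forget S)) ‹Flat s.left›
  exact ⟨IsSchemeTheoreticallyDominant.of_isPullback (f := d.left) (g := (pullback.snd s v).left) sq,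
    MorphismProperty.of_isPullback (P := @QuasiCompact) sq hdq⟩

section quot

variable [IsAffine V.left] [IsAffine U.left] (τ : A (s := s) v ⟶ V)
  (hτ : lA hr v d hdv ≫ τ = nt hr sqR ≫ d)

include hτ hdd hdq in
theorem τ_v [Flat s.left] : τ ≫ v = pullback.fst s v ≫ t := by
  obtain ⟨h1, h2⟩ := lA_dom hr (s := s) v d hdv hdd hdq
  refine hom_ext_over (lA hr v d hdv) h1 h2 ?_
  rw [reassoc_of% hτ, hdv, nt_snd, reassoc_of% (lA_fst hr (s := s) v d hdv)]

include hτ hdd hdq in
theorem τ_refl (hs : Flat s.left) {e : U ⟶ R} (he1 : e ≫ s = 𝟙 _) (he2 : e ≫ t = 𝟙 _) :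
    pullback.lift (v ≫ e) (𝟙 V) (by rw [Category.assoc, he1, Category.comp_id, Category.id_comp]) ≫ τ = 𝟙 V := by
  refine hom_ext_over d hdd hdq ?_
  let nd : hr.pullback p ⟶ NR hr (p := p) (s := s) :=
    pullback.lift (hr.snd p ≫ e) (𝟙 _) (by rw [Category.assoc, he1, Category.comp_id, Category.id_comp])
  have e1 : d ≫ pullback.lift (v ≫ e) (𝟙 V) (by rw [Category.assoc, he1, Category.comp_id, Category.id_comp]) =
      nd ≫ lA hr v d hdv := by
    apply pullback.hom_ext
    · simp only [Category.assoc, pullback.lift_fst, lA_fst, nd]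
      rw [reassoc_of% hdv]
    · simp only [Category.assoc, pullback.lift_snd, lA_snd, nd, Category.comp_id, pullback.lift_snd_assoc]
      exact (Category.id_comp d).symm
  rw [reassoc_of% e1, hτ, Category.comp_id]
  have e2 : nd ≫ nt hr sqR = 𝟙 _ := hr.hom_ext (by
      rw [Functor.map_comp, Category.assoc, nt_fst, ← Functor.map_comp_assoc]
      simp [nd]) (by
      rw [Category.assoc, nt_snd, ← Category.assoc]
      simp [nd, he2])
  rw [reassoc_of% e2]

include hτ hdd hdq in
/-- composition of arrows over the model -/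
theorem τ_trans (hs : Flat s.left) {T : Over S} (a₁ a₂ a₃ : T ⟶ A (s := s) v)
    (h12 : a₁ ≫ τ = a₂ ≫ pullback.snd s v) (h13 : a₁ ≫ pullback.snd s v = a₃ ≫ pullback.snd s v)
    (h23 : a₂ ≫ pullback.fst s v ≫ t = a₃ ≫ pullback.fst s v ≫ t) : a₂ ≫ τ = a₃ ≫ τ := by
  -- the universal pair of composable arrows
  let B : Over S := pullback (pullback.fst s v ≫ t) s
  let b₁ : B ⟶ A (s := s) v := pullback.fst _ _
  let r₂ : B ⟶ R := pullback.snd _ _
  have hw : b₁ ≫ pullback.fst s v ≫ t = r₂ ≫ s := pullback.condition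
  let b₂ : B ⟶ A (s := s) v := pullback.lift r₂ (b₁ ≫ τ) (by
    rw [Category.assoc, τ_v hr sqR v d hdv hdd hdq τ hτ, hw])
  obtain ⟨r₃', hr₃⟩ := (yon S).map_surjective (sqR.lift ((yon S).map (r₂ ≫ t))
    ((yon S).map (b₁ ≫ pullback.fst s v ≫ s)) (by
      rw [Functor.map_comp, Category.assoc, sqR.w, ← Functor.map_comp_assoc, ← hw]
      simp only [Functor.map_comp, Category.assoc, sqR.w]))
  have k1 : r₃' ≫ t = r₂ ≫ t := (yon S).map_injective (by rw [Functor.map_comp, hr₃, sqR.lift_fst])
  have k2 : r₃' ≫ s = b₁ ≫ pullback.fst s v ≫ s := (yon S).map_injective (by rw [Functor.map_comp, hr₃, sqR.lift_snd])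
  let b₃ : B ⟶ A (s := s) v := pullback.lift r₃' (b₁ ≫ pullback.snd s v) (by
    rw [k2, Category.assoc, pullback.condition])
  have key : b₂ ≫ τ = b₃ ≫ τ := by
    obtain ⟨h1, h2⟩ := lA_dom hr (s := s) v d hdv hdd hdq
    let NB : Over S := pullback (lA hr v d hdv) b₁
    have sq := (IsPullback.of_hasPullback (lA hr v d hdv) b₁).map (Over.forget S)
    have hfl : Flat b₁.left :=
      MorphismProperty.of_isPullback (P := @Flat)
        ((IsPullback.of_hasPullback (pullback.fst s v ≫ t) s).map (Over.forget S)).flip hs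
    refine hom_ext_over (pullback.snd (lA hr v d hdv) b₁)
      (IsSchemeTheoreticallyDominant.of_isPullback (f := (lA hr v d hdv).left) (g := b₁.left) sq)
      (MorphismProperty.of_isPullback (P := @QuasiCompact) sq h2) ?_
    let n : NB ⟶ NR hr (p := p) (s := s) := pullback.fst _ _
    let π : NB ⟶ B := pullback.snd _ _
    have hn : n ≫ lA hr v d hdv = π ≫ b₁ := pullback.condition
    have hn1 : n ≫ pullback.fst s (hr.snd p) = π ≫ b₁ ≫ pullback.fst s v := by
      rw [← lA_fst hr v d hdv, reassoc_of% hn]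
    let n₂ : NB ⟶ NR hr (p := p) (s := s) := pullback.lift (π ≫ r₂) (n ≫ nt hr sqR) (by
      rw [Category.assoc, Category.assoc, nt_snd, reassoc_of% hn1, hw])
    let n₃ : NB ⟶ NR hr (p := p) (s := s) := pullback.lift (π ≫ r₃') (n ≫ pullback.snd s (hr.snd p)) (by
      rw [Category.assoc, Category.assoc, ← pullback.condition, k2, reassoc_of% hn1])
    have e2 : π ≫ b₂ = n₂ ≫ lA hr v d hdv := by
      apply pullback.hom_ext
      · simp [b₂, n₂, lA_fst]
      · rw [Category.assoc, Category.assoc, lA_snd]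
        simp only [b₂, n₂, pullback.lift_snd, pullback.lift_snd_assoc, Category.assoc]
        rw [← hτ, reassoc_of% hn]
    have e3 : π ≫ b₃ = n₃ ≫ lA hr v d hdv := by
      apply pullback.hom_ext
      · simp [b₃, n₃, lA_fst]
      · rw [Category.assoc, Category.assoc, lA_snd]
        simp only [b₃, n₃, pullback.lift_snd, pullback.lift_snd_assoc, Category.assoc]
        rw [← lA_snd hr v d hdv, reassoc_of% hn]
    have e : n₂ ≫ nt hr sqR = n₃ ≫ nt hr sqR := hr.hom_ext (by
        simp only [Functor.map_comp, Category.assoc, nt_fst]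
        simp only [← Functor.map_comp_assoc, n₂, n₃, pullback.lift_snd]
        simp only [Functor.map_comp, Category.assoc, nt_fst]) (by
        simp only [Category.assoc, nt_snd, n₂, n₃, pullback.lift_fst_assoc, k1])
    show π ≫ b₂ ≫ τ = π ≫ b₃ ≫ τ
    rw [reassoc_of% e2, reassoc_of% e3, hτ, reassoc_of% e]
  let l : T ⟶ B := pullback.lift a₁ (a₂ ≫ pullback.fst s v) (by
    rw [← τ_v hr sqR v d hdv hdd hdq τ hτ, reassoc_of% h12, Category.assoc, pullback.condition])
  have hl2 : l ≫ b₂ = a₂ := by
    apply pullback.hom_ext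
    · simp [b₂, l, r₂]
    · simp [b₂, l, b₁, h12]
  have hl3 : l ≫ b₃ = a₃ := by
    apply pullback.hom_ext
    · have : l ≫ r₃' = a₃ ≫ pullback.fst s v := (yon S).map_injective (sqR.hom_ext
        (by rw [← Functor.map_comp, ← Functor.map_comp, Category.assoc, k1, Category.assoc, ← h23]; simp [l, r₂])
        (by rw [← Functor.map_comp, ← Functor.map_comp, Category.assoc, k2, Category.assoc, pullback.condition,
          ← reassoc_of% h13]; simp [l, b₁]))
      simp [b₃, this]
    · simp [b₃, l, b₁, h13]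
  rw [← hl2, ← hl3, Category.assoc, Category.assoc, key]

include hr hdv hdd hdq hτ sqR in
/-- the descended space -/
theorem exists_quot (hpe : RepWith @Etale p) (hps : RepWith @Surjective p) :
    ∃ (Z : Sp S) (_ : IsAlgSpace Z) (μ : Z ⟶ Y.obj) (h : N.obj ⟶ Z) (q : (yon S).obj V ⟶ Z),
      h ≫ μ = ν ∧ IsPullback q ((yon S).map v) μ p ∧ RepWith @Etale q ∧ RepWith @Surjective q ∧
      hr.fst p ≫ h = (yon S).map d ≫ q := by
  have hse : Etale s.left := hpe.property _ _ _ sqR
  have hs : Flat s.left := inferInstance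
  have hte : Etale t.left := hpe.property _ _ _ sqR.flip
  have hτv := τ_v hr sqR v d hdv hdd hdq τ hτ
  obtain ⟨e, he⟩ := (yon S).map_surjective (sqR.lift (𝟙 _) (𝟙 _) rfl)
  have he1 : e ≫ s = 𝟙 _ := (yon S).map_injective (by rw [Functor.map_comp, he, sqR.lift_snd]; simp)
  have he2 : e ≫ t = 𝟙 _ := (yon S).map_injective (by rw [Functor.map_comp, he, sqR.lift_fst]; simp)
  have hτe := τ_refl hr sqR v d hdv hdd hdq τ hτ hs he1 he2
  have hinj : ∀ (T : Over S) (a a' : T ⟶ A (s := s) v), a ≫ τ = a' ≫ τ →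
      a ≫ pullback.snd s v = a' ≫ pullback.snd s v → a = a' := by
    intro T a a' h1 h2
    apply pullback.hom_ext
    · refine (yon S).map_injective (sqR.hom_ext ?_ ?_)
      · rw [← Functor.map_comp, ← Functor.map_comp, Category.assoc, Category.assoc, ← hτv, reassoc_of% h1]
      · rw [← Functor.map_comp, ← Functor.map_comp, Category.assoc, Category.assoc, pullback.condition,
          reassoc_of% h2]
    · exact h2
  have hrefl : ∀ {T : Over S} (a : T ⟶ V), ∃ r : T ⟶ A (s := s) v, r ≫ τ = a ∧ r ≫ pullback.snd s v = a :=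
    fun {T} a => ⟨a ≫ pullback.lift (v ≫ e) (𝟙 V) (by rw [Category.assoc, he1, Category.comp_id, Category.id_comp]),
      by rw [Category.assoc, hτe, Category.comp_id],
      by rw [Category.assoc, pullback.lift_snd, Category.comp_id]⟩
  -- inverses
  have hsymm : ∀ {T : Over S} (a : T ⟶ A (s := s) v), ∃ a' : T ⟶ A (s := s) v,
      a' ≫ pullback.snd s v = a ≫ τ ∧ a' ≫ τ = a ≫ pullback.snd s v := by
    intro T a
    obtain ⟨i, hi⟩ := (yon S).map_surjective (sqR.flip.lift ((yon S).map t) ((yon S).map s) sqR.w)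
    have hi1 : i ≫ s = t := (yon S).map_injective (by rw [Functor.map_comp, hi, sqR.flip.lift_fst])
    have hi2 : i ≫ t = s := (yon S).map_injective (by rw [Functor.map_comp, hi, sqR.flip.lift_snd])
    let a' : T ⟶ A (s := s) v := pullback.lift (a ≫ pullback.fst s v ≫ i) (a ≫ τ) (by
      simp only [Category.assoc, hi1, hτv])
    obtain ⟨a₀, h0, h0'⟩ := hrefl (a ≫ pullback.snd s v)
    refine ⟨a', pullback.lift_snd _ _ _, ?_⟩
    refine (τ_trans hr sqR v d hdv hdd hdq τ hτ hs a a' a₀ ?_ h0'.symm ?_).trans h0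
    · exact (pullback.lift_snd _ _ _).symm
    · rw [← hτv, ← Category.assoc a₀, h0, hτv]
      simp only [a', pullback.lift_fst_assoc, Category.assoc, hi2]
      rw [pullback.condition]
  have hEq : IsEqvRel (pullback.snd s v) τ := by
    refine ⟨hinj, fun T => ⟨fun a => hrefl a, ?_, ?_⟩⟩
    · rintro a b ⟨r, h1, h2⟩
      obtain ⟨r', h1', h2'⟩ := hsymm r
      exact ⟨r', h2'.trans h2, h1'.trans h1⟩
    · rintro a b c ⟨r, h1, h2⟩ ⟨r', h1', h2'⟩
      obtain ⟨r₂, hr₂⟩ := (yon S).map_surjective (sqR.lift ((yon S).map (r ≫ pullback.fst s v ≫ t))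
        ((yon S).map (r' ≫ pullback.fst s v ≫ s)) (by
          simp only [← hτv, pullback.condition, ← Category.assoc r, ← Category.assoc r', h1, h2']
          simp only [Category.assoc, Functor.map_comp]
          have e0 : (yon S).map v ≫ p = (yon S).map v ≫ p := rfl
          have h3 : (yon S).map (r' ≫ pullback.fst s v ≫ t) ≫ p = (yon S).map (r' ≫ pullback.fst s v ≫ s) ≫ p := by
            simp only [Functor.map_comp, Category.assoc, sqR.w]
          have h4 : (yon S).map (r ≫ pullback.fst s v ≫ t) ≫ p = (yon S).map (r ≫ pullback.fst s v ≫ s) ≫ p := by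
            simp only [Functor.map_comp, Category.assoc, sqR.w]
          simp only [← hτv, pullback.condition, ← Category.assoc r, ← Category.assoc r', h1, h2, h1', h2'] at h3 h4
          simp only [Functor.map_comp, Category.assoc] at h3 h4
          rw [h4, h3]))
      have q1 : r₂ ≫ t = r ≫ pullback.fst s v ≫ t := (yon S).map_injective (by
        rw [Functor.map_comp, hr₂, sqR.lift_fst])
      have q2 : r₂ ≫ s = r' ≫ pullback.fst s v ≫ s := (yon S).map_injective (by
        rw [Functor.map_comp, hr₂, sqR.lift_snd])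
      let a₃ : T ⟶ A (s := s) v := pullback.lift r₂ (r' ≫ pullback.snd s v) (by
        rw [q2, pullback.condition, Category.assoc])
      refine ⟨a₃, ?_, (pullback.lift_snd _ _ _).trans h2'⟩
      rw [← h1]
      refine (τ_trans hr sqR v d hdv hdd hdq τ hτ hs r' r a₃ ?_ (pullback.lift_snd _ _ _).symm ?_).symm
      · rw [h1', h2]
      · simp only [a₃, pullback.lift_fst_assoc, q1]
  have hsA : Etale (pullback.snd s v).left :=
    MorphismProperty.of_isPullback (P := @Etale) ((IsPullback.of_hasPullback s v).map (Over.forget S)) hse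
  have hτeA : Etale τ.left := by
    obtain ⟨σ, hσ1, hσ2⟩ := hsymm (𝟙 (A (s := s) v))
    obtain ⟨σ', hσ1', hσ2'⟩ := hsymm σ
    rw [Category.id_comp] at hσ1 hσ2
    have h0 : σ ≫ σ = 𝟙 _ := hinj _ _ _ (by rw [Category.assoc, hσ2, hσ1, Category.id_comp])
      (by rw [Category.assoc, hσ1, hσ2, Category.id_comp])
    haveI : IsIso σ := ⟨σ, h0, h0⟩
    rw [← hσ1]
    exact inferInstanceAs (Etale (σ.left ≫ (pullback.snd s v).left))
  have hEt : IsEtaleEqvRel (pullback.snd s v) τ := ⟨hEq, hsA, hτeA⟩
  have hP := isPresentation_quotSp hEt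
  let Z := quotSp ((yon S).map (pullback.snd s v)) ((yon S).map τ)
  let q : (yon S).obj V ⟶ Z := quotSpπ ((yon S).map (pullback.snd s v)) ((yon S).map τ)
  let μ : Z ⟶ Y.obj := quotSpDesc ((yon S).map v ≫ p) (by
    simp only [← Functor.map_comp_assoc, hτv, ← pullback.condition]
    simp only [Functor.map_comp, Category.assoc, sqR.w])
  have hμ : q ≫ μ = (yon S).map v ≫ p := quotSpπ_desc (s := (yon S).map (pullback.snd s v)) (t := (yon S).map τ) _ _
  have hqw : (yon S).map τ ≫ q = (yon S).map (pullback.snd s v) ≫ q := hP.isPullback.w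
  -- the chart of the source
  haveI : Epi (hr.fst p) := epi_of_etale_surjective (RepWith.baseChange (hr.isPullback p).flip hpe)
    (RepWith.baseChange (hr.isPullback p).flip hps)
  have hcomp : ∀ (T : Over S) (a b : T ⟶ hr.pullback p),
      (yon S).map a ≫ hr.fst p = (yon S).map b ≫ hr.fst p →
      ((yon S).map (a ≫ d)) ≫ q = (yon S).map (b ≫ d) ≫ q := by
    intro T a b hab
    obtain ⟨r, hr'⟩ := (yon S).map_surjective (sqR.lift ((yon S).map (b ≫ hr.snd p)) ((yon S).map (a ≫ hr.snd p)) (by
      rw [Functor.map_comp, Functor.map_comp, Category.assoc, Category.assoc, ← hr.w, reassoc_of% hab]))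
    have q1 : r ≫ t = b ≫ hr.snd p := (yon S).map_injective (by rw [Functor.map_comp, hr', sqR.lift_fst])
    have q2 : r ≫ s = a ≫ hr.snd p := (yon S).map_injective (by rw [Functor.map_comp, hr', sqR.lift_snd])
    let n : T ⟶ NR hr (p := p) (s := s) := pullback.lift r a q2
    have hnt : n ≫ nt hr sqR = b := hr.hom_ext (by
        rw [Functor.map_comp, Category.assoc, nt_fst, ← Functor.map_comp_assoc]
        simp only [n, pullback.lift_snd, hab]) (by
        rw [Category.assoc, nt_snd, ← q1]; simp [n])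
    have e1 : a ≫ d = (n ≫ lA hr v d hdv) ≫ pullback.snd s v := by
      rw [Category.assoc, lA_snd]; simp [n]
    have e2 : b ≫ d = (n ≫ lA hr v d hdv) ≫ τ := by
      rw [Category.assoc, hτ, reassoc_of% hnt]
    rw [e1, e2, Functor.map_comp, Functor.map_comp _ (n ≫ lA hr v d hdv) τ, Category.assoc, Category.assoc, hqw]
  have hpres := (hr.isPullback p)
  obtain ⟨h, hh⟩ : ∃ h : N.obj ⟶ Z, hr.fst p ≫ h = (yon S).map d ≫ q := by
    have hNe := RepWith.baseChange (hr.isPullback p).flip hpe
    have hNs := RepWith.baseChange (hr.isPullback p).flip hps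
    obtain ⟨t', ht'⟩ := (yon S).map_surjective (hNe.1.fst (hr.fst p))
    have sqN : IsPullback ((yon S).map t') ((yon S).map (hNe.1.snd (hr.fst p))) (hr.fst p) (hr.fst p) :=
      ht' ▸ hNe.1.isPullback (hr.fst p)
    have hw : (yon S).map (hNe.1.snd (hr.fst p)) ≫ (yon S).map d ≫ q = (yon S).map t' ≫ (yon S).map d ≫ q := by
      rw [← Functor.map_comp_assoc, ← Functor.map_comp_assoc]
      exact hcomp _ _ _ sqN.w.symm
    haveI : IsIso (pullback.lift ((yon S).map t') ((yon S).map (hNe.1.snd (hr.fst p))) sqN.w :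
        (yon S).obj _ ⟶ pullback (hr.fst p) (hr.fst p)) := by
      rw [show pullback.lift ((yon S).map t') ((yon S).map (hNe.1.snd (hr.fst p))) sqN.w = sqN.isoPullback.hom from
        pullback.hom_ext (by simp [pullback.lift_fst]) (by simp [pullback.lift_snd])]
      infer_instance
    haveI := isIso_quotSpDesc (s := (yon S).map (hNe.1.snd (hr.fst p))) (t := (yon S).map t') (hr.fst p) sqN.w.symm
    refine ⟨inv (quotSpDesc (hr.fst p) sqN.w.symm) ≫ quotSpDesc ((yon S).map d ≫ q) hw, ?_⟩
    have e0 : hr.fst p ≫ inv (quotSpDesc (hr.fst p) sqN.w.symm) =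
        quotSpπ ((yon S).map (hNe.1.snd (hr.fst p))) ((yon S).map t') :=
      (IsIso.comp_inv_eq _).2 (quotSpπ_desc (s := (yon S).map (hNe.1.snd (hr.fst p))) (t := (yon S).map t') _ _).symm
    rw [← Category.assoc, e0]
    exact quotSpπ_desc (s := (yon S).map (hNe.1.snd (hr.fst p))) (t := (yon S).map t') _ _
  have hhμ : h ≫ μ = ν := by
    rw [← cancel_epi (hr.fst p), reassoc_of% hh, hμ, ← Functor.map_comp_assoc, hdv, hr.w]
  -- the square
  have sqP := IsPullback.of_hasPullback μ p
  let l : (yon S).obj V ⟶ pullback μ p := pullback.lift q ((yon S).map v) hμ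
  haveI : Mono l := ⟨fun {T} x y hxy => hom_ext_of_yon fun W w => by
    have h1 := congrArg (fun m => w ≫ m ≫ pullback.fst μ p) hxy
    have h2 := congrArg (fun m => w ≫ m ≫ pullback.snd μ p) hxy
    simp only [l, Category.assoc, pullback.lift_fst, pullback.lift_snd] at h1 h2
    obtain ⟨x', hx'⟩ := (yon S).map_surjective (w ≫ x)
    obtain ⟨y', hy'⟩ := (yon S).map_surjective (w ≫ y)
    simp only [← Category.assoc, ← hx', ← hy'] at h1 h2
    obtain ⟨a, ha⟩ := (yon S).map_surjective (hP.isPullback.lift ((yon S).map x') ((yon S).map y') h1)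
    have a1 : a ≫ τ = x' := (yon S).map_injective (by rw [Functor.map_comp, ha, hP.isPullback.lift_fst])
    have a2 : a ≫ pullback.snd s v = y' := (yon S).map_injective (by rw [Functor.map_comp, ha, hP.isPullback.lift_snd])
    have hxy' : x' ≫ v = y' ≫ v := (yon S).map_injective (by simpa only [Functor.map_comp] using h2)
    have hd : a ≫ pullback.fst s v = (y' ≫ v) ≫ e := (yon S).map_injective (sqR.hom_ext
      (by rw [← Functor.map_comp, ← Functor.map_comp, Category.assoc, ← hτv, reassoc_of% a1, hxy',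
        Category.assoc _ e, he2, Category.comp_id])
      (by rw [← Functor.map_comp, ← Functor.map_comp, Category.assoc, pullback.condition, reassoc_of% a2,
        Category.assoc _ e, he1, Category.comp_id]))
    have : a = y' ≫ pullback.lift (v ≫ e) (𝟙 V) (by rw [Category.assoc, he1, Category.comp_id, Category.id_comp]) := by
      apply pullback.hom_ext
      · rw [hd]; simp
      · rw [a2]; simp
    rw [← hx', ← hy', ← a1, this, Category.assoc, hτe, Category.comp_id]⟩
  haveI : Sheaf.IsLocallySurjective l := ⟨fun {T} z₀ => by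
    let z := (GrothendieckTopology.uliftYonedaEquiv.{u + 1} (J S)).symm z₀
    haveI : Epi q := inferInstanceAs (Epi (quotSpπ _ _))
    obtain ⟨C, hC, hz⟩ := exists_covering_lift q (z ≫ pullback.fst μ p)
    refine (J S).superset_covering (fun T' f hf => ?_) hC
    obtain ⟨y, hy⟩ := hz f hf
    obtain ⟨v₁, rfl⟩ := (yon S).map_surjective y
    obtain ⟨u₀, hu₀⟩ := (yon S).map_surjective (z ≫ pullback.snd μ p)
    obtain ⟨r, hr'⟩ := (yon S).map_surjective (sqR.lift ((yon S).map (f ≫ u₀)) ((yon S).map (v₁ ≫ v)) (by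
      have := congrArg (· ≫ μ) hy
      simp only [Category.assoc, hμ, pullback.condition] at this
      rw [Functor.map_comp, Functor.map_comp, Category.assoc, Category.assoc, hu₀, Category.assoc, ← this]))
    have q1 : r ≫ t = f ≫ u₀ := (yon S).map_injective (by rw [Functor.map_comp, hr', sqR.lift_fst])
    have q2 : r ≫ s = v₁ ≫ v := (yon S).map_injective (by rw [Functor.map_comp, hr', sqR.lift_snd])
    have := (imageSieve_iff l z f).2 ⟨(yon S).map (pullback.lift r v₁ q2 ≫ τ), ?_⟩
    · rwa [Equiv.apply_symm_apply] at this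
    apply pullback.hom_ext
    · simp only [l, Category.assoc, pullback.lift_fst, Functor.map_comp, hqw]
      rw [← Functor.map_comp_assoc, pullback.lift_snd, hy]
    · simp only [l, Category.assoc, pullback.lift_snd]
      rw [← Functor.map_comp, Category.assoc, hτv, pullback.lift_fst_assoc, q1, Functor.map_comp, hu₀]⟩
  haveI : Epi l := Sheaf.epi_of_isLocallySurjective l
  haveI : IsIso l := isIso_of_mono_of_epi l
  have sqV : IsPullback q ((yon S).map v) μ p :=
    sqP.of_iso (asIso l).symm (Iso.refl _) (Iso.refl _) (Iso.refl _) (by simp [l, pullback.lift_fst])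
      (by simp [l, pullback.lift_snd]) (by simp) (by simp)
  exact ⟨Z, isAlgSpace_quotSp hEt, μ, h, q, hhμ, sqV, hP.etale, hP.surjective, hh⟩

end quot

end Groth.Agent.AlgSpLib.SubQuot
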