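import Groth.Agent.AlgSpLib.FormallyLift
import Groth.Agent.AlgSpLib.LocP

/-!
Lifting squares along arbitrary surjections of rings with square zero kernel.
-/

universe u

open CategoryTheory CategoryTheory.Limits AlgebraicGeometry
open AlgSp

noncomputable section

namespace Groth.Agent.AlgSpLib

set_option backward.isDefEq.respectTransparency.types false

variable {S : Scheme.{u}} {B' B : Type u} [CommRing B'] [CommRing B] (π : B' →+* B)

/-- the closed immersion over `S` given by `π` -/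
abbrev surjPt (s : Spec (CommRingCat.of B') ⟶ S) : Over.mk (Spec.map (CommRingCat.ofHom π) ≫ s) ⟶ Over.mk s :=
  Over.homMk (Spec.map (CommRingCat.ofHom π)) rfl

theorem exists_quot_iso (hπ : Function.Surjective π) (s : Spec (CommRingCat.of B') ⟶ S) :
    ∃ e : Over.mk (Spec.map (CommRingCat.ofHom π) ≫ s) ≅
        Over.mk (Spec.map (CommRingCat.ofHom (Ideal.Quotient.mk (RingHom.ker π))) ≫ s),
      e.hom ≫ (Over.homMk (Spec.map (CommRingCat.ofHom (Ideal.Quotient.mk (RingHom.ker π)))) rfl :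
        Over.mk (Spec.map (CommRingCat.ofHom (Ideal.Quotient.mk (RingHom.ker π))) ≫ s) ⟶ Over.mk s) =
          surjPt π s := by
  let e := (RingHom.quotientKerEquivOfSurjective hπ).toCommRingCatIso
  have h : CommRingCat.ofHom (Ideal.Quotient.mk (RingHom.ker π)) ≫ e.hom = CommRingCat.ofHom π := rfl
  have : IsIso (Spec.map e.hom) := inferInstance
  refine ⟨Over.isoMk (f := Over.mk (Spec.map (CommRingCat.ofHom π) ≫ s))
    (g := Over.mk (Spec.map (CommRingCat.ofHom (Ideal.Quotient.mk (RingHom.ker π))) ≫ s))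
    (asIso (Spec.map e.hom)) ?_, Over.OverMorphism.ext ?_⟩
  · show Spec.map e.hom ≫ Spec.map _ ≫ s = Spec.map _ ≫ s
    rw [← Spec.map_comp_assoc, h]
  · show Spec.map e.hom ≫ Spec.map _ = Spec.map _
    rw [← Spec.map_comp, h]

variable {π}

/-- lifting along surjections with square zero kernel -/
theorem exists_lift_of_surjective {F G : Sp S} {f : F ⟶ G} (hf : IsFormallySmoothMor f) (π : B' →+* B)
    (hπ : Function.Surjective π) (hsq : RingHom.ker π ^ 2 = ⊥) (s : Spec (CommRingCat.of B') ⟶ S)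
    (α : (yon S).obj (Over.mk (Spec.map (CommRingCat.ofHom π) ≫ s)) ⟶ F)
    (β : (yon S).obj (Over.mk s) ⟶ G) (w : α ≫ f = (yon S).map (surjPt π s) ≫ β) :
    ∃ γ : (yon S).obj (Over.mk s) ⟶ F, (yon S).map (surjPt π s) ≫ γ = α ∧ γ ≫ f = β := by
  obtain ⟨e, he⟩ := exists_quot_iso π hπ s
  obtain ⟨l, h1, h2⟩ := hf
    { A := B'
      I := RingHom.ker π
      sq_zero := hsq
      str := s
      top := (yon S).map e.inv ≫ α
      bot := β
      comm := by rw [Category.assoc, w, ← Functor.map_comp_assoc, ← he, e.inv_hom_id_assoc] }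
  refine ⟨l, ?_, h2⟩
  rw [← he, Functor.map_comp, Category.assoc]
  refine (congrArg ((yon S).map e.hom ≫ ·) h1).trans ?_
  rw [← Functor.map_comp_assoc, e.hom_inv_id, CategoryTheory.Functor.map_id, Category.id_comp]

/-- uniqueness along surjections with square zero kernel -/
theorem eq_of_surjective {F G : Sp S} {f : F ⟶ G} (hf : IsFormallyUnramifiedMor f) (π : B' →+* B)
    (hπ : Function.Surjective π) (hsq : RingHom.ker π ^ 2 = ⊥) (s : Spec (CommRingCat.of B') ⟶ S)
    (l l' : (yon S).obj (Over.mk s) ⟶ F) (h₁ : (yon S).map (surjPt π s) ≫ l = (yon S).map (surjPt π s) ≫ l')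
    (h₂ : l ≫ f = l' ≫ f) : l = l' := by
  obtain ⟨e, he⟩ := exists_quot_iso π hπ s
  let j : Over.mk (Spec.map (CommRingCat.ofHom (Ideal.Quotient.mk (RingHom.ker π))) ≫ s) ⟶ Over.mk s :=
    Over.homMk (Spec.map (CommRingCat.ofHom (Ideal.Quotient.mk (RingHom.ker π)))) rfl
  rw [← he, Functor.map_comp, Category.assoc, Category.assoc] at h₁
  exact hf
    { A := B'
      I := RingHom.ker π
      sq_zero := hsq
      str := s
      top := (yon S).map j ≫ l'
      bot := l' ≫ f
      comm := Category.assoc _ _ _ } l l' ((cancel_epi ((yon S).map e.hom)).1 h₁) h₂ rfl rfl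

/-- lifting in charts follows from lifting in the sheaf -/
theorem exists_chart_lift_of_surjective {X Y : Sp S} {f : X ⟶ Y} {U V : Over S} {a : (yon S).obj U ⟶ X}
    {b : (yon S).obj V ⟶ Y} {h : U ⟶ V} (ha : RepWith @Etale a) (hb : RepWith @Etale b)
    (w : a ≫ f = (yon S).map h ≫ b) (hπ : Function.Surjective π) (hsq : RingHom.ker π ^ 2 = ⊥)
    (α : Spec (CommRingCat.of B) ⟶ U.left) (β : Spec (CommRingCat.of B') ⟶ V.left)
    (e : Spec.map (CommRingCat.ofHom π) ≫ β = α ≫ h.left)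
    (H : ∀ (α₁ : Over.mk (Spec.map (CommRingCat.ofHom π) ≫ β ≫ V.hom) ⟶ U), α₁.left = α →
      ((yon S).map α₁ ≫ a) ≫ f =
        (yon S).map (surjPt π (β ≫ V.hom)) ≫ (yon S).map (Over.homMk (U := Over.mk (β ≫ V.hom)) β rfl) ≫ b →
      ∃ γ, (yon S).map (surjPt π (β ≫ V.hom)) ≫ γ = (yon S).map α₁ ≫ a ∧
        γ ≫ f = (yon S).map (Over.homMk (U := Over.mk (β ≫ V.hom)) β rfl) ≫ b) :
    ∃ γ : Spec (CommRingCat.of B') ⟶ U.left, Spec.map (CommRingCat.ofHom π) ≫ γ = α ∧ γ ≫ h.left = β := by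
  let s := β ≫ V.hom
  let β₁ : Over.mk s ⟶ V := Over.homMk (U := Over.mk s) β rfl
  let α₁ : Over.mk (Spec.map (CommRingCat.ofHom π) ≫ s) ⟶ U :=
    Over.homMk (U := Over.mk (Spec.map (CommRingCat.ofHom π) ≫ s)) α (by
      show α ≫ U.hom = Spec.map _ ≫ β ≫ V.hom
      rw [reassoc_of% e, Over.w h])
  have e₁ : α₁ ≫ h = surjPt π s ≫ β₁ := Over.OverMorphism.ext e.symm
  obtain ⟨γ, h1, h2⟩ := H α₁ rfl (by
    rw [Category.assoc, w, ← Functor.map_comp_assoc, e₁, Functor.map_comp_assoc])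
  obtain ⟨l, hl1, hl2⟩ := exists_lift_of_surjective ((formallyEtale_iff a).1 (isFormallyEtaleMor_of_repWith ha)).1
    π hπ hsq s ((yon S).map α₁) γ h1.symm
  obtain ⟨m, rfl⟩ := (yon S).map_surjective l
  refine ⟨m.left, ?_, ?_⟩
  · exact congrArg (fun k => k.left) ((yon S).map_injective ((Functor.map_comp _ _ _).trans hl1))
  · have : (yon S).map (m ≫ h) = (yon S).map β₁ :=
      eq_of_surjective ((formallyEtale_iff b).1 (isFormallyEtaleMor_of_repWith hb)).2 π hπ hsq s _ _ (by
        have hk : surjPt π s ≫ m = α₁ := (yon S).map_injective ((Functor.map_comp _ _ _).trans hl1)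
        rw [← Functor.map_comp, ← Functor.map_comp, ← e₁, ← hk]
        exact congrArg _ (Category.assoc _ _ _).symm)
        (by rw [Functor.map_comp, Category.assoc, ← w, ← Category.assoc, hl2, h2])
    exact congrArg (fun k => k.left) ((yon S).map_injective this)

theorem locP_lft_yon_comp {Y : Sp S} {V : Over S} {b : (yon S).obj V ⟶ Y} (hb : RepWith @Etale b)
    {C : Type u} [CommRing C] (β : Spec (CommRingCat.of C) ⟶ V.left) (hβ : LocallyOfFiniteType β) :
    LocP @LocallyOfFiniteType ((yon S).map (Over.homMk (U := Over.mk (β ≫ V.hom)) β rfl) ≫ b) :=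
  locP_of_repWith etLocal_lft (IsAlgSpace.yon_obj _) (RepWith.comp ((repWith_yon_map_iff _ _).2 hβ)
    (RepWith.mono (fun _ _ g (_ : Etale g) => (inferInstance : LocallyOfFiniteType g)) hb))

end Groth.Agent.AlgSpLib
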