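import Groth.Agent.AlgSpLib.Tuples
import Groth.Agent.AlgSpLib.FiniteChartAffine
import Groth.Agent.AlgSpLib.EqvQuot
import Groth.Agent.AlgSpLib.OpenCoverScheme
import Groth.Agent.AlgSpLib.Pres
import Groth.Agent.Stk19b.SepQuot

/-!
Schemes of unordered tuples of distinct lifts along an affine etale chart.
-/

universe u

open CategoryTheory CategoryTheory.Limits AlgebraicGeometry Opposite
open AlgSp

noncomputable section

namespace Groth.Agent.AlgSpLib

set_option backward.isDefEq.respectTransparency.types false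

variable {S : Scheme.{u}} {X : Sp S}

/-- the points with at least `n` distinct lifts along a chart, over some field -/
def manyLifts {U : Over S} (a : (yon S).obj U ⟶ X) (n : ℕ) : Set (Points X) :=
  {x | ∃ (Ω : Type u) (_ : Field Ω) (str : Spec (CommRingCat.of Ω) ⟶ S) (h : (yon S).obj (Over.mk str) ⟶ X),
    ptOfHom h = x ∧ ∃ f : Fin n → (Over.mk str ⟶ U), (∀ i, (yon S).map (f i) ≫ a = h) ∧ Function.Injective f}

theorem range_specMap_subset_singleton {K : Type u} [Field K] {T : Scheme.{u}}
    (h : Spec (CommRingCat.of K) ⟶ T) : Set.range h ⊆ {FlatMorWeight.pt h} := by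
  rintro _ ⟨z, rfl⟩
  exact FlatMorWeight.eq_pt h z

/-- morphisms out of the spectrum of a field are separated by field-valued points -/
theorem injective_comp_of_field {Ω K : Type u} [Field Ω] [Field K] {T : Scheme.{u}}
    (h : Spec (CommRingCat.of K) ⟶ Spec (CommRingCat.of Ω)) :
    Function.Injective fun f : Spec (CommRingCat.of Ω) ⟶ T => h ≫ f := by
  intro f g e
  obtain ⟨φ, rfl⟩ : ∃ φ, Spec.map φ = h := ⟨_, Spec.map_preimage h⟩
  have hflat : φ.hom.Flat := by
    algebraize [φ.hom]
    exact (inferInstance : Module.Flat Ω K)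
  have : Flat (Spec.map φ) := (HasRingHomProperty.Spec_iff (P := @Flat)).2 hflat
  have : Surjective (Spec.map φ) := ⟨fun z => ⟨IsLocalRing.closedPoint K,
    Subsingleton.elim (α := PrimeSpectrum Ω) _ _⟩⟩
  have := Flat.epi_of_flat_of_surjective (Spec.map φ)
  exact (cancel_epi (Spec.map φ)).1 e

/-- lifts of geometric points along surjective etale maps -/
theorem exists_lift_geom {W : Over S} {Y : Sp S} (π : (yon S).obj W ⟶ Y) (hπ : RepWith @Etale π)
    (hs : RepWith @Surjective π) {Ω : Type u} [Field Ω] [IsAlgClosed Ω] {str : Spec (CommRingCat.of Ω) ⟶ S}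
    (v : (yon S).obj (Over.mk str) ⟶ Y) : ∃ w : Over.mk str ⟶ W, (yon S).map w ≫ π = v := by
  obtain ⟨t, ht⟩ := (yon S).map_surjective (hπ.1.fst v)
  let d := hπ.1.snd v
  have sq : IsPullback ((yon S).map t) ((yon S).map d) π v := ht ▸ hπ.1.isPullback v
  have : Etale d.left := hπ.property _ _ _ sq
  have : Surjective d.left := hs.property _ _ _ sq
  have := locallyQuasiFinite_of_etale d.left
  obtain ⟨p, hp⟩ := d.left.surjective (IsLocalRing.closedPoint Ω)
  obtain ⟨z, hz, -⟩ := FlatMorWeight.exists_GP_at d.left (𝟙 _) p (hp.trans rfl)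
  let z' : Over.mk str ⟶ hπ.1.pullback v := Over.homMk z (by
    show z ≫ _ = str
    rw [← Over.w d, ← Category.assoc]
    exact (congrArg (· ≫ str) hz).trans (Category.id_comp _))
  refine ⟨z' ≫ t, ?_⟩
  have e : z' ≫ d = 𝟙 _ := Over.OverMorphism.ext hz
  rw [Functor.map_comp, Category.assoc, sq.w, ← Category.assoc, ← Functor.map_comp, e]
  erw [(yon S).map_id, Category.id_comp]

/-- the scheme of unordered tuples -/
theorem exists_unorderedTuples (hX : IsAlgSpace X) {U : Over S} [IsAffine U.left] (a : (yon S).obj U ⟶ X)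
    (ha : RepWith @Etale a) (n : ℕ) :
    ∃ (V : Over S) (f : (yon S).obj V ⟶ X), RepWith @Etale f ∧ V.left.IsSeparated ∧
      (RepWith @QuasiCompact a → CompactSpace ↥V.left) ∧
      Set.range (Points.ofPt f) = manyLifts a (n + 1) ∧
      ∀ (Ω : Type u) [Field Ω] [IsAlgClosed Ω] (str : Spec (CommRingCat.of Ω) ⟶ S)
        (h : (yon S).obj (Over.mk str) ⟶ X), ptOfHom h ∉ manyLifts a (n + 2) →
        ∀ v v' : Over.mk str ⟶ V, (yon S).map v ≫ f = h → (yon S).map v' ≫ f = h → v = v' := by
  classical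
  obtain ⟨W, q, c, A, φ, hq, hc, hA, hφ, hφf, hcpt, hinj, huniv⟩ := exists_distinctTuples hX a ha n
  have : IsSeparated U.hom := inferInstance
  have : IsSeparated φ := inferInstance
  have : LocallyQuasiFinite φ := inferInstance
  have hWsep : W.left.IsSeparated := ⟨by
    rw [← terminal.comp_from φ]; infer_instance⟩
  -- pairs of tuples
  obtain ⟨t₁, ht₁⟩ := (yon S).map_surjective (hq.1.fst q)
  let P : Over S := hq.1.pullback q
  let t₂ : P ⟶ W := hq.1.snd q
  have sqP : IsPullback ((yon S).map t₁) ((yon S).map t₂) q q := ht₁ ▸ hq.1.isPullback q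
  have hqc : ∀ {T : Over S} (g : T ⟶ W) i, (yon S).map (g ≫ c i) ≫ a = (yon S).map g ≫ q := fun g i => by
    rw [Functor.map_comp, Category.assoc, hc]
  choose E hE hEg using fun i j => exists_eqLocus hX a ha (t₁ ≫ c i) (t₂ ≫ c j) (by
    rw [hqc, hqc]; exact sqP.w)
  let O : P.left.Opens := ⟨⋂ i, ⋃ j, E i j, isOpen_iInter_of_finite fun i => isOpen_iUnion fun j => (hE i j).2⟩
  have hO : ∀ (Ω : Type u) [Field Ω] (h : Spec (CommRingCat.of Ω) ⟶ P.left), FlatMorWeight.pt h ∈ O ↔
      ∀ i, ∃ j, h ≫ (t₁ ≫ c i).left = h ≫ (t₂ ≫ c j).left := fun Ω _ h => by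
    refine ⟨fun hm i => ?_, fun hh => Set.mem_iInter.2 fun i => ?_⟩
    · obtain ⟨j, hj⟩ := Set.mem_iUnion.1 (Set.mem_iInter.1 hm i)
      exact ⟨j, (hEg i j Ω h).1 hj⟩
    · obtain ⟨j, hj⟩ := hh i
      exact Set.mem_iUnion.2 ⟨j, (hEg i j Ω h).2 hj⟩
  let R : Over S := Over.mk (O.ι ≫ P.hom)
  let ι : R ⟶ P := Over.homMk O.ι
  have hι : IsOpenImmersion ι.left := inferInstanceAs (IsOpenImmersion O.ι)
  have hιm : Mono ι := (Over.forget S).mono_of_mono_map (inferInstanceAs (Mono O.ι))
  let r₁ : R ⟶ W := ι ≫ t₁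
  let r₂ : R ⟶ W := ι ≫ t₂
  have hRinj : ∀ (T : Over S) (r r' : T ⟶ R), r ≫ r₁ = r' ≫ r₁ → r ≫ r₂ = r' ≫ r₂ → r = r' := fun T r r' h1 h2 => by
    refine (cancel_mono ι).1 ((yon S).map_injective (sqP.hom_ext ?_ ?_))
    · rw [← Functor.map_comp, ← Functor.map_comp, Category.assoc, Category.assoc]
      exact congrArg _ h1
    · rw [← Functor.map_comp, ← Functor.map_comp, Category.assoc, Category.assoc]
      exact congrArg _ h2
  -- the relation: equal sets of geometric lifts
  let tup : ∀ {T : Over S}, (T ⟶ W) → ∀ {Ω : Type u} [Field Ω], (Spec (CommRingCat.of Ω) ⟶ T.left) →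
      Fin (n + 1) → (Spec (CommRingCat.of Ω) ⟶ U.left) := fun g _ _ h i => h ≫ g.left ≫ (c i).left
  have htup : ∀ {T : Over S} (g : T ⟶ W) {Ω : Type u} [Field Ω] (h : Spec (CommRingCat.of Ω) ⟶ T.left),
      Function.Injective (tup g h) := fun g Ω _ h i j hij =>
    hinj Ω (h ≫ g.left) (show (h ≫ g.left) ≫ (c i).left = (h ≫ g.left) ≫ (c j).left by
      rw [Category.assoc, Category.assoc]; exact hij)
  let Rel : ∀ {T : Over S}, (T ⟶ W) → (T ⟶ W) → Prop := fun {T} g g' => (yon S).map g ≫ q = (yon S).map g' ≫ q ∧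
    ∀ (Ω : Type u) [Field Ω] (h : Spec (CommRingCat.of Ω) ⟶ T.left), Set.range (tup g h) = Set.range (tup g' h)
  have hrange : ∀ {Ω : Type u} [Field Ω] (α β : Fin (n + 1) → (Spec (CommRingCat.of Ω) ⟶ U.left)),
      Function.Injective α → Function.Injective β → (∀ i, ∃ j, α i = β j) → Set.range α = Set.range β :=
    fun α β hα hβ h => by
    refine Set.eq_of_subset_of_ncard_le (by rintro _ ⟨i, rfl⟩; obtain ⟨j, hj⟩ := h i; exact ⟨j, hj.symm⟩)
      (le_of_eq ?_) (Set.finite_range β)
    rw [Set.ncard_range_of_injective hβ, Set.ncard_range_of_injective hα]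
  have hRel : ∀ {T : Over S} (g g' : T ⟶ W), (∃ r : T ⟶ R, r ≫ r₁ = g ∧ r ≫ r₂ = g') ↔ Rel g g' := by
    intro T g g'
    constructor
    · rintro ⟨r, rfl, rfl⟩
      refine ⟨?_, fun Ω _ h => hrange _ _ (htup _ h) (htup _ h) fun i => ?_⟩
      · simp only [r₁, r₂, Functor.map_comp, Category.assoc, sqP.w]
      · obtain ⟨j, hj⟩ := (hO Ω (h ≫ r.left ≫ O.ι)).1 ((h ≫ r.left) (IsLocalRing.closedPoint Ω)).2 i
        refine ⟨j, ?_⟩
        simp only [Over.comp_left, Category.assoc] at hj
        simp only [tup, r₁, r₂, Over.comp_left, Category.assoc]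
        exact hj
    · rintro ⟨hw, hh⟩
      obtain ⟨m, hm⟩ := (yon S).map_surjective (sqP.lift ((yon S).map g) ((yon S).map g') hw)
      have hm1 : m ≫ t₁ = g := (yon S).map_injective (by rw [Functor.map_comp, hm, sqP.lift_fst])
      have hm2 : m ≫ t₂ = g' := (yon S).map_injective (by rw [Functor.map_comp, hm, sqP.lift_snd])
      have hr : Set.range m.left ⊆ Set.range ι.left := by
        refine (range_subset_of_geomPt m.left (O := (O : Set ↥P.left)) fun Ω _ h => (hO Ω _).2 fun i => ?_).trans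
          (Scheme.Opens.range_ι O).symm.subset
        obtain ⟨j, hj⟩ := (hh Ω h).subset ⟨i, rfl⟩
        refine ⟨j, ?_⟩
        have e1 : m.left ≫ t₁.left = g.left := congrArg (fun k => k.left) hm1
        have e2 : m.left ≫ t₂.left = g'.left := congrArg (fun k => k.left) hm2
        simp only [Over.comp_left, Category.assoc, reassoc_of% e1, reassoc_of% e2]
        exact hj.symm
      let r : T ⟶ R := Over.homMk (IsOpenImmersion.lift ι.left m.left hr) (by
        rw [← Over.w ι, ← Category.assoc, IsOpenImmersion.lift_fac]; exact Over.w m)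
      have hri : r ≫ ι = m := Over.OverMorphism.ext (IsOpenImmersion.lift_fac _ _ _)
      exact ⟨r, by simp only [r₁, reassoc_of% hri, hm1], by simp only [r₂, reassoc_of% hri, hm2]⟩
  have heqv : IsEqvRel r₂ r₁ := ⟨fun T r r' h1 h2 => hRinj T r r' h1 h2, fun T =>
    { refl := fun g => (hRel g g).2 ⟨rfl, fun _ _ _ => rfl⟩
      symm := fun {g g'} h => by
        obtain ⟨h1, h2⟩ := (hRel g g').1 h
        exact (hRel g' g).2 ⟨h1.symm, fun Ω _ k => (h2 Ω k).symm⟩
      trans := fun {g g' g''} h h' => by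
        obtain ⟨h1, h2⟩ := (hRel g g').1 h
        obtain ⟨h3, h4⟩ := (hRel g' g'').1 h'
        exact (hRel g g'').2 ⟨h1.trans h3, fun Ω _ k => (h2 Ω k).trans (h4 Ω k)⟩ }⟩
  have : Etale t₂.left := hq.property _ _ _ sqP
  have : Etale t₁.left := hq.property _ _ _ sqP.flip
  have he₁ : Etale r₁.left := inferInstanceAs (Etale (O.ι ≫ t₁.left))
  have he₂ : Etale r₂.left := inferInstanceAs (Etale (O.ι ≫ t₂.left))
  have het : IsEtaleEqvRel r₂ r₁ := ⟨heqv, he₂, he₁⟩
  -- permutations give all the arrows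
  have hperm : ∀ σ : Equiv.Perm (Fin (n + 1)), ∃ g : W ⟶ W, ∀ i, g ≫ c i = c (σ i) := fun σ =>
    (huniv W (fun i => c (σ i)) (fun i j => (hc _).trans (hc _).symm)
      fun Ω _ h => (hinj Ω h).comp σ.injective).exists
  choose perm hpermc using hperm
  have harrow : ∀ σ, ∃ r : W ⟶ R, r ≫ r₁ = perm σ ∧ r ≫ r₂ = 𝟙 W := fun σ => (hRel _ _).2 ⟨by
    rw [← hqc (perm σ) 0, hpermc, ← hqc (𝟙 W) (σ 0), Category.id_comp], fun Ω _ h => by
    have e : tup (perm σ) h = tup (𝟙 W) h ∘ σ := funext fun i => by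
      simp only [tup, Function.comp, Over.id_left, Category.id_comp]
      rw [← Over.comp_left, hpermc]
    rw [e]; exact σ.surjective.range_comp _⟩
  choose arr harr₁ harr₂ using harrow
  have : IsSeparated r₂.left := by
    have : IsSeparated W.hom := by
      have : IsSeparated (terminal.from W.left) := hWsep.isSeparated_terminal_from
      have : IsSeparated (W.hom ≫ terminal.from S) := by rw [terminal.comp_from]; infer_instance
      exact IsSeparated.of_comp W.hom (terminal.from S)
    have : IsSeparated t₂.left := (repWith_isSeparated_of_isSeparated_source hX q).property _ _ _ sqP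
    exact inferInstanceAs (IsSeparated (O.ι ≫ t₂.left))
  let N := Fintype.card (Equiv.Perm (Fin (n + 1)))
  let en := (Fintype.equivFin (Equiv.Perm (Fin (n + 1)))).symm
  have hperm' : ∀ (Ω : Type u) [Field Ω] (h : Spec (CommRingCat.of Ω) ⟶ W.left) σ i,
      h ≫ (arr σ).left ≫ r₁.left ≫ (c i).left = h ≫ (c (σ i)).left := fun Ω _ h σ i => by
    rw [← hpermc σ i, ← harr₁ σ]; simp only [Over.comp_left, Category.assoc]
  have hfin : IsFinite r₂.left := by
    refine isFinite_of_exact r₂.left (n := N) (D := W.left) (𝟙 W.left) (fun k => (arr (en k)).left)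
      (fun k => congrArg (fun m => m.left) (harr₂ (en k))) (fun Ω _ h k k' hk => en.injective (Equiv.ext fun i =>
        hinj Ω h ?_)) (fun Ω _ g f hf hfi => ?_) (P := R.left) (a := r₂.left) (b := 𝟙 R.left) (IsPullback.of_vert_isIso ⟨by simp⟩)
    · show h ≫ (c _).left = h ≫ (c _).left
      rw [← hperm', ← hperm']
      exact congr($hk ≫ r₁.left ≫ (c i).left) |> fun e => by simpa only [Category.assoc] using e
    · -- a lift is determined by its permutation
      let G : Fin (N + 1) → (Over.mk (g ≫ W.hom) ⟶ R) := fun k => Over.homMk (f k) (by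
        show f k ≫ R.hom = g ≫ W.hom
        rw [← Over.w r₂, ← Category.assoc, hf, Category.comp_id])
      have hG₂ : ∀ k, G k ≫ r₂ = Over.homMk g := fun k =>
        Over.OverMorphism.ext ((hf k).trans (Category.comp_id g))
      have key : ∀ k, ∃ σ : Equiv.Perm (Fin (n + 1)), ∀ i,
          f k ≫ r₁.left ≫ (c i).left = g ≫ (c (σ i)).left := fun k => by
        have hR := ((hRel _ _).1 ⟨G k, rfl, rfl⟩).2 Ω (𝟙 (Spec (CommRingCat.of Ω)))
        rw [hG₂] at hR
        choose σ hσ using fun i => hR.subset ⟨i, rfl⟩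
        have hσi : Function.Injective σ := fun i j hij => htup (G k ≫ r₁) (Ω := Ω) (𝟙 _)
          ((hσ i).symm.trans ((congrArg _ hij).trans (hσ j)))
        refine ⟨Equiv.ofBijective σ (Finite.injective_iff_bijective.1 hσi), fun i => ?_⟩
        have h2 := (hσ i).symm
        simp only [tup, Over.comp_left, Category.assoc, Category.id_comp] at h2
        exact h2
      choose σ hσ using key
      obtain ⟨k, k', hne, heq⟩ := Fintype.exists_ne_map_eq_of_card_lt (fun k => en.symm (σ k))
        (by rw [Fintype.card_fin, Fintype.card_fin]; exact Nat.lt_succ_self N)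
      refine hne (hfi ?_)
      have e : G k ≫ r₁ = G k' ≫ r₁ := by
        refine (huniv _ (fun i => (G k ≫ r₁) ≫ c i) (fun i j => by rw [hqc, hqc]) fun Ω' _ h => ?_).unique
          (fun i => rfl) fun i => ?_
        · intro i j hij
          exact htup (G k ≫ r₁) h (by simpa only [tup, Over.comp_left, Category.assoc] using hij)
        · refine Over.OverMorphism.ext ?_
          simp only [Over.comp_left, Category.assoc]
          show f k' ≫ _ = f k ≫ _
          rw [hσ, hσ, en.symm.injective heq]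
      exact congrArg (fun m : Over.mk (g ≫ W.hom) ⟶ R => m.left)
        (hRinj _ _ _ e ((hG₂ k).trans (hG₂ k').symm))
  -- the quotient
  have hY := isAlgSpace_quotSp het
  have hpres := isPresentation_quotSp het
  let π := quotSpπ ((yon S).map r₂) ((yon S).map r₁)
  let Y := quotSp ((yon S).map r₂) ((yon S).map r₁)
  have hπs : RepWith @Surjective π := hpres.surjective
  have hπe : RepWith @Etale π := hpres.etale
  have hπf : RepWith @IsFinite π := repWith_quotSpπ heqv @IsFinite hfin
  let φY : Y ⟶ X := quotSpDesc q (by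
    simp only [r₁, r₂, Functor.map_comp, Category.assoc, sqP.w])
  have hπφ : π ≫ φY = q := quotSpπ_desc _ _ _ _
  -- affine opens around orbits
  have hcov : ∀ w : ↥W.left, ∃ (C : Over S) (j : (yon S).obj C ⟶ Y), IsAffine C.left ∧
      RepWith @IsOpenImmersion j ∧ Points.ofPt π w ∈ Set.range (Points.map j) := fun w => by
    have hfib : (Points.ofPt π ⁻¹' {Points.ofPt π w}).Finite := by
      refine ((r₂.left.finite_preimage_singleton w).image r₁.left).subset fun w' hw' => ?_
      obtain ⟨r, h1, h2⟩ := (ofPt_eq_ofPt_iff hpres.isPullback w' w).1 hw'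
      exact ⟨r, h2, h1⟩
    obtain ⟨O', hO', hsub⟩ := exists_affineOpen_of_finite φ hfib
    exact exists_affine_open_of_finite_chart hY π hπe hπf w hO' fun w' hw' => hsub hw'
  choose C j hC hj hjw using hcov
  obtain ⟨V, ⟨e⟩⟩ := exists_iso_yon_of_openCover (ι := ↥W.left) j hj fun y => by
    obtain ⟨w, rfl⟩ := surjective_ofPt π hπs y
    exact ⟨w, hjw w⟩
  obtain ⟨p, hp⟩ := (yon S).map_surjective (π ≫ e.inv)
  have hpr : ∀ (P : MorphismProperty Scheme.{u}) [P.IsStableUnderBaseChange] [P.RespectsIso],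
      RepWith P π → P p.left := fun P _ _ h => by
    refine (repWith_yon_map_iff P p).1 ?_
    rw [hp, MorphismProperty.cancel_right_of_respectsIso (RepWith P)]
    exact h
  have : Etale p.left := hpr @Etale hπe
  have : Surjective p.left := hpr @Surjective hπs
  have : IsFinite p.left := hpr @IsFinite hπf
  let f := e.hom ≫ φY
  have hpf : (yon S).map p ≫ f = q := by
    simp only [f, hp, Category.assoc, Iso.inv_hom_id_assoc, hπφ]
  refine ⟨V, f, repWith_etale_of_comp p hX f (hpf.symm ▸ hq), ⟨?_⟩, fun haq => ?_, ?_, ?_⟩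
  · have : IsSeparated (p.left ≫ terminal.from V.left) := by
      rw [terminal.comp_from]; exact hWsep.isSeparated_terminal_from
    exact Stk19b.SepQuot.isSeparated_of_comp p.left (terminal.from V.left)
  · have := hcpt haq
    exact p.left.surjective.compactSpace p.left.continuous
  · ext x
    constructor
    · rintro ⟨v, rfl⟩
      obtain ⟨w, rfl⟩ := p.left.surjective v
      obtain ⟨h, hh⟩ := FlatMorWeight.exists_geomPt w
      refine ⟨_, inferInstance, _, (yon S).map (geomHom h) ≫ q, ?_, fun i => geomHom h ≫ c i, fun i => hqc _ i,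
        fun i i' hii' => hinj _ h (congrArg (fun k => k.left) hii')⟩
      rw [ptOfHom_yon_map, ← hpf, ofPt_map]
      exact congrArg _ (congrArg p.left hh)
    · rintro ⟨Ω, _, str, h, rfl, F, hF, hFi⟩
      obtain ⟨g, hg, -⟩ := huniv (Over.mk str) F (fun i i' => (hF i).trans (hF i').symm) fun Ω' _ k i i' hii' =>
        hFi (Over.OverMorphism.ext (injective_comp_of_field k hii'))
      refine ⟨(g ≫ p).left (IsLocalRing.closedPoint Ω), ?_⟩
      rw [← ptOfHom_yon_map (g ≫ p) f, Functor.map_comp, Category.assoc, hpf, ← hqc g 0, hg, hF]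
  · intro Ω _ _ str h hh v v' hv hv'
    obtain ⟨w, hw⟩ := exists_lift_geom ((yon S).map p) ((repWith_yon_map_iff (P := @Etale) p).2 inferInstance)
      ((repWith_yon_map_iff (P := @Surjective) p).2 inferInstance) ((yon S).map v)
    obtain ⟨w', hw'⟩ := exists_lift_geom ((yon S).map p) ((repWith_yon_map_iff (P := @Etale) p).2 inferInstance)
      ((repWith_yon_map_iff (P := @Surjective) p).2 inferInstance) ((yon S).map v')
    have hq' : (yon S).map w ≫ q = h := by rw [← hpf, reassoc_of% hw]; exact hv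
    have hq'' : (yon S).map w' ≫ q = h := by rw [← hpf, reassoc_of% hw']; exact hv'
    by_cases hsub : ∀ i, ∃ i', (w ≫ c i).left = (w' ≫ c i').left
    · obtain ⟨r, hr1, hr2⟩ := (hRel w w').2 ⟨hq'.trans hq''.symm, fun Ω' _ k => hrange _ _ (htup _ k) (htup _ k)
        fun i => by
          obtain ⟨i', hi'⟩ := hsub i
          exact ⟨i', by simpa only [tup, Over.comp_left, Category.assoc] using congrArg (k ≫ ·) hi'⟩⟩
      refine (yon S).map_injective ?_
      rw [← hw, ← hw', hp, ← Category.assoc, ← Category.assoc]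
      refine congrArg (· ≫ e.inv) ?_
      subst hr1 hr2
      exact (Functor.map_comp_assoc _ r r₁ π).trans
        ((congrArg (_ ≫ ·) (quotSp_condition _ _).symm).trans (Functor.map_comp_assoc _ r r₂ π).symm)
    · simp only [not_forall, not_exists] at hsub
      obtain ⟨i₀, hi₀⟩ := hsub
      refine absurd ⟨Ω, inferInstance, str, h, rfl, Fin.snoc (fun i => w' ≫ c i) (w ≫ c i₀), fun i => ?_, ?_⟩ hh
      · induction i using Fin.lastCases with
        | last => rw [Fin.snoc_last, hqc, hq']
        | cast i => rw [Fin.snoc_castSucc, hqc, hq'']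
      · rw [Fin.snoc_injective_iff]
        refine ⟨fun i i' hii' => htup w' (Ω := Ω) (𝟙 _) ?_, fun ⟨i, hi⟩ => hi₀ i (congrArg (fun k => k.left) hi).symm⟩
        simpa only [tup, Over.comp_left] using congrArg (fun k => (𝟙 (Spec (CommRingCat.of Ω))) ≫ k.left) hii'

end Groth.Agent.AlgSpLib
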