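import Mathlib.LinearAlgebra.SymmetricAlgebra.Basic
import Mathlib.RingTheory.FinitePresentation
import Mathlib.Algebra.Category.Ring.Constructions
import Mathlib.Algebra.Module.FinitePresentation

/-!
Finite presentation and base change of symmetric algebras.
-/

universe u v

open CategoryTheory CategoryTheory.Limits

noncomputable section

set_option linter.style.haveILetI false

namespace Groth.Agent.AlgSpLib.SymRing

open SymmetricAlgebra (ι lift lift_ι_apply)

variable {R : Type u} [CommRing R] {M : Type v} [AddCommGroup M] [Module R M]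

/-- ring homomorphisms out of a symmetric algebra -/
theorem ringHom_ext {C : Type*} [CommRing C] {f g : SymmetricAlgebra R M →+* C}
    (h₁ : ∀ r, f (algebraMap R _ r) = g (algebraMap R _ r)) (h₂ : ∀ m, f (ι R M m) = g (ι R M m)) : f = g := by
  refine RingHom.ext fun a => ?_
  induction a using SymmetricAlgebra.induction with
  | algebraMap r => exact h₁ r
  | ι x => exact h₂ x
  | mul a b ha hb => rw [map_mul, map_mul, ha, hb]
  | add a b ha hb => rw [map_add, map_add, ha, hb]

/-- a ring homomorphism out of a symmetric algebra from its values -/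
def desc {C : Type*} [CommRing C] (ψ : R →+* C) (b : M →+ C) (hb : ∀ r m, b (r • m) = ψ r * b m) :
    SymmetricAlgebra R M →+* C :=
  letI := ψ.toAlgebra
  (lift (A := C) { toFun := b, map_add' := b.map_add, map_smul' := fun r m => hb r m }).toRingHom

theorem desc_algebraMap {C : Type*} [CommRing C] (ψ : R →+* C) (b : M →+ C) (hb : ∀ r m, b (r • m) = ψ r * b m)
    (r : R) : desc ψ b hb (algebraMap R _ r) = ψ r := by
  letI := ψ.toAlgebra
  exact (lift (A := C) { toFun := b, map_add' := b.map_add, map_smul' := fun r m => hb r m }).commutes r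

theorem desc_ι {C : Type*} [CommRing C] (ψ : R →+* C) (b : M →+ C) (hb : ∀ r m, b (r • m) = ψ r * b m)
    (m : M) : desc ψ b hb (ι R M m) = b m := by
  letI := ψ.toAlgebra
  exact lift_ι_apply _ m

/-- the symmetric algebra of a finitely presented module is finitely presented -/
theorem finitePresentation [Module.FinitePresentation R M] :
    Algebra.FinitePresentation R (SymmetricAlgebra R M) := by
  classical
  obtain ⟨n, π, hπ⟩ := Module.Finite.exists_fin' R M
  have hker : (LinearMap.ker π).FG := Module.FinitePresentation.fg_ker π hπ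
  let L : (Fin n → R) →ₗ[R] MvPolynomial (Fin n) R := Fintype.linearCombination R (fun i => MvPolynomial.X i)
  let ψ : MvPolynomial (Fin n) R →ₐ[R] SymmetricAlgebra R M :=
    MvPolynomial.aeval fun i => ι R M (π (Pi.single i 1))
  have hψL : ∀ v, ψ (L v) = ι R M (π v) := fun v => by
    have e : ψ.toLinearMap.comp L = (ι R M).comp π := by
      refine (Pi.basisFun R (Fin n)).ext fun i => ?_
      simp [L, ψ, Fintype.linearCombination_apply_single, Pi.basisFun_apply]
    exact LinearMap.congr_fun e v
  obtain ⟨s, hs⟩ := hker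
  let I : Ideal (MvPolynomial (Fin n) R) := Ideal.span (L '' (s : Set (Fin n → R)))
  have hI : LinearMap.ker π ≤ LinearMap.ker ((Ideal.Quotient.mkₐ R I).toLinearMap.comp L) := by
    rw [← hs, Submodule.span_le]
    intro v hv
    exact Ideal.Quotient.eq_zero_iff_mem.2 (Ideal.subset_span ⟨v, hv, rfl⟩)
  let lam : M →ₗ[R] MvPolynomial (Fin n) R ⧸ I :=
    ((LinearMap.ker π).liftQ _ hI).comp (π.quotKerEquivOfSurjective hπ).symm.toLinearMap
  have hlam : ∀ v, lam (π v) = Ideal.Quotient.mk I (L v) := fun v => by
    show (LinearMap.ker π).liftQ _ hI ((π.quotKerEquivOfSurjective hπ).symm (π v)) = _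
    have e : (π.quotKerEquivOfSurjective hπ).symm (π v) = Submodule.Quotient.mk v := by
      rw [LinearEquiv.symm_apply_eq]; rfl
    rw [e]
    rfl
  let θ : SymmetricAlgebra R M →ₐ[R] MvPolynomial (Fin n) R ⧸ I := lift lam
  have hθ : θ.comp ψ = Ideal.Quotient.mkₐ R I := MvPolynomial.algHom_ext fun i => by
    show θ (ψ (MvPolynomial.X i)) = _
    rw [show ψ (MvPolynomial.X i) = ι R M (π (Pi.single i 1)) from MvPolynomial.aeval_X _ i]
    show lift lam (ι R M _) = _
    rw [lift_ι_apply, hlam]
    simp [L, Fintype.linearCombination_apply_single]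
  have hsurj : Function.Surjective ψ := fun a => by
    induction a using SymmetricAlgebra.induction with
    | algebraMap r => exact ⟨algebraMap R _ r, ψ.commutes r⟩
    | ι x => obtain ⟨v, rfl⟩ := hπ x; exact ⟨L v, hψL v⟩
    | mul a b ha hb =>
      obtain ⟨a', rfl⟩ := ha; obtain ⟨b', rfl⟩ := hb
      exact ⟨a' * b', map_mul ψ a' b'⟩
    | add a b ha hb =>
      obtain ⟨a', rfl⟩ := ha; obtain ⟨b', rfl⟩ := hb
      exact ⟨a' + b', map_add ψ a' b'⟩
  refine Algebra.FinitePresentation.of_surjective hsurj ?_
  have hk : RingHom.ker ψ.toRingHom = I := by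
    refine le_antisymm (fun x hx => Ideal.Quotient.eq_zero_iff_mem.1 ?_) (Ideal.span_le.2 ?_)
    · have := DFunLike.congr_fun hθ x
      rw [show (Ideal.Quotient.mk I) x = Ideal.Quotient.mkₐ R I x from rfl, ← this, AlgHom.comp_apply,
        show ψ x = 0 from hx, map_zero]
    · rintro _ ⟨v, hv, rfl⟩
      show ψ (L v) = 0
      rw [hψL, show π v = 0 from LinearMap.mem_ker.1 (hs ▸ Submodule.subset_span hv), map_zero]
  rw [hk]
  exact ⟨s.image L, by rw [Finset.coe_image]⟩

/-- base change of symmetric algebras is a pushout -/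
theorem isPushout {R R' : Type u} [CommRing R] [CommRing R'] (φ : R →+* R') {M M' : Type u}
    [AddCommGroup M] [Module R M] [AddCommGroup M'] [Module R' M'] (t : M →+ M')
    (ht : ∀ r m, t (r • m) = φ r • t m)
    (hex : ∀ (C : Type u) [CommRing C] (ψ : R' →+* C) (b : M →+ C), (∀ r m, b (r • m) = ψ (φ r) * b m) →
      ∃ l : M' →+ C, (∀ r m', l (r • m') = ψ r * l m') ∧ ∀ m, l (t m) = b m)
    (huniq : ∀ (C : Type u) [CommRing C] (ψ : R' →+* C) (l l' : M' →+ C), (∀ r m', l (r • m') = ψ r * l m') →
      (∀ r m', l' (r • m') = ψ r * l' m') → (∀ m, l (t m) = l' (t m)) → l = l') :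
    IsPushout (CommRingCat.ofHom φ) (CommRingCat.ofHom (algebraMap R (SymmetricAlgebra R M)))
      (CommRingCat.ofHom (algebraMap R' (SymmetricAlgebra R' M')))
      (CommRingCat.ofHom (desc (C := SymmetricAlgebra R' M') ((algebraMap R' _).comp φ) ((ι R' M').toAddMonoidHom.comp t)
        (fun r m => by
          show ι R' M' (t (r • m)) = algebraMap R' _ (φ r) * ι R' M' (t m)
          rw [ht, map_smul, Algebra.smul_def]))) := by
  refine ⟨⟨?_⟩, ⟨PushoutCocone.IsColimit.mk _ (fun s => ?_) (fun s => ?_) (fun s => ?_) fun s m h1 h2 => ?_⟩⟩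
  · ext r
    exact (desc_algebraMap _ _ _ r).symm
  all_goals
    have hc : ∀ r, s.inl.hom (φ r) = s.inr.hom (algebraMap R (SymmetricAlgebra R M) r) := fun r =>
      ConcreteCategory.congr_hom s.condition r
    have hb : ∀ (r : R) (m : M), s.inr.hom.toAddMonoidHom.comp (ι R M).toAddMonoidHom (r • m) =
        s.inl.hom (φ r) * s.inr.hom.toAddMonoidHom.comp (ι R M).toAddMonoidHom m := fun r m => by
      show s.inr.hom (ι R M (r • m)) = s.inl.hom (φ r) * s.inr.hom (ι R M m)
      rw [map_smul, Algebra.smul_def, map_mul, hc]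
    have hl := hex s.pt s.inl.hom (s.inr.hom.toAddMonoidHom.comp (ι R M).toAddMonoidHom) hb
  · exact CommRingCat.ofHom (desc s.inl.hom hl.choose hl.choose_spec.1)
  · ext r
    exact desc_algebraMap _ _ _ r
  · refine CommRingCat.hom_ext (ringHom_ext (fun r => ?_) fun m => ?_)
    · show desc s.inl.hom hl.choose hl.choose_spec.1 (desc _ _ _ (algebraMap R _ r)) = _
      rw [desc_algebraMap, RingHom.comp_apply, desc_algebraMap]
      exact hc r
    · show desc s.inl.hom hl.choose hl.choose_spec.1 (desc _ _ _ (ι R M m)) = _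
      rw [desc_ι]
      exact (desc_ι _ _ _ _).trans (hl.choose_spec.2 m)
  · refine CommRingCat.hom_ext (ringHom_ext (fun r => ?_) fun m' => ?_)
    · refine Eq.trans ?_ (desc_algebraMap _ _ _ r).symm
      exact ConcreteCategory.congr_hom h1 r
    · refine Eq.trans ?_ (desc_ι _ _ _ m').symm
      refine DFunLike.congr_fun (huniq _ s.inl.hom (m.hom.toAddMonoidHom.comp (ι R' M').toAddMonoidHom) hl.choose
        (fun r x => ?_) hl.choose_spec.1 fun x => ?_) m'
      · show m.hom (ι R' M' (r • x)) = s.inl.hom r * m.hom (ι R' M' x)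
        rw [map_smul, Algebra.smul_def, map_mul]
        exact congrArg (· * m.hom (ι R' M' x)) (ConcreteCategory.congr_hom h1 r)
      · refine Eq.trans ?_ (hl.choose_spec.2 x).symm
        show m.hom (ι R' M' (t x)) = s.inr.hom (ι R M x)
        rw [← ConcreteCategory.congr_hom h2 (ι R M x)]
        exact congrArg m.hom (desc_ι ((algebraMap R' (SymmetricAlgebra R' M')).comp φ) ((ι R' M').toAddMonoidHom.comp t) (fun r x => by
          show ι R' M' (t (r • x)) = algebraMap R' _ (φ r) * ι R' M' (t x)
          rw [ht, map_smul, Algebra.smul_def]) x).symm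

end Groth.Agent.AlgSpLib.SymRing
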