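import Mathlib.RingTheory.Flat.EquationalCriterion
import Mathlib.RingTheory.RingHom.Flat
import Mathlib.Tactic.LinearCombination
import Mathlib.Tactic.Ring
import Mathlib.RingTheory.Flat.FaithfullyFlat.Basic
import Mathlib.RingTheory.Finiteness.Projective
import Mathlib.RingTheory.TensorProduct.Maps
import Mathlib.Algebra.Category.Ring.Constructions

/-!
Commutative algebra for thickenings of affine algebraic spaces: lifting invariant functions, and
invariant ideals of contents.
-/

universe u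

open CategoryTheory TensorProduct

noncomputable section

namespace Groth.Agent.AlgSpLib.ThickAlg

variable {B C : Type u} [CommRing B] [CommRing C]

theorem mem_map_exists_sum {f : B →+* C} {I : Ideal B} {z : C} (h : z ∈ I.map f) :
    ∃ (n : ℕ) (x : Fin n → B) (c : Fin n → C), (∀ i, x i ∈ I) ∧ z = ∑ i, f (x i) * c i := by
  rw [Ideal.map, ← Ideal.submodule_span_eq, Submodule.mem_span_set'] at h
  obtain ⟨n, c, g, rfl⟩ := h
  choose x hx hfx using fun i => (g i).2
  exact ⟨n, x, c, hx, Finset.sum_congr rfl fun i _ => by rw [hfx, smul_eq_mul, mul_comm]⟩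

theorem map_colon_le_of_flat {f : B →+* C} (hf : f.Flat) (I : Ideal B) (a : B) {z : C}
    (h : z * f a ∈ I.map f) : z ∈ Ideal.map f (Submodule.comap (LinearMap.mulLeft B a) I) := by
  algebraize [f]
  obtain ⟨n, x, c, hx, hz⟩ := mem_map_exists_sum h
  have key : ∑ i : Option (Fin n), (Option.elim i a fun i => - x i) • (Option.elim i z c) = (0 : C) := by
    simp only [Fintype.sum_option, Option.elim_none, Option.elim_some, Algebra.smul_def, RingHom.algebraMap_toAlgebra,
      map_neg, neg_mul, Finset.sum_neg_distrib]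
    rw [mul_comm, hz]
    exact add_neg_cancel _
  obtain ⟨κ, l, w, hy, hl⟩ := Module.Flat.isTrivialRelation_of_sum_smul_eq_zero key
  rw [show z = ∑ j, l none j • w j from hy none]
  refine Submodule.sum_mem _ fun j _ => ?_
  rw [Algebra.smul_def]
  refine Ideal.mul_mem_right _ _ (Ideal.mem_map_of_mem _ ?_)
  show a * l none j ∈ I
  have := hl j
  simp only [Fintype.sum_option, Option.elim_none, Option.elim_some, neg_mul, Finset.sum_neg_distrib,
    add_neg_eq_zero] at this
  rw [this]
  exact Submodule.sum_mem _ fun i _ => Ideal.mul_mem_right _ _ (hx i)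

theorem map_inf_of_flat {f : B →+* C} (hf : f.Flat) (I J : Ideal B) :
    (I ⊓ J).map f = I.map f ⊓ J.map f := by
  refine le_antisymm (Ideal.map_inf_le f) fun z hz => ?_
  algebraize [f]
  obtain ⟨n, x, c, hx, hzx⟩ := mem_map_exists_sum hz.1
  obtain ⟨m, y, d, hy, hzy⟩ := mem_map_exists_sum hz.2
  have key : ∑ i : Fin n ⊕ Fin m, (Sum.elim x (fun k => - y k) i) • (Sum.elim c d i) = (0 : C) := by
    simp only [Fintype.sum_sum_type, Sum.elim_inl, Sum.elim_inr, Algebra.smul_def, RingHom.algebraMap_toAlgebra,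
      map_neg, neg_mul, Finset.sum_neg_distrib]
    rw [← hzx, ← hzy]
    exact add_neg_cancel _
  obtain ⟨κ, l, w, hw, hl⟩ := Module.Flat.isTrivialRelation_of_sum_smul_eq_zero key
  have e : z = ∑ j, f (∑ i, x i * l (Sum.inl i) j) * w j := by
    rw [hzx]
    have : ∀ i, c i = ∑ j, l (Sum.inl i) j • w j := fun i => hw (Sum.inl i)
    simp only [this, Finset.mul_sum, map_sum, Finset.sum_mul, map_mul, Algebra.smul_def,
      RingHom.algebraMap_toAlgebra, ← mul_assoc]
    exact Finset.sum_comm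
  rw [e]
  refine Submodule.sum_mem _ fun j _ => Ideal.mul_mem_right _ _ (Ideal.mem_map_of_mem _ ⟨?_, ?_⟩)
  · exact Submodule.sum_mem _ fun i _ => Ideal.mul_mem_right _ _ (hx i)
  · have := hl j
    simp only [Fintype.sum_sum_type, Sum.elim_inl, Sum.elim_inr, neg_mul, Finset.sum_neg_distrib,
      add_neg_eq_zero] at this
    rw [this]
    exact Submodule.sum_mem _ fun i _ => Ideal.mul_mem_right _ _ (hy i)

/-- the square-zero ideal tensored with the base change is the square-zero ideal upstairs -/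
theorem exists_ideal_tensor_equiv {f : B →+* C} (hf : f.Flat) (I : Ideal B) {A₀ B₁ B₀ : Type u} [CommRing A₀]
    [CommRing B₁] [CommRing B₀] [Algebra A₀ B₁] [Algebra A₀ B₀] (q : B →+* B₁) (hq : Function.Surjective q)
    (hker : RingHom.ker q = I) (r : C →+* B₁ ⊗[A₀] B₀) (hr : Function.Surjective r)
    (hrker : RingHom.ker r = I.map f) (hrq : r.comp f = Algebra.TensorProduct.includeLeftRingHom.comp q)
    [Module A₀ I] (hmod : ∀ (a : A₀) (b : B) (k : I), q b = algebraMap A₀ B₁ a → ((a • k : I) : B) = b * k)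
    (hI : ∀ x ∈ I, ∀ y ∈ I, x * y = 0) :
    ∃ Λ : I ⊗[A₀] B₀ →+ C, Function.Injective Λ ∧ (∀ z ∈ I.map f, ∃ w, Λ w = z) ∧ (∀ w, Λ w ∈ I.map f) ∧
      ∀ (k : I) (y : B₀) (c : C), r c = 1 ⊗ₜ y → Λ (k ⊗ₜ y) = f k * c := by
  algebraize [f]
  choose σ hσ using fun y : B₀ => hr (1 ⊗ₜ y)
  have hI2 : ∀ (k : I) (z : C), z ∈ I.map f → f k * z = 0 := fun k z hz => by
    obtain ⟨n, x, c, hx, rfl⟩ := mem_map_exists_sum hz
    rw [Finset.mul_sum]
    exact Finset.sum_eq_zero fun i _ => by rw [← mul_assoc, ← map_mul, hI _ k.2 _ (hx i), map_zero, zero_mul]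
  have hind : ∀ (k : I) (c c' : C), r c = r c' → k ⊗ₜ[B] c = k ⊗ₜ[B] c' := fun k c c' h => by
    have hm : c - c' ∈ I.map f := by rw [← hrker, RingHom.mem_ker, map_sub, h, sub_self]
    obtain ⟨n, x, d, hx, hd⟩ := mem_map_exists_sum hm
    rw [← sub_eq_zero, ← TensorProduct.tmul_sub, hd, TensorProduct.tmul_sum]
    refine Finset.sum_eq_zero fun i _ => ?_
    rw [← RingHom.algebraMap_toAlgebra f, ← Algebra.smul_def, ← TensorProduct.smul_tmul,
      show x i • k = 0 from Subtype.ext (hI _ (hx i) _ k.2), TensorProduct.zero_tmul]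
  let Λ' : I ⊗[A₀] B₀ →+ I ⊗[B] C := TensorProduct.liftAddHom
    (AddMonoidHom.mk' (fun k : I => AddMonoidHom.mk' (fun y => k ⊗ₜ[B] σ y) fun y y' => by
        rw [← TensorProduct.tmul_add]
        exact hind _ _ _ (by rw [map_add, hσ, hσ, hσ, TensorProduct.tmul_add]))
      fun k k' => by ext y; exact TensorProduct.add_tmul k k' (σ y))
    fun a k y => by
      obtain ⟨b, hb⟩ := hq (algebraMap A₀ B₁ a)
      show (a • k) ⊗ₜ[B] σ y = k ⊗ₜ[B] σ (a • y)
      rw [show a • k = b • k from Subtype.ext (hmod a b k hb), TensorProduct.smul_tmul]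
      refine hind _ _ _ ?_
      rw [Algebra.smul_def, map_mul, RingHom.algebraMap_toAlgebra, show r (f b) = q b ⊗ₜ 1 from congr($hrq b),
        hb, hσ, hσ, Algebra.TensorProduct.tmul_mul_tmul, mul_one, one_mul, Algebra.algebraMap_eq_smul_one,
        TensorProduct.smul_tmul]
  let μ : I ⊗[B] C →ₗ[B] C :=
    TensorProduct.lift ((LinearMap.mul B C).comp ((Algebra.linearMap B C).comp I.subtype))
  have hμ : ∀ (k : I) (c : C), μ (k ⊗ₜ c) = f k * c := fun k c => rfl
  have hμinj : Function.Injective μ := by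
    have h1 := Module.Flat.rTensor_preserves_injective_linearMap (M := C) I.subtype I.injective_subtype
    have e : μ = (TensorProduct.lid B C).toLinearMap.comp (LinearMap.rTensor C I.subtype) := by
      refine TensorProduct.ext' fun k c => ?_
      rw [hμ]
      simp [Algebra.smul_def, RingHom.algebraMap_toAlgebra]
    rw [e]
    exact (TensorProduct.lid B C).injective.comp h1
  have hq' := hq
  choose lq hlq using hq'
  have hbk : ∀ (b b' : B) (k : I), q b = q b' → b • k = b' • k := fun b b' k h => by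
    rw [← sub_eq_zero, ← sub_smul]
    refine Subtype.ext (hI _ ?_ _ k.2)
    rw [← hker, RingHom.mem_ker, map_sub, h, sub_self]
  let act : I → (B₁ ⊗[A₀] B₀ →+ I ⊗[A₀] B₀) := fun k => TensorProduct.liftAddHom
    (AddMonoidHom.mk' (fun x : B₁ => AddMonoidHom.mk' (fun y : B₀ => (lq x • k) ⊗ₜ[A₀] y)
        fun y y' => TensorProduct.tmul_add _ y y') fun x x' => by
      ext y
      show _ ⊗ₜ[A₀] y = _ ⊗ₜ[A₀] y + _ ⊗ₜ[A₀] y
      rw [← TensorProduct.add_tmul, ← add_smul, hbk _ (lq x + lq x') k (by rw [map_add, hlq, hlq, hlq])])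
    fun a x y => by
      show _ ⊗ₜ[A₀] y = _ ⊗ₜ[A₀] (a • y)
      rw [← TensorProduct.smul_tmul]
      congr 1
      rw [show a • (lq x • k) = (lq (algebraMap A₀ B₁ a) * lq x) • k from Subtype.ext (by
        rw [hmod a (lq (algebraMap A₀ B₁ a)) _ (hlq _)]; exact (mul_assoc _ _ _).symm)]
      exact hbk _ _ _ (by rw [map_mul, hlq, hlq, hlq, Algebra.smul_def])
  have hact : ∀ (k : I) (b : B) (y : B₀), act k (q b ⊗ₜ y) = (b • k) ⊗ₜ y := fun k b y => by
    show (lq (q b) • k) ⊗ₜ[A₀] y = _
    rw [hbk _ b k (hlq _)]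
  have hactsmul : ∀ (b : B) (k : I) (u : B₁ ⊗[A₀] B₀), act (b • k) u = act k ((q b ⊗ₜ 1) * u) := fun b k u => by
    induction u using TensorProduct.induction_on with
    | zero => rw [mul_zero, map_zero, map_zero]
    | tmul x y =>
      rw [← hlq x, Algebra.TensorProduct.tmul_mul_tmul, ← map_mul, one_mul, hact, hact, mul_comm, mul_smul]
    | add u v hu hv => rw [mul_add, map_add, map_add, hu, hv]
  have hactadd : ∀ (k k' : I) (u : B₁ ⊗[A₀] B₀), act (k + k') u = act k u + act k' u := fun k k' u => by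
    induction u using TensorProduct.induction_on with
    | zero => simp only [map_zero, add_zero]
    | tmul x y => rw [← hlq x, hact, hact, hact, smul_add, TensorProduct.add_tmul]
    | add u v hu hv => rw [map_add, map_add, map_add, hu, hv, add_add_add_comm]
  let G : I ⊗[B] C →+ I ⊗[A₀] B₀ := TensorProduct.liftAddHom
    (AddMonoidHom.mk' (fun k : I => (act k).comp r.toAddMonoidHom)
      fun k k' => AddMonoidHom.ext fun c => hactadd k k' (r c))
    fun b k c => by
      show act (b • k) (r c) = act k (r (b • c))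
      rw [Algebra.smul_def, RingHom.algebraMap_toAlgebra, map_mul, show r (f b) = q b ⊗ₜ 1 from congr($hrq b),
        hactsmul]
  have hGΛ : ∀ w, G (Λ' w) = w := fun w => by
    induction w using TensorProduct.induction_on with
    | zero => simp
    | tmul k y =>
      show act k (r (σ y)) = _
      rw [hσ, ← map_one q, hact, one_smul]
    | add u v hu hv => simp only [map_add, hu, hv]
  refine ⟨μ.toAddMonoidHom.comp Λ', hμinj.comp (Function.LeftInverse.injective hGΛ), fun z hz => ?_, fun w => ?_,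
    fun k y c hc => ?_⟩
  · obtain ⟨n, x, c, hx, rfl⟩ := mem_map_exists_sum hz
    refine ⟨∑ i, G (⟨x i, hx i⟩ ⊗ₜ[B] c i), ?_⟩
    rw [map_sum]
    refine Finset.sum_congr rfl fun i _ => ?_
    show μ (Λ' (act ⟨x i, hx i⟩ (r (c i)))) = _
    rw [← hμ ⟨x i, hx i⟩ (c i)]
    congr 1
    suffices ∀ (u : B₁ ⊗[A₀] B₀) (c : C), r c = u → Λ' (act ⟨x i, hx i⟩ u) = ⟨x i, hx i⟩ ⊗ₜ[B] c from
      this _ _ rfl
    intro u
    induction u using TensorProduct.induction_on with
    | zero =>
      intro c hc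
      rw [map_zero, map_zero, hind _ c 0 (by rw [hc, map_zero]), TensorProduct.tmul_zero]
    | tmul a y =>
      intro c hc
      show (lq a • (⟨x i, hx i⟩ : I)) ⊗ₜ[B] σ y = _
      rw [TensorProduct.smul_tmul]
      refine hind _ _ _ ?_
      rw [hc, Algebra.smul_def, RingHom.algebraMap_toAlgebra, map_mul,
        show r (f (lq a)) = q (lq a) ⊗ₜ 1 from congr($hrq _), hlq, hσ,
        Algebra.TensorProduct.tmul_mul_tmul, mul_one, one_mul]
    | add u v hu hv =>
      intro c hc
      obtain ⟨cu, rfl⟩ := hr u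
      rw [map_add, map_add, hu cu rfl, hv (c - cu) (by rw [map_sub, hc]; abel), ← TensorProduct.tmul_add,
        add_sub_cancel]
  · induction w using TensorProduct.induction_on with
    | zero => simp
    | tmul k y => exact Ideal.mul_mem_right _ _ (Ideal.mem_map_of_mem f k.2)
    | add u v hu hv => rw [map_add]; exact Ideal.add_mem _ hu hv
  · show μ (k ⊗ₜ[B] σ y) = _
    rw [hind k (σ y) c (by rw [hσ, hc]), hμ]

theorem sq_zero_map (f : B →+* C) {I : Ideal B} (hI : ∀ x ∈ I, ∀ y ∈ I, x * y = 0) :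
    ∀ x ∈ I.map f, ∀ y ∈ I.map f, x * y = 0 := fun x hx y hy => by
  have h2 : I * I = ⊥ := le_bot_iff.1 (Ideal.mul_le.2 fun a ha b hb => by rw [Ideal.mem_bot]; exact hI a ha b hb)
  have := Ideal.mul_mem_mul hx hy
  rwa [← Ideal.map_mul, h2, Ideal.map_bot, Ideal.mem_bot] at this

/-- an element of a module lies in the range of a linear map if it does after a faithfully flat base change -/
theorem mem_range_of_faithfullyFlat {A₀ B₀ M N : Type u} [CommRing A₀] [CommRing B₀] [Algebra A₀ B₀]
    [Module.FaithfullyFlat A₀ B₀] [AddCommGroup M] [AddCommGroup N] [Module A₀ M] [Module A₀ N]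
    (Φ : M →ₗ[A₀] N) (x : N) (h : x ⊗ₜ[A₀] (1 : B₀) ∈ LinearMap.range (Φ.rTensor B₀)) :
    x ∈ LinearMap.range Φ := by
  obtain ⟨w, hw⟩ := h
  rw [← Submodule.Quotient.mk_eq_zero, ← Module.FaithfullyFlat.one_tmul_eq_zero_iff (R := A₀) (A := B₀) (M := N ⧸ LinearMap.range Φ)]
  have : (LinearMap.range Φ).mkQ.rTensor B₀ (x ⊗ₜ[A₀] (1 : B₀)) = 0 := by
    rw [← hw, ← LinearMap.rTensor_comp_apply, LinearMap.range_mkQ_comp, LinearMap.rTensor_zero, LinearMap.zero_apply]
  rw [LinearMap.rTensor_tmul] at this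
  exact (TensorProduct.comm A₀ _ _).injective (by rw [TensorProduct.comm_tmul, map_zero]; exact this)

/-- functions invariant modulo a square zero ideal lift to invariant functions -/
theorem exists_lift_invariant {C₃ : Type u} [CommRing C₃] {t s : B →+* C} (ht : t.Flat) {p₁ p₂ m : C →+* C₃}
    (hp₁ : p₁.Flat) (e1 : p₁.comp t = m.comp t) (e2 : p₁.comp s = p₂.comp t) (e3 : p₂.comp s = m.comp s)
    (I : Ideal B) (hI : ∀ x ∈ I, ∀ y ∈ I, x * y = 0) {A₀ B₀ : Type u} [CommRing A₀] [CommRing B₀] [Algebra A₀ B₀]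
    [Module.FaithfullyFlat A₀ B₀] (q : B →+* B₀) (hq : Function.Surjective q) (hker : RingHom.ker q = I)
    (r : C →+* B₀ ⊗[A₀] B₀) (hr : Function.Surjective r) (hrker : RingHom.ker r = I.map t)
    (hrt : r.comp t = Algebra.TensorProduct.includeLeftRingHom.comp q)
    (hrs : r.comp s = (Algebra.TensorProduct.includeRight : B₀ →ₐ[A₀] B₀ ⊗[A₀] B₀).toRingHom.comp q)
    (r₃ : C₃ →+* (B₀ ⊗[A₀] B₀) ⊗[A₀] B₀) (hr₃ : Function.Surjective r₃)
    (hr₃ker : RingHom.ker r₃ = (I.map t).map p₁)
    (hr₃1 : r₃.comp p₁ = Algebra.TensorProduct.includeLeftRingHom.comp r)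
    (hr₃2 : r₃.comp (p₂.comp s) =
      (Algebra.TensorProduct.includeRight : B₀ →ₐ[A₀] (B₀ ⊗[A₀] B₀) ⊗[A₀] B₀).toRingHom.comp q)
    (a : A₀) : ∃ b : B, q b = algebraMap A₀ B₀ a ∧ t b = s b := by
  choose lift hlift using fun a : A₀ => hq (algebraMap A₀ B₀ a)
  have hkill : ∀ (b b' : B), q b = q b' → ∀ k ∈ I, b * k = b' * k := fun b b' h k hk => by
    rw [← sub_eq_zero, ← sub_mul]
    exact hI _ (by rw [← hker, RingHom.mem_ker, map_sub, h, sub_self]) _ hk
  let φ : A₀ →+* Module.End B I :=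
    { toFun := fun a => lift a • LinearMap.id
      map_one' := LinearMap.ext fun k => Subtype.ext ((hkill (lift 1) 1 (by rw [hlift, map_one, map_one]) _ k.2).trans (one_mul _))
      map_mul' := fun a a' => LinearMap.ext fun k => Subtype.ext ((hkill _ (lift a * lift a')
        (by rw [hlift, map_mul, map_mul, hlift, hlift]) _ k.2).trans (mul_assoc _ _ _))
      map_zero' := LinearMap.ext fun k => Subtype.ext ((hkill (lift 0) 0 (by rw [hlift, map_zero, map_zero]) _ k.2).trans (zero_mul _))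
      map_add' := fun a a' => LinearMap.ext fun k => Subtype.ext ((hkill _ (lift a + lift a')
        (by rw [hlift, map_add, map_add, hlift, hlift]) _ k.2).trans (add_mul _ _ _)) }
  letI : Module A₀ I := Module.compHom I φ
  have hmod : ∀ (a : A₀) (b : B) (k : I), q b = algebraMap A₀ B₀ a → ((a • k : I) : B) = b * k :=
    fun a b k hb => hkill (lift a) b (by rw [hlift, hb]) _ k.2
  have hrt' : ∀ b, r (t b) = q b ⊗ₜ 1 := fun b => congr($hrt b)
  have hrs' : ∀ b, r (s b) = 1 ⊗ₜ q b := fun b => congr($hrs b)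
  have hJ2 := sq_zero_map t hI
  have hkillC : ∀ c c' : C, r c = r c' → ∀ z ∈ I.map t, c * z = c' * z := fun c c' h z hz => by
    rw [← sub_eq_zero, ← sub_mul]
    exact hJ2 _ (by rw [← hrker, RingHom.mem_ker, map_sub, h, sub_self]) _ hz
  let φC : A₀ →+* Module.End C (I.map t : Ideal C) :=
    { toFun := fun a => t (lift a) • LinearMap.id
      map_one' := LinearMap.ext fun k => Subtype.ext ((hkillC _ 1 (by
        rw [hrt', hlift, map_one, map_one]; rfl) _ k.2).trans (one_mul _))
      map_mul' := fun a a' => LinearMap.ext fun k => Subtype.ext ((hkillC _ (t (lift a) * t (lift a')) (by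
        rw [← map_mul t, hrt', hrt', hlift, map_mul, map_mul, hlift, hlift]) _ k.2).trans (mul_assoc _ _ _))
      map_zero' := LinearMap.ext fun k => Subtype.ext ((hkillC _ 0 (by
        rw [hrt', hlift, map_zero, map_zero, TensorProduct.zero_tmul]) _ k.2).trans (zero_mul _))
      map_add' := fun a a' => LinearMap.ext fun k => Subtype.ext ((hkillC _ (t (lift a) + t (lift a')) (by
        rw [← map_add t, hrt', hrt', hlift, map_add, map_add, hlift, hlift]) _ k.2).trans (add_mul _ _ _)) }
  letI : Module A₀ (I.map t : Ideal C) := Module.compHom _ φC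
  have hmodC : ∀ (a : A₀) (c : C) (k : (I.map t : Ideal C)), r c = algebraMap A₀ (B₀ ⊗[A₀] B₀) a →
      ((a • k : (I.map t : Ideal C)) : C) = c * k := fun a c k hc => hkillC (t (lift a)) c (by
    rw [hrt', hlift, hc]; rfl) _ k.2
  obtain ⟨Λ, hΛi, hΛs, hΛr, hΛ⟩ := exists_ideal_tensor_equiv (A₀ := A₀) ht I q hq hker r hr hrker hrt hmod hI
  obtain ⟨Ψ, hΨi, -, -, hΨ⟩ := exists_ideal_tensor_equiv (A₀ := A₀) hp₁ (I.map t) r hr hrker r₃ hr₃ hr₃ker hr₃1
    hmodC hJ2
  have hs_mem : ∀ k : I, s k ∈ I.map t := fun k => by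
    rw [← hrker, RingHom.mem_ker, hrs', show q k = 0 by rw [← RingHom.mem_ker, hker]; exact k.2,
      TensorProduct.tmul_zero]
  let Φ : I →ₗ[A₀] (I.map t : Ideal C) :=
    { toFun := fun k => ⟨t k - s k, Ideal.sub_mem _ (Ideal.mem_map_of_mem _ k.2) (hs_mem k)⟩
      map_add' := fun k k' => Subtype.ext (by simp only [Submodule.coe_add, map_add]; ring)
      map_smul' := fun a k => Subtype.ext (by
        show t ((a • k : I) : B) - s ((a • k : I) : B) = _
        rw [RingHom.id_apply, hmod a (lift a) k (hlift a), hmodC a (t (lift a)) _ (by rw [hrt', hlift]; rfl)]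
        show _ = t (lift a) * (t (k : B) - s k)
        rw [map_mul, map_mul, mul_sub, hkillC (s (lift a)) (t (lift a)) (by
          rw [hrt', hrs', hlift, Algebra.algebraMap_eq_smul_one, TensorProduct.smul_tmul]) _ (hs_mem k)]) }
  obtain ⟨b, hb⟩ := hq (algebraMap A₀ B₀ a)
  have hδ : t b - s b ∈ I.map t := by
    rw [← hrker, RingHom.mem_ker, map_sub, hrt', hrs', hb, Algebra.algebraMap_eq_smul_one,
      TensorProduct.smul_tmul, sub_self]
  obtain ⟨w, hw⟩ := hΛs _ hδ
  have key : ∀ w : I ⊗[A₀] B₀, Ψ (Φ.rTensor B₀ w) = m (Λ w) - p₂ (Λ w) := fun w => by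
    induction w using TensorProduct.induction_on with
    | zero => simp
    | tmul k y =>
      obtain ⟨c, rfl⟩ := hq y
      rw [LinearMap.rTensor_tmul, hΛ k (q c) (s c) (hrs' c), hΨ _ (q c) (p₂ (s c)) (congr($hr₃2 c))]
      show p₁ (t k - s k) * _ = _
      rw [map_sub, show p₁ (t (k : B)) = m (t k) from congr($e1 _), show p₁ (s (k : B)) = p₂ (t k) from congr($e2 _),
        map_mul, map_mul, show m (s c) = p₂ (s c) from (congr($e3 c)).symm, sub_mul]
    | add u v hu hv => simp only [map_add, hu, hv]; abel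
  have hone : Ψ ((⟨_, hδ⟩ : (I.map t : Ideal C)) ⊗ₜ[A₀] (1 : B₀)) = p₁ (t b - s b) := by
    rw [hΨ _ 1 1 (by rw [map_one]; rfl), mul_one]
  have heq : Φ.rTensor B₀ w = (⟨_, hδ⟩ : (I.map t : Ideal C)) ⊗ₜ[A₀] (1 : B₀) := hΨi (by
    rw [key, hw, hone, map_sub, map_sub, map_sub, show m (t b) = p₁ (t b) from (congr($e1 b)).symm,
      show m (s b) = p₂ (s b) from (congr($e3 b)).symm, show p₂ (t b) = p₁ (s b) from (congr($e2 b)).symm]
    ring)
  obtain ⟨k, hk⟩ := mem_range_of_faithfullyFlat Φ _ ⟨w, heq⟩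
  have hk' : t (k : B) - s k = t b - s b := congrArg Subtype.val hk
  refine ⟨b - k, ?_, ?_⟩
  · rw [map_sub, hb, show q (k : B) = 0 by rw [← RingHom.mem_ker, hker]; exact k.2, sub_zero]
  · rw [map_sub, map_sub]
    linear_combination -hk'

/-- the content of an element along a finite projective part of the relation is an invariant ideal -/
theorem exists_content {C₃ : Type u} [CommRing C₃] {t s : B →+* C} (ht : t.Flat) {p₁ p₂ m : C →+* C₃}
    (e1 : p₁.comp t = m.comp t) (e3 : p₂.comp s = m.comp s)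
    (hpush : IsPushout (CommRingCat.ofHom s) (CommRingCat.ofHom t) (CommRingCat.ofHom p₁) (CommRingCat.ofHom p₂))
    (e : C →+* B) (het : e.comp t = RingHom.id B) (hes : e.comp s = RingHom.id B)
    (σ : C →+* C) (hσ : σ.comp t = s) (hσ' : σ.comp s = t)
    {Bq Cq : Type u} [CommRing Bq] [CommRing Cq] [Algebra Bq Cq] [Module.Finite Bq Cq] [Module.Projective Bq Cq]
    (qB : B →+* Bq) (hqB : Function.Surjective qB) (qC : C →+* Cq) (hqC : Function.Surjective qC)
    (hqCker : RingHom.ker qC = (RingHom.ker qB).map t) (hqt : qC.comp t = (algebraMap Bq Cq).comp qB)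
    (M : Ideal B) (hM : ∀ z ∈ M, ∀ a ∈ RingHom.ker qB, a * z = 0) (y : B) (hy : s y ∈ M.map t) :
    ∃ K : Ideal B, K.FG ∧ K ≤ M ∧ y ∈ K ∧ K.map t = K.map s := by
  let algs : Algebra B C := t.toAlgebra
  obtain ⟨n, F, G, -, -, hFG⟩ := Module.Finite.exists_comp_eq_id_of_projective Bq Cq
  choose cc hcc using fun i => hqC (F (Pi.single i 1))
  -- coordinate functions
  let φ : Fin n → C → B := fun i c => (hqB (G (qC c) i)).choose
  have hφ : ∀ i c, qB (φ i c) = G (qC c) i := fun i c => (hqB (G (qC c) i)).choose_spec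
  have hφsum : ∀ c, ∃ d ∈ (RingHom.ker qB).map t, c = ∑ i, t (φ i c) * cc i + d := fun c => by
    refine ⟨c - ∑ i, t (φ i c) * cc i, ?_, by ring⟩
    rw [← hqCker, RingHom.mem_ker, map_sub, map_sum, sub_eq_zero]
    conv_lhs => rw [show qC c = F (G (qC c)) from (congr($hFG (qC c))).symm, pi_eq_sum_univ' (G (qC c)), map_sum]
    refine Finset.sum_congr rfl fun i _ => ?_
    rw [map_smul, map_mul, show qC (t (φ i c)) = algebraMap Bq Cq (qB (φ i c)) from congr($hqt _), hφ, hcc,
      Algebra.smul_def]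
  have hφadd : ∀ i c c' (z : B), z ∈ M → φ i (c + c') * z = φ i c * z + φ i c' * z := fun i c c' z hz => by
    rw [← sub_eq_zero, ← add_mul, ← sub_mul]
    refine hM z hz _ ?_
    rw [RingHom.mem_ker, map_sub, map_add, hφ, hφ, hφ, map_add, map_add, Pi.add_apply, sub_self]
  have hφmul : ∀ i (b : B) c (z : B), z ∈ M → φ i (t b * c) * z = b * φ i c * z := fun i b c z hz => by
    rw [← sub_eq_zero, ← sub_mul]
    refine hM z hz _ ?_
    rw [RingHom.mem_ker, map_sub, hφ, map_mul qC, map_mul qB, show qC (t b) = algebraMap Bq Cq (qB b) from congr($hqt b),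
      ← Algebra.smul_def, map_smul, Pi.smul_apply, hφ, smul_eq_mul, sub_self]
  obtain ⟨l, z, d, hz, hsum⟩ := mem_map_exists_sum hy
  let x : Fin n → B := fun i => ∑ k, φ i (d k) * z k
  have hxM : ∀ i, x i ∈ M := fun i => Submodule.sum_mem _ fun k _ => Ideal.mul_mem_left _ _ (hz k)
  have hkillC : ∀ w ∈ M, ∀ d ∈ (RingHom.ker qB).map t, t w * d = 0 := fun w hw d hd => by
    obtain ⟨k, a, c, ha, rfl⟩ := mem_map_exists_sum hd
    rw [Finset.mul_sum]
    exact Finset.sum_eq_zero fun i _ => by rw [← mul_assoc, ← map_mul, mul_comm w, hM w hw _ (ha i), map_zero, zero_mul]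
  have hY : s y = ∑ i, t (x i) * cc i := by
    simp only [x, map_sum, Finset.sum_mul]
    rw [Finset.sum_comm, hsum]
    refine Finset.sum_congr rfl fun k _ => ?_
    obtain ⟨dd, hdd, he⟩ := hφsum (d k)
    conv_lhs => rw [he, mul_add, hkillC _ (hz k) _ hdd, add_zero, Finset.mul_sum]
    exact Finset.sum_congr rfl fun i _ => by rw [map_mul]; ring
  let K : Ideal B := Ideal.span (Set.range x)
  have hKM : K ≤ M := Ideal.span_le.2 (Set.range_subset_iff.2 hxM)
  have hyK : y ∈ K := by
    have : y = ∑ i, x i * e (cc i) := by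
      rw [show y = e (s y) from (congr($hes y)).symm, hY, map_sum]
      exact Finset.sum_congr rfl fun i _ => by rw [map_mul, show e (t (x i)) = x i from congr($het _)]
    rw [this]
    exact Submodule.sum_mem _ fun i _ => Ideal.mul_mem_right _ _ (Ideal.subset_span ⟨i, rfl⟩)
  refine ⟨K, Submodule.fg_span (Set.finite_range x), hKM, hyK, ?_⟩
  -- coassociativity
  have hco : ∑ j, p₁ (s (x j)) * p₂ (cc j) ∈ (K.map t).map p₁ := by
    have h1 : ∑ j, p₁ (s (x j)) * p₂ (cc j) = ∑ j, p₁ (t (x j)) * m (cc j) := by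
      have h := congr($e3 y)
      simp only [RingHom.comp_apply] at h
      rw [hY, map_sum, map_sum] at h
      simp only [map_mul] at h
      have e2 : ∀ b, p₂ (t b) = p₁ (s b) := fun b => congr($(hpush.w).hom b).symm
      simp only [e2, show ∀ b, m (t b) = p₁ (t b) from fun b => (congr($e1 b)).symm] at h
      exact h
    rw [h1]
    exact Submodule.sum_mem _ fun j _ => Ideal.mul_mem_right _ _
      (Ideal.mem_map_of_mem _ (Ideal.mem_map_of_mem _ (Ideal.subset_span ⟨j, rfl⟩)))
  have hsle : K.map s ≤ K.map t := by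
    rw [Ideal.map_span, Ideal.span_le]
    rintro _ ⟨_, ⟨i, rfl⟩, rfl⟩
    show s (x i) ∈ K.map t
    suffices ∀ (P : Type u) [CommRing P] (π : C →+* P), (∀ c ∈ K.map t, π c = 0) → π (s (x i)) = 0 from
      Ideal.Quotient.eq_zero_iff_mem.1 (this _ (Ideal.Quotient.mk (K.map t)) fun c hc =>
        Ideal.Quotient.eq_zero_iff_mem.2 hc)
    intro P _ π hπ
    letI algL : Algebra B P := (π.comp s).toAlgebra
    let L : Submodule B P :=
      { carrier := {u | ∀ a ∈ RingHom.ker qB, π (s a) * u = 0}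
        add_mem' := fun hu hv a ha => by rw [mul_add, hu a ha, hv a ha, add_zero]
        zero_mem' := fun a _ => mul_zero _
        smul_mem' := fun b u hu a ha => by
          rw [Algebra.smul_def, mul_left_comm, hu a ha, mul_zero] }
    have hflat : Module.Flat B C := ht
    have hLinj := Module.Flat.rTensor_preserves_injective_linearMap (M := C) L.subtype L.injective_subtype
    have hxL : ∀ j, π (s (x j)) ∈ L := fun j a ha => by
      rw [← map_mul, ← map_mul, hM _ (hxM j) a ha, map_zero, map_zero]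
    have hzero : ∑ j, π (s (x j)) ⊗ₜ[B] cc j = (0 : P ⊗[B] C) := by
      have hθ : ∃ θ : C₃ →+* P ⊗[B] C, θ.comp p₁ = Algebra.TensorProduct.includeLeftRingHom.comp π ∧
          θ.comp p₂ = (Algebra.TensorProduct.includeRight : C →ₐ[B] P ⊗[B] C).toRingHom := by
        have hw : CommRingCat.ofHom s ≫ CommRingCat.ofHom (Algebra.TensorProduct.includeLeftRingHom.comp π) =
            CommRingCat.ofHom t ≫
              CommRingCat.ofHom (Algebra.TensorProduct.includeRight : C →ₐ[B] P ⊗[B] C).toRingHom := by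
          ext b
          show (π (s b)) ⊗ₜ[B] (1 : C) = (1 : P) ⊗ₜ[B] t b
          rw [← RingHom.algebraMap_toAlgebra t, ← mul_one (π (s b)), Algebra.algebraMap_eq_smul_one,
            ← TensorProduct.smul_tmul, Algebra.smul_def]
          rfl
        exact ⟨(hpush.desc _ _ hw).hom, congrArg CommRingCat.Hom.hom (hpush.inl_desc _ _ hw),
          congrArg CommRingCat.Hom.hom (hpush.inr_desc _ _ hw)⟩
      obtain ⟨θ, h1, h2⟩ := hθ
      have h3 : θ (∑ j, p₁ (s (x j)) * p₂ (cc j)) = 0 := by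
        have hle : (K.map t).map p₁ ≤ RingHom.ker θ := by
          rw [Ideal.map_le_iff_le_comap]
          intro c hc
          show θ (p₁ c) = 0
          rw [show θ (p₁ c) = π c ⊗ₜ[B] (1 : C) from congr($h1 c), hπ c hc,
            TensorProduct.zero_tmul]
        exact hle hco
      rw [map_sum] at h3
      refine Eq.trans (Finset.sum_congr rfl fun j _ => ?_) h3
      rw [map_mul, show θ (p₁ (s (x j))) = π (s (x j)) ⊗ₜ[B] (1 : C) from congr($h1 _),
        show θ (p₂ (cc j)) = (1 : P) ⊗ₜ[B] cc j from congr($h2 _), Algebra.TensorProduct.tmul_mul_tmul, mul_one, one_mul]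
    have hzeroL : ∑ j, (⟨_, hxL j⟩ : L) ⊗ₜ[B] cc j = 0 := hLinj (by
      rw [map_sum, map_zero]
      simpa using hzero)
    let Γ : L ⊗[B] C →+ P := TensorProduct.liftAddHom
      (AddMonoidHom.mk' (fun u : L => AddMonoidHom.mk' (fun c => π (s (φ i c)) * (u : P)) fun c c' => by
          rw [← sub_eq_zero, ← add_mul, ← sub_mul, ← map_add, ← map_add, ← map_sub, ← map_sub]
          refine u.2 _ ?_
          rw [RingHom.mem_ker, map_sub, map_add, hφ, hφ, hφ, map_add, map_add, Pi.add_apply, sub_self])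
        fun u v => by ext c; exact mul_add _ _ _)
      fun b u c => by
        show π (s (φ i c)) * (((b • u : L) : P)) = π (s (φ i (b • c))) * (u : P)
        rw [Submodule.coe_smul, Algebra.smul_def, ← mul_assoc, show algebraMap B P b = π (s b) from rfl,
          ← map_mul π, ← map_mul s, ← sub_eq_zero, ← sub_mul, ← map_sub π, ← map_sub s]
        refine u.2 _ ?_
        rw [RingHom.mem_ker, map_sub, map_mul, hφ, hφ, Algebra.smul_def, RingHom.algebraMap_toAlgebra, map_mul,
          show qC (t b) = algebraMap Bq Cq (qB b) from congr($hqt b), ← Algebra.smul_def, map_smul, Pi.smul_apply,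
          smul_eq_mul, mul_comm, sub_self]
    have h4 : ∑ j, π (s (φ i (cc j))) * π (s (x j)) = 0 := by
      have h5 := congrArg Γ hzeroL
      rw [map_zero, map_sum] at h5
      exact h5
    have h6 : x i = ∑ j, φ i (cc j) * x j := by
      simp only [x, Finset.mul_sum]
      rw [Finset.sum_comm]
      refine Finset.sum_congr rfl fun k _ => ?_
      obtain ⟨dd, hdd, he⟩ := hφsum (d k)
      have h7 : φ i (d k) * z k = φ i (∑ j, t (φ j (d k)) * cc j) * z k := by
        rw [← sub_eq_zero, ← sub_mul]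
        refine hM _ (hz k) _ ?_
        rw [RingHom.mem_ker, map_sub, hφ, hφ, sub_eq_zero]
        conv_lhs => rw [he, map_add, show qC dd = 0 by rw [← RingHom.mem_ker, hqCker]; exact hdd, add_zero]
      rw [h7]
      suffices ∀ S : Finset (Fin n), φ i (∑ j ∈ S, t (φ j (d k)) * cc j) * z k =
          ∑ j ∈ S, φ i (cc j) * (φ j (d k) * z k) from this _
      intro S
      classical
      induction S using Finset.induction_on with
      | empty =>
        rw [Finset.sum_empty, Finset.sum_empty]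
        refine hM _ (hz k) _ ?_
        rw [RingHom.mem_ker, hφ, map_zero, map_zero, Pi.zero_apply]
      | insert a S ha ih =>
        rw [Finset.sum_insert ha, Finset.sum_insert ha, hφadd _ _ _ _ (hz k), ih, hφmul _ _ _ _ (hz k)]
        ring
    rw [h6, map_sum, map_sum]
    refine Eq.trans (Finset.sum_congr rfl fun j _ => ?_) h4
    rw [map_mul, map_mul]
  refine le_antisymm ?_ hsle
  have h8 := Ideal.map_mono (f := σ) hsle
  rwa [Ideal.map_map, Ideal.map_map, hσ, hσ'] at h8

end Groth.Agent.AlgSpLib.ThickAlg
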