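import Groth.Agent.AlgSpLib.ThickAffAlg

/-!
The reduced triple products of a thickened relation.
-/

universe u

open CategoryTheory TensorProduct

noncomputable section

namespace Groth.Agent.AlgSpLib.ThickAlg

theorem exists_triple {B C C₃ : Type u} [CommRing B] [CommRing C] [CommRing C₃] {t s : B →+* C}
    {p₁ p₂ : C →+* C₃}
    (hpush : IsPushout (CommRingCat.ofHom s) (CommRingCat.ofHom t) (CommRingCat.ofHom p₁) (CommRingCat.ofHom p₂))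
    (I : Ideal B) {A₀ B₀ : Type u} [CommRing A₀] [CommRing B₀] [Algebra A₀ B₀] (q : B →+* B₀)
    (hq : Function.Surjective q) (hker : RingHom.ker q = I)
    (r : C →+* B₀ ⊗[A₀] B₀) (hr : Function.Surjective r) (hrker : RingHom.ker r = I.map t)
    (hrt : r.comp t = Algebra.TensorProduct.includeLeftRingHom.comp q)
    (hrs : r.comp s = (Algebra.TensorProduct.includeRight : B₀ →ₐ[A₀] B₀ ⊗[A₀] B₀).toRingHom.comp q) :
    ∃ r₃ : C₃ →+* (B₀ ⊗[A₀] B₀) ⊗[A₀] B₀, Function.Surjective r₃ ∧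
      RingHom.ker r₃ = (I.map t).map p₁ ∧ r₃.comp p₁ = Algebra.TensorProduct.includeLeftRingHom.comp r ∧
      r₃.comp (p₂.comp s) =
        (Algebra.TensorProduct.includeRight : B₀ →ₐ[A₀] (B₀ ⊗[A₀] B₀) ⊗[A₀] B₀).toRingHom.comp q := by
  have hrt' : ∀ b, r (t b) = q b ⊗ₜ 1 := fun b => congr($hrt b)
  have hrs' : ∀ b, r (s b) = 1 ⊗ₜ q b := fun b => congr($hrs b)
  have h12 : ∀ b, p₁ (s b) = p₂ (t b) := fun b => congr($(hpush.w).hom b)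
  let ι : B₀ ⊗[A₀] B₀ →+* (B₀ ⊗[A₀] B₀) ⊗[A₀] B₀ :=
    (Algebra.TensorProduct.map (Algebra.TensorProduct.includeRight : B₀ →ₐ[A₀] B₀ ⊗[A₀] B₀)
      (AlgHom.id A₀ B₀)).toRingHom
  have hι : ∀ x y, ι (x ⊗ₜ y) = (1 ⊗ₜ x) ⊗ₜ y := fun x y => rfl
  have hw : CommRingCat.ofHom s ≫ CommRingCat.ofHom (Algebra.TensorProduct.includeLeftRingHom.comp r) =
      CommRingCat.ofHom t ≫ CommRingCat.ofHom (ι.comp r) := by
    ext b
    show (r (s b)) ⊗ₜ[A₀] (1 : B₀) = ι (r (t b))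
    rw [hrs', hrt', hι]
  let r₃ : C₃ →+* (B₀ ⊗[A₀] B₀) ⊗[A₀] B₀ := (hpush.desc _ _ hw).hom
  have h1 : r₃.comp p₁ = Algebra.TensorProduct.includeLeftRingHom.comp r :=
    congrArg CommRingCat.Hom.hom (hpush.inl_desc _ _ hw)
  have h2 : r₃.comp p₂ = ι.comp r := congrArg CommRingCat.Hom.hom (hpush.inr_desc _ _ hw)
  have h1' : ∀ c, r₃ (p₁ c) = r c ⊗ₜ 1 := fun c => congr($h1 c)
  have h2' : ∀ c, r₃ (p₂ c) = ι (r c) := fun c => congr($h2 c)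
  have h3' : ∀ b, r₃ (p₂ (s b)) = (1 : B₀ ⊗[A₀] B₀) ⊗ₜ q b := fun b => by rw [h2', hrs', hι]; rfl
  refine ⟨r₃, fun u => ?_, ?_, h1, RingHom.ext fun b => h3' b⟩
  · induction u using TensorProduct.induction_on with
    | zero => exact ⟨0, map_zero _⟩
    | tmul x y =>
      obtain ⟨c, rfl⟩ := hr x
      obtain ⟨b, rfl⟩ := hq y
      refine ⟨p₁ c * p₂ (s b), ?_⟩
      rw [map_mul, h1', h3', Algebra.TensorProduct.tmul_mul_tmul, mul_one, one_mul]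
    | add u v hu hv =>
      obtain ⟨a, rfl⟩ := hu
      obtain ⟨b, rfl⟩ := hv
      exact ⟨a + b, map_add _ _ _⟩
  let J : Ideal C₃ := (I.map t).map p₁
  have hle : J ≤ RingHom.ker r₃ := by
    show Ideal.map p₁ _ ≤ _
    rw [Ideal.map_le_iff_le_comap]
    intro c hc
    show r₃ (p₁ c) = 0
    rw [h1', show r c = 0 by rw [← RingHom.mem_ker, hrker]; exact hc, TensorProduct.zero_tmul]
  refine le_antisymm ?_ hle
  let π : C₃ →+* C₃ ⧸ J := Ideal.Quotient.mk J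
  have hp2 : ∀ c, c ∈ I.map t → p₂ c ∈ J := fun c hc => by
    refine (Ideal.map_le_iff_le_comap.2 ?_ : I.map t ≤ J.comap p₂) hc
    intro b hb
    show p₂ (t b) ∈ J
    rw [← h12]
    refine Ideal.mem_map_of_mem _ ?_
    rw [← hrker, RingHom.mem_ker, hrs', show q b = 0 by rw [← RingHom.mem_ker, hker]; exact hb,
      TensorProduct.tmul_zero]
  let ψ₁₂ : B₀ ⊗[A₀] B₀ →+* C₃ ⧸ J := r.liftOfSurjective hr ⟨π.comp p₁, fun c hc => by
    show π (p₁ c) = 0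
    exact Ideal.Quotient.eq_zero_iff_mem.2 (Ideal.mem_map_of_mem _ (hrker ▸ hc))⟩
  have hψ₁₂ : ∀ c, ψ₁₂ (r c) = π (p₁ c) := fun c => RingHom.liftOfRightInverse_comp_apply _ _ _ _ c
  let ψ₂₃ : B₀ ⊗[A₀] B₀ →+* C₃ ⧸ J := r.liftOfSurjective hr ⟨π.comp p₂, fun c hc => by
    show π (p₂ c) = 0
    exact Ideal.Quotient.eq_zero_iff_mem.2 (hp2 c (hrker ▸ hc))⟩
  have hψ₂₃ : ∀ c, ψ₂₃ (r c) = π (p₂ c) := fun c => RingHom.liftOfRightInverse_comp_apply _ _ _ _ c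
  let ψ₃ : B₀ →+* C₃ ⧸ J :=
    ψ₂₃.comp (Algebra.TensorProduct.includeRight : B₀ →ₐ[A₀] B₀ ⊗[A₀] B₀).toRingHom
  letI : Algebra A₀ (C₃ ⧸ J) := (ψ₃.comp (algebraMap A₀ B₀)).toAlgebra
  have hA : ∀ a : A₀, ψ₁₂ (algebraMap A₀ (B₀ ⊗[A₀] B₀) a) = ψ₂₃ (algebraMap A₀ (B₀ ⊗[A₀] B₀) a) := fun a => by
    obtain ⟨b, hb⟩ := hq (algebraMap A₀ B₀ a)
    have e1 : r (s b) = algebraMap A₀ (B₀ ⊗[A₀] B₀) a := by
      rw [hrs', hb]
      exact (Algebra.TensorProduct.algebraMap_apply' a).symm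
    have e2 : r (t b) = algebraMap A₀ (B₀ ⊗[A₀] B₀) a := by
      rw [hrt', hb]
      rfl
    calc ψ₁₂ _ = π (p₁ (s b)) := by rw [← e1, hψ₁₂]
      _ = π (p₂ (t b)) := by rw [h12]
      _ = _ := by rw [← e2, hψ₂₃]
  let Ψ₁₂ : B₀ ⊗[A₀] B₀ →ₐ[A₀] C₃ ⧸ J :=
    { ψ₁₂ with
      commutes' := fun a => by
        show ψ₁₂ _ = ψ₂₃ ((1 : B₀) ⊗ₜ algebraMap A₀ B₀ a)
        rw [hA]
        exact congrArg ψ₂₃ (Algebra.TensorProduct.algebraMap_apply' a) }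
  let Ψ₃ : B₀ →ₐ[A₀] C₃ ⧸ J := { ψ₃ with commutes' := fun a => rfl }
  let Ψ : (B₀ ⊗[A₀] B₀) ⊗[A₀] B₀ →ₐ[A₀] C₃ ⧸ J :=
    Algebra.TensorProduct.lift Ψ₁₂ Ψ₃ fun _ _ => Commute.all _ _
  have hΨ : ∀ x y, Ψ (x ⊗ₜ y) = ψ₁₂ x * ψ₃ y := fun x y => Algebra.TensorProduct.lift_tmul _ _ _ _ _
  have hcomp : Ψ.toRingHom.comp r₃ = π := by
    refine congrArg CommRingCat.Hom.hom (hpush.hom_ext (l := CommRingCat.ofHom π)
      (k := CommRingCat.ofHom (Ψ.toRingHom.comp r₃)) ?_ ?_)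
    · ext c
      show Ψ (r₃ (p₁ c)) = π (p₁ c)
      rw [h1', hΨ, map_one, mul_one, hψ₁₂]
    · ext c
      show Ψ (r₃ (p₂ c)) = π (p₂ c)
      rw [h2', ← hψ₂₃]
      induction r c using TensorProduct.induction_on with
      | zero => rw [map_zero, map_zero, map_zero]
      | add u v hu hv => rw [map_add, map_add, map_add, hu, hv]
      | tmul x y =>
        obtain ⟨b, rfl⟩ := hq x
        rw [hι, hΨ, show ψ₃ y = ψ₂₃ (1 ⊗ₜ y) from rfl, ← hrs' b, hψ₁₂, h12, ← hψ₂₃, hrt', ← map_mul,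
          Algebra.TensorProduct.tmul_mul_tmul, mul_one, one_mul]
  intro c hc
  rw [← Ideal.Quotient.eq_zero_iff_mem]
  show π c = 0
  rw [← hcomp, RingHom.comp_apply, RingHom.mem_ker.1 hc, map_zero]

end Groth.Agent.AlgSpLib.ThickAlg
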