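import Groth.Agent.AlgSpLib.MorTop
import Groth.Agent.AlgSpLib.MonoIso
import Groth.Prelude.Def_AlgSpInf

/-!
Thickenings of algebraic spaces are universal homeomorphisms; topological properties of morphisms of
thickenings.
-/

universe u

open CategoryTheory CategoryTheory.Limits AlgebraicGeometry Opposite AlgSp Topology

namespace Groth.Agent.AlgSpLib

variable {S : Scheme.{u}}

theorem mono_of_thickMor {X X' : Sp S} {i : X ⟶ X'} (hi : IsThickMor i) : Mono i :=
  mono_of_repWith (fun _ _ f h => by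
    have : IsClosedImmersion f := h.1
    exact (inferInstance : Mono f)) hi

theorem isUnivHomeoMor_of_thickMor {X X' : Sp S} {i : X ⟶ X'} (hi : IsThickMor i) :
    IsUnivHomeoMor i := by
  refine (repWith_univHomeo_iff hi.1).1 (RepWith.mono (fun A B f h => ?_) hi)
  intro A' B' i₁ i₂ f' sq
  have h1 : IsClosedImmersion f' := MorphismProperty.of_isPullback sq.flip h.1
  have h2 : Surjective f' := MorphismProperty.of_isPullback sq.flip h.2
  exact isHomeomorph_iff_isEmbedding_surjective.2 ⟨f'.isEmbedding, f'.surjective⟩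

theorem isHomeomorph_map_of_thickMor {X X' : Sp S} (hX' : IsAlgSpace X') {i : X ⟶ X'}
    (hi : IsThickMor i) : IsHomeomorph (Points.map i) :=
  isUnivHomeoMor_of_thickMor hi hX' (𝟙 _) (𝟙 _) i IsPullback.of_id_fst

theorem univSp_comp_mono_iff {Q : MorphismProperty (Sp S)}
    (hQ : ∀ {A B C : Sp S} (a : A ⟶ B) (b : B ⟶ C), IsHomeomorph (Points.map b) → (Q (a ≫ b) ↔ Q a))
    {X Y Y' : Sp S} (hY : IsAlgSpace Y) (hY' : IsAlgSpace Y') (f : X ⟶ Y) (j : Y ⟶ Y') [Mono j]
    (hj : IsUnivHomeoMor j) : UnivSp Q (f ≫ j) ↔ UnivSp Q f := by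
  refine ⟨fun h Z Z' hZ g fst snd sq => h hZ (g ≫ j) fst snd (isPullback_comp_mono' sq j),
    fun h Z Z' hZ g fst snd sq => ?_⟩
  have sqP := IsPullback.of_hasPullback j g
  have hP := isAlgSpace_of_isPullback hY'.diag hY hZ sqP
  have w : (fst ≫ f) ≫ j = snd ≫ g := by rw [Category.assoc]; exact sq.w
  have sql : IsPullback fst (sqP.lift (fst ≫ f) snd w) f (pullback.fst j g) :=
    (IsPullback.of_right (h₁₁ := sqP.lift (fst ≫ f) snd w) (h₁₂ := pullback.snd j g)
      (by rw [sqP.lift_snd]; exact sq.flip) (sqP.lift_fst _ _ _) sqP.flip).flip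
  have h1 := h hP _ _ _ sql
  rw [← sqP.lift_snd (fst ≫ f) snd w]
  exact (hQ _ _ (hj hZ g _ _ sqP)).2 h1

theorem univSp_precomp_iff {Q : MorphismProperty (Sp S)}
    (hQ : ∀ {A B C : Sp S} (a : A ⟶ B) (b : B ⟶ C), IsHomeomorph (Points.map a) → (Q (a ≫ b) ↔ Q b))
    {X X' Y' : Sp S} (hX' : IsAlgSpace X') (hY' : IsAlgSpace Y') (i : X ⟶ X') (f : X' ⟶ Y')
    (hi : IsUnivHomeoMor i) : UnivSp Q (i ≫ f) ↔ UnivSp Q f := by
  constructor
  · intro h Z Z' hZ g fst snd sq
    have sqP := IsPullback.of_hasPullback i fst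
    exact (hQ _ _ (hi (isAlgSpace_of_isPullback hY'.diag hX' hZ sq) fst _ _ sqP)).1
      (h hZ g _ _ (sqP.flip.paste_horiz sq.flip).flip)
  · intro h Z Z' hZ g fst snd sq
    have sqP := IsPullback.of_hasPullback f g
    have w : (fst ≫ i) ≫ f = snd ≫ g := by rw [Category.assoc]; exact sq.w
    have sql : IsPullback fst (sqP.lift (fst ≫ i) snd w) i (pullback.fst f g) := by
      refine IsPullback.of_bot ?_ (sqP.lift_fst _ _ _).symm sqP
      rw [sqP.lift_snd]; exact sq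
    rw [← sqP.lift_snd (fst ≫ i) snd w]
    exact (hQ _ _ (hi (isAlgSpace_of_isPullback hY'.diag hX' hZ sqP) _ _ _ sql)).2
      (h hZ g _ _ sqP)

/-- the topological form of quasi-compactness -/
theorem isQuasiCompactMor_iff_univSp {X Y : Sp S} (hX : IsAlgSpace X) (hY : IsAlgSpace Y) (f : X ⟶ Y) :
    IsQuasiCompactMor f ↔
      UnivSp (fun A B _ => CompactSpace (Points B) → CompactSpace (Points A)) f := by
  refine ⟨fun h Z Z' hZ g fst snd sq hc => ?_, fun h Z Z' hZ hq g fst snd sq => ?_⟩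
  · exact compactSpace_points_of_isQuasiCompactSp
      (h hZ ((isQuasiCompactSp_iff_compactSpace hZ).2 hc) g fst snd sq)
  · exact (isQuasiCompactSp_iff_compactSpace (isAlgSpace_of_isPullback hY.diag hX hZ sq)).2
      (h hZ g fst snd sq (compactSpace_points_of_isQuasiCompactSp hq))

theorem univSp_iff_of_thick {Q : MorphismProperty (Sp S)}
    (hQ₁ : ∀ {A B C : Sp S} (a : A ⟶ B) (b : B ⟶ C), IsHomeomorph (Points.map b) → (Q (a ≫ b) ↔ Q a))
    (hQ₂ : ∀ {A B C : Sp S} (a : A ⟶ B) (b : B ⟶ C), IsHomeomorph (Points.map a) → (Q (a ≫ b) ↔ Q b))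
    {X X' Y Y' : Space.{u} S} {i : X ⟶ X'} {j : Y ⟶ Y'} {f : X ⟶ Y} {f' : X' ⟶ Y'}
    (hi : IsThickMor i.hom) (hj : IsThickMor j.hom) (w : i ≫ f' = f ≫ j) :
    UnivSp Q f.hom ↔ UnivSp Q f'.hom := by
  have := mono_of_thickMor hj
  have w' : i.hom ≫ f'.hom = f.hom ≫ j.hom := congrArg InducedCategory.Hom.hom w
  rw [← univSp_comp_mono_iff hQ₁ Y.property Y'.property f.hom j.hom (isUnivHomeoMor_of_thickMor hj),
    ← w', univSp_precomp_iff hQ₂ X'.property Y'.property i.hom f'.hom (isUnivHomeoMor_of_thickMor hi)]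

end Groth.Agent.AlgSpLib
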