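import Groth.Agent.AlgSpLib.ThickPieces
import Groth.Agent.AlgSpLib.PointsCompact
import Groth.Agent.AlgSpLib.ThickTop

/-!
An algebraic space which is a thickening of an affine scheme is affine.
-/

universe u

open CategoryTheory CategoryTheory.Limits AlgebraicGeometry Opposite
open AlgSp
open Groth.Agent.FlatMorDegree

noncomputable section

namespace Groth.Agent.AlgSpLib.ThickAff

set_option backward.isDefEq.respectTransparency.types false

variable {S : Scheme.{u}}

theorem isAffine_of_range_eq {Y X : Scheme.{u}} (f : Y ⟶ X) [IsOpenImmersion f] {V : X.Opens} (hV : IsAffineOpen V)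
    (h : Set.range f = V) : IsAffine Y := by
  have e : f.opensRange = V := TopologicalSpace.Opens.ext h
  have : IsAffine f.opensRange.toScheme := e ▸ hV
  exact IsAffine.of_isIso f.isoOpensRange.hom

namespace Data

theorem isAff_main {d : ℕ} (D : Data S) (hlow : D.DegLow d) (hgood : D.GoodAbove d) : IsAff D.X := by
  refine isAff_of_minimal (fun D => D.DegLow d ∧ D.GoodAbove d) (fun D I hI hle hD => ?_)
    (fun D ⟨hlow, hgood⟩ hmin => ?_) D ⟨hlow, hgood⟩
  · obtain ⟨D', z, hz, hzI, ⟨u, h1, h2, h3⟩, h4, h5⟩ := D.exists_restrict I hI hle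
    exact ⟨D', z, hz, u, h1, h2, h3, hzI, h4 _ hD.1, h5 _ hD.2⟩
  classical
  by_cases hN : D.N = ⊥
  · exact D.isAff_of_sq_zero fun x hx y _ => by rw [hN, Ideal.mem_bot] at hx; rw [hx, zero_mul]
  let ι := {x : D.X₀.left // degGE D.π.left x (d + 1)}
  choose g hxg hgo using fun x : ι => hgood x.1 x.2
  choose a ha using fun x : ι => D.surjective_jR (algebraMap D.A₀ D.B₀ (g x))
  obtain ⟨s, hs⟩ := ThickDeg.exists_finset_cover
    (fun o : Option ι => o.elim {x | ¬ degGE D.π.left x (d + 1)}
      fun l => (D.X₀.left.basicOpen (g l) : Set D.X₀.left))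
    (fun o => by
      cases o with
      | none => exact ThickDeg.isIndConstructible_not_degGE D.π.left (d + 1)
      | some l => exact H8ProCons.isIndConstructible_of_isOpen (D.X₀.left.basicOpen (g l)).2)
    (fun x => by
      by_cases hx : degGE D.π.left x (d + 1)
      · exact ⟨some ⟨x, hx⟩, hxg _⟩
      · exact ⟨none, hx⟩)
  let σ := s.eraseNone
  have hcov : ∀ x, degGE D.π.left x (d + 1) → ∃ l ∈ σ, x ∈ D.X₀.left.basicOpen (g l) := fun x hx => by
    obtain ⟨o, ho, hxo⟩ := hs x
    cases o with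
    | none => exact absurd hx hxo
    | some l => exact ⟨l, Finset.mem_eraseNone.2 ho, hxo⟩
  let J : Finset ι → Ideal D.B := fun τ => D.N ⊓ τ.inf fun l => sat ⊥ (a l)
  have hJinv : ∀ τ, D.Invariant (J τ) := fun τ => by
    refine D.invariant_inf D.invariant_N ?_
    induction τ using Finset.induction with
    | empty => simp [Invariant, Ideal.map_top]
    | insert l τ hl ih =>
      rw [Finset.inf_insert]
      refine D.invariant_inf (D.invariant_sat (ha l) ?_ ?_) ih <;> simp
  obtain ⟨K, hKi, hKN, hKne, hKnil⟩ : ∃ K : Ideal D.B, D.Invariant K ∧ K ≤ D.N ∧ K ≠ ⊥ ∧ IsNilpotent K := by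
    by_cases hJ : J σ = ⊥
    · obtain ⟨τ, l, hτ, hl⟩ : ∃ (τ : Finset ι) (l : ι), J τ ≠ ⊥ ∧ J τ ⊓ sat ⊥ (a l) = ⊥ := by
        have key : ∀ τ, J τ = ⊥ → ∃ (τ' : Finset ι) (l : ι), J τ' ≠ ⊥ ∧ J τ' ⊓ sat ⊥ (a l) = ⊥ := by
          intro τ
          induction τ using Finset.induction with
          | empty => exact fun h => absurd (by simpa [J] using h) hN
          | insert l τ hl ih =>
            intro h
            by_cases h' : J τ = ⊥
            · exact ih h'
            · refine ⟨τ, l, h', le_bot_iff.1 (le_trans ?_ h.le)⟩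
              show _ ≤ D.N ⊓ _
              rw [Finset.inf_insert]
              exact le_inf (inf_le_left.trans inf_le_left) (le_inf inf_le_right (inf_le_left.trans inf_le_right))
        exact key σ hJ
      exact D.exists_piece_case (hgo l) (ha l) (J τ) (hJinv τ) inf_le_left hτ hl
    · obtain ⟨y, hy, hy0⟩ := Submodule.exists_mem_ne_zero_of_ne_bot hJ
      exact D.exists_content_case hlow σ g a ha hcov hy0 hy.1 (Submodule.mem_finsetInf.1 hy.2)
  exact D.isAff_of_nilp hmin K hKi hKN hKne hKnil

/-- restriction to the open subspace over a basic open of the reduction -/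
theorem exists_open_data (D : Data S) (g : D.A₀) :
    ∃ D' : Data S,
      (∀ x' : D'.X₀.left, ∃ x ∈ D.X₀.left.basicOpen g, ∀ e, degGE D'.π.left x' e ↔ degGE D.π.left x e) ∧
      (IsAff D'.X → D.GoodOn (D.X₀.left.basicOpen g : Set D.X₀.left)) := by
  let W : Set (Points D.X) :=
    Points.map D.i '' (Points.ofScheme D.X₀ '' (D.X₀.left.basicOpen g : Set D.X₀.left))
  have hhom := isHomeomorph_map_of_thickMor D.hX D.thick
  have hW : IsOpen W :=
    hhom.isOpenMap _ ((Points.schemeHomeo D.X₀).isOpenMap _ (D.X₀.left.basicOpen g).2)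
  let X' := openSubspace D.X W
  let jW := openSubspaceι D.X W
  have hj : RepWith @IsOpenImmersion jW := repWith_openSubspaceι D.X hW
  have hjr : Set.range (Points.map jW) = W := range_openSubspaceι D.X W
  obtain ⟨a, ha⟩ := D.surjective_jR (algebraMap D.A₀ D.B₀ g)
  -- the reduction
  have sqi := hj.1.isPullback D.i
  let v := hj.1.snd D.i
  have : IsOpenImmersion v.left := hj.property_snd D.i
  have hvr : Set.range v.left = (D.X₀.left.basicOpen g : Set D.X₀.left) := by
    have h := range_map_preimage sqi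
    rw [hjr, hhom.injective.preimage_image] at h
    ext x
    have hx := Set.ext_iff.1 h (Points.ofScheme D.X₀ x)
    constructor
    · rintro ⟨z, rfl⟩
      obtain ⟨x', hx', e⟩ := hx.2 ⟨Points.ofScheme _ z, map_yon_map_ofScheme v z⟩
      rwa [← (Points.schemeHomeo D.X₀).injective e]
    · intro hxg
      obtain ⟨z, hz⟩ := hx.1 ⟨x, hxg, rfl⟩
      obtain ⟨z, rfl⟩ := (Points.schemeHomeo _).surjective z
      exact ⟨z, (Points.schemeHomeo D.X₀).injective ((map_yon_map_ofScheme v z).symm.trans hz)⟩
  have hX₀' : IsAffine (hj.1.pullback D.i).left :=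
    isAffine_of_range_eq v.left ((isAffineOpen_top _).basicOpen g) hvr
  -- the chart
  have sqp := hj.1.isPullback D.p
  let w := hj.1.snd D.p
  have : IsOpenImmersion w.left := hj.property_snd D.p
  have hwr : Set.range w.left = (D.U.left.basicOpen a : Set D.U.left) := by
    have h := range_map_preimage sqp
    rw [hjr] at h
    ext u
    obtain ⟨u₀, rfl⟩ := D.j.left.surjective u
    have hx := Set.ext_iff.1 h (Points.ofScheme D.U (D.j.left u₀))
    have hiff : D.j.left u₀ ∈ D.U.left.basicOpen a ↔ D.π.left u₀ ∈ D.X₀.left.basicOpen g := by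
      show u₀ ∈ D.j.left ⁻¹ᵁ D.U.left.basicOpen a ↔ u₀ ∈ D.π.left ⁻¹ᵁ D.X₀.left.basicOpen g
      rw [Scheme.preimage_basicOpen, Scheme.preimage_basicOpen]
      exact iff_of_eq (congrArg (fun b => u₀ ∈ D.U₀.left.basicOpen b) ha)
    have hmem : Points.map D.p (Points.ofScheme D.U (D.j.left u₀)) ∈ W ↔
        D.π.left u₀ ∈ D.X₀.left.basicOpen g := by
      rw [← map_yon_map_ofScheme, ← Points.map_comp, ← D.sq.w, Points.map_comp, map_yon_map_ofScheme]
      exact hhom.injective.mem_set_image.trans (Points.schemeHomeo D.X₀).injective.mem_set_image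
    show _ ↔ D.j.left u₀ ∈ D.U.left.basicOpen a
    rw [hiff, ← hmem]
    constructor
    · rintro ⟨z, hz⟩
      exact hx.2 ⟨Points.ofScheme _ z, (map_yon_map_ofScheme w z).trans (congrArg _ hz)⟩
    · intro hm
      obtain ⟨z, hz⟩ := hx.1 hm
      obtain ⟨z, rfl⟩ := (Points.schemeHomeo _).surjective z
      exact ⟨z, (Points.schemeHomeo D.U).injective ((map_yon_map_ofScheme w z).symm.trans hz)⟩
  have hU' : IsAffine (hj.1.pullback D.p).left :=
    isAffine_of_range_eq w.left ((isAffineOpen_top _).basicOpen a) hwr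
  -- the reduced chart
  let U₀' : Over S := pullback D.π v
  have sqπ : IsPullback (pullback.fst D.π v) (pullback.snd D.π v) D.π v := IsPullback.of_hasPullback _ _
  obtain ⟨j', hj'⟩ := (yon S).map_surjective (sqp.lift
    ((yon S).map (pullback.snd D.π v) ≫ hj.1.fst D.i) ((yon S).map (pullback.fst D.π v ≫ D.j)) (by
      rw [Category.assoc, sqi.w, ← Functor.map_comp_assoc, ← sqπ.w, Functor.map_comp_assoc, D.sq.w,
        ← Functor.map_comp_assoc]))
  have hj'w : j' ≫ w = pullback.fst D.π v ≫ D.j :=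
    (yon S).map_injective (by rw [Functor.map_comp, hj', sqp.lift_snd])
  have sq' : IsPullback ((yon S).map (pullback.snd D.π v)) ((yon S).map j') (hj.1.fst D.i) (hj.1.fst D.p) := by
    have h1 := (sqπ.flip.map (yon S)).paste_vert D.sq
    have h2 : IsPullback ((yon S).map (pullback.snd D.π v)) ((yon S).map j' ≫ (yon S).map w)
        (hj.1.fst D.i ≫ jW) D.p := by
      rw [← Functor.map_comp, hj'w, Functor.map_comp, sqi.w]
      exact h1
    exact IsPullback.of_bot h2 (by rw [hj', sqp.lift_fst]) sqp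
  let D' : Data S :=
    { X := X'
      X₀ := hj.1.pullback D.i
      U := hj.1.pullback D.p
      U₀ := U₀'
      i := hj.1.fst D.i
      p := hj.1.fst D.p
      π := pullback.snd D.π v
      j := j'
      hX := isAlgSpace_openSubspace D.hX hW
      affX₀ := hX₀'
      affU := hU'
      thick := RepWith.baseChange sqi.flip D.thick
      he := RepWith.baseChange sqp.flip D.he
      hs := RepWith.baseChange sqp.flip D.hs
      sq := sq' }
  refine ⟨D', fun x' => ⟨v.left x', ?_, fun e => ?_⟩, fun ⟨T, hT, ⟨e⟩⟩ => ?_⟩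
  · show v.left x' ∈ (D.X₀.left.basicOpen g : Set D.X₀.left)
    exact hvr ▸ ⟨x', rfl⟩
  · have : IsAffine D'.U₀.left := Data.affU₀ D'
    have : IsAffine D'.X₀.left := D'.affX₀
    have : Etale D'.π.left := Data.etale_π D'
    exact ThickDeg.degGE_of_isPullback
      (show IsPullback (pullback.fst D.π v).left D'.π.left D.π.left v.left from sqπ.map (Over.forget S)) x' e
  · refine ⟨T, e.hom ≫ jW, hT, RepWith.comp (repWith_of_isIso _ e.hom) hj, ?_⟩
    have : (Set.range (Points.map (e.hom ≫ jW))) = Set.range (Points.map jW) := by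
      refine le_antisymm ?_ ?_
      · rintro _ ⟨z, rfl⟩
        exact ⟨_, (Points.map_comp _ _ z).symm⟩
      · rintro _ ⟨z, rfl⟩
        refine ⟨Points.map e.inv z, ?_⟩
        rw [← Points.map_comp, e.inv_hom_id_assoc]
    exact this.trans hjr

theorem isAff_of_degLow : ∀ (k d : ℕ) (D : Data S), (∀ x, ¬ degGE D.π.left x (d + k + 1)) → D.DegLow d → IsAff D.X
  | 0, d, D, hb, hlow => D.isAff_main hlow fun x hx => absurd hx (hb x)
  | k + 1, d, D, hb, hlow => D.isAff_main hlow fun x hx => by
    obtain ⟨g, hgle, hxg⟩ := (isAffineOpen_top D.X₀.left).exists_basicOpen_le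
      (V := ⟨{x | degGE D.π.left x (d + 1)}, isOpen_degGE D.π.left (d + 1)⟩) ⟨x, hx⟩ trivial
    obtain ⟨D', hdeg, hgood⟩ := D.exists_open_data g
    refine ⟨g, hxg, hgood (isAff_of_degLow k (d + 1) D' (fun x' h => ?_) fun x' => ?_)⟩
    · obtain ⟨x₁, -, he⟩ := hdeg x'
      exact hb x₁ (by have := (he _).1 h; rwa [show d + (k + 1) + 1 = d + 1 + k + 1 by omega])
    · obtain ⟨x₁, hx₁, he⟩ := hdeg x'
      exact (he _).2 (hgle hx₁)

theorem isAff (D : Data S) : IsAff D.X := by
  obtain ⟨n, hn⟩ := ThickDeg.exists_bound D.π.left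
  exact isAff_of_degLow n 0 D (by simpa using hn) fun x => degGE_zero _ x

end Data

/-- an algebraic space with an affine thickened closed subscheme is an affine scheme -/
theorem isAff_of_thick {X : Sp S} (hX : IsAlgSpace X) {X₀ : Over S} [IsAffine X₀.left] (i : (yon S).obj X₀ ⟶ X)
    (hi : IsThickMor i) : IsAff X := by
  have hhom := isHomeomorph_map_of_thickMor hX hi
  have : CompactSpace (Points ((yon S).obj X₀)) := (Points.schemeHomeo X₀).compactSpace
  have : CompactSpace (Points X) := hhom.homeomorph.compactSpace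
  obtain ⟨U, p, hU, he, hs⟩ := exists_affine_chart hX
  have sq := hi.1.isPullback p
  obtain ⟨π, hπ⟩ := (yon S).map_surjective (hi.1.fst p)
  exact Data.isAff
    { X := X, X₀ := X₀, U := U, U₀ := hi.1.pullback p, i := i, p := p, π := π, j := hi.1.snd p, hX := hX,
      affX₀ := inferInstance, affU := hU, thick := hi, he := he, hs := hs, sq := by rw [hπ]; exact sq }

end Groth.Agent.AlgSpLib.ThickAff
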