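import Groth.Agent.AlgSpLib.DeformNilp

/-!
Local finite type descends along a cartesian square of thickenings whose source is of finite order.
-/

universe u

open CategoryTheory CategoryTheory.Limits AlgebraicGeometry
open AlgSp

noncomputable section

namespace Groth.Agent.AlgSpLib

set_option backward.isDefEq.respectTransparency.types false

variable {S : Scheme.{u}} {X X' Y Y' : Sp S}

theorem finiteType_of_nilpotent_map {A B : Type u} [CommRing A] [CommRing B] (ψ : A →+* B) (I : Ideal A)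
    (hn : IsNilpotent (I.map ψ)) (h : (Ideal.quotientMap (I.map ψ) ψ I.le_comap_map).FiniteType) :
    ψ.FiniteType := by
  obtain ⟨n, hn⟩ := hn
  let K := RingHom.ker ψ
  let ψ' : A ⧸ K →+* B := Ideal.Quotient.lift K ψ fun _ => id
  let I' : Ideal (A ⧸ K) := I.map (Ideal.Quotient.mk K)
  have hI' : I'.map ψ' = I.map ψ := by rw [Ideal.map_map, Ideal.Quotient.lift_comp_mk]
  have hI : IsNilpotent I' := by
    refine ⟨n, ?_⟩
    have : (I' ^ n).map ψ' = ⊥ := by rw [Ideal.map_pow, hI', hn]; rfl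
    exact (Ideal.map_eq_bot_iff_of_injective (RingHom.lift_injective_of_ker_le_ideal K (fun _ => id) le_rfl)).1 this
  have h1 : ψ'.FiniteType := by
    refine FSchLib.finiteType_of_nilpotent ψ' (Ideal.Quotient.mk (I.map ψ)) Ideal.Quotient.mk_surjective hI
      (by rw [Ideal.mk_ker, hI']) (RingHom.FiniteType.of_comp_finiteType (f := Ideal.Quotient.mk K) ?_)
    rw [RingHom.comp_assoc, Ideal.Quotient.lift_comp_mk,
      ← Ideal.quotientMap_comp_mk (J := I) (H := I.le_comap_map)]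
    exact h.comp (RingHom.FiniteType.of_surjective _ Ideal.Quotient.mk_surjective)
  rw [← Ideal.Quotient.lift_comp_mk K ψ fun _ => id]
  exact h1.comp (RingHom.FiniteType.of_surjective _ Ideal.Quotient.mk_surjective)

theorem locP_lft_of_cart_finThick (hX' : IsAlgSpace X') (hY' : IsAlgSpace Y') {i : X ⟶ X'} {j : Y ⟶ Y'}
    {f : X ⟶ Y} {f' : X' ⟶ Y'} (hcart : IsPullback i f f' j) (hj : IsThickMor j) (hfo : IsFinThickMor i)
    (hf : LocP @LocallyOfFiniteType f) : LocP @LocallyOfFiniteType f' := by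
  obtain ⟨V, b, hbe, hbs⟩ := hY'.atlas
  obtain ⟨U, a, h, hae, has, w⟩ := exists_chart_over hX' hY' f' b hbe hbs
  refine locP_of_chart_square etLocal_lft hX' a hae has b hbe h ?_ w
  refine (HasRingHomProperty.iff_exists_appLE (P := @LocallyOfFiniteType)
    (RingHom.finiteType_stableUnderComposition.stableUnderCompositionWithLocalizationAway
      RingHom.finiteType_holdsForLocalizationAway).1).2 fun u => ?_
  obtain ⟨n, -, hn⟩ := hfo
  obtain ⟨Vs, hVs, hyV, -⟩ := exists_isAffineOpen_mem_and_subset (x := h.left u) (U := ⊤) trivial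
  obtain ⟨Us, hUs, hxU, eU⟩ := exists_isAffineOpen_mem_and_subset (x := u) (U := h.left ⁻¹ᵁ Vs) hyV
  refine ⟨⟨Vs, hVs⟩, ⟨Us, hUs⟩, hxU, eU, ?_⟩
  let ψ := h.left.appLE Vs Us eU
  let V1 : Over S := Over.mk (hVs.fromSpec ≫ V.hom)
  let jv : V1 ⟶ V := Over.homMk hVs.fromSpec
  let U1 : Over S := Over.mk (hUs.fromSpec ≫ U.hom)
  let ju : U1 ⟶ U := Over.homMk hUs.fromSpec
  let a₁ := (yon S).map ju ≫ a
  let b₁ := (yon S).map jv ≫ b
  have hae₁ : RepWith @Etale a₁ := RepWith.comp ((repWith_yon_map_iff @Etale ju).2 (inferInstanceAs (Etale hUs.fromSpec))) hae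
  have hbe₁ : RepWith @Etale b₁ := RepWith.comp ((repWith_yon_map_iff @Etale jv).2 (inferInstanceAs (Etale hVs.fromSpec))) hbe
  have : IsClosedImmersion (hj.rep.snd b₁).left := (hj.property_snd b₁).1
  obtain ⟨I, e, he⟩ := IsClosedImmersion.Spec_iff.1 this
  let q : Γ(V.left, Vs) ⟶ CommRingCat.of (Γ(V.left, Vs) ⧸ I) := CommRingCat.ofHom (Ideal.Quotient.mk I)
  let V0 : Over S := Over.mk (Spec.map q ≫ V1.hom)
  let jV : V0 ⟶ V1 := Over.homMk (Spec.map q)
  let ev : V0 ≅ hj.rep.pullback b₁ := Over.isoMk e.symm (by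
    show e.inv ≫ (hj.rep.pullback b₁).hom = Spec.map q ≫ V1.hom
    rw [← Over.w (hj.rep.snd b₁), show (hj.rep.snd b₁).left = e.hom ≫ Spec.map q from he]
    simp)
  have ev2 : ev.hom ≫ hj.rep.snd b₁ = jV := Over.OverMorphism.ext (by
    show e.inv ≫ (hj.rep.snd b₁).left = Spec.map q
    rw [show (hj.rep.snd b₁).left = e.hom ≫ Spec.map q from he, e.inv_hom_id_assoc])
  let c₀ := (yon S).map ev.hom ≫ hj.rep.fst b₁
  have sV : IsPullback c₀ ((yon S).map jV) j b₁ :=
    (hj.rep.isPullback b₁).of_iso ((yon S).mapIso ev.symm) (Iso.refl _) (Iso.refl _) (Iso.refl _)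
      (by simp [c₀]) (by simp [← Functor.map_comp, ← ev2]) (by simp) (by simp)
  have eh : Spec.map ψ ≫ hVs.fromSpec = hUs.fromSpec ≫ h.left := hVs.SpecMap_appLE_fromSpec h.left hUs eU
  let h₁ : U1 ⟶ V1 := Over.homMk (Spec.map ψ) (by
    show Spec.map ψ ≫ hVs.fromSpec ≫ V.hom = hUs.fromSpec ≫ U.hom
    rw [reassoc_of% eh, Over.w h])
  have wh : a₁ ≫ f' = (yon S).map h₁ ≫ b₁ := by
    have : h₁ ≫ jv = ju ≫ h := Over.OverMorphism.ext eh
    simp only [a₁, b₁, Category.assoc, w, ← Functor.map_comp_assoc, this]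
  let qU : Γ(U.left, Us) ⟶ _ := CommRingCat.ofHom (Ideal.Quotient.mk (I.map ψ.hom))
  let ψ₀ := CommRingCat.ofHom (Ideal.quotientMap (I.map ψ.hom) ψ.hom I.le_comap_map)
  let U0 : Over S := Over.mk (Spec.map qU ≫ U1.hom)
  let jU : U0 ⟶ U1 := Over.homMk (Spec.map qU)
  let h₀ : U0 ⟶ V0 := Over.homMk (Spec.map ψ₀) (by
    show Spec.map ψ₀ ≫ Spec.map q ≫ V1.hom = Spec.map qU ≫ U1.hom
    rw [← Over.w h₁]
    show _ = Spec.map qU ≫ Spec.map ψ ≫ V1.hom
    rw [← Spec.map_comp_assoc, ← Spec.map_comp_assoc]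
    rfl)
  have sU : IsPullback jU h₀ h₁ jV := IsPullback.of_map (Over.forget S)
    (Over.OverMorphism.ext (by
      show Spec.map qU ≫ Spec.map ψ = Spec.map ψ₀ ≫ Spec.map q
      rw [← Spec.map_comp, ← Spec.map_comp]; rfl))
    (isPullback_SpecMap_of_isPushout ψ q qU ψ₀ (isPushout_quotient ψ.hom I))
  have big : IsPullback ((yon S).map jU) ((yon S).map h₀ ≫ c₀) (a₁ ≫ f') j := by
    rw [wh]; exact (sU.map (yon S)).paste_vert sV.flip
  let a₀ : (yon S).obj U0 ⟶ X := hcart.lift ((yon S).map jU ≫ a₁) ((yon S).map h₀ ≫ c₀)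
    (by rw [Category.assoc, big.w, Category.assoc])
  have e1 : a₀ ≫ i = (yon S).map jU ≫ a₁ := hcart.lift_fst _ _ _
  have e2 : a₀ ≫ f = (yon S).map h₀ ≫ c₀ := hcart.lift_snd _ _ _
  have sq : IsPullback ((yon S).map jU) a₀ a₁ i := IsPullback.of_bot (by rw [e2]; exact big) e1.symm hcart
  have hnil : IsNilpotent (I.map ψ.hom) := by
    refine ⟨n + 1, ?_⟩
    have h0 : (Spec.map qU).ker ^ (n + 1) = ⊥ := hn a₁ a₀ jU (isAffine_Spec _) hae₁ sq.flip
    have h1 := congr(($h0).ideal ⟨⊤, isAffineOpen_top _⟩)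
    rw [Scheme.IdealSheafData.ideal_pow, Pi.pow_apply, Scheme.IdealSheafData.ideal_bot, Pi.bot_apply,
      Scheme.Hom.ker_apply] at h1
    have h2 : (I.map ψ.hom).map (Scheme.ΓSpecIso Γ(U.left, Us)).inv.hom ≤
        RingHom.ker ((Spec.map qU).app ⊤).hom := by
      refine Ideal.map_le_iff_le_comap.2 fun r hr => ?_
      have e4 := congr($(Scheme.ΓSpecIso_inv_naturality qU) r)
      simp only [CommRingCat.hom_comp, RingHom.comp_apply] at e4
      exact e4.symm.trans ((congrArg _ (show qU r = 0 from Ideal.Quotient.eq_zero_iff_mem.2 hr)).trans (map_zero _))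
    have h3 : ((I.map ψ.hom) ^ (n + 1)).map (Scheme.ΓSpecIso Γ(U.left, Us)).inv.hom = ⊥ := by
      rw [Ideal.map_pow, ← le_bot_iff]
      exact (Ideal.pow_right_mono h2 _).trans h1.le
    exact (Ideal.map_eq_bot_iff_of_injective
      (Scheme.ΓSpecIso Γ(U.left, Us)).symm.commRingCatIsoToRingEquiv.injective).1 h3
  exact finiteType_of_nilpotent_map _ I hnil ((HasRingHomProperty.Spec_iff (P := @LocallyOfFiniteType)).1
    (hf a₀ c₀ h₀ (RepWith.baseChange sq hae₁) (RepWith.baseChange sV.flip hbe₁) e2))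

end Groth.Agent.AlgSpLib
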