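import Groth.Agent.AlgSpLib.ThickStep
import Groth.Agent.AlgSpLib.LimitAffine
import Groth.Agent.AlgSpLib.LimitClosed

/-!
Reduction of the affineness of a thickening to the case where all proper invariant
closed subspaces are affine.
-/

universe u

open CategoryTheory CategoryTheory.Limits AlgebraicGeometry Opposite
open AlgSp

noncomputable section

namespace Groth.Agent.AlgSpLib.ThickAff

set_option backward.isDefEq.respectTransparency.types false

variable {S : Scheme.{u}}

theorem IsAff.of_iso {F G : Sp S} (e : F ≅ G) : IsAff F → IsAff G :=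
  fun ⟨T, hT, ⟨a⟩⟩ => ⟨T, hT, ⟨a ≪≫ e⟩⟩

/-- factorisation through a closed subspace is decided on scheme valued points -/
theorem factors_of_forall_yon {Z G A : Sp S} {i : Z ⟶ G} [Mono i] (f : A ⟶ G)
    (h : ∀ (T : Over S) (a : (yon S).obj T ⟶ A), ∃ l, l ≫ i = a ≫ f) : ∃ l, l ≫ i = f := by
  have sq := IsPullback.of_hasPullback i f
  have : ∀ T, IsIso ((pullback.snd i f).hom.app T) := fun T => by
    rw [isIso_iff_bijective]
    refine ⟨fun x y e => ?_, fun s => ?_⟩
    · obtain ⟨T⟩ := T
      apply (GrothendieckTopology.uliftYonedaEquiv.{u+1} (AlgSp.J S)).symm.injective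
      rw [← cancel_mono (pullback.snd i f)]
      apply (GrothendieckTopology.uliftYonedaEquiv.{u+1} (AlgSp.J S)).injective
      rw [GrothendieckTopology.uliftYonedaEquiv_comp, GrothendieckTopology.uliftYonedaEquiv_comp,
        Equiv.apply_symm_apply, Equiv.apply_symm_apply]
      exact e
    · obtain ⟨T⟩ := T
      obtain ⟨l, hl⟩ := h T ((GrothendieckTopology.uliftYonedaEquiv.{u+1} (AlgSp.J S)).symm s)
      refine ⟨GrothendieckTopology.uliftYonedaEquiv.{u+1} (AlgSp.J S) (sq.lift l _ hl), ?_⟩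
      have := congr((GrothendieckTopology.uliftYonedaEquiv.{u+1} (AlgSp.J S)) $(sq.lift_snd l _ hl))
      rwa [GrothendieckTopology.uliftYonedaEquiv_comp, Equiv.apply_symm_apply] at this
  have : IsIso (pullback.snd i f).hom := NatIso.isIso_of_isIso_app _
  have : IsIso ((sheafToPresheaf _ _).map (pullback.snd i f)) := this
  have := isIso_of_reflects_iso (pullback.snd i f) (sheafToPresheaf _ _)
  exact ⟨inv (pullback.snd i f) ≫ pullback.fst i f, by rw [Category.assoc, sq.w, IsIso.inv_hom_id_assoc]⟩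

namespace Data

variable {D : Data S}

/-- the closed subspace of an ideal is affine -/
def IsAffMod (D : Data S) (I : Ideal D.B) : Prop :=
  ∀ (Z : Sp S) (z : Z ⟶ D.X) (hz : RepWith @IsClosedImmersion z),
    chartIdeal hz D.p = Scheme.IdealSheafData.ofIdealTop I → IsAff Z

theorem isAff_iff_of_chartIdeal {Z Z' : Sp S} {z : Z ⟶ D.X} {z' : Z' ⟶ D.X}
    (hz : RepWith @IsClosedImmersion z) (hz' : RepWith @IsClosedImmersion z')
    (h : chartIdeal hz D.p = chartIdeal hz' D.p) : IsAff Z ↔ IsAff Z' := by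
  have := mono_closedImmersion hz
  have := mono_closedImmersion hz'
  obtain ⟨k, hk⟩ := (factors_closed_iff hz hz' D.he D.hs).2 h.ge
  obtain ⟨k', hk'⟩ := (factors_closed_iff hz' hz D.he D.hs).2 h.le
  let e : Z ≅ Z' := ⟨k, k', by rw [← cancel_mono z, Category.assoc, hk', hk, Category.id_comp],
    by rw [← cancel_mono z', Category.assoc, hk, hk', Category.id_comp]⟩
  exact ⟨IsAff.of_iso e, IsAff.of_iso e.symm⟩

theorem isAffMod_of_isAff {I : Ideal D.B} {Z : Sp S} {z : Z ⟶ D.X} (hz : RepWith @IsClosedImmersion z)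
    (h : chartIdeal hz D.p = Scheme.IdealSheafData.ofIdealTop I) (hZ : IsAff Z) : D.IsAffMod I :=
  fun _ _ hz' h' => (isAff_iff_of_chartIdeal hz hz' (h.trans h'.symm)).1 hZ

theorem isAff_of_isAffMod_bot (h : D.IsAffMod ⊥) : IsAff D.X := by
  have hz : RepWith @IsClosedImmersion (𝟙 D.X) := by
    refine MorphismProperty.relative.of_exists fun T g => ⟨T, g, 𝟙 T, ?_, ?_⟩
    · rw [(yon S).map_id]
      exact IsPullback.of_id_snd
    · exact inferInstanceAs (IsClosedImmersion (𝟙 T.left))
  refine h D.X (𝟙 _) hz ?_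
  rw [(factors_yon_iff hz D.p).1 ⟨D.p, Category.comp_id _⟩]
  exact Scheme.IdealSheafData.ext_of_isAffine (by simp)

theorem ofIdealTop_le_iff {U : Scheme.{u}} [IsAffine U] (I : Ideal Γ(U, ⊤)) (K : U.IdealSheafData) :
    Scheme.IdealSheafData.ofIdealTop I ≤ K ↔ I ≤ K.ideal ⟨⊤, isAffineOpen_top U⟩ := by
  constructor
  · intro h
    simpa using h ⟨⊤, isAffineOpen_top U⟩
  · intro h
    exact Scheme.IdealSheafData.le_of_isAffine (by simpa using h)

theorem invariant_sSup (c : Set (Ideal D.B)) (h : ∀ I ∈ c, D.Invariant I) : D.Invariant (sSup c) := by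
  unfold Invariant
  rw [sSup_eq_iSup, Ideal.map_iSup, Ideal.map_iSup]
  refine iSup_congr fun I => ?_
  rw [Ideal.map_iSup, Ideal.map_iSup]
  exact iSup_congr fun hI => h I hI

/-- an affine closed subspace of a chain is reached at a member -/
theorem exists_isAffMod_of_chain (c : Set (Ideal D.B)) (hne : c.Nonempty) (hc : IsChain (· ≤ ·) c)
    (hinv : ∀ I ∈ c, D.Invariant I) (hle : ∀ I ∈ c, I ≤ D.N) (h : D.IsAffMod (sSup c)) :
    ∃ I ∈ c, D.IsAffMod I := by
  choose E z hz hzI hE _ using fun a : ↥c => D.exists_restrict a.1 (hinv _ a.2) (hle _ a.2)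
  obtain ⟨E', w, hw, hwI, -⟩ := D.exists_restrict (sSup c) (invariant_sSup c hinv) (sSup_le hle)
  obtain ⟨T, hT, ⟨e⟩⟩ := h _ w hw hwI
  have : ∀ a, Mono (z a) := fun a => mono_closedImmersion (hz a)
  have : Mono w := mono_closedImmersion hw
  let P := (↥c)ᵒᵈ
  have : Nonempty P := hne.to_subtype
  have : IsDirected P (· ≥ ·) := ⟨fun a b => by
    rcases hc.total (OrderDual.ofDual a).2 (OrderDual.ofDual b).2 with h' | h'
    · exact ⟨b, h', le_rfl⟩
    · exact ⟨a, le_rfl, h'⟩⟩
  have hk : ∀ {a b : P} (_ : a ⟶ b), ∃ k, k ≫ z (OrderDual.ofDual b) = z (OrderDual.ofDual a) := fun {a b} φ => by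
    refine (factors_closed_iff (hz _) (hz _) D.he D.hs).2 ?_
    rw [hzI, hzI, ofIdealTop_le_iff]
    simpa using (OrderDual.ofDual_le_ofDual.2 (leOfHom φ) : OrderDual.ofDual b ≤ OrderDual.ofDual a)
  choose k hk using @hk
  let G : P ⥤ Sp S :=
    { obj := fun a => (E (OrderDual.ofDual a)).X
      map := fun φ => k φ
      map_id := fun a => by rw [← cancel_mono (z _), hk, Category.id_comp]
      map_comp := fun φ ψ => by rw [← cancel_mono (z _), Category.assoc, hk, hk, hk] }
  have hG : ∀ (a b : P) (φ : a ⟶ b), IsAffineMor (G.map φ) := fun a b φ => by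
    have sq : IsPullback (𝟙 (G.obj a)) (k φ) (z (OrderDual.ofDual a)) (z (OrderDual.ofDual b)) :=
      ⟨⟨(Category.id_comp _).trans (hk φ).symm⟩, ⟨PullbackCone.IsLimit.mk _ (fun s => s.fst)
        (fun s => Category.comp_id _)
        (fun s => by rw [← cancel_mono (z (OrderDual.ofDual b)), Category.assoc, hk]; exact s.condition)
        (fun s m h1 _ => by simpa using h1)⟩⟩
    exact isAffineMor_of_closedImmersion (RepWith.baseChange sq (hz (OrderDual.ofDual a)))
  have hp : ∀ a : P, ∃ l, l ≫ z (OrderDual.ofDual a) = w := fun a => by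
    refine (factors_closed_iff hw (hz _) D.he D.hs).2 ?_
    rw [hzI, hwI, ofIdealTop_le_iff]
    simpa using le_sSup (OrderDual.ofDual a).2
  choose l hl using hp
  let cn : Cone G :=
    { pt := E'.X
      π := { app := l
             naturality := fun a b φ => by
               show 𝟙 _ ≫ l b = l a ≫ k φ
               rw [← cancel_mono (z (OrderDual.ofDual b)), Category.id_comp, Category.assoc, hk, hl, hl] } }
  have hlift : ∀ s : Cone G, ∃ m : s.pt ⟶ E'.X, ∀ a, m ≫ w = s.π.app a ≫ z (OrderDual.ofDual a) := fun s => by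
    let a₀ : P := Classical.arbitrary P
    have hconst : ∀ a, s.π.app a ≫ z (OrderDual.ofDual a) = s.π.app a₀ ≫ z (OrderDual.ofDual a₀) := fun a => by
      obtain ⟨b, hba, hb0⟩ := exists_le_le a a₀
      rw [← s.w (homOfLE hba), ← s.w (homOfLE hb0), Category.assoc, Category.assoc]
      exact (congrArg (_ ≫ ·) ((hk (homOfLE hba)).trans (hk (homOfLE hb0)).symm))
    obtain ⟨m, hm⟩ := factors_of_forall_yon (i := w) (s.π.app a₀ ≫ z (OrderDual.ofDual a₀)) fun T a => by
      let f := a ≫ s.π.app a₀ ≫ z (OrderDual.ofDual a₀)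
      let u := D.he.1.snd f
      have sq := D.he.1.isPullback f
      have := epi_of_etale_surjective (RepWith.baseChange sq D.he) (RepWith.baseChange sq D.hs)
      refine factors_of_epi hw ((yon S).map u) ?_
      obtain ⟨g, hg⟩ := (yon S).map_surjective (D.he.1.fst f)
      rw [show (yon S).map u ≫ f = (yon S).map g ≫ D.p by rw [hg, sq.w], factors_comp_iff hw, hwI, ofIdealTop_le_iff]
      refine sSup_le fun I hI => ?_
      rw [← ofIdealTop_le_iff, ← hzI ⟨I, hI⟩, ← factors_comp_iff (hz _)]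
      exact ⟨(yon S).map u ≫ a ≫ s.π.app (OrderDual.toDual ⟨I, hI⟩), by
        rw [hg, sq.w, Category.assoc, Category.assoc]
        exact congrArg (fun x => _ ≫ a ≫ x) (hconst _)⟩
    exact ⟨m, fun a => hm.trans (hconst a).symm⟩
  choose m hm using hlift
  have hlim : IsLimit cn :=
    { lift := m
      fac := fun s a => by rw [← cancel_mono (z (OrderDual.ofDual a)), Category.assoc]; erw [hl, hm s a]
      uniq := fun s f hf => by
        rw [← cancel_mono w, hm s (Classical.arbitrary P), ← hl (Classical.arbitrary P), ← Category.assoc]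
        exact congrArg (· ≫ _) (hf _) }
  let a₀ : P := Classical.arbitrary P
  obtain ⟨a, -, T', hT', ⟨e'⟩⟩ := LimitAffine.exists_stage_affine G hG cn hlim e (i₀ := a₀)
    (E (OrderDual.ofDual a₀)).p (E (OrderDual.ofDual a₀)).he (E (OrderDual.ofDual a₀)).hs
    (E (OrderDual.ofDual a₀)).sqR
  exact ⟨_, (OrderDual.ofDual a).2, isAffMod_of_isAff (hz _) (hzI _) ⟨T', hT', ⟨e'⟩⟩⟩

/-- it suffices to treat thickenings all whose proper invariant closed subspaces are affine -/
theorem isAff_of_minimal (P : Data S → Prop)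
    (hP : ∀ (D : Data S) (I : Ideal D.B) (_ : D.Invariant I) (_ : I ≤ D.N), P D →
      ∃ (D' : Data S) (z : D'.X ⟶ D.X) (hz : RepWith @IsClosedImmersion z) (u : D'.U ⟶ D.U),
        IsPullback D'.p ((yon S).map u) z D.p ∧ u.left.ker = Scheme.IdealSheafData.ofIdealTop I ∧
        D'.N.comap u.left.appTop.hom = D.N ∧
        chartIdeal hz D.p = Scheme.IdealSheafData.ofIdealTop I ∧ P D')
    (hmain : ∀ D : Data S, P D → (∀ I : Ideal D.B, D.Invariant I → I ≤ D.N → I ≠ ⊥ → D.IsAffMod I) → IsAff D.X)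
    (D : Data S) (hD : P D) : IsAff D.X := by
  by_contra hX
  let Bad : Set (Ideal D.B) := {I | D.Invariant I ∧ I ≤ D.N ∧ ¬ D.IsAffMod I}
  have hbot : (⊥ : Ideal D.B) ∈ Bad := ⟨D.invariant_bot, bot_le, fun h => hX (isAff_of_isAffMod_bot h)⟩
  obtain ⟨M, -, hM⟩ := zorn_le_nonempty₀ Bad (fun c hcs hcc y hy => by
    refine ⟨sSup c, ⟨invariant_sSup c fun I hI => (hcs hI).1, sSup_le fun I hI => (hcs hI).2.1, fun h => ?_⟩,
      fun I hI => le_sSup hI⟩
    obtain ⟨I, hI, hI'⟩ := exists_isAffMod_of_chain c ⟨y, hy⟩ hcc (fun I hI => (hcs hI).1)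
      (fun I hI => (hcs hI).2.1) h
    exact (hcs hI).2.2 hI') ⊥ hbot
  obtain ⟨hMi, hMN, hMbad⟩ := hM.prop
  obtain ⟨D', z, hz, u, squ, hu, hN, hzM, hPD'⟩ := hP D M hMi hMN hD
  refine hMbad (isAffMod_of_isAff hz hzM (hmain D' hPD' fun I' hI' hle' hne' => ?_))
  have sqL := squ
  have : IsClosedImmersion u.left := (repWith_yon_map_iff _ u).1 (RepWith.baseChange squ hz)
  let uB : D.B →+* D'.B := u.left.appTop.hom
  have hus : Function.Surjective uB :=
    (isClosedImmersion_iff_isAffineHom.mp this).2 ⊤ (isAffineOpen_top _)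
  have huk : RingHom.ker uB = M := by
    have := congrArg (fun J => J.ideal ⟨⊤, isAffineOpen_top D.U.left⟩) hu
    simp [Scheme.Hom.ker_apply] at this
    exact this
  let I : Ideal D.B := I'.comap uB
  have hMI : M ≤ I := huk ▸ Ideal.comap_mono bot_le
  -- the relation of the closed subspace
  obtain ⟨r, hr⟩ := (yon S).map_surjective (D.sqR.lift ((yon S).map (D'.t ≫ u)) ((yon S).map (D'.s ≫ u)) (by
    rw [Functor.map_comp, Functor.map_comp, Category.assoc, Category.assoc, ← squ.w, ← Category.assoc, D'.sqR.w,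
      Category.assoc]))
  have hrt : r ≫ D.t = D'.t ≫ u := (yon S).map_injective (by rw [Functor.map_comp, hr, D.sqR.lift_fst])
  have hrs : r ≫ D.s = D'.s ≫ u := (yon S).map_injective (by rw [Functor.map_comp, hr, D.sqR.lift_snd])
  have := mono_closedImmersion hz
  have sqt : IsPullback r.left D'.t.left D.t.left u.left := by
    have h1 : IsPullback ((yon S).map D'.s ≫ (yon S).map u) ((yon S).map D'.t) D.p (D'.p ≫ z) := by
      have hA : IsPullback D'.p ((yon S).map u) z D.p := squ
      have hB : IsPullback ((yon S).map D'.s) ((yon S).map D'.t) D'.p D'.p := D'.sqR.flip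
      exact (hB.flip.paste_vert hA).flip.flip.flip
    have h2 : IsPullback ((yon S).map r ≫ (yon S).map D.s) ((yon S).map D'.t) D.p ((yon S).map u ≫ D.p) := by
      rw [← Functor.map_comp, hrs, Functor.map_comp, ← squ.w]
      exact h1
    exact (isPullback_of_map_yon (IsPullback.of_right h2 (by rw [← Functor.map_comp, ← Functor.map_comp, hrt])
      D.sqR.flip)).map (Over.forget S)
  have : IsClosedImmersion r.left := MorphismProperty.of_isPullback (P := @IsClosedImmersion) sqt.flip ‹_›
  have hr' : Function.Surjective r.left.appTop.hom :=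
    (isClosedImmersion_iff_isAffineHom.mp this).2 ⊤ (isAffineOpen_top _)
  have hrk : RingHom.ker r.left.appTop.hom = M.map D.tR := by
    exact (ker_of_isPushout (g := D'.tR) (q := uB) (f := D.tR) (r := r.left.appTop.hom)
      (isPushout_appTop_of_isPullback sqt).flip hus).trans (congrArg (Ideal.map D.tR) huk)
  have e1 : r.left.appTop.hom.comp D.tR = D'.tR.comp uB := congrArg (fun x => x.left.appTop.hom) hrt
  have e2 : r.left.appTop.hom.comp D.sR = D'.sR.comp uB := congrArg (fun x => x.left.appTop.hom) hrs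
  have key : ∀ (f : D.B →+* D.C) (f' : D'.B →+* D'.C), r.left.appTop.hom.comp f = f'.comp uB →
      M.map f = M.map D.tR → I.map f = (I'.map f').comap r.left.appTop.hom := fun f f' e hf => by
    have h1 : (I.map f).map r.left.appTop.hom = I'.map f' := by
      rw [Ideal.map_map, e, ← Ideal.map_map, Ideal.map_comap_of_surjective uB hus]
    rw [← h1, Ideal.comap_map_of_surjective' _ hr', hrk, ← hf, sup_eq_left.2 (Ideal.map_mono hMI)]
  have hIinv : D.Invariant I := by
    rw [Invariant, key _ _ e1 rfl, key _ _ e2 hMi.symm]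
    exact congrArg (Ideal.comap r.left.appTop.hom) hI'
  have hIN : I ≤ D.N := by
    rw [← hN]
    exact Ideal.comap_mono hle'
  have hIbad : I ∈ Bad → False := fun h => hne' (by
    have : I = M := le_antisymm (hM.2 h hMI) hMI
    rw [← Ideal.map_comap_of_surjective uB hus I', show I'.comap uB = M from this, ← huk]
    exact Ideal.map_eq_bot_iff_le_ker _ |>.2 le_rfl)
  intro Z' z' hz' hz'I
  have hcomp : RepWith @IsClosedImmersion (z' ≫ z) := RepWith.comp hz' hz
  have : D.IsAffMod I := by
    by_contra h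
    exact hIbad ⟨hIinv, hIN, h⟩
  refine this _ _ hcomp ?_
  have sq' := hz'.1.isPullback D'.p
  have sq'' : IsPullback (hz'.1.fst D'.p) ((yon S).map (hz'.1.snd D'.p ≫ u)) (z' ≫ z) D.p := by
    rw [Functor.map_comp]
    exact sq'.paste_vert squ
  have : IsClosedImmersion (hz'.1.snd D'.p).left := hz'.property_snd D'.p
  have : IsAffine (hz'.1.pullback D'.p).left := isAffine_of_isAffineHom (hz'.1.snd D'.p).left
  have hI'' : RingHom.ker (hz'.1.snd D'.p).left.appTop.hom = I' := by
    have h1 := congrArg (fun J => J.ideal ⟨⊤, isAffineOpen_top D'.U.left⟩) hz'I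
    simp [chartIdeal, Scheme.Hom.ker_apply] at h1
    exact h1
  rw [chartIdeal_eq_of_isPullback hcomp sq'', Scheme.ker_of_isAffine, Over.comp_left,
    Scheme.Hom.comp_appTop]
  exact congrArg _ ((RingHom.comap_ker _ _).symm.trans (congrArg (Ideal.comap uB) hI''))

end Data

end Groth.Agent.AlgSpLib.ThickAff
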