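import Groth.Agent.AlgSpLib.ClosedSub
import Groth.Agent.AlgSpLib.CutOut
import Groth.Agent.AlgSpLib.FpqcBaseImm
import Groth.Agent.AlgSpLib.CartesianQuot
import Groth.Agent.AlgSpLib.ThickTop
import Groth.Agent.AlgSpLib.DeformIso
import Groth.Agent.AlgSpLib.ThickAffAlg2
import Groth.Agent.FlatMorDegree.Deg
import Groth.Agent.FSchLib.IdealSheaf
import Groth.Agent.S0440

/-!
Thickenings of affine schemes by algebraic spaces, with an affine chart.
-/

universe u

open CategoryTheory CategoryTheory.Limits AlgebraicGeometry Opposite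
open AlgSp
open scoped TensorProduct

noncomputable section

namespace Groth.Agent.AlgSpLib.ThickAff

set_option backward.isDefEq.respectTransparency.types false

variable {S : Scheme.{u}}

/-- a thickening of an affine scheme with an affine chart -/
structure Data (S : Scheme.{u}) where
  X : Sp S
  X₀ : Over S
  U : Over S
  U₀ : Over S
  i : (yon S).obj X₀ ⟶ X
  p : (yon S).obj U ⟶ X
  π : U₀ ⟶ X₀
  j : U₀ ⟶ U
  hX : IsAlgSpace X
  affX₀ : IsAffine X₀.left
  affU : IsAffine U.left
  thick : IsThickMor i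
  he : RepWith @Etale p
  hs : RepWith @Surjective p
  sq : IsPullback ((yon S).map π) ((yon S).map j) i p

attribute [instance] Data.affX₀ Data.affU

/-- being an affine scheme -/
def IsAff (F : Sp S) : Prop := ∃ T : Over S, IsAffine T.left ∧ Nonempty ((yon S).obj T ≅ F)

namespace Data

variable (D : Data S)

instance closedImmersion_j : IsClosedImmersion D.j.left :=
  ((repWith_yon_map_iff AlgSp.thick D.j).1 (RepWith.baseChange D.sq D.thick)).1

instance surjective_j : Surjective D.j.left :=
  ((repWith_yon_map_iff AlgSp.thick D.j).1 (RepWith.baseChange D.sq D.thick)).2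

instance affU₀ : IsAffine D.U₀.left := isAffine_of_isAffineHom D.j.left

instance etale_π : Etale D.π.left :=
  (repWith_yon_map_iff @Etale D.π).1 (RepWith.baseChange D.sq.flip D.he)

instance surjective_π : Surjective D.π.left :=
  (repWith_yon_map_iff @Surjective D.π).1 (RepWith.baseChange D.sq.flip D.hs)

theorem epi_p : Epi D.p := epi_of_etale_surjective D.he D.hs

/-- all fibres of the chart have degree at least `d` -/
def DegLow (d : ℕ) : Prop := ∀ x : D.X₀.left, FlatMorDegree.degGE D.π.left x d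

/-- an open of the reduction over which the space is affine -/
def GoodOn (V : Set D.X₀.left) : Prop :=
  ∃ (T : Over S) (a : (yon S).obj T ⟶ D.X), IsAffine T.left ∧ RepWith @IsOpenImmersion a ∧
    Set.range (Points.map a) = Points.map D.i '' (Points.ofScheme D.X₀ '' V)

/-- the space is affine near the points of degree above `d` -/
def GoodAbove (d : ℕ) : Prop := ∀ x : D.X₀.left, FlatMorDegree.degGE D.π.left x (d + 1) →
  ∃ g : Γ(D.X₀.left, ⊤), x ∈ D.X₀.left.basicOpen g ∧ D.GoodOn (D.X₀.left.basicOpen g : Set D.X₀.left)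

/-- the relation -/
def R : Over S := D.he.1.pullback D.p

/-- first projection -/
def t : D.R ⟶ D.U := D.he.1.fst' D.p

/-- second projection -/
def s : D.R ⟶ D.U := D.he.1.snd D.p

theorem sqR : IsPullback ((yon S).map D.t) ((yon S).map D.s) D.p D.p := D.he.1.isPullback' D.p

instance etale_t : Etale D.t.left := D.he.property _ _ _ D.sqR.flip

instance etale_s : Etale D.s.left := D.he.property _ _ _ D.sqR

/-- the reduced relation -/
def R₀ : Over S := pullback D.π D.π

/-- first projection -/
def t₀ : D.R₀ ⟶ D.U₀ := pullback.fst _ _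

/-- second projection -/
def s₀ : D.R₀ ⟶ D.U₀ := pullback.snd _ _

theorem sqR₀ : IsPullback D.t₀ D.s₀ D.π D.π := IsPullback.of_hasPullback _ _

theorem exists_k : ∃ k : D.R₀ ⟶ D.R, k ≫ D.t = D.t₀ ≫ D.j ∧ k ≫ D.s = D.s₀ ≫ D.j := by
  obtain ⟨k, hk⟩ := (yon S).map_surjective (D.sqR.lift ((yon S).map (D.t₀ ≫ D.j)) ((yon S).map (D.s₀ ≫ D.j)) (by
    rw [Functor.map_comp, Functor.map_comp, Category.assoc, Category.assoc, ← D.sq.w, ← Functor.map_comp_assoc,
      ← Functor.map_comp_assoc, D.sqR₀.w]))
  exact ⟨k, (yon S).map_injective (by rw [Functor.map_comp, hk, D.sqR.lift_fst]),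
    (yon S).map_injective (by rw [Functor.map_comp, hk, D.sqR.lift_snd])⟩

/-- the inclusion of the reduced relation -/
def k : D.R₀ ⟶ D.R := D.exists_k.choose

theorem k_t : D.k ≫ D.t = D.t₀ ≫ D.j := D.exists_k.choose_spec.1

theorem k_s : D.k ≫ D.s = D.s₀ ≫ D.j := D.exists_k.choose_spec.2

theorem sqk : IsPullback D.t₀.left D.k.left D.j.left D.t.left := by
  have h1 := ((D.sqR₀.map (yon S)).paste_vert D.sq)
  have h2 : IsPullback ((yon S).map D.t₀) ((yon S).map D.k ≫ (yon S).map D.s) ((yon S).map D.j ≫ D.p) D.p := by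
    rw [← Functor.map_comp, D.k_s, Functor.map_comp, ← D.sq.w]
    exact h1
  exact (isPullback_of_map_yon (IsPullback.of_bot h2
    (by rw [← Functor.map_comp, ← Functor.map_comp, D.k_t]) D.sqR)).map (Over.forget S)

instance affR₀ : IsAffine D.R₀.left := by
  have h : IsPullback D.t₀.left D.s₀.left D.π.left D.π.left := D.sqR₀.map (Over.forget S)
  exact IsAffine.of_isIso h.isoPullback.hom

instance closedImmersion_k : IsClosedImmersion D.k.left :=
  MorphismProperty.of_isPullback (P := @IsClosedImmersion) D.sqk D.closedImmersion_j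

instance surjective_k : Surjective D.k.left :=
  MorphismProperty.of_isPullback (P := @Surjective) D.sqk D.surjective_j

instance affR : IsAffine D.R.left := Groth.Agent.S0440.result D.k.left D.k.left.surjective

/-- composable pairs -/
def R₂ : Over S := pullback D.s D.t

/-- first of a pair -/
def p₁ : D.R₂ ⟶ D.R := pullback.fst _ _

/-- second of a pair -/
def p₂ : D.R₂ ⟶ D.R := pullback.snd _ _

theorem sqR₂ : IsPullback D.p₁ D.p₂ D.s D.t := IsPullback.of_hasPullback _ _

theorem sqR₂' : IsPullback D.p₁.left D.p₂.left D.s.left D.t.left := D.sqR₂.map (Over.forget S)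

instance affR₂ : IsAffine D.R₂.left := IsAffine.of_isIso D.sqR₂'.isoPullback.hom

theorem exists_comp : ∃ m : D.R₂ ⟶ D.R, m ≫ D.t = D.p₁ ≫ D.t ∧ m ≫ D.s = D.p₂ ≫ D.s := by
  obtain ⟨m, hm⟩ := (yon S).map_surjective (D.sqR.lift ((yon S).map (D.p₁ ≫ D.t)) ((yon S).map (D.p₂ ≫ D.s)) (by
    rw [Functor.map_comp, Functor.map_comp, Category.assoc, Category.assoc, D.sqR.w, ← Functor.map_comp_assoc,
      D.sqR₂.w, Functor.map_comp_assoc, D.sqR.w]))
  exact ⟨m, (yon S).map_injective (by rw [Functor.map_comp, hm, D.sqR.lift_fst]),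
    (yon S).map_injective (by rw [Functor.map_comp, hm, D.sqR.lift_snd])⟩

theorem exists_diag : ∃ e : D.U ⟶ D.R, e ≫ D.t = 𝟙 _ ∧ e ≫ D.s = 𝟙 _ := by
  obtain ⟨e, he⟩ := (yon S).map_surjective (D.sqR.lift (𝟙 _) (𝟙 _) rfl)
  exact ⟨e, (yon S).map_injective (by rw [Functor.map_comp, he, D.sqR.lift_fst, (yon S).map_id]),
    (yon S).map_injective (by rw [Functor.map_comp, he, D.sqR.lift_snd, (yon S).map_id])⟩

theorem exists_swap : ∃ σ : D.R ⟶ D.R, σ ≫ D.t = D.s ∧ σ ≫ D.s = D.t := by
  obtain ⟨σ, hσ⟩ := (yon S).map_surjective (D.sqR.lift ((yon S).map D.s) ((yon S).map D.t) D.sqR.w.symm)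
  exact ⟨σ, (yon S).map_injective (by rw [Functor.map_comp, hσ, D.sqR.lift_fst]),
    (yon S).map_injective (by rw [Functor.map_comp, hσ, D.sqR.lift_snd])⟩

/-! rings -/

/-- functions on the chart -/
abbrev B : Type u := Γ(D.U.left, ⊤)

/-- functions on the relation -/
abbrev C : Type u := Γ(D.R.left, ⊤)

/-- first pullback of functions -/
abbrev tR : D.B →+* D.C := D.t.left.appTop.hom

/-- second pullback of functions -/
abbrev sR : D.B →+* D.C := D.s.left.appTop.hom

/-- the ideal of the reduction -/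
abbrev N : Ideal D.B := RingHom.ker D.j.left.appTop.hom

/-- invariance of an ideal -/
def Invariant (I : Ideal D.B) : Prop := I.map D.tR = I.map D.sR

theorem flat_tR : D.tR.Flat := HasRingHomProperty.appTop (P := @Flat) D.t.left inferInstance

theorem flat_sR : D.sR.Flat := HasRingHomProperty.appTop (P := @Flat) D.s.left inferInstance

theorem surjective_jR : Function.Surjective D.j.left.appTop.hom :=
  ((isClosedImmersion_iff_isAffineHom.mp D.closedImmersion_j).2 ⊤ (isAffineOpen_top _))

theorem surjective_kR : Function.Surjective D.k.left.appTop.hom :=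
  ((isClosedImmersion_iff_isAffineHom.mp D.closedImmersion_k).2 ⊤ (isAffineOpen_top _))

theorem isNilpotent_of_mem_N {x : D.B} (hx : x ∈ D.N) : IsNilpotent x := by
  have h : D.j.left ⁻¹ᵁ D.U.left.basicOpen x = ⊥ := by
    rw [Scheme.preimage_basicOpen]
    show D.U₀.left.basicOpen (D.j.left.appTop x) = ⊥
    rw [RingHom.mem_ker.1 hx, Scheme.basicOpen_zero]
  have h' : D.U.left.basicOpen x = ⊥ := le_bot_iff.1 fun y hy => by
    obtain ⟨z, rfl⟩ := D.j.left.surjective y
    have hz : z ∈ D.j.left ⁻¹ᵁ D.U.left.basicOpen x := hy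
    rw [h] at hz
    exact hz
  exact (Scheme.isNilpotent_iff_basicOpen_eq_bot_of_isCompact isCompact_univ x).2 h'

theorem ker_of_isPushout {B B₀ C C₀ : Type u} [CommRing B] [CommRing B₀] [CommRing C] [CommRing C₀]
    {q : B →+* B₀} {f : B →+* C} {r : C →+* C₀} {g : B₀ →+* C₀}
    (h : IsPushout (CommRingCat.ofHom q) (CommRingCat.ofHom f) (CommRingCat.ofHom g) (CommRingCat.ofHom r))
    (hq : Function.Surjective q) : RingHom.ker r = (RingHom.ker q).map f := by
  refine le_antisymm (fun c hc => ?_) (Ideal.map_le_iff_le_comap.2 fun b hb => ?_)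
  · let J := (RingHom.ker q).map f
    let φ : B₀ →+* C ⧸ J := q.liftOfSurjective hq ⟨(Ideal.Quotient.mk J).comp f, fun b hb =>
      Ideal.Quotient.eq_zero_iff_mem.2 (Ideal.mem_map_of_mem f hb)⟩
    have hw : CommRingCat.ofHom q ≫ CommRingCat.ofHom φ =
        CommRingCat.ofHom f ≫ CommRingCat.ofHom (Ideal.Quotient.mk J) := by
      ext b
      show φ (q b) = Ideal.Quotient.mk J (f b)
      exact RingHom.liftOfRightInverse_comp_apply (C := C ⧸ J) q _ (Function.rightInverse_surjInv hq) _ b
    have h2 := congr($(h.inr_desc _ _ hw).hom c)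
    rw [← Ideal.Quotient.eq_zero_iff_mem]
    refine h2.symm.trans ?_
    show (h.desc _ _ hw).hom (r c) = 0
    rw [RingHom.mem_ker.1 hc, map_zero]
  · show r (f b) = 0
    rw [show r (f b) = g (q b) from congr($(h.w).hom b).symm, RingHom.mem_ker.1 hb, map_zero]

theorem ker_kR : RingHom.ker D.k.left.appTop.hom = D.N.map D.tR :=
  ker_of_isPushout (isPushout_appTop_of_isPullback D.sqk) D.surjective_jR

theorem sqk' : IsPullback D.s₀.left D.k.left D.j.left D.s.left := by
  have h1 := ((D.sqR₀.flip.map (yon S)).paste_vert D.sq)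
  have h2 : IsPullback ((yon S).map D.s₀) ((yon S).map D.k ≫ (yon S).map D.t) ((yon S).map D.j ≫ D.p) D.p := by
    rw [← Functor.map_comp, D.k_t, Functor.map_comp, ← D.sq.w]
    exact h1
  exact (isPullback_of_map_yon (IsPullback.of_bot h2
    (by rw [← Functor.map_comp, ← Functor.map_comp, D.k_s]) D.sqR.flip)).map (Over.forget S)

theorem invariant_N : D.Invariant D.N :=
  D.ker_kR.symm.trans (ker_of_isPushout (isPushout_appTop_of_isPullback D.sqk') D.surjective_jR)

theorem invariant_bot : D.Invariant (⊥ : Ideal D.B) := by simp [Invariant]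

/-- functions on the reduction -/
abbrev A₀ : Type u := Γ(D.X₀.left, ⊤)

/-- functions on the reduced chart -/
abbrev B₀ : Type u := Γ(D.U₀.left, ⊤)

instance algB₀ : Algebra D.A₀ D.B₀ := D.π.left.appTop.hom.toAlgebra

instance faithfullyFlat_B₀ : Module.FaithfullyFlat D.A₀ D.B₀ :=
  (Flat.flat_and_surjective_iff_faithfullyFlat_of_isAffine D.π.left).1 ⟨inferInstance, inferInstance⟩

theorem exists_reduced_relation :
    ∃ r : D.C →+* D.B₀ ⊗[D.A₀] D.B₀, Function.Surjective r ∧ RingHom.ker r = D.N.map D.tR ∧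
      r.comp D.tR = Algebra.TensorProduct.includeLeftRingHom.comp D.j.left.appTop.hom ∧
      r.comp D.sR =
        (Algebra.TensorProduct.includeRight : D.B₀ →ₐ[D.A₀] D.B₀ ⊗[D.A₀] D.B₀).toRingHom.comp
          D.j.left.appTop.hom := by
  have h1 : IsPushout D.π.left.appTop D.π.left.appTop D.t₀.left.appTop D.s₀.left.appTop :=
    isPushout_appTop_of_isPullback (D.sqR₀.map (Over.forget S))
  have h2 : IsPushout D.π.left.appTop D.π.left.appTop
      (CommRingCat.ofHom (Algebra.TensorProduct.includeLeftRingHom : D.B₀ →+* D.B₀ ⊗[D.A₀] D.B₀))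
      (CommRingCat.ofHom (Algebra.TensorProduct.includeRight : D.B₀ →ₐ[D.A₀] D.B₀ ⊗[D.A₀] D.B₀).toRingHom) :=
    CommRingCat.isPushout_tensorProduct D.A₀ D.B₀ D.B₀
  let e := h1.isoIsPushout _ _ h2
  refine ⟨e.hom.hom.comp D.k.left.appTop.hom, ?_, ?_, ?_, ?_⟩
  · exact (ConcreteCategory.bijective_of_isIso e.hom).2.comp D.surjective_kR
  · rw [← D.ker_kR]
    refine le_antisymm (fun c hc => ?_) (fun c hc => ?_)
    · refine RingHom.mem_ker.2 ((ConcreteCategory.bijective_of_isIso e.hom).1 ?_)
      rw [map_zero]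
      exact hc
    · show e.hom (D.k.left.appTop c) = 0
      rw [RingHom.mem_ker.1 hc, map_zero]
  · refine congrArg CommRingCat.Hom.hom (show D.t.left.appTop ≫ D.k.left.appTop ≫ e.hom = D.j.left.appTop ≫ _ from ?_)
    rw [← Category.assoc, ← Scheme.Hom.comp_appTop, ← Over.comp_left, D.k_t, Over.comp_left, Scheme.Hom.comp_appTop,
      Category.assoc, IsPushout.inl_isoIsPushout_hom]
    rfl
  · refine congrArg CommRingCat.Hom.hom (show D.s.left.appTop ≫ D.k.left.appTop ≫ e.hom = D.j.left.appTop ≫ _ from ?_)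
    rw [← Category.assoc, ← Scheme.Hom.comp_appTop, ← Over.comp_left, D.k_s, Over.comp_left, Scheme.Hom.comp_appTop,
      Category.assoc, IsPushout.inr_isoIsPushout_hom]
    rfl

theorem ofIdealTop_comap {U R : Scheme.{u}} [IsAffine U] [IsAffine R] (f : R ⟶ U) (I : Ideal Γ(U, ⊤)) :
    (Scheme.IdealSheafData.ofIdealTop I).comap f = Scheme.IdealSheafData.ofIdealTop (I.map f.appTop.hom) := by
  refine Scheme.IdealSheafData.ext_of_isAffine ?_
  rw [appLE_top_comap]
  simp

/-- the closed subspace of an invariant ideal, as a thickening -/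
theorem exists_restrict (I : Ideal D.B) (hI : D.Invariant I) (hle : I ≤ D.N) :
    ∃ (D' : Data S) (z : D'.X ⟶ D.X) (hz : RepWith @IsClosedImmersion z),
      chartIdeal hz D.p = Scheme.IdealSheafData.ofIdealTop I ∧
      (∃ (u : D'.U ⟶ D.U), IsPullback D'.p ((yon S).map u) z D.p ∧ u.left.ker = Scheme.IdealSheafData.ofIdealTop I ∧
        D'.N.comap u.left.appTop.hom = D.N) ∧
      (∀ d, D.DegLow d → D'.DegLow d) ∧ (∀ d, D.GoodAbove d → D'.GoodAbove d) := by
  obtain ⟨Z, z, hz, hZ, hzI⟩ := exists_closedSub D.hX D.he D.hs (Scheme.IdealSheafData.ofIdealTop I)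
    (fun T x y h => by
      obtain ⟨l, hl⟩ := (yon S).map_surjective (D.sqR.lift ((yon S).map x) ((yon S).map y) h)
      have hx : l ≫ D.t = x := (yon S).map_injective (by rw [Functor.map_comp, hl, D.sqR.lift_fst])
      have hy : l ≫ D.s = y := (yon S).map_injective (by rw [Functor.map_comp, hl, D.sqR.lift_snd])
      rw [← hx, ← hy, Over.comp_left, Over.comp_left, Scheme.IdealSheafData.comap_comp,
        Scheme.IdealSheafData.comap_comp, ofIdealTop_comap D.t.left, ofIdealTop_comap D.s.left]
      exact congrArg (fun J => (Scheme.IdealSheafData.ofIdealTop J).comap l.left) hI)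
  have hm := mono_closedImmersion hz
  have hje : chartIdeal hz D.p ≤ D.j.left.ker := by
    rw [hzI, ← comap_eq_bot_iff_le_ker, ofIdealTop_comap,
      show I.map D.j.left.appTop.hom = ⊥ from (Ideal.map_eq_bot_iff_le_ker _).2 hle]
    exact Scheme.IdealSheafData.ext_of_isAffine (by simp)
  obtain ⟨i', hi'⟩ := (factors_iff_of_chart hz ((repWith_yon_map_iff @Etale D.π).2 D.etale_π)
    ((repWith_yon_map_iff @Surjective D.π).2 D.surjective_π) D.j D.sq.w).2 hje
  let u := hz.1.snd D.p
  have sqz := hz.1.isPullback D.p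
  have : IsClosedImmersion u.left := hz.property_snd D.p
  obtain ⟨j', hj'⟩ := (yon S).map_surjective (sqz.lift ((yon S).map D.π ≫ i') ((yon S).map D.j) (by
    rw [Category.assoc, hi', D.sq.w]))
  have hju : j' ≫ u = D.j := (yon S).map_injective (by rw [Functor.map_comp, hj', sqz.lift_snd])
  have sqi : IsPullback (𝟙 _) i' D.i z := by
    refine ⟨⟨by rw [Category.id_comp, hi']⟩, ⟨PullbackCone.IsLimit.mk _ (fun c => c.fst)
      (fun c => Category.comp_id _) (fun c => ?_) (fun c m h1 _ => by simpa using h1)⟩⟩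
    rw [← cancel_mono z, Category.assoc, hi', c.condition]
  have sq' : IsPullback ((yon S).map D.π) ((yon S).map j') i' (hz.1.fst D.p) := by
    have h := D.sq.flip
    rw [← hju, Functor.map_comp, ← hi'] at h
    exact (IsPullback.of_right h (by rw [hj', sqz.lift_fst]) sqz.flip).flip
  let D' : Data S :=
    { X := Z
      X₀ := D.X₀
      U := hz.1.pullback D.p
      U₀ := D.U₀
      i := i'
      p := hz.1.fst D.p
      π := D.π
      j := j'
      hX := hZ
      affX₀ := inferInstance
      affU := isAffine_of_isAffineHom u.left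
      thick := RepWith.baseChange sqi D.thick
      he := RepWith.baseChange sqz.flip D.he
      hs := RepWith.baseChange sqz.flip D.hs
      sq := sq' }
  refine ⟨D', z, hz, hzI, ⟨u, sqz, hzI, ?_⟩, fun d h => h, fun d h x hx => ?_⟩
  · show (RingHom.ker j'.left.appTop.hom).comap u.left.appTop.hom = RingHom.ker D.j.left.appTop.hom
    rw [RingHom.comap_ker, ← hju, Over.comp_left, Scheme.Hom.comp_appTop]
    rfl
  obtain ⟨g, hg, T, a, hT, ha, har⟩ := h x hx
  refine ⟨g, hg, ?_⟩
  have sqa := hz.1.isPullback a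
  have : IsClosedImmersion (hz.1.snd a).left := hz.property_snd a
  refine ⟨hz.1.pullback a, hz.1.fst a, isAffine_of_isAffineHom (hz.1.snd a).left,
    RepWith.baseChange sqa.flip ha, ?_⟩
  rw [← range_map_preimage sqa.flip, har]
  show Points.map z ⁻¹' (Points.map D.i '' _) = Points.map i' '' _
  have hzj : Function.Injective (Points.map z) := injective_map_of_mono z
  rw [← hi']
  ext w
  constructor
  · rintro ⟨y, hy, e⟩
    exact ⟨y, hy, hzj (by rw [← Points.map_comp]; exact e)⟩
  · rintro ⟨y, hy, rfl⟩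
    exact ⟨y, hy, Points.map_comp _ _ _⟩

end Data

end Groth.Agent.AlgSpLib.ThickAff
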