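import Groth.Agent.AlgSpLib.FlatFibre
import Groth.Prelude.Def_AlgSpInf

/-!
Thickenings: field points lift, and the fibres are unchanged.
-/

universe u

open CategoryTheory CategoryTheory.Limits AlgebraicGeometry
open AlgSp

noncomputable section

namespace Groth.Agent.AlgSpLib

set_option backward.isDefEq.respectTransparency.types false

variable {S : Scheme.{u}}

/-- a point with values in a reduced scheme lifts through a thickening -/
theorem exists_lift_thick {B B' : Sp S} {i : B ⟶ B'} (hi : IsThickMor i) {T : Over S} [IsReduced T.left]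
    (z : (yon S).obj T ⟶ B') : ∃ z₀ : (yon S).obj T ⟶ B, z₀ ≫ i = z := by
  have hp := hi.property_snd z
  have : IsClosedImmersion (hi.rep.snd z).left := hp.1
  have : Surjective (hi.rep.snd z).left := hp.2
  have : IsIso (hi.rep.snd z).left := isIso_of_isClosedImmersion_of_surjective _
  have : IsIso ((Over.forget S).map (hi.rep.snd z)) := ‹IsIso (hi.rep.snd z).left›
  have : IsIso (hi.rep.snd z) := isIso_of_reflects_iso _ (Over.forget S)
  refine ⟨(yon S).map (inv (hi.rep.snd z)) ≫ hi.rep.fst z, ?_⟩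
  rw [Category.assoc, hi.rep.w z, ← Category.assoc, ← Functor.map_comp, IsIso.inv_hom_id,
    CategoryTheory.Functor.map_id, Category.id_comp]

theorem flatOnFibres_of_thick {X X' Y Y' B B' : Sp S} (hX : IsAlgSpace X) (hY : IsAlgSpace Y)
    (hB : IsAlgSpace B) {iX : X ⟶ X'} {iY : Y ⟶ Y'} {iB : B ⟶ B'} {f : X ⟶ Y} {f' : X' ⟶ Y'}
    {g : Y ⟶ B} {g' : Y' ⟶ B'} (hcX : IsPullback iX (f ≫ g) (f' ≫ g') iB) (hcY : IsPullback iY g g' iB)
    (w : iX ≫ f' = f ≫ iY) (hi : IsThickMor iB) (hf : LocP @Flat f) :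
    FlatOnFibres f' g' := by
  intro K _ sK z Xz Yz pX qX pY qY fz sX sY e1 e2
  have : IsReduced (Over.mk sK).left := inferInstanceAs (IsReduced (Spec (CommRingCat.of K)))
  obtain ⟨z₀, hz₀⟩ := exists_lift_thick hi z
  let a : Xz ⟶ X := hcX.lift pX (qX ≫ z₀) (by rw [sX.w, Category.assoc, hz₀])
  let b : Yz ⟶ Y := hcY.lift pY (qY ≫ z₀) (by rw [sY.w, Category.assoc, hz₀])
  have sa : IsPullback a qX (f ≫ g) z₀ :=
    IsPullback.of_right (h₁₂ := iX) (by rw [hcX.lift_fst, hz₀]; exact sX) (hcX.lift_snd _ _ _) hcX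
  have sb : IsPullback b qY g z₀ :=
    IsPullback.of_right (h₁₂ := iY) (by rw [hcY.lift_fst, hz₀]; exact sY) (hcY.lift_snd _ _ _) hcY
  have e3 : a ≫ f = fz ≫ b := by
    refine hcY.hom_ext ?_ ?_
    · rw [Category.assoc, ← w, ← Category.assoc, hcX.lift_fst, Category.assoc, hcY.lift_fst, e1]
    · rw [Category.assoc, hcX.lift_snd, Category.assoc, hcY.lift_snd, ← Category.assoc, e2]
  have sq : IsPullback a fz f b := IsPullback.of_bot (by rw [e2]; exact sa) e3 sb
  have hK := IsAlgSpace.yon_obj (Over.mk sK)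
  exact locP_of_isPullback etLocal_flat hX hY (isAlgSpace_of_isPullback hB.diag hX hK sa) sq hf

theorem flat_stalk_of_thick_fp {X Y Z : Sp S} {f : X ⟶ Y} {g : Y ⟶ Z} (C : Charts f g)
    (hg : LocP @LocallyOfFiniteType g) (hfl : LocP @Flat (f ≫ g))
    (hfp : LocP @LocallyOfFinitePresentation (f ≫ g)) (hfib : FlatOnFibres f g) (u : ↥C.U.left) :
    (C.h.left.stalkMap u).hom.Flat ∧ (C.k.left.stalkMap (C.h.left u)).hom.Flat := by
  have : LocallyOfFiniteType C.k.left := lft_chart C hg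
  have : LocallyOfFinitePresentation (C.h.left ≫ C.k.left) := lfp_flat_chart C hfp
  have : Flat (C.h.left ≫ C.k.left) := lfp_flat_chart C hfl
  exact EGA43.Cons.flat_stalkMap_of_isFibFlatMorAt C.h.left C.k.left u (Flat.stalkMap _ u)
    (isFibFlatMorAt_chart C hfib u)

theorem isFlatAtMor_image_of_chart {X Y Z : Sp S} (hY : IsAlgSpace Y) (hZ : IsAlgSpace Z) {f : X ⟶ Y}
    {g : Y ⟶ Z} (C : Charts f g) (hu : ∀ u : ↥C.U.left, (C.k.left.stalkMap (C.h.left u)).hom.Flat)
    (x : Points X) : IsFlatAtMor g (Points.map f x) := by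
  obtain ⟨u, rfl⟩ := surjective_ofPt C.a C.a_surj x
  rw [Points.map_ofPt, C.wf, ofPt_map]
  exact (isFlatAtMor_iff hY hZ g C.b C.c C.k C.b_etale C.c_etale C.wg _).2 (hu u)

end Groth.Agent.AlgSpLib
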