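import Groth.Agent.AlgSpLib.DeformIso
import Groth.Agent.AlgSpLib.DeformNilp
import Groth.Agent.AlgSpLib.ThickTop
import Groth.Agent.AlgSpLib.FpqcBaseAffine2
import Groth.Agent.AlgSpLib.MorProper
import Groth.Agent.AlgSpLib.MorQC

/-!
Closed immersions, immersions, finite and proper morphisms along a cartesian square of thickenings.
-/

universe u

open CategoryTheory CategoryTheory.Limits AlgebraicGeometry
open AlgSp

noncomputable section

namespace Groth.Agent.AlgSpLib

set_option backward.isDefEq.respectTransparency.types false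

section Sch

variable {U V U₀ V₀ : Scheme.{u}} {jU : U₀ ⟶ U} {h₀ : U₀ ⟶ V₀} {h : U ⟶ V} {jV : V₀ ⟶ V}

theorem isImmersion_of_thick (sq : IsPullback jU h₀ h jV) [IsClosedImmersion jV] [Surjective jV]
    [LocallyOfFiniteType h] [IsImmersion h₀] : IsImmersion h := by
  let φ := (isHomeomorph_iff_isEmbedding_surjective.2 ⟨jV.isEmbedding, jV.surjective⟩).homeomorph
  let O : V.Opens := ⟨φ '' (h₀.coborderRange : Set ↥V₀), φ.isOpenMap _ h₀.coborderRange.2⟩
  have hsU := surjective_left_of_thick sq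
  have hw : ∀ x, jV (h₀ x) = h (jU x) := fun x => congrArg (fun k : U₀ ⟶ V => k x) sq.w.symm
  have hr : Set.range h ⊆ (O : Set ↥V) := by
    rintro _ ⟨y, rfl⟩
    obtain ⟨x, rfl⟩ := jU.surjective y
    refine ⟨h₀ x, ?_, hw x⟩
    exact subset_coborder ⟨x, rfl⟩
  have hO : jV ⁻¹ᵁ O = h₀.coborderRange := TopologicalSpace.Opens.ext
    (φ.injective.preimage_image (h₀.coborderRange : Set ↥V₀))
  let h' := IsOpenImmersion.lift O.ι h (by rw [Scheme.Opens.range_ι]; exact hr)
  have hh' : h' ≫ O.ι = h := IsOpenImmersion.lift_fac _ _ _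
  let k₀ : U₀ ⟶ (jV ⁻¹ᵁ O).toScheme := IsOpenImmersion.lift (jV ⁻¹ᵁ O).ι h₀ (by
    rw [Scheme.Opens.range_ι, hO]; exact subset_coborder)
  have hk₀ : k₀ ≫ (jV ⁻¹ᵁ O).ι = h₀ := IsOpenImmersion.lift_fac _ _ _
  have : LocallyOfFiniteType (h' ≫ O.ι) := by rw [hh']; infer_instance
  have := locallyOfFiniteType_of_comp h' O.ι
  have : IsImmersion (k₀ ≫ (jV ⁻¹ᵁ O).ι) := by rw [hk₀]; infer_instance
  have : IsImmersion k₀ := IsImmersion.of_comp k₀ (jV ⁻¹ᵁ O).ι
  have : IsClosedImmersion k₀ := by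
    refine .of_isPreimmersion _ ?_
    have : Set.range k₀ = (jV ⁻¹ᵁ O).ι ⁻¹' Set.range h₀ := by
      rw [← hk₀, Scheme.Hom.comp_base, TopCat.coe_comp, Set.range_comp,
        (jV ⁻¹ᵁ O).ι.injective.preimage_image]
    rw [this]
    have h1 := h₀.isLocallyClosed_range
    let ι : ↥(jV ⁻¹ᵁ O) → ↥V₀ := (↑)
    have h2 : IsClosed ((↑) ⁻¹' Set.range h₀ : Set ↥(coborder (Set.range h₀))) := isClosed_preimage_val_coborder
    obtain ⟨C, hC, hC'⟩ := isClosed_induced_iff.1 h2
    refine ⟨?_⟩
    rw [show ((jV ⁻¹ᵁ O).ι ⁻¹' Set.range h₀)ᶜ = (jV ⁻¹ᵁ O).ι ⁻¹' Cᶜ from ?_]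
    · exact hC.isOpen_compl.preimage (jV ⁻¹ᵁ O).ι.continuous
    · ext z
      have hz : (jV ⁻¹ᵁ O).ι z ∈ coborder (Set.range h₀) := (hO ▸ z.2 : z.1 ∈ h₀.coborderRange)
      exact not_congr (Set.ext_iff.1 hC' ⟨_, hz⟩).symm
  have sq' : IsPullback jU k₀ h' (jV ∣_ O) := by
    refine IsPullback.of_bot ?_ ?_ (isPullback_morphismRestrict jV O)
    · rw [hh', hk₀]; exact sq
    · rw [← cancel_mono O.ι, Category.assoc, hh', Category.assoc, morphismRestrict_ι, ← Category.assoc,
        hk₀]
      exact sq.w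
  have : IsClosedImmersion (jV ∣_ O) := inferInstance
  have : Surjective (jV ∣_ O) := MorphismProperty.of_isPullback (isPullback_morphismRestrict jV O).flip
    ‹Surjective jV›
  have : Mono h' := mono_of_thick sq'
  have : IsClosedImmersion h' := closedImmersion_of_thick sq'
  rw [← hh']
  infer_instance

end Sch

variable {S : Scheme.{u}} {X X' Y Y' : Space.{u} S} {iX : X ⟶ X'} {iY : Y ⟶ Y'} {f : X ⟶ Y} {f' : X' ⟶ Y'}

/-- descent of immersive properties along a cartesian thickening -/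
theorem repWith_immersive_of_thick (sq : IsPullback iX.hom f.hom f'.hom iY.hom) (hi : IsThickMor iY.hom)
    (hft : LocP @LocallyOfFiniteType f'.hom) {P Q : MorphismProperty Scheme.{u}} (hf : RepWith P f.hom)
    (hP : ∀ ⦃A B : Scheme.{u}⦄ (g : A ⟶ B), P g → IsSeparated g ∧ LocallyQuasiFinite g ∧ LocallyOfFiniteType g)
    (key : ∀ ⦃U V U₀ V₀ : Scheme.{u}⦄ (jU : U₀ ⟶ U) (h₀ : U₀ ⟶ V₀) (h : U ⟶ V) (jV : V₀ ⟶ V),
      IsPullback jU h₀ h jV → IsClosedImmersion jV → Surjective jV → LocallyOfFiniteType h →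
        IsSeparated h → P h₀ → Q h) :
    RepWith Q f'.hom := by
  have hX := X.property; have hX' := X'.property; have hY := Y.property; have hY' := Y'.property
  have hsep : IsSeparatedMor f.hom := (repWith_diagonal_iff hf.1).2 (RepWith.mono (fun _ _ g h => by
    have : IsSeparated g := (hP g h).1
    exact (inferInstance : IsClosedImmersion (pullback.diagonal g))) hf)
  have hsep' := isSeparatedMor_of_thick hX' sq hi hsep
  obtain ⟨U, V, a, b, h, hae, has, hbe, hbs, w⟩ : ∃ (U V : Over S) (a : (yon S).obj U ⟶ X'.obj)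
      (b : (yon S).obj V ⟶ Y'.obj) (h : U ⟶ V), RepWith @Etale a ∧ RepWith @Surjective a ∧ RepWith @Etale b ∧
        RepWith @Surjective b ∧ a ≫ f'.hom = (yon S).map h ≫ b := by
    obtain ⟨V, b, hbe, hbs⟩ := hY'.atlas
    obtain ⟨U, a, h, hae, has, w⟩ := exists_chart_over hX' hY' f'.hom b hbe hbs
    exact ⟨U, V, a, b, h, hae, has, hbe, hbs, w⟩
  obtain ⟨D, -, -⟩ := exists_thickChart sq hi a b h hae has hbe hbs w
  have hlqf : LocP (@LocallyQuasiFinite ⊓ @LocallyOfFiniteType) f'.hom :=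
    (D.lqf_iff hX hX' fun _ => hft).1 (locP_of_repWith etLocal_lqf hX
      (RepWith.mono (fun _ _ g h => ⟨(hP g h).2.1, (hP g h).2.2⟩) hf))
  have hr : Representable f'.hom := representable_of_lqf_separated' hX' hY' f'.hom hsep' hlqf
  refine repWith_of_thick sq hi (RepWith.and ((repWith_iff_locP etLocal_lft hX' hY' hr).2 hft)
    ((repWith_diagonal_iff hr).1 hsep')) hf fun U V U₀ V₀ jU h₀ h jV s h4 h5 hR h0 => ?_
  exact key jU h₀ h jV s h4 h5 hR.1 ⟨hR.2⟩ h0

theorem closedImmersion_iff_of_thick (sq : IsPullback iX.hom f.hom f'.hom iY.hom) (hi : IsThickMor iY.hom)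
    (hft : LocP @LocallyOfFiniteType f.hom → LocP @LocallyOfFiniteType f'.hom) :
    RepWith @IsClosedImmersion f.hom ↔ RepWith @IsClosedImmersion f'.hom := by
  refine ⟨fun hf => repWith_immersive_of_thick sq hi
    (hft (locP_of_repWith etLocal_lft X.property (RepWith.mono (fun _ _ g (_ : IsClosedImmersion g) =>
      (inferInstance : LocallyOfFiniteType g)) hf))) hf
    (fun _ _ g (_ : IsClosedImmersion g) => ⟨inferInstance, inferInstance, inferInstance⟩) ?_,
    fun h => RepWith.baseChange sq h⟩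
  intro U V U₀ V₀ jU h₀ h jV s _ _ _ _ (_ : IsClosedImmersion h₀)
  have : Mono h := mono_of_thick s
  exact closedImmersion_of_thick s

theorem immersion_iff_of_thick (sq : IsPullback iX.hom f.hom f'.hom iY.hom) (hi : IsThickMor iY.hom)
    (hft : LocP @LocallyOfFiniteType f.hom → LocP @LocallyOfFiniteType f'.hom) :
    RepWith @IsImmersion f.hom ↔ RepWith @IsImmersion f'.hom := by
  refine ⟨fun hf => repWith_immersive_of_thick sq hi
    (hft (locP_of_repWith etLocal_lft X.property (RepWith.mono (fun _ _ g (_ : IsImmersion g) =>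
      (inferInstance : LocallyOfFiniteType g)) hf))) hf
    (fun _ _ g (_ : IsImmersion g) => ⟨inferInstance, inferInstance, inferInstance⟩) ?_,
    fun h => RepWith.baseChange sq h⟩
  intro U V U₀ V₀ jU h₀ h jV s _ _ _ _ (_ : IsImmersion h₀)
  exact isImmersion_of_thick s

theorem finite_iff_of_thick (sq : IsPullback iX.hom f.hom f'.hom iY.hom) (hi : IsThickMor iY.hom)
    (hft : LocP @LocallyOfFiniteType f.hom → LocP @LocallyOfFiniteType f'.hom) :
    IsFiniteMor f.hom ↔ IsFiniteMor f'.hom := by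
  rw [isFiniteMor_iff_repWith, isFiniteMor_iff_repWith]
  refine ⟨fun hf => repWith_immersive_of_thick sq hi
    (hft (locP_of_repWith etLocal_lft X.property (RepWith.mono (fun _ _ g (_ : IsFinite g) =>
      (inferInstance : LocallyOfFiniteType g)) hf))) hf
    (fun _ _ g (_ : IsFinite g) => ⟨inferInstance, inferInstance, inferInstance⟩) ?_,
    fun h => RepWith.baseChange sq h⟩
  intro U V U₀ V₀ jU h₀ h jV s _ _ _ _ (_ : IsFinite h₀)
  exact isFinite_of_thick s

theorem proper_iff_of_thick (sq : IsPullback iX.hom f.hom f'.hom iY.hom) (hi : IsThickMor iY.hom)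
    (hft : LocP @LocallyOfFiniteType f.hom → LocP @LocallyOfFiniteType f'.hom) :
    IsProperMor f.hom ↔ IsProperMor f'.hom := by
  have hX := X.property; have hX' := X'.property; have hY := Y.property; have hY' := Y'.property
  refine ⟨fun hf => ?_, fun h => isProperMor_of_isPullback hX' hY' hY sq h⟩
  have hiX : IsThickMor iX.hom := RepWith.baseChange sq.flip hi
  have w : iX ≫ f' = f ≫ iY := InducedCategory.hom_ext sq.w
  refine ⟨isSeparatedMor_of_thick hX' sq hi hf.1, ⟨hft hf.2.1.1, ?_⟩, ?_⟩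
  · have h1 := (isQuasiCompactMor_iff_univSp hX hY f.hom).1 hf.2.1.2
    refine (isQuasiCompactMor_iff_univSp hX' hY' f'.hom).2
      ((univSp_iff_of_thick (fun a b hb => ?_) (fun a b ha => ?_) hiX hi w).1 h1)
    · exact ⟨fun h hc => h hb.homeomorph.compactSpace, fun h hc => h hb.homeomorph.symm.compactSpace⟩
    · exact ⟨fun h hc => @Homeomorph.compactSpace _ _ _ _ (h hc) ha.homeomorph,
        fun h hc => @Homeomorph.compactSpace _ _ _ _ (h hc) ha.homeomorph.symm⟩
  · refine (univSp_iff_of_thick (fun a b hb => ?_) (fun a b ha => ?_) hiX hi w).1 hf.2.2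
    · show IsClosedMap (Points.map (a ≫ b)) ↔ IsClosedMap (Points.map a)
      rw [show Points.map (a ≫ b) = Points.map b ∘ Points.map a from funext (Points.map_comp a b)]
      refine ⟨fun h U hU => ?_, fun h => hb.isClosedMap.comp h⟩
      rw [← hb.injective.preimage_image (Points.map a '' U), ← Set.image_comp]
      exact (h U hU).preimage hb.continuous
    · show IsClosedMap (Points.map (a ≫ b)) ↔ IsClosedMap (Points.map b)
      rw [show Points.map (a ≫ b) = Points.map b ∘ Points.map a from funext (Points.map_comp a b)]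
      exact ⟨fun h => h.of_comp_surjective ha.surjective ha.continuous, fun h => h.comp ha.isClosedMap⟩

end Groth.Agent.AlgSpLib
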