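import Groth.Agent.AlgSpLib.ThickScheme
import Groth.Agent.AlgSpLib.MorProper
import Groth.Agent.AlgSpLib.LimitClosed
import Groth.Agent.AlgSpLib.MonoIso

/-!
Representability, affineness and integrality of morphisms between thickenings.
-/

universe u

open CategoryTheory CategoryTheory.Limits AlgebraicGeometry Opposite
open AlgSp

noncomputable section

namespace Groth.Agent.AlgSpLib.ThickAff

set_option backward.isDefEq.respectTransparency.types false

variable {S : Scheme.{u}} {X X' Y Y' : Sp S} {i : X ⟶ X'} {j : Y ⟶ Y'} {f : X ⟶ Y} {f' : X' ⟶ Y'}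

theorem thick_comp_iso {A B C : Sp S} (e : A ⟶ B) [IsIso e] {i : B ⟶ C} (hi : IsThickMor i) :
    IsThickMor (e ≫ i) :=
  RepWith.and (RepWith.comp (repWith_of_isIso _ e) (RepWith.mono (P' := @IsClosedImmersion) (fun _ _ _ h => h.1) hi))
    (RepWith.comp (repWith_of_isIso _ e) (RepWith.mono (P' := @Surjective) (fun _ _ _ h => h.2) hi))

theorem isClosedImmersion_of_thickMor {A B : Sp S} {i : A ⟶ B} (hi : IsThickMor i) : RepWith @IsClosedImmersion i :=
  RepWith.mono (P' := @IsClosedImmersion) (fun _ _ _ h => h.1) hi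

/-- a morphism of thickenings restricted to a scheme over the target -/
theorem exists_bc_thick (hX' : IsAlgSpace X') (hY' : IsAlgSpace Y') (hi : IsThickMor i) (hj : IsThickMor j)
    (w : i ≫ f' = f ≫ j) {Z' : Over S} (g : (yon S).obj Z' ⟶ Y') :
    IsAlgSpace (pullback f' g) ∧ ∃ (Z : Over S) (iZ : Z ⟶ Z') (gZ : (yon S).obj Z ⟶ Y),
      IsPullback gZ ((yon S).map iZ) j g ∧ AlgSp.thick iZ.left ∧
      ∃ κ : pullback f gZ ⟶ pullback f' g, IsThickMor κ ∧
        κ ≫ pullback.snd f' g = pullback.snd f gZ ≫ (yon S).map iZ := by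
  refine ⟨isAlgSpace_of_isPullback hY'.diag hX' (IsAlgSpace.yon_obj Z') (IsPullback.of_hasPullback f' g), ?_⟩
  have sqj := hj.1.isPullback g
  refine ⟨_, _, _, sqj, hj.property_snd g, ?_⟩
  have sqf := IsPullback.of_hasPullback f (hj.1.fst g)
  have sq' := IsPullback.of_hasPullback f' g
  let κ : pullback f (hj.1.fst g) ⟶ pullback f' g :=
    sq'.lift (pullback.fst _ _ ≫ i) (pullback.snd _ _ ≫ (yon S).map (hj.1.snd g))
      (by rw [Category.assoc, w, ← Category.assoc, sqf.w, Category.assoc, sqj.w, Category.assoc])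
  refine ⟨κ, ?_, sq'.lift_snd _ _ _⟩
  have h : IsPullback (pullback.fst f (hj.1.fst g)) (κ ≫ pullback.snd f' g) (i ≫ f') g := by
    rw [sq'.lift_snd, w]
    exact (sqf.flip.paste_horiz sqj.flip).flip
  have sq : IsPullback (pullback.fst f (hj.1.fst g)) κ i (pullback.fst f' g) :=
    IsPullback.of_bot h (sq'.lift_fst _ _ _).symm sq'
  exact RepWith.baseChange sq hi

theorem representable_iff (hX' : IsAlgSpace X') (hY' : IsAlgSpace Y') (hi : IsThickMor i) (hj : IsThickMor j)
    (w : i ≫ f' = f ≫ j) : Representable f ↔ Representable f' := by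
  have := mono_of_thickMor hj
  refine ⟨fun hf Z' g => ?_, fun hf Z g => ?_⟩
  · obtain ⟨hP, Z, iZ, gZ, -, -, κ, hκ, -⟩ := exists_bc_thick hX' hY' hi hj w g
    let e := (IsPullback.of_hasPullback f gZ).isoIsPullback _ _ (hf.isPullback gZ)
    obtain ⟨G, ⟨e'⟩⟩ := exists_iso_yon_of_thick' hP κ hκ e.symm
    obtain ⟨snd, hsnd⟩ := (yon S).map_surjective (e'.hom ≫ pullback.snd f' g)
    exact ⟨G, snd, e'.hom ≫ pullback.fst f' g,
      (IsPullback.of_hasPullback f' g).of_iso e'.symm (Iso.refl _) (Iso.refl _) (Iso.refl _)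
        (by simp) (by simp [hsnd]) (by simp) (by simp)⟩
  · have h : Representable (f ≫ j) := w ▸ (MorphismProperty.comp_mem _ _ _ hi.1 hf)
    obtain ⟨G, snd, fst, sq⟩ := h (g ≫ j)
    refine ⟨G, snd, fst, ⟨⟨?_⟩, ⟨PullbackCone.IsLimit.mk _ (fun c => sq.lift c.fst c.snd ?_) (fun c => ?_)
      (fun c => ?_) (fun c m h1 h2 => sq.hom_ext (by simpa using h1) (by simpa using h2))⟩⟩⟩
    · rw [← cancel_mono j, Category.assoc, Category.assoc]; exact sq.w
    · rw [reassoc_of% c.condition]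
    · exact sq.lift_fst _ _ _
    · exact sq.lift_snd _ _ _

theorem isAffineMor_of_mono_comp [Mono j] (h : IsAffineMor (f ≫ j)) : IsAffineMor f := by
  intro Z hZ g
  obtain ⟨W, v, fst, sq, hW⟩ := h hZ (g ≫ j)
  refine ⟨W, v, fst, ⟨⟨?_⟩, ⟨PullbackCone.IsLimit.mk _ (fun c => sq.lift c.fst c.snd ?_) (fun c => ?_)
    (fun c => ?_) (fun c m h1 h2 => sq.hom_ext (by simpa using h1) (by simpa using h2))⟩⟩, hW⟩
  · rw [← cancel_mono j, Category.assoc, Category.assoc]; exact sq.w
  · rw [reassoc_of% c.condition]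
  · exact sq.lift_fst _ _ _
  · exact sq.lift_snd _ _ _

theorem isAffineMor_iff (hX' : IsAlgSpace X') (hY' : IsAlgSpace Y') (hi : IsThickMor i) (hj : IsThickMor j)
    (w : i ≫ f' = f ≫ j) : IsAffineMor f ↔ IsAffineMor f' := by
  have := mono_of_thickMor hj
  refine ⟨fun hf Z' hZ' g => ?_, fun hf => isAffineMor_of_mono_comp (w ▸
    isAffineMor_comp (isAffineMor_of_closedImmersion (isClosedImmersion_of_thickMor hi)) hf)⟩
  obtain ⟨hP, Z, iZ, gZ, -, hiZ, κ, hκ, -⟩ := exists_bc_thick hX' hY' hi hj w g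
  have : IsClosedImmersion iZ.left := hiZ.1
  obtain ⟨W, v, fst, sq, hW⟩ := hf (isAffine_of_isAffineHom iZ.left) gZ
  let e := (IsPullback.of_hasPullback f gZ).isoIsPullback _ _ sq
  obtain ⟨G, hG, ⟨e'⟩⟩ := isAff_of_thick hP (e.inv ≫ κ) (thick_comp_iso _ hκ)
  obtain ⟨snd, hsnd⟩ := (yon S).map_surjective (e'.hom ≫ pullback.snd f' g)
  exact ⟨G, snd, e'.hom ≫ pullback.fst f' g,
    (IsPullback.of_hasPullback f' g).of_iso e'.symm (Iso.refl _) (Iso.refl _) (Iso.refl _)
      (by simp) (by simp [hsnd]) (by simp) (by simp), hG⟩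

theorem isIntegralMor_iff (hX' : IsAlgSpace X') (hY' : IsAlgSpace Y') (hi : IsThickMor i) (hj : IsThickMor j)
    (w : i ≫ f' = f ≫ j) : IsIntegralMor f ↔ IsIntegralMor f' := by
  have := mono_of_thickMor hj
  refine ⟨fun hf Z' hZ' g => ?_, fun hf Z hZ g => ?_⟩
  · obtain ⟨hP, Z, iZ, gZ, -, hiZ, κ, hκ, hκs⟩ := exists_bc_thick hX' hY' hi hj w g
    have : IsClosedImmersion iZ.left := hiZ.1
    obtain ⟨W, v, fst, sq, hW, hv⟩ := hf (isAffine_of_isAffineHom iZ.left) gZ
    let e := (IsPullback.of_hasPullback f gZ).isoIsPullback _ _ sq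
    obtain ⟨G, hG, ⟨e'⟩⟩ := isAff_of_thick hP (e.inv ≫ κ) (thick_comp_iso _ hκ)
    obtain ⟨snd, hsnd⟩ := (yon S).map_surjective (e'.hom ≫ pullback.snd f' g)
    refine ⟨G, snd, e'.hom ≫ pullback.fst f' g,
      (IsPullback.of_hasPullback f' g).of_iso e'.symm (Iso.refl _) (Iso.refl _) (Iso.refl _)
        (by simp) (by simp [hsnd]) (by simp) (by simp), hG, ?_⟩
    obtain ⟨m, hm⟩ := (yon S).map_surjective (e.inv ≫ κ ≫ e'.inv)
    have hms : m ≫ snd = v ≫ iZ := (yon S).map_injective (by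
      rw [Functor.map_comp, Functor.map_comp, hm, hsnd, Category.assoc, Category.assoc, Iso.inv_hom_id_assoc, hκs,
        IsPullback.isoIsPullback_inv_snd_assoc])
    have hmsur : Surjective m.left := by
      have h1 : RepWith @Surjective ((yon S).map m) := by
        rw [hm]
        exact RepWith.comp (repWith_of_isIso _ e.inv) (RepWith.comp (RepWith.mono (P' := @Surjective)
          (fun _ _ _ h => h.2) hκ) (repWith_of_isIso _ e'.inv))
      exact (repWith_yon_map_iff _ m).1 h1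
    have : UniversallyClosed (m.left ≫ snd.left) := by
      rw [← Over.comp_left, hms, Over.comp_left]
      have := hv
      infer_instance
    exact IsIntegralHom.iff_universallyClosed_and_isAffineHom.2
      ⟨UniversallyClosed.of_comp_surjective m.left snd.left, isAffineHom_of_isAffine _⟩
  · obtain ⟨W', v', fst', sq', hW', hv'⟩ := hf hZ (g ≫ j)
    have sqi := hi.1.isPullback fst'
    have : IsClosedImmersion (hi.1.snd fst').left := (hi.property_snd fst').1
    refine ⟨hi.1.pullback fst', hi.1.snd fst' ≫ v', hi.1.fst fst', ?_,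
      isAffine_of_isAffineHom (hi.1.snd fst').left, ?_⟩
    · have h := sqi.paste_vert sq'
      rw [w, ← Functor.map_comp] at h
      refine ⟨⟨?_⟩, ⟨PullbackCone.IsLimit.mk _ (fun c => h.lift c.fst c.snd ?_) (fun c => ?_)
        (fun c => ?_) (fun c m h1 h2 => h.hom_ext (by simpa using h1) (by simpa using h2))⟩⟩
      · rw [← cancel_mono j, Category.assoc, Category.assoc]; exact h.w
      · rw [reassoc_of% c.condition]
      · exact h.lift_fst _ _ _
      · exact h.lift_snd _ _ _
    · have := hv'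
      exact inferInstanceAs (IsIntegralHom ((hi.1.snd fst').left ≫ v'.left))

end Groth.Agent.AlgSpLib.ThickAff
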