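import Groth.Agent.AlgSpLib.ThickSat

/-!
Non-zero nilpotent invariant ideals on thickenings which are affine over a covering open.
-/

universe u

open CategoryTheory CategoryTheory.Limits AlgebraicGeometry Opposite
open AlgSp
open Groth.Agent.FlatMorDegree

noncomputable section

namespace Groth.Agent.AlgSpLib.ThickAff

set_option backward.isDefEq.respectTransparency.types false

variable {S : Scheme.{u}}

namespace Data

variable (D : Data S)

/-- Invariant functions killed near the higher degree points: the finite locally free case. -/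
theorem exists_content_case {d : ℕ} (hlow : D.DegLow d) {ι : Type u} (σ : Finset ι) (g : ι → D.A₀) (a : ι → D.B)
    (ha : ∀ l, D.j.left.appTop.hom (a l) = algebraMap D.A₀ D.B₀ (g l))
    (hcov : ∀ x : D.X₀.left, degGE D.π.left x (d + 1) → ∃ l ∈ σ, x ∈ D.X₀.left.basicOpen (g l))
    {y : D.B} (hy0 : y ≠ 0) (hyN : y ∈ D.N) (hy : ∀ l ∈ σ, y ∈ sat ⊥ (a l)) :
    ∃ K : Ideal D.B, D.Invariant K ∧ K ≤ D.N ∧ K ≠ ⊥ ∧ IsNilpotent K := by
  classical
  have hsy : ∀ l : σ, ∃ n : ℕ, D.tR (a l) ^ n * D.sR y = 0 := fun l => by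
    have h : D.sR y ∈ (sat (⊥ : Ideal D.B) (a l)).map D.sR := Ideal.mem_map_of_mem _ (hy _ l.2)
    rw [map_sat D.flat_sR, Ideal.map_bot, ← sat_congr (D.isNilpotent_sub_of_jR (ha l))] at h
    obtain ⟨n, hn⟩ := mem_sat.1 h
    exact ⟨n, Ideal.mem_bot.1 hn⟩
  choose n hn using hsy
  let 𝔞 : Ideal D.B := Ideal.span (Set.range fun l : σ => a l ^ (n l + 1))
  let F : σ → Ideal D.B := fun l => Submodule.comap (LinearMap.mulLeft D.B (a l ^ (n l + 1))) ⊥
  let M : Ideal D.B := D.N ⊓ Finset.univ.inf F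
  have hsyM : D.sR y ∈ M.map D.tR := by
    rw [ThickAlg.map_inf_of_flat D.flat_tR, map_finset_inf D.flat_tR]
    refine ⟨?_, Submodule.mem_finsetInf.2 fun l _ => ?_⟩
    · rw [show D.N.map D.tR = D.N.map D.sR from D.invariant_N]
      exact Ideal.mem_map_of_mem _ hyN
    · refine ThickAlg.map_colon_le_of_flat D.flat_tR ⊥ (a l ^ (n l + 1)) ?_
      rw [map_pow, mul_comm, pow_succ', mul_assoc, hn, mul_zero, Ideal.map_bot]
      exact Submodule.zero_mem _
  have hM : ∀ z ∈ M, ∀ b ∈ RingHom.ker (Ideal.Quotient.mk 𝔞), b * z = 0 := fun z hz b hb => by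
    rw [Ideal.mk_ker] at hb
    induction hb using Submodule.span_induction with
    | mem x hx =>
      obtain ⟨l, rfl⟩ := hx
      exact Ideal.mem_bot.1 (Submodule.mem_finsetInf.1 hz.2 l (Finset.mem_univ _))
    | zero => exact zero_mul _
    | add u v _ _ hu hv => rw [add_mul, hu, hv, add_zero]
    | smul c u _ hu => rw [smul_eq_mul, mul_assoc, hu, mul_zero]
  let qB : D.B →+* D.B ⧸ 𝔞 := Ideal.Quotient.mk 𝔞
  let qC : D.C →+* D.C ⧸ 𝔞.map D.tR := Ideal.Quotient.mk _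
  let φ : D.B ⧸ 𝔞 →+* D.C ⧸ 𝔞.map D.tR := Ideal.quotientMap _ D.tR Ideal.le_comap_map
  have hqt : qC.comp D.tR = φ.comp qB := RingHom.ext fun b => rfl
  have hker : RingHom.ker qC = (RingHom.ker qB).map D.tR := by
    rw [Ideal.mk_ker, Ideal.mk_ker]
  -- the projection is finite over the closed subscheme
  let h : Spec (CommRingCat.of (D.C ⧸ 𝔞.map D.tR)) ⟶ Spec (CommRingCat.of (D.B ⧸ 𝔞)) :=
    Spec.map (CommRingCat.ofHom φ)
  let ιB : Spec (CommRingCat.of (D.B ⧸ 𝔞)) ⟶ D.U.left := Spec.map (CommRingCat.ofHom qB) ≫ D.U.left.isoSpec.inv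
  let ιC : Spec (CommRingCat.of (D.C ⧸ 𝔞.map D.tR)) ⟶ D.R.left :=
    Spec.map (CommRingCat.ofHom qC) ≫ D.R.left.isoSpec.inv
  have sqh : IsPullback ιC h D.t.left ιB := by
    have h0 := isPullback_SpecMap_of_isPushout _ _ _ _
      (isPushout_of_surjective_of_ker D.tR qB qC φ hqt Ideal.Quotient.mk_surjective Ideal.Quotient.mk_surjective hker)
    have h1 : IsPullback D.R.left.isoSpec.inv (Spec.map (CommRingCat.ofHom D.tR)) D.t.left D.U.left.isoSpec.inv :=
      IsPullback.of_horiz_isIso ⟨(Scheme.isoSpec_inv_naturality D.t.left).symm⟩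
    exact h0.paste_horiz h1
  have : Etale h := MorphismProperty.of_isPullback (P := @Etale) sqh D.etale_t
  have sq00 : IsPullback D.s₀.left D.t₀.left D.π.left D.π.left := (D.sqR₀.map (Over.forget S)).flip
  have hdeg : ∀ q e, degGE h q e ↔ ∃ u₀, D.j.left u₀ = ιB q ∧ degGE D.π.left (D.π.left u₀) e := fun q e => by
    obtain ⟨u₀, hu₀⟩ := D.j.left.surjective (ιB q)
    have : Etale D.t₀.left :=
      MorphismProperty.of_isPullback (P := @Etale) sq00 D.etale_π
    have hiff : degGE h q e ↔ degGE D.π.left (D.π.left u₀) e := by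
      rw [ThickDeg.degGE_of_isPullback sqh, ← hu₀, ← ThickDeg.degGE_of_isPullback D.sqk.flip,
        ThickDeg.degGE_of_isPullback sq00]
    refine ⟨fun hh => ⟨u₀, hu₀, hiff.1 hh⟩, fun ⟨u₁, hu₁, hh⟩ => hiff.2 ?_⟩
    rwa [← D.j.left.isClosedEmbedding.injective (hu₁.trans hu₀.symm)]
  have : IsFinite h := by
    refine isFinite_of_forall h (r := d) (fun q => ?_) fun q hq => ?_
    · obtain ⟨u₀, hu₀⟩ := D.j.left.surjective (ιB q)
      exact (hdeg q d).2 ⟨u₀, hu₀, hlow _⟩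
    · obtain ⟨u₀, hu₀, hd⟩ := (hdeg q _).1 hq
      obtain ⟨l, hl, hgl⟩ := hcov _ hd
      have hu : ιB q ∈ D.U.left.basicOpen (a l) := by
        rw [← hu₀]
        show u₀ ∈ D.j.left ⁻¹ᵁ D.U.left.basicOpen (a l)
        rw [Scheme.preimage_basicOpen]
        show u₀ ∈ D.U₀.left.basicOpen (D.j.left.appTop.hom (a l))
        rw [ha l]
        show u₀ ∈ D.U₀.left.basicOpen (D.π.left.app ⊤ (g l))
        rw [← Scheme.preimage_basicOpen]
        exact hgl
      rw [← D.U.left.toSpecΓ_preimage_basicOpen] at hu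
      have hq' : (D.U.left.toSpecΓ (ιB q)) = Spec.map (CommRingCat.ofHom qB) q := by
        have : ιB ≫ D.U.left.toSpecΓ = Spec.map (CommRingCat.ofHom qB) := by
          show (_ ≫ D.U.left.isoSpec.inv) ≫ D.U.left.isoSpec.hom = _
          simp
        rw [← this]
        rfl
      have hu' : D.U.left.toSpecΓ (ιB q) ∈ PrimeSpectrum.basicOpen (a l) := hu
      rw [hq'] at hu'
      have hu'' : qB (a l) ∉ q.asIdeal := hu'
      refine hu'' (q.isPrime.mem_of_pow_mem (n ⟨l, hl⟩ + 1) ?_)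
      rw [← map_pow, show qB (a l ^ (n ⟨l, hl⟩ + 1)) = 0 from
        Ideal.Quotient.eq_zero_iff_mem.2 (Ideal.subset_span ⟨⟨l, hl⟩, rfl⟩)]
      exact Submodule.zero_mem _
  letI : Algebra (D.B ⧸ 𝔞) (D.C ⧸ 𝔞.map D.tR) := φ.toAlgebra
  have hfin : Module.Finite (D.B ⧸ 𝔞) (D.C ⧸ 𝔞.map D.tR) := (IsFinite.SpecMap_iff _).1 ‹IsFinite h›
  have het : Algebra.Etale (D.B ⧸ 𝔞) (D.C ⧸ 𝔞.map D.tR) :=
    RingHom.etale_algebraMap.1 ((HasRingHomProperty.Spec_iff (P := @Etale)).1 ‹Etale h›)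
  have : Module.FinitePresentation (D.B ⧸ 𝔞) (D.C ⧸ 𝔞.map D.tR) :=
    Module.FinitePresentation.of_finite_of_finitePresentation _ _
  have : Module.Projective (D.B ⧸ 𝔞) (D.C ⧸ 𝔞.map D.tR) := Module.Flat.projective_of_finitePresentation
  obtain ⟨m, hm1, hm2⟩ := D.exists_comp
  obtain ⟨e, he1, he2⟩ := D.exists_diag
  obtain ⟨τ, hτ1, hτ2⟩ := D.exists_swap
  have c : ∀ {X Y Z : Over S} (f f' : X ⟶ Y) (g g' : Y ⟶ Z), f ≫ g = f' ≫ g' →
      f.left.appTop.hom.comp g.left.appTop.hom = f'.left.appTop.hom.comp g'.left.appTop.hom :=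
    @fun X Y Z f f' g g' h => congrArg (fun m : X ⟶ Z => m.left.appTop.hom) h
  obtain ⟨K, hKfg, hKM, hyK, hK⟩ := ThickAlg.exists_content (p₁ := D.p₁.left.appTop.hom)
    (p₂ := D.p₂.left.appTop.hom) (m := m.left.appTop.hom) D.flat_tR (c _ _ _ _ hm1.symm) (c _ _ _ _ hm2.symm)
    (isPushout_appTop_of_isPullback D.sqR₂') e.left.appTop.hom
    (congrArg (fun m : D.U ⟶ D.U => m.left.appTop.hom) he1) (congrArg (fun m : D.U ⟶ D.U => m.left.appTop.hom) he2)
    τ.left.appTop.hom (congrArg (fun m : D.R ⟶ D.U => m.left.appTop.hom) hτ1)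
    (congrArg (fun m : D.R ⟶ D.U => m.left.appTop.hom) hτ2)
    qB Ideal.Quotient.mk_surjective qC Ideal.Quotient.mk_surjective hker hqt M hM y hsyM
  have hKN : K ≤ D.N := hKM.trans inf_le_left
  refine ⟨K, hK, hKN, fun h => hy0 (Ideal.mem_bot.1 (h ▸ hyK)), ?_⟩
  exact (Ideal.FG.isNilpotent_iff_le_nilradical hKfg).2 fun x hx =>
    mem_nilradical.2 (D.isNilpotent_of_mem_N (hKN hx))

/-- elements coming from an affine piece of the space have equal pullbacks up to units -/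
theorem mem_sat_of_piece {g : D.A₀} {a : D.B} (ha : D.j.left.appTop.hom a = algebraMap D.A₀ D.B₀ g) {T : Over S}
    (l : restrictOver D.U (D.U.left.basicOpen a) ⟶ T) (aT : (yon S).obj T ⟶ D.X) [Mono aT]
    (hl : (yon S).map l ≫ aT = (yon S).map (restrictOverι D.U (D.U.left.basicOpen a)) ≫ D.p)
    (m : D.B) (x : Γ(T.left, ⊤)) (N : ℕ)
    (hm : (restrictOverι D.U (D.U.left.basicOpen a)).left.appTop.hom m =
      l.left.appTop.hom x * (restrictOverι D.U (D.U.left.basicOpen a)).left.appTop.hom a ^ N) :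
    D.sR m ∈ sat (Ideal.span {D.tR m}) (D.tR a) ∧ D.tR m ∈ sat (Ideal.span {D.sR m}) (D.sR a) := by
  let P : Over S := restrictOver D.U (D.U.left.basicOpen a)
  let ρ : D.B →+* Γ(P.left, ⊤) := (restrictOverι D.U (D.U.left.basicOpen a)).left.appTop.hom
  let W : Over S := restrictOver D.R (D.R.left.basicOpen (D.tR a))
  let ιW : W ⟶ D.R := restrictOverι D.R (D.R.left.basicOpen (D.tR a))
  letI algW : Algebra D.C Γ(W.left, ⊤) := ιW.left.appTop.hom.toAlgebra
  have hlocW : IsLocalization.Away (D.tR a) Γ(W.left, ⊤) := isLocalization_basicOpen_ι (D.tR a)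
  let ρC : D.C →+* Γ(W.left, ⊤) := algebraMap D.C Γ(W.left, ⊤)
  have hn := D.isNilpotent_sub_of_jR ha
  have hlift : ∀ f : D.R ⟶ D.U, D.R.left.basicOpen (f.left.appTop.hom a) = D.R.left.basicOpen (D.tR a) →
      ∃ f' : W ⟶ P, f' ≫ restrictOverι D.U (D.U.left.basicOpen a) = ιW ≫ f := fun f hf => by
    have hr : Set.range (ιW ≫ f).left ⊆ Set.range (D.U.left.basicOpen a).ι := by
      rintro _ ⟨w, rfl⟩
      rw [Scheme.Opens.range_ι]
      show w.1 ∈ f.left ⁻¹ᵁ D.U.left.basicOpen a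
      rw [Scheme.preimage_basicOpen]
      exact hf.ge w.2
    refine ⟨Over.homMk (IsOpenImmersion.lift (restrictOverι D.U (D.U.left.basicOpen a)).left (ιW ≫ f).left hr) ?_,
      Over.OverMorphism.ext (IsOpenImmersion.lift_fac _ _ _)⟩
    rw [← Over.w (restrictOverι D.U (D.U.left.basicOpen a))]
    rw [IsOpenImmersion.lift_fac_assoc, Over.w]
  obtain ⟨t', ht'⟩ := hlift D.t rfl
  obtain ⟨s', hs'⟩ := hlift D.s (basicOpen_eq_of_sub_nilp hn).symm
  have hll : t' ≫ l = s' ≫ l := (yon S).map_injective (by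
    rw [← cancel_mono aT, Functor.map_comp, Functor.map_comp, Category.assoc, Category.assoc, hl,
      ← Functor.map_comp_assoc, ← Functor.map_comp_assoc, ht', hs', Functor.map_comp_assoc, D.sqR.w,
      ← Functor.map_comp_assoc])
  have et : ∀ b, t'.left.appTop.hom (ρ b) = ρC (D.tR b) :=
    fun b => congr($(congrArg (fun m : W ⟶ D.U => m.left.appTop.hom) ht') b)
  have es : ∀ b, s'.left.appTop.hom (ρ b) = ρC (D.sR b) :=
    fun b => congr($(congrArg (fun m : W ⟶ D.U => m.left.appTop.hom) hs') b)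
  have el : t'.left.appTop.hom (l.left.appTop.hom x) = s'.left.appTop.hom (l.left.appTop.hom x) :=
    congr($(congrArg (fun m : W ⟶ T => m.left.appTop.hom) hll) x)
  have hut : IsUnit (ρC (D.tR a)) := IsLocalization.Away.algebraMap_isUnit (D.tR a)
  have hus : IsUnit (ρC (D.sR a)) := by
    have h : IsNilpotent (ρC (D.sR a) - ρC (D.tR a)) := by rw [← map_sub]; exact hn.map ρC
    have := h.isUnit_add_left_of_commute hut (Commute.all _ _)
    rwa [add_sub_cancel] at this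
  have hm' : ρ m = l.left.appTop.hom x * ρ a ^ N := hm
  have hlam : ρC (D.sR m) * ρC (D.tR a) ^ N = ρC (D.tR m) * ρC (D.sR a) ^ N := by
    rw [← es, ← et, ← et, ← es, hm', map_mul, map_mul, map_pow, map_pow, el]
    ring
  have hmem : ∀ {z w : D.C} {v u : Γ(W.left, ⊤)}, IsUnit u → ρC z * u = ρC w * v → z ∈ sat (Ideal.span {w}) (D.tR a) :=
    fun {z w v u} hu e => by
      obtain ⟨u', hu'⟩ := hu.exists_right_inv
      obtain ⟨_, ⟨n, rfl⟩, hn⟩ := (IsLocalization.algebraMap_mem_map_algebraMap_iff (Submonoid.powers (D.tR a))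
        Γ(W.left, ⊤) (Ideal.span {w}) z).1 (by
          rw [show algebraMap D.C Γ(W.left, ⊤) z = ρC w * (v * u') by
            rw [← mul_assoc, ← e, mul_assoc, hu', mul_one]]
          exact Ideal.mul_mem_right _ _ (Ideal.mem_map_of_mem _ (Ideal.mem_span_singleton_self w)))
      exact mem_sat.2 ⟨n, hn⟩
  refine ⟨hmem (hut.pow N) hlam, ?_⟩
  rw [← sat_congr hn]
  exact hmem (hus.pow N) hlam.symm

/-- Invariant functions supported on an affine piece. -/
theorem exists_piece_case {g : D.A₀} (hg : D.GoodOn (D.X₀.left.basicOpen g : Set D.X₀.left)) {a : D.B}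
    (ha : D.j.left.appTop.hom a = algebraMap D.A₀ D.B₀ g) (I : Ideal D.B) (hI : D.Invariant I) (hIN : I ≤ D.N)
    (hne : I ≠ ⊥) (hker : I ⊓ sat ⊥ a = ⊥) :
    ∃ K : Ideal D.B, D.Invariant K ∧ K ≤ D.N ∧ K ≠ ⊥ ∧ IsNilpotent K := by
  classical
  obtain ⟨y, hyI, hy0⟩ := Submodule.exists_mem_ne_zero_of_ne_bot hne
  obtain ⟨T, aT, hT, haT, har⟩ := hg
  let O := D.U.left.basicOpen a
  let P : Over S := restrictOver D.U O
  let ιP : P ⟶ D.U := restrictOverι D.U O
  have hO : ∀ u₀, D.j.left u₀ ∈ O → D.π.left u₀ ∈ D.X₀.left.basicOpen g := fun u₀ h => by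
    have h' : u₀ ∈ D.j.left ⁻¹ᵁ O := h
    rw [Scheme.preimage_basicOpen] at h'
    have h'' : u₀ ∈ D.U₀.left.basicOpen (D.π.left.app ⊤ g) :=
      (show u₀ ∈ D.U₀.left.basicOpen (algebraMap D.A₀ D.B₀ g) from ha ▸ h')
    rw [← Scheme.preimage_basicOpen] at h''
    exact h''
  obtain ⟨l', hl'⟩ := (exists_lift_iff_range_subset haT ((yon S).map ιP ≫ D.p)).2 fun z hz => by
    obtain ⟨x, rfl⟩ := hz
    obtain ⟨x, rfl⟩ := (Points.schemeHomeo P).surjective x
    obtain ⟨u₀, hu₀⟩ := D.j.left.surjective (ιP.left x)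
    rw [har]
    refine ⟨Points.ofScheme D.X₀ (D.π.left u₀), ⟨_, hO u₀ (hu₀ ▸ x.2), rfl⟩, ?_⟩
    show _ = Points.map _ (Points.ofScheme P x)
    rw [Points.map_comp, map_yon_map_ofScheme, ← hu₀, ← map_yon_map_ofScheme, ← map_yon_map_ofScheme,
      ← Points.map_comp, ← Points.map_comp, D.sq.w]
  obtain ⟨l, rfl⟩ := (yon S).map_surjective l'
  have := mono_of_openImmersion (fun _ : PUnit.{u+1} => aT) (fun _ => haT) PUnit.unit
  have hPaff : IsAffine P.left := (isAffineOpen_top D.U.left).basicOpen a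
  letI algP : Algebra D.B Γ(P.left, ⊤) := ιP.left.appTop.hom.toAlgebra
  have hloc : IsLocalization.Away a Γ(P.left, ⊤) := isLocalization_basicOpen_ι a
  let ρ : D.B →+* Γ(P.left, ⊤) := algebraMap D.B Γ(P.left, ⊤)
  let lam : Γ(T.left, ⊤) →+* Γ(P.left, ⊤) := l.left.appTop.hom
  -- the reduction of the piece
  let hi := D.thick.1
  let T₀ := hi.pullback aT
  let iT : T₀ ⟶ T := hi.snd aT
  have sqT := hi.isPullback aT
  have hiT : AlgSp.thick iT.left := D.thick.property_snd aT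
  have : IsClosedImmersion iT.left := hiT.1
  have : Surjective iT.left := hiT.2
  have : IsAffine T₀.left := isAffine_of_isAffineHom iT.left
  have sqP := hi.isPullback ((yon S).map ιP ≫ D.p)
  let q₀ := hi.snd ((yon S).map ιP ≫ D.p)
  obtain ⟨l₀, hl₀⟩ := (yon S).map_surjective (sqT.lift (hi.fst ((yon S).map ιP ≫ D.p))
    ((yon S).map q₀ ≫ (yon S).map l) (by rw [sqP.w, Category.assoc, hl']))
  have sq₀ : IsPullback ((yon S).map l₀) ((yon S).map q₀) ((yon S).map iT) ((yon S).map l) := by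
    refine IsPullback.of_right ?_ (by rw [hl₀, sqT.lift_snd]) sqT
    rw [hl₀, sqT.lift_fst, hl']
    exact sqP
  have sq₀' : IsPullback l₀.left q₀.left iT.left l.left := (isPullback_of_map_yon sq₀).map (Over.forget S)
  have hρy : ρ y ∈ (RingHom.ker iT.left.appTop.hom).map lam := by
    have hpo := isPushout_appTop_of_isPullback sq₀'
    have hk := ker_of_isPushout (q := iT.left.appTop.hom) (f := lam) (r := q₀.left.appTop.hom)
      (g := l₀.left.appTop.hom) hpo.flip.flip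
      ((isClosedImmersion_iff_isAffineHom.mp hiT.1).2 ⊤ (isAffineOpen_top _))
    refine hk.le ?_
    obtain ⟨c, hc⟩ := (yon S).map_surjective (D.sq.lift (hi.fst ((yon S).map ιP ≫ D.p))
      ((yon S).map q₀ ≫ (yon S).map ιP) (by rw [sqP.w, Category.assoc]))
    have hcj : c ≫ D.j = q₀ ≫ ιP :=
      (yon S).map_injective (by rw [Functor.map_comp, hc, D.sq.lift_snd, Functor.map_comp])
    show q₀.left.appTop.hom (ιP.left.appTop.hom y) = 0
    rw [show q₀.left.appTop.hom (ιP.left.appTop.hom y) = c.left.appTop.hom (D.j.left.appTop.hom y) from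
      congr($(congrArg (fun m : _ ⟶ D.U => m.left.appTop.hom) hcj.symm) y), RingHom.mem_ker.1 (hIN hyI), map_zero]
  obtain ⟨k, x, c, hx, hyx⟩ := ThickAlg.mem_map_exists_sum hρy
  let L : Ideal Γ(T.left, ⊤) := Ideal.span (Set.range x)
  have hLnil : IsNilpotent L := (Ideal.FG.isNilpotent_iff_le_nilradical ⟨Finset.univ.image x, by simp [L]⟩).2
    (Ideal.span_le.2 (Set.range_subset_iff.2 fun i =>
      mem_nilradical.2 (isNilpotent_of_appTop_eq_zero iT.left (hx i))))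
  choose me hme using fun i => IsLocalization.surj (Submonoid.powers a) (lam (x i))
  choose N hN using fun i => (me i).2.2
  let M₀ : Ideal D.B := Ideal.span (Set.range fun i => (me i).1)
  have hu : IsUnit (ρ a) := IsLocalization.Away.algebraMap_isUnit a
  have hme' : ∀ i, ρ (me i).1 = lam (x i) * ρ a ^ N i := fun i => by
    rw [← map_pow, show a ^ N i = ((me i).2 : D.B) from hN i]
    exact (hme i).symm
  have hM₀L : M₀.map ρ = L.map lam := by
    rw [Ideal.map_span, Ideal.map_span, ← Set.range_comp, ← Set.range_comp]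
    refine le_antisymm (Ideal.span_le.2 ?_) (Ideal.span_le.2 ?_) <;> rintro _ ⟨i, rfl⟩
    · show ρ (me i).1 ∈ _
      rw [hme' i]
      exact Ideal.mul_mem_right _ _ (Ideal.subset_span ⟨i, rfl⟩)
    · show lam (x i) ∈ _
      obtain ⟨v, hv⟩ := (hu.pow (N i)).exists_right_inv
      rw [show lam (x i) = ρ (me i).1 * v by rw [hme' i, mul_assoc, hv, mul_one]]
      exact Ideal.mul_mem_right _ _ (Ideal.subset_span ⟨i, rfl⟩)
  have hsat : ∀ z, z ∈ sat M₀ a ↔ ρ z ∈ M₀.map ρ := fun z => by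
    rw [mem_sat, IsLocalization.algebraMap_mem_map_algebraMap_iff (Submonoid.powers a)]
    exact ⟨fun ⟨n, hn⟩ => ⟨_, ⟨n, rfl⟩, hn⟩, fun ⟨_, ⟨n, rfl⟩, hn⟩ => ⟨n, hn⟩⟩
  let K := I ⊓ sat M₀ a
  have hyK : y ∈ K := ⟨hyI, (hsat y).2 <| by
    rw [hM₀L, hyx]
    exact Ideal.sum_mem _ fun i _ => Ideal.mul_mem_right _ _ (Ideal.mem_map_of_mem _ (Ideal.subset_span ⟨i, rfl⟩))⟩
  refine ⟨K, D.invariant_inf hI (D.invariant_sat ha ?_ ?_), inf_le_left.trans hIN,
    fun h => hy0 (Ideal.mem_bot.1 (h ▸ hyK)), ?_⟩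
  · rw [Ideal.map_span, Ideal.span_le]
    rintro _ ⟨_, ⟨i, rfl⟩, rfl⟩
    refine sat_mono ?_ _ (D.mem_sat_of_piece ha l aT hl' _ _ _ (hme' i)).1
    exact Ideal.span_le.2 (Set.singleton_subset_iff.2 (Ideal.mem_map_of_mem _ (Ideal.subset_span ⟨i, rfl⟩)))
  · rw [Ideal.map_span, Ideal.span_le]
    rintro _ ⟨_, ⟨i, rfl⟩, rfl⟩
    refine sat_mono ?_ _ (D.mem_sat_of_piece ha l aT hl' _ _ _ (hme' i)).2
    exact Ideal.span_le.2 (Set.singleton_subset_iff.2 (Ideal.mem_map_of_mem _ (Ideal.subset_span ⟨i, rfl⟩)))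
  · obtain ⟨e, he⟩ := hLnil
    refine ⟨e + 1, le_bot_iff.1 fun z hz => ?_⟩
    have hzI : z ∈ I := ((Ideal.pow_le_self (Nat.succ_ne_zero e)).trans inf_le_left) hz
    have hzρ : ρ z = 0 := by
      have h1 : K.map ρ ≤ M₀.map ρ := Ideal.map_le_iff_le_comap.2 fun w hw => (hsat w).1 hw.2
      have h2 : ρ z ∈ (M₀.map ρ) ^ (e + 1) :=
        Ideal.pow_right_mono h1 _ (Ideal.map_pow ρ K _ ▸ Ideal.mem_map_of_mem ρ hz)
      rw [hM₀L, pow_succ, ← Ideal.map_pow, he, Ideal.zero_eq_bot, Ideal.map_bot, Ideal.bot_mul] at h2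
      exact h2
    obtain ⟨m, hm⟩ := (IsLocalization.map_eq_zero_iff (Submonoid.powers a) _ z).1 hzρ
    obtain ⟨m, n, rfl⟩ := m
    exact hker.le ⟨hzI, mem_sat.2 ⟨n, Ideal.mem_bot.2 hm⟩⟩

end Data

end Groth.Agent.AlgSpLib.ThickAff
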