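import Groth.Agent.AlgSpLib.ThickChain
import Groth.Agent.AlgSpLib.ThickDeg
import Mathlib.RingTheory.Localization.Ideal
import Mathlib.RingTheory.Noetherian.Nilpotent

/-!
Saturations of invariant ideals, and nilpotent invariant ideals on thickenings.
-/

universe u

open CategoryTheory CategoryTheory.Limits AlgebraicGeometry Opposite
open AlgSp

noncomputable section

namespace Groth.Agent.AlgSpLib.ThickAff

set_option backward.isDefEq.respectTransparency.types false

variable {S : Scheme.{u}} {B C : Type u} [CommRing B] [CommRing C]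

/-- the saturation of an ideal with respect to an element -/
def sat (Q : Ideal B) (a : B) : Ideal B := ⨆ n : ℕ, Submodule.comap (LinearMap.mulLeft B (a ^ n)) Q

theorem mem_sat {Q : Ideal B} {a x : B} : x ∈ sat Q a ↔ ∃ n : ℕ, a ^ n * x ∈ Q := by
  rw [sat, Submodule.mem_iSup_of_directed _ (Monotone.directed_le fun n m hnm y hy => by
    obtain ⟨k, rfl⟩ := Nat.exists_eq_add_of_le hnm
    show a ^ (n + k) * y ∈ Q
    rw [pow_add, mul_comm (a ^ n), mul_assoc]
    exact Q.mul_mem_left _ hy)]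
  rfl

theorem le_sat (Q : Ideal B) (a : B) : Q ≤ sat Q a :=
  fun x hx => mem_sat.2 ⟨0, by rwa [pow_zero, one_mul]⟩

theorem sat_mono {Q Q' : Ideal B} (h : Q ≤ Q') (a : B) : sat Q a ≤ sat Q' a :=
  fun _ hx => let ⟨n, hn⟩ := mem_sat.1 hx; mem_sat.2 ⟨n, h hn⟩

theorem sat_sat (Q : Ideal B) (a : B) : sat (sat Q a) a ≤ sat Q a := fun x hx => by
  obtain ⟨n, hn⟩ := mem_sat.1 hx
  obtain ⟨m, hm⟩ := mem_sat.1 hn
  exact mem_sat.2 ⟨m + n, by rwa [pow_add, mul_assoc]⟩

theorem sat_le_of_nilp {a b : B} (h : IsNilpotent (b - a)) (Q : Ideal B) : sat Q a ≤ sat Q b := fun x hx => by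
  obtain ⟨n, hn⟩ := mem_sat.1 hx
  obtain ⟨k, hk⟩ := h
  have hd : a ∣ b ^ k := by
    have : b - a ∣ b ^ k - a ^ k := sub_dvd_pow_sub_pow b a k
    have h2 := sub_dvd_pow_sub_pow b (b - a) k
    rw [hk, sub_zero, sub_sub_cancel] at h2
    exact h2
  obtain ⟨c, hc⟩ := hd
  refine mem_sat.2 ⟨k * n, ?_⟩
  rw [pow_mul, hc, mul_pow, mul_comm (a ^ n), mul_assoc]
  exact Q.mul_mem_left _ hn

theorem sat_congr {a b : B} (h : IsNilpotent (b - a)) (Q : Ideal B) : sat Q a = sat Q b :=
  le_antisymm (sat_le_of_nilp h Q) (sat_le_of_nilp (by rw [← neg_sub]; exact h.neg) Q)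

theorem map_sat {f : B →+* C} (hf : f.Flat) (Q : Ideal B) (a : B) : (sat Q a).map f = sat (Q.map f) (f a) := by
  refine le_antisymm (Ideal.map_le_iff_le_comap.2 fun x hx => ?_) fun z hz => ?_
  · obtain ⟨n, hn⟩ := mem_sat.1 hx
    exact mem_sat.2 ⟨n, by rw [← map_pow, ← map_mul]; exact Ideal.mem_map_of_mem _ hn⟩
  · obtain ⟨n, hn⟩ := mem_sat.1 hz
    rw [← map_pow, mul_comm] at hn
    exact Ideal.map_mono (le_iSup (fun n : ℕ => Submodule.comap (LinearMap.mulLeft B (a ^ n)) Q) n)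
      (ThickAlg.map_colon_le_of_flat hf Q (a ^ n) hn)

theorem map_finset_inf {f : B →+* C} (hf : f.Flat) {ι : Type*} (s : Finset ι) (F : ι → Ideal B) :
    (s.inf F).map f = s.inf fun i => (F i).map f := by
  classical
  induction s using Finset.induction with
  | empty => simp [Ideal.map_top]
  | insert i s hi ih => rw [Finset.inf_insert, Finset.inf_insert, ThickAlg.map_inf_of_flat hf, ih]

/-- functions killed on the reduction of a thickening are nilpotent -/
theorem isNilpotent_of_appTop_eq_zero {Y X : Scheme.{u}} [IsAffine X] (f : Y ⟶ X) [Surjective f] {x : Γ(X, ⊤)}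
    (hx : f.appTop x = 0) : IsNilpotent x := by
  have h : f ⁻¹ᵁ X.basicOpen x = ⊥ := by
    rw [Scheme.preimage_basicOpen]
    show Y.basicOpen (f.appTop x) = ⊥
    rw [hx, Scheme.basicOpen_zero]
  have h' : X.basicOpen x = ⊥ := le_bot_iff.1 fun y hy => by
    obtain ⟨z, rfl⟩ := f.surjective y
    have hz : z ∈ f ⁻¹ᵁ X.basicOpen x := hy
    rw [h] at hz
    exact hz
  exact (Scheme.isNilpotent_iff_basicOpen_eq_bot_of_isCompact isCompact_univ x).2 h'

theorem basicOpen_eq_of_sub_nilp {X : Scheme.{u}} [IsAffine X] {a b : Γ(X, ⊤)} (h : IsNilpotent (b - a)) :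
    X.basicOpen a = X.basicOpen b := by
  suffices ∀ {a b : Γ(X, ⊤)}, IsNilpotent (b - a) → X.basicOpen a ≤ X.basicOpen b from
    le_antisymm (this h) (this (by rw [← neg_sub]; exact h.neg))
  intro a b h
  have e : ∀ c : Γ(X, ⊤), X.basicOpen c = X.toSpecΓ ⁻¹ᵁ PrimeSpectrum.basicOpen c :=
    fun c => (X.toSpecΓ_preimage_basicOpen c).symm
  rw [e, e]
  intro x hx
  have hx' : a ∉ (X.toSpecΓ x).asIdeal := hx
  show b ∉ (X.toSpecΓ x).asIdeal
  intro hb
  obtain ⟨k, hk⟩ := h
  have h1 : b - a ∈ (X.toSpecΓ x).asIdeal := (X.toSpecΓ x).isPrime.mem_of_pow_mem k (hk ▸ Submodule.zero_mem _)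
  exact hx' (by simpa using (X.toSpecΓ x).asIdeal.sub_mem hb h1)

/-- functions on a basic open of an affine scheme form a localization -/
theorem isLocalization_basicOpen_ι {X : Scheme.{u}} [IsAffine X] (a : Γ(X, ⊤)) :
    letI := (X.basicOpen a).ι.appTop.hom.toAlgebra
    IsLocalization.Away a Γ((X.basicOpen a).toScheme, ⊤) := by
  letI := (X.basicOpen a).ι.appTop.hom.toAlgebra
  have : IsLocalization.Away a Γ(X, X.basicOpen a) := (isAffineOpen_top X).isLocalization_basicOpen a
  exact IsLocalization.isLocalization_of_algEquiv (Submonoid.powers a)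
    (AlgEquiv.ofRingEquiv (f := (X.basicOpen a).topIso.symm.commRingCatIsoToRingEquiv) fun r => by
      show (X.basicOpen a).topIso.inv (X.presheaf.map (homOfLE le_top).op r) = (X.basicOpen a).ι.appTop r
      simp [Scheme.Opens.topIso]
      rw [← ConcreteCategory.comp_apply]
      exact congr($(X.presheaf.map_comp _ _).hom r).symm)

namespace Data

variable (D : Data S)

theorem isNilpotent_sub_of_jR {a : D.B} {g : D.A₀} (ha : D.j.left.appTop.hom a = algebraMap D.A₀ D.B₀ g) :
    IsNilpotent (D.sR a - D.tR a) := by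
  have e : ∀ {X Y Z W : Over S} (f : X ⟶ Y) (f' : X ⟶ W) (g : Y ⟶ Z) (g' : W ⟶ Z), f ≫ g = f' ≫ g' →
      ∀ x, f.left.appTop.hom (g.left.appTop.hom x) = f'.left.appTop.hom (g'.left.appTop.hom x) :=
    @fun X Y Z W f f' g g' h x => congr($(congrArg (fun m : X ⟶ Z => m.left.appTop.hom) h) x)
  have h : D.sR a - D.tR a ∈ RingHom.ker D.k.left.appTop.hom := by
    rw [RingHom.mem_ker, map_sub, sub_eq_zero, e _ _ _ _ D.k_s a, e _ _ _ _ D.k_t a, ha]
    exact (e _ _ _ _ D.sqR₀.w g).symm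
  rw [D.ker_kR] at h
  have hle : D.N ≤ (nilradical D.C).comap D.tR := fun x hx =>
    Ideal.mem_comap.2 (mem_nilradical.2 ((D.isNilpotent_of_mem_N hx).map D.tR))
  exact mem_nilradical.1 (Ideal.map_le_iff_le_comap.2 hle h)

theorem invariant_sat {Q : Ideal D.B} {a : D.B} {g : D.A₀} (ha : D.j.left.appTop.hom a = algebraMap D.A₀ D.B₀ g)
    (h₁ : Q.map D.sR ≤ sat (Q.map D.tR) (D.tR a)) (h₂ : Q.map D.tR ≤ sat (Q.map D.sR) (D.sR a)) :
    D.Invariant (sat Q a) := by
  have hn := D.isNilpotent_sub_of_jR ha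
  rw [Invariant, map_sat D.flat_tR, map_sat D.flat_sR]
  refine le_antisymm ?_ ?_
  · rw [sat_congr hn]
    exact (sat_mono h₂ _).trans (sat_sat _ _)
  · rw [← sat_congr hn]
    exact (sat_mono h₁ _).trans (sat_sat _ _)

theorem invariant_pow {I : Ideal D.B} (h : D.Invariant I) (n : ℕ) : D.Invariant (I ^ n) := by
  rw [Invariant, Ideal.map_pow, Ideal.map_pow, h]

theorem invariant_inf {I J : Ideal D.B} (hI : D.Invariant I) (hJ : D.Invariant J) : D.Invariant (I ⊓ J) := by
  rw [Invariant, ThickAlg.map_inf_of_flat D.flat_tR, ThickAlg.map_inf_of_flat D.flat_sR, hI, hJ]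

/-- a nilpotent invariant ideal with affine quotient reduces to the square zero case -/
theorem isAff_of_nilp (hmin : ∀ I : Ideal D.B, D.Invariant I → I ≤ D.N → I ≠ ⊥ → D.IsAffMod I)
    (K : Ideal D.B) (hK : D.Invariant K) (hKN : K ≤ D.N) (hne : K ≠ ⊥) (hnil : IsNilpotent K) : IsAff D.X := by
  classical
  let k := Nat.find hnil
  have hk : K ^ k = ⊥ := Nat.find_spec hnil
  have hk1 : 2 ≤ k := by
    by_contra h
    rcases Nat.lt_or_ge k 1 with h' | h'
    · exact hne (le_bot_iff.1 (by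
        rw [Nat.lt_one_iff.1 h', pow_zero, Ideal.one_eq_top] at hk
        exact hk ▸ le_top))
    · exact hne (by rwa [show k = 1 by omega, pow_one] at hk)
  let L := K ^ (k - 1)
  have hLne : L ≠ ⊥ := fun h => Nat.find_min hnil (m := k - 1) (by omega) h
  have hLN : L ≤ D.N := (Ideal.pow_le_self (by omega)).trans hKN
  have hLsq : ∀ x ∈ L, ∀ y ∈ L, x * y = 0 := fun x hx y hy => by
    have h := Ideal.pow_le_pow_right (I := K) (show k ≤ (k - 1) + (k - 1) by omega)
      (pow_add K (k - 1) (k - 1) ▸ Ideal.mul_mem_mul hx hy)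
    rwa [hk, Ideal.mem_bot] at h
  obtain ⟨D', z, hz, hzI, ⟨u, squ, hu, -⟩, -⟩ := D.exists_restrict L (D.invariant_pow hK _) hLN
  obtain ⟨T, hT, ⟨e⟩⟩ := hmin L (D.invariant_pow hK _) hLN hLne _ z hz hzI
  have : IsClosedImmersion u.left := (repWith_yon_map_iff _ u).1 (RepWith.baseChange squ hz)
  have : Surjective u.left := ⟨fun x => by
    obtain ⟨x₀, rfl⟩ := D.j.left.surjective x
    obtain ⟨l, hl⟩ := (factors_comp_iff hz D.j D.p).2 (by
      rw [hzI, ← comap_eq_bot_iff_le_ker, ofIdealTop_comap,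
        show L.map D.j.left.appTop.hom = ⊥ from (Ideal.map_eq_bot_iff_le_ker _).2 hLN]
      exact Scheme.IdealSheafData.ext_of_isAffine (by simp))
    obtain ⟨j', hj'⟩ := (yon S).map_surjective (squ.lift l ((yon S).map D.j) hl)
    have : j' ≫ u = D.j := (yon S).map_injective (by rw [Functor.map_comp, hj', squ.lift_snd])
    exact ⟨j'.left x₀, by rw [← this]; rfl⟩⟩
  obtain ⟨π, hπ⟩ := (yon S).map_surjective (D'.p ≫ e.inv)
  have sq : IsPullback ((yon S).map π) ((yon S).map u) (e.hom ≫ z) D.p :=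
    squ.of_iso (Iso.refl _) e.symm (Iso.refl _) (Iso.refl _) (by simp [hπ]) (by simp) (by simp) (by simp)
  let D'' : Data S :=
    { X := D.X
      X₀ := T
      U := D.U
      U₀ := D'.U
      i := e.hom ≫ z
      p := D.p
      π := π
      j := u
      hX := D.hX
      affX₀ := hT
      affU := inferInstance
      thick := by
        refine RepWith.and (RepWith.comp (repWith_of_isIso _ e.hom) hz) (RepWith.comp (repWith_of_isIso _ e.hom) ?_)
        refine repWith_surjective_of_surjective_map hz.1 fun x => ?_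
        obtain ⟨v, rfl⟩ := surjective_ofPt D.p D.hs x
        obtain ⟨v', rfl⟩ := u.left.surjective v
        refine ⟨Points.ofPt D'.p v', ?_⟩
        rw [Points.ofPt_eq_map_ofScheme, ← Points.map_comp, squ.w, Points.map_comp, map_yon_map_ofScheme,
          ← Points.ofPt_eq_map_ofScheme]
      he := D.he
      hs := D.hs
      sq := sq }
  refine Data.isAff_of_sq_zero D'' fun x hx y hy => hLsq x ?_ y ?_
  all_goals
    have h1 := congrArg (fun J => J.ideal ⟨⊤, isAffineOpen_top D.U.left⟩) hu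
    simp [Scheme.Hom.ker_apply] at h1
    exact h1.le ‹_›

end Data

end Groth.Agent.AlgSpLib.ThickAff
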