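import Groth.Agent.AlgSpLib.ThickData
import Groth.Agent.AlgSpLib.CartesianQuot
import Groth.Agent.HenselLib.EtaleLift

/-!
An algebraic space which is a square zero thickening of an affine scheme is affine.
-/

universe u

open CategoryTheory CategoryTheory.Limits AlgebraicGeometry Opposite
open AlgSp
open scoped TensorProduct

noncomputable section

namespace Groth.Agent.AlgSpLib.ThickAff

set_option backward.isDefEq.respectTransparency.types false

variable {S : Scheme.{u}}

/-- base change of a quotient is a pushout -/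
theorem isPushout_of_surjective_of_ker {A V A₀ B₀ : Type u} [CommRing A] [CommRing V] [CommRing A₀] [CommRing B₀]
    (a : A →+* V) (h : A →+* A₀) (θ : V →+* B₀) (b : A₀ →+* B₀) (w : θ.comp a = b.comp h)
    (hh : Function.Surjective h) (hθ : Function.Surjective θ) (hk : RingHom.ker θ = (RingHom.ker h).map a) :
    IsPushout (CommRingCat.ofHom a) (CommRingCat.ofHom h) (CommRingCat.ofHom θ) (CommRingCat.ofHom b) := by
  refine ⟨⟨congrArg CommRingCat.ofHom w⟩, ⟨PushoutCocone.IsColimit.mk _ (fun c => CommRingCat.ofHom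
    (θ.liftOfSurjective hθ ⟨c.inl.hom, ?_⟩)) (fun c => ?_) (fun c => ?_) (fun c m h1 _ => ?_)⟩⟩
  · rw [hk, Ideal.map_le_iff_le_comap]
    intro x hx
    show c.inl.hom (a x) = 0
    rw [show c.inl.hom (a x) = c.inr.hom (h x) from congr($(c.condition).hom x), RingHom.mem_ker.1 hx, map_zero]
  · ext x
    exact RingHom.liftOfRightInverse_comp_apply θ _ (Function.rightInverse_surjInv hθ) _ x
  · ext y
    obtain ⟨x, rfl⟩ := hh y
    show _ = c.inr.hom (h x)
    rw [← show c.inl.hom (a x) = c.inr.hom (h x) from congr($(c.condition).hom x)]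
    show (θ.liftOfSurjective hθ _) (b (h x)) = _
    rw [show b (h x) = θ (a x) from congr($w x).symm]
    exact RingHom.liftOfRightInverse_comp_apply θ _ (Function.rightInverse_surjInv hθ) _ _
  · ext y
    obtain ⟨x, rfl⟩ := hθ y
    refine (congr($(h1).hom x)).trans ?_
    exact (RingHom.liftOfRightInverse_comp_apply θ _ (Function.rightInverse_surjInv hθ) ⟨c.inl.hom, _⟩ x).symm

namespace Data

variable (D : Data S)

/-- invariant functions with a value on the reduction -/
def liftRing : Subring (D.B × D.A₀) :=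
  RingHom.eqLocus (D.tR.comp (RingHom.fst _ _)) (D.sR.comp (RingHom.fst _ _)) ⊓
    RingHom.eqLocus (D.j.left.appTop.hom.comp (RingHom.fst _ _)) ((algebraMap D.A₀ D.B₀).comp (RingHom.snd _ _))

theorem exists_lift_of_sq_zero (hN : ∀ x ∈ D.N, ∀ y ∈ D.N, x * y = 0) (a : D.A₀) :
    ∃ b : D.B, D.j.left.appTop.hom b = algebraMap D.A₀ D.B₀ a ∧ D.tR b = D.sR b := by
  obtain ⟨r, hr, hrker, hrt, hrs⟩ := D.exists_reduced_relation
  obtain ⟨m, hm1, hm2⟩ := D.exists_comp
  obtain ⟨r₃, h1, h2, h3, h4⟩ := ThickAlg.exists_triple (t := D.tR) (s := D.sR)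
    (p₁ := D.p₁.left.appTop.hom) (p₂ := D.p₂.left.appTop.hom) (isPushout_appTop_of_isPullback D.sqR₂') D.N
    D.j.left.appTop.hom D.surjective_jR rfl r hr hrker hrt hrs
  have e : ∀ {X Y Z : Over S} (f f' : X ⟶ Y) (g g' : Y ⟶ Z), f ≫ g = f' ≫ g' →
      f.left.appTop.hom.comp g.left.appTop.hom = f'.left.appTop.hom.comp g'.left.appTop.hom :=
    fun f f' g g' h => congrArg (fun x => x.left.appTop.hom) h
  have : Etale D.p₁.left := MorphismProperty.of_isPullback (P := @Etale) D.sqR₂'.flip D.etale_t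
  exact ThickAlg.exists_lift_invariant (p₁ := D.p₁.left.appTop.hom) (p₂ := D.p₂.left.appTop.hom)
    (m := m.left.appTop.hom) D.flat_tR (HasRingHomProperty.appTop (P := @Flat) D.p₁.left inferInstance)
    (e _ _ _ _ hm1.symm) (e _ _ _ _ D.sqR₂.w) (e _ _ _ _ hm2.symm) D.N hN D.j.left.appTop.hom D.surjective_jR rfl
    r hr hrker hrt hrs r₃ h1 h2 h3 h4 a

theorem isAff_of_sq_zero (hN : ∀ x ∈ D.N, ∀ y ∈ D.N, x * y = 0) : IsAff D.X := by
  let A := D.liftRing
  let h : A →+* D.A₀ := (RingHom.snd _ _).comp A.subtype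
  let f : A →+* D.B := (RingHom.fst _ _).comp A.subtype
  have hf : ∀ a, D.tR (f a) = D.sR (f a) := fun a => a.2.1
  have hfh : D.j.left.appTop.hom.comp f = (algebraMap D.A₀ D.B₀).comp h := RingHom.ext fun a => a.2.2
  have hh : Function.Surjective h := fun a => by
    obtain ⟨b, h1, h2⟩ := D.exists_lift_of_sq_zero hN a
    exact ⟨⟨(b, a), h2, h1⟩, rfl⟩
  have hnil : RingHom.ker h ≤ nilradical A := fun x hx => ⟨2, Subtype.ext (Prod.ext (by
    show (f x) ^ 2 = 0
    rw [pow_two]
    refine hN _ ?_ _ ?_ <;>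
      rw [RingHom.mem_ker, show D.j.left.appTop.hom (f x) = _ from congr($hfh x), RingHom.comp_apply,
        RingHom.mem_ker.1 hx, map_zero]) (by
    show (h x) ^ 2 = 0
    rw [RingHom.mem_ker.1 hx, zero_pow two_ne_zero]))⟩
  let eq₀ := RingHom.quotientKerEquivOfSurjective hh
  have het : (algebraMap D.A₀ D.B₀).Etale := HasRingHomProperty.appTop (P := @Etale) D.π.left inferInstance
  letI : Algebra (A ⧸ RingHom.ker h) D.B₀ := ((algebraMap D.A₀ D.B₀).comp eq₀.toRingHom).toAlgebra
  have : Algebra.Etale (A ⧸ RingHom.ker h) D.B₀ := RingHom.etale_algebraMap.1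
    (RingHom.Etale.stableUnderComposition _ _ (RingHom.Etale.of_bijective eq₀.bijective) het)
  obtain ⟨V, _, _, _, θ, hθ, hθk, hθc⟩ := HenselLib.exists_etale_lift A (RingHom.ker h) D.B₀
  replace hθc : θ.comp (algebraMap A V) = (algebraMap D.A₀ D.B₀).comp h := RingHom.ext fun a => hθc a
  letI : Algebra A D.B := f.toAlgebra
  letI : Algebra A D.B₀ := ((algebraMap D.A₀ D.B₀).comp h).toAlgebra
  let θ' : V →ₐ[A] D.B₀ := { θ with commutes' := fun a => congr($hθc a) }
  let q : D.B →ₐ[A] D.B₀ := { D.j.left.appTop.hom with commutes' := fun a => congr($hfh a) }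
  have hq : IsNilpotent (RingHom.ker (q : D.B →+* D.B₀)) := ⟨2, by
    rw [pow_two, Ideal.zero_eq_bot, eq_bot_iff, Ideal.mul_le]
    intro x hx y hy
    exact Ideal.mem_bot.2 (hN x hx y hy)⟩
  let g := Algebra.FormallySmooth.liftOfSurjective θ' q D.surjective_jR hq
  have hg : D.j.left.appTop.hom.comp g.toRingHom = θ := congrArg AlgHom.toRingHom
    (Algebra.FormallySmooth.comp_liftOfSurjective θ' q D.surjective_jR hq)
  obtain ⟨v, hv⟩ : ∃ v : D.U.left ⟶ Spec (CommRingCat.of V),
      v = D.U.left.toSpecΓ ≫ Spec.map (CommRingCat.ofHom g.toRingHom) := ⟨_, rfl⟩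
  let c : Spec (CommRingCat.of V) ⟶ Spec (CommRingCat.of A) := Spec.map (CommRingCat.ofHom (algebraMap A V))
  have : Etale c := (HasRingHomProperty.Spec_iff (P := @Etale)).2 (RingHom.etale_algebraMap.2 inferInstance)
  have hvc : v ≫ c = D.U.left.toSpecΓ ≫ Spec.map (CommRingCat.ofHom f) := by
    rw [hv, Category.assoc, ← Spec.map_comp, ← CommRingCat.ofHom_comp, AlgHom.toRingHom_eq_coe, g.comp_algebraMap]
  have hjv : D.j.left ≫ v = D.U₀.left.toSpecΓ ≫ Spec.map (CommRingCat.ofHom θ) := by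
    rw [hv, ← Category.assoc, Scheme.toSpecΓ_naturality, Category.assoc, ← Spec.map_comp, ← hg]
    rfl
  have hπ : D.π.left ≫ D.X₀.left.toSpecΓ =
      D.U₀.left.toSpecΓ ≫ Spec.map (CommRingCat.ofHom (algebraMap D.A₀ D.B₀)) :=
    Scheme.toSpecΓ_naturality D.π.left
  have sqV : IsPullback (D.j.left ≫ v) D.π.left c (D.X₀.left.toSpecΓ ≫ Spec.map (CommRingCat.ofHom h)) := by
    rw [hjv]
    refine IsPullback.of_iso (isPullback_SpecMap_of_isPushout _ _ _ _
      (isPushout_of_surjective_of_ker _ h θ _ hθc hh hθ hθk))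
      (asIso D.U₀.left.toSpecΓ).symm (Iso.refl _) (asIso D.X₀.left.toSpecΓ).symm (Iso.refl _) ?_ ?_ ?_ ?_
    · simp
    · simp only [asIso_inv, Iso.symm_hom]
      rw [IsIso.comp_inv_eq, Category.assoc, hπ, IsIso.inv_hom_id_assoc]
    · simp only [Iso.refl_hom, Category.comp_id, Category.id_comp]; rfl
    · simp
  have hts : D.t.left ≫ v ≫ c = D.s.left ≫ v ≫ c := by
    rw [hvc, ← Category.assoc, ← Category.assoc, Scheme.toSpecΓ_naturality, Scheme.toSpecΓ_naturality,
      Category.assoc, Category.assoc, ← Spec.map_comp, ← Spec.map_comp]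
    congr 2
    exact CommRingCat.hom_ext (RingHom.ext hf)
  have : Surjective c := by
    have : Surjective (Spec.map (CommRingCat.ofHom h)) := ⟨fun x => by
      have hx := range_comap_of_surjective _ h hh
      rw [(PrimeSpectrum.zeroLocus_eq_univ_iff _).2 hnil] at hx
      exact Set.range_eq_univ.1 hx x⟩
    have h1 : Surjective ((D.j.left ≫ v) ≫ c) := by rw [sqV.w]; infer_instance
    exact Surjective.of_comp (D.j.left ≫ v) c
  have sqP := IsPullback.of_hasPullback (v ≫ c) c
  let w := sqP.lift D.t.left (D.s.left ≫ v) (by rw [Category.assoc, hts])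
  have hw1 : w ≫ pullback.fst (v ≫ c) c = D.t.left := sqP.lift_fst ..
  have hw2 : w ≫ pullback.snd (v ≫ c) c = D.s.left ≫ v := sqP.lift_snd ..
  have : Etale (pullback.fst (v ≫ c) c) := MorphismProperty.pullback_fst _ _ inferInstance
  have : Etale (w ≫ pullback.fst (v ≫ c) c) := hw1 ▸ D.etale_t
  have : Etale w := Etale.of_comp w (pullback.fst (v ≫ c) c)
  have hkt : D.k.left ≫ D.t.left = D.t₀.left ≫ D.j.left := congrArg (·.left) D.k_t
  have hks : D.k.left ≫ D.s.left = D.s₀.left ≫ D.j.left := congrArg (·.left) D.k_s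
  have big : IsPullback ((D.k.left ≫ w) ≫ pullback.snd (v ≫ c) c) D.t₀.left c (D.j.left ≫ v ≫ c) := by
    have h2 : (D.j.left ≫ v) ≫ c = _ := sqV.w
    rw [Category.assoc, hw2, ← Category.assoc, hks, Category.assoc, ← Category.assoc D.j.left, h2]
    exact (D.sqR₀.flip.map (Over.forget S)).paste_horiz sqV
  have sqw : IsPullback (D.k.left ≫ w) D.t₀.left (pullback.fst (v ≫ c) c) D.j.left :=
    IsPullback.of_right big (by rw [Category.assoc, hw1, hkt]) sqP.flip
  have sqk0 : IsPullback D.k.left (𝟙 D.R₀.left) w (D.k.left ≫ w) :=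
    IsPullback.of_bot (by rw [Category.id_comp, hw1]; exact D.sqk.flip) (by rw [Category.id_comp]) sqw
  have : IsClosedImmersion (D.k.left ≫ w) :=
    MorphismProperty.of_isPullback (P := @IsClosedImmersion) sqw.flip D.closedImmersion_j
  have : Surjective (D.k.left ≫ w) :=
    MorphismProperty.of_isPullback (P := @Surjective) sqw.flip D.surjective_j
  have := isIso_of_thick_etale sqk0
  exact exists_affine_of_cartesian_chart D.he D.hs D.sqR c v hts
    (sqP.of_iso (asIso w).symm (Iso.refl _) (Iso.refl _) (Iso.refl _) (by simp [hw1]) (by simp [hw2]) (by simp)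
      (by simp))

end Data

end Groth.Agent.AlgSpLib.ThickAff
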