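import Groth.Agent.Stk19.AlgSt.UnramDiag
import Groth.Agent.AlgSpLib.MorMore2
import Groth.Agent.AlgSpLib.GroupoidLemmas
import Groth.Prelude.Def_AlgSpGpd

/-!
Unramified and quasi-finite morphisms detected on the self base change; pseudo torsors.
-/

universe u

open CategoryTheory CategoryTheory.Limits AlgebraicGeometry Opposite
open AlgSp

noncomputable section

namespace Groth.Agent.AlgSpLib

set_option backward.isDefEq.respectTransparency.types false

variable {S : Scheme.{u}}

theorem diag_open_of_self {X B : Space S} (f : X.obj ⟶ B.obj)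
    (h : LocP (@LocallyOfFiniteType ⊓ @FormallyUnramified) (pullback.snd f f)) :
    RepWith @IsOpenImmersion (pullback.diagonal f) := by
  have hP := isAlgSpace_of_isPullback B.property.diag X.property X.property (IsPullback.of_hasPullback f f)
  refine repWith_of_comp @IsOpenImmersion (b := pullback.snd f f) ?_
    (Stk19.diag_of_locP_unram (V := ⟨_, hP⟩) (Z := X) (pullback.snd f f) h)
  rw [pullback.diagonal_snd]
  exact repWith_of_isIso _ _

theorem locP_unram_of_self {X B : Space S} (f : X.obj ⟶ B.obj) (hl : LocP @LocallyOfFiniteType f)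
    (h : LocP (@LocallyOfFiniteType ⊓ @FormallyUnramified) (pullback.snd f f)) :
    LocP (@LocallyOfFiniteType ⊓ @FormallyUnramified) f :=
  Stk19.locP_unram_of_diag f hl (diag_open_of_self f h)

theorem locP_lqf_of_self {X B : Space S} (f : X.obj ⟶ B.obj) (hl : LocP @LocallyOfFiniteType f)
    (h : LocP (@LocallyQuasiFinite ⊓ @LocallyOfFiniteType) (pullback.snd f f)) :
    LocP (@LocallyQuasiFinite ⊓ @LocallyOfFiniteType) f := by
  obtain ⟨V, b, hbe, hbs⟩ := B.property.atlas
  obtain ⟨W, a, m, hae, has, w⟩ := exists_chart_over X.property B.property f b hbe hbs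
  refine locP_of_chart_square etLocal_lqf X.property a hae has b hbe m ?_ w
  have : LocallyOfFiniteType m.left := hl a b m hae hbe w
  let g := (yon S).map m ≫ b
  have hW := IsAlgSpace.yon_obj (S := S) W
  have hWX := isAlgSpace_of_isPullback B.property.diag X.property hW (IsPullback.of_hasPullback f g)
  have hP := isAlgSpace_of_isPullback B.property.diag X.property X.property (IsPullback.of_hasPullback f f)
  -- the projection of `X ×_B W`
  have hq : LocP (@LocallyQuasiFinite ⊓ @LocallyOfFiniteType) (pullback.snd f g) := by
    refine locP_of_isPullback etLocal_lqf hP X.property hWX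
      (fst := pullback.lift (pullback.fst f g) (pullback.snd f g ≫ a)
        (by rw [Category.assoc, w]; exact pullback.condition)) (g := a) ?_ h
    refine IsPullback.of_right ?_ (pullback.lift_snd _ _ _) (IsPullback.of_hasPullback f f)
    rw [pullback.lift_fst, w]
    exact IsPullback.of_hasPullback f g
  -- the map from the chart
  let d := pullback.map ((yon S).map m) ((yon S).map m) g g (𝟙 _) (𝟙 _) b
    (Category.id_comp g).symm (Category.id_comp g).symm
  have hd : RepWith @Etale d := RepWith.baseChange (pullback_map_diagonal_isPullback ((yon S).map m) ((yon S).map m) b)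
    (RepWith.mono (fun _ _ φ (_ : IsOpenImmersion φ) => (inferInstance : Etale φ))
      ((repWith_diagonal_iff hbe.1).2 (RepWith.mono (fun _ _ φ (_ : Etale φ) =>
        (inferInstance : IsOpenImmersion (pullback.diagonal φ))) hbe)))
  let e : pullback g g ⟶ pullback f g := pullback.lift (pullback.fst g g ≫ a) (pullback.snd g g)
    (by rw [Category.assoc, w]; exact pullback.condition)
  have he : RepWith @Etale e := by
    refine RepWith.baseChange (fst := pullback.fst g g) (g := pullback.fst f g) ?_ hae
    refine IsPullback.of_bot ?_ (pullback.lift_fst _ _ _).symm (IsPullback.of_hasPullback f g)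
    rw [pullback.lift_snd, w]
    exact IsPullback.of_hasPullback g g
  have sqm := (IsPullback.of_hasPullback m m).map (yon S)
  let i := sqm.isoPullback
  have hl' : LocP (@LocallyQuasiFinite ⊓ @LocallyOfFiniteType) ((yon S).map (pullback.snd m m)) := by
    have hc : i.hom ≫ (d ≫ e) ≫ pullback.snd f g = (yon S).map (pullback.snd m m) := by
      rw [Category.assoc d e, pullback.lift_snd, pullback.lift_snd, Category.comp_id,
        IsPullback.isoPullback_hom_snd]
    rw [← hc, ← Category.assoc]
    refine locP_comp etLocal_lqf (IsAlgSpace.yon_obj _) hWX hW (locP_of_repWith etLocal_lqf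
      (IsAlgSpace.yon_obj _) ?_) hq
    have := etLocal_lqf.{u}.bc
    exact RepWith.mono etLocal_lqf.of_etale (RepWith.comp (repWith_of_isIso _ _) (RepWith.comp hd he))
  have h1 := hl' (𝟙 _) (𝟙 _) (pullback.snd m m) (repWith_of_isIso _ _) (repWith_of_isIso _ _) (by simp)
  have h2 : LocallyQuasiFinite (pullback.fst m.left m.left) := by
    have sqL := ((IsPullback.of_hasPullback m m).map (Over.forget S)).flip
    have e' : pullback.fst m.left m.left = sqL.isoPullback.inv ≫ (pullback.snd m m).left :=
      (IsPullback.isoPullback_inv_fst sqL).symm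
    rw [e']
    exact (MorphismProperty.cancel_left_of_respectsIso @LocallyQuasiFinite _ _).2 h1.1
  exact ⟨Stk19.lqf_of_self_pullback m.left, inferInstance⟩

/-- the projection of the self product of a pseudo torsor is a base change of the group -/
theorem locP_snd_of_isPseudoTorsor {P : MorphismProperty Scheme.{u}} (hP : EtLocal P) {B : Sp S}
    (hB : IsAlgSpace B) {G X : Over B} [GrpObj G] (hG : IsAlgSpace G.left) (hX : IsAlgSpace X.left)
    (a : GAction G X) (ha : a.IsPseudoTorsor) (h : LocP P G.hom) :
    LocP P (pullback.snd X.hom X.hom) := by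
  open MonoidalCategory CartesianMonoidalCategory in
  have : IsIso (lift a.act (snd G X)).left :=
    (by
      have : IsIso (lift a.act (snd G X)) := ha
      exact inferInstanceAs (IsIso ((Over.forget B).map (lift a.act (snd G X)))))
  have hGX := isAlgSpace_of_isPullback hB.diag hG hX (IsPullback.of_hasPullback G.hom X.hom)
  have hXX := isAlgSpace_of_isPullback hB.diag hX hX (IsPullback.of_hasPullback X.hom X.hom)
  have h1 : LocP P (pullback.snd G.hom X.hom) :=
    locP_of_isPullback hP hG hB hGX (IsPullback.of_hasPullback G.hom X.hom) h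
  open MonoidalCategory CartesianMonoidalCategory in
  let φ : pullback G.hom X.hom ⟶ pullback X.hom X.hom := (lift a.act (snd G X)).left
  have : IsIso φ := ‹_›
  have hφ : φ ≫ pullback.snd X.hom X.hom = pullback.snd G.hom X.hom := by
    open MonoidalCategory CartesianMonoidalCategory in
    exact congrArg (fun k => k.left) (lift_snd a.act (snd G X))
  rw [← (IsIso.inv_comp_eq φ).2 hφ.symm]
  exact locP_comp hP hXX hGX hX (locP_of_repWith hP hXX (RepWith.mono hP.of_etale (repWith_of_isIso @Etale _))) h1

end Groth.Agent.AlgSpLib
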