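import Groth.Agent.AlgSpLib.DiagCrit
import Groth.Agent.AlgSpLib.DenseScheme
import Groth.Agent.AlgSpLib.DecentMore
import Groth.Agent.AlgSpLib.QuasiAffPts

/-!
Schemes of tuples of distinct lifts along an affine etale chart.
-/

universe u

open CategoryTheory CategoryTheory.Limits AlgebraicGeometry Opposite
open AlgSp

noncomputable section

namespace Groth.Agent.AlgSpLib

set_option backward.isDefEq.respectTransparency.types false

variable {S : Scheme.{u}} {X : Sp S}

/-- a geometric point of a scheme over `S`, as a morphism over `S` -/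
abbrev geomHom {T : Over S} {Ω : Type u} [Field Ω] (h : Spec (CommRingCat.of Ω) ⟶ T.left) :
    Over.mk (h ≫ T.hom) ⟶ T := Over.homMk h

/-- the locus where two lifts along a separated etale chart agree is clopen -/
theorem exists_eqLocus (hX : IsAlgSpace X) {U : Over S} [IsSeparated U.hom] (a : (yon S).obj U ⟶ X)
    (ha : RepWith @Etale a) {T : Over S} (f g : T ⟶ U) (w : (yon S).map f ≫ a = (yon S).map g ≫ a) :
    ∃ E : Set ↥T.left, IsClopen E ∧ ∀ (Ω : Type u) [Field Ω] (h : Spec (CommRingCat.of Ω) ⟶ T.left),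
      FlatMorWeight.pt h ∈ E ↔ h ≫ f.left = h ≫ g.left := by
  obtain ⟨t, ht⟩ := (yon S).map_surjective (ha.1.fst a)
  let s : ha.1.pullback a ⟶ U := ha.1.snd a
  have sqR : IsPullback ((yon S).map t) ((yon S).map s) a a := ht ▸ ha.1.isPullback a
  obtain ⟨e, he⟩ := (yon S).map_surjective (sqR.lift (𝟙 _) (𝟙 _) rfl)
  have het : e ≫ t = 𝟙 U := (yon S).map_injective (by
    rw [Functor.map_comp, he, sqR.lift_fst, CategoryTheory.Functor.map_id])
  have hes : e ≫ s = 𝟙 U := (yon S).map_injective (by
    rw [Functor.map_comp, he, sqR.lift_snd, CategoryTheory.Functor.map_id])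
  have : Etale s.left := ha.property _ _ _ sqR
  have : IsSeparated s.left := (repWith_isSeparated_of_isSeparated_source hX a).property _ _ _ sqR
  have hes' : e.left ≫ s.left = 𝟙 _ := congrArg (fun k => k.left) hes
  have : Etale (e.left ≫ s.left) := by rw [hes']; infer_instance
  have : Etale e.left := Etale.of_comp e.left s.left
  have : IsSplitMono e.left := IsSplitMono.mk' ⟨s.left, hes'⟩
  have : IsOpenImmersion e.left := IsOpenImmersion.of_flat_of_mono e.left
  have : IsClosedImmersion (e.left ≫ s.left) := by rw [hes']; infer_instance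
  have : IsClosedImmersion e.left := IsClosedImmersion.of_comp e.left s.left
  obtain ⟨n, hn⟩ := (yon S).map_surjective (sqR.lift ((yon S).map f) ((yon S).map g) w)
  have hnt : n ≫ t = f := (yon S).map_injective (by rw [Functor.map_comp, hn, sqR.lift_fst])
  have hns : n ≫ s = g := (yon S).map_injective (by rw [Functor.map_comp, hn, sqR.lift_snd])
  refine ⟨n.left ⁻¹' Set.range e.left, ⟨e.left.isClosedEmbedding.isClosed_range.preimage n.left.continuous,
    e.left.isOpenEmbedding.isOpen_range.preimage n.left.continuous⟩, fun Ω _ h => ⟨fun hh => ?_, fun hh => ?_⟩⟩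
  · have hr : Set.range (h ≫ n.left) ⊆ Set.range e.left := by
      rintro _ ⟨z, rfl⟩
      rw [Scheme.Hom.comp_apply, FlatMorWeight.eq_pt]
      exact hh
    have e1 : h ≫ n.left = IsOpenImmersion.lift e.left (h ≫ n.left) hr ≫ e.left :=
      (IsOpenImmersion.lift_fac _ _ _).symm
    have het' : e.left ≫ t.left = 𝟙 _ := congrArg (fun k => k.left) het
    have hnt' : n.left ≫ t.left = f.left := congrArg (fun k => k.left) hnt
    have hns' : n.left ≫ s.left = g.left := congrArg (fun k => k.left) hns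
    rw [← hnt', ← hns', reassoc_of% e1, reassoc_of% e1, het', hes']
  · have e1 : geomHom h ≫ n = (geomHom h ≫ f) ≫ e := by
      refine (yon S).map_injective (sqR.hom_ext ?_ ?_)
      · rw [← Functor.map_comp, ← Functor.map_comp, Category.assoc, Category.assoc, hnt, het, Category.comp_id]
      · rw [← Functor.map_comp, ← Functor.map_comp, Category.assoc, Category.assoc, hns, hes, Category.comp_id]
        exact congrArg _ (Over.OverMorphism.ext hh.symm)
    have e2 : h ≫ n.left = (h ≫ f.left) ≫ e.left := congrArg (fun k : Over.mk (h ≫ T.hom) ⟶ _ => k.left) e1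
    exact ⟨FlatMorWeight.pt (h ≫ f.left), (congrArg FlatMorWeight.pt e2).symm⟩

/-- an open containing all geometric points of the source receives the morphism -/
theorem range_subset_of_geomPt {T Z : Scheme.{u}} (f : T ⟶ Z) {O : Set ↥Z}
    (h : ∀ (Ω : Type u) [Field Ω] (g : Spec (CommRingCat.of Ω) ⟶ T), FlatMorWeight.pt (g ≫ f) ∈ O) :
    Set.range f ⊆ O := by
  rintro _ ⟨x, rfl⟩
  obtain ⟨g, hg⟩ := FlatMorWeight.exists_geomPt x
  have := h _ g
  rwa [FlatMorWeight.pt_comp, hg] at this

/-- the fibre powers of a chart -/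
theorem exists_fibrePower (hX : IsAlgSpace X) {U : Over S} [IsAffine U.left] (a : (yon S).obj U ⟶ X)
    (ha : RepWith @Etale a) (n : ℕ) :
    ∃ (Z : Over S) (q : (yon S).obj Z ⟶ X) (c : Fin (n + 1) → (Z ⟶ U)) (A : Scheme.{u}) (φ : Z.left ⟶ A),
      RepWith @Etale q ∧ (∀ i, (yon S).map (c i) ≫ a = q) ∧ IsAffine A ∧ Mono φ ∧ LocallyOfFiniteType φ ∧
      (RepWith @QuasiCompact a → CompactSpace ↥Z.left) ∧
      ∀ (T : Over S) (f : Fin (n + 1) → (T ⟶ U)),
        (∀ i j, (yon S).map (f i) ≫ a = (yon S).map (f j) ≫ a) → ∃! h : T ⟶ Z, ∀ i, h ≫ c i = f i := by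
  induction n with
  | zero =>
    refine ⟨U, a, fun _ => 𝟙 U, U.left, 𝟙 U.left, ha, fun _ => ?_, inferInstance, inferInstance, inferInstance,
      fun _ => inferInstance, fun T f _ => ⟨f 0, fun i => ?_, fun h hh => ?_⟩⟩
    · erw [(yon S).map_id, Category.id_comp]
    · rw [Fin.fin_one_eq_zero i, Category.comp_id]
    · rw [← hh 0, Category.comp_id]
  | succ n ih =>
    obtain ⟨Z, q, c, A, φ, hq, hc, hA, hφ, hφf, hcpt, huniv⟩ := ih
    obtain ⟨t, ht⟩ := (yon S).map_surjective (ha.1.fst q)
    let P : Over S := ha.1.pullback q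
    let d : P ⟶ Z := ha.1.snd q
    have sq : IsPullback ((yon S).map t) ((yon S).map d) a q := ht ▸ ha.1.isPullback q
    have : Etale d.left := ha.property _ _ _ sq
    have : IsAffine (A ⨯ U.left) := IsAffine.of_isIso (prodIsoPullback A U.left).hom
    let ψ : P.left ⟶ A ⨯ U.left := prod.lift (d.left ≫ φ) t.left
    have hψ : LocallyOfFiniteType ψ := by
      have : LocallyOfFiniteType (ψ ≫ prod.fst) := by rw [prod.lift_fst]; infer_instance
      exact locallyOfFiniteType_of_comp ψ prod.fst
    have hψm : Mono ψ := ⟨fun {W} g₁ g₂ hg => by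
      have a1 := congr($hg ≫ prod.fst)
      have a2 := congr($hg ≫ prod.snd)
      simp only [ψ, Category.assoc, prod.lift_fst, prod.lift_snd] at a1 a2
      rw [← Category.assoc, ← Category.assoc, cancel_mono φ] at a1
      have eW : g₂ ≫ P.hom = g₁ ≫ P.hom := by rw [← Over.w t, ← Category.assoc, ← a2, Category.assoc]
      let G₁ : Over.mk (g₁ ≫ P.hom) ⟶ P := Over.homMk g₁
      let G₂ : Over.mk (g₁ ≫ P.hom) ⟶ P := Over.homMk g₂ eW
      have : G₁ = G₂ := (yon S).map_injective (sq.hom_ext
        (by rw [← Functor.map_comp, ← Functor.map_comp]; exact congrArg _ (Over.OverMorphism.ext a2))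
        (by rw [← Functor.map_comp, ← Functor.map_comp]; exact congrArg _ (Over.OverMorphism.ext a1)))
      exact congrArg (fun k : Over.mk (g₁ ≫ P.hom) ⟶ P => k.left) this⟩
    refine ⟨P, (yon S).map d ≫ q, Fin.snoc (fun i => d ≫ c i) t, A ⨯ U.left, ψ, RepWith.comp
      ((repWith_yon_map_iff (P := @Etale) d).2 inferInstance) hq, fun i => ?_, inferInstance, hψm, hψ,
      fun haq => ?_, fun T f hf => ?_⟩
    · induction i using Fin.lastCases with
      | last => rw [Fin.snoc_last]; exact sq.w
      | cast i => rw [Fin.snoc_castSucc, Functor.map_comp, Category.assoc, hc]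
    · have := hcpt haq
      have : QuasiCompact d.left := haq.property _ _ _ sq
      exact QuasiCompact.compactSpace_of_compactSpace d.left
    · obtain ⟨h₀, hh₀, hu₀⟩ := huniv T (fun i => f i.castSucc) fun i j => hf _ _
      obtain ⟨h, hh⟩ := (yon S).map_surjective (sq.lift ((yon S).map (f (Fin.last _))) ((yon S).map h₀) (by
        rw [← hc 0, ← Category.assoc, ← Functor.map_comp, hh₀]
        exact hf _ _))
      have ht' : h ≫ t = f (Fin.last _) := (yon S).map_injective (by rw [Functor.map_comp, hh, sq.lift_fst])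
      have hd : h ≫ d = h₀ := (yon S).map_injective (by rw [Functor.map_comp, hh, sq.lift_snd])
      refine ⟨h, fun i => ?_, fun h' hh' => ?_⟩
      · induction i using Fin.lastCases with
        | last => rw [Fin.snoc_last, ht']
        | cast i => rw [Fin.snoc_castSucc, reassoc_of% hd, hh₀]
      · refine (yon S).map_injective (sq.hom_ext ?_ ?_)
        · rw [← Functor.map_comp, ← Functor.map_comp, ht', ← hh' (Fin.last _), Fin.snoc_last]
        · rw [← Functor.map_comp, ← Functor.map_comp, hd, hu₀ (h' ≫ d) fun i => ?_]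
          rw [← hh' i.castSucc, Fin.snoc_castSucc, Category.assoc]

/-- the scheme of tuples of pairwise distinct lifts -/
theorem exists_distinctTuples (hX : IsAlgSpace X) {U : Over S} [IsAffine U.left] (a : (yon S).obj U ⟶ X)
    (ha : RepWith @Etale a) (n : ℕ) :
    ∃ (W : Over S) (q : (yon S).obj W ⟶ X) (c : Fin (n + 1) → (W ⟶ U)) (A : Scheme.{u}) (φ : W.left ⟶ A),
      RepWith @Etale q ∧ (∀ i, (yon S).map (c i) ≫ a = q) ∧ IsAffine A ∧ Mono φ ∧ LocallyOfFiniteType φ ∧
      (RepWith @QuasiCompact a → CompactSpace ↥W.left) ∧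
      (∀ (Ω : Type u) [Field Ω] (h : Spec (CommRingCat.of Ω) ⟶ W.left),
        Function.Injective fun i => h ≫ (c i).left) ∧
      ∀ (T : Over S) (f : Fin (n + 1) → (T ⟶ U)),
        (∀ i j, (yon S).map (f i) ≫ a = (yon S).map (f j) ≫ a) →
        (∀ (Ω : Type u) [Field Ω] (h : Spec (CommRingCat.of Ω) ⟶ T.left),
          Function.Injective fun i => h ≫ (f i).left) → ∃! g : T ⟶ W, ∀ i, g ≫ c i = f i := by
  classical
  obtain ⟨Z, q, c, A, φ, hq, hc, hA, hφ, hφf, hcpt, huniv⟩ := exists_fibrePower hX a ha n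
  have : IsSeparated U.hom := inferInstance
  choose E hE hEg using fun i j => exists_eqLocus hX a ha (c i) (c j) ((hc i).trans (hc j).symm)
  let O : Z.left.Opens := ⟨⋂ p : {p : Fin (n + 1) × Fin (n + 1) // p.1 ≠ p.2}, (E p.1.1 p.1.2)ᶜ,
    isOpen_iInter_of_finite fun p => (hE _ _).compl.2⟩
  have hO : ∀ (Ω : Type u) [Field Ω] (h : Spec (CommRingCat.of Ω) ⟶ Z.left),
      FlatMorWeight.pt h ∈ O ↔ Function.Injective fun i => h ≫ (c i).left := fun Ω _ h => by
    refine ⟨fun hm i j hij => ?_, fun hi => Set.mem_iInter.2 fun p hp => p.2 (hi ((hEg _ _ Ω h).1 hp))⟩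
    by_contra hne
    exact Set.mem_iInter.1 hm ⟨(i, j), hne⟩ ((hEg i j Ω h).2 hij)
  let W : Over S := Over.mk (O.ι ≫ Z.hom)
  let j : W ⟶ Z := Over.homMk O.ι
  have hj : IsOpenImmersion j.left := inferInstanceAs (IsOpenImmersion O.ι)
  have hjm : Mono j := (Over.forget S).mono_of_mono_map (inferInstanceAs (Mono O.ι))
  refine ⟨W, (yon S).map j ≫ q, fun i => j ≫ c i, A, O.ι ≫ φ,
    RepWith.comp ((repWith_yon_map_iff (P := @Etale) j).2 inferInstance) hq, fun i => ?_, hA, mono_comp _ _,
    inferInstanceAs (LocallyOfFiniteType (O.ι ≫ φ)), fun haq => ?_, fun Ω _ h => ?_, fun T f hf hinj => ?_⟩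
  · rw [Functor.map_comp, Category.assoc, hc]
  · have := hcpt haq
    have hcl : IsClosed (O : Set ↥Z.left) := isClosed_iInter fun p => (hE _ _).compl.1
    exact isCompact_iff_compactSpace.mp hcl.isCompact
  · exact fun i i' hii' => (hO Ω (h ≫ O.ι)).1 (h (IsLocalRing.closedPoint Ω)).2
      (show (h ≫ O.ι) ≫ (c i).left = (h ≫ O.ι) ≫ (c i').left by
        rw [Category.assoc, Category.assoc]; exact hii')
  · obtain ⟨g₀, hg₀, hu⟩ := huniv T f hf
    have hr : Set.range g₀.left ⊆ Set.range j.left := by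
      refine (range_subset_of_geomPt g₀.left (O := (O : Set ↥Z.left)) fun Ω _ h => (hO Ω _).2 ?_).trans
        (Scheme.Opens.range_ι O).symm.subset
      intro i i' hii'
      refine hinj Ω h ?_
      have e : ∀ k, g₀.left ≫ (c k).left = (f k).left := fun k => congrArg (fun m => m.left) (hg₀ k)
      simp only [Category.assoc, e] at hii'
      exact hii'
    let g : T ⟶ W := Over.homMk (IsOpenImmersion.lift j.left g₀.left hr) (by
      rw [← Over.w j, ← Category.assoc, IsOpenImmersion.lift_fac]; exact Over.w g₀)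
    have hg : g ≫ j = g₀ := Over.OverMorphism.ext (IsOpenImmersion.lift_fac _ _ _)
    refine ⟨g, fun i => ?_, fun g' hg' => (cancel_mono j).1 ?_⟩
    · show g ≫ j ≫ c i = f i
      rw [← Category.assoc, hg, hg₀]
    · rw [hg]
      exact hu (g' ≫ j) fun i => by rw [Category.assoc]; exact hg' i

end Groth.Agent.AlgSpLib
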