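import Mathlib

/-!
Reduction from polynomial rings in arbitrarily many variables to finitely many variables, in the
form used for universal closedness of quasi-compact morphisms.
-/

universe u

namespace Groth.Agent.AlgSpLib

open MvPolynomial PrimeSpectrum

/-- If no point of a closed `Z ⊆ Spec B[x_I]` lies over `t`, then there are finitely many variables
such that no point of the closure of the projection of `Z` lies over the projection of `t`. -/
theorem exists_finite_separating {R B : Type u} [CommRing R] [CommRing B] (φ : R →+* B) {I : Type u}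
    {Z : Set (PrimeSpectrum (MvPolynomial I B))} (hZ : IsClosed Z)
    (t : PrimeSpectrum (MvPolynomial I R))
    (ht : ∀ P ∈ Z, PrimeSpectrum.comap (MvPolynomial.map φ) P ≠ t) :
    ∃ (n : ℕ) (k : ULift.{u} (Fin n) → I),
      ∀ q ∈ closure (PrimeSpectrum.comap (rename k : MvPolynomial _ B →ₐ[B] _).toRingHom '' Z),
        PrimeSpectrum.comap (MvPolynomial.map φ) q ≠
          PrimeSpectrum.comap (rename k : MvPolynomial _ R →ₐ[R] _).toRingHom t := by
  classical
  obtain ⟨J, rfl⟩ := (isClosed_iff_zeroLocus_ideal Z).1 hZ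
  obtain ⟨s, hst, hs⟩ : ∃ s ∉ t.asIdeal,
      MvPolynomial.map φ s ∈ J ⊔ t.asIdeal.map (MvPolynomial.map φ) := by
    by_contra hcon
    push Not at hcon
    have hd : Disjoint ((J ⊔ t.asIdeal.map (MvPolynomial.map φ) : Ideal (MvPolynomial I B)) : Set (MvPolynomial I B))
        ((Submonoid.map (MvPolynomial.map φ) t.asIdeal.primeCompl : Submonoid (MvPolynomial I B)) : Set (MvPolynomial I B)) := by
      rw [Set.disjoint_left]
      rintro _ hx ⟨s, hs, rfl⟩
      exact hcon s hs hx
    obtain ⟨P, hP, hle, hdis⟩ := Ideal.exists_le_prime_disjoint _ _ hd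
    refine ht ⟨P, hP⟩ (le_sup_left.trans hle) (PrimeSpectrum.ext (le_antisymm (fun x hx => ?_) ?_))
    · by_contra hxt
      exact (Set.disjoint_left.1 hdis) hx ⟨x, hxt, rfl⟩
    · exact Ideal.map_le_iff_le_comap.1 (le_sup_right.trans hle)
  obtain ⟨j, hj, b, hb, hjb⟩ := Submodule.mem_sup.1 hs
  obtain ⟨m, c, a, hca⟩ := Submodule.mem_span_set'.1 hb
  choose a' ha' ha'' using fun i => (a i).2
  let F : Finset I := s.vars ∪ Finset.univ.biUnion fun i => (a' i).vars ∪ (c i).vars
  let k : ULift.{u} (Fin F.card) → I := fun i => (F.equivFin.symm i.down).1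
  have hk : Function.Injective k := fun x y h =>
    ULift.ext _ _ (F.equivFin.symm.injective (Subtype.ext h))
  have hkr : ∀ v ∈ F, v ∈ Set.range k := fun v hv => ⟨⟨F.equivFin ⟨v, hv⟩⟩, by simp [k]⟩
  obtain ⟨s₀, hs₀⟩ := exists_rename_eq_of_vars_subset_range s k hk
    fun v hv => hkr v (Finset.mem_union_left _ hv)
  choose a₀ ha₀ using fun i => exists_rename_eq_of_vars_subset_range (a' i) k hk
    fun v hv => hkr v (Finset.mem_union_right _ (Finset.mem_biUnion.2
      ⟨i, Finset.mem_univ _, Finset.mem_union_left _ hv⟩))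
  choose c₀ hc₀ using fun i => exists_rename_eq_of_vars_subset_range (c i) k hk
    fun v hv => hkr v (Finset.mem_union_right _ (Finset.mem_biUnion.2
      ⟨i, Finset.mem_univ _, Finset.mem_union_right _ hv⟩))
  refine ⟨F.card, k, fun q hq e => hst ?_⟩
  let j₀ := MvPolynomial.map φ s₀ - ∑ i, c₀ i * MvPolynomial.map φ (a₀ i)
  have hj₀ : rename k j₀ = j := by
    simp only [j₀, map_sub, map_sum, map_mul, ← MvPolynomial.map_rename, hs₀, ha₀, hc₀, ha'']
    rw [← hjb, ← hca]
    simp [smul_eq_mul]
  have hjq : j₀ ∈ q.asIdeal := by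
    have : q ∈ zeroLocus ({j₀} : Set _) := closure_minimal (fun x hx => by
      obtain ⟨P, hP, rfl⟩ := hx
      rw [mem_zeroLocus, Set.singleton_subset_iff]
      show rename k j₀ ∈ P.asIdeal
      rw [hj₀]
      exact hP hj) (isClosed_zeroLocus _) hq
    simpa using this
  have hsum : ∑ i, c₀ i * MvPolynomial.map φ (a₀ i) ∈ q.asIdeal := by
    refine Ideal.sum_mem _ fun i _ => Ideal.mul_mem_left _ _ ?_
    show a₀ i ∈ (PrimeSpectrum.comap (MvPolynomial.map φ) q).asIdeal
    rw [e]
    show rename k (a₀ i) ∈ t.asIdeal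
    rw [ha₀]
    exact ha' i
  have : MvPolynomial.map φ s₀ ∈ q.asIdeal := by
    simpa [j₀] using q.asIdeal.add_mem hjq hsum
  have h2 : s₀ ∈ (PrimeSpectrum.comap (MvPolynomial.map φ) q).asIdeal := this
  rw [e] at h2
  rw [← hs₀]
  exact h2

end Groth.Agent.AlgSpLib
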