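import Groth.Agent.AlgSpLib.FormallyLift

/-!
Universal first order thickenings may be tested on affine schemes.
-/

universe u

open CategoryTheory CategoryTheory.Limits AlgebraicGeometry
open AlgSp

noncomputable section

namespace Groth.Agent.AlgSpLib

set_option backward.isDefEq.respectTransparency.types false

variable {S : Scheme.{u}} {T T' Z' X : Sp S}

/-- `l : Q ⟶ Z'` solves the lifting problem `(j, a, b)` over `c : Q ⟶ T'` -/
def SolFO (j : T ⟶ T') (a : T ⟶ Z') (b : T' ⟶ X) (h' : Z' ⟶ X) {Q : Sp S} (c : Q ⟶ T') (l : Q ⟶ Z') : Prop :=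
  l ≫ h' = c ≫ b ∧ ∀ {R : Sp S} (u : R ⟶ Q) (z : R ⟶ T), z ≫ j = u ≫ c → u ≫ l = z ≫ a

theorem SolFO.comp {j : T ⟶ T'} {a : T ⟶ Z'} {b : T' ⟶ X} {h' : Z' ⟶ X} {Q Q' : Sp S} {c : Q ⟶ T'}
    {l : Q ⟶ Z'} (h : SolFO j a b h' c l) (k : Q' ⟶ Q) : SolFO j a b h' (k ≫ c) (k ≫ l) :=
  ⟨by rw [Category.assoc, h.1, Category.assoc], fun u z e => by
    rw [← Category.assoc]; exact h.2 (u ≫ k) z (by rw [e, Category.assoc])⟩

theorem existsUnique_of_affine_test {j : T ⟶ T'} (hT' : IsAlgSpace T') (hj : IsFOThickMor j) (a : T ⟶ Z')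
    (b : T' ⟶ X) (h' : Z' ⟶ X)
    (H : ∀ (W V : Over S) (jV : W ⟶ V) (c : (yon S).obj V ⟶ T') (pW : (yon S).obj W ⟶ T),
      IsAffine V.left → RepWith @Etale c → IsFOThickMor ((yon S).map jV) → IsPullback pW ((yon S).map jV) j c →
      ∃! l : (yon S).obj V ⟶ Z', (yon S).map jV ≫ l = pW ≫ a ∧ l ≫ h' = c ≫ b) :
    ∃! l : T' ⟶ Z', j ≫ l = a ∧ l ≫ h' = b := by
  -- affine charts
  have aff : ∀ (V : Over S) (c : (yon S).obj V ⟶ T'), IsAffine V.left → RepWith @Etale c →
      ∃! l : (yon S).obj V ⟶ Z', SolFO j a b h' c l := by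
    intro V c hV hc
    have hcE : IsEtaleMor c := (isEtaleMor_iff_locP etLocal_etale (IsAlgSpace.yon_obj _) hT' c).2
      (locP_of_repWith etLocal_etale (IsAlgSpace.yon_obj _) hc)
    have sq := hj.1.rep.isPullback c
    obtain ⟨l, ⟨h1, h2⟩, hu⟩ := H _ V (hj.1.rep.snd c) c (hj.1.rep.fst c) hV hc
      (foThick_baseChange_etale hj hcE sq) sq
    refine ⟨l, ⟨h2, fun u z e => ?_⟩, fun l' hl' => hu l' ⟨?_, hl'.1⟩⟩
    · obtain ⟨m, hm1, hm2⟩ := sq.exists_lift z u e
      rw [← hm1, ← hm2, Category.assoc, Category.assoc, h1]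
    · exact hl'.2 _ _ sq.w
  -- schemes: uniqueness
  have uniq : ∀ (V : Over S) (c : (yon S).obj V ⟶ T'), RepWith @Etale c → ∀ l l' : (yon S).obj V ⟶ Z',
      SolFO j a b h' c l → SolFO j a b h' c l' → l = l' := by
    intro V c hc l l' h1 h2
    refine yon_hom_ext_of_cover (fun O : V.left.affineOpens => restrictOverι V O.1) (fun v => ?_) _ _ fun O => ?_
    · obtain ⟨O, hO, hvO, -⟩ := exists_isAffineOpen_mem_and_subset (x := v) (U := ⊤) trivial
      exact ⟨⟨O, hO⟩, ⟨v, hvO⟩, rfl⟩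
    · exact (aff (restrictOver V O.1) ((yon S).map (restrictOverι V O.1) ≫ c) O.2
        (RepWith.comp ((repWith_yon_map_iff _ _).2 (inferInstanceAs (Etale O.1.ι))) hc)).unique
        (h1.comp _) (h2.comp _)
  -- schemes: existence
  have exi : ∀ (V : Over S) (c : (yon S).obj V ⟶ T'), RepWith @Etale c →
      ∃ l : (yon S).obj V ⟶ Z', SolFO j a b h' c l := by
    intro V c hc
    let ι : ∀ O : V.left.affineOpens, restrictOver V O.1 ⟶ V := fun O => restrictOverι V O.1
    have hcov : ∀ v : V.left, ∃ O, v ∈ Set.range (ι O).left := fun v => by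
      obtain ⟨O, hO, hvO, -⟩ := exists_isAffineOpen_mem_and_subset (x := v) (U := ⊤) trivial
      exact ⟨⟨O, hO⟩, ⟨v, hvO⟩, rfl⟩
    have hcι : ∀ (O : V.left.Opens), RepWith @Etale ((yon S).map (restrictOverι V O) ≫ c) := fun O =>
      RepWith.comp ((repWith_yon_map_iff _ _).2 (inferInstanceAs (Etale O.ι))) hc
    choose l hl using fun O : V.left.affineOpens =>
      (aff (restrictOver V O.1) _ O.2 (hcι O.1)).exists
    obtain ⟨L, hL⟩ := yon_exists_glue ι hcov l (fun O P Q x y e => by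
      let E := x ≫ ι O
      refine yon_hom_ext_of_cover (fun R : {R : V.left.affineOpens // R.1 ≤ O.1 ⊓ P.1} =>
        restrictOverι Q (E.left ⁻¹ᵁ R.1.1)) (fun q => ?_) _ _ fun R => ?_
      · have h1 : E.left q ∈ O.1 := (x.left q).2
        have h2 : E.left q ∈ P.1 := by
          show (x ≫ ι O).left q ∈ P.1
          rw [e]; exact (y.left q).2
        obtain ⟨R, hR1, hR2⟩ := exists_affine_mem (O := O.1 ⊓ P.1) ⟨h1, h2⟩
        exact ⟨⟨R, hR2⟩, ⟨q, hR1⟩, rfl⟩
      · let rO : restrictOver V R.1.1 ⟶ restrictOver V O.1 :=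
          Over.homMk (V.left.homOfLE (le_trans R.2 (inf_le_left : O.1 ⊓ P.1 ≤ O.1))) (by simp [restrictOver])
        let rP : restrictOver V R.1.1 ⟶ restrictOver V P.1 :=
          Over.homMk (V.left.homOfLE (le_trans R.2 (inf_le_right : O.1 ⊓ P.1 ≤ P.1))) (by simp [restrictOver])
        have eO : rO ≫ ι O = restrictOverι V R.1.1 := Over.OverMorphism.ext (Scheme.homOfLE_ι _ (le_trans R.2 (inf_le_left : O.1 ⊓ P.1 ≤ O.1)))
        have eP : rP ≫ ι P = restrictOverι V R.1.1 := Over.OverMorphism.ext (Scheme.homOfLE_ι _ (le_trans R.2 (inf_le_right : O.1 ⊓ P.1 ≤ P.1)))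
        have hR : (yon S).map rO ≫ l O = (yon S).map rP ≫ l P := by
          refine uniq (restrictOver V R.1.1) _ (hcι R.1.1) _ _ ?_ ?_
          · have := (hl O).comp ((yon S).map rO)
            rwa [← Category.assoc, ← Functor.map_comp, eO] at this
          · have := (hl P).comp ((yon S).map rP)
            rwa [← Category.assoc, ← Functor.map_comp, eP] at this
        let e0 : restrictOver Q (E.left ⁻¹ᵁ R.1.1) ⟶ restrictOver V R.1.1 :=
          Over.homMk (E.left ∣_ R.1.1) (by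
            show (E.left ∣_ R.1.1) ≫ R.1.1.ι ≫ V.hom = (E.left ⁻¹ᵁ R.1.1).ι ≫ Q.hom
            rw [← Category.assoc, morphismRestrict_ι, Category.assoc, Over.w E])
        have : ∀ O' : V.left.affineOpens, Mono (ι O') := fun O' => by
          have : Mono ((Over.forget S).map (ι O')) := inferInstanceAs (Mono O'.1.ι)
          exact (Over.forget S).mono_of_mono_map this
        have ex : restrictOverι Q (E.left ⁻¹ᵁ R.1.1) ≫ x = e0 ≫ rO := by
          rw [← cancel_mono (ι O), Category.assoc, Category.assoc, eO]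
          exact (Over.OverMorphism.ext (morphismRestrict_ι _ _).symm)
        have ey : restrictOverι Q (E.left ⁻¹ᵁ R.1.1) ≫ y = e0 ≫ rP := by
          rw [← cancel_mono (ι P), Category.assoc, Category.assoc, eP, ← e]
          exact (Over.OverMorphism.ext (morphismRestrict_ι _ _).symm)
        rw [← Category.assoc, ← Category.assoc, ← Functor.map_comp, ← Functor.map_comp, ex, ey,
          Functor.map_comp, Functor.map_comp, Category.assoc, Category.assoc, hR])
    refine ⟨L, ?_, fun {R} u z e => hom_ext_of_yon fun R₀ x => ?_⟩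
    · refine yon_hom_ext_of_cover ι hcov _ _ fun O => ?_
      rw [← Category.assoc, hL, (hl O).1, Category.assoc]
    · obtain ⟨u', hu'⟩ := (yon S).map_surjective (x ≫ u)
      refine yon_hom_ext_of_cover (fun O : V.left.affineOpens => restrictOverι R₀ (u'.left ⁻¹ᵁ O.1))
        (fun q => ?_) _ _ fun O => ?_
      · obtain ⟨O, hO, hvO, -⟩ := exists_isAffineOpen_mem_and_subset (x := u'.left q) (U := ⊤) trivial
        exact ⟨⟨O, hO⟩, ⟨q, hvO⟩, rfl⟩
      · let e0 : restrictOver R₀ (u'.left ⁻¹ᵁ O.1) ⟶ restrictOver V O.1 :=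
          Over.homMk (u'.left ∣_ O.1) (by
            show (u'.left ∣_ O.1) ≫ O.1.ι ≫ V.hom = (u'.left ⁻¹ᵁ O.1).ι ≫ R₀.hom
            rw [← Category.assoc, morphismRestrict_ι, Category.assoc, Over.w u'])
        let r := (yon S).map (restrictOverι R₀ (u'.left ⁻¹ᵁ O.1))
        have er : r ≫ x ≫ u = (yon S).map e0 ≫ (yon S).map (ι O) := by
          rw [← hu', ← Functor.map_comp, ← Functor.map_comp]
          exact congrArg _ (Over.OverMorphism.ext (morphismRestrict_ι _ _).symm)
        rw [show r ≫ x ≫ u ≫ L = (yon S).map e0 ≫ l O by rw [reassoc_of% er, hL]]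
        refine ((hl O).2 ((yon S).map e0) (r ≫ x ≫ z) ?_).trans (by simp only [r, Category.assoc])
        rw [Category.assoc, Category.assoc, e, reassoc_of% er]
  -- descent along an atlas
  obtain ⟨U, p, hpe, hps⟩ := hT'.atlas
  have := isLocallySurjective_of_etale hpe hps
  have : Epi p := Sheaf.epi_of_isLocallySurjective p
  obtain ⟨L, hL⟩ := exi U p hpe
  have sqR := (hT'.representable_from_yon p).isPullback p
  have hcomp : pullback.fst p p ≫ L = pullback.snd p p ≫ L := by
    rw [← cancel_epi sqR.isoPullback.hom, ← Category.assoc, ← Category.assoc, sqR.isoPullback_hom_fst,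
      sqR.isoPullback_hom_snd]
    have h1 : RepWith @Etale ((hT'.representable_from_yon p).fst p ≫ p) :=
      RepWith.comp (RepWith.baseChange sqR.flip hpe) hpe
    refine uniq _ _ h1 _ _ (hL.comp _) ?_
    rw [sqR.w]
    exact hL.comp _
  have hid : IsIso (quotSpDesc (s := pullback.snd p p) (t := pullback.fst p p) p pullback.condition.symm) := by
    have : Epi (pullback.lift (pullback.fst p p) (pullback.snd p p) pullback.condition :
        pullback p p ⟶ pullback p p) := by
      rw [show pullback.lift (pullback.fst p p) (pullback.snd p p) pullback.condition = 𝟙 _ from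
        pullback.hom_ext (by rw [pullback.lift_fst, Category.id_comp]) (by rw [pullback.lift_snd, Category.id_comp])]
      infer_instance
    exact isIso_quotSpDesc p pullback.condition.symm
  let l : T' ⟶ Z' := inv (quotSpDesc (s := pullback.snd p p) (t := pullback.fst p p) p pullback.condition.symm) ≫
    quotSpDesc L hcomp.symm
  have hl : p ≫ l = L := by
    have := quotSpπ_desc (s := pullback.snd p p) (t := pullback.fst p p) p pullback.condition.symm
    conv_lhs => rw [← this]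
    rw [Category.assoc, IsIso.hom_inv_id_assoc, quotSpπ_desc]
  refine ⟨l, ⟨?_, ?_⟩, fun l' hl' => ?_⟩
  · refine hom_ext_of_yon fun Q x => ?_
    obtain ⟨C, hC, h⟩ := exists_covering_lift p (x ≫ j)
    refine eq_of_covering hC fun Q' r hr => ?_
    obtain ⟨u, hu⟩ := h r hr
    rw [show (yon S).map r ≫ x ≫ j ≫ l = u ≫ L by rw [← hl, reassoc_of% hu]]
    exact (hL.2 u ((yon S).map r ≫ x) (by rw [Category.assoc, hu])).trans (Category.assoc _ _ _)
  · rw [← cancel_epi p, ← Category.assoc, hl, hL.1]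
  · rw [← cancel_epi p, hl]
    refine uniq U p hpe _ _ ⟨by rw [Category.assoc, hl'.2], fun u z e => ?_⟩ hL
    rw [← Category.assoc, ← e, Category.assoc, hl'.1]

theorem isUnivFOThick_of_affine_test {Z Z' X : Sp S} {h : Z ⟶ X} {i : Z ⟶ Z'} {h' : Z' ⟶ X}
    (hi : IsFOThickMor i) (w : i ≫ h' = h)
    (H : ∀ (T T' : Over S) (j : T ⟶ T'), IsAffine T'.left → IsFOThickMor ((yon S).map j) →
        ∀ (a : (yon S).obj T ⟶ Z) (b : (yon S).obj T' ⟶ X), (yon S).map j ≫ b = a ≫ h →
          ∃! a' : (yon S).obj T' ⟶ Z', (yon S).map j ≫ a' = a ≫ i ∧ a' ≫ h' = b) :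
    IsUnivFOThick h i h' :=
  ⟨hi, w, fun T T' _ hT' j a b hj e => existsUnique_of_affine_test hT' hj (a ≫ i) b h'
    fun W V jV c pW hV _ hjV sq => by
      obtain ⟨l, ⟨h1, h2⟩, hu⟩ := H W V jV hV hjV (pW ≫ a) (c ≫ b) (by
        rw [Category.assoc, ← e, ← Category.assoc, ← sq.w, Category.assoc])
      exact ⟨l, ⟨h1.trans (Category.assoc _ _ _), h2⟩, fun l' h' => hu l' ⟨h'.1.trans (Category.assoc _ _ _).symm, h'.2⟩⟩⟩

end Groth.Agent.AlgSpLib

namespace Groth.Agent.AlgSpLib

variable {S : Scheme.{u}}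

/-- universal first order thickenings descend along etale surjections -/
theorem isUnivFOThick_descend {Z Y Z' Y' X : Sp S} (hZ : IsAlgSpace Z) (hY : IsAlgSpace Y) (hZ' : IsAlgSpace Z')
    (hY'' : IsAlgSpace Y') {e : Z ⟶ Y} (he : IsEtaleMor e) (hes : IsSurjectiveMor e) {h : Y ⟶ X}
    {iZ : Z ⟶ Z'} {iY : Y ⟶ Y'} (hiY : IsFOThickMor iY) {f' : Z' ⟶ Y'} (hf' : IsEtaleMor f')
    (w : iZ ≫ f' = e ≫ iY) {h' : Y' ⟶ X} (w' : iY ≫ h' = h)
    (HU : IsUnivFOThick (e ≫ h) iZ (f' ≫ h')) : IsUnivFOThick h iY h' := by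
  obtain ⟨W, π, hπe, hπs⟩ := hZ.atlas
  have hpe : RepWith @Etale (π ≫ e) := he π hπe
  have hps : RepWith @Surjective (π ≫ e) := repWith_surjective_of_surjective_map
    (hY.representable_from_yon _) (fun y => by
      obtain ⟨z, rfl⟩ := hes y
      obtain ⟨u, hu⟩ := surjective_ofPt π hπs z
      refine ⟨Points.ofScheme W u, ?_⟩
      rw [Points.map_comp, ← hu]
      exact congrArg _ ((Points.map_ofPt _ _ _).trans (congrArg (fun k => Points.ofPt k u) (Category.id_comp π))))
  have hfE := isFormallyEtaleMor_of_isEtaleMor hZ' hY'' hf'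
  have loc : ∀ (sq : InfSq h) (t : ↥sq.ptT'.left),
      ∃ (U' : Over S) (g : U' ⟶ sq.ptT') (U₀ : Over S) (g₀ : U₀ ⟶ sq.ptT) (j' : U₀ ⟶ U')
        (m : (yon S).obj U₀ ⟶ Z), IsAffine U'.left ∧ Etale g.left ∧ (∃ u, g.left u = t) ∧
        IsPullback g₀ j' sq.j g ∧ IsFOThickMor ((yon S).map j') ∧ m ≫ e = (yon S).map g₀ ≫ sq.top := by
    intro sq t
    obtain ⟨t₀, rfl⟩ := ((repWith_yon_map_iff thick sq.j).1 (isThickMor_infSq sq)).2.surj t
    obtain ⟨U', g, hU', hg, hu, U₀, g₀, j', m, hP, hm⟩ := exists_etale_nhd_factor hpe hps sq.I sq.str sq.top t₀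
    exact ⟨U', g, U₀, g₀, j', m ≫ π, hU', hg, hu, hP,
      foThick_baseChange (IsAlgSpace.yon_obj _) (isFOThickMor_infSq sq) _ (hP.map (yon S)),
      (Category.assoc _ _ _).trans hm⟩
  have uniq : ∀ (sq : InfSq h) (l l' : (yon S).obj sq.ptT' ⟶ Y'),
      (yon S).map sq.j ≫ l = sq.top ≫ iY → l ≫ h' = sq.bot →
      (yon S).map sq.j ≫ l' = sq.top ≫ iY → l' ≫ h' = sq.bot → l = l' := by
    intro sq l l' h1 h2 h3 h4
    choose U g U₀ g₀ j' m hU hg hgt hP hj' hm using loc sq
    have : ∀ t, Flat (g t).left := fun t => by have := hg t; infer_instance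
    have : ∀ t, LocallyOfFinitePresentation (g t).left := fun t => by have := hg t; infer_instance
    refine yon_hom_ext_of_cover g (fun z => ⟨z, hgt z⟩) _ _ fun t => ?_
    have key : ∀ l₁ : (yon S).obj sq.ptT' ⟶ Y', (yon S).map sq.j ≫ l₁ = sq.top ≫ iY → l₁ ≫ h' = sq.bot →
        ∃ m₁ : (yon S).obj (U t) ⟶ Z', ((yon S).map (j' t) ≫ m₁ = m t ≫ iZ ∧
          m₁ ≫ f' ≫ h' = (yon S).map (g t) ≫ sq.bot) ∧ m₁ ≫ f' = (yon S).map (g t) ≫ l₁ := by
      intro l₁ k1 k2
      obtain ⟨m₁, ⟨e1, e2⟩, -⟩ := existsUnique_lift_of_formallyEtale (IsAlgSpace.yon_obj _) (hj' t) hfE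
        (m t ≫ iZ) ((yon S).map (g t) ≫ l₁) (by
          rw [Category.assoc, w, ← Category.assoc, hm t, Category.assoc, ← k1, ← Category.assoc, ← Category.assoc,
            ← Functor.map_comp, ← Functor.map_comp, (hP t).w])
      exact ⟨m₁, ⟨e1, by rw [← Category.assoc, e2, Category.assoc, k2]⟩, e2⟩
    obtain ⟨m₁, hm₁, k1⟩ := key l h1 h2
    obtain ⟨m₂, hm₂, k2⟩ := key l' h3 h4
    have := (HU.2.2 (IsAlgSpace.yon_obj _) (IsAlgSpace.yon_obj _) ((yon S).map (j' t)) (m t)
      ((yon S).map (g t) ≫ sq.bot) (hj' t) (by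
        rw [← Category.assoc (m t), hm t, Category.assoc, sq.comm, ← Category.assoc,
          ← Category.assoc, ← Functor.map_comp, ← Functor.map_comp, (hP t).w])).unique hm₁ hm₂
    rw [← k1, this, k2]
  have uniqAll : ∀ {T T' : Sp S}, IsAlgSpace T' → ∀ (j : T ⟶ T'), IsFOThickMor j → ∀ (a : T ⟶ Y) (b : T' ⟶ X),
      a ≫ h = j ≫ b → ∀ l l' : T' ⟶ Y', j ≫ l = a ≫ iY → l ≫ h' = b → j ≫ l' = a ≫ iY → l' ≫ h' = b → l = l' := by
    intro T T' hT' j hj a b hab l l' h1 h2 h3 h4
    obtain ⟨ι, V, c, ψ, hV, hc, hψ, -, hepi⟩ := exists_affine_charts hT'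
    rw [← cancel_epi ψ]
    refine (existsUnique_desc_sigma V fun i => c i ≫ l).unique (fun i => ?_) fun i => ?_
    · rw [← Category.assoc, hψ]
    rw [← Category.assoc, hψ]
    have := hV i
    obtain ⟨sq, d, hb, p, hP, ht⟩ := exists_infSq_chart hj a b hab (c i) (hc i)
    have := uniq sq (d.hom ≫ c i ≫ l) (d.hom ≫ c i ≫ l')
      (by rw [ht, Category.assoc p, ← h1, ← Category.assoc p, hP.w]; simp only [Category.assoc])
      (by rw [hb]; simp only [Category.assoc, h2])
      (by rw [ht, Category.assoc p, ← h3, ← Category.assoc p, hP.w]; simp only [Category.assoc])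
      (by rw [hb]; simp only [Category.assoc, h4])
    exact ((cancel_epi d.hom).1 this).symm
  have exi : ∀ sq : InfSq h, ∃ l : (yon S).obj sq.ptT' ⟶ Y',
      (yon S).map sq.j ≫ l = sq.top ≫ iY ∧ l ≫ h' = sq.bot := by
    intro sq
    choose U g U₀ g₀ j' m hU hg hgt hP hj' hm using loc sq
    have : ∀ t, Flat (g t).left := fun t => by have := hg t; infer_instance
    have : ∀ t, LocallyOfFinitePresentation (g t).left := fun t => by have := hg t; infer_instance
    choose m₁ hm₁ _ using fun t => HU.2.2 (IsAlgSpace.yon_obj _) (IsAlgSpace.yon_obj _) ((yon S).map (j' t)) (m t)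
      ((yon S).map (g t) ≫ sq.bot) (hj' t) (by
        rw [← Category.assoc (m t), hm t, Category.assoc, sq.comm, ← Category.assoc,
          ← Category.assoc, ← Functor.map_comp, ← Functor.map_comp, (hP t).w])
    have sol : ∀ (t) (P : Sp S) (x : P ⟶ (yon S).obj sq.ptT) (y : P ⟶ (yon S).obj (U t)),
        x ≫ (yon S).map sq.j = y ≫ (yon S).map (g t) → y ≫ m₁ t ≫ f' = (x ≫ sq.top) ≫ iY := by
      intro t P x y exy
      obtain ⟨z, hz1, hz2⟩ := ((hP t).map (yon S)).exists_lift x y exy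
      rw [← hz1, ← hz2, Category.assoc, reassoc_of% (hm₁ t).1, w, reassoc_of% hm t]
      simp only [Category.assoc]
    obtain ⟨L, hL⟩ := yon_exists_glue g (fun z => ⟨z, hgt z⟩) (fun t => m₁ t ≫ f') (fun s t Q x y exy => by
      have sq₀ := IsPullback.of_hasPullback ((yon S).map sq.j) ((yon S).map (x ≫ g s))
      refine uniqAll (IsAlgSpace.yon_obj Q) _ (foThick_baseChange (IsAlgSpace.yon_obj _) (isFOThickMor_infSq sq) _ sq₀)
        (pullback.fst _ _ ≫ sq.top) ((yon S).map (x ≫ g s) ≫ sq.bot) ?_ _ _ ?_ ?_ ?_ ?_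
      · rw [Category.assoc, sq.comm, ← Category.assoc, pullback.condition, Category.assoc]
      · rw [← Category.assoc]
        exact sol s _ _ _ (by rw [Category.assoc, ← Functor.map_comp]; exact pullback.condition)
      · rw [Category.assoc, Category.assoc, (hm₁ s).2, ← Category.assoc, ← Functor.map_comp]
      · rw [← Category.assoc]
        exact sol t _ _ _ (by rw [Category.assoc, ← Functor.map_comp, ← exy]; exact pullback.condition)
      · rw [Category.assoc, Category.assoc, (hm₁ t).2, ← Category.assoc, ← Functor.map_comp, exy])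
    refine ⟨L, ?_, ?_⟩
    · have sq₀ := fun t => IsPullback.of_hasPullback sq.j (g t)
      have : ∀ t, Etale (pullback.fst sq.j (g t)).left := fun t =>
        MorphismProperty.of_isPullback ((sq₀ t).map (Over.forget S)).flip (hg t)
      have : ∀ t, Flat (pullback.fst sq.j (g t)).left := fun t => inferInstance
      have : ∀ t, LocallyOfFinitePresentation (pullback.fst sq.j (g t)).left := fun t => inferInstance
      refine yon_hom_ext_of_cover (fun t => pullback.fst sq.j (g t)) (fun z => ?_) _ _ fun t => ?_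
      · obtain ⟨u, hu'⟩ := hgt (sq.j.left z)
        obtain ⟨x, hx, -⟩ := Scheme.Pullback.exists_preimage_pullback z u hu'.symm
        refine ⟨sq.j.left z, ((sq₀ _).map (Over.forget S)).isoPullback.inv x, ?_⟩
        refine Eq.trans ?_ hx
        exact congr($(((sq₀ _).map (Over.forget S)).isoPullback_inv_fst) x)
      · rw [← Category.assoc, ← Functor.map_comp, pullback.condition, Functor.map_comp, Category.assoc, hL]
        refine (sol t _ _ _ ?_).trans (Category.assoc _ _ _)
        rw [← Functor.map_comp, ← Functor.map_comp, pullback.condition]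
    · refine yon_hom_ext_of_cover g (fun z => ⟨z, hgt z⟩) _ _ fun t => ?_
      rw [← Category.assoc, hL, Category.assoc, (hm₁ t).2]
  refine isUnivFOThick_of_affine_test hiY w' fun T T' j hT' hj a b hab => ?_
  obtain ⟨sq, d, hb, p, hP, ht⟩ := exists_infSq_chart hj a b hab.symm (𝟙 ((yon S).obj T'))
    (by rw [← (yon S).map_id]; exact (repWith_yon_map_iff _ _).2 (inferInstanceAs (Etale (𝟙 T'.left))))
  obtain ⟨l, h1, h2⟩ := exi sq
  have k1 : (yon S).map j ≫ d.inv ≫ l = a ≫ iY := by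
    obtain ⟨x, hx1, hx2⟩ := hP.exists_lift (𝟙 _) ((yon S).map j ≫ d.inv) (by simp)
    rw [← Category.assoc, ← hx2, Category.assoc, h1, ht, ← Category.assoc, ← Category.assoc, hx1, Category.id_comp]
  have k2 : (d.inv ≫ l) ≫ h' = b := by rw [Category.assoc, h2, hb, d.inv_hom_id_assoc, Category.id_comp]
  exact ⟨d.inv ≫ l, ⟨k1, k2⟩, fun l' hl' =>
    uniqAll (IsAlgSpace.yon_obj _) _ hj a b hab.symm _ _ hl'.1 hl'.2 k1 k2⟩

end Groth.Agent.AlgSpLib
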