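import Groth.Agent.AlgSpLib.UnivFO
import Groth.Agent.AlgSpLib.FOThick2
import Groth.Agent.AlgSpLib.EqvQuot
import Groth.Agent.AlgSpLib.ThickEtSite
import Groth.Agent.AlgSpLib.MonoLft
import Groth.Agent.AlgSpLib.ClosedSub
import Groth.Agent.Thick15.Construct
import Groth.Agent.Thick15.FOT

/-!
Existence of universal first order thickenings of formally unramified morphisms of algebraic spaces.
-/

universe u

open CategoryTheory CategoryTheory.Limits AlgebraicGeometry
open AlgSp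

noncomputable section

set_option linter.style.haveILetI false

namespace Groth.Agent.AlgSpLib.UnivFOExist

open Groth.Agent.AlgSpLib

set_option backward.isDefEq.respectTransparency.types false
set_option backward.isDefEq.respectTransparency false

variable {S : Scheme.{u}}

/-- first order thickenings of schemes are first order thickenings of spaces -/
theorem isFOThickMor_yon {T T' : Over S} (j : T ⟶ T') (h : MoreMor.IsFirstOrderThickening j.left) :
    IsFOThickMor ((yon S).map j) := by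
  refine ⟨(isThickMor_yon_map_iff j).2 h.1, fun V W b fst snd _ _ sq => ?_⟩
  obtain ⟨b', rfl⟩ := (yon S).map_surjective b
  obtain ⟨f', rfl⟩ := (yon S).map_surjective fst
  exact (Thick15.isFirstOrderThickening_of_isPullback
    ((IsPullback.of_map (yon S) ((yon S).map_injective ((Functor.map_comp _ _ _).trans
      (sq.w.trans (Functor.map_comp _ _ _).symm))) sq).map (Over.forget S)).flip h).2

/-- universal thickenings of schemes are universal thickenings of spaces -/
theorem isUnivFOThick_yon {W U W' : Over S} (g : W ⟶ U) (i : W ⟶ W') (h' : W' ⟶ U)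
    (hu : OmegaSh.IsUnivThickening g.left i.left h'.left) :
    IsUnivFOThick ((yon S).map g) ((yon S).map i) ((yon S).map h') := by
  have hw : i ≫ h' = g := Over.OverMorphism.ext hu.2.1
  refine isUnivFOThick_of_affine_test (isFOThickMor_yon i hu.1) (by rw [← Functor.map_comp, hw]) ?_
  intro T T' j hT' hj a b e
  obtain ⟨a₀, rfl⟩ := (yon S).map_surjective a
  obtain ⟨b₀, rfl⟩ := (yon S).map_surjective b
  have e₀ : j ≫ b₀ = a₀ ≫ g := (yon S).map_injective (by rw [Functor.map_comp, Functor.map_comp]; exact e)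
  obtain ⟨l, ⟨l1, l2⟩, lu⟩ := hu.2.2 T.left T'.left j.left b₀.left a₀.left
    (isFirstOrderThickening_of_isFOThickMor_yon_map hT' hj) (congrArg (fun m => m.left) e₀)
  have hl : l ≫ W'.hom = T'.hom := by
    rw [← Over.w h', ← Category.assoc, l2, Over.w b₀]
  refine ⟨(yon S).map (Over.homMk l hl), ⟨?_, ?_⟩, fun m hm => ?_⟩
  · rw [← Functor.map_comp, ← Functor.map_comp]
    exact congrArg _ (Over.OverMorphism.ext l1)
  · rw [← Functor.map_comp]
    exact congrArg _ (Over.OverMorphism.ext l2)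
  · obtain ⟨m₀, rfl⟩ := (yon S).map_surjective m
    refine congrArg _ (Over.OverMorphism.ext (lu m₀.left ⟨?_, ?_⟩))
    · exact congrArg (fun q => q.left) ((yon S).map_injective (by rw [Functor.map_comp, Functor.map_comp]; exact hm.1) :
        j ≫ m₀ = a₀ ≫ i)
    · exact congrArg (fun q => q.left) ((yon S).map_injective (by rw [Functor.map_comp]; exact hm.2) : m₀ ≫ h' = b₀)

/-- universal thickenings over a base formally etale over another one -/
theorem univ_comp_formallyEtale {Z Z' Y X : Sp S} {hZ : Z ⟶ Y} {i : Z ⟶ Z'} {h' : Z' ⟶ Y}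
    (HU : IsUnivFOThick hZ i h') {g : Y ⟶ X} (hg : IsFormallyEtaleMor g) :
    IsUnivFOThick (hZ ≫ g) i (h' ≫ g) := by
  refine ⟨HU.1, by rw [← Category.assoc, HU.2.1], fun T T' hT hT' j a b hj e => ?_⟩
  obtain ⟨c, ⟨hc1, hc2⟩, hcu⟩ := existsUnique_lift_of_formallyEtale hT' hj hg (a ≫ hZ) b
    ((Category.assoc _ _ _).trans e.symm)
  obtain ⟨a', ⟨h1, h2⟩, hu⟩ := HU.2.2 hT hT' j a c hj hc1
  refine ⟨a', ⟨h1, by rw [← Category.assoc, h2, hc2]⟩, fun a'' h'' => hu a'' ⟨h''.1, hcu _ ⟨?_, ?_⟩⟩⟩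
  · rw [← Category.assoc, h''.1, Category.assoc, HU.2.1]
  · exact (Category.assoc _ _ _).trans h''.2

/-- universal thickenings of schemes etale over the thickened one -/
theorem univ_etale {W W' R R' : Over S} {X : Sp S} {g : (yon S).obj W ⟶ X} {i : W ⟶ W'}
    {φ : (yon S).obj W' ⟶ X} (HU : IsUnivFOThick g ((yon S).map i) φ) {p : R ⟶ W} {ρ : R ⟶ R'} {σ : R' ⟶ W'}
    [Etale σ.left] (sq : IsPullback p ρ i σ) :
    IsUnivFOThick ((yon S).map p ≫ g) ((yon S).map ρ) ((yon S).map σ ≫ φ) := by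
  have sqY := sq.map (yon S)
  have he : IsEtaleMor ((yon S).map σ) :=
    (isEtaleMor_iff_locP etLocal_etale (IsAlgSpace.yon_obj _) (IsAlgSpace.yon_obj _) _).2
      (locP_of_repWith etLocal_etale (IsAlgSpace.yon_obj _) ((repWith_yon_map_iff @Etale σ).2 ‹_›))
  refine ⟨foThick_baseChange_etale HU.1 he sqY, by rw [← Category.assoc, ← sqY.w, Category.assoc, HU.2.1],
    fun T T' hT hT' j a b hj w => ?_⟩
  obtain ⟨a', ⟨h1, h2⟩, hu⟩ := HU.2.2 hT hT' j (a ≫ (yon S).map p) b hj (w.trans (Category.assoc _ _ _).symm)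
  obtain ⟨l, ⟨l1, l2⟩, lu⟩ := existsUnique_lift_of_etale (IsAlgSpace.yon_obj _) (IsAlgSpace.yon_obj _) hT hT' hj.1 he
    (a ≫ (yon S).map ρ) a' (by rw [h1, Category.assoc, Category.assoc, sqY.w])
  refine ⟨l, ⟨l1, by rw [← Category.assoc, l2, h2]⟩, fun l' hl' => lu l' ⟨hl'.1, hu _ ⟨?_, ?_⟩⟩⟩
  · rw [← Category.assoc, hl'.1, Category.assoc, Category.assoc, sqY.w]
  · exact (Category.assoc _ _ _).trans hl'.2

/-- etale schemes over a thickened scheme extend -/
theorem exists_etale_ext {W W' R : Over S} (i : W ⟶ W') [IsClosedImmersion i.left] [Surjective i.left]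
    (p : R ⟶ W) [Etale p.left] :
    ∃ (R' : Over S) (σ : R' ⟶ W') (ρ : R ⟶ R'), Etale σ.left ∧ IsPullback p ρ i σ := by
  have := Et18.bc_isEquivalence_of_thickening i.left
  obtain ⟨V, ⟨e⟩⟩ := Functor.EssSurj.mem_essImage (F := EtCoh.bc i.left) (Scheme.Etale.mk p.left)
  obtain ⟨ε, hε⟩ : ∃ ε : R.left ⟶ pullback V.hom i.left, ε = e.inv.left := ⟨_, rfl⟩
  have : IsIso ε := hε ▸ inferInstanceAs (IsIso ((Scheme.Etale.forget _ ⋙ Over.forget _).map e.inv))
  have hev : ε ≫ pullback.snd V.hom i.left = p.left := by rw [hε]; exact Over.w e.inv.hom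
  have hw : (ε ≫ pullback.fst V.hom i.left) ≫ V.hom = p.left ≫ i.left :=
    (Category.assoc _ _ _).trans ((congrArg (ε ≫ ·) pullback.condition).trans
      ((Category.assoc _ _ _).symm.trans (congrArg (· ≫ i.left) hev)))
  have sq1 : IsPullback (ε ≫ pullback.fst V.hom i.left) p.left V.hom i.left :=
    IsPullback.of_iso_pullback ⟨hw⟩ (asIso ε) rfl hev
  let R' : Over S := Over.mk (V.hom ≫ W'.hom)
  let σ : R' ⟶ W' := Over.homMk V.hom rfl
  let ρ : R ⟶ R' := Over.homMk (ε ≫ pullback.fst V.hom i.left) (by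
    show (ε ≫ pullback.fst V.hom i.left) ≫ V.hom ≫ W'.hom = R.hom
    rw [← Category.assoc, sq1.w, Category.assoc, Over.w i]
    exact Over.w p)
  exact ⟨R', σ, ρ, V.prop, IsPullback.of_map (Over.forget S) (Over.OverMorphism.ext sq1.w.symm) sq1.flip⟩

/-- the thickened relation: both projections -/
theorem exists_rel {W W' R : Over S} {X : Sp S} {g : (yon S).obj W ⟶ X} {i : W ⟶ W'}
    {φ : (yon S).obj W' ⟶ X} (HU : IsUnivFOThick g ((yon S).map i) φ) (s t : R ⟶ W) [Etale s.left] [Etale t.left]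
    (hst : (yon S).map t ≫ g = (yon S).map s ≫ g) :
    ∃ (R' : Over S) (σ τ : R' ⟶ W') (ρ : R ⟶ R'), Etale σ.left ∧ Etale τ.left ∧ IsPullback s ρ i σ ∧
      IsPullback t ρ i τ ∧ (yon S).map τ ≫ φ = (yon S).map σ ≫ φ ∧
      IsUnivFOThick ((yon S).map s ≫ g) ((yon S).map ρ) ((yon S).map σ ≫ φ) := by
  have hi := (isThickMor_yon_map_iff i).1 HU.1.1
  haveI := hi.1
  haveI := hi.2
  obtain ⟨R₁, σ, ρ, hσ, sq₁⟩ := exists_etale_ext i s
  obtain ⟨R₂, τ₀, ρ₂, hτ, sq₂⟩ := exists_etale_ext i t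
  have H₁ := univ_etale HU sq₁
  have H₂ := univ_etale HU sq₂
  rw [hst] at H₂
  have hY : ∀ Q : Over S, IsAlgSpace ((yon S).obj Q) := fun Q => IsAlgSpace.yon_obj Q
  obtain ⟨e, ⟨e1, e2⟩, -⟩ := H₂.2.2 (hY R) (hY R₁) ((yon S).map ρ) (𝟙 _) ((yon S).map σ ≫ φ) H₁.1
    (by rw [H₁.2.1, Category.id_comp])
  obtain ⟨e', ⟨e1', e2'⟩, -⟩ := H₁.2.2 (hY R) (hY R₂) ((yon S).map ρ₂) (𝟙 _) ((yon S).map τ₀ ≫ φ) H₂.1
    (by rw [H₂.2.1, Category.id_comp])
  rw [Category.id_comp] at e1 e1'
  have h₁ : e ≫ e' = 𝟙 _ := (H₁.2.2 (hY R) (hY R₁) ((yon S).map ρ) (𝟙 _) ((yon S).map σ ≫ φ) H₁.1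
    (by rw [H₁.2.1, Category.id_comp])).unique
      ⟨by rw [← Category.assoc, e1, e1', Category.id_comp], by rw [Category.assoc, e2', e2]⟩
      ⟨by rw [Category.comp_id, Category.id_comp], Category.id_comp _⟩
  have h₂ : e' ≫ e = 𝟙 _ := (H₂.2.2 (hY R) (hY R₂) ((yon S).map ρ₂) (𝟙 _) ((yon S).map τ₀ ≫ φ) H₂.1
    (by rw [H₂.2.1, Category.id_comp])).unique
      ⟨by rw [← Category.assoc, e1', e1, Category.id_comp], by rw [Category.assoc, e2, e2']⟩
      ⟨by rw [Category.comp_id, Category.id_comp], Category.id_comp _⟩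
  let ε : R₁ ≅ R₂ := (Functor.FullyFaithful.ofFullyFaithful (yon S)).preimageIso ⟨e, e', h₁, h₂⟩
  have hε : (yon S).map ε.hom = e := (Functor.FullyFaithful.ofFullyFaithful (yon S)).map_preimage e
  have hρ : ρ ≫ ε.hom = ρ₂ := (yon S).map_injective (by rw [Functor.map_comp, hε, e1])
  haveI : IsIso ε.hom.left := inferInstanceAs (IsIso ((Over.forget S).map ε.hom))
  refine ⟨R₁, σ, ε.hom ≫ τ₀, ρ, hσ, ?_, sq₁, ?_, ?_, H₁⟩
  · rw [Over.comp_left]
    infer_instance
  · exact sq₂.of_iso (Iso.refl _) (Iso.refl _) ε.symm (Iso.refl _) (by simp) (by simp [← hρ]) (by simp) (by simp)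
  · rw [Functor.map_comp, Category.assoc, hε, e2]

/-- the thickened relation is an equivalence relation -/
theorem isEtaleEqvRel_lift {Z X : Sp S} {h : Z ⟶ X} {W W' R R' : Over S} {π : (yon S).obj W ⟶ Z} {i : W ⟶ W'}
    {φ : (yon S).obj W' ⟶ X} (HU : IsUnivFOThick (π ≫ h) ((yon S).map i) φ) {s t : R ⟶ W}
    (sqπ : IsPullback ((yon S).map t) ((yon S).map s) π π) {σ τ : R' ⟶ W'} {ρ : R ⟶ R'}
    [Etale σ.left] [Etale τ.left] (sqs : IsPullback s ρ i σ) (sqt : IsPullback t ρ i τ)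
    (hφ : (yon S).map τ ≫ φ = (yon S).map σ ≫ φ)
    (HR : IsUnivFOThick ((yon S).map s ≫ π ≫ h) ((yon S).map ρ) ((yon S).map σ ≫ φ)) :
    IsEtaleEqvRel σ τ := by
  have hY : ∀ Q : Over S, IsAlgSpace ((yon S).obj Q) := fun Q => IsAlgSpace.yon_obj Q
  haveI : Mono i := by
    haveI := mono_of_thickMor HU.1.1
    exact (yon S).mono_of_mono_map (f := i) ‹_›
  have E : IsEqvRel s t := isEqvRel_of_isPullback sqπ
  have hst : (yon S).map t ≫ π = (yon S).map s ≫ π := sqπ.w
  have liftR : ∀ {Q₀ Q : Over S} (j : Q₀ ⟶ Q) (a : Q₀ ⟶ R) (b : (yon S).obj Q ⟶ X),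
      IsFOThickMor ((yon S).map j) → (yon S).map j ≫ b = (yon S).map a ≫ (yon S).map s ≫ π ≫ h →
      ∃ m : Q ⟶ R', (j ≫ m = a ≫ ρ ∧ (yon S).map m ≫ (yon S).map σ ≫ φ = b) ∧
        ∀ m' : Q ⟶ R', j ≫ m' = a ≫ ρ → (yon S).map m' ≫ (yon S).map σ ≫ φ = b → m' = m := by
    intro Q₀ Q j a b hj e
    obtain ⟨l, ⟨l1, l2⟩, lu⟩ := HR.2.2 (hY Q₀) (hY Q) ((yon S).map j) ((yon S).map a) b hj e
    obtain ⟨m, rfl⟩ := (yon S).map_surjective l
    refine ⟨m, ⟨(yon S).map_injective (by rw [Functor.map_comp, Functor.map_comp]; exact l1), l2⟩,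
      fun m' h1 h2 => (yon S).map_injective (lu _ ⟨by rw [← Functor.map_comp, ← Functor.map_comp, h1], h2⟩)⟩
  have uniqW : ∀ {Q₀ Q : Over S} (j : Q₀ ⟶ Q) (a : Q₀ ⟶ W) (m m' : Q ⟶ W'),
      IsFOThickMor ((yon S).map j) → j ≫ m = a ≫ i → j ≫ m' = a ≫ i →
      (yon S).map m ≫ φ = (yon S).map m' ≫ φ → m = m' := by
    intro Q₀ Q j a m m' hj h1 h2 h3
    refine (yon S).map_injective ((HU.2.2 (hY Q₀) (hY Q) ((yon S).map j) ((yon S).map a) ((yon S).map m' ≫ φ) hj
      ?_).unique ⟨?_, h3⟩ ⟨?_, rfl⟩)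
    · rw [← Category.assoc, ← Functor.map_comp, h2, Functor.map_comp, Category.assoc, HU.2.1]
    · rw [← Functor.map_comp, ← Functor.map_comp, h1]
    · rw [← Functor.map_comp, ← Functor.map_comp, h2]
  -- diagonal
  obtain ⟨d, hd⟩ := (yon S).map_surjective (sqπ.lift (𝟙 _) (𝟙 _) rfl)
  have hdt : d ≫ t = 𝟙 W := (yon S).map_injective (by rw [Functor.map_comp, hd, sqπ.lift_fst, (yon S).map_id])
  have hds : d ≫ s = 𝟙 W := (yon S).map_injective (by rw [Functor.map_comp, hd, sqπ.lift_snd, (yon S).map_id])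
  obtain ⟨δ, ⟨hδ1, hδ2⟩, -⟩ := liftR i d φ HU.1 (by
    rw [HU.2.1, ← Category.assoc ((yon S).map d), ← Functor.map_comp, hds, (yon S).map_id, Category.id_comp])
  have hδσ : δ ≫ σ = 𝟙 W' := uniqW i (𝟙 W) _ _ HU.1
    (by rw [reassoc_of% hδ1, ← sqs.w, reassoc_of% hds, Category.id_comp])
    (by rw [Category.comp_id, Category.id_comp])
    (by rw [Functor.map_comp, Category.assoc, hδ2, (yon S).map_id, Category.id_comp])
  have hδτ : δ ≫ τ = 𝟙 W' := uniqW i (𝟙 W) _ _ HU.1
    (by rw [reassoc_of% hδ1, ← sqt.w, reassoc_of% hdt, Category.id_comp])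
    (by rw [Category.comp_id, Category.id_comp])
    (by rw [Functor.map_comp, Category.assoc, hφ, hδ2, (yon S).map_id, Category.id_comp])
  -- swap
  obtain ⟨w, hw⟩ := (yon S).map_surjective (sqπ.lift ((yon S).map s) ((yon S).map t) hst.symm)
  have hwt : w ≫ t = s := (yon S).map_injective (by rw [Functor.map_comp, hw, sqπ.lift_fst])
  have hws : w ≫ s = t := (yon S).map_injective (by rw [Functor.map_comp, hw, sqπ.lift_snd])
  obtain ⟨ω, ⟨hω1, hω2⟩, -⟩ := liftR ρ w ((yon S).map σ ≫ φ) HR.1 (by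
    rw [HR.2.1, ← Category.assoc ((yon S).map w), ← Functor.map_comp, hws, ← Category.assoc ((yon S).map s), ← hst,
      Category.assoc])
  have hωσ : ω ≫ σ = τ := uniqW ρ t _ _ HR.1
    (by rw [reassoc_of% hω1, ← sqs.w, reassoc_of% hws]) sqt.w.symm
    (by rw [Functor.map_comp, Category.assoc, hω2, hφ])
  have hωτ : ω ≫ τ = σ := uniqW ρ s _ _ HR.1
    (by rw [reassoc_of% hω1, ← sqt.w, reassoc_of% hwt]) sqs.w.symm
    (by rw [Functor.map_comp, Category.assoc, hφ, hω2])
  refine ⟨⟨fun Q q q' hτ' hσ' => ?_, fun Q => ⟨fun a => ?_, ?_, ?_⟩⟩, ‹_›, ‹_›⟩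
  · have sq := IsPullback.of_hasPullback q ρ
    have hk : IsFOThickMor ((yon S).map (pullback.fst q ρ)) :=
      foThick_baseChange (hY R') HR.1 _ (sq.map (yon S)).flip
    obtain ⟨l', hl1, hl2⟩ := sqs.exists_lift (pullback.snd q ρ ≫ s) (pullback.fst q ρ ≫ q') (by
      rw [Category.assoc, Category.assoc, ← hσ', reassoc_of% sq.w, sqs.w])
    have hl' : l' = pullback.snd q ρ := by
      refine E.injective _ _ _ ?_ hl1
      rw [← cancel_mono i, Category.assoc, Category.assoc, sqt.w, reassoc_of% hl2, ← hτ', reassoc_of% sq.w]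
    rw [hl'] at hl2
    obtain ⟨m, -, mu⟩ := liftR (pullback.fst q ρ) (pullback.snd q ρ) ((yon S).map q ≫ (yon S).map σ ≫ φ) hk (by
      rw [← Category.assoc, ← Functor.map_comp, sq.w, Functor.map_comp, Category.assoc, HR.2.1])
    refine (mu q sq.w rfl).trans (mu q' hl2.symm ?_).symm
    rw [← Category.assoc, ← Functor.map_comp, ← hσ', Functor.map_comp, Category.assoc]
  · exact ⟨a ≫ δ, by rw [Category.assoc, hδτ, Category.comp_id], by rw [Category.assoc, hδσ, Category.comp_id]⟩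
  · rintro a b ⟨r, rfl, rfl⟩
    exact ⟨r ≫ ω, by rw [Category.assoc, hωτ], by rw [Category.assoc, hωσ]⟩
  · rintro a b c ⟨r, rfl, rfl⟩ ⟨r', h1, rfl⟩
    have sqC := IsPullback.of_hasPullback σ τ
    obtain ⟨q, hq1, hq2⟩ := sqC.exists_lift r r' h1.symm
    let c₁ := pullback.fst σ τ
    let c₂ := pullback.snd σ τ
    have sq := IsPullback.of_hasPullback c₁ ρ
    let k := pullback.fst c₁ ρ
    let l₁ := pullback.snd c₁ ρ
    have hk : IsFOThickMor ((yon S).map k) := foThick_baseChange (hY R') HR.1 _ (sq.map (yon S)).flip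
    obtain ⟨l₂, hl2t, hl2ρ⟩ := sqt.exists_lift (l₁ ≫ s) (k ≫ c₂) (by
      rw [Category.assoc, Category.assoc, ← sqC.w, reassoc_of% sq.w, sqs.w])
    obtain ⟨l, hl⟩ := (yon S).map_surjective (sqπ.lift ((yon S).map (l₁ ≫ t)) ((yon S).map (l₂ ≫ s)) (by
      rw [Functor.map_comp, Functor.map_comp, Category.assoc, Category.assoc, hst, ← hst, ← Category.assoc _ _ π,
        ← Category.assoc _ _ π, ← Functor.map_comp, ← Functor.map_comp, hl2t, Functor.map_comp, Functor.map_comp,
        Category.assoc, Category.assoc, hst]))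
    have hlt : l ≫ t = l₁ ≫ t := (yon S).map_injective (by rw [Functor.map_comp, hl, sqπ.lift_fst])
    have hls : l ≫ s = l₂ ≫ s := (yon S).map_injective (by rw [Functor.map_comp, hl, sqπ.lift_snd])
    have key : (yon S).map (l₂ ≫ s) ≫ π = (yon S).map (l₁ ≫ s) ≫ π := by
      rw [← hl2t, Functor.map_comp, Functor.map_comp, Category.assoc, Category.assoc, hst]
    obtain ⟨m, ⟨hm1, hm2⟩, -⟩ := liftR k l ((yon S).map c₁ ≫ (yon S).map σ ≫ φ) hk (by
      rw [← Category.assoc, ← Functor.map_comp, sq.w, Functor.map_comp, Category.assoc, HR.2.1,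
        ← Category.assoc ((yon S).map l), ← Functor.map_comp, hls, ← Category.assoc ((yon S).map l₁),
        ← Functor.map_comp, ← Category.assoc, ← Category.assoc ((yon S).map (l₂ ≫ s)), key])
    have hmτ : m ≫ τ = c₁ ≫ τ := uniqW k (l ≫ t) _ _ hk
      (by rw [reassoc_of% hm1, ← sqt.w, Category.assoc])
      (by rw [reassoc_of% sq.w, ← sqt.w, ← Category.assoc, ← hlt])
      (by rw [Functor.map_comp, Functor.map_comp, Category.assoc, Category.assoc, hφ, hm2])
    have hmσ : m ≫ σ = c₂ ≫ σ := uniqW k (l ≫ s) _ _ hk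
      (by rw [reassoc_of% hm1, ← sqs.w, Category.assoc])
      (by rw [← reassoc_of% hl2ρ, ← sqs.w, ← Category.assoc, ← hls])
      (by
        rw [Functor.map_comp, Functor.map_comp, Category.assoc, Category.assoc, hm2]
        have e' := congrArg (fun z => (yon S).map z ≫ φ) sqC.w
        simp only [Functor.map_comp, Category.assoc] at e'
        exact e'.trans (by rw [hφ]))
    exact ⟨q ≫ m, by rw [Category.assoc, hmτ, ← Category.assoc, hq1],
      by rw [Category.assoc, hmσ, ← Category.assoc, hq2]⟩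

/-- universal thickenings exist on an atlas -/
theorem exists_atlas_univ {Z X : Sp S} (hZ : IsAlgSpace Z) (hX : IsAlgSpace X) {h : Z ⟶ X}
    (hh : IsFormallyUnramifiedMor h) :
    ∃ (W W' : Over S) (π : (yon S).obj W ⟶ Z) (i : W ⟶ W') (φ : (yon S).obj W' ⟶ X),
      RepWith @Etale π ∧ RepWith @Surjective π ∧ IsUnivFOThick (π ≫ h) ((yon S).map i) φ := by
  obtain ⟨U, c, hce, hcs⟩ := hX.atlas
  obtain ⟨W₀, π₀, h₀e, h₀s⟩ := hZ.atlas
  have sq := hce.1.isPullback (π₀ ≫ h)
  let W := hce.1.pullback (π₀ ≫ h)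
  let π : (yon S).obj W ⟶ Z := (yon S).map (hce.1.snd (π₀ ≫ h)) ≫ π₀
  have hπe : RepWith @Etale π :=
    RepWith.comp ((repWith_yon_map_iff @Etale _).2 (hce.property_snd _)) h₀e
  have hπs : RepWith @Surjective π :=
    RepWith.comp ((repWith_yon_map_iff @Surjective _).2 (hcs.2 _ _ _ sq)) h₀s
  obtain ⟨g, hg⟩ := (yon S).map_surjective (hce.1.fst (π₀ ≫ h))
  have hw : π ≫ h = (yon S).map g ≫ c := by
    rw [Category.assoc, hg]
    exact sq.w.symm
  haveI : FormallyUnramified g.left :=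
    locP_formallyUnramified_of_mor_chart hh π c g hπe hce hw
  obtain ⟨W'₀, i₀, h'₀, hu⟩ := Thick15.exists_univThickening_scheme g.left
  let W' : Over S := Over.mk (h'₀ ≫ U.hom)
  let i : W ⟶ W' := Over.homMk i₀ (by
    show i₀ ≫ h'₀ ≫ U.hom = W.hom
    rw [← Category.assoc, hu.2.1]
    exact Over.w g)
  let h' : W' ⟶ U := Over.homMk h'₀ rfl
  have H := univ_comp_formallyEtale (isUnivFOThick_yon g i h' hu) (isFormallyEtaleMor_of_repWith hce)
  rw [← hw] at H
  exact ⟨W, W', π, i, (yon S).map h' ≫ c, hπe, hπs, H⟩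

/-- the quotient of the thickened relation restricts to the space -/
theorem exists_quot_square {Z : Sp S} {W W' R R' : Over S} {π : (yon S).obj W ⟶ Z} (hπe : RepWith @Etale π)
    (hπs : RepWith @Surjective π) {i : W ⟶ W'} [Mono i] {s t : R ⟶ W}
    (sqπ : IsPullback ((yon S).map t) ((yon S).map s) π π) {σ τ : R' ⟶ W'} {ρ : R ⟶ R'}
    (sqs : IsPullback s ρ i σ) (sqt : IsPullback t ρ i τ) (hEq : IsEtaleEqvRel σ τ) :
    ∃ iZ : Z ⟶ quotSp ((yon S).map σ) ((yon S).map τ),
      IsPullback π ((yon S).map i) iZ (quotSpπ ((yon S).map σ) ((yon S).map τ)) := by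
  have hP := isPresentation_quotSp hEq
  let π' := quotSpπ ((yon S).map σ) ((yon S).map τ)
  have sqπ' : IsPullback ((yon S).map τ) ((yon S).map σ) π' π' := hP.isPullback
  haveI : Epi π := epi_of_etale_surjective hπe hπs
  haveI : IsIso (pullback.lift ((yon S).map t) ((yon S).map s) sqπ.w : (yon S).obj R ⟶ pullback π π) := by
    rw [show pullback.lift ((yon S).map t) ((yon S).map s) sqπ.w = sqπ.isoPullback.hom from
      pullback.hom_ext (by simp [pullback.lift_fst]) (by simp [pullback.lift_snd])]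
    infer_instance
  haveI := isIso_quotSpDesc (s := (yon S).map s) (t := (yon S).map t) π sqπ.w.symm
  have hc : (yon S).map s ≫ (yon S).map i ≫ π' = (yon S).map t ≫ (yon S).map i ≫ π' := by
    rw [← Category.assoc, ← Category.assoc, ← Functor.map_comp, ← Functor.map_comp, sqs.w, sqt.w,
      Functor.map_comp, Functor.map_comp, Category.assoc, Category.assoc, quotSp_condition]
  obtain ⟨iZ, hiZ⟩ : ∃ iZ : Z ⟶ quotSp ((yon S).map σ) ((yon S).map τ), π ≫ iZ = (yon S).map i ≫ π' := by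
    refine ⟨inv (quotSpDesc π sqπ.w.symm) ≫ quotSpDesc ((yon S).map i ≫ π') hc, ?_⟩
    refine (congrArg (· ≫ inv (quotSpDesc π sqπ.w.symm) ≫ quotSpDesc ((yon S).map i ≫ π') hc)
      (quotSpπ_desc (s := (yon S).map s) (t := (yon S).map t) π sqπ.w.symm)).symm.trans ?_
    simp only [Category.assoc, IsIso.hom_inv_id_assoc]
    exact quotSpπ_desc (s := (yon S).map s) (t := (yon S).map t) _ hc
  have sqP := IsPullback.of_hasPullback iZ π'
  let χ : (yon S).obj W ⟶ pullback iZ π' := pullback.lift π ((yon S).map i) hiZ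
  have hχ1 : χ ≫ pullback.fst iZ π' = π := pullback.lift_fst _ _ _
  have hχ2 : χ ≫ pullback.snd iZ π' = (yon S).map i := pullback.lift_snd _ _ _
  haveI : Mono χ := by
    haveI : Mono (χ ≫ pullback.snd iZ π') := by rw [hχ2]; infer_instance
    exact mono_of_mono χ (pullback.snd iZ π')
  have sqQ := IsPullback.of_hasPullback (pullback.fst iZ π') π
  let u := pullback.fst (pullback.fst iZ π') π
  let w₀ := pullback.snd (pullback.fst iZ π') π
  haveI : Epi u := epi_of_etale_surjective (RepWith.baseChange sqQ.flip hπe) (RepWith.baseChange sqQ.flip hπs)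
  obtain ⟨r', hr1, hr2⟩ := sqπ'.exists_lift (w₀ ≫ (yon S).map i) (u ≫ pullback.snd iZ π') (by
    rw [Category.assoc, ← hiZ, ← Category.assoc w₀, ← sqQ.w, Category.assoc, sqP.w, Category.assoc])
  obtain ⟨l, hl1, hl2⟩ := (sqt.map (yon S)).exists_lift w₀ r' hr1.symm
  have hlu : (l ≫ (yon S).map s) ≫ χ = u := by
    refine pullback.hom_ext ?_ ?_
    · rw [Category.assoc, hχ1, Category.assoc]
      refine (congrArg (l ≫ ·) sqπ.w).symm.trans ?_
      rw [← Category.assoc, hl1, ← sqQ.w]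
    · rw [Category.assoc, hχ2, Category.assoc, (sqs.map (yon S)).w, ← Category.assoc, hl2, hr2]
  haveI : Epi χ := by
    haveI : Epi ((l ≫ (yon S).map s) ≫ χ) := by rw [hlu]; infer_instance
    exact epi_of_epi (l ≫ (yon S).map s) χ
  haveI : IsIso χ := isIso_of_mono_of_epi χ
  exact ⟨iZ, sqP.of_iso (asIso χ).symm (Iso.refl _) (Iso.refl _) (Iso.refl _) (by simp [χ, pullback.lift_fst])
    (by simp [χ, pullback.lift_snd]) (by simp [π']) (by simp [π'])⟩

theorem ker_app_le {V₁ V : Scheme.{u}} (f : V₁ ⟶ V) (U : V.affineOpens) :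
    f.ker.ideal U ≤ RingHom.ker (f.app U).hom :=
  Scheme.IdealSheafData.ideal_ofIdeals_le _ U

theorem idealSheaf_eq_bot_of_flat_family {V : Scheme.{u}} [IsAffine V] (I : V.IdealSheafData)
    (h : ∀ p : V, ∃ (V₁ : Scheme.{u}) (f : V₁ ⟶ V), Flat f ∧ p ∈ Set.range f ∧ I.comap f = ⊥) : I = ⊥ := by
  refine Scheme.IdealSheafData.ext_of_isAffine ?_
  rw [Scheme.IdealSheafData.ideal_bot, Pi.bot_apply, ← le_bot_iff]
  intro x hx
  refine (Submodule.mem_bot _).2 (appTop_eq_zero_of_flat_family x fun p => ?_)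
  obtain ⟨V₁, f, hf, hp, hI⟩ := h p
  refine ⟨V₁, f, hf, hp, ?_⟩
  have hle : I ≤ f.ker := by
    rw [← Scheme.IdealSheafData.map_bot f, Scheme.IdealSheafData.le_map_iff_comap_le, hI]
  exact ker_app_le f _ (hle _ hx)

/-- thickenings descend along etale surjections from schemes -/
theorem isFOThickMor_descend {Z Q : Sp S} {W W' : Over S} {a : Z ⟶ Q} {q : (yon S).obj W' ⟶ Q}
    (hqe : RepWith @Etale q) (hqs : RepWith @Surjective q) {fst : (yon S).obj W ⟶ Z} {i : W ⟶ W'}
    (sq : IsPullback fst ((yon S).map i) a q) (hi : IsFOThickMor ((yon S).map i)) : IsFOThickMor a := by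
  haveI := isLocallySurjective_of_etale hqe hqs
  haveI : Epi q := Sheaf.epi_of_isLocallySurjective q
  have hci : IsClosedImmersion i.left := ((isThickMor_yon_map_iff i).1 hi.1).1
  have hrep : Representable a := representable_of_affine a fun T hT t => by
    haveI := hT
    obtain ⟨V, c, hV, hcf, hcp, hcs, x, -, hx, -⟩ := exists_affine_lift q t t
    obtain ⟨x₀, rfl⟩ := (yon S).map_surjective x
    haveI := hV
    have sqW := IsPullback.of_hasPullback i x₀
    let w := pullback.snd i x₀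
    haveI : IsClosedImmersion w.left :=
      MorphismProperty.of_isPullback (P := @IsClosedImmersion) (sqW.map (Over.forget S)) hci
    have sqE := IsPullback.of_hasPullback a t
    have sqEV : IsPullback ((yon S).map (pullback.fst i x₀) ≫ fst) ((yon S).map w) a ((yon S).map c ≫ t) := by
      rw [← hx]
      exact (sqW.map (yon S)).paste_horiz sq
    let k := sqE.lift _ ((yon S).map w ≫ (yon S).map c) (sqEV.w.trans (Category.assoc _ _ _).symm)
    have sqk : IsPullback k ((yon S).map w) (pullback.snd a t) ((yon S).map c) :=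
      IsPullback.of_right (h₁₂ := pullback.fst _ _) (by rw [sqE.lift_fst]; exact sqEV)
        (sqE.lift_snd _ _ _) sqE
    obtain ⟨G, ⟨e⟩⟩ := exists_iso_yon_of_fppf_descent c w sqk
    obtain ⟨g, hg⟩ := (yon S).map_surjective (e.hom ≫ pullback.snd _ t)
    refine ⟨G, g, e.hom ≫ pullback.fst _ _, ?_⟩
    exact sqE.of_iso e.symm (Iso.refl _) (Iso.refl _) (Iso.refl _) (by simp) (by simp [hg]) (by simp)
      (by simp)
  refine ⟨?_, fun V P b fst' snd hV hb sq' => ?_⟩
  · exact RepWith.and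
      (repWith_of_isLocallySurjective hrep q sq @IsClosedImmersion (RepWith.mono (fun _ _ _ h => h.1) hi.1))
      (repWith_of_isLocallySurjective hrep q sq @Surjective (RepWith.mono (fun _ _ _ h => h.2) hi.1))
  haveI := hV
  haveI : IsClosedImmersion snd.left :=
    ((RepWith.and
      (repWith_of_isLocallySurjective hrep q sq @IsClosedImmersion (RepWith.mono (fun _ _ _ h => h.1) hi.1))
      (repWith_of_isLocallySurjective hrep q sq @Surjective (RepWith.mono (fun _ _ _ h => h.2) hi.1))).2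
        b fst' snd sq').1
  let V₁ := hqe.1.pullback b
  let c := hqe.1.snd b
  haveI : Etale c.left := hqe.property_snd b
  haveI : Surjective c.left := hqs.2 _ _ _ (hqe.1.isPullback b)
  refine idealSheaf_eq_bot_of_flat_family _ fun p => ?_
  obtain ⟨v, rfl⟩ := c.left.surjective p
  obtain ⟨O, hO, hvO, -⟩ := exists_isAffineOpen_mem_and_subset (x := v) (U := ⊤) trivial
  let V₂ := restrictOver V₁ O
  haveI : IsAffine V₂.left := hO
  let f : V₂ ⟶ V := restrictOverι V₁ O ≫ c
  refine ⟨V₂.left, f.left, (inferInstance : Flat (O.ι ≫ c.left)), ⟨⟨v, hvO⟩, rfl⟩, ?_⟩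
  have sqP := IsPullback.of_hasPullback snd f
  let m : (yon S).obj V₂ ⟶ (yon S).obj W' := (yon S).map (restrictOverι V₁ O) ≫ hqe.1.fst b
  have hm : m ≫ q = (yon S).map f ≫ b := by
    rw [Category.assoc, (hqe.1.isPullback b).w, Functor.map_comp, Category.assoc]
  have big : IsPullback ((yon S).map (pullback.fst snd f) ≫ fst') ((yon S).map (pullback.snd snd f)) a (m ≫ q) := by
    rw [hm]
    exact (sqP.map (yon S)).paste_horiz sq'
  have sqI := IsPullback.of_right' big sq
  have hfo := foThick_baseChange (IsAlgSpace.yon_obj _) hi m sqI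
  have h2 : (pullback.snd snd f).left.ker * (pullback.snd snd f).left.ker = ⊥ := AffLocT.yon_map (show IsAffine V₂.left from hO) hfo.2
  haveI : IsClosedImmersion ((Over.forget S).map snd) := ‹IsClosedImmersion snd.left›
  have e := ker_of_isPullback_closedImmersion (sqP.map (Over.forget S)).flip
  rw [FSchLib.comap_mul]
  exact e ▸ h2

/-- universal first order thickenings exist -/
theorem exists_univ {Z X : Sp S} (hZ : IsAlgSpace Z) (hX : IsAlgSpace X) {h : Z ⟶ X}
    (hh : IsFormallyUnramifiedMor h) :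
    ∃ (Z' : Sp S) (i : Z ⟶ Z') (h' : Z' ⟶ X), IsAlgSpace Z' ∧ IsUnivFOThick h i h' := by
  obtain ⟨W, W', π, i, φ, hπe, hπs, HU⟩ := exists_atlas_univ hZ hX hh
  have hrep := hZ.representable_from_yon π
  obtain ⟨t, ht⟩ := (yon S).map_surjective (hrep.fst π)
  let s := hrep.snd π
  have sqπ : IsPullback ((yon S).map t) ((yon S).map s) π π := by
    rw [ht]
    exact hrep.isPullback π
  have hR := (isPresentation_of_isPullback hπe hπs sqπ).eqvRel
  haveI := hR.etale_left
  haveI := hR.etale_right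
  have hst : (yon S).map t ≫ π ≫ h = (yon S).map s ≫ π ≫ h := by rw [← Category.assoc, sqπ.w, Category.assoc]
  obtain ⟨R', σ, τ, ρ, hσ, hτ, sqs, sqt, hφ, HR⟩ := exists_rel HU s t hst
  have hEq := isEtaleEqvRel_lift HU sqπ sqs sqt hφ HR
  haveI : Mono i := by
    haveI := mono_of_thickMor HU.1.1
    exact (yon S).mono_of_mono_map (f := i) ‹_›
  obtain ⟨iZ, sq⟩ := exists_quot_square hπe hπs sqπ sqs sqt hEq
  let π' := quotSpπ ((yon S).map σ) ((yon S).map τ)
  have hP := isPresentation_quotSp hEq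
  have hQ := isAlgSpace_quotSp hEq
  have hiZ : IsFOThickMor iZ := isFOThickMor_descend hP.etale hP.surjective sq HU.1
  let h' := quotSpDesc φ hφ.symm
  have hh' : π' ≫ h' = φ := quotSpπ_desc (s := (yon S).map σ) (t := (yon S).map τ) φ hφ.symm
  refine ⟨_, iZ, h', hQ, ?_⟩
  haveI : Epi π := epi_of_etale_surjective hπe hπs
  have hY := IsAlgSpace.yon_obj (S := S)
  have he : ∀ {A : Over S} {Y : Sp S} (f : (yon S).obj A ⟶ Y), IsAlgSpace Y → RepWith @Etale f → IsEtaleMor f :=
    fun f hY' hf => (isEtaleMor_iff_locP etLocal_etale (hY _) hY' f).2 (locP_of_repWith etLocal_etale (hY _) hf)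
  refine isUnivFOThick_descend (hY W) hZ (hY W') hQ (he π hZ hπe)
    (fun z => ?_) hiZ (he π' hQ hP.etale) sq.w.symm ?_ ?_
  · obtain ⟨p, hp⟩ := surjective_ofPt π hπs z
    exact ⟨Points.ofScheme W p, by rw [← hp, Points.ofPt_eq_map_ofScheme]⟩
  · rw [← cancel_epi π, ← Category.assoc, sq.w, Category.assoc, hh', HU.2.1]
  · rw [hh']
    exact HU

end Groth.Agent.AlgSpLib.UnivFOExist
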