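import Groth.Agent.S10039
import Groth.Agent.AlgSpLib.SchImage
import Groth.Agent.AlgSpLib.DiscreteFibres
import Groth.Agent.AlgSpLib.ProperQF
import Groth.Agent.AlgSpLib.ProperImage
import Groth.Agent.AlgSpLib.ProperStage
import Groth.Agent.AlgSpLib.LimitSeparated
import Groth.Agent.AlgSpLib.ThickMor
import Groth.Agent.AlgSpLib.WhereLocus

/-!
A separated universal homeomorphism of algebraic spaces is integral.
-/

universe u

open CategoryTheory CategoryTheory.Limits AlgebraicGeometry Opposite
open AlgSp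

noncomputable section

set_option linter.style.haveILetI false

namespace Groth.Agent.AlgSpLib.UnivHomeoAff

open Groth.Agent.AlgSpLib

set_option backward.isDefEq.respectTransparency.types false
set_option backward.isDefEq.respectTransparency false

variable {S : Scheme.{u}} [QuasiSeparatedSpace ↥S]

theorem subsingleton_points_field {Y : Sp S} (k : FieldPt.{u} Y) : Subsingleton (Points ((yon S).obj k.pt)) :=
  haveI : Subsingleton ↥k.pt.left := inferInstanceAs (Subsingleton ↥(Spec (CommRingCat.of k.K)))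
  (Points.schemeHomeo k.pt).symm.injective.subsingleton

theorem exists_integral_model {P : Sp S} (hP : IsAlgSpace P) {B : Over S} [IsAffine B.left]
    (p : P ⟶ (yon S).obj B) (hsep : IsSeparatedMor p) (hh : IsUnivHomeoMor p) :
    ∃ (W : Over S) (w : W ⟶ B) (e : (yon S).obj W ≅ P), e.hom ≫ p = (yon S).map w ∧ IsAffine W.left ∧
      IsIntegralHom w.left := by
  have hBa := IsAlgSpace.yon_obj B
  have hhom : IsHomeomorph (Points.map p) := hh hBa (𝟙 _) (𝟙 _) p (IsPullback.of_horiz_isIso ⟨by simp⟩)
  have hucp : IsUnivClosedMor p := fun Z Z' hZ g fst snd sq => (hh hZ g fst snd sq).isClosedMap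
  have hPc : IsQuasiCompactSp P := by
    haveI : CompactSpace (Points ((yon S).obj B)) := (Points.schemeHomeo B).compactSpace
    exact (isQuasiCompactSp_iff_compactSpace hP).2 (hhom.homeomorph (Points.map p)).symm.compactSpace
  have hBs : IsQuasiSeparatedSp ((yon S).obj B) := by
    haveI : QuasiSeparated (B.hom ≫ terminal.from S) := (quasiSeparated_iff_quasiSeparatedSpace _).2 inferInstance
    haveI : QuasiSeparated B.hom := QuasiSeparated.of_comp _ (terminal.from S)
    exact (isQuasiSeparatedMor_iff_sp _).1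
      ((isQuasiSeparatedMor_yon_map_iff (Over.homMk B.hom : B ⟶ Over.mk (𝟙 S))).2 ‹QuasiSeparated B.hom›)
  have hBc : IsQuasiCompactSp ((yon S).obj B) := Stk19.isQuasiCompactSp_yon B
  have hPs : IsQuasiSeparatedSp P := ProperSt.isQuasiSeparatedSp_of_separated hsep hBs
  obtain ⟨I, _, _, _, D, t, c, hc, e, hD, hDa, ht, hcomp⟩ :=
    Groth.Agent.S10039.result S (X := ⟨P, hP⟩) (Y := (AlgSp.ofScheme S).obj B) (ObjectProperty.homMk p) hPc hPs hBs
  have hg : ∀ i, c.π.app i ≫ t.app i = e.hom ≫ p := fun i => (Iso.inv_comp_eq e).1 (hcomp i)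
  have hqc : ∀ i, IsQuasiCompactSp (D.obj i) := fun i =>
    OpenFac.isQuasiCompactSp_of_mor (hD i) hBa (ht i).2.1 hBc
  have hqs : ∀ i, IsQuasiSeparatedSp (D.obj i) := fun i => by
    have hT : IsTerminal ((yon S).obj (Over.mk (𝟙 S))) := IsTerminal.isTerminalObj (yon S) _ Over.mkIdTerminal
    exact (isQuasiSeparatedMor_iff_sp _).1 (isQuasiSeparatedMor_comp (g := hT.from ((yon S).obj B)) (ht i).2.2
      ((isQuasiSeparatedMor_iff_sp _).2 hBs))
  obtain ⟨o, ho⟩ := LimitSep.exists_stage_isSeparatedMor t hBa hBs hD hDa hc hg hqc hqs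
    (isSeparatedMor_comp (isSeparatedMor_of_mono e.hom) hsep)
  have hsep' := ho o (𝟙 o)
  let k : P ⟶ D.obj o := e.inv ≫ c.π.app o
  have hka : IsAffineMor k :=
    isAffineMor_comp (isAffineMor_of_repWith (repWith_of_isIso _ _)) (isAffineMor_π D hDa c hc o)
  have hkt : k ≫ t.app o = p := (Category.assoc _ _ _).trans (hcomp o)
  obtain ⟨Z, i, hZ, hi⟩ := exists_isSchImage hP (hD o) k
  obtain ⟨k', hk'⟩ := hi.2.1
  haveI : Mono i := mono_of_repWith (fun _ _ g (_ : IsClosedImmersion g) => (inferInstance : Mono g)) hi.1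
  have hkc : IsUnivClosedMor k := isUnivClosedMor_of_comp_separated hP (hD o) hBa (hkt.symm ▸ hucp) hsep'
  have hk's : IsSurjectiveMor k' := fun z => by
    have hcl : IsClosed (Set.range (Points.map k)) :=
      ((hkc (hD o) (𝟙 _) (𝟙 _) k (IsPullback.of_horiz_isIso ⟨by simp⟩)) : IsClosedMap (Points.map k)).isClosed_range
    obtain ⟨x, hx⟩ := hcl.closure_eq.subset
      (range_subset_closure hP (hD o) (VCart.isQuasiCompactMor_of_affineMor hP (hD o) hka) hi ⟨z, rfl⟩)
    exact ⟨x, injective_map_of_mono i (by rw [← Points.map_comp, hk']; exact hx)⟩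
  let q : Z ⟶ (yon S).obj B := i ≫ t.app o
  have hk'q : k' ≫ q = p := by rw [← Category.assoc, hk', hkt]
  have hift : IsFiniteTypeMor i :=
    ⟨locP_of_repWith etLocal_lft hZ (RepWith.mono (fun _ _ g (_ : IsClosedImmersion g) =>
      (inferInstance : LocallyOfFiniteType g)) hi.1),
      isQuasiCompactMor_of_qc_qs hZ (hD o) i
        (OpenFac.isQuasiCompactSp_of_affine (hD o) (isAffineMor_of_closedImmersion hi.1) (hqc o)) (hqs o)⟩
  have htl : LocP @LocallyOfFiniteType (t.app o) := locP_lft_of_lfp (ht o).1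
  have hqp : IsProperMor q :=
    ⟨isSeparatedMor_comp (isSeparatedMor_of_mono i) hsep',
      ⟨locP_comp etLocal_lft hZ (hD o) hBa hift.1 htl,
        isQuasiCompactMor_comp hZ (hD o) hBa hift.2 (ht o).2.1⟩,
      isUnivClosedMor_of_surjective hk's (hk'q.symm ▸ hucp)⟩
  have hqf : LocP (@LocallyQuasiFinite ⊓ @LocallyOfFiniteType) q := by
    refine locP_lqf_of_discrete_fibres hZ hBa hqp.2.1.1 fun pt Zk fst snd sq => ?_
    have sq' := IsPullback.of_hasPullback k' fst
    have sqP := sq'.paste_vert sq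
    have hhom' : IsHomeomorph (Points.map (pullback.snd k' fst ≫ snd)) :=
      hh (IsAlgSpace.yon_obj _) pt.toHom (pullback.fst k' fst) _ (hk'q ▸ sqP)
    haveI := subsingleton_points_field pt
    haveI : Subsingleton (Points (pullback k' fst)) := hhom'.injective.subsingleton
    haveI : Subsingleton (Points Zk) := (surjective_map_of_isPullback sq' hk's).subsingleton
    exact inferInstance
  have hqa : IsAffineMor q :=
    isAffineMor_of_repWith (RepWith.mono (fun _ _ g (_ : IsFinite g) => (inferInstance : IsAffineHom g))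
      (repWith_isFinite_of_proper_lqf hZ hBa hqp hqf))
  have hpa : IsAffineMor p := by
    rw [← hk'q]
    exact isAffineMor_comp (ThickAff.isAffineMor_of_mono_comp (hk'.symm ▸ hka)) hqa
  have hr := ((isAffineMor_iff_repWith _).1 hpa)
  obtain ⟨W, w, fst, sq, hW⟩ := hpa (Z := B) inferInstance (𝟙 _)
  haveI : IsIso fst := sq.isIso_fst_of_isIso
  refine ⟨W, w, asIso fst, sq.w.trans (Category.comp_id _), hW, ?_⟩
  haveI := hW
  haveI : UniversallyClosed w.left :=
    ((repWith_universallyClosed_iff hr.1).2 hucp).2 (𝟙 _) fst w sq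
  exact IsIntegralHom.iff_universallyClosed_and_isAffineHom.2 ⟨inferInstance, inferInstance⟩

end Groth.Agent.AlgSpLib.UnivHomeoAff
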