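import Groth.Agent.AlgSpLib.SymRing
import Groth.Agent.AlgSpLib.RelSpecHom
import Groth.Agent.AlgSpLib.QCohEtFPMain
import Groth.Agent.AlgSpLib.WeakAssEtPush
import Groth.Agent.AlgSpLib.WeakAssEtSite

/-!
The affine space attached to a quasi-coherent module of finite type: spectra of symmetric algebras.
-/

universe u

open CategoryTheory CategoryTheory.Limits AlgebraicGeometry Opposite TensorProduct
open AlgSp

noncomputable section

set_option linter.style.haveILetI false

namespace Groth.Agent.AlgSpLib.VCart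

open Groth.Agent.AlgSpLib.QCohEt SymRing RelSpecSp

set_option backward.isDefEq.respectTransparency.types false
set_option backward.isDefEq.respectTransparency false

variable {S : Scheme.{u}} {Y : Sp S}

/-- functions on a chart -/
abbrev R0 (E : EtOver Y) : Type u := Γ(E.obj.left.left, ⊤)

/-- lifting of functions -/
def upHom (E : EtOver Y) : R0 E →+* ΓE E := ULift.ringEquiv.symm.toRingHom

/-- lowering of functions -/
def dnHom (E : EtOver Y) : ΓE E →+* R0 E := ULift.ringEquiv.toRingHom

theorem dnHom_upHom (E : EtOver Y) (r : R0 E) : dnHom E (upHom E r) = r := rfl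

theorem upHom_dnHom (E : EtOver Y) (r : ΓE E) : upHom E (dnHom E r) = r := rfl

theorem ΓMap_upHom {W E : EtOver Y} (g : W ⟶ E) (r : R0 E) :
    (ΓMap g).hom (upHom E r) = upHom W (g.hom.left.left.appTop.hom r) := rfl

/-- a quasi-coherent module with finite modules of sections -/
structure FinMod (Y : Sp S) where
  /-- the module -/
  G : ModEt Y
  qc : G.IsQuasicoherent
  fin : ∀ E, IsAff E → Module.Finite (ΓE E) (Sec G E)

variable (G : FinMod Y)

theorem small_sec (E : EtOver Y) (hE : IsAff E) : Small.{u} (Sec G.G E) := by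
  haveI := G.fin E hE
  haveI : Small.{u} (ΓE E) := inferInstanceAs (Small.{u} (ULift.{u + 1} (R0 E)))
  exact Module.Finite.small.{u} (ΓE E) (Sec G.G E)

/-- sections in the small universe -/
def SM (E : EtOver Y) (hE : IsAff E) : Type u := @Shrink.{u} (Sec G.G E) (small_sec G E hE)

instance (E : EtOver Y) (hE : IsAff E) : AddCommGroup (SM G E hE) :=
  @Equiv.addCommGroup _ _ (@equivShrink (Sec G.G E) (small_sec G E hE)).symm _

/-- the comparison -/
def sh (E : EtOver Y) (hE : IsAff E) : Sec G.G E ≃+ SM G E hE :=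
  { @equivShrink (Sec G.G E) (small_sec G E hE) with
    map_add' := fun x y => (congrArg (@equivShrink (Sec G.G E) (small_sec G E hE))
      (congrArg₂ (· + ·) (Equiv.symm_apply_apply _ x) (Equiv.symm_apply_apply _ y))).symm }

instance (E : EtOver Y) (hE : IsAff E) : Module (R0 E) (SM G E hE) where
  smul r m := sh G E hE (upHom E r • (sh G E hE).symm m)
  one_smul m := by show sh G E hE (upHom E 1 • (sh G E hE).symm m) = m; simp
  mul_smul r s m := by
    show sh G E hE (upHom E (r * s) • (sh G E hE).symm m) =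
      sh G E hE (upHom E r • (sh G E hE).symm (sh G E hE (upHom E s • (sh G E hE).symm m)))
    simp [mul_smul]
  smul_zero r := by show sh G E hE (upHom E r • (sh G E hE).symm 0) = 0; simp
  smul_add r x y := by
    show sh G E hE (upHom E r • (sh G E hE).symm (x + y)) = _ + _
    simp only [map_add, smul_add]; rfl
  add_smul r s m := by
    show sh G E hE (upHom E (r + s) • (sh G E hE).symm m) = _ + _
    simp only [map_add, add_smul]; rfl
  zero_smul m := by show sh G E hE (upHom E 0 • (sh G E hE).symm m) = 0; simp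

theorem sh_smul (E : EtOver Y) (hE : IsAff E) (r : R0 E) (x : Sec G.G E) :
    sh G E hE (upHom E r • x) = r • sh G E hE x := by
  show _ = sh G E hE (upHom E r • (sh G E hE).symm (sh G E hE x))
  rw [AddEquiv.symm_apply_apply]

theorem sh_smul' (E : EtOver Y) (hE : IsAff E) (r : ΓE E) (x : Sec G.G E) :
    sh G E hE (r • x) = dnHom E r • sh G E hE x := sh_smul G E hE (dnHom E r) x

theorem sh_symm_smul (E : EtOver Y) (hE : IsAff E) (r : R0 E) (m : SM G E hE) :
    (sh G E hE).symm (r • m) = upHom E r • (sh G E hE).symm m := by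
  show (sh G E hE).symm (sh G E hE _) = _
  rw [AddEquiv.symm_apply_apply]

/-- the algebra of the chart -/
abbrev Alg (E : EtOver Y) (hE : IsAff E) : CommRingCat.{u} := CommRingCat.of (SymmetricAlgebra (R0 E) (SM G E hE))

/-- the structure of the algebra -/
def strA (E : EtOver Y) (hE : IsAff E) : CommRingCat.of (R0 E) ⟶ Alg G E hE :=
  CommRingCat.ofHom (algebraMap (R0 E) (SymmetricAlgebra (R0 E) (SM G E hE)))

/-- restriction of sections in the small universe -/
def tMap {W E : EtOver Y} (g : W ⟶ E) (hW : IsAff W) (hE : IsAff E) : SM G E hE →+ SM G W hW :=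
  (sh G W hW).toAddMonoidHom.comp ((mapSec G.G g).comp (sh G E hE).symm.toAddMonoidHom)

theorem tMap_sh {W E : EtOver Y} (g : W ⟶ E) (hW : IsAff W) (hE : IsAff E) (x : Sec G.G E) :
    tMap G g hW hE (sh G E hE x) = sh G W hW (mapSec G.G g x) := by
  show sh G W hW (mapSec G.G g ((sh G E hE).symm (sh G E hE x))) = _
  rw [AddEquiv.symm_apply_apply]

theorem tMap_smul {W E : EtOver Y} (g : W ⟶ E) (hW : IsAff W) (hE : IsAff E) (r : R0 E) (m : SM G E hE) :
    tMap G g hW hE (r • m) = g.hom.left.left.appTop.hom r • tMap G g hW hE m := by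
  obtain ⟨x, rfl⟩ := (sh G E hE).surjective m
  rw [← sh_smul, tMap_sh, tMap_sh, mapSec_smul, ΓMap_upHom, sh_smul]

/-- restriction of algebras -/
def algMap {W E : EtOver Y} (g : W ⟶ E) (hW : IsAff W) (hE : IsAff E) : Alg G E hE ⟶ Alg G W hW :=
  CommRingCat.ofHom (SymRing.desc (C := SymmetricAlgebra (R0 W) (SM G W hW))
    ((algebraMap (R0 W) _).comp g.hom.left.left.appTop.hom)
    ((SymmetricAlgebra.ι (R0 W) (SM G W hW)).toAddMonoidHom.comp (tMap G g hW hE)) (fun r m => by
      show SymmetricAlgebra.ι (R0 W) _ (tMap G g hW hE (r • m)) =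
        algebraMap (R0 W) _ (g.hom.left.left.appTop.hom r) * SymmetricAlgebra.ι (R0 W) _ (tMap G g hW hE m)
      rw [tMap_smul, map_smul, Algebra.smul_def]))

theorem algMap_algebraMap {W E : EtOver Y} (g : W ⟶ E) (hW : IsAff W) (hE : IsAff E) (r : R0 E) :
    (algMap G g hW hE).hom (algebraMap (R0 E) _ r) = algebraMap (R0 W) _ (g.hom.left.left.appTop.hom r) :=
  desc_algebraMap _ _ _ r

theorem algMap_ι {W E : EtOver Y} (g : W ⟶ E) (hW : IsAff W) (hE : IsAff E) (m : SM G E hE) :
    (algMap G g hW hE).hom (SymmetricAlgebra.ι (R0 E) _ m) = SymmetricAlgebra.ι (R0 W) _ (tMap G g hW hE m) :=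
  desc_ι _ _ _ m

theorem algMap_comp {Z W E : EtOver Y} (f : Z ⟶ W) (g : W ⟶ E) (hZ : IsAff Z) (hW : IsAff W) (hE : IsAff E) :
    algMap G (f ≫ g) hZ hE = algMap G g hW hE ≫ algMap G f hZ hW := by
  refine CommRingCat.hom_ext (SymRing.ringHom_ext (fun r => ?_) fun m => ?_)
  · refine (algMap_algebraMap G (f ≫ g) hZ hE r).trans ?_
    show _ = (algMap G f hZ hW).hom ((algMap G g hW hE).hom (algebraMap (R0 E) _ r))
    rw [algMap_algebraMap, algMap_algebraMap]
    rfl
  · refine (algMap_ι G (f ≫ g) hZ hE m).trans ?_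
    show _ = (algMap G f hZ hW).hom ((algMap G g hW hE).hom (SymmetricAlgebra.ι (R0 E) _ m))
    rw [algMap_ι, algMap_ι]
    obtain ⟨x, rfl⟩ := (sh G E hE).surjective m
    rw [tMap_sh, tMap_sh, tMap_sh, mapSec_comp]

theorem isPushout_algMap {W E : EtOver Y} (g : W ⟶ E) (hW : IsAff W) (hE : IsAff E) :
    IsPushout g.hom.left.left.appTop (strA G E hE) (strA G W hW) (algMap G g hW hE) := by
  haveI := hW
  haveI := hE
  haveI := G.qc
  let Wo : Over E := Over.mk g
  haveI : IsAff Wo.left := hW
  have hb : Function.Bijective (bcMap G.G E Wo) := isBC G.G E Wo hW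
  refine SymRing.isPushout g.hom.left.left.appTop.hom (tMap G g hW hE) (tMap_smul G g hW hE)
    (fun C _ ψ b hψ => ?_) (fun C _ ψ l l' hl hl' h => ?_)
  · let Λ : ΓE Wo.left ⊗[ΓE E] Sec G.G E →+ C := TensorProduct.liftAddHom
      { toFun := fun a => (AddMonoidHom.mulLeft (ψ (dnHom W a))).comp (b.comp (sh G E hE).toAddMonoidHom)
        map_zero' := by rw [map_zero, map_zero]; ext; simp
        map_add' := fun x y => by ext m; simp [add_mul] }
      fun r a m => by
        show ψ (dnHom W ((show ΓE W from (ΓMap g).hom r) * (show ΓE W from a))) * b (sh G E hE m) = ψ (dnHom W a) * b (sh G E hE (r • m))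
        rw [map_mul, map_mul, sh_smul', hψ]
        show ψ (g.hom.left.left.appTop.hom (dnHom E r)) * _ * _ = _
        ring
    let e := (Equiv.ofBijective _ hb)
    let l : SM G W hW → C := fun m => Λ (e.symm ((sh G W hW).symm m))
    have hsym : ∀ x, e.symm (bcMap G.G E Wo x) = x := e.symm_apply_apply
    have hΛ : ∀ (r : ΓE Wo.left) (y : ΓE Wo.left ⊗[ΓE E] Sec G.G E), Λ (r • y) = ψ (dnHom W r) * Λ y := fun r y => by
      induction y using TensorProduct.induction_on with
      | zero => rw [smul_zero, map_zero, mul_zero]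
      | tmul a m =>
        rw [TensorProduct.smul_tmul']
        show ψ (dnHom W (r * a)) * b (sh G E hE m) = ψ (dnHom W r) * (ψ (dnHom W a) * b (sh G E hE m))
        rw [map_mul, map_mul, mul_assoc]
      | add x y hx hy => rw [smul_add, map_add, map_add, hx, hy, mul_add]
    refine ⟨{ toFun := l, map_zero' := ?_, map_add' := ?_ }, fun r m' => ?_, fun m => ?_⟩
    · show Λ (e.symm ((sh G W hW).symm 0)) = 0
      rw [map_zero, ← map_zero (bcMap G.G E Wo), hsym, map_zero]
    · intro m m'
      show Λ (e.symm ((sh G W hW).symm (m + m'))) = Λ _ + Λ _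
      obtain ⟨x, hx⟩ := hb.2 ((sh G W hW).symm m)
      obtain ⟨y, hy⟩ := hb.2 ((sh G W hW).symm m')
      rw [map_add, ← hx, ← hy, ← map_add (bcMap G.G E Wo), hsym, hsym, hsym, map_add]
    · show Λ (e.symm ((sh G W hW).symm (r • m'))) = ψ r * Λ (e.symm ((sh G W hW).symm m'))
      obtain ⟨x, hx⟩ := hb.2 ((sh G W hW).symm m')
      have hlin : bcMap G.G E Wo ((show ΓE Wo.left from upHom W r) • x) =
          (show ΓE Wo.left from upHom W r) • bcMap G.G E Wo x := (bcEquiv G.G E Wo).map_smul _ x
      rw [sh_symm_smul, ← hx]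
      refine (congrArg (fun z => Λ (e.symm z)) hlin.symm).trans ?_
      rw [hsym, hsym, hΛ]
      rfl
    · obtain ⟨x, rfl⟩ := (sh G E hE).surjective m
      show Λ (e.symm ((sh G W hW).symm (tMap G g hW hE (sh G E hE x)))) = b (sh G E hE x)
      rw [tMap_sh, AddEquiv.symm_apply_apply]
      have : mapSec G.G g x = bcMap G.G E Wo ((1 : ΓE Wo.left) ⊗ₜ x) :=
        ((bcMap_tmul G.G E Wo 1 x).trans (one_smul _ _)).symm
      rw [this, hsym]
      show ψ (dnHom W 1) * b (sh G E hE x) = _
      rw [map_one, map_one, one_mul]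
  · refine AddMonoidHom.ext fun m => ?_
    obtain ⟨z, rfl⟩ := (sh G W hW).surjective m
    obtain ⟨x, rfl⟩ := hb.2 z
    induction x using TensorProduct.induction_on with
    | zero => rw [map_zero, map_zero, map_zero, map_zero]
    | tmul a m =>
      rw [bcMap_tmul]
      show l (sh G W hW ((show ΓE W from a) • mapSec G.G g m)) = l' (sh G W hW ((show ΓE W from a) • mapSec G.G g m))
      rw [sh_smul', hl, hl', ← tMap_sh G g hW hE, h]
    | add x y hx hy => rw [map_add, map_add, map_add, map_add, hx, hy]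

/-- the member over a chart -/
def VE (E : EtOver Y) (hE : IsAff E) : Over S :=
  Over.mk (Spec.map (strA G E hE) ≫
    (haveI : IsAffine E.obj.left.left := hE; E.obj.left.left.isoSpec.inv) ≫ E.obj.left.hom)

/-- the cartesian family -/
def data : CartData Y where
  V E hE := VE G E hE
  v E hE := Over.homMk (Spec.map (strA G E hE) ≫ (haveI : IsAffine E.obj.left.left := hE; E.obj.left.left.isoSpec.inv))
    (Category.assoc _ _ _)
  map {W E} g hW hE := Over.homMk (Spec.map (algMap G g hW hE)) (by
    haveI : IsAffine E.obj.left.left := hE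
    haveI : IsAffine W.obj.left.left := hW
    show Spec.map (algMap G g hW hE) ≫ Spec.map (strA G E hE) ≫ _ ≫ _ = Spec.map (strA G W hW) ≫ _ ≫ _
    rw [← Spec.map_comp_assoc, ← (isPushout_algMap G g hW hE).w, Spec.map_comp_assoc]
    exact congrArg (Spec.map (strA G W hW) ≫ ·) (((Category.assoc _ _ _).symm.trans
      (congrArg (· ≫ E.obj.left.hom) (Scheme.isoSpec_inv_naturality g.hom.left.left))).trans
      ((Category.assoc _ _ _).trans (congrArg (W.obj.left.left.isoSpec.inv ≫ ·) (Over.w g.hom.left)))))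
  map_comp f g hZ hW hE := Over.OverMorphism.ext (by
    show Spec.map _ = Spec.map _ ≫ Spec.map _
    rw [algMap_comp G f g hZ hW hE, Spec.map_comp])
  cart {W E} g hW hE := IsPullback.of_map (Over.forget S) (by
      apply Over.OverMorphism.ext
      haveI : IsAffine E.obj.left.left := hE
      haveI : IsAffine W.obj.left.left := hW
      show Spec.map (algMap G g hW hE) ≫ Spec.map (strA G E hE) ≫ _ = (Spec.map (strA G W hW) ≫ _) ≫ g.hom.left.left
      rw [← Spec.map_comp_assoc, ← (isPushout_algMap G g hW hE).w, Spec.map_comp_assoc, Category.assoc,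
        ← Scheme.isoSpec_inv_naturality]) (by
      haveI : IsAffine E.obj.left.left := hE
      haveI : IsAffine W.obj.left.left := hW
      refine (isPullback_SpecMap_of_isPushout _ _ _ _ (isPushout_algMap G g hW hE)).flip.paste_vert ?_
      exact IsPullback.of_vert_isIso ⟨(Scheme.isoSpec_inv_naturality g.hom.left.left)⟩)

end Groth.Agent.AlgSpLib.VCart
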