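import Groth.Agent.AlgSpLib.VCartSpace
import Groth.Agent.AlgSpLib.QCohEtClosedFinite
import Groth.Agent.S10035

/-!
Finite morphisms are closed immersions into affine spaces of finitely presented modules.
-/

universe u

open CategoryTheory CategoryTheory.Limits AlgebraicGeometry Opposite TensorProduct
open AlgSp

noncomputable section

set_option linter.style.haveILetI false

namespace Groth.Agent.AlgSpLib.VCart

open Groth.Agent.AlgSpLib.QCohEt Groth.Agent.AlgSpLib.SerreAff SymRing RelSpecSp LimitSep

set_option backward.isDefEq.respectTransparency.types false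
set_option backward.isDefEq.respectTransparency false

variable {S : Scheme.{u}}

theorem isAffineMor_of_finiteMor {X Y : Sp S} {ν : X ⟶ Y} (h : IsFiniteMor ν) : IsAffineMor ν := fun _ hZ g =>
  let ⟨W, i, fst, sq, hW, _⟩ := h hZ g
  ⟨W, i, fst, sq, hW⟩

variable {X Y : Sp S} {ν : X ⟶ Y}

theorem isQuasicoherent_pushUnit (hr : Representable ν) (haff : IsAffineMor ν) :
    ((pushModEt hr).obj (unitModEt X)).IsQuasicoherent :=
  haveI : (unitModEt X).IsQuasicoherent := Groth.Agent.S10035.isQuasicoherent_unitModEt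
  isQuasicoherent_of_forall _ fun E hE => haveI := hE; isBC_push hr haff (unitModEt X) E

theorem finite_sec_pushUnit (hr : Representable ν) (hfin : IsFiniteMor ν) (E : EtOver Y) [IsAff E] :
    Module.Finite (ΓE E) (Sec ((pushModEt hr).obj (unitModEt X)) E) := by
  have h : (bcΓ hr E).Finite := finite_bcΓ hr hfin E
  letI := (bcΓ hr E).toAlgebra
  haveI : Module.Finite (ΓE E) (ΓE (EtOver.bcObj hr E)) := h
  let e : ΓE (EtOver.bcObj hr E) →ₗ[ΓE E] Sec ((pushModEt hr).obj (unitModEt X)) E :=
    { toFun := fun s => pushMk hr (unitModEt X) E (show Sec (unitModEt X) (EtOver.bcObj hr E) from s)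
      map_add' := fun _ _ => rfl
      map_smul' := fun _ _ => rfl }
  exact Module.Finite.of_surjective e fun m =>
    ⟨(show ΓE (EtOver.bcObj hr E) from (show Sec (unitModEt X) (EtOver.bcObj hr E) from m)), rfl⟩

theorem isFiniteType_pushUnit (hr : Representable ν) (hfin : IsFiniteMor ν) :
    ((pushModEt hr).obj (unitModEt X)).IsFiniteType :=
  haveI : (unitModEt X).IsQuasicoherent := Groth.Agent.S10035.isQuasicoherent_unitModEt
  isFiniteType_of_forall _ (fun E hE => haveI := hE; isBC_push hr (isAffineMor_of_finiteMor hfin) (unitModEt X) E)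
    fun E hE => haveI := hE; finite_sec_pushUnit hr hfin E

section closed

variable (G : FinMod Y) (hr : Representable ν) (φ : G.G ⟶ (pushModEt hr).obj (unitModEt X))

theorem isPullback_toV (E : EtOver Y) (hE : IsAff E) :
    IsPullback (hr.fst E.obj.hom) ((yon S).map (chartMap G hr φ E hE)) (toV G hr φ) (q (data G) E hE) := by
  refine IsPullback.of_bot ?_ (fst_toV G hr φ E hE) (isPullback_q (data G) E hE)
  rw [toV_str, ← Functor.map_comp, chartMap_v]
  exact hr.isPullback E.obj.hom

theorem surjective_evA (E : EtOver Y) (hE : IsAff E) (h : Function.Surjective (secMap φ E)) :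
    Function.Surjective (evA G hr φ E hE).hom := fun c => by
  obtain ⟨x, hx⟩ := h (pushMk hr (unitModEt X) E
    (show Sec (unitModEt X) (EtOver.bcObj hr E) from (upHom (EtOver.bcObj hr E) c)))
  refine ⟨SymmetricAlgebra.ι (R0 E) _ (sh G E hE x), (evA_ι G hr φ E hE x).trans ?_⟩
  show dnHom (EtOver.bcObj hr E) (show ΓE (EtOver.bcObj hr E) from secMap φ E x) = c
  rw [hx]
  rfl

theorem isClosedImmersion_chartMap (haff : IsAffineMor ν) (E : EtOver Y) (hE : IsAff E)
    (h : Function.Surjective (secMap φ E)) : IsClosedImmersion (chartMap G hr φ E hE).left := by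
  haveI := hE
  haveI : IsAffine (EtOver.bcObj hr E).obj.left.left := isAff_bcObj hr haff E
  show IsClosedImmersion ((EtOver.bcObj hr E).obj.left.left.toSpecΓ ≫ Spec.map (evA G hr φ E hE))
  haveI : IsClosedImmersion (Spec.map (evA G hr φ E hE)) :=
    IsClosedImmersion.spec_of_surjective _ (surjective_evA G hr φ E hE h)
  infer_instance

/-- a module surjecting on the direct image of the structure sheaf gives a closed immersion -/
theorem isClosedImmersion_toV (hY : IsAlgSpace Y) (haff : IsAffineMor ν) {E₀ : EtOver Y} (h₀ : IsAff E₀)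
    (hs₀ : RepWith @Surjective E₀.obj.hom) (hφ : Function.Surjective (secMap φ E₀)) :
    RepWith @IsClosedImmersion (toV G hr φ) := by
  have hstr : IsAffineMor (str (data G)) :=
    isAffineMor_str (data G) hY h₀ hs₀ (inferInstanceAs (IsAffine (Spec (Alg G E₀ h₀))))
  have hrep : Representable (toV G hr φ) :=
    (repWith_of_comp ⊤ (b := str (data G))
      (show RepWith ⊤ (toV G hr φ ≫ str (data G)) by rw [toV_str]; exact ⟨hr, fun _ _ _ _ _ _ => trivial⟩)
      (RepWith.mono le_top (diag_separated hstr))).1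
  have hq₁ : RepWith @Etale (q (data G) E₀ h₀) := RepWith.baseChange (isPullback_q (data G) E₀ h₀).flip E₀.property
  have hq₂ : RepWith @Surjective (q (data G) E₀ h₀) := RepWith.baseChange (isPullback_q (data G) E₀ h₀).flip hs₀
  have := isLocallySurjective_of_etale hq₁ hq₂
  exact repWith_of_isLocallySurjective hrep (q (data G) E₀ h₀) (isPullback_toV G hr φ E₀ h₀) _
    ((AlgSp.repWith_yon_map_iff _ _).2 (isClosedImmersion_chartMap G hr φ haff E₀ h₀ hφ))

end closed

/-- finite morphisms factor as closed immersions into affine schemes of finite presentation -/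
theorem exists_closed_factor {S : Scheme.{u}} [QuasiSeparatedSpace ↥S] {X : Sp S} {Y : AlgSp.Space S}
    {ν : X ⟶ Y.obj} (hfin : IsFiniteMor ν) (hr : Representable ν) (hqc : IsQuasiCompactSp Y.obj)
    (hqs : IsQuasiSeparatedSp Y.obj) :
    ∃ (V : AlgSp.Space S) (π : V.obj ⟶ Y.obj) (i : X ⟶ V.obj), i ≫ π = ν ∧ RepWith @IsClosedImmersion i ∧
      IsFinitePresentationMor π ∧ IsAffineMor π ∧ IsQuasiCompactSp V.obj ∧ IsQuasiSeparatedSp V.obj := by
  haveI := isQuasicoherent_pushUnit hr (isAffineMor_of_finiteMor hfin)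
  haveI := isFiniteType_pushUnit hr hfin
  obtain ⟨G, hG, hGfp, φ, hfp, hsurj, -⟩ := exists_fp_quotient hqc hqs ((pushModEt hr).obj (unitModEt X))
  let FG : FinMod Y.obj := ⟨G, hG, fun E hE => haveI := hfp E hE; inferInstance⟩
  haveI := compactSpace_points_of_isQuasiCompactSp hqc
  obtain ⟨B, b, hB, hbe, hbs⟩ := Groth.Agent.AlgSpLib.exists_affine_chart Y.property
  have hbs' : RepWith @Surjective (EtOver.mk b hbe).obj.hom := hbs
  have haff := isAffineMor_VS FG (E₀ := EtOver.mk b hbe) hB hbs'
  exact ⟨VS FG (E₀ := EtOver.mk b hbe) hB hbs', str (data FG), toV FG hr φ, toV_str FG hr φ,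
    isClosedImmersion_toV FG hr φ Y.property (isAffineMor_of_finiteMor hfin) hB hbs' (hsurj _ hB),
    isFinitePresentationMor_VS FG hB hbs' (hfp _ hB), haff,
    isQuasiCompactSp_VS FG hB hbs', isQuasiSeparatedSp_of_affineMor haff hqs⟩

end Groth.Agent.AlgSpLib.VCart
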