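import Groth.Agent.AlgSpLib.VCartClosed
import Groth.Agent.AlgSpLib.QCohEtFPColim2

/-!
Affine spaces of finitely presented modules mapping to an affine morphism: the generators.
-/

universe u

open CategoryTheory CategoryTheory.Limits AlgebraicGeometry Opposite TensorProduct
open AlgSp

noncomputable section

set_option linter.style.haveILetI false

namespace Groth.Agent.AlgSpLib.VCart

open Groth.Agent.AlgSpLib.QCohEt Groth.Agent.AlgSpLib.SerreAff SymRing RelSpecSp LimitSep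

set_option backward.isDefEq.respectTransparency.types false
set_option backward.isDefEq.respectTransparency false

variable {S : Scheme.{u}}

section

variable {Y X : Sp S} {ν : X ⟶ Y} (hr : Representable ν) (E₀ : EtOver Y)

/-- functions on the chart of the source -/
abbrev Kap : Type u := Γ((EtOver.bcObj hr E₀).obj.left.left, ⊤)

/-- a section of the direct image -/
def elt (c : Kap hr E₀) : Sec ((pushModEt hr).obj (unitModEt X)) E₀ :=
  pushMk hr (unitModEt X) E₀ (show Sec (unitModEt X) (EtOver.bcObj hr E₀) from (upHom (EtOver.bcObj hr E₀) c))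

/-- finitely presented modules hitting the functions on the chart of the source -/
structure Gens where
  G : Kap hr E₀ → ModEt Y
  qc : ∀ c, (G c).IsQuasicoherent
  fp : ∀ c E, IsAff E → Module.FinitePresentation (ΓE E) (Sec (G c) E)
  p : ∀ c, G c ⟶ (pushModEt hr).obj (unitModEt X)
  hit : ∀ c, ∃ v, secMap (p c) E₀ v = elt hr E₀ c

end

theorem exists_gens [QuasiSeparatedSpace ↥S] {X : Sp S} {Y : AlgSp.Space S} {ν : X ⟶ Y.obj} (hr : Representable ν)
    (haff : IsAffineMor ν) (hqc : IsQuasiCompactSp Y.obj) (hqs : IsQuasiSeparatedSp Y.obj)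
    (E₀ : EtOver Y.obj) (h₀ : IsAff E₀) : Nonempty (Gens hr E₀) := by
  haveI := isQuasicoherent_pushUnit hr haff
  obtain ⟨C⟩ := exists_fpCover hqc hqs (M := (pushModEt hr).obj (unitModEt X))
  choose a ha using fun c : Kap hr E₀ => exists_mem_relIdx hqc hqs E₀ h₀ (elt hr E₀ c)
  exact ⟨⟨fun c => C.G (a c), fun c => C.qc (a c), fun c => C.fp (a c), fun c => C.p (a c),
    fun c => C.surj (a c) E₀ h₀ _ (ha c)⟩⟩

section generic

variable {X Y : Sp S} {ν : X ⟶ Y} {G G' : FinMod Y} (hr : Representable ν)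
  (φ : G.G ⟶ (pushModEt hr).obj (unitModEt X)) (t : G'.G ⟶ G.G)
  (φ' : G'.G ⟶ (pushModEt hr).obj (unitModEt X))

theorem algT_evA (h : t ≫ φ = φ') (E : EtOver Y) (hE : IsAff E) :
    algT t E hE ≫ evA G hr φ E hE = evA G' hr φ' E hE := by
  subst h
  refine CommRingCat.hom_ext (SymRing.ringHom_ext (fun r => ?_) fun m => ?_)
  · show (evA G hr φ E hE).hom ((algT t E hE).hom (algebraMap (R0 E) _ r)) = _
    rw [algT_algebraMap, evA_algebraMap, evA_algebraMap]
  · obtain ⟨y, rfl⟩ := (sh G' E hE).surjective m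
    show (evA G hr φ E hE).hom ((algT t E hE).hom (SymmetricAlgebra.ι (R0 E) _ (sh G' E hE y))) = _
    rw [algT_ι, evA_ι, evA_ι]
    exact congrArg (fun s : Sec ((pushModEt hr).obj (unitModEt X)) E =>
      dnHom (EtOver.bcObj hr E) (show ΓE (EtOver.bcObj hr E) from s)) (secMap_comp t φ E y).symm

theorem chartMap_algT' (h : t ≫ φ = φ') (E : EtOver Y) (hE : IsAff E) :
    chartMap G hr φ E hE ≫ (cartT t).f E hE = chartMap G' hr φ' E hE :=
  Over.OverMorphism.ext (by
    show (_ ≫ Spec.map (evA G hr φ E hE)) ≫ Spec.map (algT t E hE) = _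
    rw [Category.assoc, ← Spec.map_comp, algT_evA hr φ t φ' h E hE]
    rfl)

theorem chartMap_appTop' (E : EtOver Y) (hE : IsAff E) :
    (Scheme.ΓSpecIso (Alg G E hE)).inv ≫ (chartMap G hr φ E hE).left.appTop = evA G hr φ E hE := by
  show _ ≫ (_ ≫ Spec.map (evA G hr φ E hE)).appTop = _
  rw [Scheme.Hom.comp_appTop, ← Category.assoc, ← Scheme.ΓSpecIso_inv_naturality, Category.assoc,
    Scheme.toSpecΓ_appTop, Iso.inv_hom_id, Category.comp_id]

end generic

namespace Gens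

variable {Y : Sp S} {X : Sp S} {ν : X ⟶ Y} {hr : Representable ν} {E₀ : EtOver Y} (g : Gens hr E₀)

instance (c : Kap hr E₀) : (g.G c).IsQuasicoherent := g.qc c

/-- the finite sums -/
def GA (A : Finset (Kap hr E₀)) : ModEt Y := ⨁ fun a : ULift.{u + 1} A => g.G a.down.1

instance (A : Finset (Kap hr E₀)) : (g.GA A).IsQuasicoherent := isQuasicoherent_biproduct' _

/-- the map to the functions -/
def pA (A : Finset (Kap hr E₀)) : g.GA A ⟶ (pushModEt hr).obj (unitModEt X) := biproduct.desc fun a => g.p a.down.1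

/-- the inclusions of finite sums -/
def tA {A B : Finset (Kap hr E₀)} (h : A ⊆ B) : g.GA A ⟶ g.GA B :=
  biproduct.desc fun a => biproduct.ι (fun b : ULift.{u + 1} B => g.G b.down.1) ⟨⟨a.down.1, h a.down.2⟩⟩

theorem tA_pA {A B : Finset (Kap hr E₀)} (h : A ⊆ B) : g.tA h ≫ g.pA B = g.pA A :=
  biproduct.hom_ext' _ _ fun a => by simp [tA, pA]

theorem tA_comp {A B D : Finset (Kap hr E₀)} (h : A ⊆ B) (h' : B ⊆ D) : g.tA h ≫ g.tA h' = g.tA (h.trans h') :=
  biproduct.hom_ext' _ _ fun a => by simp [tA]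

theorem tA_refl (A : Finset (Kap hr E₀)) : g.tA (subset_refl A) = 𝟙 (g.GA A) :=
  biproduct.hom_ext' _ _ fun a => by simp [tA, GA]

theorem fp_GA (A : Finset (Kap hr E₀)) (E : EtOver Y) (hE : IsAff E) :
    Module.FinitePresentation (ΓE E) (Sec (g.GA A) E) :=
  haveI := fun a : ULift.{u + 1} A => g.fp a.down.1 E hE
  finitePresentation_biproduct _ E

/-- the finite module -/
def FM (A : Finset (Kap hr E₀)) : FinMod Y :=
  ⟨g.GA A, inferInstance, fun E hE => haveI := g.fp_GA A E hE; inferInstance⟩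

/-- the affine space -/
abbrev T (A : Finset (Kap hr E₀)) : Sp S := RelSpecSp.obj (data (g.FM A))

/-- its projection -/
abbrev τ (A : Finset (Kap hr E₀)) : g.T A ⟶ Y := str (data (g.FM A))

/-- the transition maps -/
def tT {A B : Finset (Kap hr E₀)} (h : A ⊆ B) : g.T B ⟶ g.T A := (cartT (G := g.FM B) (G' := g.FM A) (g.tA h)).hom

theorem tT_τ {A B : Finset (Kap hr E₀)} (h : A ⊆ B) : g.tT h ≫ g.τ A = g.τ B := CartHom.hom_str _

theorem tT_comp {A B D : Finset (Kap hr E₀)} (h : A ⊆ B) (h' : B ⊆ D) : g.tT h' ≫ g.tT h = g.tT (h.trans h') := by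
  unfold tT
  rw [← hom_cartT_comp]
  exact congrArg (fun t => (cartT (G := g.FM D) (G' := g.FM A) t).hom) (g.tA_comp h h')

theorem tT_refl (A : Finset (Kap hr E₀)) : g.tT (subset_refl A) = 𝟙 (g.T A) :=
  (congrArg (fun t => (cartT (G := g.FM A) (G' := g.FM A) t).hom) (g.tA_refl A)).trans (hom_cartT_id (g.FM A))

/-- the map from the source -/
def x (A : Finset (Kap hr E₀)) : X ⟶ g.T A := toV (g.FM A) hr (g.pA A)

theorem x_τ (A : Finset (Kap hr E₀)) : g.x A ≫ g.τ A = ν := toV_str _ _ _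

theorem chartMap_algT {A B : Finset (Kap hr E₀)} (h : A ⊆ B) (E : EtOver Y) (hE : IsAff E) :
    chartMap (g.FM B) hr (g.pA B) E hE ≫ (cartT (G := g.FM B) (G' := g.FM A) (g.tA h)).f E hE =
      chartMap (g.FM A) hr (g.pA A) E hE :=
  chartMap_algT' (G := g.FM B) (G' := g.FM A) hr (g.pA B) (g.tA h) (g.pA A) (g.tA_pA h) E hE

theorem x_tT (h₀ : IsAff E₀) (hs₀ : RepWith @Surjective E₀.obj.hom) {A B : Finset (Kap hr E₀)} (h : A ⊆ B) :
    g.x B ≫ g.tT h = g.x A := by
  haveI := epi_of_etale_surjective (RepWith.baseChange (hr.isPullback E₀.obj.hom).flip E₀.property)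
    (RepWith.baseChange (hr.isPullback E₀.obj.hom).flip hs₀)
  rw [← cancel_epi (hr.fst E₀.obj.hom)]
  show hr.fst E₀.obj.hom ≫ toV _ hr _ ≫ _ = hr.fst E₀.obj.hom ≫ toV _ hr _
  rw [← Category.assoc, fst_toV _ _ _ E₀ h₀, fst_toV _ _ _ E₀ h₀, Category.assoc, tT, CartHom.q_hom,
    ← Category.assoc, ← Functor.map_comp, g.chartMap_algT h E₀ h₀]

theorem chartMap_appTop (A : Finset (Kap hr E₀)) (E : EtOver Y) (hE : IsAff E) :
    (Scheme.ΓSpecIso (Alg (g.FM A) E hE)).inv ≫ (chartMap (g.FM A) hr (g.pA A) E hE).left.appTop =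
      evA (g.FM A) hr (g.pA A) E hE :=
  chartMap_appTop' (G := g.FM A) hr (g.pA A) E hE

theorem exists_evA_eq (A : Finset (Kap hr E₀)) (h₀ : IsAff E₀) {c : Kap hr E₀} (hc : c ∈ A) :
    ∃ z, (evA (g.FM A) hr (g.pA A) E₀ h₀).hom z = c := by
  obtain ⟨v, hv⟩ := g.hit c
  let a : ULift.{u + 1} A := ⟨⟨c, hc⟩⟩
  have hv' : secMap (g.pA A) E₀ (secMap (biproduct.ι (fun b : ULift.{u + 1} A => g.G b.down.1) a) E₀ v) =
      elt hr E₀ c :=
    ((secMap_comp _ _ E₀ v).symm.trans
      (secMap_eq (biproduct.ι_desc (fun b : ULift.{u + 1} A => g.p b.down.1) a) E₀ v)).trans hv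
  refine ⟨SymmetricAlgebra.ι (R0 E₀) _ (sh (g.FM A) E₀ h₀
    (secMap (biproduct.ι (fun b : ULift.{u + 1} A => g.G b.down.1) a) E₀ v)), (evA_ι _ _ _ E₀ h₀ _).trans ?_⟩
  show dnHom (EtOver.bcObj hr E₀) (show ΓE (EtOver.bcObj hr E₀) from secMap (g.pA A) E₀ _) = c
  rw [hv']
  rfl

end Gens

end Groth.Agent.AlgSpLib.VCart
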