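import Groth.Agent.AlgSpLib.VCart
import Groth.Agent.AlgSpLib.SerreAffineRel

/-!
Functoriality of the affine space of a module and maps into it.
-/

universe u

open CategoryTheory CategoryTheory.Limits AlgebraicGeometry Opposite TensorProduct
open AlgSp

noncomputable section

set_option linter.style.haveILetI false

namespace Groth.Agent.AlgSpLib.VCart

open Groth.Agent.AlgSpLib.QCohEt Groth.Agent.AlgSpLib.SerreAff SymRing RelSpecSp

set_option backward.isDefEq.respectTransparency.types false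
set_option backward.isDefEq.respectTransparency false

variable {S : Scheme.{u}} {Y : Sp S}

section functor

variable {G G' : FinMod Y} (t : G'.G ⟶ G.G)

/-- a morphism of modules on the chart algebras -/
def algT (E : EtOver Y) (hE : IsAff E) : Alg G' E hE ⟶ Alg G E hE :=
  CommRingCat.ofHom (SymRing.desc (C := SymmetricAlgebra (R0 E) (SM G E hE)) (algebraMap (R0 E) _)
    ((SymmetricAlgebra.ι (R0 E) (SM G E hE)).toAddMonoidHom.comp
      ((sh G E hE).toAddMonoidHom.comp ((secMap t E).toAddMonoidHom.comp (sh G' E hE).symm.toAddMonoidHom)))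
    fun r m => by
      show SymmetricAlgebra.ι (R0 E) _ (sh G E hE (secMap t E ((sh G' E hE).symm (r • m)))) =
        algebraMap (R0 E) _ r * SymmetricAlgebra.ι (R0 E) _ (sh G E hE (secMap t E ((sh G' E hE).symm m)))
      rw [sh_symm_smul, map_smul, sh_smul, map_smul, Algebra.smul_def])

theorem algT_algebraMap (E : EtOver Y) (hE : IsAff E) (r : R0 E) :
    (algT t E hE).hom (algebraMap (R0 E) _ r) = algebraMap (R0 E) _ r :=
  desc_algebraMap _ _ _ r

theorem algT_ι (E : EtOver Y) (hE : IsAff E) (x : Sec G'.G E) :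
    (algT t E hE).hom (SymmetricAlgebra.ι (R0 E) _ (sh G' E hE x)) =
      SymmetricAlgebra.ι (R0 E) _ (sh G E hE (secMap t E x)) := by
  refine (desc_ι _ _ _ _).trans ?_
  show SymmetricAlgebra.ι (R0 E) _ (sh G E hE (secMap t E ((sh G' E hE).symm (sh G' E hE x)))) = _
  rw [AddEquiv.symm_apply_apply]

/-- a morphism of modules gives a morphism of the affine spaces, backwards -/
def cartT : CartHom (data G) (data G') where
  f E hE := Over.homMk (Spec.map (algT t E hE)) (by
    show Spec.map (algT t E hE) ≫ Spec.map (strA G' E hE) ≫ _ = Spec.map (strA G E hE) ≫ _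
    rw [← Spec.map_comp_assoc,
      show strA G' E hE ≫ algT t E hE = strA G E hE from CommRingCat.hom_ext (RingHom.ext (algT_algebraMap t E hE))])
  f_v E hE := Over.OverMorphism.ext (by
    show Spec.map (algT t E hE) ≫ Spec.map (strA G' E hE) ≫ _ = Spec.map (strA G E hE) ≫ _
    rw [← Spec.map_comp_assoc,
      show strA G' E hE ≫ algT t E hE = strA G E hE from CommRingCat.hom_ext (RingHom.ext (algT_algebraMap t E hE))])
  f_map {W E} g hW hE := Over.OverMorphism.ext (by
    show Spec.map (algMap G g hW hE) ≫ Spec.map (algT t E hE) = Spec.map (algT t W hW) ≫ Spec.map (algMap G' g hW hE)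
    rw [← Spec.map_comp, ← Spec.map_comp]
    refine congrArg Spec.map (CommRingCat.hom_ext (SymRing.ringHom_ext (fun r => ?_) fun m => ?_))
    · show (algMap G g hW hE).hom ((algT t E hE).hom (algebraMap (R0 E) _ r)) =
        (algT t W hW).hom ((algMap G' g hW hE).hom (algebraMap (R0 E) _ r))
      rw [algT_algebraMap, algMap_algebraMap, algMap_algebraMap, algT_algebraMap]
    · obtain ⟨x, rfl⟩ := (sh G' E hE).surjective m
      show (algMap G g hW hE).hom ((algT t E hE).hom (SymmetricAlgebra.ι (R0 E) _ (sh G' E hE x))) =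
        (algT t W hW).hom ((algMap G' g hW hE).hom (SymmetricAlgebra.ι (R0 E) _ (sh G' E hE x)))
      rw [algT_ι, algMap_ι, algMap_ι, tMap_sh, tMap_sh, algT_ι, mapSec_secMap])

theorem hom_cartT_comp {G'' : FinMod Y} (t' : G''.G ⟶ G'.G) :
    (cartT (t' ≫ t) : CartHom (data G) (data G'')).hom = (cartT t).hom ≫ (cartT t').hom := by
  rw [← CartHom.comp_hom]
  refine CartHom.hom_ext_charts _ fun E hE => Over.OverMorphism.ext ?_
  show Spec.map (algT (t' ≫ t) E hE) = Spec.map (algT t E hE) ≫ Spec.map (algT t' E hE)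
  rw [← Spec.map_comp]
  refine congrArg Spec.map (CommRingCat.hom_ext (SymRing.ringHom_ext (fun r => ?_) fun m => ?_))
  · show (algT (t' ≫ t) E hE).hom _ = (algT t E hE).hom ((algT t' E hE).hom (algebraMap (R0 E) _ r))
    rw [algT_algebraMap, algT_algebraMap, algT_algebraMap]
  · obtain ⟨x, rfl⟩ := (sh G'' E hE).surjective m
    show (algT (t' ≫ t) E hE).hom _ = (algT t E hE).hom ((algT t' E hE).hom (SymmetricAlgebra.ι (R0 E) _ (sh G'' E hE x)))
    rw [algT_ι, algT_ι, algT_ι, secMap_comp]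

theorem hom_cartT_id (G : FinMod Y) : (cartT (𝟙 G.G) : CartHom (data G) (data G)).hom = 𝟙 _ := by
  rw [← CartHom.refl_hom]
  refine CartHom.hom_ext_charts _ fun E hE => Over.OverMorphism.ext ?_
  show Spec.map (algT (𝟙 G.G) E hE) = 𝟙 _
  rw [← Spec.map_id]
  refine congrArg Spec.map (CommRingCat.hom_ext (SymRing.ringHom_ext (fun r => ?_) fun m => ?_))
  · exact algT_algebraMap _ E hE r
  · obtain ⟨x, rfl⟩ := (sh G E hE).surjective m
    exact algT_ι _ E hE x

end functor

section maps

variable (G : FinMod Y) {X : Sp S} {ν : X ⟶ Y} (hr : Representable ν)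
  (φ : G.G ⟶ (pushModEt hr).obj (unitModEt X))

/-- the functions attached to the sections -/
def fn (E : EtOver Y) : Sec G.G E →+ Γ((EtOver.bcObj hr E).obj.left.left, ⊤) where
  toFun x := dnHom (EtOver.bcObj hr E) (show ΓE (EtOver.bcObj hr E) from secMap φ E x)
  map_zero' := by rw [map_zero]; rfl
  map_add' x y := by rw [map_add]; rfl

theorem fn_smul (E : EtOver Y) (r : ΓE E) (x : Sec G.G E) :
    fn G hr φ E (r • x) = (EtOver.bcπ hr E).left.appTop.hom (dnHom E r) * fn G hr φ E x := by
  show dnHom (EtOver.bcObj hr E) (show ΓE (EtOver.bcObj hr E) from secMap φ E (r • x)) = _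
  rw [map_smul]
  rfl

/-- evaluation of the algebra of a chart -/
def evA (E : EtOver Y) (hE : IsAff E) : Alg G E hE ⟶ Γ((EtOver.bcObj hr E).obj.left.left, ⊤) :=
  CommRingCat.ofHom (SymRing.desc (C := Γ((EtOver.bcObj hr E).obj.left.left, ⊤))
    (EtOver.bcπ hr E).left.appTop.hom ((fn G hr φ E).comp (sh G E hE).symm.toAddMonoidHom) fun r m => by
      show fn G hr φ E ((sh G E hE).symm (r • m)) = _ * fn G hr φ E ((sh G E hE).symm m)
      rw [sh_symm_smul, fn_smul, dnHom_upHom])

theorem evA_algebraMap (E : EtOver Y) (hE : IsAff E) (r : R0 E) :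
    (evA G hr φ E hE).hom (algebraMap (R0 E) _ r) = (EtOver.bcπ hr E).left.appTop.hom r :=
  desc_algebraMap _ _ _ r

theorem evA_ι (E : EtOver Y) (hE : IsAff E) (x : Sec G.G E) :
    (evA G hr φ E hE).hom (SymmetricAlgebra.ι (R0 E) _ (sh G E hE x)) = fn G hr φ E x := by
  refine (desc_ι _ _ _ _).trans ?_
  show fn G hr φ E ((sh G E hE).symm (sh G E hE x)) = _
  rw [AddEquiv.symm_apply_apply]

theorem strA_evA (E : EtOver Y) (hE : IsAff E) : strA G E hE ≫ evA G hr φ E hE = (EtOver.bcπ hr E).left.appTop :=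
  CommRingCat.hom_ext (RingHom.ext (evA_algebraMap G hr φ E hE))

theorem algMap_evA {W E : EtOver Y} (g : W ⟶ E) (hW : IsAff W) (hE : IsAff E) :
    algMap G g hW hE ≫ evA G hr φ W hW = evA G hr φ E hE ≫ (EtOver.bcMap hr g).hom.left.left.appTop := by
  refine CommRingCat.hom_ext (SymRing.ringHom_ext (fun r => ?_) fun m => ?_)
  · show (evA G hr φ W hW).hom ((algMap G g hW hE).hom (algebraMap (R0 E) _ r)) =
      (EtOver.bcMap hr g).hom.left.left.appTop.hom ((evA G hr φ E hE).hom (algebraMap (R0 E) _ r))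
    rw [algMap_algebraMap, evA_algebraMap, evA_algebraMap]
    have h : (EtOver.bcMap hr g).hom.left ≫ EtOver.bcπ hr E = EtOver.bcπ hr W ≫ g.hom.left := EtOver.bcMap_snd hr g
    exact (congrArg (fun k : (EtOver.bcObj hr W).obj.left ⟶ E.obj.left => k.left.appTop.hom r) h).symm
  · obtain ⟨x, rfl⟩ := (sh G E hE).surjective m
    show (evA G hr φ W hW).hom ((algMap G g hW hE).hom (SymmetricAlgebra.ι (R0 E) _ (sh G E hE x))) =
      (EtOver.bcMap hr g).hom.left.left.appTop.hom ((evA G hr φ E hE).hom (SymmetricAlgebra.ι (R0 E) _ (sh G E hE x)))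
    rw [algMap_ι, tMap_sh, evA_ι, evA_ι]
    show dnHom (EtOver.bcObj hr W) (show ΓE (EtOver.bcObj hr W) from secMap φ W (mapSec G.G g x)) = _
    rw [← mapSec_secMap]
    rfl

/-- the map on a chart -/
def chartMap (E : EtOver Y) (hE : IsAff E) : (EtOver.bcObj hr E).obj.left ⟶ (data G).V E hE :=
  Over.homMk ((EtOver.bcObj hr E).obj.left.left.toSpecΓ ≫ Spec.map (evA G hr φ E hE)) (by
    haveI : IsAffine E.obj.left.left := hE
    show (_ ≫ Spec.map (evA G hr φ E hE)) ≫ Spec.map (strA G E hE) ≫ _ ≫ _ = _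
    rw [Category.assoc, ← Spec.map_comp_assoc, strA_evA, ← Scheme.toSpecΓ_naturality_assoc,
      reassoc_of% Scheme.toSpecΓ_isoSpec_inv]
    exact Over.w (EtOver.bcπ hr E))

theorem chartMap_v (E : EtOver Y) (hE : IsAff E) : chartMap G hr φ E hE ≫ (data G).v E hE = hr.snd E.obj.hom :=
  Over.OverMorphism.ext (by
    haveI : IsAffine E.obj.left.left := hE
    show (_ ≫ Spec.map (evA G hr φ E hE)) ≫ Spec.map (strA G E hE) ≫ _ = _
    rw [Category.assoc, ← Spec.map_comp_assoc, strA_evA, ← Scheme.toSpecΓ_naturality_assoc,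
      Scheme.toSpecΓ_isoSpec_inv, Category.comp_id])

theorem chartMap_natural {W E : EtOver Y} (g : W ⟶ E) (hW : IsAff W) (hE : IsAff E) :
    (EtOver.bcMap hr g).hom.left ≫ chartMap G hr φ E hE = chartMap G hr φ W hW ≫ (data G).map g hW hE :=
  Over.OverMorphism.ext (by
    show (EtOver.bcMap hr g).hom.left.left ≫ _ ≫ Spec.map (evA G hr φ E hE) =
      (_ ≫ Spec.map (evA G hr φ W hW)) ≫ Spec.map (algMap G g hW hE)
    rw [Category.assoc, ← Spec.map_comp, algMap_evA, Spec.map_comp, Scheme.toSpecΓ_naturality_assoc])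

/-- the map into the affine space -/
def toV : X ⟶ RelSpecSp.obj (data G) :=
  (RelSpecSp.exists_hom (data G) hr (chartMap G hr φ) (chartMap_v G hr φ) (chartMap_natural G hr φ)).choose

theorem toV_str : toV G hr φ ≫ str (data G) = ν :=
  (RelSpecSp.exists_hom (data G) hr (chartMap G hr φ) (chartMap_v G hr φ) (chartMap_natural G hr φ)).choose_spec.1

theorem fst_toV (E : EtOver Y) (hE : IsAff E) :
    hr.fst E.obj.hom ≫ toV G hr φ = (yon S).map (chartMap G hr φ E hE) ≫ q (data G) E hE :=
  (RelSpecSp.exists_hom (data G) hr (chartMap G hr φ) (chartMap_v G hr φ) (chartMap_natural G hr φ)).choose_spec.2 E hE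

end maps

end Groth.Agent.AlgSpLib.VCart
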