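import Groth.Agent.AlgSpLib.VCartGens
import Groth.Agent.S10035

/-!
Finitely presented closed subspaces of the affine spaces through which an affine morphism factors.
-/

universe u

open CategoryTheory CategoryTheory.Limits AlgebraicGeometry Opposite TensorProduct
open AlgSp

noncomputable section

set_option linter.style.haveILetI false

namespace Groth.Agent.AlgSpLib.VCart

open Groth.Agent.AlgSpLib.QCohEt Groth.Agent.AlgSpLib.SerreAff SymRing RelSpecSp LimitSep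

set_option backward.isDefEq.respectTransparency.types false
set_option backward.isDefEq.respectTransparency false

variable {S : Scheme.{u}}

/-- the ideal of a closed subspace is computed by any base change -/
theorem mem_ker_iff_of_isPullback {Z W : Sp S} {i : Z ⟶ W} (hi : Representable i) (E : EtOver W) {P : Over S}
    {pz : (yon S).obj P ⟶ Z} {ρ : P ⟶ E.obj.left} (sq : IsPullback pz ((yon S).map ρ) i E.obj.hom)
    (hE : IsAffine E.obj.left.left) (z : Γ(E.obj.left.left, ⊤)) :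
    z ∈ (idealOfRep hi).ideal E hE ↔ ρ.left.appTop.hom z = 0 := by
  obtain ⟨φ, hφ⟩ := (yon S).map_surjective (sq.isoIsPullback _ _ (hi.isPullback E.obj.hom)).hom
  haveI : IsIso ((yon S).map φ) := by rw [hφ]; infer_instance
  haveI : IsIso φ := isIso_of_reflects_iso φ (yon S)
  haveI : IsIso φ.left := inferInstanceAs (IsIso ((Over.forget S).map φ))
  have hl : φ ≫ hi.snd E.obj.hom = ρ := (yon S).map_injective (by
    rw [Functor.map_comp, hφ, IsPullback.isoIsPullback_hom_snd])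
  have hb : Function.Bijective φ.left.appTop.hom := ConcreteCategory.bijective_of_isIso φ.left.appTop
  show (hi.snd E.obj.hom).left.appTop.hom z = 0 ↔ _
  rw [← hl, Over.comp_left, Scheme.Hom.comp_appTop, CommRingCat.hom_comp, RingHom.comp_apply]
  exact ⟨fun h => (congrArg φ.left.appTop.hom h).trans (map_zero _), fun h => hb.1 (h.trans (map_zero φ.left.appTop.hom).symm)⟩

theorem isQuasiCompactMor_closed {Z W : Sp S} (hZ : IsAlgSpace Z) (hW : IsAlgSpace W) {i : Z ⟶ W}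
    (hi : RepWith @IsClosedImmersion i) : IsQuasiCompactMor i :=
  (repWith_quasiCompact_iff hZ hW hi.1).1 (RepWith.mono (fun _ _ q (_ : IsClosedImmersion q) =>
    (inferInstance : QuasiCompact q)) hi)

namespace Gens

variable {Y : AlgSp.Space S} {X : Sp S} {ν : X ⟶ Y.obj} {hr : Representable ν} {E₀ : EtOver Y.obj}
  (g : Gens hr E₀) (h₀ : IsAff E₀)

/-- the chart of the affine space -/
def EA (A : Finset (Kap hr E₀)) : EtOver (g.T A) :=
  EtOver.mk (q (data (g.FM A)) E₀ h₀) (RepWith.baseChange (isPullback_q (data (g.FM A)) E₀ h₀).flip E₀.property)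

theorem isAff_EA (A : Finset (Kap hr E₀)) : IsAffine (g.EA h₀ A).obj.left.left := isAffine_VE (g.FM A) E₀ h₀

theorem surjective_EA (hs₀ : RepWith @Surjective E₀.obj.hom) (A : Finset (Kap hr E₀)) :
    RepWith @Surjective (g.EA h₀ A).obj.hom :=
  RepWith.baseChange (isPullback_q (data (g.FM A)) E₀ h₀).flip hs₀

include h₀ in
theorem isAlgSpace_T (hs₀ : RepWith @Surjective E₀.obj.hom) (A : Finset (Kap hr E₀)) : IsAlgSpace (g.T A) :=
  (VS (g.FM A) h₀ hs₀).property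

/-- finitely presented closed subspaces containing the source -/
structure Sub (A : Finset (Kap hr E₀)) where
  Z : Sp S
  alg : IsAlgSpace Z
  ι : Z ⟶ g.T A
  cl : RepWith @IsClosedImmersion ι
  fp : IsFinitePresentationMor ι
  k : X ⟶ Z
  hk : k ≫ ι = g.x A

variable {g}

instance {A : Finset (Kap hr E₀)} (s : g.Sub A) : Mono s.ι := mono_closedImmersion s.cl

/-- the relations of a subspace -/
def Sub.ker {A : Finset (Kap hr E₀)} (s : g.Sub A) : Ideal Γ((g.EA h₀ A).obj.left.left, ⊤) :=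
  (idealOfRep s.cl.1).ideal (g.EA h₀ A) (g.isAff_EA h₀ A)

theorem Sub.fac_of_ker_le (hs₀ : RepWith @Surjective E₀.obj.hom) {A : Finset (Kap hr E₀)} (s s' : g.Sub A)
    (h : s.ker h₀ ≤ s'.ker h₀) : ∃ l, l ≫ s.ι = s'.ι :=
  (le_iff_factors (g.isAlgSpace_T h₀ hs₀ A) ⟨s.cl, rfl⟩ ⟨s'.cl, rfl⟩).1
    (Groth.Agent.S10035.ideal_le_of_chart (g.isAlgSpace_T h₀ hs₀ A) _ (g.EA h₀ A).property
      (g.surjective_EA h₀ hs₀ A) (g.isAff_EA h₀ A) (isQCoh_idealOfRep s.cl) (isQCoh_idealOfRep s'.cl) h)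

theorem Sub.ker_le_of_fac (hs₀ : RepWith @Surjective E₀.obj.hom) {A : Finset (Kap hr E₀)} (s s' : g.Sub A)
    {l : s'.Z ⟶ s.Z} (hl : l ≫ s.ι = s'.ι) : s.ker h₀ ≤ s'.ker h₀ :=
  (le_iff_factors (g.isAlgSpace_T h₀ hs₀ A) ⟨s.cl, rfl⟩ ⟨s'.cl, rfl⟩).2 ⟨l, hl⟩ _ _

theorem fp_of_isPullback {A : Finset (Kap hr E₀)} {Z P Q : Sp S} (hP : IsAlgSpace P) (hZ : IsAlgSpace Z)
    (hA : IsAlgSpace (g.T A)) (hQ : IsAlgSpace Q) {i : Z ⟶ g.T A} {t : Q ⟶ g.T A} {fst : P ⟶ Z} {snd : P ⟶ Q}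
    (sq : IsPullback fst snd i t) (hi : RepWith @IsClosedImmersion i) (hfp : IsFinitePresentationMor i) :
    RepWith @IsClosedImmersion snd ∧ IsFinitePresentationMor snd := by
  have hs : RepWith @IsClosedImmersion snd := RepWith.baseChange sq hi
  haveI := mono_closedImmersion hs
  exact ⟨hs, locP_of_isPullback etLocal_lfp hZ hA hP sq hfp.1, isQuasiCompactMor_closed hP hQ hs,
    isQuasiSeparatedMor_of_mono _⟩

include h₀ in
theorem Sub.exists_inter (hs₀ : RepWith @Surjective E₀.obj.hom) {A : Finset (Kap hr E₀)} (s s' : g.Sub A) :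
    ∃ s'' : g.Sub A, (∃ l, l ≫ s.ι = s''.ι) ∧ ∃ l, l ≫ s'.ι = s''.ι := by
  have hA := g.isAlgSpace_T h₀ hs₀ A
  have sq := IsPullback.of_hasPullback s.ι s'.ι
  have hP := isAlgSpace_of_isPullback hA.diag s.alg s'.alg sq
  obtain ⟨h1, h2⟩ := fp_of_isPullback hP s.alg hA s'.alg sq s.cl s.fp
  refine ⟨⟨_, hP, pullback.snd s.ι s'.ι ≫ s'.ι, RepWith.comp h1 s'.cl,
    ⟨locP_comp etLocal_lfp hP s'.alg hA h2.1 s'.fp.1, isQuasiCompactMor_comp hP s'.alg hA h2.2.1 s'.fp.2.1,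
      isQuasiSeparatedMor_comp h2.2.2 s'.fp.2.2⟩,
    pullback.lift s.k s'.k (by rw [s.hk, s'.hk]), by rw [pullback.lift_snd_assoc, s'.hk]⟩,
    ⟨pullback.fst s.ι s'.ι, pullback.condition⟩, ⟨pullback.snd s.ι s'.ι, rfl⟩⟩

include h₀ in
theorem Sub.exists_pull (hs₀ : RepWith @Surjective E₀.obj.hom) {A B : Finset (Kap hr E₀)} (h : A ⊆ B)
    (s : g.Sub A) : ∃ s' : g.Sub B, ∃ l, l ≫ s.ι = s'.ι ≫ g.tT h := by
  have hA := g.isAlgSpace_T h₀ hs₀ A
  have hB := g.isAlgSpace_T h₀ hs₀ B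
  have sq := IsPullback.of_hasPullback s.ι (g.tT h)
  have hP := isAlgSpace_of_isPullback hA.diag s.alg hB sq
  obtain ⟨h1, h2⟩ := fp_of_isPullback hP s.alg hA hB sq s.cl s.fp
  exact ⟨⟨_, hP, pullback.snd s.ι (g.tT h), h1, h2, pullback.lift s.k (g.x B) (by rw [s.hk, g.x_tT h₀ hs₀ h]),
    pullback.lift_snd _ _ _⟩, pullback.fst _ _, pullback.condition⟩

variable (g)

section ctx

variable [QuasiSeparatedSpace ↥S] (hX : IsAlgSpace X) (haff : IsAffineMor ν)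
  (hqs : IsQuasiSeparatedSp Y.obj) (hs₀ : RepWith @Surjective E₀.obj.hom)

include h₀ hs₀ in
theorem representable_x (A : Finset (Kap hr E₀)) : Representable (g.x A) := by
  have hstr : IsAffineMor (g.τ A) := isAffineMor_VS (g.FM A) h₀ hs₀
  exact (repWith_of_comp ⊤ (b := g.τ A)
    (show RepWith ⊤ (g.x A ≫ g.τ A) by rw [g.x_τ]; exact ⟨hr, fun _ _ _ _ _ _ => trivial⟩)
    (RepWith.mono le_top (diag_separated hstr))).1

include hs₀ in
theorem mem_ker_x_iff (A : Finset (Kap hr E₀)) (z : Γ((g.EA h₀ A).obj.left.left, ⊤)) :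
    z ∈ (idealOfRep (g.representable_x h₀ hs₀ A)).ideal (g.EA h₀ A) (g.isAff_EA h₀ A) ↔
      (chartMap (g.FM A) hr (g.pA A) E₀ h₀).left.appTop.hom z = 0 :=
  mem_ker_iff_of_isPullback (g.representable_x h₀ hs₀ A) (g.EA h₀ A)
    (isPullback_toV (g.FM A) hr (g.pA A) E₀ h₀) _ z

include hX haff hqs hs₀ in
theorem exists_sub_mem (A : Finset (Kap hr E₀)) (t : Finset Γ((g.EA h₀ A).obj.left.left, ⊤))
    (ht : ∀ z ∈ t, (chartMap (g.FM A) hr (g.pA A) E₀ h₀).left.appTop.hom z = 0) :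
    ∃ s : g.Sub A, ∀ z ∈ t, z ∈ s.ker h₀ := by
  let V := VS (g.FM A) h₀ hs₀
  have hVqc : IsQuasiCompactSp V.obj := isQuasiCompactSp_VS (g.FM A) h₀ hs₀
  have hτ : IsAffineMor (g.τ A) := isAffineMor_VS (g.FM A) h₀ hs₀
  have hVqs : IsQuasiSeparatedSp V.obj := isQuasiSeparatedSp_of_affineMor hτ hqs
  have hxqc : IsQuasiCompactMor (g.x A) := by
    refine isQuasiCompactMor_cancel hX (g.isAlgSpace_T h₀ hs₀ A) Y.property ?_
      (isQuasiSeparatedMor_of_isSeparatedMor (diag_separated hτ))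
    rw [g.x_τ]
    exact isQuasiCompactMor_of_affineMor hX Y.property haff
  have hxr := g.representable_x h₀ hs₀ A
  obtain ⟨hI, -⟩ := isSchImage_iff_isCutOutBy hX V.property hxr hxqc
  obtain ⟨J, hJq, hJfg, hJle, hJt⟩ := Groth.Agent.S10035.exists_fg_ideal V hVqc hVqs (idealOfRep hxr) hI
    (g.EA h₀ A) (g.isAff_EA h₀ A) t fun z hz => (g.mem_ker_x_iff h₀ hs₀ A z).2 (ht z hz)
  obtain ⟨Z, i, hZ, hcut⟩ := exists_isCutOutBy V.property J hJq
  obtain ⟨k, hk⟩ := (factors_iff_le_idealOfRep V.property hcut hxr).2 hJle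
  obtain ⟨hi, hiJ⟩ := hcut
  refine ⟨⟨Z, hZ, i, hi, Groth.Agent.S10035.isFinitePresentationMor_of_cutOut V.property hZ ⟨hi, hiJ⟩
    (g.EA h₀ A).obj.hom (g.EA h₀ A).property (g.surjective_EA h₀ hs₀ A) (g.isAff_EA h₀ A)
    (hJfg (g.EA h₀ A) (g.isAff_EA h₀ A)), k, hk⟩, fun z hz => ?_⟩
  show z ∈ (idealOfRep hi.1).ideal _ _
  rw [hiJ]
  exact hJt hz

end ctx

/-- indices: a finite family of functions and relations -/
def Idx : Type u :=
  {p : Σ A : Finset (Kap hr E₀), Ideal Γ((g.EA h₀ A).obj.left.left, ⊤) // ∃ s : g.Sub p.1, s.ker h₀ = p.2}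

variable {g} {h₀}

/-- the family of an index -/
abbrev Idx.A (i : g.Idx h₀) : Finset (Kap hr E₀) := i.1.1

/-- the subspace of an index -/
def Idx.sub (i : g.Idx h₀) : g.Sub i.A := i.2.choose

theorem Idx.ker_sub (i : g.Idx h₀) : i.sub.ker h₀ = i.1.2 := i.2.choose_spec

theorem exists_idx (hs₀ : RepWith @Surjective E₀.obj.hom) {A : Finset (Kap hr E₀)} (s : g.Sub A) :
    ∃ (i : g.Idx h₀) (h : A ⊆ i.A), ∃ l, l ≫ s.ι = i.sub.ι ≫ g.tT h := by
  let i : g.Idx h₀ := ⟨⟨A, s.ker h₀⟩, s, rfl⟩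
  obtain ⟨l, hl⟩ := Sub.fac_of_ker_le h₀ hs₀ s i.sub (ge_of_eq i.ker_sub)
  exact ⟨i, subset_refl A, l, by rw [g.tT_refl A, Category.comp_id]; exact hl⟩

/-- the order -/
instance : Preorder (g.Idx h₀) where
  le i j := ∃ h : i.A ⊆ j.A, ∃ l, l ≫ i.sub.ι = j.sub.ι ≫ g.tT h
  le_refl i := ⟨subset_refl _, 𝟙 _, by rw [g.tT_refl]; exact (Category.id_comp _).trans (Category.comp_id _).symm⟩
  le_trans i j k := fun ⟨h, l, hl⟩ ⟨h', l', hl'⟩ => ⟨h.trans h', l' ≫ l, by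
    rw [← g.tT_comp h h', Category.assoc, hl, ← Category.assoc, hl', Category.assoc]⟩

theorem exists_above (hs₀ : RepWith @Surjective E₀.obj.hom) (i : g.Idx h₀) {B : Finset (Kap hr E₀)} (h : i.A ⊆ B)
    (s : g.Sub B) : ∃ j, i ≤ j ∧ ∃ (h' : B ⊆ j.A) (l : j.sub.Z ⟶ s.Z), l ≫ s.ι = j.sub.ι ≫ g.tT h' := by
  obtain ⟨s₁, l₁, hl₁⟩ := Sub.exists_pull h₀ hs₀ h i.sub
  obtain ⟨s₂, ⟨a, ha⟩, ⟨b, hb⟩⟩ := Sub.exists_inter h₀ hs₀ s₁ s
  obtain ⟨j, hj, l, hl⟩ := exists_idx hs₀ s₂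
  exact ⟨j, ⟨h.trans hj, l ≫ a ≫ l₁, by
    rw [Category.assoc, Category.assoc, hl₁, ← Category.assoc a, ha, ← Category.assoc, hl, Category.assoc,
      g.tT_comp h hj]⟩, hj, l ≫ b, by rw [Category.assoc, hb, hl]⟩

theorem isDirected_idx (hs₀ : RepWith @Surjective E₀.obj.hom) : IsDirected (g.Idx h₀) (· ≤ ·) := by
  classical
  refine ⟨fun i j => ?_⟩
  obtain ⟨s, l, hl⟩ := Sub.exists_pull h₀ hs₀ (Finset.subset_union_right (s₁ := i.A) (s₂ := j.A)) j.sub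
  obtain ⟨k, hik, h', m, hm⟩ := exists_above hs₀ i Finset.subset_union_left s
  exact ⟨k, hik, Finset.subset_union_right.trans h', m ≫ l, by
    rw [Category.assoc, hl, ← Category.assoc, hm, Category.assoc, g.tT_comp]⟩

/-- the transition maps -/
def Idx.lmap {i j : g.Idx h₀} (h : i ≤ j) : j.sub.Z ⟶ i.sub.Z := h.2.choose

theorem Idx.lmap_ι {i j : g.Idx h₀} (h : i ≤ j) : Idx.lmap h ≫ i.sub.ι = j.sub.ι ≫ g.tT h.1 := h.2.choose_spec

/-- the system -/
def sysD : (g.Idx h₀)ᵒᵖ ⥤ Sp S where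
  obj i := i.unop.sub.Z
  map φ := Idx.lmap (leOfHom φ.unop)
  map_id i := by
    rw [← cancel_mono i.unop.sub.ι, Idx.lmap_ι, g.tT_refl]
    exact (Category.comp_id _).trans (Category.id_comp _).symm
  map_comp {i j k} φ ψ := by
    rw [← cancel_mono k.unop.sub.ι, Category.assoc, Idx.lmap_ι, Idx.lmap_ι, reassoc_of% (Idx.lmap_ι (leOfHom φ.unop)),
      g.tT_comp]

/-- the projections to the base -/
def sysT : (sysD : (g.Idx h₀)ᵒᵖ ⥤ Sp S) ⟶ (Functor.const (g.Idx h₀)ᵒᵖ).obj Y.obj where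
  app i := i.unop.sub.ι ≫ g.τ i.unop.A
  naturality i j φ := by
    show Idx.lmap (leOfHom φ.unop) ≫ j.unop.sub.ι ≫ g.τ _ = (i.unop.sub.ι ≫ g.τ _) ≫ 𝟙 _
    rw [reassoc_of% (Idx.lmap_ι (leOfHom φ.unop)), g.tT_τ, Category.comp_id]

theorem k_lmap (hs₀ : RepWith @Surjective E₀.obj.hom) {i j : g.Idx h₀} (h : i ≤ j) :
    j.sub.k ≫ Idx.lmap h = i.sub.k := by
  rw [← cancel_mono i.sub.ι, Category.assoc, Idx.lmap_ι, ← Category.assoc, Sub.hk, Sub.hk, g.x_tT h₀ hs₀]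

end Gens

end Groth.Agent.AlgSpLib.VCart
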