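import Mathlib

/-!
Valuation rings with prescribed residue field extension, composite valuation rings and their
residual valuation rings.
-/

universe u

namespace Groth.Agent.AlgSpLib

open IsLocalRing

variable {L : Type u} [Field L]

theorem isUnit_valuationSubring_of_inv_mem (R : ValuationSubring L) {x : R} (hx : (x : L) ≠ 0)
    (h : (x : L)⁻¹ ∈ R) : IsUnit x :=
  IsUnit.of_mul_eq_one (⟨_, h⟩ : R) (Subtype.ext (mul_inv_cancel₀ hx))

/-- a local ring mapping to a field is dominated by a valuation ring whose residue field contains a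
prescribed extension of the residue field -/
theorem exists_valuation_residue_ext {O Ω : Type u} [CommRing O] [IsLocalRing O] [Field Ω]
    (θ : O →+* L) (g : O →+* Ω) [IsLocalHom g] :
    ∃ (L' : Type u) (_ : Field L') (ι : L →+* L') (R : ValuationSubring L')
      (h : ∀ o, ι (θ o) ∈ R) (π : Ω →+* ResidueField R),
      IsLocalHom ((ι.comp θ).codRestrict R.toSubring h) ∧
      ∀ o, π (g o) = residue R ⟨ι (θ o), h o⟩ := by
  classical
  let P := MvPolynomial Ω O
  let L' := FractionRing (MvPolynomial Ω L)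
  let ι : L →+* L' := (algebraMap (MvPolynomial Ω L) L').comp MvPolynomial.C
  let ev : P →+* Ω := MvPolynomial.eval₂Hom g id
  let 𝔮 : Ideal P := RingHom.ker ev
  have : 𝔮.IsPrime := RingHom.ker_isPrime ev
  let j : P →+* L' := (algebraMap (MvPolynomial Ω L) L').comp (MvPolynomial.map θ)
  have hj : ∀ s : 𝔮.primeCompl, IsUnit (j s) := by
    rintro ⟨s, hs⟩
    refine IsUnit.mk0 _ fun h => hs ?_
    have h0 : MvPolynomial.map θ s = 0 :=
      IsFractionRing.injective (MvPolynomial Ω L) L' (h.trans (map_zero _).symm)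
    show ev s = 0
    have hc : ∀ m, g (MvPolynomial.coeff m s) = 0 := fun m => by
      by_contra hne
      have hu : IsUnit (MvPolynomial.coeff m s) := (isUnit_map_iff g _).1 (IsUnit.mk0 _ hne)
      have h2 := congrArg (MvPolynomial.coeff m) h0
      rw [MvPolynomial.coeff_map, MvPolynomial.coeff_zero] at h2
      exact (hu.map θ).ne_zero h2
    show MvPolynomial.eval₂ g id s = 0
    rw [MvPolynomial.eval₂_eq]
    exact Finset.sum_eq_zero fun m _ => by simp [hc m]
  let Ql := Localization.AtPrime 𝔮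
  let jl : Ql →+* L' := IsLocalization.lift (M := 𝔮.primeCompl) hj
  obtain ⟨R, hR, hR'⟩ := exists_factor_valuationRing jl
  have hjl : ∀ o, jl (algebraMap P Ql (MvPolynomial.C o)) = ι (θ o) := fun o => by
    show IsLocalization.lift hj _ = _
    rw [IsLocalization.lift_eq]
    exact congrArg (algebraMap (MvPolynomial Ω L) L') (MvPolynomial.map_C θ o)
  have hjR : ∀ p, jl (algebraMap P Ql p) ∈ R := fun p => hR _
  let r : P →+* ResidueField R := (residue R).comp ((jl.codRestrict R.toSubring hR).comp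
    (algebraMap P Ql))
  have hker : ∀ p, ev p = 0 → r p = 0 := fun p hp => by
    show residue R _ = 0
    rw [residue_eq_zero_iff]
    intro hu
    have h1 : IsUnit (algebraMap P Ql p) := hR'.map_nonunit _ hu
    exact (IsLocalization.AtPrime.isUnit_to_map_iff Ql 𝔮 p).1 h1 hp
  have hev : Function.Surjective ev := fun ω => ⟨MvPolynomial.X ω, MvPolynomial.eval₂_X g id ω⟩
  let π : Ω →+* ResidueField R := ev.liftOfSurjective hev ⟨r, fun p hp => hker p hp⟩
  refine ⟨L', inferInstance, ι, R, fun o => hjl o ▸ hR _, π, ⟨fun o ho => ?_⟩, fun o => ?_⟩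
  · have h1 : IsUnit ((jl.codRestrict R.toSubring hR) (algebraMap P Ql (MvPolynomial.C o))) := by
      convert ho using 1
      exact Subtype.ext (hjl o)
    have h2 := hR'.map_nonunit _ h1
    have h3 := (IsLocalization.AtPrime.isUnit_to_map_iff Ql 𝔮 _).1 h2
    refine (isUnit_map_iff g o).1 (IsUnit.mk0 _ fun h => h3 ?_)
    exact (MvPolynomial.eval₂_C g id o).trans h
  · have h4 : ev (MvPolynomial.C o) = g o := MvPolynomial.eval₂_C g id o
    rw [← h4]
    show ev.liftOfSurjective hev ⟨r, _⟩ (ev _) = _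
    rw [RingHom.liftOfSurjective_comp_apply]
    exact congrArg (residue R) (Subtype.ext (hjl o))

/-- the composite of a valuation ring with a valuation ring of its residue field -/
noncomputable def composite (R : ValuationSubring L) (A : ValuationSubring (ResidueField R)) : ValuationSubring L where
  carrier := {x | ∃ h : x ∈ R, residue R ⟨x, h⟩ ∈ A}
  mul_mem' := by
    rintro x y ⟨hx, hx'⟩ ⟨hy, hy'⟩
    exact ⟨mul_mem hx hy, by
      rw [show (⟨x * y, mul_mem hx hy⟩ : R) = ⟨x, hx⟩ * ⟨y, hy⟩ from rfl, map_mul]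
      exact mul_mem hx' hy'⟩
  one_mem' := ⟨one_mem R, by
    rw [show (⟨1, one_mem R⟩ : R) = 1 from rfl, map_one]; exact one_mem A⟩
  add_mem' := by
    rintro x y ⟨hx, hx'⟩ ⟨hy, hy'⟩
    exact ⟨add_mem hx hy, by
      rw [show (⟨x + y, add_mem hx hy⟩ : R) = ⟨x, hx⟩ + ⟨y, hy⟩ from rfl, map_add]
      exact add_mem hx' hy'⟩
  zero_mem' := ⟨zero_mem R, by
    rw [show (⟨0, zero_mem R⟩ : R) = 0 from rfl, map_zero]; exact zero_mem A⟩
  neg_mem' := by
    rintro x ⟨hx, hx'⟩
    exact ⟨neg_mem hx, by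
      rw [show (⟨-x, neg_mem hx⟩ : R) = -⟨x, hx⟩ from rfl, map_neg]
      exact neg_mem hx'⟩
  mem_or_inv_mem' := by
    intro x
    by_cases hx : x ∈ R
    · rcases A.mem_or_inv_mem (residue R ⟨x, hx⟩) with h | h
      · exact Or.inl ⟨hx, h⟩
      · by_cases h0 : residue R ⟨x, hx⟩ = 0
        · exact Or.inl ⟨hx, h0 ▸ zero_mem A⟩
        · have hu : IsUnit (⟨x, hx⟩ : R) := (residue_ne_zero_iff_isUnit _).1 h0
          obtain ⟨w, hw⟩ := hu.exists_left_inv
          have hxw : x⁻¹ = (w : L) := by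
            refine (eq_inv_of_mul_eq_one_left ?_).symm
            exact congrArg Subtype.val hw
          refine Or.inr ⟨hxw ▸ w.2, ?_⟩
          have : residue R ⟨x⁻¹, hxw ▸ w.2⟩ = (residue R ⟨x, hx⟩)⁻¹ := by
            refine eq_inv_of_mul_eq_one_left ?_
            rw [← map_mul, show (⟨x⁻¹, hxw ▸ w.2⟩ : R) * ⟨x, hx⟩ = w * ⟨x, hx⟩ from
              Subtype.ext (by show x⁻¹ * x = (w : L) * x; rw [hxw]), hw, map_one]
          rw [this]; exact h
    · have hi := (R.mem_or_inv_mem x).resolve_left hx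
      refine Or.inr ⟨hi, ?_⟩
      have h0 : residue R ⟨x⁻¹, hi⟩ = 0 := by
        rw [residue_eq_zero_iff]
        intro hu
        obtain ⟨w, hw⟩ := hu.exists_left_inv
        have : (w : L) = x := (eq_inv_of_mul_eq_one_left (congrArg Subtype.val hw)).trans (inv_inv x)
        exact hx (this ▸ w.2)
      rw [h0]; exact zero_mem A

theorem composite_le (R : ValuationSubring L) (A : ValuationSubring (ResidueField R)) :
    composite R A ≤ R := fun _ h => h.1

theorem residue_mem_composite {R : ValuationSubring L} {A : ValuationSubring (ResidueField R)}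
    (x : composite R A) : residue R ⟨x, x.2.1⟩ ∈ A := x.2.2

theorem mem_composite {R : ValuationSubring L} {A : ValuationSubring (ResidueField R)} {x : L}
    (hx : x ∈ R) (h : residue R ⟨x, hx⟩ ∈ A) : x ∈ composite R A := ⟨hx, h⟩

/-- the valuation ring of the residue field cut out by a finer valuation ring -/
noncomputable def residual (V R : ValuationSubring L) (h : V ≤ R) : ValuationSubring (ResidueField R) where
  toSubring := ((residue R).comp (Subring.inclusion (show V.toSubring ≤ R.toSubring from h))).range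
  mem_or_inv_mem' := by
    intro z
    obtain ⟨⟨x, hx⟩, rfl⟩ := residue_surjective z
    rcases V.mem_or_inv_mem x with hv | hv
    · exact Or.inl ⟨⟨x, hv⟩, rfl⟩
    · refine Or.inr ⟨⟨x⁻¹, hv⟩, ?_⟩
      by_cases h0 : x = 0
      · subst h0
        show residue R ⟨0⁻¹, _⟩ = (residue R ⟨0, _⟩)⁻¹
        simp only [inv_zero, show (⟨0, hx⟩ : R) = 0 from rfl, map_zero]
      · refine eq_inv_of_mul_eq_one_left ?_
        show residue R ⟨x⁻¹, _⟩ * residue R ⟨x, hx⟩ = 1
        rw [← map_mul, show (⟨x⁻¹, h hv⟩ : R) * ⟨x, hx⟩ = 1 from Subtype.ext (inv_mul_cancel₀ h0),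
          map_one]

theorem residue_mem_residual {V R : ValuationSubring L} (h : V ≤ R) (x : V) :
    residue R ⟨x, h x.2⟩ ∈ residual V R h := ⟨x, rfl⟩

/-- extending a coarsening along an extension of valuation rings -/
theorem exists_coarsening {L' : Type u} [Field L'] (V R : ValuationSubring L) (hle : V ≤ R)
    (V' : ValuationSubring L') (ψ : L →+* L') (hmem : ∀ x : V, ψ x ∈ V')
    [hloc : IsLocalHom ((ψ.comp V.subtype).codRestrict V'.toSubring hmem)] :
    ∃ (R' : ValuationSubring L') (hR : ∀ x : R, ψ x ∈ R'), V' ≤ R' ∧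
      IsLocalHom ((ψ.comp R.subtype).codRestrict R'.toSubring hR) := by
  let T : Set L' := {z | ∃ s : V, (∀ hs : (s : L) ∈ R, IsUnit (⟨s, hs⟩ : R)) ∧ ψ s * z ∈ V'}
  have one : ∀ z ∈ V', z ∈ T := fun z hz => ⟨1, fun _ => isUnit_one, by simpa using hz⟩
  have hunit : ∀ (s t : V), (∀ hs : (s : L) ∈ R, IsUnit (⟨s, hs⟩ : R)) →
      (∀ ht : (t : L) ∈ R, IsUnit (⟨t, ht⟩ : R)) →
      ∀ hst : ((s * t : V) : L) ∈ R, IsUnit (⟨_, hst⟩ : R) := fun s t hs ht _ =>
    (hs (hle s.2)).mul (ht (hle t.2))
  let R' : ValuationSubring L' :=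
    { carrier := T
      mul_mem' := by
        rintro a b ⟨s, hs, ha⟩ ⟨t, ht, hb⟩
        refine ⟨s * t, hunit s t hs ht, ?_⟩
        have : ψ ↑(s * t) * (a * b) = ψ s * a * (ψ t * b) := by
          push_cast
          rw [map_mul]; ring
        rw [this]; exact mul_mem ha hb
      one_mem' := one 1 (one_mem _)
      add_mem' := by
        rintro a b ⟨s, hs, ha⟩ ⟨t, ht, hb⟩
        refine ⟨s * t, hunit s t hs ht, ?_⟩
        have : ψ ↑(s * t) * (a + b) = ψ t * (ψ s * a) + ψ s * (ψ t * b) := by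
          push_cast
          rw [map_mul]; ring
        rw [this]; exact add_mem (mul_mem (hmem t) ha) (mul_mem (hmem s) hb)
      zero_mem' := one 0 (zero_mem _)
      neg_mem' := by
        rintro a ⟨s, hs, ha⟩
        exact ⟨s, hs, by rw [mul_neg]; exact neg_mem ha⟩
      mem_or_inv_mem' := fun z => (V'.mem_or_inv_mem z).imp (one z) (one z⁻¹) }
  have hR : ∀ x : R, ψ x ∈ R' := by
    rintro ⟨x, hx⟩
    rcases V.mem_or_inv_mem x with hv | hv
    · exact one _ (hmem ⟨x, hv⟩)
    · by_cases h0 : x = 0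
      · exact one _ (by simp [h0])
      · refine ⟨⟨x⁻¹, hv⟩, fun hs => isUnit_valuationSubring_of_inv_mem R (inv_ne_zero h0)
          (by rw [inv_inv]; exact hx), ?_⟩
        show ψ x⁻¹ * ψ x ∈ V'
        rw [← map_mul, inv_mul_cancel₀ h0, map_one]
        exact one_mem V'
  refine ⟨R', hR, fun z hz => one z hz, ⟨?_⟩⟩
  rintro ⟨x, hx⟩ hu
  by_contra hnu
  have hxV : x ∈ V := by
    rcases V.mem_or_inv_mem x with hv | hv
    · exact hv
    · by_cases h0 : x = 0
      · exact h0 ▸ zero_mem V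
      · exact absurd (isUnit_valuationSubring_of_inv_mem R h0 (hle hv)) hnu
  obtain ⟨⟨w, s, hs, hsw⟩, hw⟩ := hu.exists_left_inv
  have hw' : w * ψ x = 1 := congrArg Subtype.val hw
  have hψx : ψ x ≠ 0 := fun h => by simp [h] at hw'
  -- `x / s` is a non-unit of `V` becoming a unit in `V'`
  have hsu := hs (hle s.2)
  obtain ⟨v, hv⟩ := hsu.exists_left_inv
  have hv' : (v : L) * s = 1 := congrArg Subtype.val hv
  have hmV : x * v ∈ V := by
    rcases V.mem_or_inv_mem (x * v) with h | h
    · exact h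
    · by_cases h0 : x * v = 0
      · exact h0 ▸ zero_mem V
      · refine absurd ?_ hnu
        refine IsUnit.of_mul_eq_one (⟨(v : L) * (x * v)⁻¹, mul_mem v.2 (hle h)⟩ : R)
          (Subtype.ext ?_)
        show x * ((v : L) * (x * v)⁻¹) = 1
        rw [← mul_assoc, mul_inv_cancel₀ h0]
  have h1 : ψ (x * v) * (ψ s * w) = 1 := by
    calc ψ (x * v) * (ψ s * w) = w * ψ x * ψ ((v : L) * s) := by
          rw [map_mul, map_mul]; ring
      _ = 1 := by rw [hw', hv', map_one, one_mul]
  have h2 : IsUnit (⟨x * v, hmV⟩ : V) := hloc.map_nonunit _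
    (IsUnit.of_mul_eq_one (⟨_, hsw⟩ : V') (Subtype.ext h1))
  refine hnu ?_
  have h3 : IsUnit (Subring.inclusion (show V.toSubring ≤ R.toSubring from hle) ⟨x * v, hmV⟩) :=
    h2.map _
  exact (IsUnit.mul_iff.1 (show IsUnit ((⟨x, hx⟩ : R) * v) from h3)).1

end Groth.Agent.AlgSpLib
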