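import Mathlib

/-!
Ring theory for descending a point from a valuation ring extension: closed subalgebras flat over a
valuation ring are determined by their generic fibres.
-/

universe u

namespace Groth.Agent.AlgSpLib

open TensorProduct Algebra

variable {A K : Type u} [CommRing A] [Field K] [Algebra A K]

/-- if `A` has fraction field `K` and `M ⟶ N` is injective with `N` a `K`-algebra, then so is
`K ⊗[A] M ⟶ N` -/
theorem productMap_injective [IsFractionRing A K] {M N : Type u} [CommRing M] [CommRing N]
    [Algebra A M] [Algebra A N] (fK : K →ₐ[A] N) (f : M →ₐ[A] N) (hf : Function.Injective f) :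
    Function.Injective (TensorProduct.productMap fK f) := by
  have den : ∀ x : K ⊗[A] M, ∃ (s : A) (m : M), s ∈ nonZeroDivisors A ∧
      (algebraMap A K s ⊗ₜ[A] (1 : M)) * x = (1 : K) ⊗ₜ m := by
    intro x
    induction x using TensorProduct.induction_on with
    | zero => exact ⟨1, 0, one_mem _, by simp⟩
    | tmul k m =>
      obtain ⟨⟨a, s⟩, ha⟩ := IsLocalization.surj (nonZeroDivisors A) k
      refine ⟨s, a • m, s.2, ?_⟩
      rw [Algebra.TensorProduct.tmul_mul_tmul, one_mul, mul_comm _ k, ha, ← mul_one (algebraMap A K a),
        ← Algebra.smul_def, TensorProduct.smul_tmul]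
    | add x y hx hy =>
      obtain ⟨s, m, hs, hm⟩ := hx
      obtain ⟨t, n, ht, hn⟩ := hy
      refine ⟨s * t, t • m + s • n, mul_mem hs ht, ?_⟩
      have e : algebraMap A K (s * t) ⊗ₜ[A] (1 : M) =
          (algebraMap A K s ⊗ₜ[A] (1 : M)) * (algebraMap A K t ⊗ₜ[A] (1 : M)) := by simp
      rw [mul_add, TensorProduct.tmul_add]
      congr 1
      · rw [e, mul_comm (algebraMap A K s ⊗ₜ[A] (1 : M)), mul_assoc, hm,
          Algebra.TensorProduct.tmul_mul_tmul, mul_one, one_mul, ← mul_one (algebraMap A K t),
          ← Algebra.smul_def, TensorProduct.smul_tmul]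
      · rw [e, mul_assoc, hn,
          Algebra.TensorProduct.tmul_mul_tmul, mul_one, one_mul, ← mul_one (algebraMap A K s),
          ← Algebra.smul_def, TensorProduct.smul_tmul]
  rw [injective_iff_map_eq_zero]
  intro x hx
  obtain ⟨s, m, hs, hm⟩ := den x
  have h1 : f m = 0 := by
    have := congrArg (TensorProduct.productMap fK f) hm
    rw [map_mul, hx, mul_zero] at this
    simpa using this.symm
  rw [hf (h1.trans (map_zero f).symm), TensorProduct.tmul_zero] at hm
  have hu : IsUnit (algebraMap A K s ⊗ₜ[A] (1 : M)) := by
    have : IsUnit (algebraMap A K s) := IsLocalization.map_units K ⟨s, hs⟩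
    exact this.map (Algebra.TensorProduct.includeLeft : K →ₐ[A] K ⊗[A] M)
  exact hu.mul_right_eq_zero.1 hm

theorem map_injective_of_flat {M M' N N' : Type u} [CommRing M] [CommRing M'] [CommRing N]
    [CommRing N'] [Algebra A M] [Algebra A M'] [Algebra A N] [Algebra A N'] [Module.Flat A M]
    [Module.Flat A N'] (f : M →ₐ[A] M') (g : N →ₐ[A] N') (hf : Function.Injective f)
    (hg : Function.Injective g) : Function.Injective (Algebra.TensorProduct.map f g) := by
  have h1 : Function.Injective (Algebra.TensorProduct.map (AlgHom.id A M) g) :=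
    Module.Flat.lTensor_preserves_injective_linearMap g.toLinearMap hg
  have h2 : Function.Injective (Algebra.TensorProduct.map f (AlgHom.id A N')) :=
    Module.Flat.rTensor_preserves_injective_linearMap f.toLinearMap hf
  have e : Algebra.TensorProduct.map f g = (Algebra.TensorProduct.map f (AlgHom.id A N')).comp
      (Algebra.TensorProduct.map (AlgHom.id A M) g) := by ext <;> simp
  rw [e]
  exact h2.comp h1

theorem flat_of_injective [IsDomain A] [ValuationRing A] {M N : Type u} [CommRing M] [CommRing N]
    [Algebra A M] [Algebra A N] [Module.Flat A N] (f : M →ₐ[A] N) (hf : Function.Injective f) :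
    Module.Flat A M := by
  rw [Module.Flat.flat_iff_torsion_eq_bot_of_isBezout, eq_bot_iff]
  intro m hm
  obtain ⟨a, ha⟩ := (Submodule.mem_torsion_iff m).1 hm
  have h1 : (f m) ∈ Submodule.torsion A N := (Submodule.mem_torsion_iff _).2 ⟨a, by
    show (a : A) • f m = 0
    rw [← map_smul, show (a : A) • m = 0 from ha, map_zero]⟩
  rw [Module.Flat.torsion_eq_bot, Submodule.mem_bot] at h1
  exact Submodule.mem_bot A |>.2 (hf (h1.trans (map_zero f).symm))

theorem flat_of_algHom_field [IsFractionRing A K] {N : Type u} [CommRing N] [Algebra A N]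
    (fK : K →ₐ[A] N) : Module.Flat A N := by
  algebraize [fK.toRingHom]
  have : IsScalarTower A K N := IsScalarTower.of_algebraMap_eq fun a => (fK.commutes a).symm
  have : Module.Flat A K := IsLocalization.flat K (nonZeroDivisors A)
  exact Module.Flat.trans A K N

/-- descent of a closed subscheme along an extension of valuation rings -/
theorem valuation_descent [IsDomain A] [ValuationRing A] [IsFractionRing A K] {A' B E F : Type u}
    [CommRing A'] [CommRing B] [CommRing E] [CommRing F] [Algebra A A'] [Algebra A B] [Algebra A E]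
    [Algebra A F] [Module.FaithfullyFlat A A'] [Module.Flat A F]
    (π : B →ₐ[A] E) (fK : K →ₐ[A] E) (q : A' ⊗[A] B →ₐ[A] F) (hq : Function.Surjective q)
    (ψ : F →ₐ[A] A' ⊗[A] E) (hψ : ψ.comp q = Algebra.TensorProduct.map (AlgHom.id A A') π)
    (χ : E →ₐ[A] F ⊗[A] K) (hχ : χ.comp π =
      Algebra.TensorProduct.includeLeft.comp (q.comp Algebra.TensorProduct.includeRight))
    (het : RingHom.Etale (q.comp Algebra.TensorProduct.includeLeft : A' →ₐ[A] F).toRingHom)
    (hsurj : Function.Surjective
      (PrimeSpectrum.comap (q.comp Algebra.TensorProduct.includeLeft : A' →ₐ[A] F).toRingHom)) :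
    (algebraMap A π.range).Etale ∧
      Function.Surjective (PrimeSpectrum.comap (algebraMap A π.range)) := by
  have : Module.Flat A E := flat_of_algHom_field fK
  have : Module.Flat A π.range := flat_of_injective π.range.val Subtype.val_injective
  -- the map `B → F` kills the kernel of `π`
  have hker : ∀ b, π b = 0 → q ((1 : A') ⊗ₜ b) = 0 := fun b hb => by
    have h1 : Function.Injective (Algebra.TensorProduct.includeLeft : F →ₐ[A] F ⊗[A] K) := by
      have h2 : Function.Injective (Algebra.TensorProduct.map (AlgHom.id A F) (Algebra.ofId A K)) :=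
        Module.Flat.lTensor_preserves_injective_linearMap _ (IsFractionRing.injective A K)
      have h3 : (Algebra.TensorProduct.includeLeft : F →ₐ[A] F ⊗[A] K) =
          (Algebra.TensorProduct.map (AlgHom.id A F) (Algebra.ofId A K)).comp
            (Algebra.TensorProduct.rid A A F).symm.toAlgHom := by ext; simp
      rw [h3]
      exact h2.comp (Algebra.TensorProduct.rid A A F).symm.injective
    have h4 := DFunLike.congr_fun hχ b
    simp only [AlgHom.comp_apply, hb, map_zero] at h4
    exact h1 (h4.symm.trans (map_zero _).symm)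
  let π' : B →ₐ[A] π.range := π.rangeRestrict
  have hπ' : Function.Surjective π' := π.rangeRestrict_surjective
  have hval : π.range.val.comp π' = π := AlgHom.ext fun b => rfl
  let g : π.range →ₐ[A] F := AlgHom.liftOfSurjective π' hπ'
    (q.comp Algebra.TensorProduct.includeRight) fun b hb => hker b (congrArg Subtype.val hb)
  have hg : g.comp π' = q.comp Algebra.TensorProduct.includeRight :=
    AlgHom.liftOfSurjective_comp _ _ _ _
  let G : A' ⊗[A] π.range →ₐ[A] F :=
    TensorProduct.productMap (q.comp Algebra.TensorProduct.includeLeft) g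
  have hG : G.comp (Algebra.TensorProduct.map (AlgHom.id A A') π') = q := by
    ext a
    · simp [G]
    · simpa [G, ← Algebra.TensorProduct.one_def] using DFunLike.congr_fun hg a
  have hGs : Function.Surjective G := fun y => by
    obtain ⟨x, rfl⟩ := hq y
    exact ⟨_, DFunLike.congr_fun hG x⟩
  have hGi : Function.Injective G := by
    have e : ψ.comp G = Algebra.TensorProduct.map (AlgHom.id A A') π.range.val := by
      refine AlgHom.cancel_right (Algebra.TensorProduct.map_surjective (AlgHom.id A A') π'
        Function.surjective_id hπ') |>.1 ?_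
      rw [AlgHom.comp_assoc, hG, hψ, ← Algebra.TensorProduct.map_comp, hval, AlgHom.id_comp]
    have h5 : Function.Injective (Algebra.TensorProduct.map (AlgHom.id A A') π.range.val) :=
      map_injective_of_flat _ _ (fun _ _ h => h) Subtype.val_injective
    rw [← e] at h5
    exact Function.Injective.of_comp h5
  let e : (A' ⊗[A] π.range) ≃+* F := RingEquiv.ofBijective G ⟨hGi, hGs⟩
  have he : (e.toRingHom).comp (algebraMap A' (A' ⊗[A] π.range)) =
      (q.comp Algebra.TensorProduct.includeLeft : A' →ₐ[A] F).toRingHom := by
    ext a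
    show G (a ⊗ₜ 1) = q (a ⊗ₜ 1)
    simp [G]
  refine ⟨?_, fun p => ?_⟩
  · have h6 : (algebraMap A' (A' ⊗[A] π.range)).Etale := by
      have h7 : algebraMap A' (A' ⊗[A] π.range) = e.symm.toRingHom.comp
          (q.comp Algebra.TensorProduct.includeLeft : A' →ₐ[A] F).toRingHom := by
        rw [← he, ← RingHom.comp_assoc]
        ext a
        simp
      rw [h7]
      exact RingHom.Etale.respectsIso.1 _ e.symm het
    rw [RingHom.etale_algebraMap] at h6 ⊢
    exact Algebra.Etale.of_etale_tensorProduct_of_faithfullyFlat (R := A) (S := π.range) A'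
  · obtain ⟨p', rfl⟩ := PrimeSpectrum.comap_surjective_of_faithfullyFlat (B := A') p
    obtain ⟨P, hP⟩ := hsurj p'
    refine ⟨PrimeSpectrum.comap g.toRingHom P, ?_⟩
    rw [← hP, ← PrimeSpectrum.comap_comp_apply, ← PrimeSpectrum.comap_comp_apply]
    exact congrArg (fun h => PrimeSpectrum.comap h P) (g.comp_algebraMap.trans
      (q.comp Algebra.TensorProduct.includeLeft : A' →ₐ[A] F).comp_algebraMap.symm)

end Groth.Agent.AlgSpLib
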