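import Groth.Agent.AlgSpLib.ValuativeExistence
import Groth.Agent.ValExtLib.Closure
import Mathlib.RingTheory.DedekindDomain.IntegralClosure
import Mathlib.RingTheory.DedekindDomain.Dvr
import Mathlib.RingTheory.Unramified.Field

/-!
Valuation rings through specializations; finite separable extensions in valuative squares.
-/

universe u

open CategoryTheory CategoryTheory.Limits AlgebraicGeometry AlgSp IsLocalRing Topology

set_option backward.isDefEq.respectTransparency.types false

namespace Groth.Agent.AlgSpLib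

/-- a field point extends to a valuation ring centred at a specialization -/
theorem exists_valuationSubring_of_specializes {W : Scheme.{u}} {Ω : Type u} [Field Ω]
    (t : Spec (CommRingCat.of Ω) ⟶ W) {w : W} (hsp : t (closedPoint Ω) ⤳ w) :
    ∃ (A' : ValuationSubring Ω) (k : Spec (CommRingCat.of A') ⟶ W),
      Spec.map (CommRingCat.ofHom A'.subtype) ≫ k = t ∧ k (closedPoint A') = w := by
  obtain ⟨A', hA, hA'⟩ := exists_factor_valuationRing
    (W.presheaf.stalkSpecializes hsp ≫ Scheme.stalkClosedPointTo t).hom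
  let β : W.presheaf.stalk w ⟶ .of A' := CommRingCat.ofHom (RingHom.codRestrict _ A'.toSubring hA)
  refine ⟨A', Spec.map β ≫ W.fromSpecStalk w, ?_, ?_⟩
  · have e : β ≫ CommRingCat.ofHom A'.subtype =
        W.presheaf.stalkSpecializes hsp ≫ Scheme.stalkClosedPointTo t := rfl
    rw [← Spec.map_comp_assoc, e, Spec.map_comp, Category.assoc,
      Scheme.SpecMap_stalkSpecializes_fromSpecStalk]
    exact Scheme.Spec_stalkClosedPointTo_fromSpecStalk t
  · show W.fromSpecStalk w (Spec.map β (closedPoint A')) = w
    have h4 : Spec.map β (closedPoint A') = closedPoint (W.presheaf.stalk w) :=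
      letI : IsLocalHom β.hom := hA'
      IsLocalRing.comap_closedPoint β.hom
    rw [h4, Scheme.fromSpecStalk_closedPoint]

theorem isLocalHom_of_closedPoint {A B : Type u} [CommRing A] [IsLocalRing A] [CommRing B]
    [IsLocalRing B] (φ : A →+* B)
    (h : Spec.map (CommRingCat.ofHom φ) (closedPoint B) = closedPoint A) : IsLocalHom φ :=
  ((IsLocalRing.local_hom_TFAE φ).out 0 4 rfl rfl).mpr (congrArg PrimeSpectrum.asIdeal h)

/-- points of an etale scheme over a field have finite separable residue fields -/
theorem exists_finite_separable_point {K : Type u} [Field K] {W : Scheme.{u}}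
    (π : W ⟶ Spec (CommRingCat.of K)) (hπ : Etale π) (z : W) :
    ∃ (Ω : Type u) (_ : Field Ω) (_ : Algebra K Ω) (t : Spec (CommRingCat.of Ω) ⟶ W),
      Module.Finite K Ω ∧ Algebra.IsSeparable K Ω ∧ t (closedPoint Ω) = z ∧
      t ≫ π = Spec.map (CommRingCat.ofHom (algebraMap K Ω)) := by
  obtain ⟨_, ⟨U, hU, rfl⟩, hz, -⟩ :=
    W.isBasis_affineOpens.exists_subset_of_mem_open (Set.mem_univ z) isOpen_univ
  let U : W.Opens := U
  let D : Type u := Γ(W, U)
  obtain ⟨φ, hφ⟩ := Spec.map_surjective (IsAffineOpen.fromSpec hU ≫ π)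
  have he : Etale (Spec.map φ) := by
    rw [hφ]
    exact (inferInstance : Etale (IsAffineOpen.fromSpec hU ≫ π))
  have hφe : φ.hom.Etale := HasRingHomProperty.Spec_iff (P := @Etale).1 he
  algebraize [(φ.hom : K →+* D)]
  have : Algebra.Etale K D := RingHom.etale_algebraMap.1 hφe
  have : Module.Finite K D := Algebra.FormallyUnramified.finite_of_free K D
  have : IsArtinianRing D := IsArtinianRing.of_finite K D
  let Q : PrimeSpectrum D := hU.primeIdealOf ⟨z, hz⟩
  have : Q.asIdeal.IsMaximal := IsArtinianRing.isMaximal_of_isPrime Q.asIdeal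
  let : Field (D ⧸ Q.asIdeal) := Ideal.Quotient.field Q.asIdeal
  have : Algebra.FormallyUnramified K (D ⧸ Q.asIdeal) :=
    Algebra.FormallyUnramified.of_surjective (IsScalarTower.toAlgHom K D (D ⧸ Q.asIdeal))
      Ideal.Quotient.mk_surjective
  refine ⟨D ⧸ Q.asIdeal, inferInstance, inferInstance,
    Spec.map (CommRingCat.ofHom (Ideal.Quotient.mk Q.asIdeal)) ≫ IsAffineOpen.fromSpec hU,
    inferInstance, Algebra.FormallyUnramified.isSeparable K _, ?_, ?_⟩
  · show IsAffineOpen.fromSpec hU (Spec.map (CommRingCat.ofHom (Ideal.Quotient.mk Q.asIdeal))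
      (closedPoint (D ⧸ Q.asIdeal))) = z
    have e : Spec.map (CommRingCat.ofHom (Ideal.Quotient.mk Q.asIdeal))
        (closedPoint (D ⧸ Q.asIdeal)) = Q := by
      refine PrimeSpectrum.ext ?_
      show (maximalIdeal (D ⧸ Q.asIdeal)).comap (Ideal.Quotient.mk Q.asIdeal) = _
      rw [IsLocalRing.maximalIdeal_eq_bot, ← RingHom.ker_eq_comap_bot, Ideal.mk_ker]
    rw [e]
    exact hU.fromSpec_primeIdealOf ⟨z, hz⟩
  · rw [Category.assoc, ← hφ, ← Spec.map_comp]
    rfl

/-- a valuation ring of a finite separable extension dominating a discrete valuation ring is a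
discrete valuation ring -/
theorem isDiscreteValuationRing_of_dominating {A : Type u} [CommRing A] [IsDomain A]
    [IsDiscreteValuationRing A] (K : Type u) [Field K] [Algebra A K] [IsFractionRing A K]
    {Ω : Type u} [Field Ω] [Algebra K Ω] [Algebra A Ω] [IsScalarTower A K Ω]
    [Module.Finite K Ω] [Algebra.IsSeparable K Ω] (A' : ValuationSubring Ω) [Algebra A A']
    [IsScalarTower A A' Ω] (hloc : IsLocalHom (algebraMap A A')) :
    IsDiscreteValuationRing A' := by
  let B : Subalgebra A Ω := integralClosure A Ω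
  have : IsDedekindDomain B := integralClosure.isDedekindDomain A K Ω
  have : IsFractionRing B Ω := integralClosure.isFractionRing_of_finite_extension K Ω
  have hAA : ∀ a, algebraMap A Ω a ∈ A' := fun a => by
    rw [IsScalarTower.algebraMap_apply A A' Ω]
    exact (algebraMap A A' a).2
  have hB : ∀ b : B, (b : Ω) ∈ A' := fun b =>
    Groth.Agent.ValExtLib.mem_valuationSubring_of_isIntegral A' hAA b.2
  let ι : B →+* A' := B.toSubring.subtype.codRestrict A'.toSubring hB
  let q : Ideal B := (maximalIdeal A').comap ι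
  have hq : q.IsPrime := Ideal.IsPrime.comap ι
  have hAK : Function.Injective (algebraMap A Ω) := by
    rw [IsScalarTower.algebraMap_eq A K Ω]
    exact (algebraMap K Ω).injective.comp (IsFractionRing.injective A K)
  obtain ⟨ϖ, hϖ⟩ := IsDiscreteValuationRing.exists_irreducible A
  have hq0 : q ≠ ⊥ := fun h => by
    have h1 : algebraMap A B ϖ ∈ q := by
      show ι (algebraMap A B ϖ) ∈ maximalIdeal A'
      have e : ι (algebraMap A B ϖ) = algebraMap A A' ϖ := Subtype.ext (by
        show algebraMap A Ω ϖ = _
        exact IsScalarTower.algebraMap_apply A A' Ω ϖ)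
      rw [e]
      exact (mem_maximalIdeal _).2 fun hu => hϖ.not_isUnit (hloc.map_nonunit ϖ hu)
    rw [h, Submodule.mem_bot] at h1
    exact hϖ.ne_zero (hAK ((congrArg Subtype.val h1).trans (map_zero _).symm))
  let Bq := Localization.AtPrime q
  have : IsDiscreteValuationRing Bq :=
    IsLocalization.AtPrime.isDiscreteValuationRing_of_dedekind_domain B hq0 Bq
  have hunit : ∀ s : q.primeCompl, IsUnit (ι s) := fun s => by
    by_contra hs
    exact s.2 ((mem_maximalIdeal _).2 hs)
  let θ : Bq →+* A' := IsLocalization.lift hunit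
  have hsurj : Function.Surjective θ := fun x => by
    obtain ⟨a, b, hb, hab⟩ := IsFractionRing.div_surjective B (x : Ω)
    obtain ⟨n, hn⟩ | ⟨n, hn⟩ := ValuationRing.dvd_total (algebraMap B Bq b) (algebraMap B Bq a)
    · refine ⟨n, Subtype.ext ?_⟩
      have e := congrArg (fun y => (θ y : Ω)) hn
      simp only [map_mul, MulMemClass.coe_mul, θ, IsLocalization.lift_eq] at e
      have hb0 : (b : Ω) ≠ 0 := fun h0 => nonZeroDivisors.ne_zero hb (Subtype.ext h0)
      show (θ n : Ω) = x
      rw [← hab]
      exact (eq_div_iff hb0).2 (by rw [mul_comm]; exact e.symm)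
    · -- `x⁻¹` is integral at `q`, hence a unit there
      have e := congrArg (fun y => (θ y : Ω)) hn
      simp only [map_mul, MulMemClass.coe_mul, θ, IsLocalization.lift_eq] at e
      have hb0 : (b : Ω) ≠ 0 := fun h0 => nonZeroDivisors.ne_zero hb (Subtype.ext h0)
      have e2 : θ n * x = 1 := Subtype.ext (by
        show (θ n : Ω) * (x : Ω) = 1
        rw [← hab]
        show (θ n : Ω) * ((a : Ω) / (b : Ω)) = 1
        rw [mul_div_assoc', div_eq_one_iff_eq hb0]
        rw [mul_comm]
        exact e.symm)
      have hun : IsUnit n := by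
        by_contra hnu
        have h1 : n ∈ maximalIdeal Bq := (mem_maximalIdeal _).2 hnu
        obtain ⟨c, s, rfl⟩ := IsLocalization.exists_mk'_eq q.primeCompl n
        replace h1 := (IsLocalization.AtPrime.mk'_mem_maximal_iff Bq q c s).1 h1
        have h2 : θ (IsLocalization.mk' Bq c s) * ι s = ι c := by
          rw [← IsLocalization.lift_eq (S := Bq) hunit (s : B), ← map_mul,
            IsLocalization.mk'_spec, IsLocalization.lift_eq]
        have h3 : IsUnit (ι c) := by
          rw [← h2]
          exact (IsUnit.of_mul_eq_one x e2).mul (hunit s)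
        exact (mem_maximalIdeal _).1 h1 h3
      obtain ⟨v, rfl⟩ := hun
      refine ⟨↑v⁻¹, ?_⟩
      calc θ ↑v⁻¹ = θ ↑v⁻¹ * (θ ↑v * x) := by rw [e2, mul_one]
        _ = x := by rw [← mul_assoc, ← map_mul, Units.inv_mul, map_one, one_mul]
  have hinj : Function.Injective θ := IsLocalization.lift_injective_iff hunit |>.mpr fun a b =>
    ⟨fun h => congrArg ι (IsLocalization.injective Bq q.primeCompl_le_nonZeroDivisors h),
      fun h => congrArg _ (Subtype.ext (congrArg Subtype.val h :))⟩
  exact IsDiscreteValuationRing.RingEquivClass.isDiscreteValuationRing (RingEquiv.ofBijective θ ⟨hinj, hsurj⟩)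

variable {S : Scheme.{u}} {P : Sp S}

/-- a lift over a finite separable extension from a specialization on an etale chart -/
theorem exists_finite_separable_lift (hP : IsAlgSpace P) {A : Type u} [CommRing A] [IsDomain A]
    [ValuationRing A] {K : Type u} [Field K] [Algebra A K] [IsFractionRing A K]
    {str : Spec (CommRingCat.of A) ⟶ S} (p : P ⟶ (yon S).obj (Over.mk str))
    (σ : (yon S).obj (specOver str K) ⟶ P) (hσ : σ ≫ p = (yon S).map (specHom str K))
    {C : Type u} [CommRing C] [Algebra A C] (aC : (yon S).obj (specOver str C) ⟶ P)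
    (hi : aC ≫ p = (yon S).map (specHom str C)) (haC : RepWith @Etale aC)
    {u' u : ↥(specOver str C).left} (hu' : Points.ofPt aC u' = ptOfHom σ) (hsp : u' ⤳ u)
    (hu : (specHom str C).left u = closedPoint A) :
    ∃ (Ω : Type u) (_ : Field Ω) (_ : Algebra A Ω) (_ : Algebra K Ω) (_ : IsScalarTower A K Ω)
      (A' : ValuationSubring Ω) (_ : Algebra A A') (_ : IsScalarTower A A' Ω)
      (l : (yon S).obj (specOver str A') ⟶ P),
      Module.Finite K Ω ∧ Algebra.IsSeparable K Ω ∧ IsLocalHom (algebraMap A A') ∧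
      l ≫ p = (yon S).map (specHom str A') ∧
      (yon S).map (specMap str (IsScalarTower.toAlgHom A A' Ω)) ≫ l =
        (yon S).map (specMap str (IsScalarTower.toAlgHom A K Ω)) ≫ σ := by
  have hr := hP.representable_from_yon aC
  have sq := hr.isPullback σ
  obtain ⟨f, hf⟩ := (yon S).map_surjective (hr.fst σ)
  rw [← hf] at sq
  have he : Etale (hr.snd σ).left := haC.property_snd σ
  obtain ⟨z, hz, -⟩ := (ofPt_eq_ofPt_iff sq u' (closedPoint K)).1
    (hu'.trans (ofPt_eq_of_field σ _).symm)
  obtain ⟨Ω, _, _, t, hfin, hsep, htz, htK⟩ := exists_finite_separable_point (hr.snd σ).left he z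
  let : Algebra A Ω := ((algebraMap K Ω).comp (algebraMap A K)).toAlgebra
  have : IsScalarTower A K Ω := IsScalarTower.of_algebraMap_eq fun _ => rfl
  have hw : t ≫ (hr.pullback σ).hom = Spec.map (CommRingCat.ofHom (algebraMap A Ω)) ≫ str := by
    rw [← Over.w (hr.snd σ), ← Category.assoc, htK]
    exact (Spec.map_comp_assoc _ _ _).symm
  let tW : specOver str Ω ⟶ hr.pullback σ := Over.homMk t hw
  have hψ : tW ≫ hr.snd σ = specMap str (IsScalarTower.toAlgHom A K Ω) := Over.OverMorphism.ext htK
  obtain ⟨tC, htC', htC⟩ : ∃ tC : specOver str Ω ⟶ specOver str C,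
      tC.left (closedPoint Ω) = u' ∧
      (yon S).map tC ≫ aC = (yon S).map (specMap str (IsScalarTower.toAlgHom A K Ω)) ≫ σ := by
    refine ⟨tW ≫ f, ?_, ?_⟩
    · show f.left (t (closedPoint Ω)) = u'
      rw [htz, hz]
    · rw [Functor.map_comp, Category.assoc, sq.w, ← Functor.map_comp_assoc, hψ]
  obtain ⟨g, rfl⟩ := exists_specMap str tC ((yon S).map_injective (by
    rw [Functor.map_comp, ← hi, ← Category.assoc, htC, Category.assoc, hσ, ← Functor.map_comp,
      specMap_comp_specHom]))
  obtain ⟨A', k, hk, hkc⟩ := exists_valuationSubring_of_specializes (specMap str g).left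
    (w := u) (by rw [htC']; exact hsp)
  obtain ⟨ρ₀, rfl⟩ := Spec.map_surjective k
  have hρ : ∀ c, (ρ₀.hom c : Ω) = g c := fun c => by
    have h := hk
    rw [← Spec.map_comp] at h
    exact RingHom.congr_fun (congrArg CommRingCat.Hom.hom (Spec.map_injective h)) c
  let : Algebra A A' := (ρ₀.hom.comp (algebraMap A C)).toAlgebra
  have : IsScalarTower A A' Ω := IsScalarTower.of_algebraMap_eq fun a =>
    ((hρ (algebraMap A C a)).trans (g.commutes a)).symm
  let ρ : C →ₐ[A] A' := { ρ₀.hom with commutes' := fun _ => rfl }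
  have hloc : IsLocalHom (algebraMap A A') := by
    refine isLocalHom_of_closedPoint _ ?_
    show Spec.map (CommRingCat.ofHom (algebraMap A C)) (Spec.map ρ₀ (closedPoint A')) = _
    rw [hkc]
    exact hu
  refine ⟨Ω, inferInstance, inferInstance, inferInstance, inferInstance, A', inferInstance,
    inferInstance, (yon S).map (specMap str ρ) ≫ aC, hfin, hsep, hloc, ?_, ?_⟩
  · rw [Category.assoc, hi, ← Functor.map_comp, specMap_comp_specHom]
  · rw [← Functor.map_comp_assoc, ← specMap_comp,
      show (IsScalarTower.toAlgHom A A' Ω).comp ρ = g from AlgHom.ext hρ]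
    exact htC

end Groth.Agent.AlgSpLib
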