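import Groth.Agent.AlgSpLib.ValuationDescent

/-!
Formal properties of the valuative criteria for morphisms of algebraic spaces.
-/

universe u

open CategoryTheory CategoryTheory.Limits AlgebraicGeometry AlgSp

set_option backward.isDefEq.respectTransparency.types false

namespace Groth.Agent.AlgSpLib

variable {S : Scheme.{u}} {F G H F' G' : Sp S}

/-- transport of the structure map of a spectrum -/
noncomputable def respec {A : Type u} [CommRing A] {s t : Spec (CommRingCat.of A) ⟶ S} (h : s = t) :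
    Over.mk s ⟶ Over.mk t :=
  Over.homMk (𝟙 _) (by
    show 𝟙 _ ≫ t = s
    rw [Category.id_comp, h])

theorem psi_w {A K A' K' : Type u} [CommRing A] [Field K] [Algebra A K] [CommRing A'] [CommRing K']
    [Algebra A' K'] (str : Spec (CommRingCat.of A) ⟶ S) {φ : A →+* A'} {ψ : K →+* K'}
    (hc : (algebraMap A' K').comp φ = ψ.comp (algebraMap A K)) :
    Spec.map (CommRingCat.ofHom ψ) ≫ Spec.map (CommRingCat.ofHom (algebraMap A K)) ≫ str =
      Spec.map (CommRingCat.ofHom (algebraMap A' K')) ≫ Spec.map (CommRingCat.ofHom φ) ≫ str := by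
  rw [← Spec.map_comp_assoc, ← Spec.map_comp_assoc, ← CommRingCat.ofHom_comp,
    ← CommRingCat.ofHom_comp, hc]

/-- the existence part of the valuative criterion, unbundled -/
theorem existVC_apply {f : F ⟶ G} (h : ExistVC f) {A : Type u} [CommRing A] [IsDomain A]
    [ValuationRing A] {K : Type u} [Field K] [Algebra A K] [IsFractionRing A K]
    (str : Spec (CommRingCat.of A) ⟶ S)
    (top : (yon S).obj (Over.mk (Spec.map (CommRingCat.ofHom (algebraMap A K)) ≫ str)) ⟶ F)
    (bot : (yon S).obj (Over.mk str) ⟶ G)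
    (comm : top ≫ f = (yon S).map (Over.homMk (Spec.map (CommRingCat.ofHom (algebraMap A K))) rfl :
      Over.mk (Spec.map (CommRingCat.ofHom (algebraMap A K)) ≫ str) ⟶ Over.mk str) ≫ bot) :
    ∃ (A' : Type u) (_ : CommRing A') (_ : IsDomain A') (_ : ValuationRing A') (K' : Type u)
      (_ : Field K') (_ : Algebra A' K') (_ : IsFractionRing A' K') (φ : A →+* A') (ψ : K →+* K')
      (hc : (algebraMap A' K').comp φ = ψ.comp (algebraMap A K)) (_ : IsLocalHom φ)
      (l : (yon S).obj (Over.mk (Spec.map (CommRingCat.ofHom φ) ≫ str)) ⟶ F),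
      (yon S).map (Over.homMk (Spec.map (CommRingCat.ofHom (algebraMap A' K'))) rfl :
        Over.mk (Spec.map (CommRingCat.ofHom (algebraMap A' K')) ≫
          Spec.map (CommRingCat.ofHom φ) ≫ str) ⟶ Over.mk (Spec.map (CommRingCat.ofHom φ) ≫ str)) ≫ l =
        (yon S).map (Over.homMk (Spec.map (CommRingCat.ofHom ψ)) (psi_w str hc) :
          Over.mk (Spec.map (CommRingCat.ofHom (algebraMap A' K')) ≫
            Spec.map (CommRingCat.ofHom φ) ≫ str) ⟶
          Over.mk (Spec.map (CommRingCat.ofHom (algebraMap A K)) ≫ str)) ≫ top ∧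
      l ≫ f = (yon S).map (Over.homMk (Spec.map (CommRingCat.ofHom φ)) rfl :
        Over.mk (Spec.map (CommRingCat.ofHom φ) ≫ str) ⟶ Over.mk str) ≫ bot := by
  obtain ⟨e, l, h1, h2⟩ := h { A := A, K := K, str := str, top := top, bot := bot, comm := comm }
  exact ⟨e.A', e.commRing, e.isDomain, e.valuationRing, e.K', e.field, e.algebra, e.isFractionRing,
    e.φ, e.ψ, e.comm, e.isLocalHom, l, h1, h2⟩

theorem uniqVC_of_isSeparatedMor (hF : IsAlgSpace F) (hG : IsAlgSpace G) {f : F ⟶ G}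
    (hf : IsSeparatedMor f) : UniqVC f := by
  intro sq l l' h1 h2 h1' h2'
  have sqP := IsPullback.of_hasPullback f sq.bot
  have hp := isSeparatedMor_of_isPullback sqP hf
  obtain ⟨m, hm₁, hm₂⟩ := sqP.exists_lift l (𝟙 _) (by rw [h2, Category.id_comp])
  obtain ⟨m', hm₁', hm₂'⟩ := sqP.exists_lift l' (𝟙 _) (by rw [h2', Category.id_comp])
  have hid : IsIso (specHom sq.str sq.A) := by
    have : IsIso ((Over.forget S).map (specHom sq.str sq.A)) := by
      show IsIso (Spec.map (CommRingCat.ofHom (RingHom.id sq.A)))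
      rw [CommRingCat.ofHom_id, Spec.map_id]
      infer_instance
    exact isIso_of_reflects_iso _ (Over.forget S)
  have key : (yon S).map (specHom sq.str sq.A) ≫ m = (yon S).map (specHom sq.str sq.A) ≫ m' := by
    refine hom_ext_of_injective sq.str _ hp (Algebra.ofId sq.A sq.K)
      (IsFractionRing.injective sq.A sq.K) _ _ ?_ ?_
    · rw [Category.assoc, Category.assoc, hm₂, hm₂']
    · rw [← Functor.map_comp_assoc, ← Functor.map_comp_assoc, specMap_comp_specHom]
      refine sqP.hom_ext ?_ ?_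
      · rw [Category.assoc, Category.assoc, hm₁, hm₁']
        exact h1.trans h1'.symm
      · rw [Category.assoc, Category.assoc, hm₂, hm₂']
  rw [cancel_epi] at key
  rw [← hm₁, ← hm₁', key]

theorem comm_push {A B C D : Sp S} {t : A ⟶ F'} {f' : F' ⟶ B} {fst : F' ⟶ C} {f : C ⟶ D} {g : B ⟶ D}
    (hw : fst ≫ f = f' ≫ g) {b : A ⟶ B} (h : t ≫ f' = b) : (t ≫ fst) ≫ f = b ≫ g := by
  rw [Category.assoc, hw, ← Category.assoc, h]

theorem uniqVC_of_isPullback {f : F ⟶ G} {g : G' ⟶ G} {fst : F' ⟶ F} {f' : F' ⟶ G'}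
    (sqP : IsPullback fst f' f g) (h : UniqVC f) : UniqVC f' := by
  intro sq l l' h1 h2 h1' h2'
  have e := h
    { A := sq.A, K := sq.K, str := sq.str, top := sq.top ≫ fst, bot := sq.bot ≫ g,
      comm := (comm_push sqP.w sq.comm).trans (Category.assoc _ _ _) }
    (l ≫ fst) (l' ≫ fst) ((Category.assoc _ _ _).symm.trans (congrArg (· ≫ fst) h1))
    (comm_push sqP.w h2)
    ((Category.assoc _ _ _).symm.trans (congrArg (· ≫ fst) h1'))
    (comm_push sqP.w h2')
  exact sqP.hom_ext e (h2.trans h2'.symm)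

theorem existVC_of_isPullback {f : F ⟶ G} {g : G' ⟶ G} {fst : F' ⟶ F} {f' : F' ⟶ G'}
    (sqP : IsPullback fst f' f g) (h : ExistVC f) : ExistVC f' := by
  intro sq
  obtain ⟨A', _, _, _, K', _, _, _, φ, ψ, hc, hloc, l, h1, h2⟩ :=
    existVC_apply h sq.str (sq.top ≫ fst) (sq.bot ≫ g)
      ((comm_push sqP.w sq.comm).trans (Category.assoc _ _ _))
  obtain ⟨m, hm₁, hm₂⟩ := sqP.exists_lift l
    ((yon S).map (Over.homMk (Spec.map (CommRingCat.ofHom φ)) rfl :
      Over.mk (Spec.map (CommRingCat.ofHom φ) ≫ sq.str) ⟶ sq.ptA) ≫ sq.bot)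
    (h2.trans (Category.assoc _ _ _).symm)
  refine ⟨{ A' := A', K' := K', φ := φ, ψ := ψ, comm := hc, isLocalHom := hloc }, m,
    sqP.hom_ext ?_ ?_, hm₂⟩
  · rw [Category.assoc, hm₁, Category.assoc]
    exact h1
  · rw [Category.assoc, hm₂, Category.assoc, sq.comm, ← Functor.map_comp_assoc,
      ← Functor.map_comp_assoc]
    congr 2
    refine Over.OverMorphism.ext ?_
    show Spec.map _ ≫ Spec.map _ = Spec.map _ ≫ Spec.map _
    rw [← Spec.map_comp, ← Spec.map_comp, ← CommRingCat.ofHom_comp, ← CommRingCat.ofHom_comp, hc]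

theorem uniqVC_comp {f : F ⟶ G} {g : G ⟶ H} (hf : UniqVC f) (hg : UniqVC g) : UniqVC (f ≫ g) := by
  intro sq l l' h1 h2 h1' h2'
  have e : l ≫ f = l' ≫ f := hg
    { A := sq.A, K := sq.K, str := sq.str, top := sq.top ≫ f, bot := sq.bot,
      comm := (Category.assoc _ _ _).trans sq.comm }
    (l ≫ f) (l' ≫ f) ((Category.assoc _ _ _).symm.trans (congrArg (· ≫ f) h1))
    ((Category.assoc _ _ _).trans h2) ((Category.assoc _ _ _).symm.trans (congrArg (· ≫ f) h1'))
    ((Category.assoc _ _ _).trans h2')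
  exact hf
    { A := sq.A, K := sq.K, str := sq.str, top := sq.top, bot := l ≫ f,
      comm := (congrArg (· ≫ f) h1.symm).trans (Category.assoc _ _ _) }
    l l' h1 rfl h1' e.symm

/-- introduction of a dotted arrow after extension, up to the structure map -/
theorem hasLiftExt_mk {f : F ⟶ G} (sq : ValSq f) (A' : Type u) [CommRing A'] [IsDomain A']
    [ValuationRing A'] (K' : Type u) [Field K'] [Algebra A' K'] [IsFractionRing A' K']
    (φ : sq.A →+* A') (ψ : sq.K →+* K')
    (hc : (algebraMap A' K').comp φ = ψ.comp (algebraMap sq.A sq.K)) (hloc : IsLocalHom φ)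
    (t : Spec (CommRingCat.of A') ⟶ S) (ht : Spec.map (CommRingCat.ofHom φ) ≫ sq.str = t)
    (l : (yon S).obj (Over.mk t) ⟶ F)
    (h1 : (yon S).map (Over.homMk (Spec.map (CommRingCat.ofHom (algebraMap A' K'))) rfl :
        Over.mk (Spec.map (CommRingCat.ofHom (algebraMap A' K')) ≫ t) ⟶ Over.mk t) ≫ l =
      (yon S).map (Over.homMk (Spec.map (CommRingCat.ofHom ψ))
        ((psi_w sq.str hc).trans (congrArg (_ ≫ ·) ht)) :
        Over.mk (Spec.map (CommRingCat.ofHom (algebraMap A' K')) ≫ t) ⟶ sq.ptK) ≫ sq.top)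
    (h2 : l ≫ f = (yon S).map (Over.homMk (Spec.map (CommRingCat.ofHom φ)) ht :
        Over.mk t ⟶ sq.ptA) ≫ sq.bot) : sq.HasLiftExt := by
  subst ht
  exact ⟨{ A' := A', K' := K', φ := φ, ψ := ψ, comm := hc, isLocalHom := hloc }, l, h1, h2⟩

theorem existVC_comp {f : F ⟶ G} {g : G ⟶ H} (hf : ExistVC f) (hg : ExistVC g) :
    ExistVC (f ≫ g) := by
  intro sq
  obtain ⟨A₁, _, _, _, K₁, _, _, _, φ₁, ψ₁, hc₁, hloc₁, l₁, h1, h2⟩ :=
    existVC_apply hg sq.str (sq.top ≫ f) sq.bot ((Category.assoc _ _ _).trans sq.comm)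
  obtain ⟨A₂, _, _, _, K₂, _, _, _, φ₂, ψ₂, hc₂, hloc₂, l₂, h3, h4⟩ :=
    existVC_apply hf (Spec.map (CommRingCat.ofHom φ₁) ≫ sq.str)
      ((yon S).map (Over.homMk (Spec.map (CommRingCat.ofHom ψ₁)) (psi_w sq.str hc₁) :
        Over.mk (Spec.map (CommRingCat.ofHom (algebraMap A₁ K₁)) ≫
          Spec.map (CommRingCat.ofHom φ₁) ≫ sq.str) ⟶ sq.ptK) ≫ sq.top) l₁
      ((Category.assoc _ _ _).trans h1.symm)
  refine hasLiftExt_mk sq A₂ K₂ (φ₂.comp φ₁) (ψ₂.comp ψ₁)
    (RingHom.ext fun x => (RingHom.congr_fun hc₂ (φ₁ x)).trans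
      (congrArg ψ₂ (RingHom.congr_fun hc₁ x)))
    ⟨fun x hx => hloc₁.map_nonunit x (hloc₂.map_nonunit _ hx)⟩
    (Spec.map (CommRingCat.ofHom φ₂) ≫ Spec.map (CommRingCat.ofHom φ₁) ≫ sq.str)
    (by rw [CommRingCat.ofHom_comp, Spec.map_comp, Category.assoc]) l₂ ?_ ?_
  · rw [h3, ← Functor.map_comp_assoc]
    refine congrArg (fun k => (yon S).map k ≫ sq.top) (Over.OverMorphism.ext ?_)
    exact (Spec.map_comp _ _).symm
  · rw [reassoc_of% h4, h2, ← Functor.map_comp_assoc]
    refine congrArg (fun k => (yon S).map k ≫ sq.bot) (Over.OverMorphism.ext ?_)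
    exact (Spec.map_comp _ _).symm

theorem existVC_of_existVCStrict {f : F ⟶ G} (h : ExistVCStrict f) : ExistVC f := by
  intro sq
  obtain ⟨l, h1, h2⟩ := h sq
  refine hasLiftExt_mk sq sq.A sq.K (RingHom.id _) (RingHom.id _) rfl ⟨fun _ h => h⟩ sq.str
    (by rw [CommRingCat.ofHom_id, Spec.map_id, Category.id_comp]) l ?_ ?_
  · refine h1.trans ?_
    conv_lhs => rw [← Category.id_comp sq.top, ← (yon S).map_id]
    refine congrArg (fun k => (yon S).map k ≫ sq.top) (Over.OverMorphism.ext ?_)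
    exact (Spec.map_id _).symm
  · refine h2.trans ?_
    conv_lhs => rw [← Category.id_comp sq.bot, ← (yon S).map_id]
    refine congrArg (fun k => (yon S).map k ≫ sq.bot) (Over.OverMorphism.ext ?_)
    exact (Spec.map_id _).symm

end Groth.Agent.AlgSpLib
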