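import Groth.Agent.AlgSpLib.ValuativeBasic
import Groth.Agent.AlgSpLib.MorTop
import Groth.Agent.AlgSpLib.MorQC

/-!
The existence part of the valuative criterion and universal closedness.
-/

universe u

open CategoryTheory CategoryTheory.Limits AlgebraicGeometry AlgSp IsLocalRing

set_option backward.isDefEq.respectTransparency.types false

namespace Groth.Agent.AlgSpLib

variable {S : Scheme.{u}} {F G : Sp S}

theorem ofPt_eq_of_field {K : Type u} [Field K] {str : Spec (CommRingCat.of K) ⟶ S}
    (a : (yon S).obj (Over.mk str) ⟶ F) (t : ↥(Spec (CommRingCat.of K))) :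
    Points.ofPt a t = ptOfHom a := by
  rw [ofPt_eq_ptOfHom, ptOfHom_map]

/-- a specialization-lifting map from a quasi-compact space to an affine scheme is closed -/
theorem isClosedMap_of_specializing (hF : IsAlgSpace F) [CompactSpace (Points F)] {T : Over S}
    [IsAffine T.left] (p : F ⟶ (yon S).obj T)
    (h : ∀ (x : Points F) (t : ↥T.left), ∀ z, Points.map p x = Points.ofScheme T z → z ⤳ t →
      ∃ y, x ⤳ y ∧ Points.map p y = Points.ofScheme T t) :
    IsClosedMap (Points.map p) := by
  obtain ⟨U, a, hU, -, has⟩ := exists_affine_chart hF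
  obtain ⟨g, hg⟩ := (yon S).map_surjective (a ≫ p)
  intro Z hZ
  rw [← (Points.schemeHomeo T).isClosed_preimage]
  have key : ∀ u, Points.map p (Points.ofPt a u) = Points.ofScheme T (g.left u) := fun u => by
    rw [Points.map_ofPt, ← hg, Points.ofPt_eq_map_ofScheme, map_yon_map_ofScheme]
  have e : Points.schemeHomeo T ⁻¹' (Points.map p '' Z) = g.left '' (Points.ofPt a ⁻¹' Z) := by
    ext t
    constructor
    · rintro ⟨x, hx, ex⟩
      obtain ⟨u, rfl⟩ := surjective_ofPt a has x
      exact ⟨u, hx, (Points.schemeEquiv T).injective ((key u).symm.trans ex)⟩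
    · rintro ⟨u, hu, rfl⟩
      exact ⟨_, hu, key u⟩
  have hstab : StableUnderSpecialization (g.left '' (Points.ofPt a ⁻¹' Z)) := by
    rintro z t hzt ⟨u, hu, rfl⟩
    obtain ⟨y, hy, hy'⟩ := h (Points.ofPt a u) t _ (key u) hzt
    rw [← e]
    exact ⟨y, hy.mem_closed hZ hu, hy'⟩
  rw [e]
  -- reduce to rings
  obtain ⟨φ, hφ⟩ := Spec.map_surjective (U.left.isoSpec.inv ≫ g.left ≫ T.left.isoSpec.hom)
  have hgl : g.left = U.left.isoSpec.hom ≫ Spec.map φ ≫ T.left.isoSpec.inv := by
    rw [hφ]; simp
  have hfun : ∀ u, g.left u = T.left.isoSpec.inv ((Spec.map φ) (U.left.isoSpec.hom u)) := fun u => by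
    rw [hgl]; rfl
  let eT := Scheme.homeoOfIso T.left.isoSpec.symm
  let eU := Scheme.homeoOfIso U.left.isoSpec
  have himg : g.left '' (Points.ofPt a ⁻¹' Z) =
      eT '' (PrimeSpectrum.comap φ.hom '' (eU '' (Points.ofPt a ⁻¹' Z))) := by
    rw [← Set.image_comp, ← Set.image_comp]
    exact Set.image_congr fun u _ => hfun u
  rw [himg] at hstab ⊢
  refine eT.isClosedMap _ (PrimeSpectrum.isClosed_image_of_stableUnderSpecialization φ.hom _
    (eU.isClosedMap _ (hZ.preimage (Points.continuous_ofPt a))) fun z t hzt hz => ?_)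
  obtain ⟨t', ht', ett⟩ := hstab (hzt.map eT.continuous) (Set.mem_image_of_mem eT hz)
  rwa [← eT.injective ett]

/-- the existence part of the valuative criterion lifts specializations -/
theorem exists_specialization_of_existVC {T : Over S} (p : F ⟶ (yon S).obj T) (hv : ExistVC p)
    (x : Points F) (t z : ↥T.left) (hz : Points.map p x = Points.ofScheme T z) (hzt : z ⤳ t) :
    ∃ y, x ⤳ y ∧ Points.map p y = Points.ofScheme T t := by
  obtain ⟨K, _, sK, a₀, rfl⟩ := exists_ptOfHom x
  obtain ⟨g, hg⟩ := (yon S).map_surjective (a₀ ≫ p)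
  have hgz : g.left (closedPoint K) = z := (Points.schemeEquiv T).injective (by
    refine ((map_yon_map_ofScheme g _).symm.trans ?_).trans hz
    rw [← Points.ofPt_eq_map_ofScheme, hg, ofPt_eq_of_field, map_ptOfHom])
  subst hgz
  obtain ⟨A, hA, hA'⟩ := exists_factor_valuationRing
    (T.left.presheaf.stalkSpecializes hzt ≫ Scheme.stalkClosedPointTo g.left).hom
  let β : T.left.presheaf.stalk t ⟶ .of A :=
    CommRingCat.ofHom (RingHom.codRestrict _ A.toSubring hA)
  let bA : Spec (.of A) ⟶ T.left := Spec.map β ≫ T.left.fromSpecStalk t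
  have hb : Spec.map (CommRingCat.ofHom (algebraMap A K)) ≫ bA = g.left := by
    have e : β ≫ CommRingCat.ofHom (algebraMap A K) =
        T.left.presheaf.stalkSpecializes hzt ≫ Scheme.stalkClosedPointTo g.left := rfl
    show Spec.map _ ≫ Spec.map β ≫ _ = _
    rw [← Spec.map_comp_assoc, e, Spec.map_comp, Category.assoc,
      Scheme.SpecMap_stalkSpecializes_fromSpecStalk]
    exact Scheme.Spec_stalkClosedPointTo_fromSpecStalk g.left
  have hs : Spec.map (CommRingCat.ofHom (algebraMap A K)) ≫ bA ≫ T.hom = sK := by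
    rw [reassoc_of% hb]; exact Over.w g
  obtain ⟨A', _, _, _, K', _, _, _, φ, ψ, hc, hloc, l, h1, h2⟩ := existVC_apply hv (bA ≫ T.hom)
    ((yon S).map (respec hs) ≫ a₀) ((yon S).map (Over.homMk bA rfl))
    ((Category.assoc _ _ _).trans ((congrArg (_ ≫ ·) hg.symm).trans
      (((yon S).map_comp _ _).symm.trans ((congrArg _ (Over.OverMorphism.ext
        ((Category.id_comp _).trans hb.symm))).trans ((yon S).map_comp _ _)))))
  refine ⟨Points.ofPt l (closedPoint A'), ?_, ?_⟩
  · let jK : Over.mk (Spec.map (CommRingCat.ofHom (algebraMap A' K')) ≫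
        Spec.map (CommRingCat.ofHom φ) ≫ bA ≫ T.hom) ⟶
        Over.mk (Spec.map (CommRingCat.ofHom φ) ≫ bA ≫ T.hom) :=
      Over.homMk (Spec.map (CommRingCat.ofHom (algebraMap A' K'))) rfl
    have e : Points.ofPt l (jK.left (closedPoint K')) = ptOfHom a₀ := by
      rw [← ofPt_map, h1, ← Functor.map_comp_assoc, ofPt_eq_of_field, ptOfHom_map]
    rw [← e]
    exact (specializes_closedPoint _).map (Points.continuous_ofPt l)
  · rw [Points.map_ofPt, h2, ← Functor.map_comp, Points.ofPt_eq_map_ofScheme, map_yon_map_ofScheme]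
    refine congrArg _ ?_
    show T.left.fromSpecStalk t (Spec.map β (Spec.map (CommRingCat.ofHom φ) (closedPoint A'))) = t
    have h3 : Spec.map (CommRingCat.ofHom φ) (closedPoint A') = closedPoint A :=
      IsLocalRing.comap_closedPoint φ
    have h4 : Spec.map β (closedPoint A) = closedPoint (T.left.presheaf.stalk t) :=
      letI : IsLocalHom β.hom := hA'
      IsLocalRing.comap_closedPoint β.hom
    rw [h3, h4, Scheme.fromSpecStalk_closedPoint]

/-- a quasi-compact morphism satisfying the existence part is universally closed -/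
theorem isUnivClosedMor_of_existVC (hF : IsAlgSpace F) (hG : IsAlgSpace G) {f : F ⟶ G}
    (hq : IsQuasiCompactMor f) (hv : ExistVC f) : IsUnivClosedMor f := by
  refine isUnivClosedMor_of_affine fun T hT g P fst snd sq => ?_
  have := compactSpace_of_isQuasiCompactMor hq sq
  exact isClosedMap_of_specializing
    (isAlgSpace_of_isPullback hG.diag hF (IsAlgSpace.yon_obj T) sq) snd
    fun x t z hz hzt => exists_specialization_of_existVC snd (existVC_of_isPullback sq hv) x t z hz hzt

end Groth.Agent.AlgSpLib
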