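import Groth.Agent.AlgSpLib.ValuativeFinitePoint
import Groth.Agent.ValExtLib.Closure
import Mathlib.FieldTheory.IsAlgClosed.AlgebraicClosure
import Mathlib.FieldTheory.IntermediateField.Adjoin.Basic

/-!
Squares over discrete valuation rings from a dense source suffice for separated spaces of finite
type over an affine Noetherian base.
-/

universe u

open CategoryTheory CategoryTheory.Limits AlgebraicGeometry AlgSp IsLocalRing Topology
open scoped TensorProduct

set_option backward.isDefEq.respectTransparency.types false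

namespace Groth.Agent.AlgSpLib

variable {S : Scheme.{u}} {P U : Sp S} {B : Type u} [CommRing B]
  {str : Spec (CommRingCat.of B) ⟶ S}

/-- a geometric point has finitely many lifts to an affine etale chart -/
theorem finite_chart_points (p : P ⟶ (yon S).obj (Over.mk str)) (hps : IsSeparatedMor p)
    {Ω : Type u} [Field Ω] [Algebra B Ω] (x : (yon S).obj (specOver str Ω) ⟶ P)
    (hx : x ≫ p = (yon S).map (specHom str Ω))
    {C : Type u} [CommRing C] [Algebra B C] (aC : (yon S).obj (specOver str C) ⟶ P)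
    (hi : aC ≫ p = (yon S).map (specHom str C)) (haC : RepWith @Etale aC) :
    {g : C →ₐ[B] Ω | (yon S).map (specMap str g) ≫ aC = x}.Finite := by
  obtain ⟨E, _, _, q, -, sqE, hE⟩ := exists_affine_fibre str p hps x aC hx hi
  let θ : Ω →ₐ[B] E := q.comp Algebra.TensorProduct.includeLeft
  have hθ : Etale (specMap str θ).left :=
    (repWith_yon_map_iff @Etale _).1 (RepWith.baseChange sqE.flip haC)
  have hθe : θ.toRingHom.Etale := HasRingHomProperty.Spec_iff (P := @Etale).1 hθ
  algebraize [θ.toRingHom]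
  have : Algebra.Etale Ω E := RingHom.etale_algebraMap.1 hθe
  have : Module.Finite Ω E := Algebra.FormallyUnramified.finite_of_free Ω E
  let G (χ : E →ₐ[Ω] Ω) : C → Ω := fun c =>
    χ (q ((Algebra.TensorProduct.includeRight : C →ₐ[B] Ω ⊗[B] C) c))
  refine ((Set.finite_range G).preimage DFunLike.coe_injective.injOn).subset fun g hg => ?_
  obtain ⟨χ, hχ⟩ := hE Ω (AlgHom.id B Ω) g (by
    rw [show (yon S).map (specMap str g) ≫ aC = x from hg]
    have h : specMap str (AlgHom.id B Ω) = 𝟙 (specOver str Ω) :=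
      Over.OverMorphism.ext (Spec.map_id _)
    rw [h, CategoryTheory.Functor.map_id, Category.id_comp])
  have hc : ∀ w : Ω, χ (θ w) = w := fun w => by
    show (χ.comp q) ((Algebra.TensorProduct.includeLeft : Ω →ₐ[B] Ω ⊗[B] C) w) = w
    rw [hχ]
    exact AlgHom.congr_fun (Algebra.TensorProduct.productMap_left (AlgHom.id B Ω) g) w
  refine ⟨{ χ.toRingHom with commutes' := hc }, funext fun c => ?_⟩
  show (χ.comp q) ((Algebra.TensorProduct.includeRight : C →ₐ[B] Ω ⊗[B] C) c) = g c
  rw [hχ]
  exact AlgHom.congr_fun (Algebra.TensorProduct.productMap_right (AlgHom.id B Ω) g) c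

/-- a subring dominated by a proper valuation has a discrete valuation ring above it inside a
finitely generated field -/
theorem exists_dvr_subfield [IsNoetherianRing B] {L : Type u} [Field L] [Algebra B L]
    (V : ValuationSubring L) (hB : ∀ b, algebraMap B L b ∈ V) (T : Finset L)
    (hT : ∀ y ∈ T, y⁻¹ ∈ V ∧ y ∉ V) (hne : T.Nonempty) (s : Finset L)
    (hgen : ∀ G : Subfield L, (∀ b, algebraMap B L b ∈ G) → (↑s : Set L) ⊆ G → ∀ z, z ∈ G) :
    ∃ R : ValuationSubring L, IsDiscreteValuationRing R ∧ (∀ b, algebraMap B L b ∈ R) ∧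
      ∀ y ∈ T, y ∉ R := by
  classical
  let T' : Finset L := T.image fun y => y⁻¹
  let S₀ : Subalgebra B L := Algebra.adjoin B (T' : Set L)
  have hSV : ∀ z : L, z ∈ S₀ → z ∈ V := fun z hz => by
    induction hz using Algebra.adjoin_induction with
    | mem w hw =>
      obtain ⟨y, hy, rfl⟩ := Finset.mem_image.1 hw
      exact (hT y hy).1
    | algebraMap r => exact hB r
    | add a b _ _ ha hb => exact add_mem ha hb
    | mul a b _ _ ha hb => exact mul_mem ha hb
  let q : Ideal S₀ := (maximalIdeal V).comap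
    (S₀.toSubring.subtype.codRestrict V.toSubring fun z => hSV z.1 z.2)
  have : Algebra.FiniteType B S₀ :=
    (Subalgebra.fg_iff_finiteType S₀).mp (Subalgebra.fg_adjoin_finset T')
  have : IsNoetherianRing S₀ := Algebra.FiniteType.isNoetherianRing B S₀
  let B₁ := Localization.AtPrime q
  have : IsDomain B₁ := IsLocalization.isDomain_localization q.primeCompl_le_nonZeroDivisors
  let g : B₁ →+* L := IsLocalization.lift (M := q.primeCompl) (g := S₀.toSubring.subtype) fun z =>
    IsUnit.mk0 _ fun h0 => z.2 (by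
      rw [show (z : S₀) = 0 from Subtype.ext h0]
      exact zero_mem _)
  let := g.toAlgebra
  have hg : Function.Injective g := IsLocalization.lift_injective_iff _ |>.mpr fun a b =>
    ⟨fun h => congrArg Subtype.val (IsLocalization.injective B₁ q.primeCompl_le_nonZeroDivisors h),
      fun h => congrArg _ (Subtype.ext h)⟩
  have hgS : ∀ z : S₀, algebraMap B₁ L (algebraMap S₀ B₁ z) = z.1 := fun z => IsLocalization.lift_eq _ z
  have hq : ∀ y ∈ T, ∃ z ∈ q, z.1 = y⁻¹ := fun y hy => by
    refine ⟨⟨y⁻¹, Algebra.subset_adjoin (Finset.mem_image_of_mem _ hy)⟩, ?_, rfl⟩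
    show (⟨y⁻¹, (hT y hy).1⟩ : V) ∈ maximalIdeal V
    refine (mem_maximalIdeal _).2 fun hu => (hT y hy).2 ?_
    obtain ⟨v, hv⟩ := hu.exists_right_inv
    have h2 : y⁻¹ * (v : L) = 1 := congrArg Subtype.val hv
    have hy0 : y ≠ 0 := fun h => (hT y hy).2 (h ▸ V.zero_mem)
    rw [show y = v from (inv_mul_eq_one₀ hy0).1 h2]
    exact v.2
  have hB₁ : ¬ IsField B₁ := fun hf => by
    rw [IsLocalRing.isField_iff_maximalIdeal_eq] at hf
    obtain ⟨y, hy⟩ := hne
    obtain ⟨z, hz, hzy⟩ := hq y hy
    have h1 := (IsLocalization.AtPrime.to_map_mem_maximal_iff B₁ q z).mpr hz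
    rw [hf, Submodule.mem_bot] at h1
    have h2 := hgS z
    rw [h1, map_zero, hzy] at h2
    have hy0 : y ≠ 0 := fun h => (hT y hy).2 (h ▸ V.zero_mem)
    exact inv_ne_zero hy0 h2.symm
  obtain ⟨R, hR, hBR, hm⟩ := Groth.Agent.ValExtLib.exists_dvr_dominating' (B := B₁) (L := L) hB₁ hg s
    fun G hG hsG => hgen G (fun b => by
      rw [show algebraMap B L b = algebraMap B₁ L (algebraMap S₀ B₁ (algebraMap B S₀ b)) from
        (hgS (algebraMap B S₀ b)).symm]
      exact hG _) hsG
  refine ⟨R, hR, fun b => ?_, fun y hy hyR => ?_⟩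
  · have := hBR (algebraMap S₀ B₁ (algebraMap B S₀ b))
    rwa [hgS] at this
  · obtain ⟨z, hz, hzy⟩ := hq y hy
    have h := hm _ ((IsLocalization.AtPrime.to_map_mem_maximal_iff B₁ q z).mpr hz)
    rw [hgS, hzy] at h
    have hy0 : y ≠ 0 := fun h0 => (hT y hy).2 (h0 ▸ V.zero_mem)
    have h3 := mul_lt_one_of_lt_of_le h ((R.valuation_le_one_iff _).mpr hyR)
    rw [← map_mul, inv_mul_cancel₀ hy0, map_one] at h3
    exact lt_irrefl _ h3

/-- for a separated space over an affine Noetherian base, lifts of squares over discrete valuation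
rings from the source give lifts of all squares from the source after an extension -/
theorem refinedVC_of_dvr [IsNoetherianRing B] (hP : IsAlgSpace P) [CompactSpace (Points P)]
    (hU : IsAlgSpace U) (p : P ⟶ (yon S).obj (Over.mk str)) (hps : IsSeparatedMor p) (h : U ⟶ P)
    (hl : LocP @LocallyOfFiniteType (h ≫ p))
    (hv : ∀ sq : ValSq p, IsDiscreteValuationRing sq.A →
      (∃ t : (yon S).obj sq.ptK ⟶ U, t ≫ h = sq.top) → sq.HasLift) : RefinedVC p h := by
  classical
  rintro sq ⟨t, ht⟩
  refine ⟨uniqVC_of_isSeparatedMor hP (IsAlgSpace.yon_obj _) hps sq, ?_⟩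
  obtain ⟨g₀, hg₀⟩ := (yon S).map_surjective sq.bot
  obtain ⟨φB, hφB⟩ := Spec.map_surjective g₀.left
  let : Algebra B sq.A := φB.hom.toAlgebra
  let : Algebra B sq.K := ((algebraMap sq.A sq.K).comp φB.hom).toAlgebra
  have : IsScalarTower B sq.A sq.K := IsScalarTower.of_algebraMap_eq fun _ => rfl
  have hstr : Spec.map (CommRingCat.ofHom (algebraMap B sq.A)) ≫ str = sq.str := by
    show Spec.map φB ≫ str = _
    rw [hφB]
    exact Over.w g₀
  have hsK : Spec.map (CommRingCat.ofHom (algebraMap sq.A sq.K)) ≫ sq.str =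
      Spec.map (CommRingCat.ofHom (algebraMap B sq.K)) ≫ str := by
    rw [← hstr]
    exact spec_alg_w str
  let a₀ : (yon S).obj (specOver str sq.K) ⟶ U := (yon S).map (respec hsK.symm) ≫ t
  have ha₀ : a₀ ≫ h ≫ p = (yon S).map (specHom str sq.K) := by
    rw [Category.assoc, ← Category.assoc t, ht, sq.comm, ← hg₀, ← Functor.map_comp,
      ← Functor.map_comp]
    refine congrArg _ (Over.OverMorphism.ext ?_)
    show 𝟙 _ ≫ Spec.map _ ≫ g₀.left = Spec.map _
    rw [Category.id_comp, ← hφB, ← Spec.map_comp]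
    rfl
  -- the source point is defined over a finitely generated field
  obtain ⟨D, _, _, aD, υ, hiD, haD, hυ⟩ := exists_chart_over_affine hU (h ≫ p) (ptOfHom a₀)
  have : Algebra.FiniteType B D := by
    have h1 : LocallyOfFiniteType (specHom str D).left :=
      hl aD (𝟙 _) (specHom str D) haD (repWith_id _ _) (hiD.trans (Category.comp_id _).symm)
    exact RingHom.finiteType_algebraMap.1 (HasRingHomProperty.Spec_iff (P := @LocallyOfFiniteType).1 h1)
  obtain ⟨Ω₀, _, _, _, _, gD₀, -, -, hgD₀⟩ :=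
    exists_finite_point_over hU (h ≫ p) a₀ ha₀ aD hiD haD hυ
  let Ω := AlgebraicClosure Ω₀
  let i₀ : Ω₀ →ₐ[B] Ω := IsScalarTower.toAlgHom B Ω₀ Ω
  let ψ : sq.K →ₐ[B] Ω := i₀.comp (IsScalarTower.toAlgHom B sq.K Ω₀)
  let gΩ : D →ₐ[B] Ω := i₀.comp gD₀
  obtain ⟨x, hxdef, hxK, hxp⟩ : ∃ x : (yon S).obj (specOver str Ω) ⟶ P,
      x = (yon S).map (specMap str gΩ) ≫ aD ≫ h ∧
      x = (yon S).map (specMap str ψ) ≫ a₀ ≫ h ∧ x ≫ p = (yon S).map (specHom str Ω) := by
    refine ⟨_, rfl, ?_, ?_⟩
    · simp only [gΩ, ψ, specMap_comp, Functor.map_comp, Category.assoc, reassoc_of% hgD₀]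
    · rw [Category.assoc, Category.assoc, hiD, ← Functor.map_comp, specMap_comp_specHom]
  obtain ⟨AΩ, hAΩ, hAΩloc⟩ := exists_factor_valuationRing (ψ.toRingHom.comp (algebraMap sq.A sq.K))
  have hBΩ : ∀ b, algebraMap B Ω b ∈ AΩ := fun b => by
    have := hAΩ (algebraMap B sq.A b)
    rwa [RingHom.comp_apply, ← IsScalarTower.algebraMap_apply, show ψ.toRingHom _ = _ from
      ψ.commutes b] at this
  -- a chart of the space
  obtain ⟨W, b, hW, hbe, hbs⟩ := exists_affine_chart hP
  obtain ⟨C, _, _, i, hi⟩ := exists_specOver_model str p W b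
  have : IsIso i.hom.left := inferInstanceAs (IsIso ((Over.forget S).map i.hom))
  obtain ⟨aC, hiC, haC, haCs⟩ : ∃ aC : (yon S).obj (specOver str C) ⟶ P,
      aC ≫ p = (yon S).map (specHom str C) ∧ RepWith @Etale aC ∧ RepWith @Surjective aC :=
    ⟨_, hi, RepWith.comp ((repWith_yon_map_iff @Etale i.hom).2 inferInstance) hbe,
      RepWith.comp ((repWith_yon_map_iff @Surjective i.hom).2 inferInstance) hbs⟩
  have hG := finite_chart_points p hps x hxp aC hiC haC
  by_cases hin : ∃ g : C →ₐ[B] Ω, (yon S).map (specMap str g) ≫ aC = x ∧ ∀ c, g c ∈ AΩ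
  · obtain ⟨g, hg, hgA⟩ := hin
    let φ : sq.A →+* AΩ := (ψ.toRingHom.comp (algebraMap sq.A sq.K)).codRestrict AΩ.toSubring hAΩ
    let : Algebra B AΩ := (φ.comp (algebraMap B sq.A)).toAlgebra
    have : IsScalarTower B AΩ Ω := IsScalarTower.of_algebraMap_eq fun b => by
      show _ = ψ (algebraMap sq.A sq.K (algebraMap B sq.A b))
      rw [← IsScalarTower.algebraMap_apply, ψ.commutes]
    let ρ : C →ₐ[B] AΩ :=
      { g.toRingHom.codRestrict AΩ.toSubring hgA with
        commutes' := fun b => Subtype.ext ((g.commutes b).trans (IsScalarTower.algebraMap_apply B AΩ Ω b)) }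
    have htB : Spec.map (CommRingCat.ofHom φ) ≫ sq.str =
        Spec.map (CommRingCat.ofHom (algebraMap B AΩ)) ≫ str := by
      rw [← hstr, ← Spec.map_comp_assoc]
      rfl
    refine hasLiftExt_mk sq AΩ Ω φ ψ.toRingHom (RingHom.ext fun _ => rfl) hAΩloc _ rfl
      ((yon S).map (respec htB) ≫ (yon S).map (specMap str ρ) ≫ aC) ?_ ?_
    · have hK2 : Spec.map (CommRingCat.ofHom (algebraMap AΩ Ω)) ≫
          Spec.map (CommRingCat.ofHom φ) ≫ sq.str =
          Spec.map (CommRingCat.ofHom (algebraMap B Ω)) ≫ str := by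
        rw [htB]; exact spec_alg_w str
      let jA : Over.mk (Spec.map (CommRingCat.ofHom (algebraMap AΩ Ω)) ≫
          Spec.map (CommRingCat.ofHom φ) ≫ sq.str) ⟶
          Over.mk (Spec.map (CommRingCat.ofHom φ) ≫ sq.str) :=
        Over.homMk (Spec.map (CommRingCat.ofHom (algebraMap AΩ Ω))) rfl
      have e1 : jA ≫ respec htB ≫ specMap str ρ = respec hK2 ≫ specMap str g := by
        refine Over.OverMorphism.ext ?_
        show Spec.map _ ≫ 𝟙 _ ≫ Spec.map _ = 𝟙 _ ≫ Spec.map _
        rw [Category.id_comp, Category.id_comp, ← Spec.map_comp]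
        rfl
      have e2 : (yon S).map jA ≫ (yon S).map (respec htB) ≫ (yon S).map (specMap str ρ) ≫ aC =
          (yon S).map (respec hK2 ≫ specMap str ψ ≫ respec hsK.symm) ≫ sq.top := by
        rw [← Functor.map_comp_assoc, ← Functor.map_comp_assoc, Category.assoc, e1,
          Functor.map_comp, Category.assoc, hg, hxK]
        simp only [a₀, Functor.map_comp, Category.assoc, ht]
      refine e2.trans (congrArg (fun k => (yon S).map k ≫ sq.top) (Over.OverMorphism.ext ?_))
      show 𝟙 _ ≫ Spec.map (CommRingCat.ofHom ψ.toRingHom) ≫ 𝟙 _ = Spec.map _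
      rw [Category.id_comp, Category.comp_id]
    · rw [Category.assoc, Category.assoc, hiC, ← hg₀, ← Functor.map_comp, ← Functor.map_comp,
        ← Functor.map_comp, specMap_comp_specHom]
      refine congrArg _ (Over.OverMorphism.ext ?_)
      show 𝟙 _ ≫ Spec.map _ = Spec.map _ ≫ g₀.left
      rw [Category.id_comp, ← hφB, ← Spec.map_comp]
      rfl
  -- otherwise some discrete valuation ring has no lift
  · exfalso
    push Not at hin
    choose c hc using hin
    let Gs := hG.toFinset
    have hmem : ∀ g ∈ Gs, (yon S).map (specMap str g) ≫ aC = x := fun g hg => hG.mem_toFinset.1 hg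
    let y : Gs → Ω := fun g => g.1 (c g.1 (hmem g.1 g.2))
    let Lf : Subfield Ω :=
      Subfield.closure (Set.range (algebraMap B Ω) ∪ Set.range gΩ ∪ Set.range y)
    let : Algebra B Lf := ((algebraMap B Ω).codRestrict Lf.toSubring fun b =>
      Subfield.subset_closure (.inl (.inl ⟨b, rfl⟩))).toAlgebra
    have : IsScalarTower B Lf Ω := IsScalarTower.of_algebraMap_eq fun _ => rfl
    let gL : D →ₐ[B] Lf :=
      { gΩ.toRingHom.codRestrict Lf.toSubring
          (fun d => Subfield.subset_closure (.inl (.inr ⟨d, rfl⟩))) with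
        commutes' := fun b => Subtype.ext (gΩ.commutes b) }
    let yL : Gs → Lf := fun g => ⟨y g, Subfield.subset_closure (.inr ⟨g, rfl⟩)⟩
    -- some lift exists
    obtain ⟨w, hw⟩ := surjective_ofPt aC haCs (ptOfHom x)
    obtain ⟨Ω', _, _, _, _, g', hfin', -, hg'⟩ := exists_finite_point_over hP p x hxp aC hiC haC hw
    have : Algebra.IsAlgebraic Ω Ω' := Algebra.IsAlgebraic.of_finite Ω Ω'
    let ι' : Ω' →ₐ[Ω] Ω := IsAlgClosed.lift
    have hlift : (yon S).map (specMap str ((ι'.restrictScalars B).comp g')) ≫ aC = x := by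
      rw [specMap_comp, Functor.map_comp, Category.assoc, hg', ← Functor.map_comp_assoc,
        ← specMap_comp,
        show (ι'.restrictScalars B).comp (IsScalarTower.toAlgHom B Ω Ω') = AlgHom.id B Ω from
          AlgHom.ext fun z => ι'.commutes z]
      have hid : specMap str (AlgHom.id B Ω) = 𝟙 (specOver str Ω) :=
        Over.OverMorphism.ext (Spec.map_id _)
      rw [hid, CategoryTheory.Functor.map_id, Category.id_comp]
    have hne : (Finset.univ.image yL).Nonempty :=
      (Finset.univ_nonempty_iff.2 ⟨⟨_, hG.mem_toFinset.2 hlift⟩⟩).image _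
    let V : ValuationSubring Lf := AΩ.comap Lf.subtype
    obtain ⟨sD, hsD⟩ := (Algebra.FiniteType.out : (⊤ : Subalgebra B D).FG)
    obtain ⟨R, hR, hBR, hyR⟩ := exists_dvr_subfield (B := B) V (fun b => hBΩ b)
      (Finset.univ.image yL) (fun z hz => by
        obtain ⟨g, -, rfl⟩ := Finset.mem_image.1 hz
        have hn : y g ∉ AΩ := hc g.1 (hmem g.1 g.2)
        exact ⟨(AΩ.mem_or_inv_mem (y g)).resolve_left hn, hn⟩) hne
      (sD.image gL ∪ Finset.univ.image yL) (fun G hBG hsG z => by
        have hD : ∀ d, gL d ∈ G := fun d => by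
          have hd : d ∈ Algebra.adjoin B (sD : Set D) := hsD ▸ Algebra.mem_top
          induction hd using Algebra.adjoin_induction with
          | mem w hw => exact hsG (Finset.mem_union_left _ (Finset.mem_image_of_mem _ hw))
          | algebraMap r => rw [gL.commutes]; exact hBG r
          | add a b _ _ ha hb => rw [map_add]; exact add_mem ha hb
          | mul a b _ _ ha hb => rw [map_mul]; exact mul_mem ha hb
        have hle : Lf ≤ G.map Lf.subtype := by
          refine Subfield.closure_le.2 ?_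
          rintro _ ((⟨b, rfl⟩ | ⟨d, rfl⟩) | ⟨g, rfl⟩)
          · exact ⟨algebraMap B Lf b, hBG b, rfl⟩
          · exact ⟨gL d, hD d, rfl⟩
          · exact ⟨yL g, hsG (Finset.mem_union_right _
              (Finset.mem_image_of_mem _ (Finset.mem_univ _))), rfl⟩
        obtain ⟨z', hz', e⟩ := hle z.2
        rwa [← show z' = z from Subtype.ext e])
    let : Algebra B R := ((algebraMap B Lf).codRestrict R.toSubring hBR).toAlgebra
    have : IsScalarTower B R Lf := IsScalarTower.of_algebraMap_eq fun _ => rfl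
    obtain ⟨xL, hxL, hxLp⟩ : ∃ xL : (yon S).obj (specOver str Lf) ⟶ P,
        xL = ((yon S).map (specMap str gL) ≫ aD) ≫ h ∧ xL ≫ p = (yon S).map (specHom str Lf) :=
      ⟨_, rfl, by rw [Category.assoc, Category.assoc, hiD, ← Functor.map_comp, specMap_comp_specHom]⟩
    have hxLΩ : (yon S).map (specMap str (IsScalarTower.toAlgHom B Lf Ω)) ≫ xL = x := by
      rw [hxL, hxdef, Category.assoc, ← Functor.map_comp_assoc, ← specMap_comp]
      rfl
    obtain ⟨l₀, hl1, hl2⟩ := hv
      { A := R, K := Lf, str := Spec.map (CommRingCat.ofHom (algebraMap B R)) ≫ str,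
        top := (yon S).map (respec (spec_alg_w (A := R) (K := Lf) str)) ≫ xL,
        bot := (yon S).map (specHom str R), comm := specOver_comm str p R hxLp } hR
      ⟨(yon S).map (respec (spec_alg_w (A := R) (K := Lf) str)) ≫ (yon S).map (specMap str gL) ≫ aD,
        by simp only [hxL, Category.assoc]⟩
    have hlx : (yon S).map (specMap str (IsScalarTower.toAlgHom B R Lf)) ≫ l₀ = xL := by
      have e := congrArg ((yon S).map (respec (spec_alg_w (A := R) (K := Lf) str).symm) ≫ ·) hl1
      simp only [← Functor.map_comp_assoc] at e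
      refine ((congrArg (fun k => (yon S).map k ≫ l₀) (Over.OverMorphism.ext
        (Category.id_comp (Spec.map (CommRingCat.ofHom (algebraMap R Lf)))).symm)).trans e).trans ?_
      rw [show respec (spec_alg_w (A := R) (K := Lf) str).symm ≫
        respec (spec_alg_w (A := R) (K := Lf) str) = 𝟙 (specOver str Lf) from
          Over.OverMorphism.ext (Category.id_comp _), CategoryTheory.Functor.map_id, Category.id_comp]
    obtain ⟨Ω'', _, _, _, _, g'', hfin'', hg'', hgR⟩ :=
      exists_finite_lift_of_chart hP p aC hiC haC haCs R xL l₀ hl2 hlx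
    have : Algebra.IsAlgebraic Lf Ω'' := Algebra.IsAlgebraic.of_finite Lf Ω''
    let ι : Ω'' →ₐ[Lf] Ω := IsAlgClosed.lift
    have hgm : (ι.restrictScalars B).comp g'' ∈ Gs := hG.mem_toFinset.2 (by
      show (yon S).map (specMap str _) ≫ aC = x
      rw [specMap_comp, Functor.map_comp, Category.assoc, hg'', ← Functor.map_comp_assoc,
        ← specMap_comp, show (ι.restrictScalars B).comp (IsScalarTower.toAlgHom B Lf Ω'') =
          IsScalarTower.toAlgHom B Lf Ω from AlgHom.ext fun z => ι.commutes z, hxLΩ])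
    let g₁ : Gs := ⟨_, hgm⟩
    refine hyR (yL g₁) (Finset.mem_image_of_mem _ (Finset.mem_univ _))
      (hgR (c _ (hmem _ hgm)) (yL g₁) (ι.toRingHom.injective ?_))
    show ι (g'' _) = ι (algebraMap Lf Ω'' (yL g₁))
    rw [ι.commutes]
    rfl

/-- universal closedness from squares over discrete valuation rings with generic point in a dense
source -/
theorem isUnivClosedMor_of_refined_dvr {X Y U : Sp S} (hX : IsAlgSpace X) (hY : IsAlgSpace Y)
    (hU : IsAlgSpace U) {f : X ⟶ Y} (hfs : IsSeparatedMor f) (hfq : IsQuasiCompactMor f)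
    (hN : IsLocNoethSp Y) (h : U ⟶ X) (hq : IsQuasiCompactMor h)
    (hl : LocP @LocallyOfFiniteType (h ≫ f)) (hd : DenseRange (Points.map h))
    (hv : ∀ sq : ValSq f, IsDiscreteValuationRing sq.A →
      (∃ t : (yon S).obj sq.ptK ⟶ U, t ≫ h = sq.top) → sq.HasLift) : IsUnivClosedMor f := by
  refine isUnivClosedMor_of_refinedLocal hX hY hU hfq h hq hd fun B _ str g hg => ?_
  have := isLocallyNoetherian_of_chart hY hN g hg
  have : IsNoetherianRing B := by
    have : IsLocallyNoetherian (Spec (CommRingCat.of B)) := ‹IsLocallyNoetherian (Over.mk str).left›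
    have : IsNoetherianRing Γ(Spec (CommRingCat.of B), ⊤) :=
      IsLocallyNoetherian.component_noetherian ⟨⊤, isAffineOpen_top _⟩
    exact isNoetherianRing_of_ringEquiv _ (Scheme.ΓSpecIso (CommRingCat.of B)).commRingCatIsoToRingEquiv
  have sq0 := IsPullback.of_hasPullback f g
  have hX₀ : IsAlgSpace (pullback f g) :=
    isAlgSpace_of_isPullback hY.diag hX (IsAlgSpace.yon_obj _) sq0
  have sqU := IsPullback.of_hasPullback h (pullback.fst f g)
  have hU₀ := isAlgSpace_of_isPullback hX.diag hU hX₀ sqU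
  have : CompactSpace ↥(Over.mk str).left := inferInstanceAs (CompactSpace ↥(Spec (CommRingCat.of B)))
  have := compactSpace_of_isQuasiCompactMor hfq sq0
  refine refinedVC_of_dvr hX₀ hU₀ _ (isSeparatedMor_of_isPullback sq0 hfs) _
    (locP_of_isPullback etLocal_lft hU hY hU₀ (sqU.paste_vert sq0) hl) ?_
  rintro sq hA ⟨t, ht⟩
  obtain ⟨l, hl1, hl2⟩ := hv
    { A := sq.A, K := sq.K, str := sq.str, top := sq.top ≫ pullback.fst f g, bot := sq.bot ≫ g,
      comm := (comm_push sq0.w sq.comm).trans (Category.assoc _ _ _) } hA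
    ⟨t ≫ pullback.fst h (pullback.fst f g),
      (Category.assoc _ _ _).trans ((congrArg (t ≫ ·) sqU.w).trans
        ((Category.assoc _ _ _).symm.trans (congrArg (· ≫ pullback.fst f g) ht)))⟩
  obtain ⟨m, hm1, hm2⟩ := sq0.exists_lift l sq.bot hl2
  refine ⟨m, sq0.hom_ext ?_ ?_, hm2⟩
  · rw [Category.assoc, hm1]; exact hl1
  · rw [Category.assoc, hm2]; exact sq.comm.symm

/-- separatedness from uniqueness of lifts of squares over discrete valuation rings from a dense
source -/
theorem isSeparatedMor_of_refined_dvr {X Y U : Sp S} (hX : IsAlgSpace X) (hY : IsAlgSpace Y)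
    (hU : IsAlgSpace U) {f : X ⟶ Y} (hqs : IsQuasiSeparatedMor f) (hlf : LocP @LocallyOfFiniteType f)
    (hN : IsLocNoethSp Y) (h : U ⟶ X) (hh : IsFiniteTypeMor h)
    (hd : DenseRange (Points.map h))
    (hv : ∀ sq : ValSq (h ≫ f), IsDiscreteValuationRing sq.A →
      ∀ l l' : (yon S).obj sq.ptA ⟶ X, (yon S).map sq.j ≫ l = sq.top ≫ h ∧ l ≫ f = sq.bot →
        (yon S).map sq.j ≫ l' = sq.top ≫ h ∧ l' ≫ f = sq.bot → l = l') : IsSeparatedMor f := by
  have sqF := IsPullback.of_hasPullback f f
  have hXX : IsAlgSpace (pullback f f) := isAlgSpace_of_isPullback hY.diag hX hX sqF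
  have hld := locP_lft_diagonal hX f
  refine closedImmersion_of_univClosed_mono_lft hX hXX ?_ hld
  refine isUnivClosedMor_of_refined_dvr hX hXX hU (isSeparatedMor_of_mono _)
    ((repWith_quasiCompact_iff hX hXX (representable_diagonal hX f)).1 hqs)
    (isLocNoethSp_of_lft hXX hX (locP_of_isPullback etLocal_lft hX hY hXX sqF hlf)
      (isLocNoethSp_of_lft hX hY hlf hN))
    h hh.2 (locP_comp etLocal_lft hU hX hXX hh.1 hld) hd ?_
  rintro sq hA ⟨t, ht⟩
  have h1 : (yon S).map sq.j ≫ sq.bot ≫ pullback.fst f f = sq.top := by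
    rw [← Category.assoc, ← sq.comm, Category.assoc, pullback.diagonal_fst, Category.comp_id]
  have h2 : (yon S).map sq.j ≫ sq.bot ≫ pullback.snd f f = sq.top := by
    rw [← Category.assoc, ← sq.comm, Category.assoc, pullback.diagonal_snd, Category.comp_id]
  have hw : (sq.bot ≫ pullback.fst f f) ≫ f = (sq.bot ≫ pullback.snd f f) ≫ f := by
    rw [Category.assoc, Category.assoc, pullback.condition]
  have e : sq.bot ≫ pullback.fst f f = sq.bot ≫ pullback.snd f f :=
    hv { A := sq.A, K := sq.K, str := sq.str, top := t, bot := (sq.bot ≫ pullback.fst f f) ≫ f,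
         comm := ((Category.assoc _ _ _).symm.trans (congrArg (· ≫ f) (ht.trans h1.symm))).trans
           (Category.assoc _ _ _) }
      hA _ _ ⟨h1.trans ht.symm, rfl⟩ ⟨h2.trans ht.symm, hw.symm⟩
  refine ⟨sq.bot ≫ pullback.fst f f, h1, ?_⟩
  apply pullback.hom_ext
  · rw [Category.assoc, pullback.diagonal_fst, Category.comp_id]
  · rw [Category.assoc, pullback.diagonal_snd, Category.comp_id]; exact e

/-- properness from refined existence over discrete valuation rings -/
theorem isProperMor_of_refined_dvr {X Y U : Sp S} (hX : IsAlgSpace X) (hY : IsAlgSpace Y)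
    (hU : IsAlgSpace U) {f : X ⟶ Y} (hfs : IsSeparatedMor f) (hft : IsFiniteTypeMor f)
    (hN : IsLocNoethSp Y) (h : U ⟶ X) (hh : IsFiniteTypeMor h)
    (hd : DenseRange (Points.map h))
    (hv : ∀ sq : ValSq (h ≫ f), IsDiscreteValuationRing sq.A →
      ∃ l : (yon S).obj sq.ptA ⟶ X, (yon S).map sq.j ≫ l = sq.top ≫ h ∧ l ≫ f = sq.bot) :
    IsProperMor f := by
  refine ⟨hfs, hft, isUnivClosedMor_of_refined_dvr hX hY hU hfs hft.2 hN h hh.2
    (locP_comp etLocal_lft hU hX hY hh.1 hft.1) hd ?_⟩
  rintro sq hA ⟨t, ht⟩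
  obtain ⟨l, hl1, hl2⟩ := hv
    { A := sq.A, K := sq.K, str := sq.str, top := t, bot := sq.bot,
      comm := ((Category.assoc _ _ _).symm.trans (congrArg (· ≫ f) ht)).trans sq.comm } hA
  exact ⟨l, hl1.trans ht, hl2⟩

end Groth.Agent.AlgSpLib
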