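import Groth.Agent.AlgSpLib.ValuativeSeparable

/-!
Points over finite extensions on etale charts.
-/

universe u

open CategoryTheory CategoryTheory.Limits AlgebraicGeometry AlgSp IsLocalRing Topology

set_option backward.isDefEq.respectTransparency.types false

namespace Groth.Agent.AlgSpLib

variable {S : Scheme.{u}} {P : Sp S} {B : Type u} [CommRing B]
  {str : Spec (CommRingCat.of B) ⟶ S}

/-- a field point lifts to an etale chart over a finite separable extension -/
theorem exists_finite_point_over (hP : IsAlgSpace P) (p : P ⟶ (yon S).obj (Over.mk str))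
    {K : Type u} [Field K] [Algebra B K] (a : (yon S).obj (specOver str K) ⟶ P)
    (ha : a ≫ p = (yon S).map (specHom str K))
    {C : Type u} [CommRing C] [Algebra B C] (aC : (yon S).obj (specOver str C) ⟶ P)
    (hi : aC ≫ p = (yon S).map (specHom str C)) (haC : RepWith @Etale aC)
    {u' : ↥(specOver str C).left} (hu' : Points.ofPt aC u' = ptOfHom a) :
    ∃ (Ω : Type u) (_ : Field Ω) (_ : Algebra B Ω) (_ : Algebra K Ω) (_ : IsScalarTower B K Ω)
      (g : C →ₐ[B] Ω), Module.Finite K Ω ∧ Algebra.IsSeparable K Ω ∧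
      (yon S).map (specMap str g) ≫ aC =
        (yon S).map (specMap str (IsScalarTower.toAlgHom B K Ω)) ≫ a := by
  have hr := hP.representable_from_yon aC
  have sq := hr.isPullback a
  obtain ⟨f, hf⟩ := (yon S).map_surjective (hr.fst a)
  rw [← hf] at sq
  have he : Etale (hr.snd a).left := haC.property_snd a
  obtain ⟨z, hz, -⟩ := (ofPt_eq_ofPt_iff sq u' (closedPoint K)).1
    (hu'.trans (ofPt_eq_of_field a _).symm)
  obtain ⟨Ω, _, _, t, hfin, hsep, htz, htK⟩ := exists_finite_separable_point (hr.snd a).left he z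
  let : Algebra B Ω := ((algebraMap K Ω).comp (algebraMap B K)).toAlgebra
  have : IsScalarTower B K Ω := IsScalarTower.of_algebraMap_eq fun _ => rfl
  have hw : t ≫ (hr.pullback a).hom = Spec.map (CommRingCat.ofHom (algebraMap B Ω)) ≫ str := by
    rw [← Over.w (hr.snd a), ← Category.assoc, htK]
    exact (Spec.map_comp_assoc _ _ _).symm
  let tW : specOver str Ω ⟶ hr.pullback a := Over.homMk t hw
  have hψ : tW ≫ hr.snd a = specMap str (IsScalarTower.toAlgHom B K Ω) := Over.OverMorphism.ext htK
  obtain ⟨tC, htC⟩ : ∃ tC : specOver str Ω ⟶ specOver str C,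
      (yon S).map tC ≫ aC = (yon S).map (specMap str (IsScalarTower.toAlgHom B K Ω)) ≫ a :=
    ⟨tW ≫ f, by rw [Functor.map_comp, Category.assoc, sq.w, ← Functor.map_comp_assoc, hψ]⟩
  obtain ⟨g, rfl⟩ := exists_specMap str tC ((yon S).map_injective (by
    rw [Functor.map_comp, ← hi, ← Category.assoc, htC, Category.assoc, ha, ← Functor.map_comp,
      specMap_comp_specHom]))
  exact ⟨Ω, inferInstance, inferInstance, inferInstance, inferInstance, g, hfin, hsep, htC⟩

/-- a point with values in a valuation ring lifts, up to a finite extension of the field, to a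
surjective etale chart, with values in that ring on elements of the field -/
theorem exists_finite_lift_of_chart (hP : IsAlgSpace P) (p : P ⟶ (yon S).obj (Over.mk str))
    {C : Type u} [CommRing C] [Algebra B C] (aC : (yon S).obj (specOver str C) ⟶ P)
    (hi : aC ≫ p = (yon S).map (specHom str C)) (haC : RepWith @Etale aC)
    (haCs : RepWith @Surjective aC) {L : Type u} [Field L] [Algebra B L] (R : ValuationSubring L)
    [Algebra B R] [IsScalarTower B R L] (x : (yon S).obj (specOver str L) ⟶ P)
    (l : (yon S).obj (specOver str R) ⟶ P) (hl : l ≫ p = (yon S).map (specHom str R))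
    (hlx : (yon S).map (specMap str (IsScalarTower.toAlgHom B R L)) ≫ l = x) :
    ∃ (Ω : Type u) (_ : Field Ω) (_ : Algebra B Ω) (_ : Algebra L Ω) (_ : IsScalarTower B L Ω)
      (g : C →ₐ[B] Ω), Module.Finite L Ω ∧
      (yon S).map (specMap str g) ≫ aC =
        (yon S).map (specMap str (IsScalarTower.toAlgHom B L Ω)) ≫ x ∧
      ∀ (c : C) (z : L), g c = algebraMap L Ω z → z ∈ R := by
  obtain ⟨w, hw⟩ := surjective_ofPt aC haCs (Points.ofPt l (closedPoint R))
  have hr := hP.representable_from_yon aC
  have sq := hr.isPullback l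
  obtain ⟨f, hf⟩ := (yon S).map_surjective (hr.fst l)
  rw [← hf] at sq
  have he : Etale (hr.snd l).left := haC.property_snd l
  obtain ⟨e, he1, he2⟩ := (ofPt_eq_ofPt_iff sq w (closedPoint R)).1 hw
  let jR : Spec (CommRingCat.of L) ⟶ (specOver str R).left :=
    Spec.map (CommRingCat.ofHom (algebraMap R L))
  have hη : jR (closedPoint L) ⤳ (hr.snd l).left e := he2 ▸ specializes_closedPoint (jR (closedPoint L))
  obtain ⟨e', he', he'2⟩ := Flat.generalizingMap (hr.snd l).left hη
  obtain ⟨z, hz1, -⟩ := Scheme.Pullback.exists_preimage_pullback (f := (hr.snd l).left) (g := jR)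
    e' (closedPoint L) he'2
  have heL : Etale (Limits.pullback.snd (hr.snd l).left jR) :=
    MorphismProperty.pullback_snd (P := @Etale) _ _ he
  obtain ⟨Ω, _, _, t₀, hfin, -, ht₀, ht₀L⟩ := exists_finite_separable_point _ heL z
  let t : Spec (CommRingCat.of Ω) ⟶ (hr.pullback l).left :=
    t₀ ≫ Limits.pullback.fst (hr.snd l).left jR
  have htR : t ≫ (hr.snd l).left = Spec.map (CommRingCat.ofHom (algebraMap L Ω)) ≫ jR := by
    rw [Category.assoc, pullback.condition, ← Category.assoc, ht₀L]
  have hte : t (closedPoint Ω) = e' := by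
    show Limits.pullback.fst (hr.snd l).left jR (t₀ (closedPoint Ω)) = e'
    rw [ht₀, hz1]
  let : Algebra B Ω := ((algebraMap L Ω).comp (algebraMap B L)).toAlgebra
  have : IsScalarTower B L Ω := IsScalarTower.of_algebraMap_eq fun _ => rfl
  have hwt : t ≫ (hr.pullback l).hom = Spec.map (CommRingCat.ofHom (algebraMap B Ω)) ≫ str := by
    rw [← Over.w (hr.snd l), ← Category.assoc, htR, Category.assoc]
    show _ ≫ Spec.map _ ≫ Spec.map _ ≫ str = _
    rw [← Spec.map_comp_assoc, ← Spec.map_comp_assoc]
    congr 2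
    ext b
    show algebraMap L Ω (algebraMap R L (algebraMap B R b)) = algebraMap B Ω b
    rw [← IsScalarTower.algebraMap_apply B R L]
    rfl
  let tE : specOver str Ω ⟶ hr.pullback l := Over.homMk t hwt
  have hψ : tE ≫ hr.snd l =
      specMap str (IsScalarTower.toAlgHom B L Ω) ≫ specMap str (IsScalarTower.toAlgHom B R L) :=
    Over.OverMorphism.ext htR
  obtain ⟨tC, htC, htC'⟩ : ∃ tC : specOver str Ω ⟶ specOver str C,
      (yon S).map tC ≫ aC = (yon S).map (specMap str (IsScalarTower.toAlgHom B L Ω)) ≫ x ∧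
      tC.left = t ≫ f.left :=
    ⟨tE ≫ f, by
      rw [Functor.map_comp, Category.assoc, sq.w, ← Functor.map_comp_assoc, hψ, Functor.map_comp,
        Category.assoc, hlx], rfl⟩
  obtain ⟨g, rfl⟩ := exists_specMap str tC ((yon S).map_injective (by
    rw [Functor.map_comp, ← hi, ← Category.assoc, htC, Category.assoc, ← hlx, Category.assoc, hl,
      ← Functor.map_comp, ← Functor.map_comp, specMap_comp_specHom, specMap_comp_specHom]))
  obtain ⟨R', k, hk, hkc⟩ := exists_valuationSubring_of_specializes t (w := e) (by rw [hte]; exact he')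
  obtain ⟨ρC, hρC⟩ := Spec.map_surjective (k ≫ f.left)
  obtain ⟨ρR, hρR⟩ := Spec.map_surjective (k ≫ (hr.snd l).left)
  have hC : ∀ c, (ρC.hom c : Ω) = g c := fun c => by
    have h : Spec.map (CommRingCat.ofHom R'.subtype) ≫ Spec.map ρC =
        Spec.map (CommRingCat.ofHom (g : C →+* Ω)) := by
      rw [hρC, ← Category.assoc, hk]
      exact htC'.symm
    rw [← Spec.map_comp] at h
    exact RingHom.congr_fun (congrArg CommRingCat.Hom.hom (Spec.map_injective h)) c
  have hR : ∀ r : R, (ρR.hom r : Ω) = algebraMap L Ω (r : L) := fun r => by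
    have h : Spec.map (CommRingCat.ofHom R'.subtype) ≫ Spec.map ρR =
        Spec.map (CommRingCat.ofHom (algebraMap L Ω)) ≫ jR := by
      rw [hρR, ← Category.assoc, hk, htR]
    rw [← Spec.map_comp, ← Spec.map_comp] at h
    exact RingHom.congr_fun (congrArg CommRingCat.Hom.hom (Spec.map_injective h)) r
  have hloc : IsLocalHom ρR.hom := isLocalHom_of_closedPoint _ (by
    show Spec.map ρR (closedPoint R') = _
    rw [hρR]
    show (hr.snd l).left (k (closedPoint R')) = _
    rw [hkc, he2])
  refine ⟨Ω, inferInstance, inferInstance, inferInstance, inferInstance, g, hfin, htC,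
    fun c z hcz => ?_⟩
  by_contra hzR
  have hzi : z⁻¹ ∈ R := (R.mem_or_inv_mem z).resolve_left hzR
  have hz0 : z ≠ 0 := fun h => hzR (h ▸ R.zero_mem)
  have h1 : ρR.hom ⟨z⁻¹, hzi⟩ * ρC.hom c = 1 := Subtype.ext (by
    show (ρR.hom ⟨z⁻¹, hzi⟩ : Ω) * (ρC.hom c : Ω) = 1
    rw [hR, hC, hcz, ← map_mul, inv_mul_cancel₀ hz0, map_one])
  obtain ⟨v, hv⟩ := (hloc.map_nonunit _ (IsUnit.of_mul_eq_one _ h1)).exists_right_inv
  have h2 : z⁻¹ * (v : L) = 1 := congrArg Subtype.val hv
  exact hzR (by rw [show z = v from (inv_mul_eq_one₀ hz0).1 h2]; exact v.2)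

end Groth.Agent.AlgSpLib
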