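import Groth.Agent.AlgSpLib.ValuativeRefinedPoint

/-!
A refined existence criterion over an affine base: squares from a dense quasi-compact source suffice.
-/

universe u

open CategoryTheory CategoryTheory.Limits AlgebraicGeometry AlgSp IsLocalRing

set_option backward.isDefEq.respectTransparency.types false

namespace Groth.Agent.AlgSpLib

variable {S : Scheme.{u}} {X U : Sp S}

/-- valuative squares whose top arrow factors through `h` have unique lifts after extension -/
def RefinedVC {Y : Sp S} (f : X ⟶ Y) (h : U ⟶ X) : Prop :=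
  ∀ sq : ValSq f, (∃ t : (yon S).obj sq.ptK ⟶ U, t ≫ h = sq.top) → sq.HasUniq ∧ sq.HasLiftExt

variable {B : Type u} [CommRing B] (str : Spec (CommRingCat.of B) ⟶ S)

theorem spec_alg_w {A K : Type u} [CommRing A] [CommRing K] [Algebra B A] [Algebra B K] [Algebra A K]
    [IsScalarTower B A K] :
    Spec.map (CommRingCat.ofHom (algebraMap A K)) ≫
      Spec.map (CommRingCat.ofHom (algebraMap B A)) ≫ str =
    Spec.map (CommRingCat.ofHom (algebraMap B K)) ≫ str := by
  rw [← Spec.map_comp_assoc, ← CommRingCat.ofHom_comp, ← IsScalarTower.algebraMap_eq]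

theorem specOver_comm (p : X ⟶ (yon S).obj (Over.mk str)) {L : Type u} [Field L] [Algebra B L]
    (R : ValuationSubring L) [Algebra B R] [IsScalarTower B R L]
    {x : (yon S).obj (specOver str L) ⟶ X} (hx : x ≫ p = (yon S).map (specHom str L)) :
    ((yon S).map (respec (spec_alg_w (A := R) (K := L) str)) ≫ x) ≫ p =
      (yon S).map (Over.homMk (Spec.map (CommRingCat.ofHom (algebraMap R L))) rfl :
        Over.mk (Spec.map (CommRingCat.ofHom (algebraMap R L)) ≫
          Spec.map (CommRingCat.ofHom (algebraMap B R)) ≫ str) ⟶ specOver str R) ≫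
        (yon S).map (specHom str R) := by
  rw [Category.assoc, hx, ← Functor.map_comp, ← Functor.map_comp]
  congr 1
  refine Over.OverMorphism.ext ?_
  show 𝟙 _ ≫ Spec.map _ = Spec.map _ ≫ Spec.map _
  rw [Category.id_comp, ← Spec.map_comp, ← CommRingCat.ofHom_comp, ← IsScalarTower.algebraMap_eq]

theorem refined_uniq (p : X ⟶ (yon S).obj (Over.mk str)) (h : U ⟶ X) (hv : RefinedVC p h)
    {L : Type u} [Field L] [Algebra B L] (R : ValuationSubring L) [Algebra B R]
    [IsScalarTower B R L] (v : (yon S).obj (specOver str L) ⟶ U)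
    {r r' : (yon S).obj (specOver str R) ⟶ X} (hr : r ≫ p = (yon S).map (specHom str R))
    (hr' : r' ≫ p = (yon S).map (specHom str R))
    (e : v ≫ h = (yon S).map (specMap str (IsScalarTower.toAlgHom B R L)) ≫ r)
    (e' : v ≫ h = (yon S).map (specMap str (IsScalarTower.toAlgHom B R L)) ≫ r') : r = r' := by
  have hx : (v ≫ h) ≫ p = (yon S).map (specHom str L) := by
    rw [e, Category.assoc, hr, ← Functor.map_comp, specMap_comp_specHom]
  let w := respec (spec_alg_w (A := R) (K := L) str)
  let j : Over.mk (Spec.map (CommRingCat.ofHom (algebraMap R L)) ≫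
      Spec.map (CommRingCat.ofHom (algebraMap B R)) ≫ str) ⟶ specOver str R :=
    Over.homMk (Spec.map (CommRingCat.ofHom (algebraMap R L))) rfl
  have hj : w ≫ specMap str (IsScalarTower.toAlgHom B R L) = j :=
    Over.OverMorphism.ext (Category.id_comp _)
  refine (hv {
      A := R, K := L, str := Spec.map (CommRingCat.ofHom (algebraMap B R)) ≫ str,
      top := (yon S).map w ≫ v ≫ h, bot := (yon S).map (specHom str R),
      comm := specOver_comm str p R hx } ⟨(yon S).map w ≫ v, Category.assoc _ _ _⟩).1 r r' ?_ hr ?_ hr'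
  · show (yon S).map j ≫ r = _
    rw [← hj, Functor.map_comp, Category.assoc, ← e]
  · show (yon S).map j ≫ r' = _
    rw [← hj, Functor.map_comp, Category.assoc, ← e']

theorem refined_exists (p : X ⟶ (yon S).obj (Over.mk str)) (h : U ⟶ X) (hv : RefinedVC p h)
    {L : Type u} [Field L] [Algebra B L] (V : ValuationSubring L) [Algebra B V]
    [IsScalarTower B V L] (v : (yon S).obj (specOver str L) ⟶ U)
    (hx : (v ≫ h) ≫ p = (yon S).map (specHom str L)) :
    ∃ (L' : Type u) (_ : Field L') (_ : Algebra B L') (V' : ValuationSubring L') (_ : Algebra B V')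
      (_ : IsScalarTower B V' L') (ψ : L →ₐ[B] L') (hmem : ∀ x : V, ψ x ∈ V')
      (l : (yon S).obj (specOver str V') ⟶ X),
      IsLocalHom ((ψ.toRingHom.comp V.subtype).codRestrict V'.toSubring hmem) ∧
      l ≫ p = (yon S).map (specHom str V') ∧
      (yon S).map (specMap str (IsScalarTower.toAlgHom B V' L')) ≫ l =
        (yon S).map (specMap str ψ) ≫ v ≫ h := by
  let w := respec (spec_alg_w (A := V) (K := L) str)
  obtain ⟨e, l, h1, h2⟩ := (hv {
      A := V, K := L, str := Spec.map (CommRingCat.ofHom (algebraMap B V)) ≫ str,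
      top := (yon S).map w ≫ v ≫ h, bot := (yon S).map (specHom str V),
      comm := specOver_comm str p V hx } ⟨(yon S).map w ≫ v, Category.assoc _ _ _⟩).2
  obtain ⟨A', K', φ, ψ, hc, hloc⟩ := e
  rename_i _ _ _ _ _ _
  let V' : ValuationSubring K' :=
    { (algebraMap A' K').range with
      mem_or_inv_mem' := fun z => ValuationRing.isInteger_or_isInteger A' z }
  let eA : A' ≃+* V' := RingEquiv.ofBijective (algebraMap A' K').rangeRestrict
    ⟨fun x y hxy => IsFractionRing.injective A' K' (congrArg Subtype.val hxy),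
      (algebraMap A' K').rangeRestrict_surjective⟩
  letI : Algebra B A' := (φ.comp (algebraMap B V)).toAlgebra
  letI : Algebra B V' := (eA.toRingHom.comp (algebraMap B A')).toAlgebra
  letI : Algebra B K' := ((algebraMap A' K').comp (algebraMap B A')).toAlgebra
  have : IsScalarTower B V' K' := IsScalarTower.of_algebraMap_eq fun b => rfl
  have hc' : ∀ x : V, algebraMap A' K' (φ x) = ψ (x : L) := fun x => RingHom.congr_fun hc x
  let ψ' : L →ₐ[B] K' :=
    { ψ with
      commutes' := fun b => by
        show ψ (algebraMap B L b) = algebraMap A' K' (φ (algebraMap B V b))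
        rw [hc', IsScalarTower.algebraMap_apply B V L]
        rfl }
  let ε : A' →ₐ[B] V' := { eA.toRingHom with commutes' := fun b => rfl }
  let ε' : V' →ₐ[B] A' := { eA.symm.toRingHom with commutes' := fun b => eA.symm_apply_apply _ }
  let α : A' →ₐ[B] K' := { algebraMap A' K' with commutes' := fun b => rfl }
  have hA : Spec.map (CommRingCat.ofHom (algebraMap B A')) ≫ str =
      Spec.map (CommRingCat.ofHom φ) ≫ Spec.map (CommRingCat.ofHom (algebraMap B V)) ≫ str := by
    rw [← Spec.map_comp_assoc]
    rfl
  let l' : (yon S).obj (specOver str A') ⟶ X := (yon S).map (respec hA) ≫ l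
  have hl' : l' ≫ p = (yon S).map (specHom str A') := by
    rw [Category.assoc, h2, ← Functor.map_comp, ← Functor.map_comp]
    congr 1
    refine Over.OverMorphism.ext ?_
    show 𝟙 _ ≫ Spec.map _ ≫ Spec.map _ = Spec.map _
    rw [Category.id_comp, ← Spec.map_comp]
    rfl
  have hmem : ∀ x : V, ψ' x ∈ V' := fun x => show ψ x ∈ (algebraMap A' K').range from ⟨φ x, hc' x⟩
  refine ⟨K', inferInstance, inferInstance, V', inferInstance, inferInstance, ψ',
    hmem, (yon S).map (specMap str ε) ≫ l', ⟨fun x hx' => hloc.map_nonunit x ?_⟩, ?_, ?_⟩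
  · have e1 : eA (φ x) = ((ψ'.toRingHom.comp V.subtype).codRestrict V'.toSubring hmem) x :=
      Subtype.ext (hc' x)
    rw [← e1] at hx'
    exact (isUnit_map_iff eA _).1 hx'
  · rw [Category.assoc, hl', ← Functor.map_comp, specMap_comp_specHom]
  · have e2 : (IsScalarTower.toAlgHom B V' K').comp ε = α := AlgHom.ext fun _ => rfl
    rw [← Functor.map_comp_assoc, ← specMap_comp, e2]
    have hK : Spec.map (CommRingCat.ofHom (algebraMap B K')) ≫ str =
        Spec.map (CommRingCat.ofHom (algebraMap A' K')) ≫ Spec.map (CommRingCat.ofHom φ) ≫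
          Spec.map (CommRingCat.ofHom (algebraMap B V)) ≫ str := by
      rw [← hA, ← Spec.map_comp_assoc]
      rfl
    let jA : Over.mk (Spec.map (CommRingCat.ofHom (algebraMap A' K')) ≫
        Spec.map (CommRingCat.ofHom φ) ≫ Spec.map (CommRingCat.ofHom (algebraMap B V)) ≫ str) ⟶
        Over.mk (Spec.map (CommRingCat.ofHom φ) ≫
          Spec.map (CommRingCat.ofHom (algebraMap B V)) ≫ str) :=
      Over.homMk (Spec.map (CommRingCat.ofHom (algebraMap A' K'))) rfl
    let jψ : Over.mk (Spec.map (CommRingCat.ofHom (algebraMap A' K')) ≫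
        Spec.map (CommRingCat.ofHom φ) ≫ Spec.map (CommRingCat.ofHom (algebraMap B V)) ≫ str) ⟶
        Over.mk (Spec.map (CommRingCat.ofHom (algebraMap V L)) ≫
          Spec.map (CommRingCat.ofHom (algebraMap B V)) ≫ str) :=
      Over.homMk (Spec.map (CommRingCat.ofHom ψ))
        (psi_w (Spec.map (CommRingCat.ofHom (algebraMap B V)) ≫ str) hc)
    have h1' : (yon S).map jA ≫ l = (yon S).map jψ ≫ (yon S).map w ≫ v ≫ h := h1
    have eα : specMap str α ≫ respec hA = respec hK ≫ jA :=
      Over.OverMorphism.ext ((Category.comp_id (Spec.map (CommRingCat.ofHom (algebraMap A' K')))).trans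
        (Category.id_comp (Spec.map (CommRingCat.ofHom (algebraMap A' K')))).symm)
    have eψ : specMap str ψ' = respec hK ≫ jψ ≫ w :=
      Over.OverMorphism.ext ((Category.comp_id (Spec.map (CommRingCat.ofHom ψ))).symm.trans
        (Category.id_comp (Spec.map (CommRingCat.ofHom ψ) ≫ 𝟙 _)).symm)
    show (yon S).map (specMap str α) ≫ (yon S).map (respec hA) ≫ l = _
    rw [← Functor.map_comp_assoc, eα, eψ, Functor.map_comp, Functor.map_comp, Functor.map_comp,
      Category.assoc, Category.assoc, Category.assoc, h1']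

theorem exists_lift_of_refined (hX : IsAlgSpace X) (hU : IsAlgSpace U)
    (p : X ⟶ (yon S).obj (Over.mk str)) (h : U ⟶ X) (hq : IsQuasiCompactMor h)
    (hd : DenseRange (Points.map h)) (hv : RefinedVC p h)
    {A K : Type u} [CommRing A] [IsDomain A] [ValuationRing A] [Field K] [Algebra A K]
    [IsFractionRing A K] [Algebra B A] [Algebra B K] [IsScalarTower B A K]
    (a₀ : (yon S).obj (specOver str K) ⟶ X) (ha₀ : a₀ ≫ p = (yon S).map (specHom str K)) :
    ∃ (K' : Type u) (_ : Field K') (_ : Algebra B K') (A' : ValuationSubring K') (_ : Algebra B A')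
      (_ : IsScalarTower B A' K') (φ : A →ₐ[B] A') (ψ : K →ₐ[B] K')
      (l : (yon S).obj (specOver str A') ⟶ X),
      IsLocalHom φ.toRingHom ∧ (∀ a, (φ a : K') = ψ (algebraMap A K a)) ∧
      l ≫ p = (yon S).map (specHom str A') ∧
      (yon S).map (specMap str (IsScalarTower.toAlgHom B A' K')) ≫ l =
        (yon S).map (specMap str ψ) ≫ a₀ := by
  obtain ⟨L, _, _, R, _, _, π, r, v, hr, hvr, hπ⟩ := exists_valuation_point str hX hU h hq hd p a₀ ha₀
  obtain ⟨A₁, hA₁, hA₁loc⟩ := exists_factor_valuationRing (π.toRingHom.comp (algebraMap A K))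
  let V := composite R A₁
  have hBV : ∀ b, algebraMap B L b ∈ V := fun b => by
    have hb : algebraMap B L b ∈ R :=
      IsScalarTower.algebraMap_apply B R L b ▸ (algebraMap B R b).2
    refine mem_composite hb ?_
    have e : residue R ⟨algebraMap B L b, hb⟩ =
        π.toRingHom.comp (algebraMap A K) (algebraMap B A b) := by
      show _ = π (algebraMap A K (algebraMap B A b))
      rw [← IsScalarTower.algebraMap_apply, π.commutes]
      exact congrArg (residue R) (Subtype.ext (IsScalarTower.algebraMap_apply B R L b))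
    exact e ▸ hA₁ _
  letI : Algebra B V := ((algebraMap B L).codRestrict V.toSubring hBV).toAlgebra
  have : IsScalarTower B V L := IsScalarTower.of_algebraMap_eq fun b => rfl
  obtain ⟨L', _, _, V', _, _, ψL, hmem, l, hloc, hl, hlL⟩ := refined_exists str p h hv V v (by
    rw [hvr, Category.assoc, hr, ← Functor.map_comp, specMap_comp_specHom])
  obtain ⟨R', hR', hle', hR'loc⟩ :=
    exists_coarsening V R (composite_le R A₁) V' ψL.toRingHom hmem
  have hBR' : ∀ b, algebraMap B L' b ∈ R' := fun b => by
    rw [IsScalarTower.algebraMap_apply B V' L']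
    exact hle' (algebraMap B V' b).2
  letI : Algebra B R' := ((algebraMap B L').codRestrict R'.toSubring hBR').toAlgebra
  have : IsScalarTower B R' L' := IsScalarTower.of_algebraMap_eq fun b => rfl
  let ρ : R →ₐ[B] R' :=
    { (ψL.toRingHom.comp R.subtype).codRestrict R'.toSubring hR' with
      commutes' := fun b => Subtype.ext (by
        show ψL (algebraMap B R b : L) = algebraMap B L' b
        rw [← ψL.commutes, IsScalarTower.algebraMap_apply B R L]
        rfl) }
  have : IsLocalHom ρ.toRingHom := hR'loc
  let ic : V' →ₐ[B] R' :=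
    { Subring.inclusion (show V'.toSubring ≤ R'.toSubring from hle') with
      commutes' := fun b => Subtype.ext (IsScalarTower.algebraMap_apply B V' L' b).symm }
  -- the two extensions agree on the coarsening
  have key : (yon S).map (specMap str ρ) ≫ r = (yon S).map (specMap str ic) ≫ l := by
    refine refined_uniq str p h hv R' ((yon S).map (specMap str ψL) ≫ v)
      (by rw [Category.assoc, hr, ← Functor.map_comp, specMap_comp_specHom])
      (by rw [Category.assoc, hl, ← Functor.map_comp, specMap_comp_specHom]) ?_ ?_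
    · rw [Category.assoc, hvr, ← Functor.map_comp_assoc, ← Functor.map_comp_assoc, ← specMap_comp,
        ← specMap_comp]
      rfl
    · rw [Category.assoc, ← hlL, ← Functor.map_comp_assoc, ← specMap_comp]
      rfl
  -- pass to the residue field
  let ψR : ResidueField R →+* ResidueField R' := ResidueField.map ρ.toRingHom
  let κ := ResidueField R'
  let A' : ValuationSubring κ := residual V' R' hle'
  let q : V' →+* A' := ((residue R').comp
    (Subring.inclusion (show V'.toSubring ≤ R'.toSubring from hle'))).codRestrict A'.toSubring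
      fun x => residue_mem_residual hle' x
  letI : Algebra B A' := (q.comp (algebraMap B V')).toAlgebra
  have : IsScalarTower B A' κ := IsScalarTower.of_algebraMap_eq fun b =>
    (congrArg (residue R') (ic.commutes b)).symm
  let q' : V' →ₐ[B] A' := { q with commutes' := fun b => rfl }
  let ψ : K →ₐ[B] κ :=
    { ψR.comp π.toRingHom with
      commutes' := fun b => by
        show ψR (π (algebraMap B K b)) = algebraMap B κ b
        rw [π.commutes]
        exact (ResidueField.map_residue ρ.toRingHom _).trans (congrArg (residue R') (ρ.commutes b)) }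
  have hsrc : ∀ a : A, ∃ x : V, ψ (algebraMap A K a) = (q ⟨ψL x, hmem x⟩ : κ) ∧
      π (algebraMap A K a) = residue R ⟨x, composite_le R A₁ x.2⟩ := fun a => by
    obtain ⟨y, hy⟩ := residue_surjective (π (algebraMap A K a))
    have hyV : (y : L) ∈ V := mem_composite y.2 (by
      show residue R y ∈ A₁
      rw [hy]; exact hA₁ a)
    refine ⟨⟨y, hyV⟩, ?_, hy.symm⟩
    show ψR (π (algebraMap A K a)) = _
    rw [← hy]
    exact ResidueField.map_residue ρ.toRingHom y
  have hφmem : ∀ a, ψ (algebraMap A K a) ∈ A' := fun a => by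
    obtain ⟨x, hx, -⟩ := hsrc a
    rw [hx]
    exact (q _).2
  let φ : A →ₐ[B] A' :=
    { (ψ.toRingHom.comp (algebraMap A K)).codRestrict A'.toSubring hφmem with
      commutes' := fun b => Subtype.ext (by
        show ψ (algebraMap A K (algebraMap B A b)) = _
        rw [← IsScalarTower.algebraMap_apply, ψ.commutes, IsScalarTower.algebraMap_apply B A' κ]
        rfl) }
  refine ⟨κ, inferInstance, inferInstance, A', inferInstance, inferInstance, φ, ψ,
    (yon S).map (specMap str q') ≫ l, ⟨fun a ha => hA₁loc.map_nonunit a ?_⟩, fun _ => rfl, ?_, ?_⟩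
  · obtain ⟨x, hx, hπx⟩ := hsrc a
    have e : φ.toRingHom a = q ⟨ψL x, hmem x⟩ := Subtype.ext hx
    rw [e] at ha
    obtain ⟨z, hz⟩ := ha.exists_left_inv
    obtain ⟨z', hz'⟩ : ∃ z', q z' = z := by
      obtain ⟨z', hz'⟩ := z.2
      exact ⟨z', Subtype.ext hz'⟩
    rw [← hz', ← map_mul] at hz
    have h7 : IsUnit (z' * ⟨ψL x, hmem x⟩) := by
      by_contra hnu
      have h8 : IsUnit (1 - z' * ⟨ψL x, hmem x⟩) :=
        IsLocalRing.isUnit_one_sub_self_of_mem_nonunits _ hnu
      have h9 := h8.map (q : V' →+* A')
      rw [map_sub, map_one, hz, sub_self] at h9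
      exact h9.ne_zero rfl
    have h10 : IsUnit x := hloc.map_nonunit x (IsUnit.mul_iff.1 h7).2
    have h11 : IsUnit (⟨residue R ⟨x, composite_le R A₁ x.2⟩, residue_mem_composite x⟩ : A₁) :=
      h10.map (((residue R).comp (Subring.inclusion
        (show V.toSubring ≤ R.toSubring from composite_le R A₁))).codRestrict A₁.toSubring
          fun y => residue_mem_composite y)
    have e13 : (π.toRingHom.comp (algebraMap A K)).codRestrict A₁.toSubring hA₁ a =
        (⟨residue R ⟨x, composite_le R A₁ x.2⟩, residue_mem_composite x⟩ : A₁) := Subtype.ext hπx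
    rw [e13]
    exact h11
  · rw [Category.assoc, hl, ← Functor.map_comp, specMap_comp_specHom]
  · rw [← Functor.map_comp_assoc, ← specMap_comp]
    have e1 : (IsScalarTower.toAlgHom B A' κ).comp q' =
        (IsScalarTower.toAlgHom B R' κ).comp ic := AlgHom.ext fun _ => rfl
    rw [e1, specMap_comp, Functor.map_comp, Category.assoc, ← key]
    let ψR' : ResidueField R →ₐ[B] κ :=
      { ψR with
        commutes' := fun b => (ResidueField.map_residue ρ.toRingHom _).trans
          (congrArg (residue R') (ρ.commutes b)) }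
    have e2 : ψ = ψR'.comp π := AlgHom.ext fun _ => rfl
    have e3 : (IsScalarTower.toAlgHom B R' κ).comp ρ =
        ψR'.comp (IsScalarTower.toAlgHom B R (ResidueField R)) :=
      AlgHom.ext fun y => (ResidueField.map_residue ρ.toRingHom y).symm
    rw [e2, specMap_comp, Functor.map_comp, Category.assoc, hπ, ← Functor.map_comp_assoc,
      ← Functor.map_comp_assoc, ← specMap_comp, ← specMap_comp, e3]

end Groth.Agent.AlgSpLib
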