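import Groth.Agent.AlgSpLib.ValuativeRefined
import Groth.Agent.AlgSpLib.MonoLft
import Groth.Agent.AlgSpLib.EtLocalInst

/-!
The refined valuative criterion for universal closedness and separatedness.
-/

universe u

open CategoryTheory CategoryTheory.Limits AlgebraicGeometry AlgSp IsLocalRing Topology

set_option backward.isDefEq.respectTransparency.types false

namespace Groth.Agent.AlgSpLib

variable {S : Scheme.{u}} {F G F' G' U U' : Sp S}

theorem hasLiftExt_raw {f : F ⟶ G} {A : Type u} [CommRing A] [IsDomain A] [ValuationRing A]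
    {K : Type u} [Field K] [Algebra A K] [IsFractionRing A K]
    {str : Spec (CommRingCat.of A) ⟶ S}
    {top : (yon S).obj (Over.mk (Spec.map (CommRingCat.ofHom (algebraMap A K)) ≫ str)) ⟶ F}
    {bot : (yon S).obj (Over.mk str) ⟶ G}
    {comm : top ≫ f = (yon S).map (Over.homMk (Spec.map (CommRingCat.ofHom (algebraMap A K))) rfl :
      Over.mk (Spec.map (CommRingCat.ofHom (algebraMap A K)) ≫ str) ⟶ Over.mk str) ≫ bot}
    (h : ({ A := A, K := K, str := str, top := top, bot := bot, comm := comm } : ValSq f).HasLiftExt) :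
    ∃ (A' : Type u) (_ : CommRing A') (_ : IsDomain A') (_ : ValuationRing A') (K' : Type u)
      (_ : Field K') (_ : Algebra A' K') (_ : IsFractionRing A' K') (φ : A →+* A') (ψ : K →+* K')
      (hc : (algebraMap A' K').comp φ = ψ.comp (algebraMap A K)) (_ : IsLocalHom φ)
      (l : (yon S).obj (Over.mk (Spec.map (CommRingCat.ofHom φ) ≫ str)) ⟶ F),
      (yon S).map (Over.homMk (Spec.map (CommRingCat.ofHom (algebraMap A' K'))) rfl :
        Over.mk (Spec.map (CommRingCat.ofHom (algebraMap A' K')) ≫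
          Spec.map (CommRingCat.ofHom φ) ≫ str) ⟶ Over.mk (Spec.map (CommRingCat.ofHom φ) ≫ str)) ≫ l =
        (yon S).map (Over.homMk (Spec.map (CommRingCat.ofHom ψ)) (psi_w str hc) :
          Over.mk (Spec.map (CommRingCat.ofHom (algebraMap A' K')) ≫
            Spec.map (CommRingCat.ofHom φ) ≫ str) ⟶
          Over.mk (Spec.map (CommRingCat.ofHom (algebraMap A K)) ≫ str)) ≫ top ∧
      l ≫ f = (yon S).map (Over.homMk (Spec.map (CommRingCat.ofHom φ)) rfl :
        Over.mk (Spec.map (CommRingCat.ofHom φ) ≫ str) ⟶ Over.mk str) ≫ bot := by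
  obtain ⟨e, l, h1, h2⟩ := h
  exact ⟨e.A', e.commRing, e.isDomain, e.valuationRing, e.K', e.field, e.algebra, e.isFractionRing,
    e.φ, e.ψ, e.comm, e.isLocalHom, l, h1, h2⟩

theorem refinedVC_of_isPullback {f : F ⟶ G} {g : G' ⟶ G} {fst : F' ⟶ F} {f' : F' ⟶ G'}
    (sqP : IsPullback fst f' f g) {h : U ⟶ F} {h' : U' ⟶ F'} {π : U' ⟶ U}
    (hπ : h' ≫ fst = π ≫ h) (hv : RefinedVC f h) : RefinedVC f' h' := by
  rintro sq ⟨t, ht⟩
  have hsq := hv
    { A := sq.A, K := sq.K, str := sq.str, top := sq.top ≫ fst, bot := sq.bot ≫ g,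
      comm := (comm_push sqP.w sq.comm).trans (Category.assoc _ _ _) }
    ⟨t ≫ π, ((Category.assoc _ _ _).trans (congrArg (t ≫ ·) hπ.symm)).trans
      ((Category.assoc _ _ _).symm.trans (congrArg (· ≫ fst) ht))⟩
  refine ⟨fun l l' h1 h2 h1' h2' => ?_, ?_⟩
  · exact sqP.hom_ext (hsq.1 (l ≫ fst) (l' ≫ fst)
      ((Category.assoc _ _ _).symm.trans (congrArg (· ≫ fst) h1)) (comm_push sqP.w h2)
      ((Category.assoc _ _ _).symm.trans (congrArg (· ≫ fst) h1')) (comm_push sqP.w h2'))
      (h2.trans h2'.symm)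
  · obtain ⟨A', _, _, _, K', _, _, _, φ, ψ, hc, hloc, l, h1, h2⟩ := hasLiftExt_raw hsq.2
    obtain ⟨m, hm₁, hm₂⟩ := sqP.exists_lift l
      ((yon S).map (Over.homMk (Spec.map (CommRingCat.ofHom φ)) rfl :
        Over.mk (Spec.map (CommRingCat.ofHom φ) ≫ sq.str) ⟶ sq.ptA) ≫ sq.bot)
      (h2.trans (Category.assoc _ _ _).symm)
    refine ⟨{ A' := A', K' := K', φ := φ, ψ := ψ, comm := hc, isLocalHom := hloc }, m,
      sqP.hom_ext ?_ ?_, hm₂⟩
    · rw [Category.assoc, hm₁, Category.assoc]
      exact h1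
    · rw [Category.assoc, hm₂, Category.assoc, sq.comm, ← Functor.map_comp_assoc,
        ← Functor.map_comp_assoc]
      congr 2
      refine Over.OverMorphism.ext ?_
      show Spec.map _ ≫ Spec.map _ = Spec.map _ ≫ Spec.map _
      rw [← Spec.map_comp, ← Spec.map_comp, ← CommRingCat.ofHom_comp, ← CommRingCat.ofHom_comp, hc]

theorem existVC_baseChange_of_refinedLocal {X Y : Sp S} (hX : IsAlgSpace X) (hY : IsAlgSpace Y)
    (hU : IsAlgSpace U) {f : X ⟶ Y} (h : U ⟶ X) (hq : IsQuasiCompactMor h)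
    (hd : DenseRange (Points.map h))
    (hv : ∀ (B : Type u) [CommRing B] (str : Spec (CommRingCat.of B) ⟶ S)
      (g : (yon S).obj (Over.mk str) ⟶ Y), RepWith @Etale g →
      RefinedVC (pullback.snd f g) (pullback.snd h (pullback.fst f g))) {V : Over S} (q : (yon S).obj V ⟶ Y)
    (hqe : RepWith @Etale q) {P : Sp S} {fst : P ⟶ X} {snd : P ⟶ (yon S).obj V}
    (sqP : IsPullback fst snd f q) : ExistVC snd := by
  intro sq
  obtain ⟨g, hg⟩ := (yon S).map_surjective sq.bot
  obtain ⟨_, ⟨V₀, hV₀, rfl⟩, hc₀, -⟩ := V.left.isBasis_affineOpens.exists_subset_of_mem_open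
    (Set.mem_univ (g.left (closedPoint sq.A))) isOpen_univ
  let jV : Spec Γ(V.left, V₀) ⟶ V.left := IsAffineOpen.fromSpec hV₀
  have hrange : Set.range g.left ⊆ Set.range jV := by
    rintro _ ⟨a, rfl⟩
    rw [IsAffineOpen.range_fromSpec]
    exact ((specializes_closedPoint (R := sq.A) a).map g.left.continuous).mem_open V₀.2 hc₀
  let B : Type u := Γ(V.left, V₀)
  let str : Spec (CommRingCat.of B) ⟶ S := jV ≫ V.hom
  let jO : Over.mk str ⟶ V := Over.homMk jV rfl
  obtain ⟨θ, hθ⟩ := Spec.map_surjective (IsOpenImmersion.lift jV g.left hrange)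
  letI : Algebra B sq.A := θ.hom.toAlgebra
  letI : Algebra B sq.K := ((algebraMap sq.A sq.K).comp θ.hom).toAlgebra
  have : IsScalarTower B sq.A sq.K := IsScalarTower.of_algebraMap_eq fun _ => rfl
  have hθ' : Spec.map θ ≫ jV = g.left := by rw [hθ, IsOpenImmersion.lift_fac]
  have hstr : Spec.map θ ≫ str = sq.str := by
    show Spec.map θ ≫ jV ≫ V.hom = _
    rw [← Category.assoc, hθ']
    exact Over.w g
  -- the restriction to the affine piece
  have sq0 := IsPullback.of_hasPullback f ((yon S).map jO ≫ q)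
  have hG0 : RepWith @Etale ((yon S).map jO ≫ q) := RepWith.comp ((repWith_yon_map_iff @Etale jO).2
    (inferInstanceAs (Etale jV))) hqe
  have hX₀ : IsAlgSpace (pullback f ((yon S).map jO ≫ q)) :=
    isAlgSpace_of_isPullback hY.diag hX (IsAlgSpace.yon_obj _) sq0
  have hopen : IsOpenMap (Points.map (pullback.fst f ((yon S).map jO ≫ q))) :=
    isUnivOpenMor_of_flat_lfp (IsAlgSpace.yon_obj _) hY
      (locP_of_repWith etLocal_flat (IsAlgSpace.yon_obj _) (RepWith.mono etLocal_flat.of_etale hG0))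
      (locP_of_repWith etLocal_lfp (IsAlgSpace.yon_obj _) (RepWith.mono etLocal_lfp.of_etale hG0))
      hX f _ _ sq0.flip
  have sqU := IsPullback.of_hasPullback h (pullback.fst f ((yon S).map jO ≫ q))
  have hU₀ := isAlgSpace_of_isPullback hX.diag hU hX₀ sqU
  have hq₀ := isQuasiCompactMor_of_isPullback hU hX hX₀ sqU hq
  have hd₀ : DenseRange (Points.map (pullback.snd h (pullback.fst f ((yon S).map jO ≫ q)))) := by
    refine dense_iff_closure_eq.2 ?_
    rw [← Set.image_univ, ← Set.preimage_univ (f := Points.map (pullback.fst h _)),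
      ← preimage_map_image sqU, Set.image_univ,
      ← hopen.preimage_closure_eq_closure_preimage (Points.continuous_map _), hd.closure_range,
      Set.preimage_univ]
  have hv₀ : RefinedVC (pullback.snd f ((yon S).map jO ≫ q))
      (pullback.snd h (pullback.fst f ((yon S).map jO ≫ q))) :=
    hv B str _ hG0
  -- the point
  have hK : Spec.map (CommRingCat.ofHom (algebraMap B sq.K)) ≫ str =
      Spec.map (CommRingCat.ofHom (algebraMap sq.A sq.K)) ≫ sq.str := by
    rw [← hstr, ← Spec.map_comp_assoc]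
    rfl
  have hK' : (respec hK ≫ sq.j) ≫ g = specHom str sq.K ≫ jO := by
    refine Over.OverMorphism.ext ?_
    show (𝟙 _ ≫ Spec.map _) ≫ g.left = Spec.map _ ≫ jV
    rw [Category.id_comp, ← hθ', ← Spec.map_comp_assoc]
    rfl
  obtain ⟨a₀, ha₁, ha₂⟩ := sq0.exists_lift ((yon S).map (respec hK) ≫ sq.top ≫ fst)
    ((yon S).map (specHom str sq.K)) (by
      rw [Category.assoc, Category.assoc, sqP.w, ← Category.assoc sq.top, sq.comm, ← hg,
        ← Functor.map_comp, ← Functor.map_comp_assoc, ← Functor.map_comp_assoc,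
        ← Category.assoc (respec hK), hK'])
  obtain ⟨K', _, _, A', _, _, φ, ψ, l, hloc, hc, hl, hlK⟩ :=
    exists_lift_of_refined (A := sq.A) (K := sq.K) str hX₀ hU₀ _ _ hq₀ hd₀ hv₀ a₀ ha₂
  obtain ⟨m, hm₁, hm₂⟩ := sqP.exists_lift (l ≫ pullback.fst f ((yon S).map jO ≫ q))
    ((yon S).map (specHom str A' ≫ jO)) (by
      rw [Category.assoc, sq0.w, ← Category.assoc, hl, ← Functor.map_comp_assoc])
  have ht : Spec.map (CommRingCat.ofHom φ.toRingHom) ≫ sq.str =
      Spec.map (CommRingCat.ofHom (algebraMap B A')) ≫ str := by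
    rw [← hstr, ← Spec.map_comp_assoc]
    congr 2
    ext b
    exact congrArg Subtype.val (φ.commutes b)
  refine hasLiftExt_mk sq A' K' φ.toRingHom ψ.toRingHom (RingHom.ext hc) hloc _ ht m ?_ ?_
  · have hK2 : Spec.map (CommRingCat.ofHom (algebraMap A' K')) ≫
        Spec.map (CommRingCat.ofHom (algebraMap B A')) ≫ str =
        Spec.map (CommRingCat.ofHom (algebraMap B K')) ≫ str := spec_alg_w str
    refine sqP.hom_ext ?_ ?_
    · rw [Category.assoc, hm₁, Category.assoc]
      have h3 := congrArg (fun k => (yon S).map (respec hK2) ≫ k ≫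
        pullback.fst f ((yon S).map jO ≫ q)) hlK
      simp only [Category.assoc] at h3
      rw [ha₁, ← Functor.map_comp_assoc, ← Functor.map_comp_assoc, ← Functor.map_comp_assoc] at h3
      refine (congrArg (fun k => (yon S).map k ≫ l ≫ pullback.fst f ((yon S).map jO ≫ q))
        (Over.OverMorphism.ext (Category.id_comp
          (Spec.map (CommRingCat.ofHom (algebraMap A' K')))).symm)).trans (h3.trans ?_)
      exact congrArg (fun k => (yon S).map k ≫ sq.top ≫ fst) (Over.OverMorphism.ext
        ((congrArg (· ≫ 𝟙 _) (Category.id_comp (Spec.map (CommRingCat.ofHom ψ.toRingHom)))).trans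
          (Category.comp_id _)))
    · rw [Category.assoc, hm₂, Category.assoc, sq.comm, ← hg, ← Functor.map_comp,
        ← Functor.map_comp, ← Functor.map_comp]
      refine congrArg _ (Over.OverMorphism.ext ?_)
      show Spec.map _ ≫ Spec.map _ ≫ jV = Spec.map _ ≫ Spec.map _ ≫ g.left
      rw [← hθ', ← Spec.map_comp_assoc, ← Spec.map_comp_assoc, ← Spec.map_comp_assoc]
      congr 2
      ext b
      show algebraMap A' K' (algebraMap B A' b) = ψ (algebraMap sq.A sq.K (algebraMap B sq.A b))
      rw [← IsScalarTower.algebraMap_apply, ← IsScalarTower.algebraMap_apply, ψ.commutes]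
  · rw [hm₂, ← hg, ← Functor.map_comp]
    refine congrArg _ (Over.OverMorphism.ext ?_)
    show Spec.map _ ≫ jV = Spec.map _ ≫ g.left
    rw [← hθ', ← Spec.map_comp_assoc]
    congr 2
    ext b
    exact (congrArg Subtype.val (φ.commutes b)).symm

theorem existVC_baseChange_of_refined {X Y : Sp S} (hX : IsAlgSpace X) (hY : IsAlgSpace Y)
    (hU : IsAlgSpace U) {f : X ⟶ Y} (h : U ⟶ X) (hq : IsQuasiCompactMor h)
    (hd : DenseRange (Points.map h)) (hv : RefinedVC f h) {V : Over S} (q : (yon S).obj V ⟶ Y)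
    (hqe : RepWith @Etale q) {P : Sp S} {fst : P ⟶ X} {snd : P ⟶ (yon S).obj V}
    (sqP : IsPullback fst snd f q) : ExistVC snd :=
  existVC_baseChange_of_refinedLocal hX hY hU h hq hd (fun B _ str g _ =>
    refinedVC_of_isPullback (IsPullback.of_hasPullback f g)
      (IsPullback.of_hasPullback h (pullback.fst f g)).w.symm hv) q hqe sqP

/-- universal closedness from the refined criterion on affine etale pieces of the target -/
theorem isUnivClosedMor_of_refinedLocal {X Y : Sp S} (hX : IsAlgSpace X) (hY : IsAlgSpace Y)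
    (hU : IsAlgSpace U) {f : X ⟶ Y} (hf : IsQuasiCompactMor f) (h : U ⟶ X)
    (hq : IsQuasiCompactMor h) (hd : DenseRange (Points.map h))
    (hv : ∀ (B : Type u) [CommRing B] (str : Spec (CommRingCat.of B) ⟶ S)
      (g : (yon S).obj (Over.mk str) ⟶ Y), RepWith @Etale g →
      RefinedVC (pullback.snd f g) (pullback.snd h (pullback.fst f g))) : IsUnivClosedMor f := by
  obtain ⟨V, q, hqe, hqs⟩ := hY.atlas
  have sqP := IsPullback.of_hasPullback f q
  exact isUnivClosedMor_of_cover hX hY q hqe hqs sqP (isUnivClosedMor_of_existVC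
    (isAlgSpace_of_isPullback hY.diag hX (IsAlgSpace.yon_obj V) sqP) (IsAlgSpace.yon_obj V)
    (isQuasiCompactMor_of_isPullback hX hY (IsAlgSpace.yon_obj V) sqP hf)
    (existVC_baseChange_of_refinedLocal hX hY hU h hq hd hv q hqe sqP))

/-- universal closedness from the refined criterion -/
theorem isUnivClosedMor_of_refinedVC {X Y : Sp S} (hX : IsAlgSpace X) (hY : IsAlgSpace Y)
    (hU : IsAlgSpace U) {f : X ⟶ Y} (hf : IsQuasiCompactMor f) (h : U ⟶ X)
    (hq : IsQuasiCompactMor h) (hd : DenseRange (Points.map h)) (hv : RefinedVC f h) :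
    IsUnivClosedMor f := by
  obtain ⟨V, q, hqe, hqs⟩ := hY.atlas
  have sqP := IsPullback.of_hasPullback f q
  exact isUnivClosedMor_of_cover hX hY q hqe hqs sqP (isUnivClosedMor_of_existVC
    (isAlgSpace_of_isPullback hY.diag hX (IsAlgSpace.yon_obj V) sqP) (IsAlgSpace.yon_obj V)
    (isQuasiCompactMor_of_isPullback hX hY (IsAlgSpace.yon_obj V) sqP hf)
    (existVC_baseChange_of_refined hX hY hU h hq hd hv q hqe sqP))

/-- separatedness from uniqueness of lifts of squares from a dense source -/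
theorem isSeparatedMor_of_refinedUniq {X Y : Sp S} (hX : IsAlgSpace X) (hY : IsAlgSpace Y)
    (hU : IsAlgSpace U) {f : X ⟶ Y} (hqs : IsQuasiSeparatedMor f) (h : U ⟶ X)
    (hq : IsQuasiCompactMor h) (hd : DenseRange (Points.map h))
    (hv : ∀ sq : ValSq f, (∃ t : (yon S).obj sq.ptK ⟶ U, t ≫ h = sq.top) → sq.HasUniq) :
    IsSeparatedMor f := by
  have sqF := IsPullback.of_hasPullback f f
  have hXX : IsAlgSpace (pullback f f) := isAlgSpace_of_isPullback hY.diag hX hX sqF
  have hrep := representable_diagonal hX f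
  refine closedImmersion_of_univClosed_mono_lft hX hXX ?_
    (locP_of_repWith etLocal_lft hX (repWith_diagonal f (repWith_diag_lft hX)))
  refine isUnivClosedMor_of_refinedVC hX hXX hU ((repWith_quasiCompact_iff hX hXX hrep).1 hqs) h hq hd ?_
  rintro sq ⟨t, ht⟩
  have h1 : (yon S).map sq.j ≫ sq.bot ≫ pullback.fst f f = sq.top := by
    rw [← Category.assoc, ← sq.comm, Category.assoc, pullback.diagonal_fst, Category.comp_id]
  have h2 : (yon S).map sq.j ≫ sq.bot ≫ pullback.snd f f = sq.top := by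
    rw [← Category.assoc, ← sq.comm, Category.assoc, pullback.diagonal_snd, Category.comp_id]
  have hw : (sq.bot ≫ pullback.fst f f) ≫ f = (sq.bot ≫ pullback.snd f f) ≫ f := by
    rw [Category.assoc, Category.assoc, pullback.condition]
  have e : sq.bot ≫ pullback.fst f f = sq.bot ≫ pullback.snd f f :=
    hv { A := sq.A, K := sq.K, str := sq.str, top := sq.top, bot := (sq.bot ≫ pullback.fst f f) ≫ f,
         comm := (congrArg (· ≫ f) h1.symm).trans (Category.assoc _ _ _) }
      ⟨t, ht⟩ _ _ h1 rfl h2 hw.symm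
  refine ⟨fun l l' a1 a2 b1 b2 => ?_, ?_⟩
  · rw [← cancel_mono (pullback.diagonal f), a2, b2]
  · let l := sq.bot ≫ pullback.fst f f
    have hl : l ≫ pullback.diagonal f = sq.bot := by
      apply pullback.hom_ext
      · rw [Category.assoc, pullback.diagonal_fst, Category.comp_id]
      · rw [Category.assoc, pullback.diagonal_snd, Category.comp_id]; exact e
    refine hasLiftExt_mk sq sq.A sq.K (RingHom.id _) (RingHom.id _) rfl ⟨fun _ h => h⟩ sq.str
      (by rw [CommRingCat.ofHom_id, Spec.map_id, Category.id_comp]) l ?_ ?_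
    · refine h1.trans ?_
      conv_lhs => rw [← Category.id_comp sq.top, ← (yon S).map_id]
      refine congrArg (fun k => (yon S).map k ≫ sq.top) (Over.OverMorphism.ext ?_)
      exact (Spec.map_id _).symm
    · refine hl.trans ?_
      conv_lhs => rw [← Category.id_comp sq.bot, ← (yon S).map_id]
      refine congrArg (fun k => (yon S).map k ≫ sq.bot) (Over.OverMorphism.ext ?_)
      exact (Spec.map_id _).symm

end Groth.Agent.AlgSpLib
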