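import Groth.Agent.AlgSpLib.ValuationCompose
import Groth.Agent.AlgSpLib.ValuativeClosed
import Groth.Agent.AlgSpLib.PointsCompact

/-!
Every point of a space with a quasi-compact dense morphism to it is, after a field extension, the
closed point of a valuation ring whose generic point comes from the source.
-/

universe u

open CategoryTheory CategoryTheory.Limits AlgebraicGeometry AlgSp IsLocalRing Topology

set_option backward.isDefEq.respectTransparency.types false

namespace Groth.Agent.AlgSpLib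

variable {S : Scheme.{u}} {B : Type u} [CommRing B] (str : Spec (CommRingCat.of B) ⟶ S)

/-- an affine chart over an affine base in the form `specOver` -/
theorem exists_specOver_model {X : Sp S} (p : X ⟶ (yon S).obj (Over.mk str)) (W : Over S)
    [IsAffine W.left] (a : (yon S).obj W ⟶ X) :
    ∃ (C : Type u) (_ : CommRing C) (_ : Algebra B C) (i : specOver str C ≅ W),
      ((yon S).map i.hom ≫ a) ≫ p = (yon S).map (specHom str C) := by
  obtain ⟨φ, hφ⟩ := Spec.map_surjective (W.left.isoSpec.inv ≫ ((yon S).preimage (a ≫ p)).left)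
  let C : Type u := Γ(W.left, ⊤)
  algebraize [(φ.hom : B →+* C)]
  let i : specOver str C ≅ W := Over.isoMk W.left.isoSpec.symm (by
    show W.left.isoSpec.inv ≫ W.hom = Spec.map φ ≫ str
    rw [hφ, Category.assoc]
    exact congrArg (W.left.isoSpec.inv ≫ ·) (Over.w ((yon S).preimage (a ≫ p))).symm)
  refine ⟨C, inferInstance, inferInstance, i, ?_⟩
  rw [show specHom str C = i.hom ≫ (yon S).preimage (a ≫ p) from Over.OverMorphism.ext hφ,
    Functor.map_comp, Functor.map_preimage, Category.assoc]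

theorem exists_valuation_point {X U : Sp S} (hX : IsAlgSpace X) (hU : IsAlgSpace U) (h : U ⟶ X)
    (hq : IsQuasiCompactMor h) (hd : DenseRange (Points.map h))
    (p : X ⟶ (yon S).obj (Over.mk str)) {K : Type u} [Field K] [Algebra B K]
    (a₀ : (yon S).obj (specOver str K) ⟶ X) (ha₀ : a₀ ≫ p = (yon S).map (specHom str K)) :
    ∃ (L : Type u) (_ : Field L) (_ : Algebra B L) (R : ValuationSubring L) (_ : Algebra B R)
      (_ : IsScalarTower B R L) (π : K →ₐ[B] ResidueField R)
      (r : (yon S).obj (specOver str R) ⟶ X) (v : (yon S).obj (specOver str L) ⟶ U),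
      r ≫ p = (yon S).map (specHom str R) ∧
      v ≫ h = (yon S).map (specMap str (IsScalarTower.toAlgHom B R L)) ≫ r ∧
      (yon S).map (specMap str π) ≫ a₀ =
        (yon S).map (specMap str (IsScalarTower.toAlgHom B R (ResidueField R))) ≫ r := by
  -- an affine chart at the point
  obtain ⟨U₀, a, hae, has⟩ := hX.atlas
  obtain ⟨u₀, hu₀⟩ := surjective_ofPt a has (ptOfHom a₀)
  obtain ⟨_, ⟨W₀, hW₀, rfl⟩, hu₀W, -⟩ :=
    U₀.left.isBasis_affineOpens.exists_subset_of_mem_open (Set.mem_univ u₀) isOpen_univ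
  let W₀ : U₀.left.Opens := W₀
  let W : Over S := Over.mk (W₀.ι ≫ U₀.hom)
  let iW : W ⟶ U₀ := Over.homMk W₀.ι rfl
  have : IsAffine W.left := hW₀
  have haW : RepWith @Etale ((yon S).map iW ≫ a) :=
    RepWith.comp ((repWith_yon_map_iff @Etale iW).2 (inferInstance : Etale W₀.ι)) hae
  obtain ⟨C, _, _, i, hi⟩ := exists_specOver_model str p W ((yon S).map iW ≫ a)
  let aC₀ : (yon S).obj (specOver str C) ⟶ X := (yon S).map i.hom ≫ (yon S).map iW ≫ a
  have haC : RepWith @Etale aC₀ := RepWith.comp ((repWith_yon_map_iff @Etale i.hom).2 (by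
    have : IsIso i.hom.left := inferInstanceAs (IsIso ((Over.forget S).map i.hom))
    infer_instance)) haW
  obtain ⟨c₀, hc₀⟩ : ∃ c : ↥(specOver str C).left, Points.ofPt aC₀ c = ptOfHom a₀ := by
    refine ⟨i.inv.left ⟨u₀, hu₀W⟩, ?_⟩
    rw [ofPt_map, ofPt_map, show i.hom.left (i.inv.left ⟨u₀, hu₀W⟩) = ⟨u₀, hu₀W⟩ from by
      show (i.inv ≫ i.hom).left ⟨u₀, hu₀W⟩ = _
      rw [i.inv_hom_id]; rfl]
    exact hu₀
  obtain ⟨aC, hi', haC, hc₀⟩ : ∃ aC : (yon S).obj (specOver str C) ⟶ X,
      aC ≫ p = (yon S).map (specHom str C) ∧ RepWith @Etale aC ∧ Points.ofPt aC c₀ = ptOfHom a₀ :=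
    ⟨aC₀, hi, haC, hc₀⟩
  -- the base change of `h` to the chart
  have sqW := IsPullback.of_hasPullback h aC
  have : CompactSpace ↥(specOver str C).left := inferInstanceAs (CompactSpace ↥(Spec (.of C)))
  have := compactSpace_of_isQuasiCompactMor hq sqW
  have hP : IsAlgSpace (pullback h aC) :=
    isAlgSpace_of_isPullback hX.diag hU (IsAlgSpace.yon_obj _) sqW
  obtain ⟨W₁, b, hW₁, -, hbs⟩ := exists_affine_chart hP
  obtain ⟨D, _, _, j, hj⟩ := exists_specOver_model str
    (pullback.snd h aC ≫ (yon S).map (specHom str C)) W₁ b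
  let bD₀ : (yon S).obj (specOver str D) ⟶ pullback h aC := (yon S).map j.hom ≫ b
  have hbDs : RepWith @Surjective bD₀ := RepWith.comp ((repWith_yon_map_iff @Surjective j.hom).2 (by
    have : IsIso j.hom.left := inferInstanceAs (IsIso ((Over.forget S).map j.hom))
    infer_instance)) hbs
  obtain ⟨bD, hj', hbDs⟩ : ∃ bD : (yon S).obj (specOver str D) ⟶ pullback h aC,
      bD ≫ pullback.snd h aC ≫ (yon S).map (specHom str C) = (yon S).map (specHom str D) ∧
        RepWith @Surjective bD :=
    ⟨bD₀, hj, hbDs⟩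
  obtain ⟨k, hk⟩ := (yon S).map_surjective (bD ≫ pullback.snd h aC)
  obtain ⟨γ, rfl⟩ := exists_specMap str k ((yon S).map_injective (by
    rw [Functor.map_comp, hk, Category.assoc]
    exact hj'))
  have hrange : Points.ofPt aC ⁻¹' Set.range (Points.map h) ⊆
      Set.range (PrimeSpectrum.comap γ.toRingHom) := by
    rintro c ⟨x, hx⟩
    rw [Points.ofPt_eq_map_ofScheme] at hx
    obtain ⟨z, -, hz⟩ := exists_point_of_isPullback sqW hx
    obtain ⟨d, rfl⟩ := surjective_ofPt bD hbDs z
    refine ⟨d, ?_⟩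
    have h1 : Points.ofScheme (specOver str C) ((specMap str γ).left d) = Points.ofScheme _ c := by
      rw [← map_yon_map_ofScheme, hk, ← Points.ofPt_eq_map_ofScheme, ← Points.map_ofPt]
      exact hz
    exact (Points.schemeEquiv _).injective h1
  -- a common field over the point
  obtain ⟨Ω, _, w, iΩ, jΩ, hΩ⟩ := (ptOfHom_eq_iff _ _).1
    ((ofPt_eq_ptOfHom aC c₀).symm.trans hc₀)
  obtain ⟨ψ₀, hψ₀⟩ := Spec.map_surjective jΩ.left
  algebraize [((ψ₀.hom : K →+* Ω).comp (algebraMap B K))]
  have hw : Spec.map (CommRingCat.ofHom (algebraMap B Ω)) ≫ str = w := by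
    have h6 : jΩ.left ≫ Spec.map (CommRingCat.ofHom (algebraMap B K)) ≫ str = w := Over.w jΩ
    rw [← hψ₀, ← Spec.map_comp_assoc] at h6
    exact h6
  let eΩ : specOver str Ω ⟶ Over.mk w := respec hw
  let ψ : K →ₐ[B] Ω := { ψ₀.hom with commutes' := fun _ => rfl }
  have hψ : specMap str ψ = eΩ ≫ jΩ :=
    Over.OverMorphism.ext (hψ₀.trans (Category.id_comp _).symm)
  let tC : specOver str Ω ⟶ specOver str C :=
    eΩ ≫ iΩ ≫ Over.homMk ((specOver str C).left.fromSpecResidueField c₀) rfl
  have htC : (yon S).map tC ≫ aC = (yon S).map (specMap str ψ) ≫ a₀ := by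
    have h2 := congrArg ((yon S).map eΩ ≫ ·) hΩ
    simp only [← Category.assoc, ← Functor.map_comp] at h2
    simp only [tC, hψ, Functor.map_comp, Category.assoc] at h2 ⊢
    exact h2
  obtain ⟨g, hg⟩ := exists_specMap str tC ((yon S).map_injective (by
    rw [Functor.map_comp, ← hi', ← Category.assoc, htC, Category.assoc, ha₀, ← Functor.map_comp,
      specMap_comp_specHom]))
  let 𝔭 : PrimeSpectrum C := ⟨RingHom.ker g.toRingHom, RingHom.ker_isPrime _⟩
  have hc : Points.ofPt aC (show ↥(specOver str C).left from 𝔭) = ptOfHom a₀ := by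
    have e : 𝔭 = (specMap str g).left (closedPoint Ω) := PrimeSpectrum.ext (by
      show RingHom.ker g.toRingHom = (closedPoint Ω).asIdeal.comap g.toRingHom
      rw [RingHom.ker_eq_comap_bot]
      exact congrArg _ (IsLocalRing.maximalIdeal_eq_bot (R := Ω)).symm)
    rw [e, ← ofPt_map, ← hg, htC, ofPt_eq_of_field, ptOfHom_map]
  have hmem : 𝔭 ∈ PrimeSpectrum.zeroLocus (RingHom.ker γ.toRingHom) := by
    rw [← PrimeSpectrum.closure_range_comap]
    refine closure_mono hrange ?_
    have h3 : (show ↥(specOver str C).left from 𝔭) ∈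
        Points.ofPt aC ⁻¹' closure (Set.range (Points.map h)) := by
      rw [hd.closure_range]
      trivial
    rwa [(isOpenMap_ofPt aC haC).preimage_closure_eq_closure_preimage
      (Points.continuous_ofPt aC)] at h3
  have : 𝔭.asIdeal.IsPrime := 𝔭.isPrime
  obtain ⟨𝔭₀, h𝔭₀, hle⟩ := Ideal.exists_minimalPrimes_le (J := 𝔭.asIdeal) hmem
  obtain ⟨Q, hQ, -, hQc⟩ := Ideal.exists_comap_eq_of_mem_minimalPrimes (I := (⊥ : Ideal D))
    γ.toRingHom 𝔭₀ (by rwa [← RingHom.ker_eq_comap_bot])
  -- the valuation ring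
  let θ₀ : C →+* Q.ResidueField := (algebraMap D Q.ResidueField).comp γ.toRingHom
  have hθ : ∀ s : 𝔭.asIdeal.primeCompl, IsUnit (θ₀ s) := fun s => IsUnit.mk0 _ fun h0 => s.2 (hle (by
    rw [← hQc]
    exact Ideal.algebraMap_residueField_eq_zero (I := Q) (x := γ s) |>.1 h0))
  have hgu : ∀ s : 𝔭.asIdeal.primeCompl, IsUnit (g.toRingHom s) := fun s => IsUnit.mk0 _ fun h0 => s.2 h0
  let O := Localization.AtPrime 𝔭.asIdeal
  let θ : O →+* Q.ResidueField := IsLocalization.lift hθ
  let g' : O →+* Ω := IsLocalization.lift hgu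
  have : IsLocalHom g' := ⟨fun o ho => by
    obtain ⟨⟨x, s⟩, hxs⟩ := IsLocalization.surj 𝔭.asIdeal.primeCompl o
    have h4 := congrArg g' hxs
    rw [map_mul, IsLocalization.lift_eq, IsLocalization.lift_eq] at h4
    have hx : IsUnit (g.toRingHom x) := h4 ▸ ho.mul (hgu s)
    have hx' : IsUnit (algebraMap C O x) :=
      (IsLocalization.AtPrime.isUnit_to_map_iff O 𝔭.asIdeal x).2 hx.ne_zero
    rw [← hxs] at hx'
    exact (IsUnit.mul_iff.1 hx').1⟩
  obtain ⟨L, _, ι, R, hmemR, π', -, hπ'⟩ := exists_valuation_residue_ext θ g'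
  let ι₀ : D →+* L := ι.comp (algebraMap D Q.ResidueField)
  algebraize [(ι₀.comp (algebraMap B D))]
  have hBR : ∀ b, algebraMap B L b ∈ R := fun b => by
    have e : algebraMap B L b = ι (θ (algebraMap C O (algebraMap B C b))) := by
      rw [IsLocalization.lift_eq]
      show ι (algebraMap D Q.ResidueField (algebraMap B D b)) = ι (θ₀ _)
      exact congrArg (fun z => ι (algebraMap D Q.ResidueField z)) (γ.commutes b).symm
    exact e ▸ hmemR _
  let _ : Algebra B R := ((algebraMap B L).codRestrict R.toSubring hBR).toAlgebra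
  have : IsScalarTower B R L := IsScalarTower.of_algebraMap_eq fun b => rfl
  let δ : D →ₐ[B] L := { ι₀ with commutes' := fun _ => rfl }
  have hCR : ∀ c, ι (θ₀ c) ∈ R := fun c => by
    have := hmemR (algebraMap C O c)
    rwa [IsLocalization.lift_eq] at this
  let ρ : C →ₐ[B] R :=
    { (ι.comp θ₀).codRestrict R.toSubring hCR with
      commutes' := fun b => Subtype.ext
        (congrArg (fun z => ι (algebraMap D Q.ResidueField z)) (γ.commutes b)) }
  have hπψ : ∀ c, π' (g c) = residue R (ρ c) := fun c => by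
    have h5 := hπ' (algebraMap C O c)
    rw [IsLocalization.lift_eq] at h5
    refine h5.trans (congrArg _ (Subtype.ext ?_))
    show ι (θ (algebraMap C O c)) = ι (θ₀ c)
    rw [IsLocalization.lift_eq]
  let π : Ω →ₐ[B] ResidueField R :=
    { π' with
      commutes' := fun b => (congrArg π' (g.commutes b).symm).trans
        ((hπψ (algebraMap B C b)).trans (congrArg (residue R) (ρ.commutes b))) }
  refine ⟨L, inferInstance, inferInstance, R, inferInstance, inferInstance, π.comp ψ,
    (yon S).map (specMap str ρ) ≫ aC,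
    (yon S).map (specMap str δ) ≫ bD ≫ pullback.fst h aC, ?_, ?_, ?_⟩
  · rw [Category.assoc, hi', ← Functor.map_comp, specMap_comp_specHom]
  · rw [Category.assoc, Category.assoc, sqW.w, ← reassoc_of% hk, ← Functor.map_comp_assoc,
      ← Functor.map_comp_assoc, ← specMap_comp, ← specMap_comp]
    rfl
  · rw [specMap_comp, Functor.map_comp, Category.assoc, ← htC, hg, ← Functor.map_comp_assoc,
      ← Functor.map_comp_assoc, ← specMap_comp, ← specMap_comp]
    refine congrArg (fun f => (yon S).map (specMap str f) ≫ aC) (AlgHom.ext fun c => ?_)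
    exact hπψ c

end Groth.Agent.AlgSpLib
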