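import Groth.Agent.AlgSpLib.ValuativeDVR

/-!
The existence part of the valuative criterion needs only finite separable extensions.
-/

universe u

open CategoryTheory CategoryTheory.Limits AlgebraicGeometry AlgSp IsLocalRing Topology

set_option backward.isDefEq.respectTransparency.types false

namespace Groth.Agent.AlgSpLib

variable {S : Scheme.{u}} {P : Sp S}

/-- an affine etale chart through a given point, over an affine base -/
theorem exists_chart_over_affine (hP : IsAlgSpace P) {B : Type u} [CommRing B]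
    {str : Spec (CommRingCat.of B) ⟶ S} (p : P ⟶ (yon S).obj (Over.mk str)) (y : Points P) :
    ∃ (C : Type u) (_ : CommRing C) (_ : Algebra B C) (aC : (yon S).obj (specOver str C) ⟶ P)
      (u : ↥(specOver str C).left),
      aC ≫ p = (yon S).map (specHom str C) ∧ RepWith @Etale aC ∧ Points.ofPt aC u = y := by
  obtain ⟨U₀, a, hae, has⟩ := hP.atlas
  obtain ⟨u₀, hu₀⟩ := surjective_ofPt a has y
  obtain ⟨_, ⟨W₀, hW₀, rfl⟩, hu₀W, -⟩ :=
    U₀.left.isBasis_affineOpens.exists_subset_of_mem_open (Set.mem_univ u₀) isOpen_univ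
  let W₀ : U₀.left.Opens := W₀
  let W : Over S := Over.mk (W₀.ι ≫ U₀.hom)
  let iW : W ⟶ U₀ := Over.homMk W₀.ι rfl
  have : IsAffine W.left := hW₀
  obtain ⟨C, _, _, i, hi⟩ := exists_specOver_model str p W ((yon S).map iW ≫ a)
  have : IsIso i.hom.left := inferInstanceAs (IsIso ((Over.forget S).map i.hom))
  refine ⟨C, inferInstance, inferInstance, (yon S).map i.hom ≫ (yon S).map iW ≫ a,
    i.inv.left ⟨u₀, hu₀W⟩, hi, RepWith.comp ((repWith_yon_map_iff @Etale i.hom).2 inferInstance)
      (RepWith.comp ((repWith_yon_map_iff @Etale iW).2 (inferInstance : Etale W₀.ι)) hae), ?_⟩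
  rw [ofPt_map, ofPt_map, show i.hom.left (i.inv.left ⟨u₀, hu₀W⟩) = ⟨u₀, hu₀W⟩ from by
    show (i.inv ≫ i.hom).left ⟨u₀, hu₀W⟩ = _
    rw [i.inv_hom_id]; rfl]
  exact hu₀

/-- from a lift over an arbitrary extension, a chart with a generization over the given point -/
theorem exists_chart_generization_of_lift (hP : IsAlgSpace P) {A K A' K' : Type u} [CommRing A]
    [IsDomain A] [ValuationRing A] [Field K] [Algebra A K] [CommRing A'] [IsDomain A']
    [ValuationRing A'] [Field K'] [Algebra A' K'] (φ : A →+* A') [IsLocalHom φ]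
    {str : Spec (CommRingCat.of A) ⟶ S} {t : Spec (CommRingCat.of A') ⟶ S}
    (p : P ⟶ (yon S).obj (Over.mk str)) (σ : (yon S).obj (specOver str K) ⟶ P)
    (l : (yon S).obj (Over.mk t) ⟶ P) (jφ : Over.mk t ⟶ Over.mk str)
    (hjφ : jφ.left = Spec.map (CommRingCat.ofHom φ)) (hl : l ≫ p = (yon S).map jφ)
    (jψ : Over.mk (Spec.map (CommRingCat.ofHom (algebraMap A' K')) ≫ t) ⟶ specOver str K)
    (h1 : (yon S).map (Over.homMk (Spec.map (CommRingCat.ofHom (algebraMap A' K'))) rfl :
      Over.mk (Spec.map (CommRingCat.ofHom (algebraMap A' K')) ≫ t) ⟶ Over.mk t) ≫ l =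
      (yon S).map jψ ≫ σ) :
    ∃ (C : Type u) (_ : CommRing C) (_ : Algebra A C) (aC : (yon S).obj (specOver str C) ⟶ P)
      (u' u : ↥(specOver str C).left),
      aC ≫ p = (yon S).map (specHom str C) ∧ RepWith @Etale aC ∧
      Points.ofPt aC u' = ptOfHom σ ∧ u' ⤳ u ∧ (specHom str C).left u = closedPoint A := by
  obtain ⟨C, _, _, aC, u, hi, haC, hu⟩ := exists_chart_over_affine hP p (Points.ofPt l (closedPoint A'))
  have hr := hP.representable_from_yon aC
  have sq := hr.isPullback l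
  obtain ⟨f, hf⟩ := (yon S).map_surjective (hr.fst l)
  rw [← hf] at sq
  have he : Etale (hr.snd l).left := haC.property_snd l
  obtain ⟨e, he1, he2⟩ := (ofPt_eq_ofPt_iff sq u (closedPoint A')).1 hu
  let η : ↥(Over.mk t).left := Spec.map (CommRingCat.ofHom (algebraMap A' K')) (closedPoint K')
  have hη : η ⤳ (hr.snd l).left e := he2 ▸ specializes_closedPoint η
  obtain ⟨e', he', he'2⟩ := Flat.generalizingMap (hr.snd l).left hη
  refine ⟨C, inferInstance, inferInstance, aC, f.left e', u, hi, haC, ?_, ?_, ?_⟩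
  · rw [← ofPt_map, sq.w, ofPt_map, he'2]
    show Points.ofPt l ((Over.homMk (Spec.map (CommRingCat.ofHom (algebraMap A' K'))) rfl :
      Over.mk (Spec.map (CommRingCat.ofHom (algebraMap A' K')) ≫ t) ⟶ Over.mk t).left
        (closedPoint K')) = _
    rw [← ofPt_map, h1, ofPt_eq_of_field]
    exact ptOfHom_map σ _
  · exact he1 ▸ he'.map f.left.continuous
  · refine (Points.schemeEquiv _).injective ?_
    have h3 : Points.map p (Points.ofPt l (closedPoint A')) =
        Points.ofScheme (Over.mk str) (closedPoint A) := by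
      rw [Points.map_ofPt, hl, Points.ofPt_eq_map_ofScheme, map_yon_map_ofScheme, hjφ]
      exact congrArg _ (IsLocalRing.comap_closedPoint φ)
    refine Eq.trans ?_ h3
    rw [← hu, Points.map_ofPt, hi, Points.ofPt_eq_map_ofScheme, map_yon_map_ofScheme]
    rfl

/-- the existence part with finite separable extensions -/
theorem exists_finite_separable_of_existVC {X Y : Sp S} (hX : IsAlgSpace X) (hY : IsAlgSpace Y)
    {f : X ⟶ Y} (hv : ExistVC f) (sq : ValSq f) :
    ∃ e : sq.DomExt, (letI := e.ψ.toAlgebra; Module.Finite sq.K e.K' ∧ Algebra.IsSeparable sq.K e.K') ∧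
      e.HasLift := by
  have sqP := IsPullback.of_hasPullback f sq.bot
  have hP := isAlgSpace_of_isPullback hY.diag hX (IsAlgSpace.yon_obj _) sqP
  obtain ⟨σ, hσ₁, hσ₂⟩ := sqP.exists_lift sq.top ((yon S).map sq.j) sq.comm
  obtain ⟨e, l₀, h1, h2⟩ := hv sq
  obtain ⟨l, hl1, hl2⟩ := sqP.exists_lift l₀ ((yon S).map (Over.homMk
    (Spec.map (CommRingCat.ofHom e.φ)) rfl : e.ptA' ⟶ sq.ptA))
    (h2.trans rfl)
  have hK : (yon S).map (Over.homMk (Spec.map (CommRingCat.ofHom (algebraMap e.A' e.K'))) rfl :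
      e.ptK' ⟶ e.ptA') ≫ l = (yon S).map (Over.homMk (Spec.map (CommRingCat.ofHom e.ψ))
        (psi_w sq.str e.comm) : e.ptK' ⟶ sq.ptK) ≫ σ := by
    refine sqP.hom_ext ?_ ?_
    · rw [Category.assoc, hl1, Category.assoc, hσ₁]
      exact h1
    · rw [Category.assoc, hl2, Category.assoc, hσ₂, ← Functor.map_comp, ← Functor.map_comp]
      refine congrArg _ (Over.OverMorphism.ext ?_)
      show Spec.map _ ≫ Spec.map _ = Spec.map _ ≫ Spec.map _
      rw [← Spec.map_comp, ← Spec.map_comp, ← CommRingCat.ofHom_comp, ← CommRingCat.ofHom_comp,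
        e.comm]
  have := e.isLocalHom
  obtain ⟨C, _, _, aC, u', u, hi, haC, hu', hsp, hu⟩ :=
    exists_chart_generization_of_lift hP e.φ _ σ l _ rfl hl2 _ hK
  obtain ⟨Ω, _, _, _, _, A', _, _, m, hfin, hsep, hloc, hm, hmK⟩ :=
    exists_finite_separable_lift hP _ σ hσ₂ aC hi haC hu' hsp hu
  obtain ⟨e', -, he'⟩ := exists_domExt_of_lift sq sqP.w hσ₁ Ω A' m hfin hsep hloc hm hmK
  exact ⟨e', he'⟩

end Groth.Agent.AlgSpLib
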