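import Groth.Agent.SDiv28.WeakDense
import Groth.Agent.SDiv28.WeakAssUnit
import Groth.Agent.AlgSpLib.EffCartierSub
import Groth.Prelude.Def_AlgSpModX

/-!
Weakly associated points of the structure sheaf on a scheme chart give weakly associated points of
an algebraic space.
-/

universe u

open CategoryTheory CategoryTheory.Limits AlgebraicGeometry Opposite
open AlgSp Groth.Agent.AssSch12

noncomputable section

namespace Groth.Agent.AlgSpLib

set_option backward.isDefEq.respectTransparency.types false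

variable {S : Scheme.{u}} {X : Sp S}

theorem isWeakAssOn_of_isWeakAssPoint {T : Scheme.{u}} (W : T.Opens) (hW : IsAffineOpen W) {y : T} (hy : y ∈ W)
    (h : Curv2.IsWeakAssPoint (Coh.structureModule T) y) :
    ∃ r : Γ(W.toScheme, ⊤),
      primeAtPt W.toScheme (⟨y, hy⟩ : W.toScheme) ∈ (Submodule.span Γ(W.toScheme, ⊤) {r}).annihilator.minimalPrimes := by
  obtain ⟨m, hm⟩ := (SDiv28.isWeakAssPoint_structureModule_iff_affine hW hy).1 h
  let f : Γ(W.toScheme, ⊤) →+* Γ(T, W) := W.topIso.hom.hom
  have hf : Function.Surjective f := W.topIso.commRingCatIsoToRingEquiv.surjective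
  have hinj : Function.Injective f := W.topIso.commRingCatIsoToRingEquiv.injective
  obtain ⟨r, rfl⟩ := hf m
  refine ⟨r, ?_⟩
  have e1 : (Submodule.span Γ(W.toScheme, ⊤) {r}).annihilator =
      (Submodule.span Γ(T, W) ({f r} : Set Γ(T, W))).annihilator.comap f := by
    ext a
    rw [Ideal.mem_comap, Submodule.mem_annihilator_span_singleton, Submodule.mem_annihilator_span_singleton]
    show a * r = 0 ↔ f a * f r = 0
    rw [← map_mul, map_eq_zero_iff f hinj]
  have e2 : primeAtPt W.toScheme (⟨y, hy⟩ : W.toScheme) = (primeAt hW hy).comap f := by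
    ext a
    rw [Ideal.mem_comap, mem_primeAt_iff]
    show _ ∈ IsLocalRing.maximalIdeal _ ↔ _
    rw [IsLocalRing.mem_maximalIdeal, mem_nonunits_iff, ← Scheme.mem_basicOpen, not_iff_not]
    refine (Scheme.Opens.mem_basicOpen_toScheme (U := W) (r := a)).trans ?_
    show _ ↔ y ∈ T.basicOpen (T.presheaf.map (eqToHom W.ι_image_top.symm).op a)
    rw [Scheme.basicOpen_res_eq]
    rfl
  rw [e1, e2]
  exact Ideal.minimalPrimes_comap_of_surjective hf hm

/-- a weakly associated point of the structure sheaf of an etale chart maps to a weakly associated point -/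
theorem ofPt_mem_weakAssEt {V : Over S} {p : (yon S).obj V ⟶ X} (hp : RepWith @Etale p) {y : V.left}
    (h : Curv2.IsWeakAssPoint (Coh.structureModule V.left) y) :
    Points.ofPt p y ∈ WeakAssEt (unitModEt X) := by
  obtain ⟨_, ⟨W₀, hW, rfl⟩, hy, -⟩ := V.left.isBasis_affineOpens.exists_subset_of_mem_open (Set.mem_univ y) isOpen_univ
  let W : V.left.Opens := W₀
  let ι : Over.mk (W.ι ≫ V.hom) ⟶ V := Over.homMk W.ι
  have he : RepWith @Etale ((yon S).map ι ≫ p) :=
    RepWith.comp ((repWith_yon_map_iff _ ι).2 (inferInstanceAs (Etale W.ι))) hp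
  let E : EtOver X := EtOver.mk ((yon S).map ι ≫ p) he
  have hE : IsAffine E.obj.left.left := hW
  let u : E.obj.left.left := (⟨y, hy⟩ : W.toScheme)
  obtain ⟨r, hr⟩ : ∃ r : Γ(E.obj.left.left, ⊤), primeAtPt E.obj.left.left u ∈
      (Submodule.span Γ(E.obj.left.left, ⊤) {r}).annihilator.minimalPrimes :=
    isWeakAssOn_of_isWeakAssPoint W hW hy h
  refine ⟨E, hE, u, ?_, upΓ E r, ?_⟩
  · show Points.ofPt ((yon S).map ι ≫ p) (⟨y, hy⟩ : W.toScheme) = _
    rw [ofPt_map]
    rfl
  · suffices annSect (M := unitModEt X) (upΓ E r) = (Submodule.span Γ(E.obj.left.left, ⊤) {r}).annihilator by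
      rw [this]; exact hr
    ext a
    rw [mem_annSect_iff, Submodule.mem_annihilator_span_singleton]
    show upΓ E a * upΓ E r = 0 ↔ a * r = 0
    exact (iff_of_eq (congrArg (· = 0) (map_mul (upΓ E) a r).symm)).trans
      (map_eq_zero_iff (upΓ E) ULift.ringEquiv.symm.injective)

end Groth.Agent.AlgSpLib
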